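import Mathlib

/-!
Thompson transfer: parity count of fixed cosets of an involution (helper11 library).
-/

set_option autoImplicit false

namespace Cfsg.Agent.Lib.Helper11

open MulAction

/-- A point fixed by the acting group is the chosen representative of its orbit. -/
theorem out_mk_of_fixed {K Ω : Type*} [Group K] [MulAction K Ω] (c : Ω) (hc : ∀ k : K, k • c = c) :
    (Quotient.out (Quotient.mk (orbitRel K Ω) c) : Ω) = c := by
  have h := Quotient.exact (Quotient.out_eq (Quotient.mk (orbitRel K Ω) c))
  have h' : Quotient.out (Quotient.mk (orbitRel K Ω) c) ∈ orbit K c := h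
  obtain ⟨k, hk⟩ := h'
  rw [← hk]; exact hc k

theorem map_mk_congr {G : Type*} [Group G] {S : Subgroup G} {A : Type*} [CommGroup A] (ϕ : S →* A)
    {a b : G} (hab : a = b) (ha : a ∈ S) (hb : b ∈ S) : ϕ ⟨a, ha⟩ = ϕ ⟨b, hb⟩ := by
  subst hab; rfl

/-- **Thompson transfer, counting form.** Let `S` have odd index in the finite group `G`, let
`ϕ : S →* A` be a homomorphism to a commutative group with at most one involution, and let `y ∈ S` be
an involution with `ϕ y ≠ 1` whose transfer is trivial. Then the number of cosets `c = xS` fixed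
by `y` with `ϕ (x⁻¹ y x) = 1` is odd. -/
theorem odd_card_fixed_in_ker {G : Type*} [Group G] [Finite G] (S : Subgroup G) (hSodd : ¬ 2 ∣ S.index)
    {A : Type*} [CommGroup A] (ϕ : S →* A)
    (huniq : ∀ a b : A, a ^ 2 = 1 → b ^ 2 = 1 → a ≠ 1 → b ≠ 1 → a = b)
    (y : G) (hy : orderOf y = 2) (hyS : y ∈ S) (hyT : ϕ ⟨y, hyS⟩ ≠ 1)
    (htr : MonoidHom.transfer ϕ y = 1) :
    Odd (Nat.card {c : G ⧸ S // y • c = c ∧
      ∃ h : (Quotient.out c)⁻¹ * y * Quotient.out c ∈ S, ϕ ⟨_, h⟩ = 1}) := by
  classical
  have hy2 : y ^ 2 = 1 := by rw [← hy]; exact pow_orderOf_eq_one y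
  haveI : Fintype (G ⧸ S) := Fintype.ofFinite _
  haveI : Fintype (Quotient (orbitRel (Subgroup.zpowers y) (G ⧸ S))) := Fintype.ofFinite _
  have hn : ∀ q : Quotient (orbitRel (Subgroup.zpowers y) (G ⧸ S)),
      Function.minimalPeriod (fun x => y • x) q.out = 1 ∨
      Function.minimalPeriod (fun x => y • x) q.out = 2 := by
    intro q
    have : Function.minimalPeriod (fun x => y • x) q.out ∣ 2 := by
      apply Function.IsPeriodicPt.minimalPeriod_dvd
      show (fun x => y • x)^[2] q.out = q.out
      simp only [Function.iterate_succ, Function.iterate_zero, Function.comp, id]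
      rw [smul_smul, ← pow_two, hy2, one_smul]
    rcases (Nat.dvd_prime Nat.prime_two).mp this with h | h
    · left; exact h
    · right; exact h
  have hformula := MonoidHom.transfer_eq_prod_quotient_orbitRel_zpowers_quot ϕ y
  rw [htr] at hformula
  set term : Quotient (orbitRel (Subgroup.zpowers y) (G ⧸ S)) → A := fun q =>
    ϕ ⟨_, QuotientGroup.out_conj_pow_minimalPeriod_mem S y q.out⟩ with hterm_def
  have hprod : ∏ q, term q = 1 := hformula.symm
  set τ := ϕ ⟨y, hyS⟩ with hτ
  have hτ2 : τ ^ 2 = 1 := by
    rw [hτ, ← map_pow]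
    have : (⟨y, hyS⟩ : S) ^ 2 = 1 := Subtype.ext (by simp [hy2])
    rw [this, map_one]
  have hconj2 : ∀ (x w : G), w * w = 1 → x⁻¹ * w * x * (x⁻¹ * w * x) = 1 := by
    intro x w hw
    calc x⁻¹ * w * x * (x⁻¹ * w * x) = x⁻¹ * (w * w) * x := by group
      _ = 1 := by rw [hw]; group
  have hterm2 : ∀ q, term q ^ 2 = 1 := by
    intro q
    show ϕ _ ^ 2 = 1
    rw [← map_pow]
    have : (⟨_, QuotientGroup.out_conj_pow_minimalPeriod_mem S y q.out⟩ : S) ^ 2 = 1 := by
      apply Subtype.ext
      simp only [Subgroup.coe_pow, Subgroup.coe_one]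
      rw [pow_two]
      apply hconj2
      rw [← pow_add, ← two_mul, pow_mul, hy2, one_pow]
    rw [this, map_one]
  have hterm : ∀ q, term q = 1 ∨ term q = τ := by
    intro q
    by_cases h : term q = 1
    · left; exact h
    · right; exact huniq _ _ (hterm2 q) hτ2 h hyT
  have hterm_of_two : ∀ q, Function.minimalPeriod (fun x => y • x) q.out = 2 → term q = 1 := by
    intro q hq
    show ϕ _ = 1
    have : (⟨_, QuotientGroup.out_conj_pow_minimalPeriod_mem S y q.out⟩ : S) = 1 := by
      apply Subtype.ext
      show (Quotient.out q.out)⁻¹ * y ^ Function.minimalPeriod (fun x => y • x) q.out *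
        Quotient.out q.out = 1
      rw [hq, hy2]; group
    rw [this, map_one]
  -- parity of the number of nontrivial terms
  have hev : Even (Finset.univ.filter (fun q => term q ≠ 1)).card := by
    have h1 : ∏ q, term q = τ ^ (Finset.univ.filter (fun q => term q ≠ 1)).card := by
      rw [Finset.card_filter, ← Finset.prod_pow_eq_pow_sum]
      apply Finset.prod_congr rfl
      intro q _
      by_cases h1 : term q = 1
      · simp [h1]
      · rcases hterm q with h | h
        · exact absurd h h1
        · simp [h1, h]
    rw [hprod] at h1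
    have : Fact (Nat.Prime 2) := ⟨Nat.prime_two⟩
    have hord : orderOf τ = 2 := orderOf_eq_prime hτ2 hyT
    have := orderOf_dvd_of_pow_eq_one h1.symm
    rw [hord] at this
    exact even_iff_two_dvd.mpr this
  -- parity of the number of fixed orbits
  have hodd : Odd (Finset.univ.filter
      (fun q : Quotient (orbitRel (Subgroup.zpowers y) (G ⧸ S)) =>
        Function.minimalPeriod (fun x => y • x) q.out = 1)).card := by
    have hidx := Subgroup.index_eq_sum_minimalPeriod S y
    have h2 : ∑ q : Quotient (orbitRel (Subgroup.zpowers y) (G ⧸ S)),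
        Function.minimalPeriod (fun x => y • x) q.out =
        (Finset.univ.filter (fun q : Quotient (orbitRel (Subgroup.zpowers y) (G ⧸ S)) =>
          Function.minimalPeriod (fun x => y • x) q.out = 1)).card +
        2 * (Finset.univ.filter (fun q : Quotient (orbitRel (Subgroup.zpowers y) (G ⧸ S)) =>
          ¬ Function.minimalPeriod (fun x => y • x) q.out = 1)).card := by
      rw [← Finset.sum_filter_add_sum_filter_not Finset.univ
        (fun q : Quotient (orbitRel (Subgroup.zpowers y) (G ⧸ S)) =>
          Function.minimalPeriod (fun x => y • x) q.out = 1)]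
      congr 1
      · rw [Finset.card_eq_sum_ones]
        apply Finset.sum_congr rfl
        intro q hq
        exact (Finset.mem_filter.mp hq).2
      · rw [Finset.card_eq_sum_ones, Finset.mul_sum]
        apply Finset.sum_congr rfl
        intro q hq
        have := (Finset.mem_filter.mp hq).2
        rcases hn q with h | h
        · exact absurd h this
        · rw [h, mul_one]
    rw [h2] at hidx
    rw [Nat.odd_iff]
    omega
  have hgood : Odd (Finset.univ.filter
      (fun q : Quotient (orbitRel (Subgroup.zpowers y) (G ⧸ S)) =>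
        Function.minimalPeriod (fun x => y • x) q.out = 1 ∧ term q = 1)).card := by
    have h3 := Finset.card_filter_add_card_filter_not (s := Finset.univ.filter
      (fun q : Quotient (orbitRel (Subgroup.zpowers y) (G ⧸ S)) =>
        Function.minimalPeriod (fun x => y • x) q.out = 1)) (fun q => term q = 1)
    rw [Finset.filter_filter, Finset.filter_filter] at h3
    have h4 : Finset.univ.filter (fun q : Quotient (orbitRel (Subgroup.zpowers y) (G ⧸ S)) =>
        Function.minimalPeriod (fun x => y • x) q.out = 1 ∧ ¬ term q = 1) =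
        Finset.univ.filter (fun q => term q ≠ 1) := by
      ext q
      simp only [Finset.mem_filter, Finset.mem_univ, true_and, ne_eq]
      constructor
      · exact fun h => h.2
      · intro h
        refine ⟨?_, h⟩
        rcases hn q with h1 | h1
        · exact h1
        · exact absurd (hterm_of_two q h1) h
    rw [h4] at h3
    rw [Nat.odd_iff] at hodd ⊢
    rw [Nat.even_iff] at hev
    omega
  -- transport to the cosets
  rw [Nat.card_eq_fintype_card, Fintype.card_subtype]
  have hcard : (Finset.univ.filter (fun q : Quotient (orbitRel (Subgroup.zpowers y) (G ⧸ S)) =>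
        Function.minimalPeriod (fun x => y • x) q.out = 1 ∧ term q = 1)).card =
      (Finset.univ.filter (fun c : G ⧸ S => y • c = c ∧
        ∃ h : (Quotient.out c)⁻¹ * y * Quotient.out c ∈ S, ϕ ⟨_, h⟩ = 1)).card := by
    apply Finset.card_bij (fun q _ => q.out)
    · intro q hq
      obtain ⟨hq1, hq2⟩ := (Finset.mem_filter.mp hq).2
      rw [Finset.mem_filter]
      refine ⟨Finset.mem_univ _, Function.minimalPeriod_eq_one_iff_isFixedPt.mp hq1, ?_⟩
      have hval : (Quotient.out q.out)⁻¹ * y ^ Function.minimalPeriod (fun x => y • x) q.out *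
          Quotient.out q.out = (Quotient.out q.out)⁻¹ * y * Quotient.out q.out := by
        rw [hq1, pow_one]
      have hmem := QuotientGroup.out_conj_pow_minimalPeriod_mem S y q.out
      refine ⟨hval ▸ hmem, ?_⟩
      rw [← hq2]
      exact map_mk_congr ϕ hval.symm _ _
    · intro q _ q' _ h
      exact Quotient.out_injective h
    · intro c hc
      obtain ⟨hc1, hmem, hc2⟩ := (Finset.mem_filter.mp hc).2
      have hfix : ∀ k : ↥(Subgroup.zpowers y), k • c = c := by
        rintro ⟨k, hk⟩
        have hle : Subgroup.zpowers y ≤ stabilizer G c := by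
          rw [Subgroup.zpowers_le]; exact hc1
        have : k • c = c := hle hk
        exact this
      have hout : (Quotient.out (Quotient.mk (orbitRel (Subgroup.zpowers y) (G ⧸ S)) c) : G ⧸ S) = c :=
        out_mk_of_fixed c hfix
      refine ⟨Quotient.mk _ c, ?_, hout⟩
      rw [Finset.mem_filter]
      have hper : Function.minimalPeriod (fun x => y • x)
          (Quotient.out (Quotient.mk (orbitRel (Subgroup.zpowers y) (G ⧸ S)) c)) = 1 := by
        rw [hout]
        exact Function.minimalPeriod_eq_one_iff_isFixedPt.mpr hc1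
      refine ⟨Finset.mem_univ _, hper, ?_⟩
      rw [← hc2]
      apply map_mk_congr
      rw [hper, pow_one, hout]
  rw [← hcard]
  exact hgood

end Cfsg.Agent.Lib.Helper11
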