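import Mathlib
import Cfsg.Prelude.Def_Transfer
import Cfsg.Agent.Lib.Helper8.Layer
import Cfsg.Agent.Lib.Helper4.Basic

/-!
Elementary abelian `p`-subgroups: a hyperplane avoiding a given non-identity element
(helper11 library).
-/

set_option autoImplicit false

namespace Cfsg.Agent.Lib.Helper11

variable {H : Type*} [Group H]

/-- In a cyclic group of prime order every non-identity element generates. -/
theorem mem_zpowers_of_mem_zpowers_prime [Finite H] {p : ℕ} (hp : p.Prime) {a x : H}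
    (ha : a ^ p = 1) (hx : x ∈ Subgroup.zpowers a) (hx1 : x ≠ 1) : a ∈ Subgroup.zpowers x := by
  haveI : Fact p.Prime := ⟨hp⟩
  have ha1 : a ≠ 1 := by
    rintro rfl
    rw [Subgroup.zpowers_one_eq_bot, Subgroup.mem_bot] at hx
    exact hx1 hx
  have hoa : orderOf a = p := orderOf_eq_prime ha ha1
  have hdvd : orderOf x ∣ orderOf a := orderOf_dvd_of_mem_zpowers hx
  have hox : orderOf x = p := by
    rw [hoa] at hdvd
    rcases (Nat.dvd_prime hp).mp hdvd with h | h
    · exact absurd (orderOf_eq_one_iff.mp h) hx1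
    · exact h
  have hle : Subgroup.zpowers x ≤ Subgroup.zpowers a := Subgroup.zpowers_le.mpr hx
  have heq : Subgroup.zpowers x = Subgroup.zpowers a := by
    apply Subgroup.eq_of_le_of_card_ge hle
    rw [Nat.card_zpowers, Nat.card_zpowers, hoa, hox]
  rw [heq]
  exact Subgroup.mem_zpowers a

/-- Elements of a commutative subgroup commute. -/
theorem commute_of_mem_of_isMulCommutative {A : Subgroup H} (hA : IsMulCommutative ↥A) {u v : H}
    (hu : u ∈ A) (hv : v ∈ A) : u * v = v * u := by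
  have := hA.is_comm.comm (⟨u, hu⟩ : ↥A) ⟨v, hv⟩
  exact congrArg Subtype.val this

/-- A hyperplane of an elementary abelian `p`-subgroup avoiding a given non-identity element. -/
theorem exists_hyperplane_not_mem [Finite H] {p : ℕ} (hp : p.Prime) {A : Subgroup H}
    (hA : Cfsg.IsElementaryAbelian p A) {a : H} (haA : a ∈ A) (ha1 : a ≠ 1) :
    ∃ A₁ : Subgroup H, A₁ ≤ A ∧ a ∉ A₁ ∧ A₁ ⊔ Subgroup.zpowers a = A ∧
      A₁ ⊓ Subgroup.zpowers a = ⊥ ∧ Nat.card A = Nat.card A₁ * p := by
  classical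
  haveI : Fact p.Prime := ⟨hp⟩
  obtain ⟨hAc, hAp⟩ := hA
  let S : Set (Subgroup H) := {L | L ≤ A ∧ a ∉ L}
  have hSne : S.Nonempty := ⟨⊥, bot_le, fun h => ha1 (Subgroup.mem_bot.mp h)⟩
  obtain ⟨A₁, ⟨hA₁A, haA₁⟩, hmax⟩ := (wellFounded_gt (α := Subgroup H)).has_min S hSne
  have hzA : Subgroup.zpowers a ≤ A := Subgroup.zpowers_le.mpr haA
  have hinf : A₁ ⊓ Subgroup.zpowers a = ⊥ := by
    rw [eq_bot_iff]
    intro x hx
    obtain ⟨hx1, hx2⟩ := Subgroup.mem_inf.mp hx
    rw [Subgroup.mem_bot]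
    by_contra hne
    have := mem_zpowers_of_mem_zpowers_prime hp (hAp a haA) hx2 hne
    exact haA₁ (Subgroup.zpowers_le.mpr hx1 this)
  have hsup : A₁ ⊔ Subgroup.zpowers a = A := by
    apply le_antisymm (sup_le hA₁A hzA)
    intro b hb
    by_contra hbn
    have hbA₁ : b ∉ A₁ := fun h => hbn (Subgroup.mem_sup_left h)
    have hLA : A₁ ⊔ Subgroup.zpowers b ≤ A := sup_le hA₁A (Subgroup.zpowers_le.mpr hb)
    have hlt : A₁ < A₁ ⊔ Subgroup.zpowers b := by
      refine lt_of_le_of_ne le_sup_left ?_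
      intro he
      apply hbA₁
      rw [he]
      exact Subgroup.mem_sup_right (Subgroup.mem_zpowers b)
    have haL : a ∈ A₁ ⊔ Subgroup.zpowers b := by
      by_contra haL
      exact hmax _ ⟨hLA, haL⟩ hlt
    have hcomm : ∀ y ∈ A₁, ∀ z ∈ Subgroup.zpowers b, y * z = z * y := by
      intro y hy z hz
      exact commute_of_mem_of_isMulCommutative hAc (hA₁A hy) (Subgroup.zpowers_le.mpr hb hz)
    obtain ⟨y, hy, z, hz, hyz⟩ := Cfsg.Agent.Lib.Helper8.mem_sup_of_commute hcomm haL
    by_cases hz1 : z = 1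
    · rw [hz1, mul_one] at hyz
      rw [hyz] at haA₁
      exact haA₁ hy
    · have hbz := mem_zpowers_of_mem_zpowers_prime hp (hAp b hb) hz hz1
      have hzsup : z ∈ A₁ ⊔ Subgroup.zpowers a := by
        have : z = y⁻¹ * a := by rw [hyz]; group
        rw [this]
        exact Subgroup.mul_mem _ (Subgroup.mem_sup_left (A₁.inv_mem hy))
          (Subgroup.mem_sup_right (Subgroup.mem_zpowers a))
      exact hbn (Subgroup.zpowers_le.mpr hzsup hbz)
  refine ⟨A₁, hA₁A, haA₁, hsup, hinf, ?_⟩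
  have hnorm : A₁ ≤ Subgroup.normalizer (Subgroup.zpowers a : Set H) := by
    intro y hy
    apply (Subgroup.centralizer_le_normalizer (Subgroup.zpowers a : Set H))
    rw [Subgroup.mem_centralizer_iff]
    intro z hz
    exact commute_of_mem_of_isMulCommutative hAc (hzA hz) (hA₁A hy)
  have h := Cfsg.Agent.Lib.Helper4.card_sup_mul_card_inf A₁ (Subgroup.zpowers a) hnorm
  rw [hsup, hinf, Subgroup.card_bot, mul_one, Nat.card_zpowers, orderOf_eq_prime (hAp a haA) ha1] at h
  exact h

end Cfsg.Agent.Lib.Helper11
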