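import Mathlib
import Cfsg.Agent.Lib.Helper9.Cyclic

set_option autoImplicit false

namespace Cfsg.Agent.Lib.Helper11

open MulAction
open scoped Pointwise

/-- If every orbit has size divisible by `n`, so does the whole set. -/
theorem dvd_card_of_dvd_orbits {P X : Type*} [Group P] [MulAction P X] [Finite X] (n : ℕ)
    (h : ∀ x : X, n ∣ (orbit P x).ncard) : n ∣ Nat.card X := by
  classical
  have := Fintype.ofFinite X
  let Ω := orbitRel.Quotient P X
  have : Fintype Ω := Fintype.ofFinite Ω
  have e := selfEquivSigmaOrbits' P X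
  have h1 : Nat.card X = ∑ ω : Ω, Nat.card ω.orbit := by
    rw [Nat.card_congr e, Nat.card_sigma]
  rw [h1]
  apply Finset.dvd_sum
  intro ω _
  induction ω using Quotient.inductionOn' with
  | h x =>
    rw [orbitRel.Quotient.orbit_mk, Nat.card_coe_set_eq]
    exact h x

/-- A subgroup stabilizing a finite subset of `G` under left multiplication has order dividing the
size of the subset. -/
theorem card_dvd_card_of_smul_finset_eq {G : Type*} [Group G] [DecidableEq G] (S : Subgroup G)
    [Finite S] (X : Finset G) (h : ∀ s ∈ S, s • X = X) : Nat.card S ∣ X.card := by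
  let act : MulAction S {x // x ∈ X} :=
    { smul := fun s x => ⟨(s : G) * x, by
        have h2 : (s : G) • (x : G) ∈ (s : G) • X := Finset.smul_mem_smul_finset x.2
        rw [h s s.2] at h2
        exact h2⟩
      one_smul := fun x => Subtype.ext (one_mul _)
      mul_smul := fun a b x => Subtype.ext (mul_assoc _ _ _) }
  have hsm : ∀ (s : S) (x : {x // x ∈ X}), ((s • x : {x // x ∈ X}) : G) = (s : G) * x :=
    fun _ _ => rfl
  have key : Nat.card S ∣ Nat.card {x // x ∈ X} := by
    apply dvd_card_of_dvd_orbits (P := S)
    intro x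
    rw [← index_stabilizer]
    have : stabilizer S x = ⊥ := by
      rw [eq_bot_iff]
      intro s hs
      rw [mem_stabilizer_iff] at hs
      have := congrArg Subtype.val hs
      rw [hsm] at this
      rw [Subgroup.mem_bot]
      apply Subtype.ext
      simpa using this
    rw [this, Subgroup.index_bot]
  simpa using key

section
variable {G : Type*} [Group G]

/-- The finset of elements of a subgroup. -/
noncomputable def subgroupFinset [Fintype G] (H : Subgroup G) : Finset G :=
  haveI : DecidablePred (fun g => g ∈ H) := Classical.decPred _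
  Finset.univ.filter (fun g => g ∈ H)

theorem mem_subgroupFinset [Fintype G] (H : Subgroup G) (g : G) :
    g ∈ subgroupFinset H ↔ g ∈ H := by
  simp [subgroupFinset]

theorem card_subgroupFinset [Fintype G] (H : Subgroup G) :
    (subgroupFinset H).card = Nat.card H := by
  classical
  rw [Nat.card_eq_fintype_card, Fintype.card_subtype]
  congr 1

theorem smul_subgroupFinset_eq_iff [Fintype G] [DecidableEq G] (H : Subgroup G) (g : G) :
    g • subgroupFinset H = subgroupFinset H ↔ g ∈ H := by
  constructor
  · intro h
    have h1 : g • (1 : G) ∈ g • subgroupFinset H :=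
      Finset.smul_mem_smul_finset ((mem_subgroupFinset H 1).mpr H.one_mem)
    rw [h, mem_subgroupFinset] at h1
    simpa using h1
  · intro hg
    apply Finset.eq_of_subset_of_card_le
    · intro y hy
      obtain ⟨x, hx, rfl⟩ := Finset.mem_smul_finset.mp hy
      rw [mem_subgroupFinset] at hx ⊢
      exact H.mul_mem hg hx
    · rw [Finset.card_smul_finset]

/-- Wielandt's congruence: if `|G| = p^β k`, then `C(|G|, p^β) ≡ k · #{H ≤ G : |H| = p^β}` modulo
`p k`. -/
theorem choose_modEq_mul_card_subgroups_aux [Finite G] (p β k m : ℕ) (hp : p.Prime)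
    (hm : m = p ^ β) (hG : Nat.card G = m * k) :
    (Nat.card G).choose m ≡
      k * Nat.card {H : Subgroup G // Nat.card H = m} [MOD p * k] := by
  classical
  have := Fintype.ofFinite G
  have hk : 0 < k := by
    rcases Nat.eq_zero_or_pos k with h | h
    · rw [h, mul_zero] at hG
      exact absurd hG Nat.card_pos.ne'
    · exact h
  have hmpos : 0 < m := hm ▸ pow_pos hp.pos β
  let Ω := Set.powersetCard G m
  have hΩ : Nat.card Ω = (Nat.card G).choose m := Set.powersetCard.card G m
  -- the stabilizer of a point has order dividing m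
  have hstabmem : ∀ (X : Ω) (s : G), s ∈ stabilizer G X ↔ s • (X : Finset G) = X := by
    intro X s
    rw [mem_stabilizer_iff, ← Subtype.coe_inj, Set.powersetCard.coe_smul]
  have hstab : ∀ X : Ω, Nat.card (stabilizer G X) ∣ m := by
    intro X
    have h1 := card_dvd_card_of_smul_finset_eq (stabilizer G X) (X : Finset G)
      (fun s hs => (hstabmem X s).mp hs)
    rwa [Set.powersetCard.card_eq] at h1
  have horb : ∀ X : Ω, (orbit G X).ncard * Nat.card (stabilizer G X) = m * k := by
    intro X
    rw [← index_stabilizer, mul_comm, Subgroup.card_mul_index, hG]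
  have hgood : ∀ X : Ω, (orbit G X).ncard = k ↔ Nat.card (stabilizer G X) = m := by
    intro X
    have h := horb X
    constructor
    · intro h1
      rw [h1, mul_comm] at h
      exact Nat.eq_of_mul_eq_mul_right hk h
    · intro h1
      rw [h1, mul_comm] at h
      exact Nat.eq_of_mul_eq_mul_left hmpos h
  have hdich : ∀ X : Ω, (orbit G X).ncard ≠ k → p * k ∣ (orbit G X).ncard := by
    intro X hne
    have hst' : Nat.card (stabilizer G X) ∣ p ^ β := (hstab X).trans (by rw [hm])
    obtain ⟨j, hj, hcard⟩ := (Nat.dvd_prime_pow hp).mp hst'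
    have h := horb X
    rw [hcard] at h
    rcases hj.eq_or_lt with hjeq | hlt
    · exfalso
      apply hne
      rw [hgood, hcard, hm, hjeq]
    · obtain ⟨d, hd⟩ := Nat.exists_eq_add_of_lt hlt
      have h2 : (orbit G X).ncard = p ^ (d + 1) * k := by
        have h3 : m * k = (p ^ (d + 1) * k) * p ^ j := by
          rw [hm, hd, show j + d + 1 = (d + 1) + j by ring, pow_add]; ring
        exact Nat.eq_of_mul_eq_mul_right (pow_pos hp.pos j) (h.trans h3)
      rw [h2, pow_succ, mul_assoc]
      exact Dvd.intro_left _ rfl
  -- sum over orbits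
  let Q := orbitRel.Quotient G Ω
  have : Fintype Q := Fintype.ofFinite Q
  have e := selfEquivSigmaOrbits' G Ω
  have h1 : Nat.card Ω = ∑ ω : Q, Nat.card ω.orbit := by
    rw [Nat.card_congr e, Nat.card_sigma]
  have h2 : ∑ ω : Q, Nat.card ω.orbit ≡
      k * (Finset.univ.filter (fun ω : Q => Nat.card ω.orbit = k)).card [MOD p * k] := by
    rw [← Finset.sum_filter_add_sum_filter_not Finset.univ (fun ω : Q => Nat.card ω.orbit = k)]
    have ha : ∑ ω ∈ Finset.univ.filter (fun ω : Q => Nat.card ω.orbit = k), Nat.card ω.orbit =
        k * (Finset.univ.filter (fun ω : Q => Nat.card ω.orbit = k)).card := by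
      rw [Finset.sum_congr rfl (fun ω hω => (Finset.mem_filter.mp hω).2), Finset.sum_const,
        smul_eq_mul, mul_comm]
    have hb : p * k ∣ ∑ ω ∈ Finset.univ.filter (fun ω : Q => ¬ Nat.card ω.orbit = k),
        Nat.card ω.orbit := by
      apply Finset.dvd_sum
      intro ω hω
      have hne := (Finset.mem_filter.mp hω).2
      induction ω using Quotient.inductionOn' with
      | h X =>
        rw [orbitRel.Quotient.orbit_mk, Nat.card_coe_set_eq] at hne ⊢
        exact hdich X hne
    rw [ha]
    obtain ⟨d, hd⟩ := hb
    rw [hd]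
    exact Nat.ModEq.symm (Nat.modEq_iff_dvd' (Nat.le_add_right _ _) |>.mpr (by simp))
  -- the point attached to a subgroup of order m
  let XH : {H : Subgroup G // Nat.card H = m} → Ω := fun H =>
    ⟨subgroupFinset H.1, by rw [Set.powersetCard.mem_iff, card_subgroupFinset, H.2]⟩
  have hXHstab : ∀ H, stabilizer G (XH H) = H.1 := by
    intro H
    ext g
    rw [hstabmem]
    exact smul_subgroupFinset_eq_iff H.1 g
  have hXHgood : ∀ H, Nat.card (orbitRel.Quotient.orbit (Quotient.mk'' (XH H) : Q)) = k := by
    intro H
    rw [orbitRel.Quotient.orbit_mk, Nat.card_coe_set_eq, hgood, hXHstab, H.2]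
  let f : {H : Subgroup G // Nat.card H = m} → {ω : Q // Nat.card ω.orbit = k} :=
    fun H => ⟨Quotient.mk'' (XH H), hXHgood H⟩
  have hf : Function.Bijective f := by
    constructor
    · intro H H' hHH'
      have h4 : (Quotient.mk'' (XH H) : Q) = Quotient.mk'' (XH H') := congrArg Subtype.val hHH'
      rw [Quotient.eq''] at h4
      have h5 : XH H ∈ orbit G (XH H') := h4
      obtain ⟨g, hg⟩ := h5
      have hg' : g • subgroupFinset H'.1 = subgroupFinset H.1 := by
        have h9 : ((g • XH H' : Ω) : Finset G) = (XH H : Finset G) := congrArg Subtype.val hg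
        rw [Set.powersetCard.coe_smul] at h9
        exact h9
      have h1mem : (1 : G) ∈ g • subgroupFinset H'.1 := by
        rw [hg', mem_subgroupFinset]; exact H.1.one_mem
      obtain ⟨h', hh', hgh'⟩ := Finset.mem_smul_finset.mp h1mem
      rw [mem_subgroupFinset] at hh'
      have hgH' : g ∈ H'.1 := by
        have : g = h'⁻¹ := eq_inv_of_mul_eq_one_left hgh'
        rw [this]; exact H'.1.inv_mem hh'
      have h6 := (smul_subgroupFinset_eq_iff H'.1 g).mpr hgH'
      rw [h6] at hg'
      apply Subtype.ext
      ext x
      rw [← mem_subgroupFinset, ← mem_subgroupFinset, hg']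
    · rintro ⟨ω, hω⟩
      induction ω using Quotient.inductionOn' with
      | h X =>
        have hXne : (X : Finset G).Nonempty := by
          rw [← Finset.card_pos, Set.powersetCard.card_eq]; exact hmpos
        obtain ⟨x, hx⟩ := hXne
        set Y : Ω := x⁻¹ • X with hY
        have hY1 : (1 : G) ∈ (Y : Finset G) := by
          rw [hY, Set.powersetCard.coe_smul]
          have := Finset.smul_mem_smul_finset (a := x⁻¹) hx
          simpa using this
        have hYorb : (Quotient.mk'' Y : Q) = Quotient.mk'' X :=
          Quotient.sound' (show Y ∈ orbit G X from ⟨x⁻¹, rfl⟩)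
        have hYgood : Nat.card (stabilizer G Y) = m := by
          rw [← hgood]
          have h7 := hω
          rw [← hYorb, orbitRel.Quotient.orbit_mk, Nat.card_coe_set_eq] at h7
          exact h7
        let S : {H : Subgroup G // Nat.card H = m} := ⟨stabilizer G Y, hYgood⟩
        have hsub : subgroupFinset S.1 ⊆ (Y : Finset G) := by
          intro s hs
          rw [mem_subgroupFinset] at hs
          have h6 := (hstabmem Y s).mp hs
          have h8 : s • (1 : G) ∈ s • (Y : Finset G) := Finset.smul_mem_smul_finset hY1
          rw [h6] at h8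
          simpa using h8
        have heq : subgroupFinset S.1 = (Y : Finset G) :=
          Finset.eq_of_subset_of_card_le hsub
            (by rw [card_subgroupFinset, Set.powersetCard.card_eq, S.2])
        refine ⟨S, Subtype.ext ?_⟩
        change (Quotient.mk'' (XH S) : Q) = Quotient.mk'' X
        rw [← hYorb]
        congr 1
        exact Subtype.ext heq
  have h3 : (Finset.univ.filter (fun ω : Q => Nat.card ω.orbit = k)).card =
      Nat.card {H : Subgroup G // Nat.card H = m} := by
    rw [Nat.card_congr (Equiv.ofBijective f hf), Nat.card_eq_fintype_card, Fintype.card_subtype]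
  rw [← hΩ, h1, ← h3]
  exact h2

/-- Frobenius' generalization of Sylow's counting theorem: the number of subgroups of order `p^β`
is congruent to `1` modulo `p` whenever `p^β` divides `|G|`. -/
theorem card_subgroups_pow_prime_modEq_one [Finite G] (p β : ℕ) (hp : p.Prime)
    (hdiv : p ^ β ∣ Nat.card G) :
    Nat.card {H : Subgroup G // Nat.card H = p ^ β} ≡ 1 [MOD p] := by
  haveI : Fact p.Prime := ⟨hp⟩
  obtain ⟨k, hk⟩ := hdiv
  have h1 := choose_modEq_mul_card_subgroups_aux (G := G) p β k (p ^ β) hp rfl hk
  have hn : 0 < Nat.card G := Nat.card_pos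
  have hk0 : k ≠ 0 := by
    rintro rfl
    rw [mul_zero] at hk
    exact hn.ne' hk
  haveI : NeZero (Nat.card G) := ⟨hn.ne'⟩
  have hC : Nat.card (Multiplicative (ZMod (Nat.card G))) = Nat.card G := by
    rw [Nat.card_eq_fintype_card, Fintype.card_multiplicative, ZMod.card]
  have h2 := choose_modEq_mul_card_subgroups_aux (G := Multiplicative (ZMod (Nat.card G))) p β k
    (p ^ β) hp rfl (hC.trans hk)
  have hone : Nat.card {H : Subgroup (Multiplicative (ZMod (Nat.card G))) //
      Nat.card H = p ^ β} = 1 := by
    rw [Nat.card_eq_one_iff_unique]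
    constructor
    · constructor
      intro H H'
      exact Subtype.ext (Cfsg.Agent.Lib.Helper9.subgroup_eq_of_card_eq_of_isCyclic _ _
        (H.2.trans H'.2.symm))
    · obtain ⟨K, hK⟩ := Sylow.exists_subgroup_card_pow_prime (G :=
        Multiplicative (ZMod (Nat.card G))) p (n := β) (by rw [hC, hk]; exact Dvd.intro _ rfl)
      exact ⟨⟨K, hK⟩⟩
  rw [hC, hone, mul_one] at h2
  have h3 : k * Nat.card {H : Subgroup G // Nat.card H = p ^ β} ≡ k * 1 [MOD k * p] := by
    rw [mul_one, mul_comm k p]
    exact h1.symm.trans h2
  exact Nat.ModEq.mul_left_cancel' hk0 h3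

/-- In a group of order `p^m`, the number of normal subgroups of order `p^s` (`s ≤ m`) is
congruent to `1` modulo `p`. -/
theorem card_normal_subgroups_pow_prime_modEq_one [Finite G] (p m s : ℕ) (hp : p.Prime)
    (hG : Nat.card G = p ^ m) (hs : s ≤ m) :
    Nat.card {H : Subgroup G // H.Normal ∧ Nat.card H = p ^ s} ≡ 1 [MOD p] := by
  haveI : Fact p.Prime := ⟨hp⟩
  have hGp : IsPGroup p G := IsPGroup.of_card hG
  let T := {H : Subgroup G // Nat.card H = p ^ s}
  let act : MulAction G T :=
    { smul := fun g H => ⟨MulAut.conj g • H.1,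
        ((Nat.card_congr (Subgroup.equivSMul (MulAut.conj g) H.1).toEquiv).symm).trans H.2⟩
      one_smul := fun H => Subtype.ext (by
        change MulAut.conj (1 : G) • H.1 = H.1
        rw [map_one, one_smul])
      mul_smul := fun a b H => Subtype.ext (by
        change MulAut.conj (a * b) • H.1 = MulAut.conj a • (MulAut.conj b • H.1)
        rw [map_mul, mul_smul]) }
  have hsm : ∀ (g : G) (H : T), ((g • H : T) : Subgroup G) = MulAut.conj g • H.1 := fun _ _ => rfl
  have h1 := hGp.card_modEq_card_fixedPoints T
  have h2 := card_subgroups_pow_prime_modEq_one (G := G) p s hp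
    (by rw [hG]; exact pow_dvd_pow p hs)
  let e : MulAction.fixedPoints G T ≃ {H : Subgroup G // H.Normal ∧ Nat.card H = p ^ s} :=
    { toFun := fun x => ⟨x.1.1, ⟨Subgroup.Normal.of_conjugate_fixed (fun g => by
        have := x.2 g
        rw [← hsm, this]), x.1.2⟩⟩
      invFun := fun H => ⟨⟨H.1, H.2.2⟩, fun g => Subtype.ext (by
        rw [hsm]
        haveI := H.2.1
        exact Subgroup.Normal.conj_smul_eq_self g H.1)⟩
      left_inv := fun x => rfl
      right_inv := fun H => rfl }
  rw [← Nat.card_congr e]
  exact h1.symm.trans h2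

end

end Cfsg.Agent.Lib.Helper11
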