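import Mathlib
import Cfsg.Agent.Lib.Helper9.Cyclic
import Cfsg.Agent.Lib.Helper11.Wielandt

set_option autoImplicit false

namespace Cfsg.Agent.Lib.Helper11

section
variable {G : Type*} [Group G]

/-- Power formula in class 2: if `b * y = y * b * z` with `z` commuting with `y` and `b`, then
`(y * b) ^ n = y ^ n * b ^ n * z ^ (n.choose 2)`. -/
theorem mul_pow_of_commutator_central {y b z : G} (h : b * y = y * b * z) (hzy : Commute z y)
    (hzb : Commute z b) (n : ℕ) : (y * b) ^ n = y ^ n * b ^ n * z ^ (n.choose 2) := by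
  have aux : ∀ k : ℕ, b ^ k * y = y * b ^ k * z ^ k := by
    intro k
    induction k with
    | zero => simp
    | succ k ih =>
      calc b ^ (k + 1) * y = b ^ k * (b * y) := by rw [pow_succ, mul_assoc]
        _ = b ^ k * (y * b * z) := by rw [h]
        _ = (b ^ k * y) * b * z := by simp only [mul_assoc]
        _ = (y * b ^ k * z ^ k) * b * z := by rw [ih]
        _ = y * b ^ k * (z ^ k * b) * z := by simp only [mul_assoc]
        _ = y * b ^ k * (b * z ^ k) * z := by rw [(hzb.pow_left k).eq]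
        _ = y * (b ^ k * b) * (z ^ k * z) := by simp only [mul_assoc]
        _ = y * b ^ (k + 1) * z ^ (k + 1) := by rw [← pow_succ, ← pow_succ]
  induction n with
  | zero => simp
  | succ n ih =>
    have hc : (n + 1).choose 2 = n.choose 2 + n := by
      rw [Nat.choose_succ_succ' n 1, Nat.choose_one_right, add_comm]
    calc (y * b) ^ (n + 1) = (y * b) ^ n * (y * b) := pow_succ _ _
      _ = y ^ n * b ^ n * z ^ (n.choose 2) * (y * b) := by rw [ih]
      _ = y ^ n * b ^ n * (z ^ (n.choose 2) * y) * b := by simp only [mul_assoc]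
      _ = y ^ n * b ^ n * (y * z ^ (n.choose 2)) * b := by rw [(hzy.pow_left _).eq]
      _ = y ^ n * (b ^ n * y) * (z ^ (n.choose 2) * b) := by simp only [mul_assoc]
      _ = y ^ n * (y * b ^ n * z ^ n) * (b * z ^ (n.choose 2)) := by
          rw [aux n, (hzb.pow_left _).eq]
      _ = y ^ n * y * b ^ n * (z ^ n * b) * z ^ (n.choose 2) := by simp only [mul_assoc]
      _ = y ^ n * y * b ^ n * (b * z ^ n) * z ^ (n.choose 2) := by rw [(hzb.pow_left n).eq]
      _ = (y ^ n * y) * (b ^ n * b) * (z ^ n * z ^ (n.choose 2)) := by simp only [mul_assoc]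
      _ = y ^ (n + 1) * b ^ (n + 1) * z ^ ((n + 1).choose 2) := by
          rw [← pow_succ, ← pow_succ, ← pow_add, hc, add_comm n (n.choose 2)]

/-- In a finite `p`-group situation: subgroups of every intermediate order. -/
theorem exists_between_pgroup [Finite G] {p : ℕ} [Fact p.Prime] {K L : Subgroup G} {a b c : ℕ}
    (hL : Nat.card L = p ^ a) (hK : Nat.card K = p ^ c) (hLK : L ≤ K) (hab : a ≤ b) (hbc : b ≤ c) :
    ∃ M : Subgroup G, L ≤ M ∧ M ≤ K ∧ Nat.card M = p ^ b := by
  have hL' : Nat.card (L.subgroupOf K) = p ^ a := by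
    rw [Nat.card_congr (Subgroup.subgroupOfEquivOfLe hLK).toEquiv, hL]
  have hdvd : p ^ b ∣ Nat.card K := by rw [hK]; exact pow_dvd_pow p hbc
  obtain ⟨M', hM', hLM'⟩ := Sylow.exists_subgroup_card_pow_prime_le p hdvd (L.subgroupOf K) hL' hab
  refine ⟨M'.map K.subtype, ?_, Subgroup.map_subtype_le M', ?_⟩
  · intro x hx
    exact ⟨⟨x, hLK hx⟩, hLM' (Subgroup.mem_subgroupOf.mpr hx), rfl⟩
  · rw [Subgroup.card_map_of_injective K.subtype_injective, hM']

/-- If `K` has order `p^(j+1)` and all subgroups of order `p^j` contained in `K` coincide, then `K`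
is cyclic. -/
theorem exists_zpowers_eq_of_unique_maximal [Finite G] {p : ℕ} [Fact p.Prime] {K : Subgroup G}
    {j : ℕ} (hK : Nat.card K = p ^ (j + 1))
    (huniq : ∀ L₁ L₂ : Subgroup G, L₁ ≤ K → L₂ ≤ K → Nat.card L₁ = p ^ j → Nat.card L₂ = p ^ j →
      L₁ = L₂) :
    ∃ x ∈ K, K = Subgroup.zpowers x := by
  have hp : p.Prime := Fact.out
  obtain ⟨L, -, hLK, hL⟩ := exists_between_pgroup (p := p) (L := ⊥) (K := K) (a := 0) (b := j)
    (c := j + 1) (by simp) hK bot_le (Nat.zero_le _) (Nat.le_succ _)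
  have hne : ¬ K ≤ L := by
    intro h
    have := Subgroup.card_le_of_le h
    rw [hK, hL] at this
    exact absurd this (not_le.mpr (Nat.pow_lt_pow_right hp.one_lt (Nat.lt_succ_self j)))
  obtain ⟨x, hxK, hxL⟩ := SetLike.not_le_iff_exists.mp hne
  refine ⟨x, hxK, ?_⟩
  have hzK : Subgroup.zpowers x ≤ K := Subgroup.zpowers_le.mpr hxK
  have hdvd : Nat.card (Subgroup.zpowers x) ∣ p ^ (j + 1) := by
    rw [← hK]; exact Subgroup.card_dvd_of_le hzK
  obtain ⟨i, hi_le, hi⟩ := (Nat.dvd_prime_pow hp).mp hdvd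
  by_cases hij : i ≤ j
  · exfalso
    obtain ⟨M, hzM, hMK, hM⟩ := exists_between_pgroup hi hK hzK hij (Nat.le_succ j)
    have := huniq M L hMK hLK hM hL
    exact hxL (this ▸ hzM (Subgroup.mem_zpowers x))
  · have hij' : i = j + 1 := by omega
    symm
    apply Subgroup.eq_of_le_of_card_ge hzK
    rw [hK, hi, hij']

theorem zpowers_comm {x u v : G} (hu : u ∈ Subgroup.zpowers x) (hv : v ∈ Subgroup.zpowers x) :
    u * v = v * u := by
  obtain ⟨k, rfl⟩ := Subgroup.mem_zpowers_iff.mp hu
  obtain ⟨l, rfl⟩ := Subgroup.mem_zpowers_iff.mp hv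
  exact zpow_mul_comm x k l

/-- Uniqueness of the subgroup of order `p^s` (for some `s < m`) passes down to all smaller orders. -/
theorem unique_card_of_le [Finite G] {p : ℕ} [Fact p.Prime] {m s : ℕ} (hG : Nat.card G = p ^ m)
    (hsm : s < m)
    (huniq : ∀ H K : Subgroup G, Nat.card H = p ^ s → Nat.card K = p ^ s → H = K) {j : ℕ}
    (hj : j ≤ s) :
    ∀ H K : Subgroup G, Nat.card H = p ^ j → Nat.card K = p ^ j → H = K := by
  intro L₁ L₂ h1 h2
  have htop : Nat.card (⊤ : Subgroup G) = p ^ m := by rw [Subgroup.card_top, hG]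
  obtain ⟨M₁, hLM₁, -, hM₁⟩ := exists_between_pgroup h1 htop le_top hj hsm.le
  obtain ⟨M₂, hLM₂, -, hM₂⟩ := exists_between_pgroup h2 htop le_top hj hsm.le
  have hM : M₁ = M₂ := huniq _ _ hM₁ hM₂
  subst hM
  obtain ⟨K, hMK, -, hK⟩ := exists_between_pgroup hM₁ htop le_top (Nat.le_succ s) hsm
  obtain ⟨x, hxK, hKx⟩ := exists_zpowers_eq_of_unique_maximal hK
    (fun A B _ _ hA hB => huniq A B hA hB)
  haveI : IsCyclic ↥K := by rw [hKx]; infer_instance
  exact Cfsg.Agent.Lib.Helper9.eq_of_card_eq_of_le_isCyclic K L₁ L₂ (hLM₁.trans hMK)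
    (hLM₂.trans hMK) (h1.trans h2.symm)

/-- Key step: if subgroups of order `p^i` are unique for all `i ≤ j` (`1 ≤ j`, and `2 ≤ j` when
`p = 2`), then a normal subgroup `N` of order `p^(j+1)` is the only subgroup of that order. -/
theorem eq_normal_of_card_succ [Finite G] {p : ℕ} [Fact p.Prime] {j : ℕ} (hj1 : 1 ≤ j)
    (h2 : p ≠ 2 ∨ 2 ≤ j)
    (huniq : ∀ i ≤ j, ∀ H K : Subgroup G, Nat.card H = p ^ i → Nat.card K = p ^ i → H = K)
    (N K : Subgroup G) (hNn : N.Normal) (hN : Nat.card N = p ^ (j + 1))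
    (hK : Nat.card K = p ^ (j + 1)) : K = N := by
  have hp : p.Prime := Fact.out
  by_contra hne
  obtain ⟨x, hxN, hNx⟩ := exists_zpowers_eq_of_unique_maximal hN
    (fun A B _ _ hA hB => huniq j le_rfl A B hA hB)
  obtain ⟨y, hyK, hKy⟩ := exists_zpowers_eq_of_unique_maximal hK
    (fun A B _ _ hA hB => huniq j le_rfl A B hA hB)
  -- the subgroup D of order p^j
  obtain ⟨D, -, hDN, hD⟩ := exists_between_pgroup (p := p) (L := ⊥) (K := N) (a := 0) (b := j)
    (c := j + 1) (by simp) hN bot_le (Nat.zero_le _) (Nat.le_succ _)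
  obtain ⟨D', -, hD'K, hD'⟩ := exists_between_pgroup (p := p) (L := ⊥) (K := K) (a := 0) (b := j)
    (c := j + 1) (by simp) hK bot_le (Nat.zero_le _) (Nat.le_succ _)
  have hDD' : D' = D := huniq j le_rfl _ _ hD' hD
  have hDK : D ≤ K := hDD' ▸ hD'K
  -- the subgroup P₁ of order p
  obtain ⟨P₁, -, hP₁D, hP₁⟩ := exists_between_pgroup (p := p) (L := ⊥) (K := D) (a := 0) (b := 1)
    (c := j) (by simp) hD bot_le (Nat.zero_le _) hj1
  -- orders of x and y
  have hox : orderOf x = p ^ (j + 1) := by rw [← Nat.card_zpowers, ← hNx, hN]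
  have hoy : orderOf y = p ^ (j + 1) := by rw [← Nat.card_zpowers, ← hKy, hK]
  have hpow : ∀ g : G, orderOf g = p ^ (j + 1) → Subgroup.zpowers (g ^ p) = D := by
    intro g hg
    apply huniq j le_rfl _ _ _ hD
    rw [Nat.card_zpowers, orderOf_pow_of_dvd hp.ne_zero (by rw [hg, pow_succ]; exact Dvd.intro_left _ rfl),
      hg, pow_succ, Nat.mul_div_cancel _ hp.pos]
  have hyp : y ^ p ∈ Subgroup.zpowers (x ^ p) := by
    rw [hpow x hox, ← hpow y hoy]; exact Subgroup.mem_zpowers _
  obtain ⟨i, hi⟩ := Subgroup.mem_zpowers_iff.mp hyp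
  set a : G := x ^ i with ha
  have haN : a ∈ N := by rw [hNx]; exact Subgroup.zpow_mem_zpowers x i
  have hap : a ^ p = y ^ p := by
    rw [← hi, ha, ← zpow_natCast, ← zpow_natCast, ← zpow_mul, ← zpow_mul, mul_comm]
  -- the commutator c
  set c : G := a⁻¹ * (y⁻¹ * a * y) with hc
  have hconjN : y⁻¹ * a * y ∈ N := by
    have := hNn.conj_mem a haN y⁻¹
    simpa using this
  have hcN : c ∈ N := N.mul_mem (N.inv_mem haN) hconjN
  have hNcomm : ∀ u ∈ N, ∀ v ∈ N, u * v = v * u := by
    intro u hu v hv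
    rw [hNx] at hu hv
    exact zpowers_comm hu hv
  have hKcomm : ∀ u ∈ K, ∀ v ∈ K, u * v = v * u := by
    intro u hu v hv
    rw [hKy] at hu hv
    exact zpowers_comm hu hv
  have hcp : c ^ p = 1 := by
    have hcm : Commute a⁻¹ (y⁻¹ * a * y) := hNcomm _ (N.inv_mem haN) _ hconjN
    rw [hc, hcm.mul_pow]
    have h3 : (y⁻¹ * a * y) ^ p = y⁻¹ * a ^ p * y := by
      have := (MulAut.conj y⁻¹).toMonoidHom.map_pow a p
      simp only [MulEquiv.toMonoidHom_eq_coe, MonoidHom.coe_coe, MulAut.conj_apply, inv_inv] at this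
      exact this.symm
    rw [h3, hap, inv_pow, hap]
    group
  -- c lies in D
  have hcD : c ∈ D := by
    by_cases hc1 : c = 1
    · rw [hc1]; exact D.one_mem
    · have hoc : orderOf c = p := orderOf_eq_prime hcp hc1
      have : Subgroup.zpowers c = P₁ := by
        apply huniq 1 hj1 _ _ _ hP₁
        rw [Nat.card_zpowers, hoc, pow_one]
      exact hP₁D (this ▸ Subgroup.mem_zpowers c)
  have hca : Commute c a := hNcomm c hcN a haN
  have hcy : Commute c y := hKcomm c (hDK hcD) y hyK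
  -- b * y = y * b * z with b = a⁻¹, z = c⁻¹
  have hay : a * y = y * a * c := by
    rw [hc]; group
  have hby : a⁻¹ * y = y * a⁻¹ * c⁻¹ := by
    apply mul_left_cancel (a := a)
    rw [mul_inv_cancel_left]
    have h5 : c * a⁻¹ = a⁻¹ * c := hca.inv_right.eq
    have h6 : y = y * a * c * (a⁻¹ * c⁻¹) := by
      calc y = y * (a * a⁻¹) * (c * c⁻¹) := by simp
        _ = y * a * (a⁻¹ * c) * c⁻¹ := by simp only [mul_assoc]
        _ = y * a * (c * a⁻¹) * c⁻¹ := by rw [h5]
        _ = y * a * c * (a⁻¹ * c⁻¹) := by simp only [mul_assoc]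
    calc y = y * a * c * (a⁻¹ * c⁻¹) := h6
      _ = a * y * (a⁻¹ * c⁻¹) := by rw [← hay]
      _ = a * (y * a⁻¹ * c⁻¹) := by simp only [mul_assoc]
  have hzy : Commute c⁻¹ y := hcy.inv_left
  have hzb : Commute c⁻¹ a⁻¹ := hca.inv_left.inv_right
  have hform := mul_pow_of_commutator_central hby hzy hzb p
  have hform' : (y * a⁻¹) ^ p = c⁻¹ ^ (p.choose 2) := by
    rw [hform, inv_pow a, hap, mul_inv_cancel, one_mul]
  set w : G := y * a⁻¹ with hw
  have hwN : w ∉ N := by
    intro hwN
    have hyN : y ∈ N := by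
      have : y = w * a := by rw [hw, inv_mul_cancel_right]
      rw [this]; exact N.mul_mem hwN haN
    apply hne
    apply Subgroup.eq_of_le_of_card_ge
    · rw [hKy]; exact Subgroup.zpowers_le.mpr hyN
    · rw [hN, hK]
  have hw1 : w ≠ 1 := fun h => hwN (h ▸ N.one_mem)
  have hcinvp : c⁻¹ ^ p = 1 := by rw [inv_pow, hcp, inv_one]
  rcases h2 with hp2 | hj2
  · -- p odd
    have hdvd : p ∣ p.choose 2 := by
      apply hp.dvd_choose_self (by norm_num)
      have := hp.two_le
      omega
    obtain ⟨k, hk⟩ := hdvd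
    have hwp : w ^ p = 1 := by
      rw [hform', hk, pow_mul, hcinvp, one_pow]
    have how : orderOf w = p := orderOf_eq_prime hwp hw1
    have : Subgroup.zpowers w = P₁ := by
      apply huniq 1 hj1 _ _ _ hP₁
      rw [Nat.card_zpowers, how, pow_one]
    exact hwN (hDN (hP₁D (this ▸ Subgroup.mem_zpowers w)))
  · by_cases hp2 : p = 2
    · subst hp2
      have hw2 : w ^ 2 = c⁻¹ := by
        rw [hform']; simp
      by_cases hz1 : c⁻¹ = 1
      · have how : orderOf w = 2 := orderOf_eq_prime (by rw [hw2, hz1]) hw1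
        have : Subgroup.zpowers w = P₁ := by
          apply huniq 1 hj1 _ _ _ hP₁
          rw [Nat.card_zpowers, how, pow_one]
        exact hwN (hDN (hP₁D (this ▸ Subgroup.mem_zpowers w)))
      · have how : orderOf w = 2 ^ (1 + 1) := by
          apply orderOf_eq_prime_pow
          · rw [pow_one, hw2]; exact hz1
          · rw [pow_succ, pow_mul, pow_one, hw2, hcinvp]
        obtain ⟨P₂, -, hP₂D, hP₂⟩ := exists_between_pgroup (p := 2) (L := ⊥) (K := D) (a := 0)
          (b := 2) (c := j) (by simp) hD bot_le (Nat.zero_le _) hj2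
        have : Subgroup.zpowers w = P₂ := by
          apply huniq 2 hj2 _ _ _ hP₂
          rw [Nat.card_zpowers, how]
        exact hwN (hDN (hP₂D (this ▸ Subgroup.mem_zpowers w)))
    · -- p odd again
      have hdvd : p ∣ p.choose 2 := by
        apply hp.dvd_choose_self (by norm_num)
        have := hp.two_le
        omega
      obtain ⟨k, hk⟩ := hdvd
      have hwp : w ^ p = 1 := by
        rw [hform', hk, pow_mul, hcinvp, one_pow]
      have how : orderOf w = p := orderOf_eq_prime hwp hw1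
      have : Subgroup.zpowers w = P₁ := by
        apply huniq 1 hj1 _ _ _ hP₁
        rw [Nat.card_zpowers, how, pow_one]
      exact hwN (hDN (hP₁D (this ▸ Subgroup.mem_zpowers w)))

/-- A group of order `p^m` with exactly one subgroup of order `p^s` (`1 ≤ s < m`; `2 ≤ s` if
`p = 2`) is cyclic. -/
theorem isCyclic_of_unique_subgroup_card [Finite G] (p m s : ℕ) (hp : p.Prime)
    (hG : Nat.card G = p ^ m) (hs : 1 ≤ s) (hsm : s < m) (h2 : p ≠ 2 ∨ 2 ≤ s)
    (huniq : ∀ H K : Subgroup G, Nat.card H = p ^ s → Nat.card K = p ^ s → H = K) :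
    IsCyclic G := by
  haveI : Fact p.Prime := ⟨hp⟩
  have claim : ∀ j, s ≤ j → j < m → ∀ i ≤ j, ∀ H K : Subgroup G,
      Nat.card H = p ^ i → Nat.card K = p ^ i → H = K := by
    intro j hsj
    induction j, hsj using Nat.le_induction with
    | base =>
      intro _ i hi
      exact unique_card_of_le hG hsm huniq hi
    | succ j hsj ih =>
      intro hjm i hi
      have ihj := ih (by omega)
      rcases Nat.lt_or_ge i (j + 1) with h | h
      · exact ihj i (by omega)
      · have hij : i = j + 1 := by omega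
        subst hij
        have hcount := card_normal_subgroups_pow_prime_modEq_one (G := G) p m (j + 1) hp hG
          (by omega)
        have hne : Nat.card {H : Subgroup G // H.Normal ∧ Nat.card H = p ^ (j + 1)} ≠ 0 := by
          intro h0
          rw [h0] at hcount
          have hd : p ∣ 1 := (Nat.modEq_zero_iff_dvd).mp hcount.symm
          exact hp.one_lt.ne' (Nat.dvd_one.mp hd)
        obtain ⟨⟨N, hNn, hN⟩⟩ := (Nat.card_ne_zero.mp hne).1
        intro H K hH hK
        have hj1 : 1 ≤ j := by omega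
        have h2' : p ≠ 2 ∨ 2 ≤ j := h2.imp id (fun h => by omega)
        rw [eq_normal_of_card_succ hj1 h2' ihj N H hNn hN hH,
          eq_normal_of_card_succ hj1 h2' ihj N K hNn hN hK]
  have hm1 := claim (m - 1) (by omega) (by omega) (m - 1) le_rfl
  have htop : Nat.card (⊤ : Subgroup G) = p ^ ((m - 1) + 1) := by
    rw [Subgroup.card_top, hG]; congr 1; omega
  obtain ⟨x, -, hx⟩ := exists_zpowers_eq_of_unique_maximal htop
    (fun A B _ _ hA hB => hm1 A B hA hB)
  exact isCyclic_iff_exists_zpowers_eq_top.mpr ⟨x, hx.symm⟩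

end

end Cfsg.Agent.Lib.Helper11
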