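import Mathlib
import Cfsg.Prelude.Def_GeometricClasses

/-!
Shared definitions for the monomial case (`m = 1`) of S5634: a subgroup `M` of `SL_n(F)` containing
all monomial matrices of determinant one and a non-monomial matrix is `SL_n(F)` (`n ≥ 13`, `q ≥ 5`).
-/

set_option autoImplicit false

namespace Cfsg.Agent.Lib.Helper11.Mono
open Matrix

variable {F : Type*} [Field F] {ι : Type} [Fintype ι] [DecidableEq ι]

/-- column `j` of `g` has no non-zero entry outside row `i` -/
def ColAt (g : Matrix ι ι F) (j i : ι) : Prop := ∀ k, k ≠ i → g k j = 0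

/-- some column of `g` is (a multiple of) a coordinate vector -/
def HasMonoCol (g : Matrix ι ι F) : Prop := ∃ j i, ColAt g j i

/-- every column of `g` is (a multiple of) a coordinate vector -/
def IsMono (g : Matrix ι ι F) : Prop := ∀ j, ∃ i, ColAt g j i

/-- `M` contains all monomial matrices of determinant one -/
def ContainsH (M : Subgroup (GL ι F)) : Prop :=
  ∀ g : GL ι F, IsMono (g : Matrix ι ι F) → g ∈ Cfsg.Geo.specialLinear ι F → g ∈ M

/-- `G` contains all monomial matrices -/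
def ContainsN (G : Subgroup (GL ι F)) : Prop :=
  ∀ g : GL ι F, IsMono (g : Matrix ι ι F) → g ∈ G

/-- `M` contains a non-trivial elementary transvection -/
def HasTransv (M : Subgroup (GL ι F)) : Prop :=
  ∃ i j : ι, i ≠ j ∧ ∃ c : F, c ≠ 0 ∧ ∃ t ∈ M, (t : Matrix ι ι F) = Matrix.transvection i j c

/-- world (W): an element of `M` with one monomial column is monomial -/
def WorldW (M : Subgroup (GL ι F)) : Prop :=
  ∀ g ∈ M, HasMonoCol (g : Matrix ι ι F) → IsMono (g : Matrix ι ι F)

/-- the diagonal element of `GL` with entries `s` -/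
noncomputable def dg (s : ι → Fˣ) : GL ι F :=
  ⟨Matrix.diagonal fun i => (s i : F), Matrix.diagonal fun i => ((s i)⁻¹ : Fˣ),
    by rw [Matrix.diagonal_mul_diagonal]; simp,
    by rw [Matrix.diagonal_mul_diagonal]; simp⟩

@[simp] lemma dg_val (s : ι → Fˣ) :
    ((dg s : GL ι F) : Matrix ι ι F) = Matrix.diagonal fun i => (s i : F) := rfl

lemma dg_inv_val (s : ι → Fˣ) :
    (((dg s)⁻¹ : GL ι F) : Matrix ι ι F) = Matrix.diagonal fun i => (((s i)⁻¹ : Fˣ) : F) := rfl

lemma dg_mulVec (s : ι → Fˣ) (v : ι → F) :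
    ((dg s : GL ι F) : Matrix ι ι F) *ᵥ v = fun i => (s i : F) * v i := by
  ext i
  rw [dg_val, Matrix.mulVec_diagonal]

lemma dg_mul (s t : ι → Fˣ) : dg s * dg t = (dg (s * t) : GL ι F) := by
  apply Units.ext
  rw [Units.val_mul, dg_val, dg_val, dg_val, Matrix.diagonal_mul_diagonal]
  rfl

lemma dg_inv (s : ι → Fˣ) : (dg s)⁻¹ = (dg s⁻¹ : GL ι F) := by
  apply Units.ext
  rw [dg_inv_val, dg_val]
  rfl

lemma dg_one : (dg (1 : ι → Fˣ) : GL ι F) = 1 := by
  apply Units.ext
  rw [dg_val]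
  simp

lemma dg_det (s : ι → Fˣ) : ((dg s : GL ι F) : Matrix ι ι F).det = ∏ i, (s i : F) := by
  rw [dg_val, Matrix.det_diagonal]

lemma dg_mem_specialLinear {s : ι → Fˣ} (hs : ∏ i, s i = 1) :
    (dg s : GL ι F) ∈ Cfsg.Geo.specialLinear ι F := by
  unfold Cfsg.Geo.specialLinear
  rw [MonoidHom.mem_ker]
  apply Units.ext
  rw [Matrix.GeneralLinearGroup.val_det_apply, dg_det, Units.val_one]
  have := congrArg (Units.val) hs
  rwa [Units.coe_prod, Units.val_one] at this

lemma dg_isMono (s : ι → Fˣ) : IsMono ((dg s : GL ι F) : Matrix ι ι F) := by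
  intro j
  refine ⟨j, fun k hk => ?_⟩
  rw [dg_val, Matrix.diagonal_apply_ne _ hk]

lemma dg_mem_of_containsH {M : Subgroup (GL ι F)} (hH : ContainsH M) {s : ι → Fˣ}
    (hs : ∏ i, s i = 1) : dg s ∈ M :=
  hH _ (dg_isMono s) (dg_mem_specialLinear hs)

lemma dg_mem_of_containsN {G : Subgroup (GL ι F)} (hN : ContainsN G) (s : ι → Fˣ) : dg s ∈ G :=
  hN _ (dg_isMono s)

lemma mem_specialLinear_iff (g : GL ι F) :
    g ∈ Cfsg.Geo.specialLinear ι F ↔ (g : Matrix ι ι F).det = 1 := by
  unfold Cfsg.Geo.specialLinear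
  rw [MonoidHom.mem_ker]
  constructor
  · intro h
    have := congrArg Units.val h
    rwa [Matrix.GeneralLinearGroup.val_det_apply, Units.val_one] at this
  · intro h
    apply Units.ext
    rw [Matrix.GeneralLinearGroup.val_det_apply, Units.val_one, h]

end Cfsg.Agent.Lib.Helper11.Mono
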