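import Mathlib
import Cfsg.Prelude.Def_GeometricClasses
import Cfsg.Agent.Lib.Helper11.MonoDefs

/-!
Basic API for monomial matrices (S5634, case `m = 1`): products, inverses, columns, `perm_frame`.
-/

set_option autoImplicit false

namespace Cfsg.Agent.Lib.Helper11.Mono
open Matrix

variable {F : Type*} [Field F] {ι : Type} [Fintype ι] [DecidableEq ι]

lemma colAt_iff_col (g : Matrix ι ι F) (j i : ι) :
    ColAt g j i ↔ g.col j = g i j • (Pi.single i (1 : F) : ι → F) := by
  constructor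
  · intro h
    ext k
    by_cases hk : k = i
    · subst hk
      simp [Matrix.col]
    · rw [Pi.smul_apply, Pi.single_apply, if_neg hk, smul_zero]
      exact h k hk
  · intro h k hk
    have := congrFun h k
    rw [Pi.smul_apply, Pi.single_apply, if_neg hk, smul_zero] at this
    exact this

lemma colAt_of_mulVec_single {g : Matrix ι ι F} {j i : ι} {c : F}
    (h : g *ᵥ (Pi.single j (1 : F)) = c • (Pi.single i (1 : F) : ι → F)) : ColAt g j i := by
  intro k hk
  have := congrFun h k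
  rw [Matrix.mulVec_single_one, Pi.smul_apply, Pi.single_apply, if_neg hk, smul_zero] at this
  exact this

lemma mulVec_single_of_colAt {g : Matrix ι ι F} {j i : ι} (h : ColAt g j i) :
    g *ᵥ (Pi.single j (1 : F)) = g i j • (Pi.single i (1 : F) : ι → F) := by
  rw [Matrix.mulVec_single_one]
  exact (colAt_iff_col g j i).mp h

lemma IsMono.mul {g h : Matrix ι ι F} (hg : IsMono g) (hh : IsMono h) : IsMono (g * h) := by
  intro j
  obtain ⟨i, hi⟩ := hh j
  obtain ⟨i', hi'⟩ := hg i
  refine ⟨i', fun k hk => ?_⟩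
  rw [Matrix.mul_apply]
  apply Finset.sum_eq_zero
  intro x _
  by_cases hx : x = i
  · subst hx
    rw [hi' k hk, zero_mul]
  · rw [hi x hx, mul_zero]

lemma colAt_mul {g h : Matrix ι ι F} {j i i' : ι} (hh : ColAt h j i) (hg : ColAt g i i') :
    ColAt (g * h) j i' := by
  intro k hk
  rw [Matrix.mul_apply]
  apply Finset.sum_eq_zero
  intro x _
  by_cases hx : x = i
  · subst hx
    rw [hg k hk, zero_mul]
  · rw [hh x hx, mul_zero]

lemma mulVec_inj (g : GL ι F) {v w : ι → F}
    (h : (g : Matrix ι ι F) *ᵥ v = (g : Matrix ι ι F) *ᵥ w) : v = w := by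
  have := congrArg (fun x => ((g⁻¹ : GL ι F) : Matrix ι ι F) *ᵥ x) h
  simp only [Matrix.mulVec_mulVec] at this
  rwa [← Units.val_mul, inv_mul_cancel, Units.val_one, Matrix.one_mulVec, Matrix.one_mulVec] at this

lemma inv_mulVec_mulVec (g : GL ι F) (v : ι → F) :
    ((g⁻¹ : GL ι F) : Matrix ι ι F) *ᵥ ((g : Matrix ι ι F) *ᵥ v) = v := by
  rw [Matrix.mulVec_mulVec, ← Units.val_mul, inv_mul_cancel, Units.val_one, Matrix.one_mulVec]

lemma mulVec_inv_mulVec (g : GL ι F) (v : ι → F) :
    (g : Matrix ι ι F) *ᵥ (((g⁻¹ : GL ι F) : Matrix ι ι F) *ᵥ v) = v := by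
  rw [Matrix.mulVec_mulVec, ← Units.val_mul, mul_inv_cancel, Units.val_one, Matrix.one_mulVec]

lemma col_ne_zero (g : GL ι F) (j : ι) : (g : Matrix ι ι F).col j ≠ 0 := by
  intro h
  rw [← Matrix.mulVec_single_one] at h
  have h2 : (g : Matrix ι ι F) *ᵥ (Pi.single j (1 : F)) = (g : Matrix ι ι F) *ᵥ 0 := by
    rw [h, Matrix.mulVec_zero]
  have h3 := mulVec_inj g h2
  have := congrFun h3 j
  simp at this

lemma entry_ne_zero_of_colAt (g : GL ι F) {j i : ι} (h : ColAt (g : Matrix ι ι F) j i) :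
    (g : Matrix ι ι F) i j ≠ 0 := by
  intro h0
  apply col_ne_zero g j
  rw [(colAt_iff_col _ j i).mp h, h0, zero_smul]

/-- for a monomial invertible matrix the row index of column `j` is an injective function of `j` -/
lemma colAt_inj (g : GL ι F) {j j' i : ι} (h : ColAt (g : Matrix ι ι F) j i)
    (h' : ColAt (g : Matrix ι ι F) j' i) : j = j' := by
  by_contra hne
  have e1 := mulVec_single_of_colAt h
  have e2 := mulVec_single_of_colAt h'
  have hv : (g : Matrix ι ι F) *ᵥ ((g : Matrix ι ι F) i j' • (Pi.single j (1 : F) : ι → F)) =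
      (g : Matrix ι ι F) *ᵥ ((g : Matrix ι ι F) i j • (Pi.single j' (1 : F) : ι → F)) := by
    rw [Matrix.mulVec_smul, Matrix.mulVec_smul, e1, e2, smul_smul, smul_smul, mul_comm]
  have h3 := mulVec_inj g hv
  have := congrFun h3 j
  rw [Pi.smul_apply, Pi.smul_apply, Pi.single_eq_same, Pi.single_apply, if_neg hne, smul_zero,
    smul_eq_mul, mul_one] at this
  exact entry_ne_zero_of_colAt g h' this

lemma isMono_inv (g : GL ι F) (hg : IsMono (g : Matrix ι ι F)) :
    IsMono ((g⁻¹ : GL ι F) : Matrix ι ι F) := by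
  classical
  choose f hf using hg
  have hinj : Function.Injective f := by
    intro j j' hjj
    have h1 := hf j
    have h2 := hf j'
    rw [← hjj] at h2
    exact colAt_inj g h1 h2
  have hsurj : Function.Surjective f := Finite.surjective_of_injective hinj
  intro i
  obtain ⟨j, rfl⟩ := hsurj i
  refine ⟨j, ?_⟩
  apply colAt_of_mulVec_single (c := ((g : Matrix ι ι F) (f j) j)⁻¹)
  have e1 := mulVec_single_of_colAt (hf j)
  have hne := entry_ne_zero_of_colAt g (hf j)
  have : (Pi.single (f j) (1 : F) : ι → F) =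
      ((g : Matrix ι ι F) (f j) j)⁻¹ • ((g : Matrix ι ι F) *ᵥ (Pi.single j (1 : F))) := by
    rw [e1, smul_smul, inv_mul_cancel₀ hne, one_smul]
  rw [this, Matrix.mulVec_smul, inv_mulVec_mulVec]

lemma isMono_one : IsMono (1 : Matrix ι ι F) := by
  intro j
  exact ⟨j, fun k hk => Matrix.one_apply_ne hk⟩

/-- a monomial element of `GL` maps coordinate vectors to multiples of coordinate vectors -/
lemma IsMono.mulVec_single {g : Matrix ι ι F} (hg : IsMono g) (k : ι) :
    ∃ k' : ι, ∃ c : F, g *ᵥ (Pi.single k (1 : F)) = c • (Pi.single k' (1 : F) : ι → F) := by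
  obtain ⟨i, hi⟩ := hg k
  exact ⟨i, g i k, mulVec_single_of_colAt hi⟩

/-- MW0: in world (W) an element of `M` fixing one frame line permutes the frame lines. -/
theorem perm_frame (M : Subgroup (GL ι F)) (hW : WorldW M) (B g : GL ι F) (hB : B ∈ M) (hg : g ∈ M)
    (l : ι) (c : F)
    (hfix : (g : Matrix ι ι F) *ᵥ Matrix.col (B : Matrix ι ι F) l =
      c • Matrix.col (B : Matrix ι ι F) l) :
    ∀ k, ∃ k' : ι, ∃ c' : F,
      (g : Matrix ι ι F) *ᵥ Matrix.col (B : Matrix ι ι F) k =
        c' • Matrix.col (B : Matrix ι ι F) k' := by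
  have hX : B⁻¹ * g * B ∈ M := M.mul_mem (M.mul_mem (M.inv_mem hB) hg) hB
  have hXl : ((B⁻¹ * g * B : GL ι F) : Matrix ι ι F) *ᵥ (Pi.single l (1 : F)) =
      c • (Pi.single l (1 : F) : ι → F) := by
    rw [Units.val_mul, Units.val_mul, ← Matrix.mulVec_mulVec, ← Matrix.mulVec_mulVec,
      Matrix.mulVec_single_one, hfix, Matrix.mulVec_smul, ← Matrix.mulVec_single_one,
      inv_mulVec_mulVec]
  have hmono : IsMono ((B⁻¹ * g * B : GL ι F) : Matrix ι ι F) :=
    hW _ hX ⟨l, l, colAt_of_mulVec_single hXl⟩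
  intro k
  obtain ⟨k', c', hk⟩ := hmono.mulVec_single k
  refine ⟨k', c', ?_⟩
  have h2 : (B : Matrix ι ι F) *ᵥ (((B⁻¹ * g * B : GL ι F) : Matrix ι ι F) *ᵥ
      (Pi.single k (1 : F))) = (B : Matrix ι ι F) *ᵥ (c' • (Pi.single k' (1 : F) : ι → F)) := by
    rw [hk]
  rw [Units.val_mul, Units.val_mul, ← Matrix.mulVec_mulVec, ← Matrix.mulVec_mulVec,
    mulVec_inv_mulVec, Matrix.mulVec_single_one, Matrix.mulVec_smul,
    Matrix.mulVec_single_one] at h2
  exact h2

end Cfsg.Agent.Lib.Helper11.Mono
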