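import Mathlib
import Cfsg.Prelude.Def_GeometricClasses
import Cfsg.Agent.Lib.Helper11.MonoDefs
import Cfsg.Agent.Lib.Helper11.MonoBasic
import Cfsg.Agent.Lib.Helper2.MonoMA
import Cfsg.Agent.Lib.Helper7.MonoMB
import Cfsg.Agent.Lib.Helper7.MonoMC
import Cfsg.Agent.Lib.Helper9.MonoMD
import Cfsg.Agent.Lib.Helper23.MonoME
import Cfsg.Agent.Lib.Helper29.MonoG1
import Cfsg.Agent.Lib.Helper29.MonoG2
import Cfsg.Agent.Lib.Helper29.MonoWb2
import Cfsg.Agent.Lib.Helper27.MonoG34core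
import Cfsg.Agent.Lib.Helper15.MonoWa1
import Cfsg.Agent.Lib.Helper20.MonoWb1
import Cfsg.Agent.Lib.Helper6.MonoWd

/-!
Assemblies MF (GL_r lemma) and MWa (density) for S5634, case `m = 1`.
-/

set_option autoImplicit false

namespace Cfsg.Agent.Lib.Helper11.Mono
open Matrix

variable {F : Type*} [Field F] [Fintype F] {ι : Type} [Fintype ι] [DecidableEq ι]

/-- MF: the `GL_r` lemma. -/
theorem hasTransv_of_full (h3 : 3 ≤ Fintype.card ι) (hq : 5 ≤ Fintype.card F)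
    (G : Subgroup (GL ι F)) (hN : ContainsN G) (A : GL ι F) (hA : A ∈ G)
    (hnm : ¬ IsMono (A : Matrix ι ι F)) : HasTransv G := by
  by_contra hno
  have hD : ∀ s : ι → Fˣ, dg s ∈ G := fun s => dg_mem_of_containsN hN s
  have hsym : ∀ X : GL ι F, X ∈ G → ∀ i k, (X : Matrix ι ι F) i k = 0 →
      ((X⁻¹ : GL ι F) : Matrix ι ι F) k i = 0 := by
    intro X hX i k h0
    by_contra h1
    exact hno (Cfsg.Agent.Lib.Helper7.MonoLeaf.hasTransv_of_asym (by omega) G hD X hX i k h0 h1)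
  obtain ⟨A', hA', k, l₁, l₂, l₃, h12, h13, h23, e1, e2, e3⟩ :=
    Cfsg.Agent.Lib.Helper9.MonoLeaf.exists_col_three h3 (by omega) G hN A hA hnm
  have hne : ∀ l, (A' : Matrix ι ι F) l k ≠ 0 → ((A'⁻¹ : GL ι F) : Matrix ι ι F) k l ≠ 0 := by
    intro l hl h0
    have := hsym A'⁻¹ (G.inv_mem hA') k l h0
    rw [inv_inv] at this
    exact hl this
  have hc : ∀ l, (A' : Matrix ι ι F) l k ≠ 0 →
      ((A'⁻¹ : GL ι F) : Matrix ι ι F) k l * (((A'⁻¹)⁻¹ : GL ι F) : Matrix ι ι F) l k ≠ 0 := by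
    intro l hl
    rw [inv_inv]
    exact mul_ne_zero (hne l hl) hl
  obtain ⟨X, hX, hX0, hX1⟩ := Cfsg.Agent.Lib.Helper23.MonoLeaf.asym_of_three hq G hD A'⁻¹ (G.inv_mem hA') k l₁ l₂ l₃ h12 h13 h23
    (hc _ e1) (hc _ e2) (hc _ e3)
  exact hno (Cfsg.Agent.Lib.Helper7.MonoLeaf.hasTransv_of_asym (by omega) G hD X hX k k hX0 hX1)

/-- a row of an invertible matrix is non-zero -/
lemma exists_row_ne_zero (B : GL ι F) (c : ι) : ∃ m, (B : Matrix ι ι F) c m ≠ 0 := by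
  by_contra h
  push Not at h
  have h1 : ((B * B⁻¹ : GL ι F) : Matrix ι ι F) c c = 1 := by
    rw [mul_inv_cancel, Units.val_one, Matrix.one_apply_eq]
  rw [Units.val_mul, Matrix.mul_apply] at h1
  rw [Finset.sum_eq_zero (fun m _ => by rw [h m, zero_mul])] at h1
  exact zero_ne_one h1

/-- three distinct indices outside `{c, c'}` -/
lemma exists_three_ne (h5 : 5 ≤ Fintype.card ι) (c c' : ι) :
    ∃ c₁ c₂ c₃ : ι, c₁ ≠ c₂ ∧ c₁ ≠ c₃ ∧ c₂ ≠ c₃ ∧ c₁ ≠ c ∧ c₁ ≠ c' ∧ c₂ ≠ c ∧ c₂ ≠ c' ∧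
      c₃ ≠ c ∧ c₃ ≠ c' := by
  classical
  have hcard : 2 < ((Finset.univ : Finset ι) \ {c, c'}).card := by
    have h1 := Finset.card_sdiff_add_card_inter (Finset.univ : Finset ι) {c, c'}
    have h2 : ((Finset.univ : Finset ι) ∩ {c, c'}).card ≤ 2 :=
      le_trans (Finset.card_le_card Finset.inter_subset_right) Finset.card_le_two
    rw [Finset.card_univ] at h1
    omega
  obtain ⟨a, ha, b, hb, d, hd, hab, had, hbd⟩ := Finset.two_lt_card.mp hcard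
  simp only [Finset.mem_sdiff, Finset.mem_univ, Finset.mem_insert, Finset.mem_singleton,
    true_and, not_or] at ha hb hd
  exact ⟨a, b, d, hab, had, hbd, ha.1, ha.2, hb.1, hb.2, hd.1, hd.2⟩

/-- MWa: every column of a non-monomial `B ∈ M` has at most one zero (world (W)). -/
theorem dense_of_worldW (h5 : 5 ≤ Fintype.card ι) (hq : 5 ≤ Fintype.card F)
    (M : Subgroup (GL ι F)) (hH : ContainsH M) (hW : WorldW M) (B : GL ι F) (hB : B ∈ M)
    (hnm : ¬ IsMono (B : Matrix ι ι F)) (j c c' : ι) (hcc : c ≠ c')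
    (h1 : (B : Matrix ι ι F) c j = 0) (h2 : (B : Matrix ι ι F) c' j = 0) : False := by
  obtain ⟨m, hm⟩ := exists_row_ne_zero B c
  obtain ⟨-, hsupp⟩ := Cfsg.Agent.Lib.Helper15.MonoLeaf.dichotomy hq M hH hW B hB hnm j c c' hcc h1 h2 m hm
  obtain ⟨c₁, c₂, c₃, h12, h13, h23, h1c, h1c', h2c, h2c', h3c, h3c'⟩ := exists_three_ne h5 c c'
  obtain ⟨m', hm'⟩ := exists_row_ne_zero B c₁
  obtain ⟨-, hs2⟩ := Cfsg.Agent.Lib.Helper15.MonoLeaf.dichotomy hq M hH hW B hB hnm m c₁ c₂ h12 (hsupp c₁ h1c h1c')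
    (hsupp c₂ h2c h2c') m' hm'
  obtain ⟨-, hs3⟩ := Cfsg.Agent.Lib.Helper15.MonoLeaf.dichotomy hq M hH hW B hB hnm m c₁ c₃ h13 (hsupp c₁ h1c h1c')
    (hsupp c₃ h3c h3c') m' hm'
  apply hnm
  apply hW B hB
  refine ⟨m', c₁, fun k hk => ?_⟩
  by_cases hk2 : k = c₂
  · subst hk2
    exact hs3 k hk h23
  · exact hs2 k hk hk2

end Cfsg.Agent.Lib.Helper11.Mono
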