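import Mathlib
import Cfsg.Prelude.Def_GeometricClasses
import Cfsg.Agent.Lib.Helper11.MonoDefs
import Cfsg.Agent.Lib.Helper11.MonoBasic
import Cfsg.Agent.Lib.Helper2.MonoMA
import Cfsg.Agent.Lib.Helper7.MonoMB
import Cfsg.Agent.Lib.Helper7.MonoMC
import Cfsg.Agent.Lib.Helper9.MonoMD
import Cfsg.Agent.Lib.Helper23.MonoME
import Cfsg.Agent.Lib.Helper29.MonoG1
import Cfsg.Agent.Lib.Helper29.MonoG2
import Cfsg.Agent.Lib.Helper29.MonoWb2
import Cfsg.Agent.Lib.Helper27.MonoG34core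
import Cfsg.Agent.Lib.Helper15.MonoWa1
import Cfsg.Agent.Lib.Helper20.MonoWb1
import Cfsg.Agent.Lib.Helper6.MonoWd
import Cfsg.Agent.Lib.Helper11.MonoAsmA

/-!
Assembly MWb (columns proportional on common supports) for S5634, case `m = 1`.
-/

set_option autoImplicit false

namespace Cfsg.Agent.Lib.Helper11.Mono
open Matrix

variable {F : Type*} [Field F] [Fintype F] {ι : Type} [Fintype ι] [DecidableEq ι]

/-- a common non-zero row of two dense columns, outside `{a, b}` -/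
lemma exists_common_row (h5 : 5 ≤ Fintype.card ι) (B : Matrix ι ι F)
    (hdense : ∀ j c c', c ≠ c' → B c j = 0 → B c' j = 0 → False) (l m a b : ι) :
    ∃ c, c ≠ a ∧ c ≠ b ∧ B c l ≠ 0 ∧ B c m ≠ 0 := by
  by_contra hno
  push Not at hno
  obtain ⟨c₁, c₂, c₃, h12, h13, h23, h1a, h1b, h2a, h2b, h3a, h3b⟩ := exists_three_ne h5 a b
  have key : ∀ x, x ≠ a → x ≠ b → B x l = 0 ∨ B x m = 0 := by
    intro x hxa hxb
    by_cases h : B x l = 0
    · exact Or.inl h
    · exact Or.inr (hno x hxa hxb h)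
  rcases key c₁ h1a h1b with k1 | k1 <;> rcases key c₂ h2a h2b with k2 | k2 <;>
    rcases key c₃ h3a h3b with k3 | k3
  · exact hdense l c₁ c₂ h12 k1 k2
  · exact hdense l c₁ c₂ h12 k1 k2
  · exact hdense l c₁ c₃ h13 k1 k3
  · exact hdense m c₂ c₃ h23 k2 k3
  · exact hdense l c₂ c₃ h23 k2 k3
  · exact hdense m c₁ c₃ h13 k1 k3
  · exact hdense m c₁ c₂ h12 k1 k2
  · exact hdense m c₁ c₂ h12 k1 k2

/-- MWb: two columns of a non-monomial `B ∈ M` are proportional on their common support. -/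
theorem prop_of_worldW (h10 : 10 ≤ Fintype.card ι) (hq : 5 ≤ Fintype.card F)
    (M : Subgroup (GL ι F)) (hH : ContainsH M) (hW : WorldW M) (B : GL ι F) (hB : B ∈ M)
    (hnm : ¬ IsMono (B : Matrix ι ι F))
    (hdense : ∀ j c c', c ≠ c' → (B : Matrix ι ι F) c j = 0 → (B : Matrix ι ι F) c' j = 0 → False)
    (l m a b : ι) (hal : (B : Matrix ι ι F) a l ≠ 0) (ham : (B : Matrix ι ι F) a m ≠ 0)
    (hbl : (B : Matrix ι ι F) b l ≠ 0) (hbm : (B : Matrix ι ι F) b m ≠ 0) :
    (B : Matrix ι ι F) a l * (B : Matrix ι ι F) b m =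
      (B : Matrix ι ι F) b l * (B : Matrix ι ι F) a m := by
  by_contra hne
  have hab : a ≠ b := by
    rintro rfl
    exact hne rfl
  obtain ⟨c, hca, hcb, hcl, hcm⟩ := exists_common_row (by omega) (B : Matrix ι ι F) hdense l m a b
  set u : ι → F := Matrix.col (B : Matrix ι ι F) l with hu
  set w : ι → F := Matrix.col (B : Matrix ι ι F) m with hw
  have hua : u a ≠ 0 := hal
  have hub : u b ≠ 0 := hbl
  have huc : u c ≠ 0 := hcl
  have hwa : w a ≠ 0 := ham
  have hwb : w b ≠ 0 := hbm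
  have hwc : w c ≠ 0 := hcm
  obtain ⟨g₁, hg₁mono, hg₁sl, hg₁fix, hg₁f⟩ :=
    Cfsg.Agent.Lib.Helper29.MonoLeaf.exists_twist u a b c hab (Ne.symm hca) (Ne.symm hcb) hua hub huc
  obtain ⟨g₂, hg₂mono, hg₂sl, hg₂fix, hg₂f⟩ :=
    Cfsg.Agent.Lib.Helper29.MonoLeaf.exists_twist w a b c hab (Ne.symm hca) (Ne.symm hcb) hwa hwb hwc
  have hg₁M : g₁ ∈ M := hH g₁ hg₁mono hg₁sl
  have hg₂M : g₂ ∈ M := hH g₂ hg₂mono hg₂sl
  have perm₁ := perm_frame M hW B g₁ hB hg₁M l 1 (by rw [one_smul]; exact hg₁fix)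
  have hg₂inv : ((g₂⁻¹ : GL ι F) : Matrix ι ι F) *ᵥ w = w := by
    have := inv_mulVec_mulVec g₂ w
    rwa [hg₂fix] at this
  have perm₂ := perm_frame M hW B g₂⁻¹ hB (M.inv_mem hg₂M) m 1 (by rw [one_smul]; exact hg₂inv)
  -- the diagonal element
  have hsb : u b / u a / (w b / w a) ≠ 0 := div_ne_zero (div_ne_zero hub hua) (div_ne_zero hwb hwa)
  have hsc : u c / u b / (w c / w b) ≠ 0 := div_ne_zero (div_ne_zero huc hub) (div_ne_zero hwc hwb)
  have hsa : u a / u c / (w a / w c) ≠ 0 := div_ne_zero (div_ne_zero hua huc) (div_ne_zero hwa hwc)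
  set s : ι → Fˣ := fun x =>
    if x = b then Units.mk0 _ hsb else if x = c then Units.mk0 _ hsc
    else if x = a then Units.mk0 _ hsa else 1 with hs
  have hs_b : s b = Units.mk0 _ hsb := by simp [hs]
  have hs_c : s c = Units.mk0 _ hsc := by simp [hs, hcb]
  have hs_a : s a = Units.mk0 _ hsa := by simp [hs, hab, Ne.symm hca]
  have hs_o : ∀ x, x ≠ a → x ≠ b → x ≠ c → s x = 1 := by
    intro x hxa hxb hxc
    simp [hs, hxa, hxb, hxc]
  have key : ∀ v : ι → F, ((dg s : GL ι F) : Matrix ι ι F) *ᵥ ((g₂ : Matrix ι ι F) *ᵥ v) =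
      (g₁ : Matrix ι ι F) *ᵥ v := by
    intro v
    rw [dg_mulVec, hg₂f, hg₁f]
    ext x
    by_cases hxb : x = b
    · subst hxb
      rw [hs_b]
      simp only [if_true, Units.val_mk0]
      field_simp
    · by_cases hxc : x = c
      · subst hxc
        rw [hs_c]
        simp only [if_neg hxb, if_true, Units.val_mk0]
        field_simp
      · by_cases hxa : x = a
        · subst hxa
          rw [hs_a]
          simp only [if_neg hxb, if_neg hxc, if_true, Units.val_mk0]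
          field_simp
        · rw [hs_o x hxa hxb hxc]
          simp only [if_neg hxb, if_neg hxc, if_neg hxa, Units.val_one, one_mul]
  have hperm : ∀ k, ∃ k' : ι, ∃ c' : F,
      ((dg s : GL ι F) : Matrix ι ι F) *ᵥ Matrix.col (B : Matrix ι ι F) k =
        c' • Matrix.col (B : Matrix ι ι F) k' := by
    intro k
    obtain ⟨k₁, c₁, e₁⟩ := perm₂ k
    obtain ⟨k₂, c₂, e₂⟩ := perm₁ k₁
    refine ⟨k₂, c₁ * c₂, ?_⟩
    have h0 : Matrix.col (B : Matrix ι ι F) k = (g₂ : Matrix ι ι F) *ᵥ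
        (((g₂⁻¹ : GL ι F) : Matrix ι ι F) *ᵥ Matrix.col (B : Matrix ι ι F) k) :=
      (mulVec_inv_mulVec g₂ _).symm
    rw [h0, key, e₁, Matrix.mulVec_smul, e₂, smul_smul]
  have hprod : s a * s b * s c = 1 := by
    rw [hs_a, hs_b, hs_c]
    apply Units.ext
    simp only [Units.val_mul, Units.val_mk0, Units.val_one]
    field_simp
  have hs1 := Cfsg.Agent.Lib.Helper20.MonoLeaf.no_small_torus h10 B hdense s a b c hab (Ne.symm hca) (Ne.symm hcb) hs_o hprod hperm
  have hb1 : s b = 1 := by rw [hs1]; rfl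
  rw [hs_b] at hb1
  have hb2 := congrArg Units.val hb1
  rw [Units.val_mk0, Units.val_one] at hb2
  apply hne
  have hb3 : u b * w a = u a * w b := by
    field_simp at hb2
    linear_combination hb2
  change u a * w b = u b * w a
  exact hb3.symm

end Cfsg.Agent.Lib.Helper11.Mono
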