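import Mathlib
import Cfsg.Prelude.Def_GeometricClasses
import Cfsg.Agent.Lib.Helper11.MonoDefs
import Cfsg.Agent.Lib.Helper11.MonoBasic
import Cfsg.Agent.Lib.Helper2.MonoMA
import Cfsg.Agent.Lib.Helper7.MonoMB
import Cfsg.Agent.Lib.Helper7.MonoMC
import Cfsg.Agent.Lib.Helper9.MonoMD
import Cfsg.Agent.Lib.Helper23.MonoME
import Cfsg.Agent.Lib.Helper29.MonoG1
import Cfsg.Agent.Lib.Helper29.MonoG2
import Cfsg.Agent.Lib.Helper29.MonoWb2
import Cfsg.Agent.Lib.Helper27.MonoG34core
import Cfsg.Agent.Lib.Helper15.MonoWa1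
import Cfsg.Agent.Lib.Helper20.MonoWb1
import Cfsg.Agent.Lib.Helper6.MonoWd
import Cfsg.Agent.Lib.Helper11.MonoAsmA
import Cfsg.Agent.Lib.Helper11.MonoAsmB

/-!
Assemblies MG (reduction to world (W)) and MZ (standard frame) for S5634, case `m = 1`.
-/

set_option autoImplicit false

namespace Cfsg.Agent.Lib.Helper11.Mono
open Matrix

variable {F : Type*} [Field F] [Fintype F] {ι : Type} [Fintype ι] [DecidableEq ι]

lemma card_subtype_ne' (r : ι) : Fintype.card {k : ι // k ≠ r} = Fintype.card ι - 1 := by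
  classical
  rw [Fintype.card_subtype_compl (fun k => k = r)]
  simp

/-- a third index -/
lemma exists_third (h3 : 3 ≤ Fintype.card ι) (i j : ι) : ∃ k : ι, k ≠ i ∧ k ≠ j := by
  classical
  by_contra h
  push Not at h
  have hsub : (Finset.univ : Finset ι) ⊆ {i, j} := by
    intro k _
    by_cases hk : k = i
    · simp [hk]
    · simp [h k hk]
  have := Finset.card_le_card hsub
  rw [Finset.card_univ] at this
  have h2 : ({i, j} : Finset ι).card ≤ 2 := Finset.card_le_two
  omega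

/-- a monomial element of determinant one mapping `e_i` to `e_j` -/
lemma exists_mono_move (h3 : 3 ≤ Fintype.card ι) (i j : ι) :
    ∃ h : GL ι F, IsMono (h : Matrix ι ι F) ∧ h ∈ Cfsg.Geo.specialLinear ι F ∧
      ColAt (h : Matrix ι ι F) i j := by
  by_cases hij : i = j
  · subst hij
    refine ⟨1, ?_, Subgroup.one_mem _, ?_⟩
    · rw [Units.val_one]; exact isMono_one
    · rw [Units.val_one]; exact fun k hk => Matrix.one_apply_ne hk
  · obtain ⟨k, hki, hkj⟩ := exists_third h3 i j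
    obtain ⟨g, hmono, hsl, -, hf⟩ := Cfsg.Agent.Lib.Helper29.MonoLeaf.exists_twist (fun _ : ι => (1 : F)) i j k hij (Ne.symm hki)
      (Ne.symm hkj) one_ne_zero one_ne_zero one_ne_zero
    refine ⟨g, hmono, hsl, ?_⟩
    apply colAt_of_mulVec_single (c := 1)
    rw [hf, one_smul]
    ext x
    by_cases hxj : x = j
    · subst hxj
      simp
    · by_cases hxk : x = k
      · subst hxk
        simp [hxj, hkj, Ne.symm hij, hij]
      · by_cases hxi : x = i
        · subst hxi
          simp [hxj, hxk, hki, Ne.symm hki]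
        · simp [hxj, hxk, hxi]

/-- MG: either `M` contains an elementary transvection or world (W) holds. -/
theorem worldW_or_hasTransv (h5 : 5 ≤ Fintype.card ι) (hq : 5 ≤ Fintype.card F)
    (M : Subgroup (GL ι F)) (hMS : M ≤ Cfsg.Geo.specialLinear ι F) (hH : ContainsH M) :
    HasTransv M ∨ WorldW M := by
  by_cases hT : HasTransv M
  · exact Or.inl hT
  right
  have hMB : ∀ y : GL ι F, y ∈ M → ∀ r : ι,
      (∀ i j, i ≠ r → (y : Matrix ι ι F) i j = if i = j then 1 else 0) →
      (y : Matrix ι ι F) r r = 1 → y ≠ 1 → HasTransv M :=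
    fun y hy r hrow hrr hne =>
      Cfsg.Agent.Lib.Helper7.MonoLeaf.hasTransv_of_row (by omega) (by omega) M hH y hy r hrow hrr hne
  intro g hg ⟨j, i, hji⟩
  -- move row `i` to row `j`
  obtain ⟨h, hhmono, hhsl, hhcol⟩ := exists_mono_move (F := F) (by omega) i j
  have hhM : h ∈ M := hH h hhmono hhsl
  have hg'M : h * g ∈ M := M.mul_mem hhM hg
  have hcol' : ColAt ((h * g : GL ι F) : Matrix ι ι F) j j := by
    rw [Units.val_mul]
    exact colAt_mul hji hhcol
  have hback : IsMono ((h * g : GL ι F) : Matrix ι ι F) → IsMono (g : Matrix ι ι F) := by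
    intro hm
    have : g = h⁻¹ * (h * g) := by group
    rw [this, Units.val_mul]
    exact (isMono_inv h hhmono).mul hm
  apply hback
  by_cases hb : IsMono (((h * g : GL ι F) : Matrix ι ι F).submatrix
      (Subtype.val : {k : ι // k ≠ j} → ι) Subtype.val)
  · rcases Cfsg.Agent.Lib.Helper27.MonoLeaf.isMono_or_hasTransv_of_block_mono_of M hMB hMS hH j
      (h * g) hg'M hcol' hb with h1 | h1
    · exact h1
    · exact absurd h1 hT
  · exfalso
    obtain ⟨G, hG⟩ := Cfsg.Agent.Lib.Helper29.MonoLeaf.exists_proj_subgroup M j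
    have hGN : ContainsN G := by
      intro A hA
      obtain ⟨ĝ, hĝmono, hĝsl, hĝcol, hĝblk⟩ := Cfsg.Agent.Lib.Helper29.MonoLeaf.exists_lift_mono j A hA
      exact (hG A).mpr ⟨ĝ, hH ĝ hĝmono hĝsl, hĝcol, hĝblk⟩
    obtain ⟨A₀, hA₀⟩ := Cfsg.Agent.Lib.Helper29.MonoLeaf.exists_block_gl (h * g) j hcol'
    have hA₀G : A₀ ∈ G := (hG A₀).mpr ⟨h * g, hg'M, hcol', hA₀.symm⟩
    have hA₀nm : ¬ IsMono (A₀ : Matrix {k : ι // k ≠ j} {k : ι // k ≠ j} F) := by
      rw [hA₀]; exact hb
    have hcard : 3 ≤ Fintype.card {k : ι // k ≠ j} := by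
      rw [card_subtype_ne']; omega
    obtain ⟨i', j', hij', c, hc, t, htG, htval⟩ := hasTransv_of_full hcard hq G hGN A₀ hA₀G hA₀nm
    obtain ⟨g'', hg''M, hg''col, hg''blk⟩ := (hG t).mp htG
    rw [htval] at hg''blk
    exact hT (Cfsg.Agent.Lib.Helper27.MonoLeaf.hasTransv_of_block_transv_of h5 (by omega) M hMB hMS
      hH j g'' hg''M hg''col i' j' hij' c hc hg''blk)

/-- MZ: the standard frame. -/
theorem std_main (h13 : 13 ≤ Fintype.card ι) (hq : 5 ≤ Fintype.card F)
    (M : Subgroup (GL ι F)) (hMS : M ≤ Cfsg.Geo.specialLinear ι F) (hH : ContainsH M)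
    (B : GL ι F) (hB : B ∈ M) (hnm : ¬ IsMono (B : Matrix ι ι F)) :
    Cfsg.Geo.specialLinear ι F ≤ M := by
  by_contra hns
  have hnoT : ¬ HasTransv M := fun hT => hns (Cfsg.Agent.Lib.Helper2.MonoLeaf.sl_le_of_hasTransv (by omega) M hH hT)
  have hW : WorldW M := by
    rcases worldW_or_hasTransv (by omega) hq M hMS hH with h | h
    · exact absurd h hnoT
    · exact h
  have hdenseAll : ∀ X : GL ι F, X ∈ M → ¬ IsMono (X : Matrix ι ι F) → ∀ j c c', c ≠ c' →
      (X : Matrix ι ι F) c j = 0 → (X : Matrix ι ι F) c' j = 0 → False :=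
    fun X hX hXnm j c c' hcc h1 h2 =>
      dense_of_worldW (by omega) hq M hH hW X hX hXnm j c c' hcc h1 h2
  have hprop := prop_of_worldW (by omega) hq M hH hW B hB hnm (hdenseAll B hB hnm)
  exact Cfsg.Agent.Lib.Helper6.MonoLeaf.false_of_dense_prop h13 hq M hH B hB hnm hdenseAll hprop

end Cfsg.Agent.Lib.Helper11.Mono
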