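import Mathlib
import Cfsg.Prelude.Def_GeometricClasses
import Cfsg.Agent.Lib.Helper11.MonoDefs
import Cfsg.Agent.Lib.Helper11.MonoBasic
import Cfsg.Agent.Lib.Helper11.MonoAsmC

/-!
MT: transport of the standard-frame theorem to an arbitrary decomposition into lines.
-/

set_option autoImplicit false

namespace Cfsg.Agent.Lib.Helper11.Mono
open Matrix

variable {F : Type*} [Field F] {ι : Type} [Fintype ι] [DecidableEq ι]

/-- a monomial element of `GL` has a column permutation -/
lemma exists_perm_of_isMono (g : GL ι F) (hg : IsMono (g : Matrix ι ι F)) :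
    ∃ σ : Equiv.Perm ι, ∀ j, ColAt (g : Matrix ι ι F) j (σ j) := by
  classical
  choose f hf using hg
  have hinj : Function.Injective f := by
    intro j j' hjj
    have h1 := hf j
    have h2 := hf j'
    rw [← hjj] at h2
    exact colAt_inj g h1 h2
  exact ⟨Equiv.ofBijective f ⟨hinj, Finite.surjective_of_injective hinj⟩, fun j => hf j⟩

section Transport
variable [Fintype F] {n : ℕ}

/-- conjugating a monomial matrix by `P` gives an element of the stabiliser of the frame of
columns of `P` -/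
lemma conj_mem_stab (D : Fin n → Submodule F (Fin n → F)) (P : GL (Fin n) F)
    (hP : ∀ j, D j = Submodule.span F {(P : Matrix (Fin n) (Fin n) F) *ᵥ (Pi.single j (1 : F))})
    (h : GL (Fin n) F) (hmono : IsMono (h : Matrix (Fin n) (Fin n) F)) :
    P * h * P⁻¹ ∈ Cfsg.Geo.decompositionStabilizer D := by
  obtain ⟨σ, hσ⟩ := exists_perm_of_isMono h hmono
  refine ⟨σ, fun i => ?_⟩
  rw [hP i, hP (σ i), Submodule.map_span, Set.image_singleton, Matrix.toLin'_apply]
  have e1 : ((P * h * P⁻¹ : GL (Fin n) F) : Matrix (Fin n) (Fin n) F) *ᵥ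
      ((P : Matrix (Fin n) (Fin n) F) *ᵥ (Pi.single i (1 : F))) =
      (h : Matrix (Fin n) (Fin n) F) (σ i) i •
        ((P : Matrix (Fin n) (Fin n) F) *ᵥ (Pi.single (σ i) (1 : F))) := by
    rw [Units.val_mul, Units.val_mul, ← Matrix.mulVec_mulVec, ← Matrix.mulVec_mulVec,
      inv_mulVec_mulVec, mulVec_single_of_colAt (hσ i), Matrix.mulVec_smul]
  rw [e1]
  exact Submodule.span_singleton_smul_eq
    (IsUnit.mk0 _ (entry_ne_zero_of_colAt h (hσ i))) _

/-- MT: the interface for S5634, case `m = 1`. -/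
theorem m1_core (hn : 13 ≤ n) (hq : 5 ≤ Fintype.card F) {t : ℕ}
    (D : Fin t → Submodule F (Fin n → F)) (hD : Cfsg.Geo.IsMDecomposition 1 D)
    (M : Subgroup (GL (Fin n) F))
    (hHM : Cfsg.Geo.decompositionStabilizer D ⊓ Cfsg.Geo.specialLinear (Fin n) F ≤ M)
    (hMS : M ≤ Cfsg.Geo.specialLinear (Fin n) F)
    (hne : M ≠ Cfsg.Geo.decompositionStabilizer D ⊓ Cfsg.Geo.specialLinear (Fin n) F) :
    M = Cfsg.Geo.specialLinear (Fin n) F := by
  classical
  -- generators of the lines
  have hgen : ∀ i, ∃ x : Fin n → F, x ≠ 0 ∧ D i = Submodule.span F {x} := by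
    intro i
    have h1 := hD.finrank_eq i
    obtain ⟨v, hv0, hv⟩ := finrank_eq_one_iff'.mp h1
    refine ⟨v, fun h => hv0 (Subtype.ext h), ?_⟩
    apply le_antisymm
    · intro w hw
      obtain ⟨c, hc⟩ := hv ⟨w, hw⟩
      rw [Submodule.mem_span_singleton]
      exact ⟨c, by simpa using congrArg Subtype.val hc⟩
    · rw [Submodule.span_singleton_le_iff_mem]
      exact v.2
  choose x hx0 hxD using hgen
  have hli : LinearIndependent F x :=
    hD.indep.linearIndependent D (fun i => by rw [hxD i]; exact Submodule.mem_span_singleton_self _)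
      hx0
  have hsp : ⊤ ≤ Submodule.span F (Set.range x) := by
    rw [Submodule.span_range_eq_iSup, ← hD.iSup_eq_top]
    exact le_of_eq (iSup_congr fun i => hxD i)
  let b : Module.Basis (Fin t) F (Fin n → F) := Module.Basis.mk hli hsp
  have ht : t = n := by
    have h1 := Module.finrank_eq_card_basis b
    rw [Module.finrank_fin_fun, Fintype.card_fin] at h1
    exact h1.symm
  subst ht
  have hb : ∀ i, b i = x i := fun i => Module.Basis.mk_apply hli hsp i
  -- the change of basis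
  let φ : (Fin t → F) ≃ₗ[F] (Fin t → F) := b.equivFun.symm
  have hφ : ∀ j, φ (Pi.single j (1 : F)) = x j := by
    intro j
    change b.equivFun.symm (Pi.single j 1) = x j
    rw [Module.Basis.equivFun_symm_apply]
    simp [Pi.single_apply, hb]
  let P : GL (Fin t) F :=
    ⟨LinearMap.toMatrix' (φ : (Fin t → F) →ₗ[F] (Fin t → F)),
      LinearMap.toMatrix' (φ.symm : (Fin t → F) →ₗ[F] (Fin t → F)),
      by rw [← LinearMap.toMatrix'_comp]; simp,
      by rw [← LinearMap.toMatrix'_comp]; simp⟩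
  have hPv : ∀ v, (P : Matrix (Fin t) (Fin t) F) *ᵥ v = φ v := by
    intro v
    change LinearMap.toMatrix' (φ : (Fin t → F) →ₗ[F] (Fin t → F)) *ᵥ v = φ v
    rw [LinearMap.toMatrix'_mulVec]
    rfl
  have hP : ∀ j, D j = Submodule.span F
      {(P : Matrix (Fin t) (Fin t) F) *ᵥ (Pi.single j (1 : F))} := by
    intro j
    rw [hPv, hφ, hxD j]
  -- the conjugated group
  let ψ : GL (Fin t) F →* GL (Fin t) F := (MulAut.conj P).toMonoidHom
  have hψ : ∀ h, ψ h = P * h * P⁻¹ := fun h => rfl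
  let M' : Subgroup (GL (Fin t) F) := M.comap ψ
  have hSLn : (Cfsg.Geo.specialLinear (Fin t) F).Normal := by
    unfold Cfsg.Geo.specialLinear
    infer_instance
  have hM'S : M' ≤ Cfsg.Geo.specialLinear (Fin t) F := by
    intro h hh
    have h1 : P * h * P⁻¹ ∈ Cfsg.Geo.specialLinear (Fin t) F := hMS hh
    have h2 := hSLn.conj_mem _ h1 P⁻¹
    have h3 : P⁻¹ * (P * h * P⁻¹) * P⁻¹⁻¹ = h := by group
    rwa [h3] at h2
  have hH' : ContainsH M' := by
    intro h hmono hsl
    change ψ h ∈ M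
    rw [hψ]
    apply hHM
    exact ⟨conj_mem_stab D P hP h hmono, hSLn.conj_mem _ hsl P⟩
  -- a non-monomial element
  have hex : ∃ g ∈ M, g ∉ Cfsg.Geo.decompositionStabilizer D := by
    by_contra hno
    push Not at hno
    apply hne
    apply le_antisymm
    · intro g hg
      exact ⟨hno g hg, hMS hg⟩
    · exact hHM
  obtain ⟨g, hgM, hgD⟩ := hex
  have hB'M : P⁻¹ * g * P ∈ M' := by
    change ψ (P⁻¹ * g * P) ∈ M
    rw [hψ]
    have : P * (P⁻¹ * g * P) * P⁻¹ = g := by group
    rwa [this]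
  have hB'nm : ¬ IsMono ((P⁻¹ * g * P : GL (Fin t) F) : Matrix (Fin t) (Fin t) F) := by
    intro hmono
    apply hgD
    have := conj_mem_stab D P hP (P⁻¹ * g * P) hmono
    have h2 : P * (P⁻¹ * g * P) * P⁻¹ = g := by group
    rwa [h2] at this
  have hmain := std_main (ι := Fin t) (by rw [Fintype.card_fin]; exact hn) hq M' hM'S hH'
    (P⁻¹ * g * P) hB'M hB'nm
  apply le_antisymm hMS
  intro y hy
  have h1 : P⁻¹ * y * P⁻¹⁻¹ ∈ Cfsg.Geo.specialLinear (Fin t) F := hSLn.conj_mem _ hy P⁻¹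
  have h2 : P⁻¹ * y * P⁻¹⁻¹ ∈ M' := hmain h1
  change ψ (P⁻¹ * y * P⁻¹⁻¹) ∈ M at h2
  rw [hψ] at h2
  have h3 : P * (P⁻¹ * y * P⁻¹⁻¹) * P⁻¹ = y := by group
  rwa [h3] at h2

end Transport

end Cfsg.Agent.Lib.Helper11.Mono
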