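import Mathlib
import Cfsg.Agent.Lib.Helper5.SUMax
import Cfsg.Agent.Lib.Helper11.MonoDefs
import Cfsg.Agent.Lib.Helper11.MonoBasic
import Cfsg.Agent.Lib.Helper11.MonoTrans

/-!
S5655, case `k = 1`: transport of the standard-frame theorem (`k1_std_core`, taken as a hypothesis)
to an arbitrary non-degenerate decomposition of the unitary space into lines: an orthonormal basis
adapted to the decomposition gives a change of basis `P ∈ GU_n(q)`, which normalises
`GU_n(q) ⊓ SL_n` and carries the monomial matrices to the stabiliser of the decomposition.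
-/

set_option autoImplicit false
set_option linter.unusedSectionVars false
set_option linter.unusedVariables false

namespace Cfsg.Agent.Lib.Helper11.UTr
open Matrix Cfsg.Agent.Lib.Helper11.Mono Cfsg.Agent.Lib.Helper5.SUMax
  Cfsg.Agent.Lib.Helper5.HermBridge Cfsg.Agent.Lib.Helper5.UForm

noncomputable section

/-! ### sesquilinear expansions -/

section Abs
variable {F : Type*} [Field F] {n : ℕ} {σ : F ≃+* F}
  {f : (Fin n → F) → (Fin n → F) → F} (hf : Cfsg.Geo.IsUnitaryForm σ f)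
include hf

lemma u_sum_left {κ : Type*} (s : Finset κ) (c : κ → F) (v : κ → Fin n → F) (w : Fin n → F) :
    f (∑ i ∈ s, c i • v i) w = ∑ i ∈ s, c i * f (v i) w := by
  rw [← uL_apply hf, map_sum]
  apply Finset.sum_congr rfl
  intro i _
  rw [map_smul, smul_eq_mul, uL_apply]

lemma u_sum_right {κ : Type*} (s : Finset κ) (c : κ → F) (v : κ → Fin n → F) (w : Fin n → F) :
    f w (∑ i ∈ s, c i • v i) = ∑ i ∈ s, σ (c i) * f w (v i) := by
  rw [hf.herm, u_sum_left hf, map_sum]
  apply Finset.sum_congr rfl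
  intro i _
  rw [map_mul, ← hf.herm]

/-- the form in coordinates with respect to an orthonormal family -/
lemma u_orthonormal {κ : Type*} [Fintype κ] [DecidableEq κ] (x : κ → Fin n → F)
    (hx : ∀ i j, f (x i) (x j) = if i = j then 1 else 0) (a b : κ → F) :
    f (∑ i, a i • x i) (∑ j, b j • x j) = ∑ i, a i * σ (b i) := by
  rw [u_sum_left hf]
  apply Finset.sum_congr rfl
  intro i _
  rw [u_sum_right hf, Finset.sum_eq_single i]
  · rw [hx i i, if_pos rfl, mul_one]
  · intro j _ hji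
    rw [hx i j, if_neg (Ne.symm hji), mul_zero]
  · intro h
    exact absurd (Finset.mem_univ i) h

end Abs

section Grp
variable {F : Type*} [Field F] [Fintype F] {q n : ℕ}

/-- a matrix whose columns form an orthonormal basis is unitary -/
lemma mem_GU_of_orthonormal (hF : Fintype.card F = q ^ 2) (x : Fin n → Fin n → F)
    (hx : ∀ i j, Cfsg.hermForm n F q (x i) (x j) = if i = j then 1 else 0)
    (P : GL (Fin n) F)
    (hP : ∀ v, (P : Matrix (Fin n) (Fin n) F) *ᵥ v = ∑ i, v i • x i) :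
    P ∈ Cfsg.GU n F q := by
  rw [mem_GU]
  intro v w
  rw [hP, hP, u_orthonormal (herm_unitary hF) x hx]
  rfl

omit [Fintype F] in
lemma hermq_single_left (i : Fin n) (a : F) (w : Fin n → F) :
    Cfsg.hermForm n F q (Pi.single i a) w = a * (w i) ^ q := by
  unfold Cfsg.hermForm
  rw [Finset.sum_eq_single i]
  · rw [Pi.single_eq_same]
  · intro j _ hji
    rw [Pi.single_eq_of_ne hji, zero_mul]
  · intro h
    exact absurd (Finset.mem_univ i) h

/-- a non-monomial element of `GU_n(q) ⊓ SL_n` -/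
lemma exists_nonmono (hF : Fintype.card F = q ^ 2) (hn : 4 ≤ n) :
    ∃ g : GL (Fin n) F, g ∈ Cfsg.GU n F q ⊓ Cfsg.Geo.specialLinear (Fin n) F ∧
      ¬ IsMono (g : Matrix (Fin n) (Fin n) F) := by
  have hU := herm_unitary (n := n) hF
  obtain ⟨ζ, hζ⟩ := norm_surj hU.involutive hU.ne_refl (-1 : F) (by simp) (by simp)
  obtain ⟨c, hc0, hc⟩ := exists_skew hU.involutive hU.ne_refl
  rw [frobQ_apply] at hζ
  have hζ0 : ζ ≠ 0 := by
    intro h
    rw [h, zero_mul] at hζ
    exact one_ne_zero (neg_eq_zero.mp hζ.symm)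
  let i0 : Fin n := ⟨0, by omega⟩
  let i1 : Fin n := ⟨1, by omega⟩
  let i2 : Fin n := ⟨2, by omega⟩
  let i3 : Fin n := ⟨3, by omega⟩
  have h01 : i0 ≠ i1 := by simp [i0, i1, Fin.ext_iff]
  have h02 : i0 ≠ i2 := by simp [i0, i2, Fin.ext_iff]
  have h03 : i0 ≠ i3 := by simp [i0, i3, Fin.ext_iff]
  have h12 : i1 ≠ i2 := by simp [i1, i2, Fin.ext_iff]
  have h13 : i1 ≠ i3 := by simp [i1, i3, Fin.ext_iff]
  have h23 : i2 ≠ i3 := by simp [i2, i3, Fin.ext_iff]
  let v : Fin n → F := Pi.single i0 1 + Pi.single i1 ζ + Pi.single i2 1 + Pi.single i3 ζ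
  have hv0 : v i0 = 1 := by
    simp [v, h01, h02, h03]
  have hv1 : v i1 = ζ := by
    simp [v, h01.symm, h12, h13]
  have hv2 : v i2 = 1 := by
    simp [v, h02.symm, h12.symm, h23]
  have hv3 : v i3 = ζ := by
    simp [v, h03.symm, h13.symm, h23.symm]
  have hvv : Cfsg.hermForm n F q v v = 0 := by
    have e : Cfsg.hermForm n F q v v =
        Cfsg.hermForm n F q (Pi.single i0 1) v + Cfsg.hermForm n F q (Pi.single i1 ζ) v +
        Cfsg.hermForm n F q (Pi.single i2 1) v + Cfsg.hermForm n F q (Pi.single i3 ζ) v := by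
      conv_lhs => rw [show v = Pi.single i0 1 + Pi.single i1 ζ + Pi.single i2 1 + Pi.single i3 ζ
        from rfl]
      rw [hU.add_left, hU.add_left, hU.add_left]
    rw [e, hermq_single_left, hermq_single_left, hermq_single_left, hermq_single_left, hv0, hv1, hv2,
      hv3, one_pow, hζ]
    ring
  obtain ⟨g, hgG, hg⟩ := exists_tvg hF hvv hc
  refine ⟨g, hgG, fun hmono => ?_⟩
  obtain ⟨i, hi⟩ := hmono i0
  have hcol : ∀ k, (g : Matrix (Fin n) (Fin n) F) k i0 =
      (Pi.single i0 (1 : F) : Fin n → F) k + c * v k := by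
    intro k
    have h1 := congrFun (hg (Pi.single i0 1)) k
    rw [Matrix.mulVec_single_one, hermq_single_left, hv0, one_pow, one_mul, mul_one] at h1
    exact h1
  have e1 : (g : Matrix (Fin n) (Fin n) F) i1 i0 = c * ζ := by
    rw [hcol, Pi.single_eq_of_ne h01.symm, zero_add, hv1]
  have e2 : (g : Matrix (Fin n) (Fin n) F) i2 i0 = c := by
    rw [hcol, Pi.single_eq_of_ne h02.symm, zero_add, hv2, mul_one]
  by_cases h : i = i1
  · have h3 := hi i2 (by rw [h]; exact h12.symm)
    rw [e2] at h3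
    exact hc0 h3
  · have h3 := hi i1 (Ne.symm h)
    rw [e1] at h3
    exact mul_ne_zero hc0 hζ0 h3

omit [Fintype F] in
/-- converse of `conj_mem_stab` -/
lemma isMono_of_conj_mem_stab (D : Fin n → Submodule F (Fin n → F)) (P : GL (Fin n) F)
    (hP : ∀ j, D j = Submodule.span F {(P : Matrix (Fin n) (Fin n) F) *ᵥ (Pi.single j (1 : F))})
    (h : GL (Fin n) F) (hmem : P * h * P⁻¹ ∈ Cfsg.Geo.decompositionStabilizer D) :
    IsMono (h : Matrix (Fin n) (Fin n) F) := by
  obtain ⟨τ, hτ⟩ := hmem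
  intro j
  refine ⟨τ j, ?_⟩
  have h1 : ((P * h * P⁻¹ : GL (Fin n) F) : Matrix (Fin n) (Fin n) F) *ᵥ
      ((P : Matrix (Fin n) (Fin n) F) *ᵥ (Pi.single j (1 : F))) ∈ D (τ j) := by
    rw [← hτ j]
    refine ⟨(P : Matrix (Fin n) (Fin n) F) *ᵥ (Pi.single j (1 : F)), ?_, ?_⟩
    · rw [hP j]
      exact Submodule.mem_span_singleton_self _
    · rw [Matrix.toLin'_apply]
  rw [hP (τ j), Submodule.mem_span_singleton] at h1
  obtain ⟨a, ha⟩ := h1
  have h2 : ((P * h * P⁻¹ : GL (Fin n) F) : Matrix (Fin n) (Fin n) F) *ᵥ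
      ((P : Matrix (Fin n) (Fin n) F) *ᵥ (Pi.single j (1 : F))) =
      (P : Matrix (Fin n) (Fin n) F) *ᵥ ((h : Matrix (Fin n) (Fin n) F) *ᵥ (Pi.single j (1 : F))) := by
    rw [Units.val_mul, Units.val_mul, ← Matrix.mulVec_mulVec, ← Matrix.mulVec_mulVec,
      inv_mulVec_mulVec]
  rw [h2, ← Matrix.mulVec_smul] at ha
  have h3 := mulVec_inj P ha
  exact colAt_of_mulVec_single h3.symm

/-- (b) of S5655, `k = 1`: transport to the standard frame. -/
theorem k1_of_std (n q : ℕ) (hF : Fintype.card F = q ^ 2) (hn : 13 ≤ n)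
    (hcore : ∀ M : Subgroup (GL (Fin n) F),
      M ≤ Cfsg.GU n F q ⊓ Cfsg.Geo.specialLinear (Fin n) F →
      (∀ g ∈ Cfsg.GU n F q ⊓ Cfsg.Geo.specialLinear (Fin n) F,
        IsMono (g : Matrix (Fin n) (Fin n) F) → g ∈ M) →
      (∃ g ∈ M, ¬ IsMono (g : Matrix (Fin n) (Fin n) F)) →
      Cfsg.GU n F q ⊓ Cfsg.Geo.specialLinear (Fin n) F ≤ M)
    {t : ℕ} (D : Fin t → Submodule F (Fin n → F))
    (hD : Cfsg.Geo.IsNondegenerateMDecomposition (Cfsg.hermForm n F q) 1 D) :
    Cfsg.Geo.IsMaximalIn (Cfsg.GU n F q ⊓ Cfsg.Geo.specialLinear (Fin n) F)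
      (Cfsg.Geo.decompositionStabilizer D ⊓
        (Cfsg.GU n F q ⊓ Cfsg.Geo.specialLinear (Fin n) F)) := by
  have hU := herm_unitary (n := n) hF
  -- normalised generators of the lines
  have hgen : ∀ i, ∃ x : Fin n → F, Cfsg.hermForm n F q x x = 1 ∧ D i = Submodule.span F {x} := by
    intro i
    have h1 := hD.decomp.finrank_eq i
    obtain ⟨v, hv0, hv⟩ := finrank_eq_one_iff'.mp h1
    have hv0' : (v : Fin n → F) ≠ 0 := fun h => hv0 (Subtype.ext h)
    have hDv : D i = Submodule.span F {(v : Fin n → F)} := by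
      apply le_antisymm
      · intro w hw
        obtain ⟨c, hc⟩ := hv ⟨w, hw⟩
        rw [Submodule.mem_span_singleton]
        exact ⟨c, by simpa using congrArg Subtype.val hc⟩
      · rw [Submodule.span_singleton_le_iff_mem]
        exact v.2
    have hvv : Cfsg.hermForm n F q v v ≠ 0 := by
      obtain ⟨⟨y, hyD, hy⟩, -⟩ := hD.nondegenerate i v v.2 hv0'
      rw [hDv, Submodule.mem_span_singleton] at hyD
      obtain ⟨a, rfl⟩ := hyD
      rw [hU.smul_left] at hy
      exact right_ne_zero_of_mul hy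
    have hfix : frobQ hF (Cfsg.hermForm n F q v v)⁻¹ = (Cfsg.hermForm n F q v v)⁻¹ := by
      rw [map_inv₀, u_self_fixed hU]
    obtain ⟨z, hz⟩ := norm_surj hU.involutive hU.ne_refl _ (inv_ne_zero hvv) hfix
    have hz0 : z ≠ 0 := by
      intro h
      rw [h, zero_mul] at hz
      exact inv_ne_zero hvv hz.symm
    refine ⟨z • (v : Fin n → F), ?_, ?_⟩
    · rw [hU.smul_left, u_smul_right hU, ← mul_assoc, hz, inv_mul_cancel₀ hvv]
    · exact hDv.trans (Submodule.span_singleton_smul_eq (IsUnit.mk0 z hz0) _).symm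
  choose x hxx hxD using hgen
  have hx0 : ∀ i, x i ≠ 0 := by
    intro i h
    have := hxx i
    rw [h, u_zero_left hU] at this
    exact zero_ne_one this
  have hxmem : ∀ i, x i ∈ D i := fun i => by
    rw [hxD i]; exact Submodule.mem_span_singleton_self _
  have hli : LinearIndependent F x :=
    hD.decomp.indep.linearIndependent D hxmem hx0
  have hsp : ⊤ ≤ Submodule.span F (Set.range x) := by
    rw [Submodule.span_range_eq_iSup, ← hD.decomp.iSup_eq_top]
    exact le_of_eq (iSup_congr fun i => hxD i)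
  let b : Module.Basis (Fin t) F (Fin n → F) := Module.Basis.mk hli hsp
  have ht : t = n := by
    have h1 := Module.finrank_eq_card_basis b
    rw [Module.finrank_fin_fun, Fintype.card_fin] at h1
    exact h1.symm
  subst ht
  have hb : ∀ i, b i = x i := fun i => Module.Basis.mk_apply hli hsp i
  have hortho : ∀ i j, Cfsg.hermForm t F q (x i) (x j) = if i = j then 1 else 0 := by
    intro i j
    by_cases hij : i = j
    · subst hij
      rw [if_pos rfl, hxx]
    · rw [if_neg hij]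
      exact hD.orthogonal i j hij _ (hxmem i) _ (hxmem j)
  -- the change of basis
  let φ : (Fin t → F) ≃ₗ[F] (Fin t → F) := b.equivFun.symm
  have hφ : ∀ v, φ v = ∑ i, v i • x i := by
    intro v
    change b.equivFun.symm v = _
    rw [Module.Basis.equivFun_symm_apply]
    exact Finset.sum_congr rfl fun i _ => by rw [hb]
  let P : GL (Fin t) F :=
    ⟨LinearMap.toMatrix' (φ : (Fin t → F) →ₗ[F] (Fin t → F)),
      LinearMap.toMatrix' (φ.symm : (Fin t → F) →ₗ[F] (Fin t → F)),
      by rw [← LinearMap.toMatrix'_comp]; simp,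
      by rw [← LinearMap.toMatrix'_comp]; simp⟩
  have hPv : ∀ v, (P : Matrix (Fin t) (Fin t) F) *ᵥ v = ∑ i, v i • x i := by
    intro v
    change LinearMap.toMatrix' (φ : (Fin t → F) →ₗ[F] (Fin t → F)) *ᵥ v = _
    rw [LinearMap.toMatrix'_mulVec]
    exact hφ v
  have hP : ∀ j, D j = Submodule.span F
      {(P : Matrix (Fin t) (Fin t) F) *ᵥ (Pi.single j (1 : F))} := by
    intro j
    rw [hPv, hxD j, Finset.sum_eq_single j]
    · rw [Pi.single_eq_same, one_smul]
    · intro i _ hij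
      rw [Pi.single_eq_of_ne hij, zero_smul]
    · intro h
      exact absurd (Finset.mem_univ j) h
  have hPGU : P ∈ Cfsg.GU t F q := mem_GU_of_orthonormal hF x hortho P hPv
  have hSLn : (Cfsg.Geo.specialLinear (Fin t) F).Normal := by
    unfold Cfsg.Geo.specialLinear
    infer_instance
  -- conjugation by `P` and by `P⁻¹` preserves `G`
  have hconj : ∀ g ∈ Cfsg.GU t F q ⊓ Cfsg.Geo.specialLinear (Fin t) F,
      P * g * P⁻¹ ∈ Cfsg.GU t F q ⊓ Cfsg.Geo.specialLinear (Fin t) F := fun g hg =>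
    ⟨(Cfsg.GU t F q).mul_mem ((Cfsg.GU t F q).mul_mem hPGU hg.1) ((Cfsg.GU t F q).inv_mem hPGU),
      hSLn.conj_mem _ hg.2 P⟩
  have hconj' : ∀ g ∈ Cfsg.GU t F q ⊓ Cfsg.Geo.specialLinear (Fin t) F,
      P⁻¹ * g * P ∈ Cfsg.GU t F q ⊓ Cfsg.Geo.specialLinear (Fin t) F := fun g hg => by
    refine ⟨(Cfsg.GU t F q).mul_mem ((Cfsg.GU t F q).mul_mem ((Cfsg.GU t F q).inv_mem hPGU) hg.1)
      hPGU, ?_⟩
    have := hSLn.conj_mem _ hg.2 P⁻¹
    rwa [inv_inv] at this
  constructor
  · -- strictness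
    refine lt_of_le_of_ne inf_le_right fun heq => ?_
    obtain ⟨g, hgG, hgnm⟩ := exists_nonmono (n := t) hF (by omega)
    have h1 : P * g * P⁻¹ ∈ Cfsg.Geo.decompositionStabilizer D ⊓
        (Cfsg.GU t F q ⊓ Cfsg.Geo.specialLinear (Fin t) F) := by
      rw [heq]
      exact hconj g hgG
    exact hgnm (isMono_of_conj_mem_stab D P hP g h1.1)
  · intro M hHM hMG
    by_cases hne : M = Cfsg.Geo.decompositionStabilizer D ⊓
        (Cfsg.GU t F q ⊓ Cfsg.Geo.specialLinear (Fin t) F)
    · exact Or.inl hne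
    right
    let ψ : GL (Fin t) F →* GL (Fin t) F := (MulAut.conj P).toMonoidHom
    have hψ : ∀ h, ψ h = P * h * P⁻¹ := fun h => rfl
    let M' : Subgroup (GL (Fin t) F) := M.comap ψ
    have hM'G : M' ≤ Cfsg.GU t F q ⊓ Cfsg.Geo.specialLinear (Fin t) F := by
      intro h hh
      have h1 : P * h * P⁻¹ ∈ Cfsg.GU t F q ⊓ Cfsg.Geo.specialLinear (Fin t) F := hMG hh
      have h2 := hconj' _ h1
      have h3 : P⁻¹ * (P * h * P⁻¹) * P = h := by group
      rwa [h3] at h2
    have hH' : ∀ g ∈ Cfsg.GU t F q ⊓ Cfsg.Geo.specialLinear (Fin t) F,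
        IsMono (g : Matrix (Fin t) (Fin t) F) → g ∈ M' := by
      intro h hG hmono
      change ψ h ∈ M
      rw [hψ]
      apply hHM
      exact ⟨conj_mem_stab D P hP h hmono, hconj h hG⟩
    have hex : ∃ g ∈ M, g ∉ Cfsg.Geo.decompositionStabilizer D := by
      by_contra hno
      push Not at hno
      apply hne
      apply le_antisymm
      · intro g hg
        exact ⟨hno g hg, hMG hg⟩
      · exact hHM
    obtain ⟨g, hgM, hgD⟩ := hex
    have hB'M : P⁻¹ * g * P ∈ M' := by
      change ψ (P⁻¹ * g * P) ∈ M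
      rw [hψ]
      have : P * (P⁻¹ * g * P) * P⁻¹ = g := by group
      rwa [this]
    have hB'nm : ¬ IsMono ((P⁻¹ * g * P : GL (Fin t) F) : Matrix (Fin t) (Fin t) F) := by
      intro hmono
      apply hgD
      have := conj_mem_stab D P hP (P⁻¹ * g * P) hmono
      have h2 : P * (P⁻¹ * g * P) * P⁻¹ = g := by group
      rwa [h2] at this
    have hmain := hcore M' hM'G hH' ⟨P⁻¹ * g * P, hB'M, hB'nm⟩
    apply le_antisymm hMG
    intro y hy
    have h2 : P⁻¹ * y * P ∈ M' := hmain (hconj' y hy)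
    change ψ (P⁻¹ * y * P) ∈ M at h2
    rw [hψ] at h2
    have h3 : P * (P⁻¹ * y * P) * P⁻¹ = y := by group
    rwa [h3] at h2

end Grp

end

end Cfsg.Agent.Lib.Helper11.UTr
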