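import Mathlib

set_option autoImplicit false

namespace Cfsg.Agent.Lib.Helper11

section
variable {G : Type*} [Group G]

/-- If `t`, `s` are involutions and `t * s` has 2-power order, then `⟨t⟩ ⊔ ⟨s⟩` is a 2-group. -/
theorem isPGroup_two_sup_zpowers_of_invol [Finite G] {t s : G} (ht : t * t = 1) (hs : s * s = 1)
    {k : ℕ} (hk : (t * s) ^ (2 ^ k) = 1) :
    IsPGroup 2 ↥(Subgroup.zpowers t ⊔ Subgroup.zpowers s) := by
  have htinv : t⁻¹ = t := inv_eq_of_mul_eq_one_left ht
  have hsinv : s⁻¹ = s := inv_eq_of_mul_eq_one_left hs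
  -- D = zpowers (t*s) is a 2-group
  have hD : IsPGroup 2 ↥(Subgroup.zpowers (t * s)) := by
    intro ⟨d, hd⟩
    obtain ⟨i, rfl⟩ := Subgroup.mem_zpowers_iff.mp hd
    refine ⟨k, ?_⟩
    apply Subtype.ext
    simp only [Subgroup.coe_pow, Subgroup.coe_one]
    rw [← zpow_natCast, ← zpow_mul, mul_comm, zpow_mul, zpow_natCast, hk, one_zpow]
  have hT : IsPGroup 2 ↥(Subgroup.zpowers t) := by
    intro ⟨d, hd⟩
    obtain ⟨i, rfl⟩ := Subgroup.mem_zpowers_iff.mp hd
    refine ⟨1, ?_⟩
    apply Subtype.ext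
    simp only [Subgroup.coe_pow, Subgroup.coe_one, pow_one]
    rw [← zpow_natCast, ← zpow_mul, mul_comm, zpow_mul, zpow_natCast, pow_two, ht, one_zpow]
  -- t normalizes D
  have hnorm : Subgroup.zpowers t ≤ Subgroup.normalizer (Subgroup.zpowers (t * s) : Set G) := by
    rw [Subgroup.zpowers_le]
    rw [Subgroup.mem_normalizer_iff]
    have hconj : t * (t * s) * t⁻¹ = (t * s)⁻¹ := by
      rw [htinv, mul_inv_rev, htinv, hsinv]
      calc t * (t * s) * t = (t * t) * s * t := by simp only [mul_assoc]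
        _ = s * t := by rw [ht, one_mul]
    have key : ∀ h : G, h ∈ Subgroup.zpowers (t * s) → t * h * t⁻¹ ∈ Subgroup.zpowers (t * s) := by
      intro h hh
      obtain ⟨i, rfl⟩ := Subgroup.mem_zpowers_iff.mp hh
      have : t * (t * s) ^ i * t⁻¹ = ((t * s)⁻¹) ^ i := by
        have := (MulAut.conj t).toMonoidHom.map_zpow (t * s) i
        simp only [MulEquiv.toMonoidHom_eq_coe, MonoidHom.coe_coe, MulAut.conj_apply] at this
        rw [this, hconj]
      rw [this]
      exact Subgroup.zpow_mem _ (Subgroup.inv_mem _ (Subgroup.mem_zpowers _)) i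
    intro h
    constructor
    · exact key h
    · intro hh
      have := key _ hh
      rw [htinv] at this
      have e : t * (t * h * t) * t = h := by
        calc t * (t * h * t) * t = (t * t) * h * (t * t) := by simp only [mul_assoc]
          _ = h := by rw [ht, one_mul, mul_one]
      rw [htinv] at hh
      rwa [e] at this
  have hsup : IsPGroup 2 ↥(Subgroup.zpowers t ⊔ Subgroup.zpowers (t * s)) :=
    IsPGroup.to_sup_of_normal_right' hT hD hnorm
  have hle : Subgroup.zpowers t ⊔ Subgroup.zpowers s ≤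
      Subgroup.zpowers t ⊔ Subgroup.zpowers (t * s) := by
    apply sup_le le_sup_left
    rw [Subgroup.zpowers_le]
    have h1 : t⁻¹ * (t * s) ∈ Subgroup.zpowers t ⊔ Subgroup.zpowers (t * s) :=
      Subgroup.mul_mem _ (Subgroup.inv_mem _ (le_sup_left (a := Subgroup.zpowers t)
        (Subgroup.mem_zpowers t))) (le_sup_right (a := Subgroup.zpowers t) (Subgroup.mem_zpowers _))
    rwa [inv_mul_cancel_left] at h1
  exact hsup.to_le hle

/-- Consequence of Baer–Suzuki (taken as a hypothesis `BS`): an involution in no normal 2-subgroup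
inverts a nontrivial element of odd order. -/
theorem exists_inverted_odd_of_baerSuzuki [Finite G]
    (BS : ∀ X : Subgroup G, IsPGroup 2 X →
      (∀ g : G, IsPGroup 2 ↥(X ⊔ X.map (MulAut.conj g).toMonoidHom)) →
      ∃ N : Subgroup G, N.Normal ∧ IsPGroup 2 N ∧ X ≤ N)
    (t : G) (ht : orderOf t = 2)
    (hO : ∀ N : Subgroup G, N.Normal → IsPGroup 2 N → t ∉ N) :
    ∃ h : G, h ≠ 1 ∧ Odd (orderOf h) ∧ t * h * t⁻¹ = h⁻¹ := by
  have htt : t * t = 1 := by
    have := pow_orderOf_eq_one t
    rwa [ht, pow_two] at this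
  have htinv : t⁻¹ = t := inv_eq_of_mul_eq_one_left htt
  have hT : IsPGroup 2 ↥(Subgroup.zpowers t) := by
    intro ⟨d, hd⟩
    obtain ⟨i, rfl⟩ := Subgroup.mem_zpowers_iff.mp hd
    refine ⟨1, ?_⟩
    apply Subtype.ext
    simp only [Subgroup.coe_pow, Subgroup.coe_one, pow_one]
    rw [← zpow_natCast, ← zpow_mul, mul_comm, zpow_mul, zpow_natCast, pow_two, htt, one_zpow]
  -- some conjugate generates a non-2-group with t
  have hex : ∃ g : G, ¬ IsPGroup 2 ↥(Subgroup.zpowers t ⊔
      (Subgroup.zpowers t).map (MulAut.conj g).toMonoidHom) := by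
    by_contra hcon
    push Not at hcon
    obtain ⟨N, hN, hNp, hle⟩ := BS _ hT hcon
    exact hO N hN hNp (hle (Subgroup.mem_zpowers t))
  obtain ⟨g, hg⟩ := hex
  set s := g * t * g⁻¹ with hs
  have hss : s * s = 1 := by
    rw [hs]
    calc g * t * g⁻¹ * (g * t * g⁻¹) = g * (t * t) * g⁻¹ := by group
      _ = 1 := by rw [htt, mul_one, mul_inv_cancel]
  have hsinv : s⁻¹ = s := inv_eq_of_mul_eq_one_left hss
  have hmap : (Subgroup.zpowers t).map (MulAut.conj g).toMonoidHom = Subgroup.zpowers s := by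
    rw [MonoidHom.map_zpowers]
    simp [hs]
  rw [hmap] at hg
  -- order of t*s is not a power of 2
  have hnot : ∀ k : ℕ, (t * s) ^ (2 ^ k) ≠ 1 := by
    intro k hk
    exact hg (isPGroup_two_sup_zpowers_of_invol htt hss hk)
  have hpos : 0 < orderOf (t * s) := orderOf_pos _
  obtain ⟨k, m, hm, hkm⟩ := Nat.exists_eq_two_pow_mul_odd (n := orderOf (t * s)) hpos.ne'
  refine ⟨(t * s) ^ (2 ^ k), hnot k, ?_, ?_⟩
  · have : orderOf ((t * s) ^ (2 ^ k)) = m := by
      rw [orderOf_pow' _ (by positivity), hkm, Nat.gcd_eq_right (Dvd.intro _ rfl),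
        Nat.mul_div_cancel_left _ (by positivity)]
    rw [this]; exact hm
  · have hconj : t * (t * s) * t⁻¹ = (t * s)⁻¹ := by
      rw [htinv, mul_inv_rev, htinv, hsinv]
      calc t * (t * s) * t = (t * t) * s * t := by simp only [mul_assoc]
        _ = s * t := by rw [htt, one_mul]
    have := (MulAut.conj t).toMonoidHom.map_pow (t * s) (2 ^ k)
    simp only [MulEquiv.toMonoidHom_eq_coe, MonoidHom.coe_coe, MulAut.conj_apply] at this
    rw [this, hconj, inv_pow]

end

end Cfsg.Agent.Lib.Helper11
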