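import Mathlib

/-!
# Definitions for the Landazuri–Seitz bound for `Sp_{2n}(q)`, `q` even (S2333)

Isometry groups of quadratic forms over a finite field of characteristic 2 and the numerical
bounds `Ab`, `Bb` for their orders.
-/

set_option autoImplicit false

namespace Cfsg.Agent.Lib.Helper11.LS

open QuadraticMap

section defs

variable {F : Type*} [Field F] {V : Type*} [AddCommGroup V] [Module F V]

/-- the isometry group of a quadratic form, as a subgroup of `GL(V)` -/
def isoGroup (Q : QuadraticForm F V) : Subgroup (V ≃ₗ[F] V) where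
  carrier := {g | ∀ x, Q (g x) = Q x}
  mul_mem' := by
    intro a b ha hb x
    show Q (a (b x)) = Q x
    rw [ha, hb]
  one_mem' := fun _ => rfl
  inv_mem' := by
    intro a ha x
    have h := ha (a⁻¹ x)
    have h2 : a (a⁻¹ x) = x := LinearEquiv.apply_symm_apply a x
    rw [h2] at h
    exact h.symm

theorem mem_isoGroup {Q : QuadraticForm F V} {g : V ≃ₗ[F] V} :
    g ∈ isoGroup Q ↔ ∀ x, Q (g x) = Q x := Iff.rfl

theorem polar_isoGroup {Q : QuadraticForm F V} {g : V ≃ₗ[F] V} (hg : g ∈ isoGroup Q) (x y : V) :
    polar Q (g x) (g y) = polar Q x y := by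
  unfold polar
  rw [← map_add, hg, hg, hg]

/-- non-defective (non-singular) quadratic forms: the only singular vector in the radical of the
polar form is zero -/
def Nondef (Q : QuadraticForm F V) : Prop :=
  ∀ v, (∀ w, polar Q v w = 0) → Q v = 0 → v = 0

/-- hyperbolic pairs -/
def IsHypPair (Q : QuadraticForm F V) (v w : V) : Prop :=
  Q v = 0 ∧ Q w = 0 ∧ polar Q v w = 1

/-- the orthogonal complement of a pair of vectors with respect to the polar form -/
def perp2 (Q : QuadraticForm F V) (v w : V) : Submodule F V where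
  carrier := {x | polar Q v x = 0 ∧ polar Q w x = 0}
  add_mem' := by
    intro a b ha hb
    exact ⟨by rw [polar_add_right, ha.1, hb.1, add_zero],
      by rw [polar_add_right, ha.2, hb.2, add_zero]⟩
  zero_mem' := ⟨by simp [polar], by simp [polar]⟩
  smul_mem' := by
    intro c x hx
    exact ⟨by rw [polar_smul_right, hx.1, smul_zero], by rw [polar_smul_right, hx.2, smul_zero]⟩

theorem mem_perp2 {Q : QuadraticForm F V} {v w x : V} :
    x ∈ perp2 Q v w ↔ polar Q v x = 0 ∧ polar Q w x = 0 := Iff.rfl

end defs

/-- `|GL_n(q)|` -/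
def gl (q n : ℕ) : ℕ := ∏ i ∈ Finset.range n, (q ^ n - q ^ i)

/-- bound for the order of the isometry group of a non-defective form of dimension `n` -/
def Ab (q : ℕ) : ℕ → ℕ
  | 0 => 1
  | 1 => 1
  | 2 => 2 * (q + 1)
  | (n + 3) => (q ^ (n + 3) - 1) * q ^ (n + 1) * Ab q (n + 1)

/-- bound for the order of the isometry group of a form of dimension `n` with non-zero polar
form; attained by the anisotropic binary forms extended by zero -/
def Bb (q n : ℕ) : ℕ := 2 * (q + 1) * q ^ (2 * (n - 2)) * gl q (n - 2)

end Cfsg.Agent.Lib.Helper11.LS
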