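import Mathlib

/-!
S5886 leaf D3 (pure field theory): for finite fields `F ⊆ E` with `[E : F] ≥ 2` the `(q-1)`-th powers
(`q = |F|`) of the non-zero elements of `E` generate `E` additively.
-/

set_option autoImplicit false
set_option linter.unusedSectionVars false
set_option linter.unusedVariables false

namespace Cfsg.Agent.Lib.Helper11.C3lLeaf
open Module

variable {F E : Type*} [Field F] [Field E] [Fintype F]

/-- the set of `(q-1)`-th powers of non-zero elements -/
def powSet (F E : Type*) [Field F] [Field E] [Fintype F] : Set E :=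
  {z : E | ∃ e : E, e ≠ 0 ∧ z = e ^ (Fintype.card F - 1)}

lemma one_mem_powSet : (1 : E) ∈ powSet F E := ⟨1, one_ne_zero, by rw [one_pow]⟩

lemma mul_mem_powSet {a b : E} (ha : a ∈ powSet F E) (hb : b ∈ powSet F E) : a * b ∈ powSet F E := by
  obtain ⟨e, he, rfl⟩ := ha
  obtain ⟨e', he', rfl⟩ := hb
  exact ⟨e * e', mul_ne_zero he he', by rw [mul_pow]⟩

lemma ne_zero_of_mem_powSet {a : E} (ha : a ∈ powSet F E) : a ≠ 0 := by
  obtain ⟨e, he, rfl⟩ := ha
  exact pow_ne_zero _ he

/-- the submonoid of `(q-1)`-th powers -/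
def powMonoid (F E : Type*) [Field F] [Field E] [Fintype F] : Submonoid E where
  carrier := powSet F E
  mul_mem' := mul_mem_powSet
  one_mem' := one_mem_powSet

variable [Fintype E]

/-- the number of `(q-1)`-th powers is at least `(|E|-1)/(q-1)` -/
lemma card_le_mul_card_powSet [DecidableEq E] :
    Fintype.card E - 1 ≤ (Fintype.card F - 1) *
      ((Finset.univ.filter (fun e : E => e ≠ 0)).image (fun e : E => e ^ (Fintype.card F - 1))).card := by
  classical
  have hq : 0 < Fintype.card F - 1 := Nat.sub_pos_of_lt Fintype.one_lt_card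
  have h1 : (Finset.univ.filter (fun e : E => e ≠ 0)).card = Fintype.card E - 1 := by
    rw [Finset.filter_ne' Finset.univ (0 : E), Finset.card_erase_of_mem (Finset.mem_univ _),
      Finset.card_univ]
  rw [← h1]
  apply Finset.card_le_mul_card_image
  intro a _
  calc ((Finset.univ.filter (fun e : E => e ≠ 0)).filter
        (fun x => x ^ (Fintype.card F - 1) = a)).card
      ≤ (Polynomial.nthRoots (Fintype.card F - 1) a).toFinset.card := by
        apply Finset.card_le_card
        intro x hx
        rw [Finset.mem_filter] at hx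
        rw [Multiset.mem_toFinset, Polynomial.mem_nthRoots hq]
        exact hx.2
    _ ≤ Multiset.card (Polynomial.nthRoots (Fintype.card F - 1) a) := Multiset.toFinset_card_le _
    _ ≤ Fintype.card F - 1 := Polynomial.card_nthRoots _ _

end Cfsg.Agent.Lib.Helper11.C3lLeaf

namespace Cfsg.Agent.Lib.Helper11.C3lLeaf
open Module

variable {F E : Type*} [Field F] [Field E] [Fintype F] [Fintype E]

/-- the subfield generated additively by the `(q-1)`-th powers -/
noncomputable def powField (F E : Type*) [Field F] [Field E] [Fintype F] [Fintype E] : Subfield E where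
  toSubring := Subring.closure (powSet F E)
  inv_mem' := by
    intro x hx
    change x ∈ Subring.closure (powSet F E) at hx
    change x⁻¹ ∈ Subring.closure (powSet F E)
    by_cases h0 : x = 0
    · rw [h0, inv_zero]; exact (Subring.closure (powSet F E)).zero_mem
    · have h1 : x⁻¹ = x ^ (Fintype.card E - 2) := by
        have h2 : x ^ (Fintype.card E - 1) = 1 := FiniteField.pow_card_sub_one_eq_one x h0
        have h3 : 2 ≤ Fintype.card E := Fintype.one_lt_card
        have h4 : Fintype.card E - 1 = (Fintype.card E - 2) + 1 := by omega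
        rw [h4, pow_succ] at h2
        exact (eq_inv_of_mul_eq_one_left h2).symm
      rw [h1]
      exact pow_mem hx _

lemma mem_powField_iff {x : E} :
    x ∈ powField F E ↔ x ∈ AddSubgroup.closure (powSet F E) := by
  change x ∈ Subring.closure (powSet F E) ↔ _
  rw [Subring.mem_closure_iff]
  have : (Submonoid.closure (powSet F E) : Set E) = powSet F E := by
    change ((Submonoid.closure ((powMonoid F E : Submonoid E) : Set E) : Submonoid E) : Set E) = _
    rw [Submonoid.closure_eq]; rfl
  rw [this]

end Cfsg.Agent.Lib.Helper11.C3lLeaf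

namespace Cfsg.Agent.Lib.Helper11.C3lLeaf
open Module

variable {F E : Type*} [Field F] [Field E] [Fintype F] [Fintype E]

lemma powSet_subset_powField {x : E} (hx : x ∈ powSet F E) : x ∈ powField F E :=
  mem_powField_iff.mpr (AddSubgroup.subset_closure hx)

theorem powField_eq_top [Algebra F E] (h2 : 2 ≤ finrank F E) : powField F E = ⊤ := by
  classical
  set S := powField F E with hS
  have hq2 : 2 ≤ Fintype.card F := Fintype.one_lt_card
  have hQ : Fintype.card E = Fintype.card F ^ finrank F E := Module.card_eq_pow_finrank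
  have hQS : Fintype.card E = Fintype.card ↥S ^ finrank ↥S E := Module.card_eq_pow_finrank
  have hs2 : 2 ≤ Fintype.card ↥S := Fintype.one_lt_card
  -- the image of the power map lies in `S \ {0}`
  have hc : ((Finset.univ.filter (fun e : E => e ≠ 0)).image
      (fun e : E => e ^ (Fintype.card F - 1))).card + 1 ≤ Fintype.card ↥S := by
    have h1 : ((Finset.univ.filter (fun e : E => e ≠ 0)).image
        (fun e : E => e ^ (Fintype.card F - 1))) ⊆
        (Finset.univ.filter (fun x : E => x ∈ S)).erase 0 := by
      intro z hz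
      rw [Finset.mem_image] at hz
      obtain ⟨e, he, rfl⟩ := hz
      rw [Finset.mem_filter] at he
      rw [Finset.mem_erase, Finset.mem_filter]
      exact ⟨pow_ne_zero _ he.2, Finset.mem_univ _, powSet_subset_powField ⟨e, he.2, rfl⟩⟩
    have h2' := Finset.card_le_card h1
    rw [Finset.card_erase_of_mem (by rw [Finset.mem_filter]; exact ⟨Finset.mem_univ _, S.zero_mem⟩)]
      at h2'
    have h3 : (Finset.univ.filter (fun x : E => x ∈ S)).card = Fintype.card ↥S := by
      rw [Fintype.card_subtype]
    rw [h3] at h2'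
    omega
  have hmain := card_le_mul_card_powSet (F := F) (E := E)
  -- `finrank S E = 1`
  have hk : finrank ↥S E = 1 := by
    by_contra hne
    have hk0 : finrank ↥S E ≠ 0 := by
      intro h0
      rw [h0, pow_zero] at hQS
      have : 2 ≤ Fintype.card E := Fintype.one_lt_card
      omega
    have hk2 : 2 ≤ finrank ↥S E := by omega
    have hss : Fintype.card ↥S ^ 2 ≤ Fintype.card E := by
      rw [hQS]; exact Nat.pow_le_pow_right (by omega) hk2
    have hqq : Fintype.card F ^ 2 ≤ Fintype.card E := by
      rw [hQ]; exact Nat.pow_le_pow_right (by omega) h2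
    -- arithmetic
    obtain ⟨a, ha⟩ : ∃ a, Fintype.card ↥S = a + 1 := ⟨Fintype.card ↥S - 1, by omega⟩
    obtain ⟨b, hb⟩ : ∃ b, Fintype.card F = b + 1 := ⟨Fintype.card F - 1, by omega⟩
    set c := ((Finset.univ.filter (fun e : E => e ≠ 0)).image
      (fun e : E => e ^ (Fintype.card F - 1))).card with hcdef
    have hb' : Fintype.card F - 1 = b := by omega
    rw [hb'] at hmain
    have hca : c ≤ a := by omega
    have h5 : Fintype.card E - 1 ≤ b * a := le_trans hmain (Nat.mul_le_mul_left b hca)
    have h6 : Fintype.card E ≤ b * a + 1 := by omega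
    rw [ha] at hss
    rw [hb] at hqq
    have h7 : (a + 1) ^ 2 ≤ b * a + 1 := le_trans hss h6
    have h8 : (b + 1) ^ 2 ≤ b * a + 1 := le_trans hqq h6
    have ha1 : 1 ≤ a := by omega
    have hb1 : 1 ≤ b := by omega
    zify at h7 h8 ha1 hb1
    nlinarith [sq_nonneg ((a : ℤ) - b)]
  rw [hk, pow_one] at hQS
  -- same cardinality, hence everything
  rw [eq_top_iff]
  intro x _
  have hinj : Function.Injective (Subtype.val : ↥S → E) := Subtype.val_injective
  have hbij : Function.Bijective (Subtype.val : ↥S → E) :=
    (Fintype.bijective_iff_injective_and_card _).mpr ⟨hinj, hQS.symm⟩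
  obtain ⟨⟨y, hy⟩, rfl⟩ := hbij.2 x
  exact hy

/-- **D3**: the `(q-1)`-th powers of the non-zero elements of `E` generate `E` additively. -/
theorem addClosure_pow_eq_top [Algebra F E] (h2 : 2 ≤ finrank F E) :
    AddSubgroup.closure {z : E | ∃ e : E, e ≠ 0 ∧ z = e ^ (Fintype.card F - 1)} = ⊤ := by
  rw [eq_top_iff]
  intro x _
  have hx : x ∈ powField F E := by rw [powField_eq_top h2]; exact Subfield.mem_top x
  exact mem_powField_iff.mp hx

end Cfsg.Agent.Lib.Helper11.C3lLeaf

namespace Cfsg.Agent.Lib.Helper11.C3lLeaf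
open Module

variable {F E : Type*} [Field F] [Field E] [Fintype F] [Fintype E] [Algebra F E]

/-- closure induction for `E`: an additive property true on the `(q-1)`-th powers holds on `E` -/
theorem pow_induction (h2 : 2 ≤ finrank F E) {P : E → Prop}
    (hz : ∀ e : E, e ≠ 0 → P (e ^ (Fintype.card F - 1))) (h0 : P 0)
    (hadd : ∀ x y, P x → P y → P (x + y)) (hneg : ∀ x, P x → P (-x)) (x : E) : P x := by
  have hx : x ∈ AddSubgroup.closure {z : E | ∃ e : E, e ≠ 0 ∧ z = e ^ (Fintype.card F - 1)} := by
    rw [addClosure_pow_eq_top h2]; exact AddSubgroup.mem_top x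
  induction hx using AddSubgroup.closure_induction with
  | mem z hz' =>
    obtain ⟨e, he, rfl⟩ := hz'
    exact hz e he
  | zero => exact h0
  | add x y _ _ hx hy => exact hadd x y hx hy
  | neg x _ hx => exact hneg x hx

/-- an additive subgroup of an additive group `M` on which `E` acts additively, stable under the
`(q-1)`-th powers, is stable under `E` -/
theorem stable_of_stable_pow (h2 : 2 ≤ finrank F E) {M : Type*} [AddCommGroup M]
    (A : AddSubgroup M) (act : E → M → M)
    (hact : ∀ e e' m, act (e + e') m = act e m + act e' m)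
    (hst : ∀ e : E, e ≠ 0 → ∀ m ∈ A, act (e ^ (Fintype.card F - 1)) m ∈ A) :
    ∀ (e : E), ∀ m ∈ A, act e m ∈ A := by
  have hzero : ∀ m, act 0 m = 0 := by
    intro m
    have := hact 0 0 m
    rw [add_zero] at this
    exact left_eq_add.mp this
  have hnegact : ∀ e m, act (-e) m = - act e m := by
    intro e m
    have := hact e (-e) m
    rw [add_neg_cancel, hzero] at this
    exact eq_neg_of_add_eq_zero_right this.symm
  intro e
  refine pow_induction (F := F) h2 (P := fun e => ∀ m ∈ A, act e m ∈ A) hst ?_ ?_ ?_ e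
  · intro m _; rw [hzero]; exact A.zero_mem
  · intro x y hx hy m hm; rw [hact]; exact A.add_mem (hx m hm) (hy m hm)
  · intro x hx m hm; rw [hnegact]; exact A.neg_mem (hx m hm)

/-- some `(q-1)`-th power is not in `F` -/
theorem exists_pow_not_mem_range (h2 : 2 ≤ finrank F E) :
    ∃ e : E, e ≠ 0 ∧ e ^ (Fintype.card F - 1) ∉ Set.range (algebraMap F E) := by
  by_contra hcon
  push Not at hcon
  have hall : ∀ x : E, x ∈ Set.range (algebraMap F E) := by
    intro x
    refine pow_induction (F := F) h2 (P := fun x => x ∈ Set.range (algebraMap F E)) hcon ?_ ?_ ?_ x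
    · exact ⟨0, map_zero _⟩
    · rintro x y ⟨a, rfl⟩ ⟨b, rfl⟩; exact ⟨a + b, map_add _ _ _⟩
    · rintro x ⟨a, rfl⟩; exact ⟨-a, map_neg _ _⟩
  have hsurj : Function.Surjective (algebraMap F E) := hall
  have : finrank F E = 1 := by
    have hbot : (⊥ : Subalgebra F E) = ⊤ := by
      rw [eq_top_iff]
      intro x _
      obtain ⟨a, rfl⟩ := hsurj x
      exact Subalgebra.algebraMap_mem _ a
    exact Subalgebra.bot_eq_top_iff_finrank_eq_one.mp hbot
  omega

/-- for a proper additive subgroup `Y` of `E` and `k ≠ 0` some `k * e^(q-1)` is outside `Y` -/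
theorem exists_mul_pow_not_mem (h2 : 2 ≤ finrank F E) (Y : AddSubgroup E) (hY : Y ≠ ⊤) {k : E}
    (hk : k ≠ 0) : ∃ e : E, e ≠ 0 ∧ k * e ^ (Fintype.card F - 1) ∉ Y := by
  by_contra hcon
  push Not at hcon
  apply hY
  rw [eq_top_iff]
  intro x _
  have hall : ∀ y : E, k * y ∈ Y := by
    intro y
    refine pow_induction (F := F) h2 (P := fun y => k * y ∈ Y) hcon ?_ ?_ ?_ y
    · rw [mul_zero]; exact Y.zero_mem
    · intro x y hx hy; rw [mul_add]; exact Y.add_mem hx hy
    · intro x hx; rw [mul_neg]; exact Y.neg_mem hx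
  have := hall (k⁻¹ * x)
  rwa [← mul_assoc, mul_inv_cancel₀ hk, one_mul] at this

end Cfsg.Agent.Lib.Helper11.C3lLeaf
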