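import Mathlib
import Cfsg.Agent.Lib.Lead.CharBurnside
import Cfsg.Agent.Lib.Helper4.Basic

set_option autoImplicit false

namespace Cfsg.Agent.Lib.Helper11

universe u

/-- For a normal subgroup `N`, `|N : A ∩ N|` divides `|G : A|`. -/
theorem relIndex_dvd_index_of_normal_right {G : Type*} [Group G] [Finite G] (A N : Subgroup G)
    [N.Normal] : A.relIndex N ∣ A.index := by
  have h1 : Nat.card ↥(A ⊓ N) * A.relIndex N = Nat.card N := by
    have := Cfsg.Agent.Lib.Helper4.card_mul_relIndex (inf_le_right : A ⊓ N ≤ N)
    rwa [Subgroup.inf_relIndex_right] at this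
  have h2 : Nat.card A * A.relIndex (A ⊔ N) = Nat.card ↥(A ⊔ N) :=
    Cfsg.Agent.Lib.Helper4.card_mul_relIndex (le_sup_left : A ≤ A ⊔ N)
  have h3 := Cfsg.Agent.Lib.Helper4.card_sup_mul_card_inf A N
    (by rw [Subgroup.normalizer_eq_top]; exact le_top)
  have h4 : A.relIndex N = A.relIndex (A ⊔ N) := by
    have hpos : 0 < Nat.card A * Nat.card ↥(A ⊓ N) := Nat.mul_pos Nat.card_pos Nat.card_pos
    apply Nat.eq_of_mul_eq_mul_left hpos
    calc Nat.card A * Nat.card ↥(A ⊓ N) * A.relIndex N
        = Nat.card A * (Nat.card ↥(A ⊓ N) * A.relIndex N) := by ring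
      _ = Nat.card A * Nat.card N := by rw [h1]
      _ = Nat.card ↥(A ⊔ N) * Nat.card ↥(A ⊓ N) := h3.symm
      _ = Nat.card A * A.relIndex (A ⊔ N) * Nat.card ↥(A ⊓ N) := by rw [h2]
      _ = Nat.card A * Nat.card ↥(A ⊓ N) * A.relIndex (A ⊔ N) := by ring
  rw [h4]
  exact Subgroup.relIndex_dvd_index_of_le le_sup_left

/-- A finite group with an abelian subgroup of 2-power index is solvable (induction on the order,
using Burnside's theorem on conjugacy classes of prime power size). -/
theorem isSolvable_of_abelian_two_power_index_aux : ∀ (n : ℕ) (G : Type u) [Group G] [Finite G],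
    Nat.card G = n → ∀ (A : Subgroup G), IsMulCommutative A → (∃ k : ℕ, A.index = 2 ^ k) →
    Group.IsSolvable G := by
  intro n
  induction n using Nat.strong_induction_on with
  | _ n ih =>
  intro G _ _ hn A hA hidx
  obtain ⟨k, hk⟩ := hidx
  by_cases hAbot : A = ⊥
  · subst hAbot
    rw [Subgroup.index_bot] at hk
    exact Cfsg.Agent.CharLib.isSolvable_of_card_prime_pow Nat.prime_two hk
  · obtain ⟨⟨a, haA⟩, ha1'⟩ := (Subgroup.ne_bot_iff_exists_ne_one).mp hAbot
    have ha1 : a ≠ 1 := fun h => ha1' (Subtype.ext h)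
    by_cases hsimple : IsSimpleGroup G
    · -- Burnside
      have hle : A ≤ Subgroup.centralizer ({a} : Set G) := by
        intro x hx
        rw [Subgroup.mem_centralizer_singleton_iff]
        have := hA.is_comm.comm ⟨x, hx⟩ ⟨a, haA⟩
        exact congrArg Subtype.val this
      have hdvd : (Subgroup.centralizer ({a} : Set G)).index ∣ 2 ^ k :=
        hk ▸ Subgroup.index_dvd_of_le hle
      obtain ⟨j, -, hj⟩ := (Nat.dvd_prime_pow Nat.prime_two).mp hdvd
      have hprime := Cfsg.Agent.CharLib.prime_card_of_class_prime_pow 2 j Nat.prime_two a ha1 hj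
      haveI : Fact (Nat.card G).Prime := ⟨hprime⟩
      haveI : IsCyclic G := isCyclic_of_prime_card (p := Nat.card G) rfl
      exact Group.isSolvable_of_comm (fun x y => (IsCyclic.isMulCommutative (α := G)).is_comm.comm x y)
    · -- a proper nontrivial normal subgroup
      haveI : Nontrivial G := ⟨⟨a, 1, ha1⟩⟩
      have hex : ∃ N : Subgroup G, N.Normal ∧ N ≠ ⊥ ∧ N ≠ ⊤ := by
        by_contra hcon
        push Not at hcon
        exact hsimple ⟨fun N hN => by
          by_cases h : N = ⊥
          · left; exact h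
          · right; exact hcon N hN h⟩
      obtain ⟨N, hNn, hNbot, hNtop⟩ := hex
      haveI := hNn
      have hmul : Nat.card N * N.index = Nat.card G := Subgroup.card_mul_index N
      have hidx1 : N.index ≠ 1 := fun h => hNtop (Subgroup.index_eq_one.mp h)
      have hidx0 : N.index ≠ 0 := Subgroup.index_ne_zero_of_finite
      have hcard1 : 1 < Nat.card N := (Subgroup.one_lt_card_iff_ne_bot N).mpr hNbot
      have hcardN : Nat.card N < n := by
        rw [← hn, ← hmul]
        have : 2 ≤ N.index := by omega
        nlinarith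
      have hcardQ : Nat.card (G ⧸ N) < n := by
        rw [← hn, ← hmul]
        change N.index < _
        have : 0 < N.index := by omega
        nlinarith
      haveI := hA
      have hsolN : Group.IsSolvable N := by
        refine ih _ hcardN N rfl (A.subgroupOf N) inferInstance ?_
        have h1 : A.relIndex N ∣ 2 ^ k := hk ▸ relIndex_dvd_index_of_normal_right A N
        obtain ⟨j, -, hj⟩ := (Nat.dvd_prime_pow Nat.prime_two).mp h1
        exact ⟨j, hj⟩
      have hsolQ : Group.IsSolvable (G ⧸ N) := by
        refine ih _ hcardQ (G ⧸ N) rfl (A.map (QuotientGroup.mk' N)) inferInstance ?_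
        have h1 : (A.map (QuotientGroup.mk' N)).index ∣ 2 ^ k :=
          hk ▸ Subgroup.index_map_dvd A (QuotientGroup.mk'_surjective N)
        obtain ⟨j, -, hj⟩ := (Nat.dvd_prime_pow Nat.prime_two).mp h1
        exact ⟨j, hj⟩
      exact Group.isSolvable_of_ker_le_range N.subtype (QuotientGroup.mk' N) (by simp)

/-- A finite group with an abelian subgroup of 2-power index is solvable. -/
theorem isSolvable_of_abelian_two_power_index {G : Type u} [Group G] [Finite G] (A : Subgroup G)
    (hA : IsMulCommutative A) (hidx : ∃ k : ℕ, A.index = 2 ^ k) : Group.IsSolvable G :=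
  isSolvable_of_abelian_two_power_index_aux _ G rfl A hA hidx

end Cfsg.Agent.Lib.Helper11
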