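import Mathlib
import Cfsg.Prelude.Def_ClassicalGeometry
import Cfsg.Prelude.Def_GeometricClasses
import Cfsg.Agent.Lib.Helper2.SOTDefs
import Cfsg.Agent.Lib.Helper2.SOTGDefs
import Cfsg.Agent.Lib.Helper25.SpTK

/-!
S5666 part (GA), leaf C of `notes/S5666_GA_leaves.lean` (exact signature):
an element commuting with the root group `X_{x₄}` stabilises the fibre `x₄ ⊗ B`.
-/

set_option autoImplicit false
set_option linter.unusedSectionVars false
set_option linter.unusedVariables false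

namespace Cfsg.Agent.Lib.Helper11.SOTLeaf
open Matrix Module
open Cfsg.Agent.Lib.Helper25.Tens Cfsg.Agent.Lib.Helper25.SpT Cfsg.Agent.Lib.Helper19.OSub
open Cfsg.Agent.Lib.Helper2.SOT
open scoped Kronecker

variable {F : Type*} [Field F] [Fintype F] {a b : ℕ} {G : Matrix (Fin b) (Fin b) F}
  {M : Subgroup (GL (Idx a b) F)}

/-- the image of the nilpotent `NA x` lies in the fibre `x ⊗ B` -/
theorem NA_mulVec_mem (x : Fin a → F) (w : Idx a b → F) :
    ∃ y' : Fin b → F, (NA x : Matrix (Idx a b) (Idx a b) F) *ᵥ w = pt x y' := by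
  revert w
  apply pt_induction
  · exact ⟨0, by rw [Matrix.mulVec_zero, pt_zero_right]⟩
  · rintro v w ⟨y1, h1⟩ ⟨y2, h2⟩
    exact ⟨y1 + y2, by rw [Matrix.mulVec_add, h1, h2, pt_add_right]⟩
  · intro x' y
    exact ⟨sf x' x • y, by rw [NA_mulVec_pt, pt_smul_right]⟩

/-- a vector with `sf x* x = 1` -/
theorem exists_sf_left_one (ea : Even a) {x : Fin a → F} (hx : x ≠ 0) :
    ∃ xs : Fin a → F, sf xs x = 1 := by
  obtain ⟨y, hy⟩ := exists_sf_ne_zero ea hx
  refine ⟨(- (sf x y)⁻¹) • y, ?_⟩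
  rw [sf_smul_left, sf_skew y x]
  field_simp

/-- (C) an element commuting with the root group `X_{x₄}` stabilises `x₄ ⊗ B`. -/
theorem stab_of_commute (ea : Even a) (x₄ : Fin a → F) (hx₄ : x₄ ≠ 0) (t : GL (Idx a b) F)
    (hc : ∀ c : F, Commute (kA x₄ c : GL (Idx a b) F) t) :
    ∀ y : Fin b → F, ∃ y' : Fin b → F, mv t (pt x₄ y) = pt x₄ y' := by
  intro y
  have h1 : ((kA x₄ 1 : GL (Idx a b) F) : Matrix (Idx a b) (Idx a b) F) * (t : Matrix _ _ F) =
      (t : Matrix _ _ F) * ((kA x₄ 1 : GL (Idx a b) F) : Matrix (Idx a b) (Idx a b) F) := by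
    have := congrArg (fun u : GL (Idx a b) F => (u : Matrix (Idx a b) (Idx a b) F)) (hc 1).eq
    simpa only [Units.val_mul] using this
  rw [kA_val, one_smul, add_mul, mul_add, one_mul, mul_one] at h1
  have h2 : (NA x₄ : Matrix (Idx a b) (Idx a b) F) * (t : Matrix _ _ F) =
      (t : Matrix _ _ F) * NA x₄ := add_left_cancel h1
  obtain ⟨xs, hxs⟩ := exists_sf_left_one ea hx₄
  have h3 : pt x₄ y = (NA x₄ : Matrix (Idx a b) (Idx a b) F) *ᵥ pt xs y := by
    rw [NA_mulVec_pt, hxs, one_smul]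
  unfold mv
  rw [h3, Matrix.mulVec_mulVec, ← h2, ← Matrix.mulVec_mulVec]
  exact NA_mulVec_mem x₄ _

end Cfsg.Agent.Lib.Helper11.SOTLeaf
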