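import Mathlib
import Cfsg.Prelude.Def_ClassicalGeometry
import Cfsg.Prelude.Def_GeometricClasses
import Cfsg.Agent.Lib.Helper2.SOTDefs
import Cfsg.Agent.Lib.Helper2.SOTGDefs
import Cfsg.Agent.Lib.Helper4.SOTS
import Cfsg.Agent.Lib.Helper7.SpTN
import Cfsg.Agent.Lib.Helper27.SOTLADefs
import Cfsg.Agent.Lib.Helper1.SOTLAA7core
import Cfsg.Agent.Lib.Helper11.SOTS123

/-!
S5666 part (LA), unit U3 of `notes/S5666_LA_leaves.lean` (exact signatures): `rho_of_symp`,
`selfadj_of_symp`, `fB_adjB`, `adjB_smul_one`; plus the action of `uMat` on pure tensors.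
-/

set_option autoImplicit false
set_option linter.unusedSectionVars false
set_option linter.unusedVariables false

namespace Cfsg.Agent.Lib.Helper11.SOTLALeaf
open Matrix
open Cfsg.Agent.Lib.Helper25.Tens Cfsg.Agent.Lib.Helper25.SpT Cfsg.Agent.Lib.Helper19.OSub
open Cfsg.Agent.Lib.Helper2.SOT Cfsg.Agent.Lib.Helper27.SOTLA
open scoped Kronecker

variable {F : Type*} [Field F] [Fintype F] {a b : ℕ} {G : Matrix (Fin b) (Fin b) F}
  {M : Subgroup (GL (Idx a b) F)}

theorem single_one_mulVec {n : ℕ} (i k : Fin n) (x : Fin n → F) :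
    (Matrix.single i k (1 : F)) *ᵥ x = x k • (Pi.single i (1 : F) : Fin n → F) := by
  ext i'
  rw [Matrix.single_mulVec, one_mul, Pi.smul_apply, smul_eq_mul, Pi.single_apply]
  by_cases h : i' = i
  · subst h
    simp
  · rw [if_neg h, mul_zero, Function.update_of_ne h]
    rfl

/-- the action of `uMat` on a pure tensor -/
theorem uMat_mulVec_pt (o o' : Fin a) (θ ρ : Fin a → Matrix (Fin b) (Fin b) F)
    (Ξ : Matrix (Fin b) (Fin b) F) (x : Fin a → F) (y : Fin b → F) :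
    uMat o o' θ ρ Ξ *ᵥ pt x y =
      pt x y + ∑ i, pt (x o' • (Pi.single i (1 : F) : Fin a → F)) (θ i *ᵥ y) +
        ∑ j, pt (x j • (Pi.single o (1 : F) : Fin a → F)) (ρ j *ᵥ y) +
        pt (x o' • (Pi.single o (1 : F) : Fin a → F)) (Ξ *ᵥ y) := by
  unfold uMat
  rw [Matrix.add_mulVec, Matrix.add_mulVec, Matrix.add_mulVec, Matrix.one_mulVec,
    Matrix.sum_mulVec, Matrix.sum_mulVec, kron_mulVec_pt, single_one_mulVec]
  congr 2
  · congr 1
    apply Finset.sum_congr rfl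
    intro i _
    rw [kron_mulVec_pt, single_one_mulVec]
  · apply Finset.sum_congr rfl
    intro j _
    rw [kron_mulVec_pt, single_one_mulVec]

/-- `uMat` on `e_j ⊗ y`, `j ≠ o'` -/
theorem uMat_mulVec_pt_single (o o' : Fin a) (θ ρ : Fin a → Matrix (Fin b) (Fin b) F)
    (Ξ : Matrix (Fin b) (Fin b) F) {j : Fin a} (hj : j ≠ o') (y : Fin b → F) :
    uMat o o' θ ρ Ξ *ᵥ pt (Pi.single j (1 : F)) y =
      pt (Pi.single j (1 : F)) y + pt (Pi.single o (1 : F)) (ρ j *ᵥ y) := by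
  rw [uMat_mulVec_pt, Pi.single_eq_of_ne (Ne.symm hj)]
  simp only [zero_smul, pt_zero_left, Finset.sum_const_zero, add_zero]
  congr 1
  rw [Finset.sum_eq_single j]
  · rw [Pi.single_eq_same, one_smul]
  · intro j' _ hj'
    rw [Pi.single_eq_of_ne hj', zero_smul, pt_zero_left]
  · intro h
    exact absurd (Finset.mem_univ j) h

/-- `uMat` on `e_o' ⊗ y` -/
theorem uMat_mulVec_pt_single' (o o' : Fin a) (θ ρ : Fin a → Matrix (Fin b) (Fin b) F)
    (Ξ : Matrix (Fin b) (Fin b) F) (hρ : ρ o' = 0) (y : Fin b → F) :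
    uMat o o' θ ρ Ξ *ᵥ pt (Pi.single o' (1 : F)) y =
      pt (Pi.single o' (1 : F)) y + ∑ i, pt (Pi.single i (1 : F)) (θ i *ᵥ y) +
        pt (Pi.single o (1 : F)) (Ξ *ᵥ y) := by
  rw [uMat_mulVec_pt, Pi.single_eq_same]
  simp only [one_smul]
  congr 1
  rw [add_eq_left]
  apply Finset.sum_eq_zero
  intro j _
  by_cases hj : j = o'
  · subst hj
    rw [hρ, Matrix.zero_mulVec, pt_zero_right]
  · rw [Pi.single_eq_of_ne hj, zero_smul, pt_zero_left]

theorem fV_sum_right (G : Matrix (Fin b) (Fin b) F) {ι : Type*} (s : Finset ι)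
    (v : Idx a b → F) (w : ι → Idx a b → F) :
    fV G v (∑ i ∈ s, w i) = ∑ i ∈ s, fV G v (w i) := by
  classical
  induction s using Finset.induction_on with
  | empty => simp [Cfsg.Agent.Lib.Helper11.SOTLeaf.fV_zero_right]
  | insert k s hk ih => rw [Finset.sum_insert hk, Finset.sum_insert hk, fV_add_right, ih]

theorem Jm_zero_one {o o' : Fin a} (ho : o.val = 0) (ho' : o'.val = 1) :
    (Jm a : Matrix (Fin a) (Fin a) F) o o' = 1 := by
  rw [Jm_apply, if_pos ⟨by omega, by omega⟩]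

theorem Jm_one_zero {o o' : Fin a} (ho : o.val = 0) (ho' : o'.val = 1) :
    (Jm a : Matrix (Fin a) (Fin a) F) o' o = -1 := by
  rw [Jm_swap, Jm_zero_one ho ho']

theorem fV_pt_single_single (G : Matrix (Fin b) (Fin b) F) (i k : Fin a) (y y' : Fin b → F) :
    fV G (pt (Pi.single i (1 : F)) y) (pt (Pi.single k (1 : F)) y') =
      (Jm a : Matrix (Fin a) (Fin a) F) i k * fB G y y' := by
  rw [fV_pt, sf_single_single]

theorem Jm_sq_pr (ea : Even a) (j : Fin a) :
    (Jm a : Matrix (Fin a) (Fin a) F) j (pr ea j) * (Jm a : Matrix (Fin a) (Fin a) F) j (pr ea j) =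
      1 := by
  rw [Jm_pr]
  split_ifs <;> ring

/-- (U3c) adjoint facts -/
theorem fB_adjB (hG : Gᵀ = G) (hnd : G.det ≠ 0) (σ : Matrix (Fin b) (Fin b) F) (y y' : Fin b → F) :
    fB G (adjB G σ *ᵥ y) y' = fB G y (σ *ᵥ y') :=
  Cfsg.Agent.Lib.Helper1.SOTLALeaf.adjB_fB hG hnd σ y y'

theorem adjB_smul_one (hnd : G.det ≠ 0) (c : F) :
    adjB G (c • (1 : Matrix (Fin b) (Fin b) F)) = c • 1 := by
  rw [Cfsg.Agent.Lib.Helper1.SOTLALeaf.adjB_smul, Cfsg.Agent.Lib.Helper1.SOTLALeaf.adjB_one hnd]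

/-- (U3a) symplecticity determines the row blocks: `ρ_j = -J(j, pr j) • (θ_{pr j})†`. -/
theorem rho_of_symp (ea : Even a) (hG : Gᵀ = G) (hnd : G.det ≠ 0) {o o' : Fin a} (ho : o.val = 0)
    (ho' : o'.val = 1) {θ ρ : Fin a → Matrix (Fin b) (Fin b) F} {Ξ : Matrix (Fin b) (Fin b) F}
    (hθ : Mid o o' θ) (hρ : Mid o o' ρ)
    (hS : ∀ v w : Idx a b → F, fV G (uMat o o' θ ρ Ξ *ᵥ v) (uMat o o' θ ρ Ξ *ᵥ w) = fV G v w) :
    ∀ j : Fin a, j ≠ o → j ≠ o' → ρ j = -(Jm a j (pr ea j) : F) • adjB G (θ (pr ea j)) := by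
  intro j hjo hjo'
  have hpro : pr ea o = o' := by
    apply Fin.ext
    rw [pr_val_even ea o (by omega)]
    omega
  have hpro' : pr ea o' = o := by
    rw [← hpro, pr_pr]
  have hJjo' : (Jm a : Matrix (Fin a) (Fin a) F) j o' = 0 := by
    apply Jm_eq_zero_of_ne ea
    intro h
    apply hjo
    rw [← pr_pr ea j, ← h, hpro']
  have hJjo : (Jm a : Matrix (Fin a) (Fin a) F) j o = 0 := by
    apply Jm_eq_zero_of_ne ea
    intro h
    apply hjo'
    rw [← pr_pr ea j, ← h, hpro]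
  set c : F := (Jm a : Matrix (Fin a) (Fin a) F) j (pr ea j) with hc
  have hcc : c * c = 1 := Jm_sq_pr ea j
  have key : ∀ y y' : Fin b → F, fB G (ρ j *ᵥ y) y' = -c * fB G y (θ (pr ea j) *ᵥ y') := by
    intro y y'
    have h1 := hS (pt (Pi.single j 1) y) (pt (Pi.single o' 1) y')
    rw [uMat_mulVec_pt_single o o' θ ρ Ξ hjo', uMat_mulVec_pt_single' o o' θ ρ Ξ hρ.2,
      fV_pt_single_single, hJjo', zero_mul] at h1
    simp only [fV_add_left, fV_add_right, fV_sum_right, fV_pt_single_single, hJjo', hJjo,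
      zero_mul, zero_add, add_zero, Jm_zero_one ho ho', Jm_diag, one_mul] at h1
    have hJo : (Jm a : Matrix (Fin a) (Fin a) F) o (pr ea j) = 0 := by
      apply Jm_eq_zero_of_ne ea
      rw [hpro]
      intro h
      apply hjo
      rw [← pr_pr ea j, h, hpro']
    rw [Finset.sum_eq_single (pr ea j)] at h1
    · rw [hJo, zero_mul, add_zero] at h1
      linear_combination h1
    · intro i _ hi
      rw [Jm_eq_zero_of_ne ea j i hi, zero_mul, zero_add]
      by_cases hio' : i = o'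
      · rw [hio', hθ.2, Matrix.zero_mulVec, Cfsg.Agent.Lib.Helper1.SOTLALeaf.fB_zero_right,
          mul_zero]
      · rw [Jm_eq_zero_of_ne ea o i (by rw [hpro]; exact hio'), zero_mul]
    · intro h
      exact absurd (Finset.mem_univ _) h
  have h2 : adjB G (θ (pr ea j)) = -c • ρ j := by
    apply Cfsg.Agent.Lib.Helper1.SOTLALeaf.adjB_eq_of_fB hG hnd
    intro y y'
    rw [Matrix.smul_mulVec, fB_smul_left, key]
    linear_combination (fB G y (θ (pr ea j) *ᵥ y')) * hcc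
  rw [h2, smul_smul]
  have : -c * -c = 1 := by linear_combination hcc
  rw [this, one_smul]

/-- (U3b) `1 + E_{o,o'} ⊗ σ` symplectic ⟹ `σ` self-adjoint. -/
theorem selfadj_of_symp (hG : Gᵀ = G) {o o' : Fin a} (ho : o.val = 0) (ho' : o'.val = 1)
    {σ : Matrix (Fin b) (Fin b) F}
    (hS : ∀ v w : Idx a b → F,
      fV G (uMat o o' 0 0 σ *ᵥ v) (uMat o o' 0 0 σ *ᵥ w) = fV G v w) : IsSelfAdj G σ := by
  have key : ∀ y y' : Fin b → F, fB G (σ *ᵥ y) y' = fB G y (σ *ᵥ y') := by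
    intro y y'
    have h1 := hS (pt (Pi.single o' 1) y) (pt (Pi.single o' 1) y')
    rw [uMat_mulVec_pt_single' o o' 0 0 σ rfl, uMat_mulVec_pt_single' o o' 0 0 σ rfl] at h1
    simp only [Pi.zero_apply, Matrix.zero_mulVec, pt_zero_right, Finset.sum_const_zero,
      add_zero, fV_add_left, fV_add_right, fV_pt_single_single, Jm_diag, zero_mul, zero_add,
      Jm_zero_one ho ho', Jm_one_zero ho ho', one_mul] at h1
    linear_combination h1
  unfold IsSelfAdj
  ext k l
  have h1 := key (Pi.single k 1) (Pi.single l 1)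
  have e1 : fB G (σ *ᵥ Pi.single k 1) (Pi.single l 1) = (σᵀ * G) k l := by
    unfold fB
    rw [Matrix.mulVec_single_one, Matrix.mulVec_single_one, Matrix.mul_apply]
    simp only [dotProduct, Matrix.col_apply, Matrix.transpose_apply]
  have e2 : fB G (Pi.single k 1) (σ *ᵥ Pi.single l 1) = (G * σ) k l := by
    unfold fB
    rw [Matrix.mulVec_mulVec, Matrix.mulVec_single_one, single_dotProduct, one_mul]
    rfl
  rw [e1, e2] at h1
  exact h1.symm

end Cfsg.Agent.Lib.Helper11.SOTLALeaf
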