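import Mathlib

/-! Helper11 library (S2142): the abstract setting for `Sp_2m(2)`.

A group `G` acting faithfully on a vector space `V` over a field `F` with two elements, by isometries of
a nondegenerate alternating form `B`, containing the transvections `tv v : z ↦ z + B z v • v` and
generated by them.  Definitions only; the calculus is in `Sp2Calc`. -/

set_option autoImplicit false

namespace Cfsg.Agent.Lib.Helper11.Sp2

/-- Symplectic setting over the field with two elements. -/
structure Setting (F V G : Type*) [Field F] [AddCommGroup V] [Module F V] [Group G]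
    [DistribMulAction G V] where
  /-- the alternating form -/
  B : LinearMap.BilinForm F V
  /-- the transvection with centre `v` -/
  tv : V → G
  h01 : ∀ a : F, a = 0 ∨ a = 1
  alt : ∀ x, B x x = 0
  nondeg : ∀ x, (∀ y, B x y = 0) → x = 0
  iso : ∀ (g : G) (x y : V), B (g • x) (g • y) = B x y
  tv_smul : ∀ v z, tv v • z = z + B z v • v
  gen : Subgroup.closure (Set.range tv) = ⊤
  faithful : ∀ g : G, (∀ z : V, g • z = z) → g = 1

variable {F V G : Type*} [Field F] [AddCommGroup V] [Module F V] [Group G] [DistribMulAction G V]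

open Classical in
/-- For `w ⊥ v`: the element `z ↦ z + B z v • w + (B z w + c * B z v) • v` of the unipotent radical
`Q_v` of the stabiliser of `v`.  `gq v w 0 = tv v * tv w * tv (v + w)`, `gq v w 1 = tv w * tv (v + w)`. -/
noncomputable def Setting.gq (S : Setting F V G) (v w : V) (c : F) : G :=
  if c = 0 then S.tv v * S.tv w * S.tv (v + w) else S.tv w * S.tv (v + w)

/-- the set underlying `Q_v = {gq v w c | w ⊥ v}` (a subgroup: `Setting.Q` in `Sp2Calc`) -/
def Setting.Qset (S : Setting F V G) (v : V) : Set G :=
  {g | ∃ w c, S.B v w = 0 ∧ g = S.gq v w c}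

/-- `D̄_v(H)`: the vectors `w ⊥ v` such that some `gq v w c` lies in `H` (a submodule containing `v`:
`Setting.Dbar` in `Sp2Calc`). -/
def Setting.DbarSet (S : Setting F V G) (H : Subgroup G) (v : V) : Set V :=
  {w | S.B v w = 0 ∧ ∃ c, S.gq v w c ∈ H}

/-- `v` is a point of type B for `H`: `tv v ∉ H` but `H ∩ Q_v` covers `v^⊥/v`. -/
def Setting.IsB (S : Setting F V G) (H : Subgroup G) (v : V) : Prop :=
  v ≠ 0 ∧ S.tv v ∉ H ∧ ∀ w, S.B v w = 0 → ∃ c, S.gq v w c ∈ H

open Classical in
/-- `γ_v(w)`: the `c` with `gq v w c ∈ H` (at a point of type B); symmetric in `v, w` when `v ⊥ w`. -/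
noncomputable def Setting.gam (S : Setting F V G) (H : Subgroup G) (v w : V) : F :=
  if S.gq v w 0 ∈ H then 0 else 1

end Cfsg.Agent.Lib.Helper11.Sp2
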