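import Mathlib
import Cfsg.Agent.Lib.Helper11.Sp2Defs

/-! Helper11 library (S2142): calculus in the abstract `Sp_2m(2)` setting. -/

set_option autoImplicit false
set_option linter.unusedSimpArgs false

namespace Cfsg.Agent.Lib.Helper11.Sp2

variable {F V G : Type*} [Field F] [AddCommGroup V] [Module F V] [Group G] [DistribMulAction G V]

namespace Setting

variable (S : Setting F V G)
include S

/-! ### scalars and vectors in characteristic 2 -/

theorem one_add_one : (1 : F) + 1 = 0 := by
  rcases S.h01 (1 + 1) with h | h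
  · exact h
  · exact absurd (by linear_combination h : (1 : F) = 0) one_ne_zero

theorem fadd_self (a : F) : a + a = 0 := by
  have := S.one_add_one
  linear_combination a * this

theorem fmul_self (a : F) : a * a = a := by
  rcases S.h01 a with h | h <;> simp [h]

theorem fneg (a : F) : -a = a := by
  have := S.fadd_self a
  linear_combination -this

theorem eq_one_of_ne_zero {a : F} (h : a ≠ 0) : a = 1 := (S.h01 a).resolve_left h

theorem eq_zero_of_ne_one {a : F} (h : a ≠ 1) : a = 0 := (S.h01 a).resolve_right h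

theorem vadd_self (x : V) : x + x = 0 := by
  have : (1 + 1 : F) • x = 0 := by rw [S.one_add_one, zero_smul]
  simpa [add_smul] using this

theorem vadd_cancel_left (x y : V) : x + (x + y) = y := by
  rw [← add_assoc, S.vadd_self, zero_add]

theorem vneg (x : V) : -x = x := by
  have := S.vadd_self x
  exact neg_eq_of_add_eq_zero_left this

theorem vsub (x y : V) : x - y = x + y := by rw [sub_eq_add_neg, S.vneg]

theorem vadd_eq_zero_iff {x y : V} : x + y = 0 ↔ x = y := by
  constructor
  · intro h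
    have := congrArg (· + y) h
    simp only [add_assoc, S.vadd_self, add_zero, zero_add] at this
    exact this
  · rintro rfl; exact S.vadd_self x

theorem Badd_left (x y z : V) : S.B (x + y) z = S.B x z + S.B y z := by
  rw [map_add, LinearMap.add_apply]

theorem Badd_right (x y z : V) : S.B x (y + z) = S.B x y + S.B x z := map_add _ _ _

theorem Bsmul_left (a : F) (x y : V) : S.B (a • x) y = a * S.B x y := by
  rw [map_smul, LinearMap.smul_apply, smul_eq_mul]

theorem Bsmul_right (a : F) (x y : V) : S.B x (a • y) = a * S.B x y := by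
  rw [map_smul, smul_eq_mul]

theorem Bzero_left (x : V) : S.B 0 x = 0 := by simp

theorem Bzero_right (x : V) : S.B x 0 = 0 := by simp

theorem B_symm (x y : V) : S.B x y = S.B y x := by
  have h := S.alt (x + y)
  rw [S.Badd_left, S.Badd_right, S.Badd_right, S.alt, S.alt, zero_add, add_zero] at h
  have h2 := S.fneg (S.B y x)
  linear_combination h + h2

theorem B_add_self_right (v w : V) : S.B v (w + v) = S.B v w := by
  rw [S.Badd_right, S.alt, add_zero]

/-! ### group elements -/

theorem ext_smul {g h : G} (H : ∀ z : V, g • z = h • z) : g = h := by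
  have : h⁻¹ * g = 1 := S.faithful _ (fun z => by rw [mul_smul, H z, inv_smul_smul])
  exact (inv_mul_eq_one.mp this).symm

theorem B_smul_smul (g : G) (x y : V) : S.B (g • x) (g • y) = S.B x y := S.iso g x y

theorem B_smul_left (g : G) (x y : V) : S.B (g • x) y = S.B x (g⁻¹ • y) := by
  conv_lhs => rw [← smul_inv_smul g y]
  rw [S.iso]

theorem tv_zero : S.tv (0 : V) = 1 := S.faithful _ (fun z => by simp [S.tv_smul])

theorem tv_mul_self (v : V) : S.tv v * S.tv v = 1 := by
  apply S.faithful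
  intro z
  simp only [mul_smul, S.tv_smul, S.Badd_left, S.Bsmul_left, S.alt, mul_zero, add_zero, add_assoc,
    S.vadd_self]

theorem tv_inv (v : V) : (S.tv v)⁻¹ = S.tv v := inv_eq_of_mul_eq_one_left (S.tv_mul_self v)

theorem conj_tv (p : G) (v : V) : p * S.tv v * p⁻¹ = S.tv (p • v) := by
  apply S.ext_smul
  intro z
  simp only [mul_smul, S.tv_smul, smul_add, smul_inv_smul]
  congr 1
  have h1 : S.B (p⁻¹ • z) v = S.B z (p • v) := by
    rw [S.B_smul_left, inv_inv]
  rw [h1]
  rcases S.h01 (S.B z (p • v)) with h | h <;> simp [h]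

theorem gq_zero_c (v w : V) : S.gq v w 0 = S.tv v * S.tv w * S.tv (v + w) := by
  simp [gq]

theorem gq_one_c (v w : V) : S.gq v w 1 = S.tv w * S.tv (v + w) := by
  simp [gq]

/-- the action of `gq v w c` -/
theorem gq_smul {v w : V} (h : S.B v w = 0) (c : F) (z : V) :
    S.gq v w c • z = z + S.B z v • w + (S.B z w + c * S.B z v) • v := by
  have hwv : S.B w v = 0 := by rw [S.B_symm]; exact h
  rcases S.h01 c with rfl | rfl
  · rw [S.gq_zero_c]
    simp only [mul_smul, S.tv_smul, S.Badd_left, S.Badd_right, S.Bsmul_left, S.Bsmul_right, h, hwv, S.alt,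
      mul_zero, add_zero, zero_add, zero_mul]
    rcases S.h01 (S.B z v) with h1 | h1 <;> rcases S.h01 (S.B z w) with h2 | h2 <;>
      simp only [h1, h2, zero_smul, one_smul, add_zero, zero_add, S.one_add_one, add_assoc, add_left_comm,
        add_comm, S.vadd_self, S.vadd_cancel_left]
  · rw [S.gq_one_c]
    simp only [mul_smul, S.tv_smul, S.Badd_left, S.Badd_right, S.Bsmul_left, S.Bsmul_right, h, hwv, S.alt,
      mul_zero, add_zero, zero_add, zero_mul, one_mul]
    rcases S.h01 (S.B z v) with h1 | h1 <;> rcases S.h01 (S.B z w) with h2 | h2 <;>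
      simp only [h1, h2, zero_smul, one_smul, add_zero, zero_add, S.one_add_one, add_assoc, add_left_comm,
        add_comm, S.vadd_self, S.vadd_cancel_left]

theorem gq_smul_self {v w : V} (h : S.B v w = 0) (c : F) : S.gq v w c • v = v := by
  rw [S.gq_smul h]; simp [S.alt, h]

theorem gq_smul_of_perp {v w : V} (h : S.B v w = 0) (c : F) {z : V} (hz : S.B v z = 0) :
    S.gq v w c • z = z + S.B z w • v := by
  rw [S.gq_smul h, S.B_symm z v, hz]; simp

/-- composition law in `Q_v` -/
theorem gq_mul {v w w' : V} (h : S.B v w = 0) (h' : S.B v w' = 0) (c c' : F) :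
    S.gq v w c * S.gq v w' c' = S.gq v (w + w') (c + c' + S.B w' w) := by
  have hwv : S.B w v = 0 := by rw [S.B_symm]; exact h
  have hwv' : S.B w' v = 0 := by rw [S.B_symm]; exact h'
  have hs : S.B v (w + w') = 0 := by rw [S.Badd_right, h, h', add_zero]
  apply S.ext_smul
  intro z
  rw [mul_smul, S.gq_smul h', S.gq_smul h, S.gq_smul hs]
  simp only [S.Badd_left, S.Badd_right, S.Bsmul_left, S.Bsmul_right, h, h', hwv, hwv', S.alt,
      mul_zero, add_zero, zero_add, zero_mul]
  rcases S.h01 (S.B z v) with h1 | h1 <;> rcases S.h01 (S.B z w) with h2 | h2 <;>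
  rcases S.h01 (S.B z w') with h3 | h3 <;> rcases S.h01 (S.B w' w) with h4 | h4 <;>
  rcases S.h01 c with rfl | rfl <;> rcases S.h01 c' with rfl | rfl <;>
      simp only [h1, h2, h3, h4, zero_smul, one_smul, add_zero, zero_add, mul_zero, mul_one, zero_mul, one_mul,
        S.one_add_one, add_assoc, add_left_comm,
        add_comm, S.vadd_self, S.vadd_cancel_left]

theorem gq_add_self {v w : V} (h : S.B v w = 0) (c : F) : S.gq v (w + v) c = S.gq v w c := by
  have hs : S.B v (w + v) = 0 := by rw [S.B_add_self_right, h]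
  apply S.ext_smul
  intro z
  rw [S.gq_smul h, S.gq_smul hs]
  simp only [S.Badd_right]
  rcases S.h01 (S.B z v) with h1 | h1 <;> rcases S.h01 (S.B z w) with h2 | h2 <;>
  rcases S.h01 c with rfl | rfl <;>
      simp only [h1, h2, zero_smul, one_smul, add_zero, zero_add, mul_zero, mul_one, zero_mul, one_mul,
        S.one_add_one, add_assoc, add_left_comm,
        add_comm, S.vadd_self, S.vadd_cancel_left]

theorem gq_zero_zero (v : V) : S.gq v 0 0 = 1 := by
  apply S.faithful
  intro z
  rw [S.gq_smul (S.Bzero_right v)]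
  simp

theorem gq_self_zero (v : V) : S.gq v v 0 = 1 := by
  have := S.gq_add_self (S.Bzero_right v) 0
  rw [zero_add] at this
  rw [this, S.gq_zero_zero]

theorem gq_zero_one (v : V) : S.gq v 0 1 = S.tv v := by
  apply S.ext_smul
  intro z
  rw [S.gq_smul (S.Bzero_right v), S.tv_smul]
  simp

theorem gq_mul_self {v w : V} (h : S.B v w = 0) (c : F) : S.gq v w c * S.gq v w c = 1 := by
  rw [S.gq_mul h h, S.vadd_self, S.fadd_self, S.alt, add_zero, S.gq_zero_zero]

theorem gq_inv {v w : V} (h : S.B v w = 0) (c : F) : (S.gq v w c)⁻¹ = S.gq v w c :=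
  inv_eq_of_mul_eq_one_left (S.gq_mul_self h c)

theorem gq_symm {v w : V} (h : S.B v w = 0) : S.gq v w 0 = S.gq w v 0 := by
  have hwv : S.B w v = 0 := by rw [S.B_symm]; exact h
  apply S.ext_smul
  intro z
  rw [S.gq_smul h, S.gq_smul hwv]
  simp only [zero_mul, add_zero]
  abel

theorem gq_add_one {v w : V} (h : S.B v w = 0) (c : F) : S.gq v w (c + 1) = S.gq v w c * S.tv v := by
  rw [← S.gq_zero_one, S.gq_mul h (S.Bzero_right v), add_zero, S.Bzero_left, add_zero]

theorem smul_fsmul (p : G) (a : F) (x : V) : p • (a • x) = a • (p • x) := by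
  rcases S.h01 a with rfl | rfl <;> simp

theorem conj_gq (p : G) {v w : V} (h : S.B v w = 0) (c : F) :
    p * S.gq v w c * p⁻¹ = S.gq (p • v) (p • w) c := by
  have hs : S.B (p • v) (p • w) = 0 := by rw [S.iso, h]
  apply S.ext_smul
  intro z
  rw [mul_smul, mul_smul, S.gq_smul h, S.gq_smul hs]
  simp only [smul_add, smul_inv_smul, S.smul_fsmul]
  have h1 : S.B (p⁻¹ • z) v = S.B z (p • v) := by rw [S.B_smul_left, inv_inv]
  have h2 : S.B (p⁻¹ • z) w = S.B z (p • w) := by rw [S.B_smul_left, inv_inv]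
  rw [h1, h2]

/-- double perp of a point -/
theorem eq_zero_or_eq_of_perp {v u : V} (h : ∀ z, S.B v z = 0 → S.B z u = 0) : u = 0 ∨ u = v := by
  by_contra hc
  push Not at hc
  obtain ⟨hu0, huv⟩ := hc
  have ex1 : ∃ y, S.B u y ≠ 0 := by
    by_contra hn
    push Not at hn
    exact hu0 (S.nondeg u hn)
  have ex2 : ∃ y, S.B (u + v) y ≠ 0 := by
    by_contra hn
    push Not at hn
    exact huv (S.vadd_eq_zero_iff.mp (S.nondeg _ hn))
  obtain ⟨y1, hy1⟩ := ex1
  obtain ⟨y2, hy2⟩ := ex2
  have hy1' : S.B y1 u = 1 := by rw [S.B_symm]; exact S.eq_one_of_ne_zero hy1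
  by_cases h1 : S.B v y1 = 0
  · have := h y1 h1
    rw [hy1'] at this
    exact one_ne_zero this
  have h1' : S.B v y1 = 1 := S.eq_one_of_ne_zero h1
  rw [S.Badd_left] at hy2
  by_cases h2 : S.B v y2 = 0
  · have h3 := h y2 h2
    rw [S.B_symm] at h3
    rw [h3, h2, add_zero] at hy2
    exact hy2 rfl
  have h2' : S.B v y2 = 1 := S.eq_one_of_ne_zero h2
  have h3 : S.B u y2 = 0 := by
    by_contra hn
    rw [S.eq_one_of_ne_zero hn, h2', S.one_add_one] at hy2
    exact hy2 rfl
  have h4 := h (y1 + y2) (by rw [S.Badd_right, h1', h2', S.one_add_one])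
  rw [S.Badd_left, hy1', S.B_symm y2 u, h3, add_zero] at h4
  exact one_ne_zero h4

theorem exists_B_eq_one {v : V} (hv : v ≠ 0) : ∃ z, S.B z v = 1 := by
  by_contra hn
  push Not at hn
  apply hv
  apply S.nondeg
  intro y
  rw [S.B_symm]
  exact S.eq_zero_of_ne_one (hn y)

/-- when two elements of `Q_v` coincide -/
theorem gq_eq_gq_iff {v w w' : V} (hv : v ≠ 0) (h : S.B v w = 0) (h' : S.B v w' = 0) (c c' : F) :
    S.gq v w c = S.gq v w' c' ↔ (w' = w ∨ w' = w + v) ∧ c' = c := by
  constructor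
  · intro he
    have key : ∀ z, z + S.B z v • w + (S.B z w + c * S.B z v) • v
        = z + S.B z v • w' + (S.B z w' + c' * S.B z v) • v := by
      intro z
      rw [← S.gq_smul h, ← S.gq_smul h', he]
    have hperp : ∀ z, S.B v z = 0 → S.B z (w + w') = 0 := by
      intro z hz
      have hz' : S.B z v = 0 := by rw [S.B_symm]; exact hz
      have := key z
      rw [hz'] at this
      simp only [zero_smul, add_zero, mul_zero, add_right_inj] at this
      rw [S.Badd_right]
      rcases S.h01 (S.B z w) with h1 | h1 <;> rcases S.h01 (S.B z w') with h2 | h2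
      · rw [h1, h2, add_zero]
      · rw [h1, h2] at this; simp only [zero_smul, one_smul] at this; exact absurd this.symm hv
      · rw [h1, h2] at this; simp only [zero_smul, one_smul] at this; exact absurd this hv
      · rw [h1, h2, S.one_add_one]
    have hw : w' = w ∨ w' = w + v := by
      rcases S.eq_zero_or_eq_of_perp hperp with h0 | h0
      · left; exact (S.vadd_eq_zero_iff.mp h0).symm
      · right
        have : w + (w + w') = w + v := by rw [h0]
        rwa [S.vadd_cancel_left] at this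
    refine ⟨hw, ?_⟩
    have he2 : S.gq v w c = S.gq v w c' := by
      rcases hw with rfl | rfl
      · exact he
      · rw [he, S.gq_add_self h]
    obtain ⟨z, hz⟩ := S.exists_B_eq_one hv
    have := congrArg (· • z) he2
    simp only [S.gq_smul h, hz, mul_one, one_smul, add_right_inj] at this
    rcases S.h01 c with rfl | rfl <;> rcases S.h01 c' with rfl | rfl
    · rfl
    · exfalso
      rcases S.h01 (S.B z w) with h1 | h1 <;> simp [h1, S.one_add_one] at this <;> exact hv (by first | exact this | exact this.symm)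
    · exfalso
      rcases S.h01 (S.B z w) with h1 | h1 <;> simp [h1, S.one_add_one] at this <;> exact hv (by first | exact this | exact this.symm)
    · rfl
  · rintro ⟨hw | hw, rfl⟩
    · rw [hw]
    · rw [hw, S.gq_add_self h]

/-! ### the subgroup `Q_v` -/

/-- `Q_v` as a subgroup -/
def Q (v : V) : Subgroup G where
  carrier := S.Qset v
  mul_mem' := by
    rintro _ _ ⟨w, c, h, rfl⟩ ⟨w', c', h', rfl⟩
    exact ⟨w + w', c + c' + S.B w' w, by rw [S.Badd_right, h, h', add_zero], S.gq_mul h h' c c'⟩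
  one_mem' := ⟨0, 0, S.Bzero_right v, (S.gq_zero_zero v).symm⟩
  inv_mem' := by
    rintro _ ⟨w, c, h, rfl⟩
    exact ⟨w, c, h, S.gq_inv h c⟩

theorem mem_Q {v : V} {g : G} : g ∈ S.Q v ↔ ∃ w c, S.B v w = 0 ∧ g = S.gq v w c := Iff.rfl

theorem gq_mem_Q {v w : V} (h : S.B v w = 0) (c : F) : S.gq v w c ∈ S.Q v := ⟨w, c, h, rfl⟩

theorem tv_mem_Q (v : V) : S.tv v ∈ S.Q v := ⟨0, 1, S.Bzero_right v, (S.gq_zero_one v).symm⟩

theorem Q_le_stabilizer (v : V) : S.Q v ≤ MulAction.stabilizer G v := by
  rintro _ ⟨w, c, h, rfl⟩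
  exact S.gq_smul_self h c

theorem stabilizer_le_normalizer_Q (v : V) : MulAction.stabilizer G v ≤ Subgroup.normalizer (S.Q v : Set G) := by
  intro p hp
  have hpv : p • v = v := hp
  have hpv' : p⁻¹ • v = v := by rw [inv_smul_eq_iff, hpv]
  rw [Subgroup.mem_normalizer_iff]
  intro g
  constructor
  · rintro ⟨w, c, h, rfl⟩
    rw [S.conj_gq p h, hpv]
    exact S.gq_mem_Q (by rw [← hpv, S.iso, h]) c
  · intro hg
    obtain ⟨w, c, h, he⟩ := hg
    have : g = p⁻¹ * S.gq v w c * p⁻¹⁻¹ := by rw [← he]; group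
    rw [this, S.conj_gq p⁻¹ h, hpv']
    exact S.gq_mem_Q (by rw [← hpv', S.iso, h]) c

theorem Q_comm {v : V} {g h : G} (hg : g ∈ S.Q v) (hh : h ∈ S.Q v) : g * h = h * g := by
  obtain ⟨w, c, hw, rfl⟩ := hg
  obtain ⟨w', c', hw', rfl⟩ := hh
  rw [S.gq_mul hw hw', S.gq_mul hw' hw, add_comm w w', S.B_symm w' w, add_comm c c']

/-! ### the submodule `D̄_v(H)` -/

/-- `D̄_v(H)` as a submodule -/
def Dbar (H : Subgroup G) (v : V) : Submodule F V where
  carrier := S.DbarSet H v
  add_mem' := by
    rintro w w' ⟨h, c, hc⟩ ⟨h', c', hc'⟩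
    refine ⟨by rw [S.Badd_right, h, h', add_zero], c + c' + S.B w' w, ?_⟩
    rw [← S.gq_mul h h']
    exact H.mul_mem hc hc'
  zero_mem' := ⟨S.Bzero_right v, 0, by rw [S.gq_zero_zero]; exact H.one_mem⟩
  smul_mem' := by
    intro a x hx
    rcases S.h01 a with rfl | rfl
    · rw [zero_smul]
      exact ⟨S.Bzero_right v, 0, by rw [S.gq_zero_zero]; exact H.one_mem⟩
    · rw [one_smul]; exact hx

theorem mem_Dbar {H : Subgroup G} {v w : V} :
    w ∈ S.Dbar H v ↔ S.B v w = 0 ∧ ∃ c, S.gq v w c ∈ H := Iff.rfl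

theorem self_mem_Dbar (H : Subgroup G) (v : V) : v ∈ S.Dbar H v :=
  ⟨S.alt v, 0, by rw [S.gq_self_zero]; exact H.one_mem⟩

theorem smul_mem_Dbar {H : Subgroup G} {v w : V} {p : G} (hp : p ∈ H) (hpv : p • v = v)
    (hw : w ∈ S.Dbar H v) : p • w ∈ S.Dbar H v := by
  obtain ⟨h, c, hc⟩ := hw
  refine ⟨by rw [← hpv, S.iso, h], c, ?_⟩
  have := S.conj_gq p h c
  rw [hpv] at this
  rw [← this]
  exact H.mul_mem (H.mul_mem hp hc) (H.inv_mem hp)

theorem isB_iff {H : Subgroup G} {v : V} :
    S.IsB H v ↔ v ≠ 0 ∧ S.tv v ∉ H ∧ ∀ w, S.B v w = 0 → w ∈ S.Dbar H v := by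
  constructor
  · rintro ⟨h1, h2, h3⟩
    exact ⟨h1, h2, fun w hw => ⟨hw, h3 w hw⟩⟩
  · rintro ⟨h1, h2, h3⟩
    exact ⟨h1, h2, fun w hw => (h3 w hw).2⟩

/-! ### the function `γ_v` -/

theorem gam_symm (H : Subgroup G) {v w : V} (h : S.B v w = 0) : S.gam H v w = S.gam H w v := by
  unfold gam
  rw [S.gq_symm h]

theorem gq_gam_mem {H : Subgroup G} {v w : V} (hB : S.IsB H v) (h : S.B v w = 0) :
    S.gq v w (S.gam H v w) ∈ H := by
  unfold gam
  split_ifs with h0
  · exact h0
  · obtain ⟨c, hc⟩ := hB.2.2 w h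
    rcases S.h01 c with rfl | rfl
    · exact absurd hc h0
    · exact hc

theorem eq_gam_of_mem {H : Subgroup G} {v w : V} (hB : S.IsB H v) (h : S.B v w = 0) {c : F}
    (hc : S.gq v w c ∈ H) : c = S.gam H v w := by
  have h1 := S.gq_gam_mem hB h
  by_contra hne
  have h2 : c + S.gam H v w = 1 := by
    rcases S.h01 c with h3 | h3 <;> rcases S.h01 (S.gam H v w) with h4 | h4
    · exact absurd (h3.trans h4.symm) hne
    · rw [h3, h4, zero_add]
    · rw [h3, h4, add_zero]
    · exact absurd (h3.trans h4.symm) hne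
  have := H.mul_mem hc h1
  rw [S.gq_mul h h, S.vadd_self, S.alt, add_zero, h2, S.gq_zero_one] at this
  exact hB.2.1 this

theorem gam_add {H : Subgroup G} {v w w' : V} (hB : S.IsB H v) (h : S.B v w = 0) (h' : S.B v w' = 0) :
    S.gam H v (w + w') = S.gam H v w + S.gam H v w' + S.B w' w := by
  symm
  apply S.eq_gam_of_mem hB (by rw [S.Badd_right, h, h', add_zero])
  rw [← S.gq_mul h h']
  exact H.mul_mem (S.gq_gam_mem hB h) (S.gq_gam_mem hB h')

theorem gam_zero {H : Subgroup G} {v : V} (hB : S.IsB H v) : S.gam H v 0 = 0 := by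
  symm
  apply S.eq_gam_of_mem hB (S.Bzero_right v)
  rw [S.gq_zero_zero]; exact H.one_mem

theorem gam_self {H : Subgroup G} {v : V} (hB : S.IsB H v) : S.gam H v v = 0 := by
  symm
  apply S.eq_gam_of_mem hB (S.alt v)
  rw [S.gq_self_zero]; exact H.one_mem

theorem gam_add_self {H : Subgroup G} {v w : V} (hB : S.IsB H v) (h : S.B v w = 0) :
    S.gam H v (w + v) = S.gam H v w := by
  rw [S.gam_add hB h (S.alt v), S.gam_self hB, h, add_zero, add_zero]

theorem gam_smul {H : Subgroup G} {v w : V} (hB : S.IsB H v) {p : G} (hp : p ∈ H) (hpv : p • v = v)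
    (h : S.B v w = 0) : S.gam H v (p • w) = S.gam H v w := by
  symm
  apply S.eq_gam_of_mem hB (by rw [← hpv, S.iso, h])
  have := S.conj_gq p h (S.gam H v w)
  rw [hpv] at this
  rw [← this]
  exact H.mul_mem (H.mul_mem hp (S.gq_gam_mem hB h)) (H.inv_mem hp)

theorem isB_smul {H : Subgroup G} {v : V} (hB : S.IsB H v) {p : G} (hp : p ∈ H) : S.IsB H (p • v) := by
  refine ⟨fun h0 => hB.1 ((smul_eq_zero_iff_eq p).mp h0), ?_, ?_⟩
  · intro ht
    apply hB.2.1
    have := S.conj_tv p⁻¹ (p • v)
    rw [inv_smul_smul, inv_inv] at this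
    rw [← this]
    exact H.mul_mem (H.mul_mem (H.inv_mem hp) ht) hp
  · intro w hw
    have hw' : S.B v (p⁻¹ • w) = 0 := by
      rw [← S.iso p, smul_inv_smul]; exact hw
    obtain ⟨c, hc⟩ := hB.2.2 _ hw'
    refine ⟨c, ?_⟩
    have := S.conj_gq p hw' c
    rw [smul_inv_smul] at this
    rw [← this]
    exact H.mul_mem (H.mul_mem hp hc) (H.inv_mem hp)

/-- how `γ_v` changes under a transvection `tv a`, `a ⊥ v` -/
theorem gam_tv {H : Subgroup G} {v w a : V} (hB : S.IsB H v) (ha : S.B v a = 0) (h : S.B v w = 0) :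
    S.gam H v (S.tv a • w) = S.gam H v w + S.B w a * (S.gam H v a + 1) := by
  rw [S.tv_smul]
  rcases S.h01 (S.B w a) with h1 | h1
  · rw [h1, zero_smul, add_zero, zero_mul, add_zero]
  · rw [h1, one_smul, one_mul, S.gam_add hB h ha, S.B_symm a w, h1, add_assoc]

end Setting

end Cfsg.Agent.Lib.Helper11.Sp2
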