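import Mathlib
import Cfsg.Prelude.Def_ClassicalGeometry
import Cfsg.Prelude.Def_GeometricClasses
import Cfsg.Agent.Lib.Helper5.SpMax
import Cfsg.Agent.Lib.Helper5.LSubC
import Cfsg.Agent.Lib.Helper2.SpSubDefs
import Cfsg.Agent.Lib.Helper2.SpSubBasic
import Cfsg.Agent.Lib.Helper9.SpSubT
import Cfsg.Agent.Lib.Helper18.Sp4EDefs

/-!
# S5789 (`Sp_4(q)`, `q` even), leaf SF-B `exists_fix_of_ne` (helper11)

Without (†), an overgroup `M ≠ H0` of the standard subfield group contains an irrational element fixing `e₁`.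
Paper proof: `notes/S5789_plan.md`, §SF-B (three cases; the last one is the dihedral trick).
-/

set_option autoImplicit false
set_option linter.unusedSectionVars false
set_option linter.unusedVariables false

namespace Cfsg.Agent.Lib.Helper11.Sp4ELeaf
open Cfsg Matrix Cfsg.Agent.Lib.Helper5 Cfsg.Agent.Lib.Helper5.SpMax Cfsg.Agent.Lib.Helper2.SpSub
  Cfsg.Agent.Lib.Helper18.Sp4E Cfsg.Agent.Lib.Helper9.SpSubLeaf

section Gen
variable {F : Type*} [Field F] {m : ℕ}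

lemma sfb_neg_eq (h2 : (2 : F) = 0) (x : F) : -x = x := by
  have : x + x = 0 := by rw [← two_mul, h2, zero_mul]
  exact neg_eq_of_add_eq_zero_left this

lemma sfb_ff_ne_zero (i : Fin m) : (ff i : Fin m ⊕ Fin m → F) ≠ 0 := by
  intro h
  have := congrFun h (Sum.inr i)
  simp [ff] at this

/-- squaring is injective on `F`, so `x² ∈ F₀ → x ∈ F₀` for a finite subfield -/
lemma sfb_mem_of_sq_mem [Finite F] (h2 : (2 : F) = 0) (F₀ : Subfield F) {x : F}
    (hx : x * x ∈ F₀) : x ∈ F₀ := by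
  have hsq : ∀ a b : F, a * a = b * b → a = b := by
    intro a b hab
    have h3 : (a + b) * (a + b) = 0 := by
      have : (a + b) * (a + b) = a * a + b * b + 2 * (a * b) := by ring
      rw [this, h2, zero_mul, add_zero, hab, ← two_mul, h2, zero_mul]
    have h4 : a + b = 0 := by
      rcases mul_eq_zero.mp h3 with h | h <;> exact h
    rw [← sfb_neg_eq h2 b]
    exact eq_neg_of_add_eq_zero_left h4
  have hinj : Function.Injective (fun y : F₀ => y * y) := by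
    intro y z hyz
    apply Subtype.ext
    apply hsq
    have := congrArg Subtype.val hyz
    simpa using this
  haveI : Finite F₀ := Finite.of_injective (fun y : F₀ => (y : F)) Subtype.val_injective
  obtain ⟨y, hy⟩ := Finite.surjective_of_injective hinj ⟨x * x, hx⟩
  have h1 : (y : F) * y = x * x := by
    have := congrArg Subtype.val hy
    simpa using this
  rw [← hsq _ _ h1]
  exact y.2

/-- in characteristic 2 a transvection `t_v(1)` determines its centre -/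
lemma sfb_eq_of_tvc_eq (h2 : (2 : F) = 0) {u v : Fin m ⊕ Fin m → F} (hv : v ≠ 0)
    (h : tvc u (1 : F) = tvc v 1) : u = v := by
  have hx : ∀ x, sympForm m F x u • u = sympForm m F x v • v := by
    intro x
    have h1 : mv (tvc u (1 : F)) x = mv (tvc v 1) x := by rw [h]
    rw [tvc_mv, tvc_mv, one_mul, one_mul] at h1
    exact add_left_cancel h1
  obtain ⟨a, ha⟩ := sympForm_nondeg v hv
  have ha' : sympForm m F a v ≠ 0 := by
    rw [sympForm_swap]; exact neg_ne_zero.mpr ha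
  have h1 := hx a
  have hau : sympForm m F a u ≠ 0 := by
    intro h0
    rw [h0, zero_smul] at h1
    exact (smul_ne_zero ha' hv) h1.symm
  set l : F := sympForm m F a v / sympForm m F a u with hl
  have hul : u = l • v := by
    rw [hl, div_eq_inv_mul, ← smul_smul, ← h1, smul_smul, inv_mul_cancel₀ hau, one_smul]
  have h3 : (l * l) • v = (1 : F) • v := by
    have h4 := hx a
    rw [hul, sympForm_smul_right, smul_smul] at h4
    have h5 : (l * l * sympForm m F a v) • v = (1 * sympForm m F a v) • v := by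
      rw [one_mul, ← h4]; congr 1; ring
    rw [← smul_smul, ← smul_smul (1 : F)] at h5
    have h6 : sympForm m F a v • ((l * l) • v) = sympForm m F a v • ((1 : F) • v) := by
      rw [smul_comm, h5, smul_comm]
    exact smul_right_injective _ ha' h6
  have h4 : l * l = 1 := by
    by_contra hne
    have h5 : (l * l - 1) • v = 0 := by rw [sub_smul, h3, sub_self]
    rcases smul_eq_zero.mp h5 with h | h
    · exact hne (sub_eq_zero.mp h)
    · exact hv h
  have h5 : (l + 1) * (l + 1) = 0 := by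
    have : (l + 1) * (l + 1) = l * l + 1 + 2 * l := by ring
    rw [this, h4, h2, zero_mul, add_zero, ← two_mul, h2, zero_mul]
  have h6 : l = 1 := by
    have h7 : l + 1 = 0 := by rcases mul_eq_zero.mp h5 with h | h <;> exact h
    rw [← sfb_neg_eq h2 1]
    exact eq_neg_of_add_eq_zero_left h7
  rw [hul, h6, one_smul]

/-- an element of `H0` which maps one non-zero rational vector to a non-zero rational vector maps all
rational vectors to rational vectors -/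
lemma sfb_rat_of_mem_H0 (F₀ : Subfield F) {y : GL (Fin m ⊕ Fin m) F} (hy : y ∈ H0 m F₀)
    {r r' : Fin m ⊕ Fin m → F} (hr : RatV F₀ r) (hr' : RatV F₀ r') (hr'0 : r' ≠ 0)
    (hyr : mv y r = r') : ∀ x, RatV F₀ x → RatV F₀ (mv y x) := by
  obtain ⟨μ, hμ0, hμ⟩ := rat_of_mem_sub1 F₀ y (Subgroup.mem_inf.mp hy).1
  obtain ⟨s, hs, hys⟩ := hμ r hr
  obtain ⟨i, hi⟩ : ∃ i, r' i ≠ 0 := by
    by_contra h
    push Not at h
    exact hr'0 (funext h)
  have h1 : r' i = μ * s i := by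
    rw [← hyr, hys, Pi.smul_apply, smul_eq_mul]
  have hsi : s i ≠ 0 := by
    intro h0
    rw [h0, mul_zero] at h1
    exact hi h1
  have hμF : μ ∈ F₀ := by
    have : μ = r' i / s i := by rw [h1]; field_simp
    rw [this]
    exact F₀.div_mem (hr' i) (hs i)
  intro x hx
  obtain ⟨t, ht, hyt⟩ := hμ x hx
  rw [hyt]
  exact ratV_smul hμF ht

/-- an element fixing `c`, `w` (with `f(c,w) ≠ 0`) and `⟨c,w⟩^⊥` pointwise is the identity -/
lemma sfb_eq_one_of_fix {z : GL (Fin m ⊕ Fin m) F} {c w : Fin m ⊕ Fin m → F}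
    (hcw : sympForm m F c w ≠ 0) (hc : mv z c = c) (hw : mv z w = w)
    (hn : ∀ n, sympForm m F n c = 0 → sympForm m F n w = 0 → mv z n = n) : z = 1 := by
  apply gl_ext
  intro x
  rw [mv_one]
  have hwc : sympForm m F w c ≠ 0 := by
    rw [sympForm_swap]; exact neg_ne_zero.mpr hcw
  set l : F := sympForm m F x w / sympForm m F c w with hl
  set k : F := sympForm m F x c / sympForm m F w c with hk
  set n : Fin m ⊕ Fin m → F := x - l • c - k • w with hndef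
  have hnc : sympForm m F n c = 0 := by
    rw [hndef, sympForm_sub_left, sympForm_sub_left, sympForm_smul_left, sympForm_smul_left,
      sympForm_self, hk]
    field_simp
    ring
  have hnw : sympForm m F n w = 0 := by
    rw [hndef, sympForm_sub_left, sympForm_sub_left, sympForm_smul_left, sympForm_smul_left,
      sympForm_self, hl]
    field_simp
    ring
  have hx : x = n + l • c + k • w := by rw [hndef]; abel
  rw [hx, mv_add, mv_add, mv_smul, mv_smul, hc, hw, hn n hnc hnw]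

end Gen

section Dih
variable {F : Type*} [Field F] [Fintype F] {m : ℕ}

/-- the group of elements of `M` fixing `⟨c,w⟩^⊥` pointwise -/
def sfbG (M : Subgroup (GL (Fin m ⊕ Fin m) F)) (c w : Fin m ⊕ Fin m → F) :
    Subgroup (GL (Fin m ⊕ Fin m) F) where
  carrier := {x | x ∈ M ∧ ∀ n, sympForm m F n c = 0 → sympForm m F n w = 0 → mv x n = n}
  mul_mem' := by
    rintro a b ⟨ha, ha'⟩ ⟨hb, hb'⟩
    refine ⟨M.mul_mem ha hb, fun n h1 h2 => ?_⟩
    rw [mv_mul, hb' n h1 h2, ha' n h1 h2]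
  one_mem' := ⟨M.one_mem, fun n _ _ => mv_one n⟩
  inv_mem' := by
    rintro a ⟨ha, ha'⟩
    refine ⟨M.inv_mem ha, fun n h1 h2 => ?_⟩
    have := mv_inv_mv a n
    rwa [ha' n h1 h2] at this

/-- the dihedral trick: two transvections `t_c(1), t_w(1) ∈ M` with `f(c,w) ≠ 0` are conjugate by an element of
`M` which is the identity on `⟨c,w⟩^⊥`. -/
lemma sfb_exists_conj (h2 : (2 : F) = 0) {M : Subgroup (GL (Fin m ⊕ Fin m) F)} (hMS : M ≤ spGL m F)
    {c w : Fin m ⊕ Fin m → F} (hcw : sympForm m F c w ≠ 0) (hc : tvc c (1 : F) ∈ M)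
    (hw : tvc w (1 : F) ∈ M) :
    ∃ x ∈ M, mv x c = w ∧ ∀ n, sympForm m F n c = 0 → sympForm m F n w = 0 → mv x n = n := by
  classical
  have hc0 : c ≠ 0 := by
    rintro rfl
    exact hcw (sympForm_zero_left w)
  have hw0 : w ≠ 0 := by
    rintro rfl
    apply hcw
    rw [sympForm_swap, sympForm_zero_left, neg_zero]
  have hsq : ∀ v : Fin m ⊕ Fin m → F, tvc v (1 : F) * tvc v 1 = 1 := by
    intro v
    rw [tvc_mul]
    have : (1 : F) + 1 = 0 := by rw [one_add_one_eq_two, h2]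
    rw [this, tvc_zero]
  let i : ↥(sfbG M c w) := ⟨tvc c 1, hc, fun n h1 _ => by
    rw [tvc_mv, h1, mul_zero, zero_smul, add_zero]⟩
  let j : ↥(sfbG M c w) := ⟨tvc w 1, hw, fun n _ h1 => by
    rw [tvc_mv, h1, mul_zero, zero_smul, add_zero]⟩
  have hi : i * i = 1 := Subtype.ext (hsq c)
  have hj : j * j = 1 := Subtype.ext (hsq w)
  rcases Cfsg.Agent.Lib.Helper5.LSub.dihedral i j hi hj with ⟨x, hx⟩ | ⟨k, hz1, hzz, hzi, hzj⟩
  · have hxM : (x : GL (Fin m ⊕ Fin m) F) ∈ M := x.2.1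
    have h1 : (x : GL (Fin m ⊕ Fin m) F) * tvc c 1 * (x : GL (Fin m ⊕ Fin m) F)⁻¹ = tvc w 1 := by
      have := congrArg Subtype.val hx
      simpa using this
    rw [conj_tvc (hMS hxM)] at h1
    exact ⟨x, hxM, sfb_eq_of_tvc_eq h2 hw0 h1, x.2.2⟩
  · exfalso
    apply hz1
    set z : ↥(sfbG M c w) := (i * j) ^ k with hz
    have hzM : (z : GL (Fin m ⊕ Fin m) F) ∈ M := z.2.1
    have hzc : mv (z : GL (Fin m ⊕ Fin m) F) c = c := by
      have h1 : (z : GL (Fin m ⊕ Fin m) F) * tvc c 1 = tvc c 1 * (z : GL (Fin m ⊕ Fin m) F) := by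
        have := congrArg Subtype.val hzi
        simpa using this
      have h3 : (z : GL (Fin m ⊕ Fin m) F) * tvc c 1 * (z : GL (Fin m ⊕ Fin m) F)⁻¹ = tvc c 1 := by
        rw [h1, mul_assoc, mul_inv_cancel, mul_one]
      rw [conj_tvc (hMS hzM)] at h3
      exact sfb_eq_of_tvc_eq h2 hc0 h3
    have hzw : mv (z : GL (Fin m ⊕ Fin m) F) w = w := by
      have h1 : (z : GL (Fin m ⊕ Fin m) F) * tvc w 1 = tvc w 1 * (z : GL (Fin m ⊕ Fin m) F) := by
        have := congrArg Subtype.val hzj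
        simpa using this
      have h3 : (z : GL (Fin m ⊕ Fin m) F) * tvc w 1 * (z : GL (Fin m ⊕ Fin m) F)⁻¹ = tvc w 1 := by
        rw [h1, mul_assoc, mul_inv_cancel, mul_one]
      rw [conj_tvc (hMS hzM)] at h3
      exact sfb_eq_of_tvc_eq h2 hw0 h3
    exact Subtype.ext (sfb_eq_one_of_fix hcw hzc hzw z.2.2)

end Dih

section Main
variable {F : Type*} [Field F] [Fintype F]

/-- Case 3 of SF-B: if `w` is orthogonal to no non-zero rational vector, the two conjugating elements of the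
dihedral trick give an irrational element of `M` mapping `e₁` to `f₁`. -/
lemma sfb_case3 (h2 : (2 : F) = 0) (F₀ : Subfield F)
    {M : Subgroup (GL (Fin 2 ⊕ Fin 2) F)} (hHM : H0 2 F₀ ≤ M) (hMS : M ≤ spGL 2 F)
    {w : Fin 2 ⊕ Fin 2 → F} (htw : tvc w (1 : F) ∈ M)
    (h3 : ∀ b : Fin 2 ⊕ Fin 2 → F, RatV F₀ b → b ≠ 0 → sympForm 2 F b w ≠ 0) :
    ∃ y ∈ M, y ∉ H0 2 F₀ ∧ mv y (ee 0 : Fin 2 ⊕ Fin 2 → F) = ff 0 := by
  have hte : tvc (ee 0 : Fin 2 ⊕ Fin 2 → F) (1 : F) ∈ M :=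
    hHM (tvc_mem_H0 (ratV_ee 0) F₀.one_mem)
  have htf : tvc (ff 0 : Fin 2 ⊕ Fin 2 → F) (1 : F) ∈ M :=
    hHM (tvc_mem_H0 (ratV_ff 0) F₀.one_mem)
  have hew : sympForm 2 F (ee 0 : Fin 2 ⊕ Fin 2 → F) w ≠ 0 := h3 _ (ratV_ee 0) (ee_ne_zero 0)
  have hfw : sympForm 2 F (ff 0 : Fin 2 ⊕ Fin 2 → F) w ≠ 0 := h3 _ (ratV_ff 0) (sfb_ff_ne_zero 0)
  obtain ⟨xa, hxaM, hxac, hxan⟩ := sfb_exists_conj h2 hMS hew hte htw
  obtain ⟨xb, hxbM, hxbc, hxbn⟩ := sfb_exists_conj h2 hMS hfw htf htw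
  have hyM : xb⁻¹ * xa ∈ M := M.mul_mem (M.inv_mem hxbM) hxaM
  have hye : mv (xb⁻¹ * xa) (ee 0 : Fin 2 ⊕ Fin 2 → F) = ff 0 := by
    rw [mv_mul, hxac, ← hxbc, mv_inv_mv]
  refine ⟨xb⁻¹ * xa, hyM, fun hyH => ?_, hye⟩
  -- `y` is rational
  have hyrat := sfb_rat_of_mem_H0 F₀ hyH (ratV_ee 0) (ratV_ff 0) (sfb_ff_ne_zero 0) hye
  set α : F := sympForm 2 F (ff 1 : Fin 2 ⊕ Fin 2 → F) w with hα
  set β : F := sympForm 2 F (ee 1 : Fin 2 ⊕ Fin 2 → F) w with hβ
  have hα0 : α ≠ 0 := h3 _ (ratV_ff 1) (sfb_ff_ne_zero 1)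
  have hβ0 : β ≠ 0 := h3 _ (ratV_ee 1) (ee_ne_zero 1)
  have h01 : (0 : Fin 2) ≠ 1 := by decide
  have h10 : (1 : Fin 2) ≠ 0 := by decide
  -- the vector `v`
  set v : Fin 2 ⊕ Fin 2 → F := α • ee 1 + β • ff 1 with hv
  have hve : sympForm 2 F v (ee 0) = 0 := by
    rw [hv, sympForm_add_left, sympForm_smul_left, sympForm_smul_left, B_ee_ee, B_ff_ee, if_neg h10]
    ring
  have hvf : sympForm 2 F v (ff 0) = 0 := by
    rw [hv, sympForm_add_left, sympForm_smul_left, sympForm_smul_left, B_ff_ff, B_ee_ff, if_neg h10]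
    ring
  have hvw : sympForm 2 F v w = 0 := by
    rw [hv, sympForm_add_left, sympForm_smul_left, sympForm_smul_left, ← hα, ← hβ]
    have : α * β + β * α = 2 * (α * β) := by ring
    rw [this, h2, zero_mul]
  have hyv : mv (xb⁻¹ * xa) v = v := by
    rw [mv_mul, hxan v hve hvw]
    have := mv_inv_mv xb v
    rwa [hxbn v hvf hvw] at this
  -- `y e₂ = e₂`
  set p : Fin 2 ⊕ Fin 2 → F := mv (xb⁻¹ * xa) (ee 1) - ee 1 with hp
  set q : Fin 2 ⊕ Fin 2 → F := mv (xb⁻¹ * xa) (ff 1) - ff 1 with hq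
  have hpr : RatV F₀ p := ratV_sub (hyrat _ (ratV_ee 1)) (ratV_ee 1)
  have hqr : RatV F₀ q := ratV_sub (hyrat _ (ratV_ff 1)) (ratV_ff 1)
  have hpq : α • p + β • q = 0 := by
    have h5 : mv (xb⁻¹ * xa) v = α • mv (xb⁻¹ * xa) (ee 1) + β • mv (xb⁻¹ * xa) (ff 1) := by
      rw [hv, mv_add, mv_smul, mv_smul]
    rw [hp, hq, smul_sub, smul_sub]
    have h6 : α • mv (xb⁻¹ * xa) (ee 1) + β • mv (xb⁻¹ * xa) (ff 1) = α • ee 1 + β • ff 1 := by
      rw [← h5, hyv]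
    calc α • mv (xb⁻¹ * xa) (ee 1) - α • ee 1 + (β • mv (xb⁻¹ * xa) (ff 1) - β • ff 1)
        = (α • mv (xb⁻¹ * xa) (ee 1) + β • mv (xb⁻¹ * xa) (ff 1)) - (α • ee 1 + β • ff 1) := by abel
      _ = 0 := by rw [h6, sub_self]
  have hq0 : q = 0 := by
    by_contra hne
    obtain ⟨i, hi⟩ : ∃ i, q i ≠ 0 := by
      by_contra h
      push Not at h
      exact hne (funext h)
    have h5 : α * p i + β * q i = 0 := by
      have := congrFun hpq i
      simpa [Pi.add_apply, Pi.smul_apply, smul_eq_mul] using this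
    have hpi : p i ≠ 0 := by
      intro h0
      rw [h0, mul_zero, zero_add] at h5
      rcases mul_eq_zero.mp h5 with h | h
      · exact hβ0 h
      · exact hi h
    -- `α = c β` with `c = - q i / p i ∈ F₀`
    set c : F := -(q i / p i) with hc
    have hcF : c ∈ F₀ := F₀.neg_mem (F₀.div_mem (hqr i) (hpr i))
    have hαc : α = c * β := by
      rw [hc]
      field_simp
      linear_combination h5
    have hb : RatV F₀ (ff 1 - c • (ee 1 : Fin 2 ⊕ Fin 2 → F)) :=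
      ratV_sub (ratV_ff 1) (ratV_smul hcF (ratV_ee 1))
    have hb0 : ff 1 - c • (ee 1 : Fin 2 ⊕ Fin 2 → F) ≠ 0 := by
      intro h0
      have := congrFun h0 (Sum.inr 1)
      simp [ff, ee] at this
    apply h3 _ hb hb0
    rw [sympForm_sub_left, sympForm_smul_left, ← hα, ← hβ, hαc, sub_self]
  have hp0 : p = 0 := by
    rw [hq0, smul_zero, add_zero] at hpq
    rcases smul_eq_zero.mp hpq with h | h
    · exact absurd h hα0
    · exact h
  have hye2 : mv (xb⁻¹ * xa) (ee 1 : Fin 2 ⊕ Fin 2 → F) = ee 1 := by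
    rw [hp] at hp0
    exact sub_eq_zero.mp hp0
  have hab : mv xa (ee 1 : Fin 2 ⊕ Fin 2 → F) = mv xb (ee 1) := by
    have := congrArg (mv xb) hye2
    rwa [mv_mul, mv_mv_inv] at this
  -- the two images of `e₂`
  set ka : F := β / sympForm 2 F (ee 0 : Fin 2 ⊕ Fin 2 → F) w with hka
  set kb : F := β / sympForm 2 F (ff 0 : Fin 2 ⊕ Fin 2 → F) w with hkb
  have hka0 : ka ≠ 0 := div_ne_zero hβ0 hew
  have hxa2 : mv xa (ee 1 : Fin 2 ⊕ Fin 2 → F) = ee 1 - ka • ee 0 + ka • w := by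
    have hn1 : sympForm 2 F (ee 1 - ka • (ee 0 : Fin 2 ⊕ Fin 2 → F)) (ee 0) = 0 := by
      rw [sympForm_sub_left, sympForm_smul_left, B_ee_ee, B_ee_ee]; ring
    have hn2 : sympForm 2 F (ee 1 - ka • (ee 0 : Fin 2 ⊕ Fin 2 → F)) w = 0 := by
      rw [sympForm_sub_left, sympForm_smul_left, ← hβ, hka]
      field_simp
      ring
    have h5 : (ee 1 : Fin 2 ⊕ Fin 2 → F) = (ee 1 - ka • (ee 0 : Fin 2 ⊕ Fin 2 → F)) + ka • ee 0 := by
      abel
    conv_lhs => rw [h5]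
    rw [mv_add, mv_smul, hxac, hxan _ hn1 hn2]
  have hxb2 : mv xb (ee 1 : Fin 2 ⊕ Fin 2 → F) = ee 1 - kb • ff 0 + kb • w := by
    have hn1 : sympForm 2 F (ee 1 - kb • (ff 0 : Fin 2 ⊕ Fin 2 → F)) (ff 0) = 0 := by
      rw [sympForm_sub_left, sympForm_smul_left, B_ff_ff, B_ee_ff, if_neg h10]; ring
    have hn2 : sympForm 2 F (ee 1 - kb • (ff 0 : Fin 2 ⊕ Fin 2 → F)) w = 0 := by
      rw [sympForm_sub_left, sympForm_smul_left, ← hβ, hkb]
      field_simp
      ring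
    have h5 : (ee 1 : Fin 2 ⊕ Fin 2 → F) = (ee 1 - kb • (ff 0 : Fin 2 ⊕ Fin 2 → F)) + kb • ff 0 := by
      abel
    conv_lhs => rw [h5]
    rw [mv_add, mv_smul, hxbc, hxbn _ hn1 hn2]
  rw [hxa2, hxb2] at hab
  have h7 : (ka - kb) • w = ka • (ee 0 : Fin 2 ⊕ Fin 2 → F) - kb • ff 0 := by
    calc (ka - kb) • w = (ee 1 - ka • ee 0 + ka • w) - (ee 1 - kb • ff 0 + kb • w)
          + (ka • (ee 0 : Fin 2 ⊕ Fin 2 → F) - kb • ff 0) := by rw [sub_smul]; abel
      _ = ka • (ee 0 : Fin 2 ⊕ Fin 2 → F) - kb • ff 0 := by rw [hab, sub_self, zero_add]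
  have h9 : (ka - kb) * β = 0 := by
    have := congrArg (sympForm 2 F (ee 1 : Fin 2 ⊕ Fin 2 → F)) h7
    rw [sympForm_smul_right, sympForm_sub_right, sympForm_smul_right, sympForm_smul_right, B_ee_ee,
      B_ee_ff, if_neg h10, ← hβ] at this
    rw [this]; ring
  have hkk : ka = kb := by
    rcases mul_eq_zero.mp h9 with h | h
    · exact sub_eq_zero.mp h
    · exact absurd h hβ0
  rw [hkk, sub_self, zero_smul] at h7
  have h10' := congrFun h7 (Sum.inl 0)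
  simp [ee, ff] at h10'
  exact hka0 (hkk.trans h10'.symm ▸ rfl)


/-- **SF-B** (exact signature of `notes/S5789_leaves.lean`): without (†), an overgroup `M ≠ H0` contains an
irrational element fixing `e₁`. -/
theorem exists_fix_of_ne (h2 : (2 : F) = 0) (F₀ : Subfield F)
    {M : Subgroup (GL (Fin 2 ⊕ Fin 2) F)} (hHM : H0 2 F₀ ≤ M) (hMS : M ≤ spGL 2 F) (hnd : ¬ Dag F₀ M)
    (hne : ¬ M ≤ H0 2 F₀) :
    ∃ m ∈ M, m ∉ H0 2 F₀ ∧ mv m (ee 0 : Fin 2 ⊕ Fin 2 → F) = ee 0 := by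
  obtain ⟨g, hgM, hgH⟩ := SetLike.not_le_iff_exists.mp hne
  have hRM : Rg 2 F₀ ≤ M := le_trans (Rg_le_H0 F₀) hHM
  set w : Fin 2 ⊕ Fin 2 → F := mv g (ee 0) with hw
  have hw0 : w ≠ 0 := by
    intro h0
    have h1 := mv_inv_mv g (ee 0 : Fin 2 ⊕ Fin 2 → F)
    rw [← hw, h0, mv_zero] at h1
    exact ee_ne_zero (0 : Fin 2) h1.symm
  have hte : tvc (ee 0 : Fin 2 ⊕ Fin 2 → F) (1 : F) ∈ M :=
    hHM (tvc_mem_H0 (ratV_ee 0) F₀.one_mem)
  have htw : tvc w (1 : F) ∈ M := by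
    have := conj_tvc (hMS hgM) (ee 0 : Fin 2 ⊕ Fin 2 → F) (1 : F)
    rw [hw]
    change tvc ((g : Matrix (Fin 2 ⊕ Fin 2) (Fin 2 ⊕ Fin 2) F) *ᵥ ee 0) 1 ∈ M
    rw [← this]
    exact M.mul_mem (M.mul_mem hgM hte) (M.inv_mem hgM)
  by_cases hc1 : ∃ (μ : F) (a' : Fin 2 ⊕ Fin 2 → F), RatV F₀ a' ∧ w = μ • a'
  · -- Case 1: `w` is a multiple of a rational vector
    obtain ⟨μ, a', ha', hwa⟩ := hc1
    have ha'0 : a' ≠ 0 := by
      rintro rfl
      rw [smul_zero] at hwa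
      exact hw0 hwa
    have hμF : μ ∈ F₀ := by
      apply sfb_mem_of_sq_mem h2 F₀
      by_contra hμ2
      apply hnd
      refine ⟨a', ha', ha'0, μ ^ 2 * 1, ?_, ?_⟩
      · rw [mul_one, pow_two]; exact hμ2
      · rw [← tvc_smul, ← hwa]; exact htw
    have hwr : RatV F₀ w := by rw [hwa]; exact ratV_smul hμF ha'
    obtain ⟨h, hh, hhw⟩ := exists_Rg_map_ee F₀ (0 : Fin 2) hwr hw0
    refine ⟨h⁻¹ * g, M.mul_mem (M.inv_mem (hRM hh)) hgM, fun hH => ?_, ?_⟩
    · apply hgH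
      have : g = h * (h⁻¹ * g) := by group
      rw [this]
      exact (H0 2 F₀).mul_mem (Rg_le_H0 F₀ hh) hH
    · rw [mv_mul, ← hw, ← hhw, mv_inv_mv]
  by_cases hc2 : ∃ b : Fin 2 ⊕ Fin 2 → F, RatV F₀ b ∧ b ≠ 0 ∧ sympForm 2 F b w = 0
  · -- Case 2: `t_w(1)` fixes a rational vector
    obtain ⟨b, hb, hb0, hbw⟩ := hc2
    have hfixb : mv (tvc w (1 : F)) b = b := by
      rw [tvc_mv, hbw, mul_zero, zero_smul, add_zero]
    have hm0 : tvc w (1 : F) ∉ H0 2 F₀ := by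
      intro hH
      have hrat := sfb_rat_of_mem_H0 F₀ hH hb hb hb0 hfixb
      obtain ⟨x, hx, hwx⟩ := exists_partner F₀ hw0
      have hxw : sympForm 2 F x w ≠ 0 := by
        rw [sympForm_swap]; exact neg_ne_zero.mpr hwx
      apply hc1
      refine ⟨(sympForm 2 F x w)⁻¹, mv (tvc w (1 : F)) x - x, ratV_sub (hrat x hx) hx, ?_⟩
      rw [tvc_mv, one_mul, add_sub_cancel_left, smul_smul, inv_mul_cancel₀ hxw, one_smul]
    obtain ⟨h, hh, hhb⟩ := exists_Rg_map_ee F₀ (0 : Fin 2) hb hb0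
    refine ⟨h⁻¹ * tvc w 1 * h, M.mul_mem (M.mul_mem (M.inv_mem (hRM hh)) htw) (hRM hh),
      fun hH => ?_, ?_⟩
    · apply hm0
      have : tvc w (1 : F) = h * (h⁻¹ * tvc w 1 * h) * h⁻¹ := by group
      rw [this]
      exact (H0 2 F₀).mul_mem ((H0 2 F₀).mul_mem (Rg_le_H0 F₀ hh) hH)
        ((H0 2 F₀).inv_mem (Rg_le_H0 F₀ hh))
    · rw [mv_mul, mv_mul, hhb, hfixb, ← hhb, mv_inv_mv]
  · -- Case 3: the dihedral trick
    have h3 : ∀ b : Fin 2 ⊕ Fin 2 → F, RatV F₀ b → b ≠ 0 → sympForm 2 F b w ≠ 0 := by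
      intro b hb hb0 h0
      exact hc2 ⟨b, hb, hb0, h0⟩
    obtain ⟨y, hyM, hyH, hye⟩ := sfb_case3 h2 F₀ hHM hMS htw h3
    obtain ⟨h, hh, hhf⟩ := exists_Rg_map F₀ (ratV_ff (0 : Fin 2)) (ratV_ee (0 : Fin 2))
      (sfb_ff_ne_zero (F := F) (0 : Fin 2)) (ee_ne_zero (0 : Fin 2))
    refine ⟨h * y, M.mul_mem (hRM hh) hyM, fun hH => ?_, ?_⟩
    · apply hyH
      have : y = h⁻¹ * (h * y) := by group
      rw [this]
      exact (H0 2 F₀).mul_mem ((H0 2 F₀).inv_mem (Rg_le_H0 F₀ hh)) hH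
    · rw [mv_mul, hye, hhf]

end Main

end Cfsg.Agent.Lib.Helper11.Sp4ELeaf
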