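import Mathlib
import Cfsg.Prelude.Def_ClassicalGeometry
import Cfsg.Prelude.Def_GeometricClasses
import Cfsg.Agent.Lib.Helper11.Sp4ESFB
import Cfsg.Agent.S5650
import Cfsg.Agent.Lib.Helper2.SpSubR2
import Cfsg.Agent.Lib.Helper1.SpSubR

/-!
# Subfield subgroups of `Sp_2m(q)`, `q` even, `m ≥ 3`: every element of a proper overgroup is rational (helper11)

Replaces `easy_case5650` / `hard_case5650` of `Cfsg.Agent.S5650` in characteristic 2 for every `m ≥ 3` and EVERY degree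
`[F : F₀]` (for S5804, `Sp_6(q)`): the dihedral trick of `Sp4ESFB` (leaf SF-B of S5789) + `ratC5650` /
`mem_of_rat_point5650`, following helper18's remark (msg 4621).
-/

set_option autoImplicit false
set_option linter.unusedSectionVars false
set_option linter.unusedVariables false

namespace Cfsg.Agent.Lib.Helper11.SpSubEven
open Cfsg Matrix Cfsg.Agent.Lib.Helper5 Cfsg.Agent.Lib.Helper5.SpMax Cfsg.Agent.Lib.Helper2.SpSub
  Cfsg.Agent.Lib.Helper9.SpSubLeaf Cfsg.Agent.Lib.Helper11.Sp4ELeaf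

variable {F : Type*} [Field F] [Fintype F] {m : ℕ}

/-- Case 3 of SF-B for general `m` (indices `i ≠ j`): if `w` is orthogonal to no non-zero rational vector, the two conjugating elements of the
dihedral trick give an irrational element of `M` mapping `e₁` to `f₁`. -/
lemma sfe_case3 (h2 : (2 : F) = 0) (F₀ : Subfield F) {i j : Fin m} (hij : i ≠ j)
    {M : Subgroup (GL (Fin m ⊕ Fin m) F)} (hHM : H0 m F₀ ≤ M) (hMS : M ≤ spGL m F)
    {w : Fin m ⊕ Fin m → F} (htw : tvc w (1 : F) ∈ M)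
    (h3 : ∀ b : Fin m ⊕ Fin m → F, RatV F₀ b → b ≠ 0 → sympForm m F b w ≠ 0) :
    ∃ y ∈ M, y ∉ H0 m F₀ ∧ mv y (ee i : Fin m ⊕ Fin m → F) = ff i := by
  have hte : tvc (ee i : Fin m ⊕ Fin m → F) (1 : F) ∈ M :=
    hHM (tvc_mem_H0 (ratV_ee i) F₀.one_mem)
  have htf : tvc (ff i : Fin m ⊕ Fin m → F) (1 : F) ∈ M :=
    hHM (tvc_mem_H0 (ratV_ff i) F₀.one_mem)
  have hew : sympForm m F (ee i : Fin m ⊕ Fin m → F) w ≠ 0 := h3 _ (ratV_ee i) (ee_ne_zero i)
  have hfw : sympForm m F (ff i : Fin m ⊕ Fin m → F) w ≠ 0 := h3 _ (ratV_ff i) (sfb_ff_ne_zero i)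
  obtain ⟨xa, hxaM, hxac, hxan⟩ := sfb_exists_conj h2 hMS hew hte htw
  obtain ⟨xb, hxbM, hxbc, hxbn⟩ := sfb_exists_conj h2 hMS hfw htf htw
  have hyM : xb⁻¹ * xa ∈ M := M.mul_mem (M.inv_mem hxbM) hxaM
  have hye : mv (xb⁻¹ * xa) (ee i : Fin m ⊕ Fin m → F) = ff i := by
    rw [mv_mul, hxac, ← hxbc, mv_inv_mv]
  refine ⟨xb⁻¹ * xa, hyM, fun hyH => ?_, hye⟩
  -- `y` is rational
  have hyrat := sfb_rat_of_mem_H0 F₀ hyH (ratV_ee i) (ratV_ff i) (sfb_ff_ne_zero i) hye
  set α : F := sympForm m F (ff j : Fin m ⊕ Fin m → F) w with hα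
  set β : F := sympForm m F (ee j : Fin m ⊕ Fin m → F) w with hβ
  have hα0 : α ≠ 0 := h3 _ (ratV_ff j) (sfb_ff_ne_zero j)
  have hβ0 : β ≠ 0 := h3 _ (ratV_ee j) (ee_ne_zero j)
  have h10 : j ≠ i := fun h => hij h.symm
  -- the vector `v`
  set v : Fin m ⊕ Fin m → F := α • ee j + β • ff j with hv
  have hve : sympForm m F v (ee i) = 0 := by
    rw [hv, sympForm_add_left, sympForm_smul_left, sympForm_smul_left, B_ee_ee, B_ff_ee, if_neg h10]
    ring
  have hvf : sympForm m F v (ff i) = 0 := by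
    rw [hv, sympForm_add_left, sympForm_smul_left, sympForm_smul_left, B_ff_ff, B_ee_ff, if_neg h10]
    ring
  have hvw : sympForm m F v w = 0 := by
    rw [hv, sympForm_add_left, sympForm_smul_left, sympForm_smul_left, ← hα, ← hβ]
    have : α * β + β * α = 2 * (α * β) := by ring
    rw [this, h2, zero_mul]
  have hyv : mv (xb⁻¹ * xa) v = v := by
    rw [mv_mul, hxan v hve hvw]
    have := mv_inv_mv xb v
    rwa [hxbn v hvf hvw] at this
  -- `y e₂ = e₂`
  set p : Fin m ⊕ Fin m → F := mv (xb⁻¹ * xa) (ee j) - ee j with hp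
  set q : Fin m ⊕ Fin m → F := mv (xb⁻¹ * xa) (ff j) - ff j with hq
  have hpr : RatV F₀ p := ratV_sub (hyrat _ (ratV_ee j)) (ratV_ee j)
  have hqr : RatV F₀ q := ratV_sub (hyrat _ (ratV_ff j)) (ratV_ff j)
  have hpq : α • p + β • q = 0 := by
    have h5 : mv (xb⁻¹ * xa) v = α • mv (xb⁻¹ * xa) (ee j) + β • mv (xb⁻¹ * xa) (ff j) := by
      rw [hv, mv_add, mv_smul, mv_smul]
    rw [hp, hq, smul_sub, smul_sub]
    have h6 : α • mv (xb⁻¹ * xa) (ee j) + β • mv (xb⁻¹ * xa) (ff j) = α • ee j + β • ff j := by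
      rw [← h5, hyv]
    calc α • mv (xb⁻¹ * xa) (ee j) - α • ee j + (β • mv (xb⁻¹ * xa) (ff j) - β • ff j)
        = (α • mv (xb⁻¹ * xa) (ee j) + β • mv (xb⁻¹ * xa) (ff j)) - (α • ee j + β • ff j) := by abel
      _ = 0 := by rw [h6, sub_self]
  have hq0 : q = 0 := by
    by_contra hne
    obtain ⟨i, hi⟩ : ∃ i, q i ≠ 0 := by
      by_contra h
      push Not at h
      exact hne (funext h)
    have h5 : α * p i + β * q i = 0 := by
      have := congrFun hpq i
      simpa [Pi.add_apply, Pi.smul_apply, smul_eq_mul] using this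
    have hpi : p i ≠ 0 := by
      intro h0
      rw [h0, mul_zero, zero_add] at h5
      rcases mul_eq_zero.mp h5 with h | h
      · exact hβ0 h
      · exact hi h
    -- `α = c β` with `c = - q i / p i ∈ F₀`
    set c : F := -(q i / p i) with hc
    have hcF : c ∈ F₀ := F₀.neg_mem (F₀.div_mem (hqr i) (hpr i))
    have hαc : α = c * β := by
      rw [hc]
      field_simp
      linear_combination h5
    have hb : RatV F₀ (ff j - c • (ee j : Fin m ⊕ Fin m → F)) :=
      ratV_sub (ratV_ff j) (ratV_smul hcF (ratV_ee j))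
    have hb0 : ff j - c • (ee j : Fin m ⊕ Fin m → F) ≠ 0 := by
      intro h0
      have := congrFun h0 (Sum.inr j)
      simp [ff, ee] at this
    apply h3 _ hb hb0
    rw [sympForm_sub_left, sympForm_smul_left, ← hα, ← hβ, hαc, sub_self]
  have hp0 : p = 0 := by
    rw [hq0, smul_zero, add_zero] at hpq
    rcases smul_eq_zero.mp hpq with h | h
    · exact absurd h hα0
    · exact h
  have hye2 : mv (xb⁻¹ * xa) (ee j : Fin m ⊕ Fin m → F) = ee j := by
    rw [hp] at hp0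
    exact sub_eq_zero.mp hp0
  have hab : mv xa (ee j : Fin m ⊕ Fin m → F) = mv xb (ee j) := by
    have := congrArg (mv xb) hye2
    rwa [mv_mul, mv_mv_inv] at this
  -- the two images of `e₂`
  set ka : F := β / sympForm m F (ee i : Fin m ⊕ Fin m → F) w with hka
  set kb : F := β / sympForm m F (ff i : Fin m ⊕ Fin m → F) w with hkb
  have hka0 : ka ≠ 0 := div_ne_zero hβ0 hew
  have hxa2 : mv xa (ee j : Fin m ⊕ Fin m → F) = ee j - ka • ee i + ka • w := by
    have hn1 : sympForm m F (ee j - ka • (ee i : Fin m ⊕ Fin m → F)) (ee i) = 0 := by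
      rw [sympForm_sub_left, sympForm_smul_left, B_ee_ee, B_ee_ee]; ring
    have hn2 : sympForm m F (ee j - ka • (ee i : Fin m ⊕ Fin m → F)) w = 0 := by
      rw [sympForm_sub_left, sympForm_smul_left, ← hβ, hka]
      field_simp
      ring
    have h5 : (ee j : Fin m ⊕ Fin m → F) = (ee j - ka • (ee i : Fin m ⊕ Fin m → F)) + ka • ee i := by
      abel
    conv_lhs => rw [h5]
    rw [mv_add, mv_smul, hxac, hxan _ hn1 hn2]
  have hxb2 : mv xb (ee j : Fin m ⊕ Fin m → F) = ee j - kb • ff i + kb • w := by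
    have hn1 : sympForm m F (ee j - kb • (ff i : Fin m ⊕ Fin m → F)) (ff i) = 0 := by
      rw [sympForm_sub_left, sympForm_smul_left, B_ff_ff, B_ee_ff, if_neg h10]; ring
    have hn2 : sympForm m F (ee j - kb • (ff i : Fin m ⊕ Fin m → F)) w = 0 := by
      rw [sympForm_sub_left, sympForm_smul_left, ← hβ, hkb]
      field_simp
      ring
    have h5 : (ee j : Fin m ⊕ Fin m → F) = (ee j - kb • (ff i : Fin m ⊕ Fin m → F)) + kb • ff i := by
      abel
    conv_lhs => rw [h5]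
    rw [mv_add, mv_smul, hxbc, hxbn _ hn1 hn2]
  rw [hxa2, hxb2] at hab
  have h7 : (ka - kb) • w = ka • (ee i : Fin m ⊕ Fin m → F) - kb • ff i := by
    calc (ka - kb) • w = (ee j - ka • ee i + ka • w) - (ee j - kb • ff i + kb • w)
          + (ka • (ee i : Fin m ⊕ Fin m → F) - kb • ff i) := by rw [sub_smul]; abel
      _ = ka • (ee i : Fin m ⊕ Fin m → F) - kb • ff i := by rw [hab, sub_self, zero_add]
  have h9 : (ka - kb) * β = 0 := by
    have := congrArg (sympForm m F (ee j : Fin m ⊕ Fin m → F)) h7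
    rw [sympForm_smul_right, sympForm_sub_right, sympForm_smul_right, sympForm_smul_right, B_ee_ee,
      B_ee_ff, if_neg h10, ← hβ] at this
    rw [this]; ring
  have hkk : ka = kb := by
    rcases mul_eq_zero.mp h9 with h | h
    · exact sub_eq_zero.mp h
    · exact absurd h hβ0
  rw [hkk, sub_self, zero_smul] at h7
  have h10' := congrFun h7 (Sum.inl i)
  simp [ee, ff] at h10'
  exact hka0 (hkk.trans h10'.symm ▸ rfl)



/-- char 2, `m ≥ 3`: every element of a proper overgroup of the standard subfield group is rational up to a scalar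
(all degrees `[F : F₀]`). -/
theorem hard_case_even {F₀ : Subfield F} (h2 : (2 : F) = 0) (hm : 3 ≤ m)
    {M : Subgroup (GL (Fin m ⊕ Fin m) F)} (h : Ctx F₀ M) {g : GL (Fin m ⊕ Fin m) F} (hg : g ∈ M) :
    g ∈ Cfsg.Geo.subfieldSubgroup F₀ (1 : GL (Fin m ⊕ Fin m) F) := by
  have hHM : H0 m F₀ ≤ M := h.le
  have hMS : M ≤ spGL m F := h.le_sp
  set i : Fin m := ⟨0, by omega⟩ with hi
  set j : Fin m := ⟨1, by omega⟩ with hj
  have hij : i ≠ j := by
    intro hh
    have := congrArg Fin.val hh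
    simp [hi, hj] at this
  set w : Fin m ⊕ Fin m → F := mv g (ee i) with hw
  have hte : tvc (ee i : Fin m ⊕ Fin m → F) (1 : F) ∈ M :=
    hHM (tvc_mem_H0 (ratV_ee i) F₀.one_mem)
  have htw : tvc w (1 : F) ∈ M := by
    have := conj_tvc (hMS hg) (ee i : Fin m ⊕ Fin m → F) (1 : F)
    rw [hw]
    change tvc ((g : Matrix (Fin m ⊕ Fin m) (Fin m ⊕ Fin m) F) *ᵥ ee i) 1 ∈ M
    rw [← this]
    exact M.mul_mem (M.mul_mem hg hte) (M.inv_mem hg)
  by_cases hc2 : ∃ b : Fin m ⊕ Fin m → F, RatV F₀ b ∧ b ≠ 0 ∧ sympForm m F b w = 0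
  · obtain ⟨b, hb, hb0, hbw⟩ := hc2
    have hwb : sympForm m F w b = 0 := by rw [sympForm_swap, hbw, neg_zero]
    obtain ⟨μ, r, hr, hwr⟩ := Cfsg.Agent.S5650.ratC5650 hm h one_ne_zero htw hb hb0 hwb
    exact Cfsg.Agent.S5650.mem_of_rat_point5650 hm h hg (ratV_ee i) (ee_ne_zero i) hr hwr
  · exfalso
    have h3 : ∀ b : Fin m ⊕ Fin m → F, RatV F₀ b → b ≠ 0 → sympForm m F b w ≠ 0 := by
      intro b hb hb0 h0
      exact hc2 ⟨b, hb, hb0, h0⟩
    obtain ⟨y, hyM, hyH, hye⟩ := sfe_case3 h2 F₀ hij hHM hMS htw h3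
    apply hyH
    refine Subgroup.mem_inf.mpr ⟨?_, hMS hyM⟩
    exact Cfsg.Agent.S5650.mem_of_rat_point5650 hm h hyM (ratV_ee i) (ee_ne_zero i) (ratV_ff i)
      (μ := 1) (by rw [one_smul]; exact hye)

/-- char 2, `3 ≤ m`: the standard subfield subgroup is maximal in `Sp_2m(F)`, for every prime degree. -/
theorem std_maximal_even (h2 : (2 : F) = 0) (hm : 3 ≤ m) (F₀ : Subfield F)
    (hp : (Module.finrank F₀ F).Prime) : Cfsg.Geo.IsMaximalIn (spGL m F) (H0 m F₀) := by
  refine ⟨Cfsg.Agent.Lib.Helper2.SpSubLeaf.H0_lt F₀ (by omega) hp.two_le, fun M hHM hMS => ?_⟩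
  by_cases hM : spGL m F ≤ M
  · right
    exact le_antisymm hMS hM
  · left
    have hctx : Ctx F₀ M := ⟨hHM, hMS, hM, hp⟩
    apply le_antisymm _ hHM
    intro g hg
    exact Subgroup.mem_inf.mpr ⟨hard_case_even h2 hm hctx hg, hMS hg⟩

lemma sfe_two_eq_zero (heven : ¬ Odd (Fintype.card F)) : (2 : F) = 0 := by
  have hchar : ringChar F = 2 :=
    FiniteField.even_card_iff_char_two.mpr (Nat.even_iff.mp (Nat.not_odd_iff_even.mp heven))
  haveI := ringChar.of_eq hchar
  have := CharP.cast_eq_zero F 2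
  exact_mod_cast this

/-- `q` even, `3 ≤ m`: every subfield subgroup of prime degree (arbitrary rational structure) is maximal in
`Sp_2m(q)` (the frozen shape of the subfield conjunct of the `Sp_2m` geometric rows). -/
theorem subfield_max_even (heven : ¬ Odd (Fintype.card F)) (hm : 3 ≤ m) (F₀ : Subfield F) (r : ℕ)
    (P : Matrix.GeneralLinearGroup (Fin m ⊕ Fin m) F) (ζ : F) (hr : r.Prime)
    (hcard : Fintype.card F = Nat.card F₀ ^ r) (hζ : ζ ≠ 0)
    (hP : Cfsg.Geo.IsFormRationalStructure (Cfsg.sympForm m F) F₀ ζ P) :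
    Cfsg.Geo.IsMaximalIn (Cfsg.spGL m F) (Cfsg.Geo.subfieldSubgroup F₀ P ⊓ Cfsg.spGL m F) := by
  have hfr : Module.finrank F₀ F = r := Cfsg.Agent.S5650.finrank_eq_of_card5650 F₀ hcard
  have hp : (Module.finrank F₀ F).Prime := by rw [hfr]; exact hr
  obtain ⟨P', hP'eq, hP'⟩ := Cfsg.Agent.Lib.Helper1.SpSubLeaf.exists_normalized F₀ P ζ hζ hP
  rw [← hP'eq]
  exact Cfsg.Agent.Lib.Helper2.SpSubLeaf.maximal_transfer F₀ P' ζ hζ hP'
    (std_maximal_even (sfe_two_eq_zero heven) hm F₀ hp)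

end Cfsg.Agent.Lib.Helper11.SpSubEven
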