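import Mathlib
import Cfsg.Agent.Lib.Helper5.TWS.Defs
import Cfsg.Agent.Lib.Helper8.TW.Defs
import Cfsg.Agent.Lib.Helper22.TWExtBasic
import Cfsg.Agent.Lib.Helper22.TWExtMore
import Cfsg.Agent.Lib.Helper14.TWIIDefs
import Cfsg.Agent.Lib.Helper14.TWSIIDefs

/-!
# S5668 Stage II-B, leaf B1 `B1S_blocks`, part (b): the ASSEMBLY (helper11)

`B1S_asm`: from `γ ∈ GL(B)`, `c ≠ 0` and the three relations
`g (b ⊗ y) = γ b ⊗ y`, `g (b ⊗ y') ≡ c • γ b ⊗ y' (mod C)`, `g (b ⊗ a) ≡ γ b ⊗ a' (mod W)` (`a, a' ∈ A₀ = ⟨y,y'⟩^⊥`)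
construct `α ∈ GL(A)` (`α y = y`, `α y' = c y'`, `α A₀ ⊆ A₀`) and `u ∈ U^W` with `g = (α ⊗ γ) u`.
`α` is defined manifestly linearly: `α a = sf a y' • y - c • sf a y • y' + π₀ (s • ev_{u₁} (g (b₀ ⊗ π₀ a)))`.
-/

set_option autoImplicit false
set_option linter.unusedSectionVars false
set_option linter.unusedVariables false

namespace Cfsg.Agent.Lib.Helper11.TWSIILeaf
open Matrix Cfsg.Geo Cfsg.Agent.Lib.Helper18.AschA89 Cfsg.Agent.Lib.Helper8.TW Cfsg.Agent.Lib.Helper5.TWS
  Cfsg.Agent.Lib.Helper14.TWII Cfsg.Agent.Lib.Helper14.TWSII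
open Cfsg.Agent.Lib.Helper25.SpT (sf Jm sfv)
open Cfsg.Agent.Lib.Helper22.TWLeaf (ins_comp ins_inj vec_ext_ins ctr_tens mem_Cf_iff_ctr ctr_ext_mulVec ctr_slot_mulVec
  ctr_add ctr_smul ext_mulVec_tens slot_mulVec_tens mem_Wf_iff_tens)

variable {F : Type*} [Field F] [Fintype F] {t k : ℕ}

/-! ### `tens` and `ctr`: linearity -/

lemma tens_apply_ins11 (i : Fin (t + 1)) (b : Idx t k → F) (a : Fin k → F) (d : Fin k) (u : Idx t k) :
    tens i b a (ins i d u) = b u * a d := by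
  simp only [tens, ins_same, ins_comp]

lemma tens_add_left11 (i : Fin (t + 1)) (b b' : Idx t k → F) (a : Fin k → F) :
    tens i (b + b') a = tens i b a + tens i b' a := by
  funext x; simp only [tens, Pi.add_apply]; ring

lemma tens_add_right11 (i : Fin (t + 1)) (b : Idx t k → F) (a a' : Fin k → F) :
    tens i b (a + a') = tens i b a + tens i b a' := by
  funext x; simp only [tens, Pi.add_apply]; ring

lemma tens_smul_left11 (i : Fin (t + 1)) (c : F) (b : Idx t k → F) (a : Fin k → F) :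
    tens i (c • b) a = c • tens i b a := by
  funext x; simp only [tens, Pi.smul_apply, smul_eq_mul]; ring

lemma tens_smul_right11 (i : Fin (t + 1)) (b : Idx t k → F) (c : F) (a : Fin k → F) :
    tens i b (c • a) = c • tens i b a := by
  funext x; simp only [tens, Pi.smul_apply, smul_eq_mul]; ring

lemma tens_zero_left11 (i : Fin (t + 1)) (a : Fin k → F) : tens i (0 : Idx t k → F) a = 0 := by
  funext x; simp [tens]

lemma tens_zero_right11 (i : Fin (t + 1)) (b : Idx t k → F) : tens i b (0 : Fin k → F) = 0 := by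
  funext x; simp [tens]

lemma tens_sum_left11 {ι : Type*} (s : Finset ι) (i : Fin (t + 1)) (f : ι → Idx t k → F) (a : Fin k → F) :
    tens i (∑ j ∈ s, f j) a = ∑ j ∈ s, tens i (f j) a := by
  classical
  induction s using Finset.induction_on with
  | empty => simp [tens_zero_left11]
  | insert j s hj ih => rw [Finset.sum_insert hj, Finset.sum_insert hj, tens_add_left11, ih]

lemma ctr_neg_left11 (i : Fin (t + 1)) (ξ : Fin k → F) (v : Idx (t + 1) k → F) :
    ctr i (-ξ) v = - ctr i ξ v := by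
  funext u; simp [ctr]

lemma ctr_smul_left11 (i : Fin (t + 1)) (c : F) (ξ : Fin k → F) (v : Idx (t + 1) k → F) :
    ctr i (c • ξ) v = c • ctr i ξ v := by
  funext u
  simp only [ctr, Pi.smul_apply, smul_eq_mul, Finset.mul_sum]
  apply Finset.sum_congr rfl
  intro a _
  ring

lemma ctr_single11 (i : Fin (t + 1)) (d : Fin k) (v : Idx (t + 1) k → F) (u : Idx t k) :
    ctr i (Pi.single d (1 : F)) v u = v (ins i d u) := by
  classical
  simp only [ctr]
  rw [Finset.sum_eq_single d]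
  · simp
  · intro a _ ha
    rw [Pi.single_eq_of_ne ha, zero_mul]
  · intro h; exact absurd (Finset.mem_univ _) h

lemma tens_eq_zero_right11 (i : Fin (t + 1)) (b : Idx t k → F) (a : Fin k → F) (u : Idx t k) (hb : b u ≠ 0)
    (h : tens i b a = 0) : a = 0 := by
  funext d
  have h1 := congrFun h (ins i d u)
  rw [tens_apply_ins11] at h1
  exact (mul_eq_zero.1 h1).resolve_left hb

/-! ### the linear maps -/

/-- `a ↦ sf a y` -/
def sfL11 (y : Fin k → F) : (Fin k → F) →ₗ[F] F where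
  toFun a := sf a y
  map_add' a b := Cfsg.Agent.Lib.Helper25.SpT.sf_add_left a b y
  map_smul' c a := by
    simp only [RingHom.id_apply, smul_eq_mul]
    exact Cfsg.Agent.Lib.Helper25.SpT.sf_smul_left c a y

@[simp] lemma sfL11_apply (y a : Fin k → F) : sfL11 y a = sf a y := rfl

/-- the projection onto `A₀ = ⟨y,y'⟩^⊥` along `⟨y,y'⟩` (for `sf y y' = 1`) -/
def pi0L11 (y y' : Fin k → F) : (Fin k → F) →ₗ[F] (Fin k → F) :=
  LinearMap.id - (sfL11 y').smulRight y + (sfL11 y).smulRight y'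

lemma pi0L11_apply (y y' a : Fin k → F) : pi0L11 y y' a = a - sf a y' • y + sf a y • y' := by
  simp [pi0L11]

/-- `a ↦ b ⊗ a` -/
def tensR11 (i : Fin (t + 1)) (b : Idx t k → F) : (Fin k → F) →ₗ[F] (Idx (t + 1) k → F) where
  toFun a := tens i b a
  map_add' a a' := tens_add_right11 i b a a'
  map_smul' c a := by
    simp only [RingHom.id_apply]
    exact tens_smul_right11 i b c a

@[simp] lemma tensR11_apply (i : Fin (t + 1)) (b : Idx t k → F) (a : Fin k → F) : tensR11 i b a = tens i b a := rfl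

/-- evaluation of the `B`-component at the index `u₁` -/
def evL11 (i : Fin (t + 1)) (u₁ : Idx t k) : (Idx (t + 1) k → F) →ₗ[F] (Fin k → F) :=
  LinearMap.funLeft F F (fun d => ins i d u₁)

lemma evL11_apply (i : Fin (t + 1)) (u₁ : Idx t k) (v : Idx (t + 1) k → F) (d : Fin k) :
    evL11 i u₁ v d = v (ins i d u₁) := rfl

lemma evL11_tens (i : Fin (t + 1)) (u₁ : Idx t k) (b : Idx t k → F) (a : Fin k → F) :
    evL11 i u₁ (tens i b a) = b u₁ • a := by
  funext d
  rw [evL11_apply, tens_apply_ins11, Pi.smul_apply, smul_eq_mul]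

/-- the map `α` -/
def alphaL11 (i : Fin (t + 1)) (y y' : Fin k → F) (c s : F) (g : Matrix (Idx (t + 1) k) (Idx (t + 1) k) F)
    (b₀ : Idx t k → F) (u₁ : Idx t k) : (Fin k → F) →ₗ[F] (Fin k → F) :=
  (sfL11 y').smulRight y + (-c) • (sfL11 y).smulRight y' +
    (pi0L11 y y').comp ((s • ((evL11 i u₁).comp ((Matrix.mulVecLin g).comp (tensR11 i b₀)))).comp (pi0L11 y y'))

lemma alphaL11_apply (i : Fin (t + 1)) (y y' : Fin k → F) (c s : F) (g : Matrix (Idx (t + 1) k) (Idx (t + 1) k) F)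
    (b₀ : Idx t k → F) (u₁ : Idx t k) (a : Fin k → F) :
    alphaL11 i y y' c s g b₀ u₁ a = sf a y' • y + (-c) • (sf a y • y') +
      pi0L11 y y' (s • evL11 i u₁ (g *ᵥ tens i b₀ (pi0L11 y y' a))) := by
  simp [alphaL11]

/-! ### the symplectic facts about `π₀` -/

section Sp
variable (y y' : Fin k → F) (hyy' : sf y y' = 1)
include hyy'

lemma sf_y'_y11 : sf y' y = -1 := by
  rw [Cfsg.Agent.Lib.Helper25.SpT.sf_skew, hyy']

lemma pi0_y11 : pi0L11 y y' y = 0 := by
  rw [pi0L11_apply, hyy', Cfsg.Agent.Lib.Helper25.SpT.sf_self, one_smul, zero_smul, sub_self, add_zero]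

lemma pi0_y'11 : pi0L11 y y' y' = 0 := by
  rw [pi0L11_apply, sf_y'_y11 y y' hyy', Cfsg.Agent.Lib.Helper25.SpT.sf_self, zero_smul, sub_zero, neg_one_smul,
    add_neg_cancel]

omit hyy' in
lemma pi0_of_mem11 (a : Fin k → F) (h1 : sf a y = 0) (h2 : sf a y' = 0) : pi0L11 y y' a = a := by
  rw [pi0L11_apply, h1, h2, zero_smul, zero_smul, sub_zero, add_zero]

lemma sf_pi0_y11 (a : Fin k → F) : sf (pi0L11 y y' a) y = 0 := by
  rw [pi0L11_apply, Cfsg.Agent.Lib.Helper25.SpT.sf_add_left, Cfsg.Agent.Lib.Helper25.SpT.sf_sub_left,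
    Cfsg.Agent.Lib.Helper25.SpT.sf_smul_left, Cfsg.Agent.Lib.Helper25.SpT.sf_smul_left,
    Cfsg.Agent.Lib.Helper25.SpT.sf_self, sf_y'_y11 y y' hyy']
  ring

lemma sf_pi0_y'11 (a : Fin k → F) : sf (pi0L11 y y' a) y' = 0 := by
  rw [pi0L11_apply, Cfsg.Agent.Lib.Helper25.SpT.sf_add_left, Cfsg.Agent.Lib.Helper25.SpT.sf_sub_left,
    Cfsg.Agent.Lib.Helper25.SpT.sf_smul_left, Cfsg.Agent.Lib.Helper25.SpT.sf_smul_left,
    Cfsg.Agent.Lib.Helper25.SpT.sf_self, hyy']
  ring

omit hyy' in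
/-- decomposition in `A` -/
lemma decompA11 (a : Fin k → F) : a = sf a y' • y + (-(sf a y)) • y' + pi0L11 y y' a := by
  rw [pi0L11_apply]
  module

end Sp

/-- decomposition in `V` along `y`, `y'`, `A₀` -/
lemma decompV11 (i : Fin (t + 1)) (y y' : Fin k → F) (v : Idx (t + 1) k → F) :
    v = tens i (ctr i (sfv y') v) y + tens i (ctr i (-(sfv y)) v) y' +
      ∑ d : Fin k, tens i (ctr i (Pi.single d (1 : F)) v) (pi0L11 y y' (Pi.single d 1)) := by
  classical
  apply vec_ext_ins i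
  intro e u
  rw [Pi.add_apply, Pi.add_apply, Finset.sum_apply, tens_apply_ins11, tens_apply_ins11]
  simp only [tens_apply_ins11, ctr_single11]
  have h1 : ∀ d : Fin k, pi0L11 y y' (Pi.single d (1 : F)) e =
      (if d = e then 1 else 0) - sfv y' d * y e + sfv y d * y' e := by
    intro d
    rw [pi0L11_apply, Pi.add_apply, Pi.sub_apply, Pi.smul_apply, Pi.smul_apply, smul_eq_mul, smul_eq_mul,
      ← Cfsg.Agent.Lib.Helper25.SpT.sfv_dot, ← Cfsg.Agent.Lib.Helper25.SpT.sfv_dot, dotProduct_single, dotProduct_single,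
      mul_one, mul_one, Pi.single_apply]
    by_cases hde : d = e
    · subst hde; simp
    · rw [if_neg hde, if_neg (Ne.symm hde)]
  simp only [h1, ctr, Pi.neg_apply]
  have h2 : ∀ d : Fin k, v (ins i d u) * ((if d = e then 1 else 0) - sfv y' d * y e + sfv y d * y' e) =
      (if d = e then v (ins i d u) else 0) - (sfv y' d * v (ins i d u)) * y e - (-(sfv y d) * v (ins i d u)) * y' e := by
    intro d
    split_ifs <;> ring
  simp only [h2]
  rw [Finset.sum_sub_distrib, Finset.sum_sub_distrib, Finset.sum_ite_eq' Finset.univ e, if_pos (Finset.mem_univ _),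
    ← Finset.sum_mul, ← Finset.sum_mul]
  ring

end Cfsg.Agent.Lib.Helper11.TWSIILeaf
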