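import Mathlib
import Cfsg.Agent.Lib.Helper11.TWSIIB1b

/-!
# S5668 Stage II-B, leaf B1 `B1S_blocks`, part (b): the ASSEMBLY `B1S_asm` (helper11)

From `γ ∈ GL(B)`, `c ≠ 0` and the three relations
`(H1) g (b ⊗ y) = γ b ⊗ y`, `(H2) g (b ⊗ y') ≡ c • γ b ⊗ y' (mod C)`, `(H3) g (b ⊗ a) ≡ γ b ⊗ a' (mod W)` (`a, a' ∈ A₀`)
to the conclusion of `B1S_blocks`.
-/

set_option autoImplicit false
set_option linter.unusedSectionVars false
set_option linter.unusedVariables false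

namespace Cfsg.Agent.Lib.Helper11.TWSIILeaf
open Matrix Cfsg.Geo Cfsg.Agent.Lib.Helper18.AschA89 Cfsg.Agent.Lib.Helper8.TW Cfsg.Agent.Lib.Helper5.TWS
  Cfsg.Agent.Lib.Helper14.TWII Cfsg.Agent.Lib.Helper14.TWSII
open Cfsg.Agent.Lib.Helper25.SpT (sf Jm sfv)
open Cfsg.Agent.Lib.Helper22.TWLeaf (ins_comp ins_inj vec_ext_ins ctr_tens mem_Cf_iff_ctr ctr_ext_mulVec ctr_slot_mulVec
  ctr_add ctr_smul ext_mulVec_tens slot_mulVec_tens mem_Wf_iff_tens)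

variable {F : Type*} [Field F] [Fintype F] {t k : ℕ}

lemma unit_mulVec_inj11 {ι : Type} [Fintype ι] [DecidableEq ι] (g : GL ι F) {a b : ι → F}
    (hab : (g : Matrix ι ι F) *ᵥ a = (g : Matrix ι ι F) *ᵥ b) : a = b := by
  have h1 := congrArg (fun w => ((g⁻¹ : GL ι F) : Matrix ι ι F) *ᵥ w) hab
  simp only [Matrix.mulVec_mulVec, ← Units.val_mul, inv_mul_cancel, Units.val_one, Matrix.one_mulVec] at h1
  exact h1

lemma unit_mulVec_inv11 {ι : Type} [Fintype ι] [DecidableEq ι] (g : GL ι F) (a : ι → F) :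
    (g : Matrix ι ι F) *ᵥ (((g⁻¹ : GL ι F) : Matrix ι ι F) *ᵥ a) = a := by
  rw [Matrix.mulVec_mulVec, ← Units.val_mul, mul_inv_cancel, Units.val_one, Matrix.one_mulVec]

/-- B1, part (b): the assembly -/
theorem B1S_asm (hk4 : 4 ≤ k) (i : Fin (t + 1)) (y y' : Fin k → F) (hyy' : sf y y' = 1)
    (g : GL (Idx (t + 1) k) F) (γ : GL (Idx t k) F) (c : F) (hc : c ≠ 0)
    (H1 : ∀ b : Idx t k → F, mv g (tens i b y) = tens i ((γ : Matrix (Idx t k) (Idx t k) F) *ᵥ b) y)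
    (H2 : ∀ b : Idx t k → F,
      mv g (tens i b y') - c • tens i ((γ : Matrix (Idx t k) (Idx t k) F) *ᵥ b) y' ∈ Cf i (sfv y))
    (H3 : ∀ a : Fin k → F, sf a y = 0 → sf a y' = 0 → ∃ a' : Fin k → F, sf a' y = 0 ∧ sf a' y' = 0 ∧
      ∀ b : Idx t k → F, mv g (tens i b a) - tens i ((γ : Matrix (Idx t k) (Idx t k) F) *ᵥ b) a' ∈ Wf i y) :
    ∃ (α : GL (Fin k) F) (γ : GL (Idx t k) F) (u : GL (Idx (t + 1) k) F),
      (α : Matrix (Fin k) (Fin k) F) *ᵥ y = y ∧ (∃ c : F, (α : Matrix (Fin k) (Fin k) F) *ᵥ y' = c • y') ∧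
      (∀ a : Fin k → F, sf a y = 0 → sf a y' = 0 →
        sf ((α : Matrix (Fin k) (Fin k) F) *ᵥ a) y = 0 ∧ sf ((α : Matrix (Fin k) (Fin k) F) *ᵥ a) y' = 0) ∧
      InUS i y u ∧ g = slotGL i α * extGL i γ * u := by
  classical
  have hy0 : y ≠ 0 := by
    rintro rfl
    rw [Cfsg.Agent.Lib.Helper25.SpT.sf_zero_left] at hyy'
    exact zero_ne_one hyy'
  have hy'y : sf y' y = -1 := sf_y'_y11 y y' hyy'
  have hWC : Wf i y ≤ Cf i (sfv y) := by
    intro x hx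
    obtain ⟨b, rfl⟩ := (mem_Wf_iff_tens i y hy0 x).1 hx
    rw [mem_Cf_iff_ctr, ctr_tens, Cfsg.Agent.Lib.Helper25.SpT.sfv_dot, Cfsg.Agent.Lib.Helper25.SpT.sf_self, zero_smul]
  have hγinj : ∀ b : Idx t k → F, (γ : Matrix (Idx t k) (Idx t k) F) *ᵥ b = 0 → b = 0 := by
    intro b hb
    apply unit_mulVec_inj11 γ
    rw [hb, Matrix.mulVec_zero]
  -- the auxiliary data `b₀`, `u₁`
  obtain ⟨u₀⟩ : Nonempty (Idx t k) := ⟨fun _ => ⟨0, by omega⟩⟩
  obtain ⟨b₀, hb₀⟩ : ∃ b₀ : Idx t k → F, b₀ u₀ = 1 := ⟨Pi.single u₀ 1, by simp⟩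
  obtain ⟨b₁, hb₁def⟩ : ∃ b₁ : Idx t k → F, (γ : Matrix (Idx t k) (Idx t k) F) *ᵥ b₀ = b₁ := ⟨_, rfl⟩
  have hb₁ : b₁ ≠ 0 := by
    intro h
    rw [h] at hb₁def
    have h0 := hγinj b₀ hb₁def
    rw [h0] at hb₀
    exact zero_ne_one hb₀
  obtain ⟨u₁, hu₁⟩ : ∃ u₁, b₁ u₁ ≠ 0 := by
    by_contra hcon
    push Not at hcon
    exact hb₁ (funext hcon)
  obtain ⟨αL, hαL⟩ : ∃ αL : (Fin k → F) →ₗ[F] (Fin k → F),
      αL = alphaL11 i y y' c (b₁ u₁)⁻¹ (g : Matrix (Idx (t + 1) k) (Idx (t + 1) k) F) b₀ u₁ := ⟨_, rfl⟩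
  -- `α` on `A₀`
  have hA3 : ∀ a a' : Fin k → F, sf a y = 0 → sf a y' = 0 → sf a' y = 0 → sf a' y' = 0 →
      (∀ b : Idx t k → F, mv g (tens i b a) - tens i ((γ : Matrix (Idx t k) (Idx t k) F) *ᵥ b) a' ∈ Wf i y) →
      αL a = a' := by
    intro a a' h1 h2 h1' h2' hrel
    obtain ⟨b₂, hb₂⟩ := (mem_Wf_iff_tens i y hy0 _).1 (hrel b₀)
    rw [hb₁def] at hb₂
    have hg : (g : Matrix (Idx (t + 1) k) (Idx (t + 1) k) F) *ᵥ tens i b₀ a = tens i b₁ a' + tens i b₂ y := by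
      have h5 : mv g (tens i b₀ a) = tens i b₁ a' + tens i b₂ y := by
        rw [← hb₂]; abel
      exact h5
    rw [hαL, alphaL11_apply, h1, h2, zero_smul, zero_smul, smul_zero, add_zero, zero_add,
      pi0_of_mem11 y y' a h1 h2, hg, map_add, evL11_tens, evL11_tens, smul_add, map_add, smul_smul, smul_smul,
      map_smul, map_smul, pi0_y11 y y' hyy', smul_zero, add_zero, pi0_of_mem11 y y' a' h1' h2',
      inv_mul_cancel₀ hu₁, one_smul]
  have hA1 : αL y = y := by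
    rw [hαL, alphaL11_apply, pi0_y11 y y' hyy', tens_zero_right11, Matrix.mulVec_zero, map_zero, smul_zero,
      map_zero, hyy', Cfsg.Agent.Lib.Helper25.SpT.sf_self, one_smul, zero_smul, smul_zero, add_zero, add_zero]
  have hA2 : αL y' = c • y' := by
    rw [hαL, alphaL11_apply, pi0_y'11 y y' hyy', tens_zero_right11, Matrix.mulVec_zero, map_zero, smul_zero,
      map_zero, hy'y, Cfsg.Agent.Lib.Helper25.SpT.sf_self, zero_smul, zero_add, add_zero, neg_one_smul, smul_neg,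
      neg_smul, neg_neg]
  have hA4y : ∀ a : Fin k → F, sf (αL a) y = c * sf a y := by
    intro a
    rw [hαL, alphaL11_apply, Cfsg.Agent.Lib.Helper25.SpT.sf_add_left, Cfsg.Agent.Lib.Helper25.SpT.sf_add_left,
      Cfsg.Agent.Lib.Helper25.SpT.sf_smul_left, Cfsg.Agent.Lib.Helper25.SpT.sf_smul_left,
      Cfsg.Agent.Lib.Helper25.SpT.sf_smul_left, Cfsg.Agent.Lib.Helper25.SpT.sf_self, hy'y, sf_pi0_y11 y y' hyy']
    ring
  have hA4y' : ∀ a : Fin k → F, sf (αL a) y' = sf a y' := by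
    intro a
    rw [hαL, alphaL11_apply, Cfsg.Agent.Lib.Helper25.SpT.sf_add_left, Cfsg.Agent.Lib.Helper25.SpT.sf_add_left,
      Cfsg.Agent.Lib.Helper25.SpT.sf_smul_left, Cfsg.Agent.Lib.Helper25.SpT.sf_smul_left,
      Cfsg.Agent.Lib.Helper25.SpT.sf_smul_left, Cfsg.Agent.Lib.Helper25.SpT.sf_self, hyy', sf_pi0_y'11 y y' hyy']
    ring
  -- injectivity of `α`
  have hαinj : ∀ a : Fin k → F, αL a = 0 → a = 0 := by
    intro a ha
    have e1 : sf a y' = 0 := by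
      rw [← hA4y' a, ha, Cfsg.Agent.Lib.Helper25.SpT.sf_zero_left]
    have e2 : sf a y = 0 := by
      have h5 := hA4y a
      rw [ha, Cfsg.Agent.Lib.Helper25.SpT.sf_zero_left] at h5
      exact (mul_eq_zero.1 h5.symm).resolve_left hc
    obtain ⟨a', h1', h2', hrel⟩ := H3 a e2 e1
    have e3 : a' = 0 := by rw [← hA3 a a' e2 e1 h1' h2' hrel, ha]
    have e4 := hrel b₀
    rw [e3, tens_zero_right11, sub_zero] at e4
    obtain ⟨b₂, hb₂⟩ := (mem_Wf_iff_tens i y hy0 _).1 e4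
    have e5 : mv g (tens i (((γ⁻¹ : GL (Idx t k) F) : Matrix (Idx t k) (Idx t k) F) *ᵥ b₂) y) = tens i b₂ y := by
      rw [H1, unit_mulVec_inv11]
    have e6 : tens i b₀ a = tens i (((γ⁻¹ : GL (Idx t k) F) : Matrix (Idx t k) (Idx t k) F) *ᵥ b₂) y :=
      unit_mulVec_inj11 g (hb₂.trans e5.symm)
    have e7 : a = ((((γ⁻¹ : GL (Idx t k) F) : Matrix (Idx t k) (Idx t k) F) *ᵥ b₂) u₀) • y := by
      funext d
      have h5 := congrFun e6 (ins i d u₀)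
      rw [tens_apply_ins11, tens_apply_ins11, hb₀, one_mul] at h5
      rw [h5, Pi.smul_apply, smul_eq_mul]
    have e8 := e1
    rw [e7, Cfsg.Agent.Lib.Helper25.SpT.sf_smul_left, hyy', mul_one] at e8
    rw [e7, e8, zero_smul]
  have hunit : IsUnit (LinearMap.toMatrix' αL) := by
    rw [← Matrix.mulVec_injective_iff_isUnit]
    intro a a' h
    have h5 : αL a = αL a' := by
      have h6 : (LinearMap.toMatrix' αL) *ᵥ a = (LinearMap.toMatrix' αL) *ᵥ a' := h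
      rw [LinearMap.toMatrix'_mulVec, LinearMap.toMatrix'_mulVec] at h6
      exact h6
    have h7 : αL (a - a') = 0 := by rw [map_sub, h5, sub_self]
    exact sub_eq_zero.1 (hαinj _ h7)
  obtain ⟨α, hα⟩ := hunit
  have hαv : ∀ a : Fin k → F, (α : Matrix (Fin k) (Fin k) F) *ᵥ a = αL a := fun a => by
    rw [hα, LinearMap.toMatrix'_mulVec]
  -- `κ = α ⊗ γ`
  obtain ⟨κ, hκdef⟩ : ∃ κ : GL (Idx (t + 1) k) F, κ = slotGL i α * extGL i γ := ⟨_, rfl⟩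
  have hκ : ∀ (b : Idx t k → F) (a : Fin k → F),
      (κ : Matrix (Idx (t + 1) k) (Idx (t + 1) k) F) *ᵥ tens i b a =
        tens i ((γ : Matrix (Idx t k) (Idx t k) F) *ᵥ b) (αL a) := by
    intro b a
    rw [hκdef, Units.val_mul, slotGL_val, extGL_val, ← Matrix.mulVec_mulVec, ext_mulVec_tens, slot_mulVec_tens, hαv]
  have hξ : sfv y ᵥ* (α : Matrix (Fin k) (Fin k) F) = c • sfv y := by
    funext e
    have h := Matrix.dotProduct_mulVec (sfv y) (α : Matrix (Fin k) (Fin k) F) (Pi.single e 1)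
    rw [hαv, Cfsg.Agent.Lib.Helper25.SpT.sfv_dot, hA4y, ← Cfsg.Agent.Lib.Helper25.SpT.sfv_dot, dotProduct_single,
      dotProduct_single, mul_one, mul_one] at h
    rw [← h, Pi.smul_apply, smul_eq_mul]
  have hκC : ∀ x : Idx (t + 1) k → F, ctr i (sfv y) ((κ : Matrix (Idx (t + 1) k) (Idx (t + 1) k) F) *ᵥ x) =
      c • ((γ : Matrix (Idx t k) (Idx t k) F) *ᵥ ctr i (sfv y) x) := by
    intro x
    rw [hκdef, Units.val_mul, slotGL_val, extGL_val, ← Matrix.mulVec_mulVec, ctr_slot_mulVec, hξ, ctr_smul_left11,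
      ctr_ext_mulVec]
  have hKC : ∀ x : Idx (t + 1) k → F, (κ : Matrix (Idx (t + 1) k) (Idx (t + 1) k) F) *ᵥ x ∈ Cf i (sfv y) →
      x ∈ Cf i (sfv y) := by
    intro x hx
    rw [mem_Cf_iff_ctr] at hx ⊢
    rw [hκC] at hx
    exact hγinj _ ((smul_eq_zero.1 hx).resolve_left hc)
  have hKW : ∀ x : Idx (t + 1) k → F, (κ : Matrix (Idx (t + 1) k) (Idx (t + 1) k) F) *ᵥ x ∈ Wf i y →
      x ∈ Wf i y := by
    intro x hx
    obtain ⟨b, hb⟩ := (mem_Wf_iff_tens i y hy0 _).1 hx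
    have e : (κ : Matrix (Idx (t + 1) k) (Idx (t + 1) k) F) *ᵥ x =
        (κ : Matrix (Idx (t + 1) k) (Idx (t + 1) k) F) *ᵥ
          tens i (((γ⁻¹ : GL (Idx t k) F) : Matrix (Idx t k) (Idx t k) F) *ᵥ b) y := by
      rw [hb, hκ, hA1, unit_mulVec_inv11]
    rw [unit_mulVec_inj11 κ e]
    exact (mem_Wf_iff_tens i y hy0 _).2 ⟨_, rfl⟩
  -- the difference `g - κ` on pure tensors
  have hD1 : ∀ b : Idx t k → F,
      mv g (tens i b y) - (κ : Matrix (Idx (t + 1) k) (Idx (t + 1) k) F) *ᵥ tens i b y = 0 := by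
    intro b
    rw [hκ, hA1, H1, sub_self]
  have hD2 : ∀ b : Idx t k → F,
      mv g (tens i b y') - (κ : Matrix (Idx (t + 1) k) (Idx (t + 1) k) F) *ᵥ tens i b y' ∈ Cf i (sfv y) := by
    intro b
    rw [hκ, hA2, tens_smul_right11]
    exact H2 b
  have hD3 : ∀ a : Fin k → F, sf a y = 0 → sf a y' = 0 → ∀ b : Idx t k → F,
      mv g (tens i b a) - (κ : Matrix (Idx (t + 1) k) (Idx (t + 1) k) F) *ᵥ tens i b a ∈ Wf i y := by
    intro a h1 h2 b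
    obtain ⟨a', h1', h2', hrel⟩ := H3 a h1 h2
    rw [hκ, hA3 a a' h1 h2 h1' h2' hrel]
    exact hrel b
  have hsplit : ∀ (A B : Idx (t + 1) k → F) (T : Fin k → Idx (t + 1) k → F),
      mv g (A + B + ∑ d, T d) - (κ : Matrix (Idx (t + 1) k) (Idx (t + 1) k) F) *ᵥ (A + B + ∑ d, T d) =
        (mv g A - (κ : Matrix (Idx (t + 1) k) (Idx (t + 1) k) F) *ᵥ A) +
          (mv g B - (κ : Matrix (Idx (t + 1) k) (Idx (t + 1) k) F) *ᵥ B) +
          ∑ d, (mv g (T d) - (κ : Matrix (Idx (t + 1) k) (Idx (t + 1) k) F) *ᵥ T d) := by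
    intro A B T
    rw [Finset.sum_sub_distrib]
    simp only [mv, Matrix.mulVec_add, Matrix.mulVec_sum]
    abel
  -- `u := κ⁻¹ g`
  have hu_mv : ∀ v : Idx (t + 1) k → F,
      (κ : Matrix (Idx (t + 1) k) (Idx (t + 1) k) F) *ᵥ mv (κ⁻¹ * g) v = mv g v := by
    intro v
    simp only [mv, Units.val_mul]
    rw [← Matrix.mulVec_mulVec, unit_mulVec_inv11]
  have hu_eq : ∀ v : Idx (t + 1) k → F,
      (κ : Matrix (Idx (t + 1) k) (Idx (t + 1) k) F) *ᵥ (mv (κ⁻¹ * g) v - v) =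
        mv g v - (κ : Matrix (Idx (t + 1) k) (Idx (t + 1) k) F) *ᵥ v := by
    intro v
    rw [Matrix.mulVec_sub, hu_mv]
  refine ⟨α, γ, κ⁻¹ * g, ?_, ⟨c, ?_⟩, ?_, ⟨?_, ?_, ?_⟩, ?_⟩
  · rw [hαv, hA1]
  · rw [hαv, hA2]
  · intro a h1 h2
    rw [hαv, hA4y, hA4y', h1, h2, mul_zero]
    exact ⟨rfl, rfl⟩
  · intro v hv
    obtain ⟨b, rfl⟩ := (mem_Wf_iff_tens i y hy0 v).1 hv
    apply unit_mulVec_inj11 κ
    rw [hu_mv, H1, hκ, hA1]
  · intro v hv
    apply hKW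
    rw [hu_eq]
    have hq : ctr i (-(sfv y)) v = 0 := by
      rw [ctr_neg_left11, (mem_Cf_iff_ctr i _ v).1 hv, neg_zero]
    obtain ⟨p, q, cs, hv_eq, hq_eq⟩ : ∃ (p q : Idx t k → F) (cs : Fin k → Idx t k → F),
        v = tens i p y + tens i q y' + ∑ d : Fin k, tens i (cs d) (pi0L11 y y' (Pi.single d 1)) ∧
          q = ctr i (-(sfv y)) v := ⟨_, _, _, decompV11 i y y' v, rfl⟩
    rw [hq] at hq_eq
    rw [hv_eq, hsplit]
    refine Submodule.add_mem _ (Submodule.add_mem _ ?_ ?_) (Submodule.sum_mem _ fun d _ => ?_)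
    · rw [hD1]
      exact Submodule.zero_mem _
    · rw [hq_eq, tens_zero_left11]
      simp only [mv, Matrix.mulVec_zero, sub_zero]
      exact Submodule.zero_mem _
    · exact hD3 _ (sf_pi0_y11 y y' hyy' _) (sf_pi0_y'11 y y' hyy' _) _
  · intro v
    apply hKC
    rw [hu_eq]
    obtain ⟨p, q, cs, hv_eq⟩ : ∃ (p q : Idx t k → F) (cs : Fin k → Idx t k → F),
        v = tens i p y + tens i q y' + ∑ d : Fin k, tens i (cs d) (pi0L11 y y' (Pi.single d 1)) :=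
      ⟨_, _, _, decompV11 i y y' v⟩
    rw [hv_eq, hsplit]
    refine Submodule.add_mem _ (Submodule.add_mem _ ?_ ?_) (Submodule.sum_mem _ fun d _ => ?_)
    · rw [hD1]
      exact Submodule.zero_mem _
    · exact hD2 q
    · exact hWC (hD3 _ (sf_pi0_y11 y y' hyy' _) (sf_pi0_y'11 y y' hyy' _) _)
  · rw [← hκdef, mul_inv_cancel_left]

end Cfsg.Agent.Lib.Helper11.TWSIILeaf
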