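import Mathlib
import Cfsg.Agent.Lib.Helper11.LSDefs
import Cfsg.Agent.Lib.Helper14.Unitary

/-!
# Definitions for the Landazuri–Seitz bounds for `SU_n(q)` (S2334, S2335)

Skew-Hermitian forms over a field with `q²` elements (with respect to `x ↦ x ^ q`), their isometry
groups, the conjugate transpose `cT` and the additive group of skew-Hermitian matrices.
-/

set_option autoImplicit false

namespace Cfsg.Agent.Lib.Helper11.UH

open Matrix

/-! ### the conjugate transpose -/

section cT

variable {F : Type*} [Field F] {q : ℕ}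

/-- `x ↦ x ^ q` as a ring homomorphism of a field with `q²` elements -/
def sig [Fintype F] [DecidableEq F] (hF : Fintype.card F = q ^ 2) : F →+* F where
  toFun := fun x => x ^ q
  map_one' := one_pow q
  map_mul' := fun x y => mul_pow x y q
  map_zero' := zero_pow (by have := Cfsg.Agent.Lib.Helper14.herm_two_le hF; omega)
  map_add' := Cfsg.Agent.Lib.Helper14.herm_add_pow hF

theorem sig_apply [Fintype F] [DecidableEq F] (hF : Fintype.card F = q ^ 2) (x : F) :
    sig hF x = x ^ q := rfl

theorem pow_pow_q [Fintype F] [DecidableEq F] (hF : Fintype.card F = q ^ 2) (x : F) :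
    (x ^ q) ^ q = x := by
  rw [← pow_mul, ← sq]
  exact Cfsg.Agent.Lib.Helper14.herm_pow_card hF x

/-- the conjugate transpose `(M^(q))ᵀ` -/
def cT (q : ℕ) {l k : Type*} (M : Matrix l k F) : Matrix k l F := (M.map (fun x => x ^ q))ᵀ

theorem cT_apply {l k : Type*} (M : Matrix l k F) (i : k) (j : l) : cT q M i j = (M j i) ^ q := rfl

theorem cT_eq [Fintype F] [DecidableEq F] (hF : Fintype.card F = q ^ 2) {l k : Type*}
    (M : Matrix l k F) : cT q M = (M.map (sig hF))ᵀ := rfl

variable [Fintype F] [DecidableEq F]

theorem cT_add (hF : Fintype.card F = q ^ 2) {l k : Type*} (M N : Matrix l k F) :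
    cT q (M + N) = cT q M + cT q N := by
  ext i j
  simp only [cT_apply, Matrix.add_apply]
  exact Cfsg.Agent.Lib.Helper14.herm_add_pow hF _ _

theorem cT_neg (hF : Fintype.card F = q ^ 2) {l k : Type*} (M : Matrix l k F) :
    cT q (-M) = -cT q M := by
  ext i j
  simp only [cT_apply, Matrix.neg_apply]
  exact Cfsg.Agent.Lib.Helper14.herm_neg_pow hF _

theorem cT_sub (hF : Fintype.card F = q ^ 2) {l k : Type*} (M N : Matrix l k F) :
    cT q (M - N) = cT q M - cT q N := by
  rw [sub_eq_add_neg, cT_add hF, cT_neg hF, ← sub_eq_add_neg]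

theorem cT_zero (hF : Fintype.card F = q ^ 2) {l k : Type*} :
    cT q (0 : Matrix l k F) = 0 := by
  ext i j
  simp only [cT_apply, Matrix.zero_apply]
  exact zero_pow (by have := Cfsg.Agent.Lib.Helper14.herm_two_le hF; omega)

theorem cT_one (hF : Fintype.card F = q ^ 2) {l : Type*} [DecidableEq l] :
    cT q (1 : Matrix l l F) = 1 := by
  have hq := Cfsg.Agent.Lib.Helper14.herm_two_le hF
  ext i j
  simp only [cT_apply, Matrix.one_apply]
  by_cases h : i = j
  · subst h; simp
  · rw [if_neg h, if_neg (Ne.symm h)]
    exact zero_pow (by omega)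

theorem cT_smul {l k : Type*} (a : F) (M : Matrix l k F) : cT q (a • M) = a ^ q • cT q M := by
  ext i j
  simp only [cT_apply, Matrix.smul_apply, smul_eq_mul, mul_pow]

theorem cT_mul (hF : Fintype.card F = q ^ 2) {l k r : Type*} [Fintype k] (M : Matrix l k F)
    (N : Matrix k r F) : cT q (M * N) = cT q N * cT q M := by
  rw [cT_eq hF, cT_eq hF, cT_eq hF, Matrix.map_mul, Matrix.transpose_mul]

theorem cT_cT (hF : Fintype.card F = q ^ 2) {l k : Type*} (M : Matrix l k F) :
    cT q (cT q M) = M := by
  ext i j
  simp only [cT_apply]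
  exact pow_pow_q hF _

theorem cT_transpose {l k : Type*} (M : Matrix l k F) : (cT q M)ᵀ = M.map (fun x => x ^ q) := rfl

end cT

/-! ### skew-Hermitian forms -/

section forms

variable {F : Type*} [Field F] {q : ℕ} {V : Type*} [AddCommGroup V] [Module F V]

/-- skew-Hermitian forms with respect to `x ↦ x ^ q`: linear in the first variable,
`h y x = -(h x y) ^ q` -/
structure SkForm (F : Type*) [Field F] (q : ℕ) (V : Type*) [AddCommGroup V] [Module F V] where
  /-- the underlying function -/
  toFun : V → V → F
  add_left' : ∀ x y z, toFun (x + y) z = toFun x z + toFun y z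
  smul_left' : ∀ (a : F) x y, toFun (a • x) y = a * toFun x y
  add_right' : ∀ x y z, toFun x (y + z) = toFun x y + toFun x z
  smul_right' : ∀ (a : F) x y, toFun x (a • y) = a ^ q * toFun x y
  conj' : ∀ x y, toFun y x = -(toFun x y) ^ q

namespace SkForm

instance : CoeFun (SkForm F q V) (fun _ => V → V → F) := ⟨SkForm.toFun⟩

theorem ext' {h k : SkForm F q V} (hk : ∀ x y, h x y = k x y) : h = k := by
  cases h; cases k
  congr
  funext x y
  exact hk x y

variable (h : SkForm F q V)

theorem add_left (x y z : V) : h (x + y) z = h x z + h y z := h.add_left' x y z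
theorem smul_left (a : F) (x y : V) : h (a • x) y = a * h x y := h.smul_left' a x y
theorem add_right (x y z : V) : h x (y + z) = h x y + h x z := h.add_right' x y z
theorem smul_right (a : F) (x y : V) : h x (a • y) = a ^ q * h x y := h.smul_right' a x y
theorem conj (x y : V) : h y x = -(h x y) ^ q := h.conj' x y

theorem zero_left (y : V) : h 0 y = 0 := by
  have := h.smul_left 0 0 y
  rwa [zero_smul, zero_mul] at this

theorem zero_right (x : V) : h x 0 = 0 := by
  have := h.add_right x 0 0
  rw [add_zero] at this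
  exact left_eq_add.mp this

theorem neg_left (x y : V) : h (-x) y = -h x y := by
  have := h.add_left x (-x) y
  rw [add_neg_cancel, h.zero_left] at this
  exact eq_neg_of_add_eq_zero_right this.symm

theorem neg_right (x y : V) : h x (-y) = -h x y := by
  have := h.add_right x y (-y)
  rw [add_neg_cancel, h.zero_right] at this
  exact eq_neg_of_add_eq_zero_right this.symm

theorem sub_left (x y z : V) : h (x - y) z = h x z - h y z := by
  rw [sub_eq_add_neg, h.add_left, h.neg_left, ← sub_eq_add_neg]

theorem sub_right (x y z : V) : h x (y - z) = h x y - h x z := by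
  rw [sub_eq_add_neg, h.add_right, h.neg_right, ← sub_eq_add_neg]

theorem eq_zero_symm {x y : V} (hq : q ≠ 0) (hxy : h x y = 0) : h y x = 0 := by
  rw [h.conj, hxy, zero_pow hq, neg_zero]

/-- restriction to a submodule -/
def res (W : Submodule F V) : SkForm F q W where
  toFun := fun x y => h x y
  add_left' := fun x y z => h.add_left x y z
  smul_left' := fun a x y => h.smul_left a x y
  add_right' := fun x y z => h.add_right x y z
  smul_right' := fun a x y => h.smul_right a x y
  conj' := fun x y => h.conj x y

theorem res_apply (W : Submodule F V) (x y : W) : h.res W x y = h x y := rfl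

/-- the isometry group -/
def uGroup : Subgroup (V ≃ₗ[F] V) where
  carrier := {g | ∀ x y, h (g x) (g y) = h x y}
  mul_mem' := by
    intro a b ha hb x y
    show h (a (b x)) (a (b y)) = h x y
    rw [ha, hb]
  one_mem' := fun _ _ => rfl
  inv_mem' := by
    intro a ha x y
    have := ha (a⁻¹ x) (a⁻¹ y)
    have e1 : a (a⁻¹ x) = x := LinearEquiv.apply_symm_apply a x
    have e2 : a (a⁻¹ y) = y := LinearEquiv.apply_symm_apply a y
    rw [e1, e2] at this
    exact this.symm

theorem mem_uGroup {g : V ≃ₗ[F] V} : g ∈ h.uGroup ↔ ∀ x y, h (g x) (g y) = h x y := Iff.rfl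

/-- the isometries of determinant one -/
noncomputable def suGroup : Subgroup (V ≃ₗ[F] V) := h.uGroup ⊓ (LinearEquiv.det : (V ≃ₗ[F] V) →* Fˣ).ker

theorem mem_suGroup {g : V ≃ₗ[F] V} :
    g ∈ h.suGroup ↔ (∀ x y, h (g x) (g y) = h x y) ∧ LinearEquiv.det g = 1 := by
  rw [suGroup, Subgroup.mem_inf, MonoidHom.mem_ker]
  rfl

/-- non-degenerate forms -/
def Nondeg : Prop := ∀ x, (∀ y, h x y = 0) → x = 0

/-- the radical -/
def rad : Submodule F V where
  carrier := {x | ∀ y, h x y = 0}
  add_mem' := by
    intro a b ha hb y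
    rw [h.add_left, ha y, hb y, add_zero]
  zero_mem' := fun y => h.zero_left y
  smul_mem' := by
    intro c x hx y
    rw [h.smul_left, hx y, mul_zero]

theorem mem_rad {x : V} : x ∈ h.rad ↔ ∀ y, h x y = 0 := Iff.rfl

/-- the orthogonal complement of a vector -/
def perp1 (v : V) : Submodule F V where
  carrier := {x | h x v = 0}
  add_mem' := by
    intro a b ha hb
    show h (a + b) v = 0
    rw [h.add_left, ha, hb, add_zero]
  zero_mem' := h.zero_left v
  smul_mem' := by
    intro c x hx
    show h (c • x) v = 0
    rw [h.smul_left, hx, mul_zero]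

theorem mem_perp1 {v x : V} : x ∈ h.perp1 v ↔ h x v = 0 := Iff.rfl

end SkForm

end forms

/-! ### numerical bounds -/

/-- bound for the order of the isometry group of a non-degenerate form of dimension `r` -/
def Ah (q r : ℕ) : ℕ := (q + 1) ^ r * q ^ (r * (r - 1))

/-- `q^(2(m-1)) |GL_(m-1)(q²)|` -/
def Ch (q m : ℕ) : ℕ := q ^ (2 * (m - 1)) * LS.gl (q ^ 2) (m - 1)

/-- bound for the order of the isometry group of a non-zero form of dimension `m` -/
def Bh (q m : ℕ) : ℕ := (q + 1) * Ch q m

/-! ### skew-Hermitian matrices -/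

section skmat

variable {F : Type*} [Field F] [Fintype F] [DecidableEq F] {q : ℕ}

/-- the additive group of skew-Hermitian `m × m` matrices -/
def skMat (hF : Fintype.card F = q ^ 2) (m : ℕ) : AddSubgroup (Matrix (Fin m) (Fin m) F) where
  carrier := {S | cT q S = -S}
  add_mem' := by
    intro a b ha hb
    show cT q (a + b) = -(a + b)
    rw [cT_add hF, ha, hb, neg_add]
  zero_mem' := by
    show cT q (0 : Matrix (Fin m) (Fin m) F) = -0
    rw [cT_zero hF, neg_zero]
  neg_mem' := by
    intro a ha
    show cT q (-a) = - -a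
    rw [cT_neg hF, ha]

theorem mem_skMat (hF : Fintype.card F = q ^ 2) {m : ℕ} {S : Matrix (Fin m) (Fin m) F} :
    S ∈ skMat hF m ↔ cT q S = -S := Iff.rfl

noncomputable instance skMatFintype (hF : Fintype.card F = q ^ 2) (m : ℕ) : Fintype ↥(skMat hF m) :=
  Fintype.ofFinite _

/-- the skew-Hermitian form `(x, y) ↦ xᵀ U y^(q)` of a skew-Hermitian matrix `U` -/
def skOfMatrix (hF : Fintype.card F = q ^ 2) {m : ℕ} (U : Matrix (Fin m) (Fin m) F)
    (hU : cT q U = -U) : SkForm F q (Fin m → F) where
  toFun := fun x y => x ⬝ᵥ (U *ᵥ (fun i => (y i) ^ q))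
  add_left' := fun x y z => add_dotProduct x y _
  smul_left' := fun a x y => smul_dotProduct a x _
  add_right' := by
    intro x y z
    have : (fun i => ((y + z) i) ^ q) = (fun i => (y i) ^ q) + (fun i => (z i) ^ q) := by
      funext i
      exact Cfsg.Agent.Lib.Helper14.herm_add_pow hF _ _
    rw [this, mulVec_add, dotProduct_add]
  smul_right' := by
    intro a x y
    have : (fun i => ((a • y) i) ^ q) = a ^ q • (fun i => (y i) ^ q) := by
      funext i
      simp [mul_pow]
    rw [this, mulVec_smul, dotProduct_smul, smul_eq_mul]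
  conj' := by
    intro x y
    have hU' : ∀ i j, (U i j) ^ q = -U j i := by
      intro i j
      have := congrFun (congrFun hU j) i
      rwa [cT_apply, Matrix.neg_apply] at this
    simp only [dotProduct, mulVec]
    rw [Cfsg.Agent.Lib.Helper14.herm_sum_pow hF, ← Finset.sum_neg_distrib]
    have h1 : ∀ i ∈ (Finset.univ : Finset (Fin m)),
        -(x i * ∑ j, U i j * (y j) ^ q) ^ q = ∑ j, y j * (U j i * (x i) ^ q) := by
      intro i _
      rw [mul_pow, Cfsg.Agent.Lib.Helper14.herm_sum_pow hF, Finset.mul_sum, ← Finset.sum_neg_distrib]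
      apply Finset.sum_congr rfl
      intro j _
      rw [mul_pow, hU', pow_pow_q hF]
      ring
    rw [Finset.sum_congr rfl h1, Finset.sum_comm]
    apply Finset.sum_congr rfl
    intro j _
    rw [Finset.mul_sum]

end skmat

end Cfsg.Agent.Lib.Helper11.UH
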