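import Mathlib
import Cfsg.Agent.Lib.Helper20.UTDefs
import Cfsg.Agent.Lib.Helper20.UTCT
import Cfsg.Agent.Lib.Helper5.UTGDefs
import Cfsg.Agent.Lib.Helper25.TensStmt

/-!
# S5801 conjunct (8): `GU_2(q) ⊗ GU_3(q) < SU_6(q)`, `q ≥ 3` - shared definitions of the A-side proof
(plan: notes/S5801_C4_plan.md; unitary twin of helper18's S5804 (7) = notes/S5804_C4_plan.md).

Model = `Helper20.UT` (`hv q x y = ∑ x i * (y i)^q`, LINEAR IN THE FIRST ARGUMENT; `pt`, `kA`, `kB`, `KG`, `GS`, `GUI`,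
`mv`, `FibA x = x ⊗ B`, `SsetI`), `Helper5.UTG.T1U'`.

* `IsZA q x g Ξ` : `g = u_x(Ξ) = 1 + (x x†) ⊗ Ξ`, i.e. `mv g v = v + pt x (Ξ *ᵥ ctA (cj q x) v)`
  (`kA q x c hx` is `u_x(c • 1)` by `Helper20.UTCT.mv_kA`);
* `ThA q x M`  : the `Ξ` with `u_x(Ξ) ∈ M`  (mirror of `Helper20.UTN.Th`);
* `StabA x`    : the stabiliser of the fibre `FibA x` in `GL (Idx a b) F`;
* `Kx q x`     : `(KG ⊓ GS) ⊓ StabA x`;
* `XA q x hx`  : the root group `{kA q x c hx | c^q = -c}` (as a closure);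
* `MC q M`     : the overgroup context at `(a,b) = (2,3)`, in the branch "M has no full transvection root group".
-/

set_option autoImplicit false
set_option linter.unusedSectionVars false
set_option linter.unusedVariables false

namespace Cfsg.Agent.Lib.Helper11.T23U
open Matrix
open Cfsg.Agent.Lib.Helper25.Tens Cfsg.Agent.Lib.Helper25.TensLeaf Cfsg.Agent.Lib.Helper20.UT
open scoped Kronecker

variable {F : Type*} [Field F] {a b : ℕ}

/-- `g = u_x(Ξ)` -/
def IsZA (q : ℕ) (x : Fin a → F) (g : GL (Idx a b) F) (Ξ : Matrix (Fin b) (Fin b) F) : Prop :=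
  ∀ v, mv g v = v + pt x (Ξ *ᵥ ctA (cj q x) v)

/-- the `Ξ` with `u_x(Ξ) ∈ M` -/
def ThA (q : ℕ) (x : Fin a → F) (M : Subgroup (GL (Idx a b) F)) :
    Set (Matrix (Fin b) (Fin b) F) :=
  {Ξ | ∃ g ∈ M, IsZA q x g Ξ}

/-- the stabiliser of the fibre `x ⊗ B` -/
def StabA (x : Fin a → F) : Subgroup (GL (Idx a b) F) where
  carrier := {g | ∀ v, v ∈ FibA (b := b) x ↔ mv g v ∈ FibA (b := b) x}
  one_mem' := by intro v; rw [mv_one]
  mul_mem' := by
    intro g h hg hh v
    rw [mv_mul]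
    exact (hh v).trans (hg _)
  inv_mem' := by
    intro g hg v
    have := hg (mv g⁻¹ v)
    rw [mv_mv_inv] at this
    exact this.symm

lemma mem_StabA {x : Fin a → F} {g : GL (Idx a b) F} :
    g ∈ StabA (b := b) x ↔ ∀ v, v ∈ FibA (b := b) x ↔ mv g v ∈ FibA (b := b) x := Iff.rfl

/-- the stabiliser of `x ⊗ B` in the tensor group -/
def Kx (q : ℕ) (x : Fin a → F) : Subgroup (GL (Idx a b) F) :=
  (KG a b F ⊓ GS a b q F) ⊓ StabA x

/-- the generators of the root group -/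
def XAset (q : ℕ) (x : Fin a → F) (hx : hv q x x = 0) : Set (GL (Idx a b) F) :=
  {t | ∃ c : F, c ^ q = -c ∧ t = kA q x c hx}

/-- the root group `X_x = {t_x(c) ⊗ 1 | c skew}` -/
def XA (q : ℕ) (x : Fin a → F) (hx : hv q x x = 0) : Subgroup (GL (Idx a b) F) :=
  Subgroup.closure (XAset (b := b) q x hx)

/-- the image of a submodule under `mv g` -/
def mvS {ι : Type} [Fintype ι] [DecidableEq ι] (g : GL ι F) (W : Submodule F (ι → F)) :
    Submodule F (ι → F) :=
  W.map (Matrix.toLin' (g : Matrix ι ι F))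

lemma mem_mvS {ι : Type} [Fintype ι] [DecidableEq ι] {g : GL ι F} {W : Submodule F (ι → F)}
    {v : ι → F} : v ∈ mvS g W ↔ ∃ w ∈ W, mv g w = v := by
  unfold mvS mv
  simp [Submodule.mem_map]

/-- the overgroup context at `(2,3)`, in the branch where `M` contains no full transvection root group
with a pure isotropic centre -/
structure MC [Fintype F] (q : ℕ) (M : Subgroup (GL (Idx 2 3) F)) : Prop where
  hF : Fintype.card F = q ^ 2
  hq : 3 ≤ q
  le : KG 2 3 F ⊓ GS 2 3 q F ≤ M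
  le_G : M ≤ GS 2 3 q F
  noT : ¬ Cfsg.Agent.Lib.Helper5.UTG.T1U' q M

end Cfsg.Agent.Lib.Helper11.T23U
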