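import Mathlib

/-! Field and abstract group lemmas for the two-generation of the untwisted Chevalley groups (helper11). -/

set_option autoImplicit false

namespace Cfsg.Agent.Lib.Helper11.Gen2

section field
variable {F : Type*} [Field F] [Fintype F]

/-- an additive subgroup of a finite field containing all squares is everything -/
theorem addSubgroup_eq_top_of_sq (A : AddSubgroup F) (hsq : ∀ z : F, z * z ∈ A) : A = ⊤ := by
  classical
  rw [eq_top_iff]
  intro t _
  by_cases h2 : (2 : F) = 0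
  · have : CharP F 2 := by
      apply CharTwo.of_one_ne_zero_of_two_eq_zero one_ne_zero h2
    obtain ⟨z, hz⟩ := FiniteField.isSquare_of_char_two (F := F) (by exact ringChar.eq F 2 ▸ rfl) t
    rw [hz]; exact hsq z
  · have e : t = ((t + 1) / 2) * ((t + 1) / 2) - ((t - 1) / 2) * ((t - 1) / 2) := by
      field_simp
      ring
    rw [e]
    exact A.sub_mem (hsq _) (hsq _)

/-- an additive subgroup containing `1` and stable under multiplication by `g ^ e`, `e ∈ {±1, ±2}`, `g` a
generator of the units, is everything -/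
theorem addSubgroup_eq_top (g : Fˣ) (hg : ∀ y : Fˣ, y ∈ Subgroup.zpowers g) (e : ℤ)
    (he : e = 1 ∨ e = -1 ∨ e = 2 ∨ e = -2) (A : AddSubgroup F) (h1 : (1 : F) ∈ A)
    (hmul : ∀ a ∈ A, (g : F) ^ e * a ∈ A) : A = ⊤ := by
  classical
  obtain ⟨χ, hχ⟩ : ∃ χ : Fˣ, χ = g ^ e := ⟨_, rfl⟩
  have hχF : ((χ : Fˣ) : F) = (g : F) ^ e := by rw [hχ]; simp
  rw [← hχF] at hmul
  -- stable under natural powers
  have hpow : ∀ (i : ℕ) (a : F), a ∈ A → ((χ ^ i : Fˣ) : F) * a ∈ A := by
    intro i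
    induction i with
    | zero => intro a ha; simpa using ha
    | succ i ih =>
      intro a ha
      have := hmul _ (ih a ha)
      rw [pow_succ', Units.val_mul, mul_assoc]
      exact this
  -- stable under integer powers
  have hzpow : ∀ (z : ℤ) (a : F), a ∈ A → ((χ ^ z : Fˣ) : F) * a ∈ A := by
    intro z a ha
    have hfin : χ ^ (Fintype.card Fˣ) = 1 := pow_card_eq_one
    obtain ⟨i, hi⟩ : ∃ i : ℕ, χ ^ z = χ ^ i := by
      refine ⟨(z % (Fintype.card Fˣ : ℤ)).toNat, ?_⟩
      have hpos : (0 : ℤ) < (Fintype.card Fˣ : ℤ) := by exact_mod_cast Fintype.card_pos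
      have h0 : 0 ≤ z % (Fintype.card Fˣ : ℤ) := Int.emod_nonneg _ hpos.ne'
      rw [← zpow_natCast, Int.toNat_of_nonneg h0]
      have : z = z % (Fintype.card Fˣ : ℤ) + (Fintype.card Fˣ : ℤ) * (z / (Fintype.card Fˣ : ℤ)) :=
        (Int.emod_add_mul_ediv z _).symm
      conv_lhs => rw [this]
      rw [zpow_add, zpow_mul, zpow_natCast, hfin, one_zpow, mul_one]
    rw [hi]
    exact hpow i a ha
  apply addSubgroup_eq_top_of_sq
  intro z
  by_cases hz : z = 0
  · rw [hz, mul_zero]; exact A.zero_mem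
  · obtain ⟨j, hj⟩ := Subgroup.mem_zpowers_iff.mp (hg (Units.mk0 z hz))
    obtain ⟨k, hk⟩ : ∃ k : ℤ, e * k = 2 * j := by
      rcases he with rfl | rfl | rfl | rfl
      · exact ⟨2 * j, by ring⟩
      · exact ⟨-(2 * j), by ring⟩
      · exact ⟨j, by ring⟩
      · exact ⟨-j, by ring⟩
    have hzz : z * z = ((χ ^ k : Fˣ) : F) * 1 := by
      have e1 : (g ^ e) ^ k = (g ^ j) ^ (2 : ℤ) := by
        rw [← zpow_mul, hk, mul_comm, zpow_mul]
      rw [mul_one, hχ, e1, hj]
      simp [sq]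
    rw [hzz]
    exact hzpow k 1 h1

/-- a generator of the units is `≠ 1` when the field has more than two elements -/
theorem gen_ne_one (g : Fˣ) (hg : ∀ y : Fˣ, y ∈ Subgroup.zpowers g) (hq : ∃ x : F, x ≠ 0 ∧ x ≠ 1) :
    (g : F) ≠ 1 := by
  obtain ⟨x, hx0, hx1⟩ := hq
  intro h
  have hg1 : g = 1 := Units.ext (by simpa using h)
  obtain ⟨j, hj⟩ := Subgroup.mem_zpowers_iff.mp (hg (Units.mk0 x hx0))
  rw [hg1, one_zpow] at hj
  apply hx1
  have := congrArg (fun u : Fˣ => (u : F)) hj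
  simpa using this.symm

/-- `g ^ e` for `e = ±1` generates the nonzero elements by natural powers -/
theorem gen_pow_surj (g : Fˣ) (hg : ∀ y : Fˣ, y ∈ Subgroup.zpowers g) (e : ℤ) (he : e = 1 ∨ e = -1)
    (x : F) (hx : x ≠ 0) : ∃ i : ℕ, ((g : F) ^ e) ^ i = x := by
  have h1 : Units.mk0 x hx ∈ Subgroup.zpowers (g ^ e) := by
    rcases he with rfl | rfl
    · rw [zpow_one]; exact hg _
    · rw [zpow_neg, zpow_one, Subgroup.zpowers_inv]; exact hg _
  rw [← mem_powers_iff_mem_zpowers] at h1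
  obtain ⟨i, hi⟩ := h1
  refine ⟨i, ?_⟩
  have := congrArg (fun u : Fˣ => (u : F)) hi
  simpa using this

theorem gen_zpow_ne_one (g : Fˣ) (hg1 : (g : F) ≠ 1) (e : ℤ) (he : e = 1 ∨ e = -1) : (g : F) ^ e ≠ 1 := by
  rcases he with rfl | rfl
  · simpa using hg1
  · rw [zpow_neg, zpow_one]
    intro h
    exact hg1 (inv_eq_one.mp h)

end field

section grp
variable {G : Type*} [Group G]

/-- from `a = h u` with commuting `h`, `u`, `h ^ (q-1) = 1`, `u ^ q = 1` one recovers `h` and `u` -/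
theorem mem_of_mul_pow (M : Subgroup G) (h u : G) (q : ℕ) (hq : 1 ≤ q) (hc : Commute h u)
    (hh : h ^ (q - 1) = 1) (hu : u ^ q = 1) (ha : h * u ∈ M) : h ∈ M ∧ u ∈ M := by
  have e : (h * u) ^ q = h := by
    rw [hc.mul_pow, hu, mul_one]
    obtain ⟨k, rfl⟩ : ∃ k, q = k + 1 := ⟨q - 1, by omega⟩
    rw [pow_succ]
    have : k + 1 - 1 = k := rfl
    rw [this] at hh
    rw [hh, one_mul]
  have hhM : h ∈ M := by
    rw [← e]; exact M.pow_mem ha q
  refine ⟨hhM, ?_⟩
  have := M.mul_mem (M.inv_mem hhM) ha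
  simpa using this

/-- powers of an additive one-parameter group -/
theorem addX_pow {K : Type*} [Field K] (X : K → G) (hX : ∀ s t, X (s + t) = X s * X t) (s : K) (n : ℕ) :
    X s ^ n = X (n * s) := by
  have hX0 : X 0 = 1 := by
    have := hX 0 0
    rw [add_zero] at this
    exact (mul_eq_left.mp this.symm)
  induction n with
  | zero => simp [hX0]
  | succ n ih =>
    rw [pow_succ, ih, ← hX]
    congr 1
    push_cast
    ring

end grp

end Cfsg.Agent.Lib.Helper11.Gen2
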