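import Mathlib

/-!
# The Siegel radical of `Sp_{2n}(F)` and the action of the Levi factor (for S2333)
-/

set_option autoImplicit false

namespace Cfsg.Agent.Lib.Helper11.LS

open Matrix

variable {F : Type*} [Field F] {n : ℕ}

/-- index set of the upper triangle -/
abbrev UT (n : ℕ) := {p : Fin n × Fin n // p.1 ≤ p.2}

/-- the symmetric matrix with a given upper triangle -/
def Sy (s : UT n → F) : Matrix (Fin n) (Fin n) F := fun i j =>
  if h : i ≤ j then s ⟨(i, j), h⟩ else s ⟨(j, i), le_of_lt (not_le.mp h)⟩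

/-- the upper triangle of a matrix -/
def up (M : Matrix (Fin n) (Fin n) F) : UT n → F := fun p => M p.1.1 p.1.2

theorem Sy_apply_of_le (s : UT n → F) {i j : Fin n} (h : i ≤ j) : Sy s i j = s ⟨(i, j), h⟩ := by
  rw [Sy]; exact dif_pos h

theorem Sy_apply_of_ge (s : UT n → F) {i j : Fin n} (h : j ≤ i) : Sy s i j = s ⟨(j, i), h⟩ := by
  rcases eq_or_lt_of_le h with h1 | h1
  · subst h1
    exact Sy_apply_of_le s h
  · rw [Sy]; exact dif_neg (not_le.mpr h1)

theorem Sy_transpose (s : UT n → F) : (Sy s)ᵀ = Sy s := by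
  ext i j
  rw [transpose_apply]
  rcases le_total i j with h | h
  · rw [Sy_apply_of_le s h, Sy_apply_of_ge s h]
  · rw [Sy_apply_of_le s h, Sy_apply_of_ge s h]

theorem up_Sy (s : UT n → F) : up (Sy s) = s := by
  funext p
  obtain ⟨⟨i, j⟩, h⟩ := p
  exact Sy_apply_of_le s h

theorem Sy_up {M : Matrix (Fin n) (Fin n) F} (hM : Mᵀ = M) : Sy (up M) = M := by
  ext i j
  rcases le_total i j with h | h
  · rw [Sy_apply_of_le _ h]; rfl
  · rw [Sy_apply_of_ge _ h]
    show M j i = M i j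
    conv_rhs => rw [← hM]
    rfl

theorem Sy_injective : Function.Injective (Sy : (UT n → F) → Matrix (Fin n) (Fin n) F) := by
  intro s t h
  rw [← up_Sy s, ← up_Sy t, h]

theorem Sy_add (s t : UT n → F) : Sy (s + t) = Sy s + Sy t := by
  ext i j
  rcases le_total i j with h | h
  · rw [Matrix.add_apply, Sy_apply_of_le _ h, Sy_apply_of_le _ h, Sy_apply_of_le _ h]; rfl
  · rw [Matrix.add_apply, Sy_apply_of_ge _ h, Sy_apply_of_ge _ h, Sy_apply_of_ge _ h]; rfl

theorem Sy_smul (c : F) (s : UT n → F) : Sy (c • s) = c • Sy s := by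
  ext i j
  rcases le_total i j with h | h
  · rw [Matrix.smul_apply, Sy_apply_of_le _ h, Sy_apply_of_le _ h]; rfl
  · rw [Matrix.smul_apply, Sy_apply_of_ge _ h, Sy_apply_of_ge _ h]; rfl

theorem Sy_zero : Sy (0 : UT n → F) = 0 := by
  ext i j
  rcases le_total i j with h | h
  · rw [Sy_apply_of_le _ h]; rfl
  · rw [Sy_apply_of_ge _ h]; rfl

theorem up_add (M N : Matrix (Fin n) (Fin n) F) : up (M + N) = up M + up N := rfl

theorem up_smul (c : F) (M : Matrix (Fin n) (Fin n) F) : up (c • M) = c • up M := rfl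

/-- the squares: upper triangle of `ℓ ℓᵀ` -/
def sq (ℓ : Fin n → F) : UT n → F := fun p => ℓ p.1.1 * ℓ p.1.2

theorem Sy_sq (ℓ : Fin n → F) : Sy (sq ℓ) = vecMulVec ℓ ℓ := by
  ext i j
  rcases le_total i j with h | h
  · rw [Sy_apply_of_le _ h]; rfl
  · rw [Sy_apply_of_ge _ h, vecMulVec_apply]
    show ℓ j * ℓ i = ℓ i * ℓ j
    exact mul_comm _ _

/-- upper unitriangular symplectic matrices -/
def Xs (S : Matrix (Fin n) (Fin n) F) (hS : Sᵀ = S) : Matrix.symplecticGroup (Fin n) F :=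
  ⟨fromBlocks 1 S 0 1, by rw [SymplecticGroup.fromBlocks_mem_iff]; simp [hS]⟩

/-- Levi elements -/
def Lv (g h : Matrix (Fin n) (Fin n) F) (hhg : h * g = 1) : Matrix.symplecticGroup (Fin n) F :=
  ⟨fromBlocks g 0 0 hᵀ, by
    rw [SymplecticGroup.fromBlocks_mem_iff]
    refine ⟨by simp, by simp, ?_⟩
    rw [← transpose_mul, hhg]
    simp⟩

theorem Lv_mul_Xs (g h : Matrix (Fin n) (Fin n) F) (hhg : h * g = 1)
    (S : Matrix (Fin n) (Fin n) F) (hS : Sᵀ = S) (hS' : (g * S * gᵀ)ᵀ = g * S * gᵀ) :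
    Lv g h hhg * Xs S hS = Xs (g * S * gᵀ) hS' * Lv g h hhg := by
  apply Subtype.ext
  show fromBlocks g 0 0 hᵀ * fromBlocks 1 S 0 1 = fromBlocks 1 (g * S * gᵀ) 0 1 * fromBlocks g 0 0 hᵀ
  rw [fromBlocks_multiply, fromBlocks_multiply]
  have : g * S * gᵀ * hᵀ = g * S := by
    rw [Matrix.mul_assoc (g * S), ← transpose_mul, hhg, transpose_one, Matrix.mul_one]
  simp [this]

/-- the Siegel radical, parametrised by the upper triangle -/
def X (s : UT n → F) : Matrix.symplecticGroup (Fin n) F := Xs (Sy s) (Sy_transpose s)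

theorem X_add (s t : UT n → F) : X (s + t) = X s * X t := by
  apply Subtype.ext
  show fromBlocks 1 (Sy (s + t)) 0 1 = fromBlocks 1 (Sy s) 0 1 * fromBlocks 1 (Sy t) 0 1
  rw [fromBlocks_multiply, Sy_add]
  simp [add_comm]

theorem X_zero : X (0 : UT n → F) = 1 := by
  apply Subtype.ext
  show fromBlocks 1 (Sy (0 : UT n → F)) 0 1 = (1 : Matrix _ _ F)
  rw [Sy_zero, fromBlocks_one]

theorem X_center {s : UT n → F}
    (h : X s ∈ Subgroup.center (Matrix.symplecticGroup (Fin n) F)) : s = 0 := by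
  have h1 := Subgroup.mem_center_iff.mp h (SymplecticGroup.symJ (Fin n) F)
  have h2 : Matrix.J (Fin n) F * fromBlocks 1 (Sy s) 0 1 =
      fromBlocks 1 (Sy s) 0 1 * Matrix.J (Fin n) F := congrArg Subtype.val h1
  rw [Matrix.J, fromBlocks_multiply, fromBlocks_multiply, fromBlocks_inj] at h2
  have h3 : Sy s = 0 := by
    have := h2.1
    simpa using this.symm
  apply Sy_injective
  rw [h3, Sy_zero]

/-- the action of the Levi factor on the upper triangles -/
def Nmap (g : Matrix (Fin n) (Fin n) F) (s : UT n → F) : UT n → F := up (g * Sy s * gᵀ)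

theorem conj_transpose (g : Matrix (Fin n) (Fin n) F) (s : UT n → F) :
    (g * Sy s * gᵀ)ᵀ = g * Sy s * gᵀ := by
  rw [transpose_mul, transpose_mul, transpose_transpose, Sy_transpose, Matrix.mul_assoc]

theorem Sy_Nmap (g : Matrix (Fin n) (Fin n) F) (s : UT n → F) : Sy (Nmap g s) = g * Sy s * gᵀ :=
  Sy_up (conj_transpose g s)

theorem Nmap_add (g : Matrix (Fin n) (Fin n) F) (s t : UT n → F) :
    Nmap g (s + t) = Nmap g s + Nmap g t := by
  apply Sy_injective
  rw [Sy_add, Sy_Nmap, Sy_Nmap, Sy_Nmap, Sy_add, Matrix.mul_add, Matrix.add_mul]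

theorem Nmap_smul (g : Matrix (Fin n) (Fin n) F) (c : F) (s : UT n → F) :
    Nmap g (c • s) = c • Nmap g s := by
  apply Sy_injective
  rw [Sy_smul, Sy_Nmap, Sy_Nmap, Sy_smul, Matrix.mul_smul, Matrix.smul_mul]

theorem Nmap_mul (g h : Matrix (Fin n) (Fin n) F) (s : UT n → F) :
    Nmap (g * h) s = Nmap g (Nmap h s) := by
  apply Sy_injective
  rw [Sy_Nmap, Sy_Nmap, Sy_Nmap, transpose_mul]
  simp only [Matrix.mul_assoc]

theorem Nmap_one (s : UT n → F) : Nmap (1 : Matrix (Fin n) (Fin n) F) s = s := by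
  apply Sy_injective
  rw [Sy_Nmap, transpose_one, Matrix.one_mul, Matrix.mul_one]

theorem Nmap_sq (g : Matrix (Fin n) (Fin n) F) (ℓ : Fin n → F) : Nmap g (sq ℓ) = sq (g *ᵥ ℓ) := by
  apply Sy_injective
  rw [Sy_Nmap, Sy_sq, Sy_sq, mul_vecMulVec, vecMulVec_mul, vecMul_transpose]

/-- the action of the Levi factor as a linear equivalence -/
def NL (g h : Matrix (Fin n) (Fin n) F) (hgh : g * h = 1) (hhg : h * g = 1) :
    (UT n → F) ≃ₗ[F] (UT n → F) where
  toFun := Nmap g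
  invFun := Nmap h
  map_add' := Nmap_add g
  map_smul' := Nmap_smul g
  left_inv := fun s => by rw [← Nmap_mul, hhg, Nmap_one]
  right_inv := fun s => by rw [← Nmap_mul, hgh, Nmap_one]

theorem NL_apply (g h : Matrix (Fin n) (Fin n) F) (hgh : g * h = 1) (hhg : h * g = 1)
    (s : UT n → F) : NL g h hgh hhg s = Nmap g s := rfl

theorem Lv_mul_X (g h : Matrix (Fin n) (Fin n) F) (hhg : h * g = 1) (s : UT n → F) :
    Lv g h hhg * X s = X (Nmap g s) * Lv g h hhg := by
  rw [X, Lv_mul_Xs g h hhg (Sy s) (Sy_transpose s) (conj_transpose g s)]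
  congr 1
  apply Subtype.ext
  show fromBlocks 1 (g * Sy s * gᵀ) 0 1 = fromBlocks 1 (Sy (Nmap g s)) 0 1
  rw [Sy_Nmap]

/-- the weight `u` as a quadratic form: `ℓ ↦ ∑_{i ≤ j} u_ij ℓ_i ℓ_j` -/
def qf (u : UT n → F) : QuadraticForm F (Fin n → F) :=
  Matrix.toQuadraticForm' (fun i j => if h : i ≤ j then u ⟨(i, j), h⟩ else 0 :
    Matrix (Fin n) (Fin n) F)

end Cfsg.Agent.Lib.Helper11.LS
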