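import Mathlib
import Cfsg.Agent.Lib.Helper11.LSDefs

/-! # Arithmetic for S2333: `Ab`, `Bb`, `gl` -/

set_option autoImplicit false

namespace Cfsg.Agent.Lib.Helper11.LS

theorem gl_zero (q : ℕ) : gl q 0 = 1 := by simp [gl]

theorem gl_one (q : ℕ) : gl q 1 = q - 1 := by simp [gl]

theorem gl_succ2 (q m : ℕ) :
    gl q (m + 2) = (q ^ (m + 2) - 1) * (q ^ (m + 2) - q) * q ^ (2 * m) * gl q m := by
  unfold gl
  rw [Finset.prod_range_succ', Finset.prod_range_succ']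
  have h : ∀ i ∈ Finset.range m, q ^ (m + 2) - q ^ (i + 1 + 1) = q ^ 2 * (q ^ m - q ^ i) := by
    intro i _
    rw [Nat.mul_sub]
    congr 1 <;> ring
  rw [Finset.prod_congr rfl h, Finset.prod_mul_distrib, Finset.prod_const, Finset.card_range]
  have e1 : q ^ (0 + 1) = q := by simp
  have e2 : q ^ 0 = 1 := by simp
  rw [e1, e2, ← pow_mul]
  ring

theorem gl_pos (q : ℕ) (hq : 2 ≤ q) (n : ℕ) : 0 < gl q n := by
  unfold gl
  apply Finset.prod_pos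
  intro i hi
  have : q ^ i < q ^ n := Nat.pow_lt_pow_right (by omega) (Finset.mem_range.mp hi)
  omega

theorem gl_mul_le (q : ℕ) (hq : 2 ≤ q) (a b : ℕ) : gl q a * gl q b * q ^ (a * b) ≤ gl q (a + b) := by
  have h0 : gl q (a + b) = (∏ i ∈ Finset.range a, (q ^ (a + b) - q ^ i)) *
      ∏ j ∈ Finset.range b, (q ^ (a + b) - q ^ (a + j)) := by
    unfold gl
    rw [Finset.prod_range_add]
  have h1 : ∏ j ∈ Finset.range b, (q ^ (a + b) - q ^ (a + j)) = q ^ (a * b) * gl q b := by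
    have h : ∀ j ∈ Finset.range b, q ^ (a + b) - q ^ (a + j) = q ^ a * (q ^ b - q ^ j) := by
      intro j _
      rw [Nat.mul_sub, pow_add, pow_add]
    rw [Finset.prod_congr rfl h, Finset.prod_mul_distrib, Finset.prod_const, Finset.card_range,
      ← pow_mul]
    rfl
  have h2 : gl q a ≤ ∏ i ∈ Finset.range a, (q ^ (a + b) - q ^ i) := by
    unfold gl
    apply Finset.prod_le_prod
    · intro i _; exact Nat.zero_le _
    · intro i _
      have : q ^ a ≤ q ^ (a + b) := Nat.pow_le_pow_right (by omega) (by omega)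
      omega
  rw [h0, h1]
  calc gl q a * gl q b * q ^ (a * b) = gl q a * (q ^ (a * b) * gl q b) := by ring
    _ ≤ _ := Nat.mul_le_mul_right _ h2

theorem Bb_succ2 (q m : ℕ) : Bb q (m + 2) = 2 * (q + 1) * q ^ (2 * m) * gl q m := by
  unfold Bb
  have : m + 2 - 2 = m := by omega
  rw [this]

theorem Bb_pos (q : ℕ) (hq : 2 ≤ q) (n : ℕ) : 0 < Bb q n := by
  unfold Bb
  have h1 := gl_pos q hq (n - 2)
  have h2 : 0 < q ^ (2 * (n - 2)) := Nat.pow_pos (by omega)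
  positivity

theorem gl_eq (q : ℕ) (hq : 2 ≤ q) (n : ℕ) (hn : 2 ≤ n) :
    (q ^ n - 1) * (q ^ n - q) * Bb q n = 2 * (q + 1) * gl q n := by
  obtain ⟨m, rfl⟩ : ∃ m, n = m + 2 := ⟨n - 2, by omega⟩
  rw [Bb_succ2, gl_succ2]
  ring

theorem Ab_le_Bb (q : ℕ) (hq : 2 ≤ q) : ∀ m : ℕ, Ab q (m + 2) ≤ Bb q (m + 2) := by
  intro m
  induction m using Nat.twoStepInduction with
  | zero =>
    rw [Bb_succ2, gl_zero]
    show 2 * (q + 1) ≤ _
    simp
  | one =>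
    rw [Bb_succ2, gl_one]
    show (q ^ (0 + 3) - 1) * q ^ (0 + 1) * 1 ≤ _
    obtain ⟨r, rfl⟩ : ∃ r, q = r + 2 := ⟨q - 2, by omega⟩
    have e1 : (r + 2) ^ (0 + 3) - 1 = r ^ 3 + 6 * r ^ 2 + 12 * r + 7 := by
      have : (r + 2) ^ (0 + 3) = r ^ 3 + 6 * r ^ 2 + 12 * r + 7 + 1 := by ring
      omega
    have e2 : r + 2 - 1 = r + 1 := by omega
    rw [e1, e2]
    have e5 : 2 * (r + 2 + 1) * (r + 2) ^ (2 * 1) * (r + 1) =
        2 * r ^ 4 + 16 * r ^ 3 + 46 * r ^ 2 + 56 * r + 24 := by ring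
    have e6 : (r ^ 3 + 6 * r ^ 2 + 12 * r + 7) * (r + 2) ^ (0 + 1) * 1 =
        r ^ 4 + 8 * r ^ 3 + 24 * r ^ 2 + 31 * r + 14 := by ring
    rw [e5, e6]
    have := Nat.zero_le (r ^ 4)
    have := Nat.zero_le (r ^ 3)
    have := Nat.zero_le (r ^ 2)
    omega
  | more m ih _ =>
    show (q ^ (m + 1 + 3) - 1) * q ^ (m + 1 + 1) * Ab q (m + 1 + 1) ≤ _
    have e3 : m + 1 + 1 = m + 2 := by omega
    have e4 : m + 1 + 3 = m + 4 := by omega
    rw [e3, e4]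
    have hB : Bb q (m + 2 + 2) = 2 * (q + 1) * q ^ (2 * (m + 2)) * gl q (m + 2) := Bb_succ2 q (m + 2)
    rw [hB, gl_succ2]
    rw [Bb_succ2] at ih
    have hq1 : q ≤ q ^ (m + 2) - 1 := by
      have h1 : q ^ 2 ≤ q ^ (m + 2) := Nat.pow_le_pow_right (by omega) (by omega)
      have h2 : 2 * q ≤ q ^ 2 := by nlinarith
      omega
    have hq2 : q ≤ q ^ (m + 2) - q := by
      have h1 : q ^ 2 ≤ q ^ (m + 2) := Nat.pow_le_pow_right (by omega) (by omega)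
      have h2 : 2 * q ≤ q ^ 2 := by nlinarith
      omega
    have hq3 : q ^ 2 ≤ (q ^ (m + 2) - 1) * (q ^ (m + 2) - q) := by
      calc q ^ 2 = q * q := by ring
        _ ≤ _ := Nat.mul_le_mul hq1 hq2
    have hq4 : (q ^ (m + 4) - 1) * q ^ (m + 2) ≤ q ^ (2 * m + 4) * q ^ 2 := by
      calc (q ^ (m + 4) - 1) * q ^ (m + 2) ≤ q ^ (m + 4) * q ^ (m + 2) :=
            Nat.mul_le_mul_right _ (Nat.sub_le _ _)
        _ = q ^ (2 * m + 4) * q ^ 2 := by ring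
    calc (q ^ (m + 4) - 1) * q ^ (m + 2) * Ab q (m + 2)
        ≤ (q ^ (m + 4) - 1) * q ^ (m + 2) * (2 * (q + 1) * q ^ (2 * m) * gl q m) :=
          Nat.mul_le_mul_left _ ih
      _ ≤ q ^ (2 * m + 4) * q ^ 2 * (2 * (q + 1) * q ^ (2 * m) * gl q m) :=
          Nat.mul_le_mul_right _ hq4
      _ ≤ q ^ (2 * m + 4) * ((q ^ (m + 2) - 1) * (q ^ (m + 2) - q)) *
            (2 * (q + 1) * q ^ (2 * m) * gl q m) :=
          Nat.mul_le_mul_right _ (Nat.mul_le_mul_left _ hq3)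
      _ = 2 * (q + 1) * q ^ (2 * (m + 2)) *
            ((q ^ (m + 2) - 1) * (q ^ (m + 2) - q) * q ^ (2 * m) * gl q m) := by ring

theorem Ab_mul_le (q : ℕ) (hq : 2 ≤ q) (d n : ℕ) (hd : 2 ≤ d) (hdn : d ≤ n) :
    Ab q d * q ^ (d * (n - d)) * gl q (n - d) ≤ Bb q n := by
  obtain ⟨a, rfl⟩ : ∃ a, d = a + 2 := ⟨d - 2, by omega⟩
  obtain ⟨b, rfl⟩ : ∃ b, n = a + 2 + b := ⟨n - (a + 2), by omega⟩
  have e1 : a + 2 + b - (a + 2) = b := by omega
  have e2 : a + 2 + b = (a + b) + 2 := by omega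
  rw [e1, e2, Bb_succ2]
  have h1 := Ab_le_Bb q hq a
  rw [Bb_succ2] at h1
  have h2 := gl_mul_le q hq a b
  calc Ab q (a + 2) * q ^ ((a + 2) * b) * gl q b
      ≤ 2 * (q + 1) * q ^ (2 * a) * gl q a * q ^ ((a + 2) * b) * gl q b :=
        Nat.mul_le_mul_right _ (Nat.mul_le_mul_right _ h1)
    _ = 2 * (q + 1) * q ^ (2 * (a + b)) * (gl q a * gl q b * q ^ (a * b)) := by ring
    _ ≤ _ := Nat.mul_le_mul_left _ h2

end Cfsg.Agent.Lib.Helper11.LS
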