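import Mathlib
import Cfsg.Agent.Lib.Helper11.LSDefs
import Cfsg.Agent.Lib.Helper11.LSA1
import Cfsg.Agent.Lib.Helper18.LSA2

/-!
# Orders of isometry groups of non-zero quadratic forms in odd characteristic (for S2347)

`card_isoGroup_le_odd`: a non-zero quadratic form on a space of dimension `n + 1` over a finite
field of odd order `q` has at most `2 q^n |GL_n(q)|` isometries.
-/

set_option autoImplicit false

namespace Cfsg.Agent.Lib.Helper11.WLB

open QuadraticMap Module Cfsg.Agent.Lib.Helper11.LS

universe u
variable {F : Type*} [Field F] {V : Type u} [AddCommGroup V] [Module F V]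

theorem gl_succ (q n : ℕ) : gl q (n + 1) = (q ^ (n + 1) - 1) * q ^ n * gl q n := by
  unfold gl
  rw [Finset.prod_range_succ']
  have h : ∀ i ∈ Finset.range n, q ^ (n + 1) - q ^ (i + 1) = q * (q ^ n - q ^ i) := by
    intro i _
    rw [Nat.mul_sub, pow_succ', pow_succ' q i]
  rw [Finset.prod_congr rfl h, Finset.prod_mul_distrib, Finset.prod_const, Finset.card_range]
  simp only [pow_zero]
  ring

/-- the sphere `{w | Q w = Q v}` of a non-singular vector has at most `2 q^n` points -/
theorem card_sphere_le [Fintype F] [Finite V] (Q : QuadraticForm F V) {v : V} (hv : Q v ≠ 0)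
    {n : ℕ} (hn : finrank F V = n + 1) :
    Nat.card {w : V // Q w = Q v} ≤ 2 * Fintype.card F ^ n := by
  classical
  have : Fintype V := Fintype.ofFinite V
  have hv0 : v ≠ 0 := by
    rintro rfl
    exact hv (map_zero Q)
  set p : Submodule F V := Submodule.span F {v} with hp
  let f : V → V ⧸ p := fun w => Submodule.Quotient.mk w
  let s : Finset V := Finset.univ.filter (fun w => Q w = Q v)
  have hs : Nat.card {w : V // Q w = Q v} = s.card := by
    rw [Nat.card_eq_fintype_card, Fintype.card_subtype]
  rw [hs]
  have h1 : s.card ≤ 2 * (s.image f).card := by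
    apply Finset.card_le_mul_card_image
    intro b hb
    obtain ⟨w0, hw0, rfl⟩ := Finset.mem_image.mp hb
    have hw0' : Q w0 = Q v := (Finset.mem_filter.mp hw0).2
    have hsub : s.filter (fun a => f a = f w0) ⊆ {w0, w0 - (polar Q w0 v / Q v) • v} := by
      intro w hw
      obtain ⟨hw1, hw2⟩ := Finset.mem_filter.mp hw
      have hw1' : Q w = Q v := (Finset.mem_filter.mp hw1).2
      have hmem : w - w0 ∈ p := (Submodule.Quotient.eq p).mp hw2
      obtain ⟨t, ht⟩ := Submodule.mem_span_singleton.mp hmem
      have hw3 : w = w0 + t • v := by rw [ht]; abel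
      have h3 : Q w = Q w0 + t * t * Q v + t * polar Q w0 v := by
        rw [hw3, QuadraticMap.map_add (⇑Q) w0 (t • v), QuadraticMap.map_smul, polar_smul_right]
        simp only [smul_eq_mul]
      rw [hw1', hw0'] at h3
      have h4 : t * (t * Q v + polar Q w0 v) = 0 := by linear_combination -h3
      rcases mul_eq_zero.mp h4 with h5 | h5
      · rw [Finset.mem_insert]
        left
        rw [hw3, h5, zero_smul, add_zero]
      · rw [Finset.mem_insert, Finset.mem_singleton]
        right
        have h6 : t = -(polar Q w0 v / Q v) := by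
          field_simp
          linear_combination h5
        rw [hw3, h6, neg_smul, sub_eq_add_neg]
    exact le_trans (Finset.card_le_card hsub) Finset.card_le_two
  have h2 : (s.image f).card ≤ Fintype.card F ^ n := by
    have : Fintype (V ⧸ p) := Fintype.ofFinite _
    have h3 : (s.image f).card ≤ Fintype.card (V ⧸ p) := Finset.card_le_univ _
    have h4 : Fintype.card (V ⧸ p) = Fintype.card F ^ finrank F (V ⧸ p) :=
      Module.card_eq_pow_finrank
    have h5 : finrank F (V ⧸ p) = n := by
      have h6 := Submodule.finrank_quotient_add_finrank p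
      rw [hp, finrank_span_singleton hv0, hn] at h6
      rw [hp]
      omega
    rw [h4, h5] at h3
    exact h3
  calc s.card ≤ 2 * (s.image f).card := h1
    _ ≤ 2 * Fintype.card F ^ n := Nat.mul_le_mul_left _ h2

/-- the hyperplane orthogonal to `v` -/
def hyp (Q : QuadraticForm F V) (v : V) : Submodule F V := LinearMap.ker (Q.polarBilin v)

theorem mem_hyp {Q : QuadraticForm F V} {v x : V} : x ∈ hyp Q v ↔ polar Q v x = 0 := by
  rw [hyp, LinearMap.mem_ker, polarBilin_apply_apply]

theorem finrank_hyp [FiniteDimensional F V] (h2 : (2 : F) ≠ 0) (Q : QuadraticForm F V) {v : V}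
    (hv : Q v ≠ 0) {n : ℕ} (hn : finrank F V = n + 1) : finrank F (hyp Q v) = n := by
  have hne : (Q.polarBilin v : Module.Dual F V) ≠ 0 := by
    intro h
    have h1 : Q.polarBilin v v = 0 := by rw [h]; rfl
    rw [polarBilin_apply_apply, polar_self] at h1
    have h3 : (2 : F) * Q v = 0 := by
      rw [← h1]
      simp [two_smul, two_mul]
    rcases mul_eq_zero.mp h3 with h4 | h4
    · exact h2 h4
    · exact hv h4
  have h := Module.Dual.finrank_ker_add_one_of_ne_zero hne
  rw [hn] at h
  unfold hyp
  omega

theorem map_hyp {Q : QuadraticForm F V} {v : V} {g : V ≃ₗ[F] V} (hg : g ∈ isoGroup Q)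
    (hgv : g v = v) : (hyp Q v).map (g : V →ₗ[F] V) = hyp Q v := by
  ext x
  rw [Submodule.mem_map]
  constructor
  · rintro ⟨y, hy, rfl⟩
    rw [mem_hyp] at hy ⊢
    have := polar_isoGroup hg v y
    rw [hgv] at this
    show polar Q v (g y) = 0
    rw [this, hy]
  · intro hx
    refine ⟨g.symm x, ?_, ?_⟩
    · rw [mem_hyp] at hx ⊢
      have := polar_isoGroup hg v (g.symm x)
      rw [hgv, LinearEquiv.apply_symm_apply] at this
      rw [← this, hx]
    · show g (g.symm x) = x
      exact LinearEquiv.apply_symm_apply g x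

/-- the stabiliser of a non-singular vector `v` in the isometry group embeds in `GL(v^⊥)` -/
theorem card_stab_le [Fintype F] [Finite V] (h2 : (2 : F) ≠ 0) (Q : QuadraticForm F V) {v : V}
    (hv : Q v ≠ 0) {n : ℕ} (hn : finrank F V = n + 1) :
    Nat.card {g : V ≃ₗ[F] V // g ∈ isoGroup Q ∧ g v = v} ≤ gl (Fintype.card F) n := by
  classical
  have : Module.Finite F V := Module.Finite.of_finite
  let r : {g : V ≃ₗ[F] V // g ∈ isoGroup Q ∧ g v = v} → (hyp Q v ≃ₗ[F] hyp Q v) := fun g =>
    LinearEquiv.ofSubmodules g.1 (hyp Q v) (hyp Q v) (map_hyp g.2.1 g.2.2)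
  have hr : Function.Injective r := by
    intro g g' hgg
    apply Subtype.ext
    ext w
    -- decompose w = t v + u
    have hvv : polar Q v v ≠ 0 := by
      rw [polar_self]
      intro h
      have h3 : (2 : F) * Q v = 0 := by
        rw [← h]
        simp [two_smul, two_mul]
      rcases mul_eq_zero.mp h3 with h4 | h4
      · exact h2 h4
      · exact hv h4
    set t : F := polar Q v w / polar Q v v with ht
    have hu : w - t • v ∈ hyp Q v := by
      rw [mem_hyp, polar_sub_right, polar_smul_right, ht, smul_eq_mul, div_mul_cancel₀ _ hvv,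
        sub_self]
    have h1 : (r g ⟨w - t • v, hu⟩ : V) = (r g' ⟨w - t • v, hu⟩ : V) := by rw [hgg]
    have h3 : g.1 (w - t • v) = g'.1 (w - t • v) := h1
    have hw : w = t • v + (w - t • v) := by abel
    rw [hw, map_add, map_add, map_smul, map_smul, g.2.2, g'.2.2, h3]
  have : Finite (hyp Q v ≃ₗ[F] hyp Q v) :=
    Finite.of_injective (fun g => (g : hyp Q v → hyp Q v)) DFunLike.coe_injective
  have h := Nat.card_le_card_of_injective r hr
  rw [Cfsg.Agent.Lib.Helper18.LSLeaf.card_linearEquiv, finrank_hyp h2 Q hv hn] at h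
  exact h

/-- a non-zero quadratic form in `n + 1` variables over a finite field of odd order `q` has at
most `2 q^n |GL_n(q)|` isometries -/
theorem card_isoGroup_le_odd [Fintype F] [Finite V] (h2 : (2 : F) ≠ 0) (Q : QuadraticForm F V)
    (hQ : Q ≠ 0) {n : ℕ} (hn : finrank F V = n + 1) :
    Nat.card (isoGroup Q) ≤ 2 * Fintype.card F ^ n * gl (Fintype.card F) n := by
  classical
  obtain ⟨v, hv⟩ : ∃ v, Q v ≠ 0 := by
    by_contra h
    push Not at h
    apply hQ
    ext x
    exact h x
  have : Finite (V ≃ₗ[F] V) := Finite.of_injective (fun g => (g : V → V)) (fun g h hgh => by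
    ext x; exact congrFun hgh x)
  have h1 := Subgroup.index_mul_card (MulAction.stabilizer (isoGroup Q) v)
  rw [MulAction.index_stabilizer] at h1
  have h3 : (MulAction.orbit (isoGroup Q) v).ncard ≤ 2 * Fintype.card F ^ n := by
    have hsub : MulAction.orbit (isoGroup Q) v ⊆ {w : V | Q w = Q v} := by
      rintro w ⟨g, rfl⟩
      exact g.2 v
    have hle := Set.ncard_le_ncard hsub (Set.toFinite _)
    refine le_trans hle ?_
    have h5 := card_sphere_le Q hv hn
    have h6 : {w : V | Q w = Q v}.ncard = Nat.card {w : V // Q w = Q v} :=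
      (Nat.card_coe_set_eq {w : V | Q w = Q v}).symm
    rw [h6]
    exact h5
  have h4 : Nat.card (MulAction.stabilizer (isoGroup Q) v) ≤ gl (Fintype.card F) n := by
    refine le_trans ?_ (card_stab_le h2 Q hv hn)
    let e : MulAction.stabilizer (isoGroup Q) v → {g : V ≃ₗ[F] V // g ∈ isoGroup Q ∧ g v = v} :=
      fun g => ⟨g.1.1, g.1.2, MulAction.mem_stabilizer_iff.mp g.2⟩
    apply Nat.card_le_card_of_injective e
    intro g g' hgg
    apply Subtype.ext
    apply Subtype.ext
    have h5 := congrArg Subtype.val hgg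
    exact h5
  rw [← h1]
  exact Nat.mul_le_mul h3 h4

end Cfsg.Agent.Lib.Helper11.WLB
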