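/-
helper11: leaf BRC-W999 `s0999_of_core` of helper24's Brauer-Reynolds core market (S0999 + S4701; frozen statement in
notes/S0999_leaves.lean): S0999 from the core theorem.
-/
import Mathlib
import Cfsg.Prelude.Def_BlockRank
import Cfsg.Prelude.Def_Perm
import Cfsg.Agent.Lib.Helper24.BRCDefs
import Cfsg.Agent.Lib.Helper5.BRWSLPSL

set_option autoImplicit false

namespace Cfsg.Agent.Lib.Helper11.BRCW999

open Cfsg Cfsg.Agent.Lib.Helper8.DOM Cfsg.Agent.Lib.Helper27.DO Cfsg.Agent.CharLib
open Cfsg.Agent.Lib.Helper6.BRH Cfsg.Agent.Lib.Helper24.BRC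
open scoped ComplexConjugate

universe u

variable {G : Type u} [Group G] [Finite G] {p : ℕ} [Fact p.Prime]

/-- the conclusion of S4701 (verbatim copy of `BRCLeaves.Concl`) -/
def Concl (G : Type u) [Group G] (p : ℕ) : Prop :=
  (∃ (F : Type) (_ : Field F) (_ : Fintype F), Fintype.card F = p ∧ 3 < p ∧
    Nonempty (G ≃* Matrix.ProjectiveSpecialLinearGroup (Fin 2) F)) ∨
  (∃ (m : ℕ) (F : Type) (_ : Field F) (_ : Fintype F), Fintype.card F = 2 ^ m ∧ p = 2 ^ m + 1 ∧ 3 < p ∧
    Nonempty (G ≃* Matrix.SpecialLinearGroup (Fin 2) F))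

omit [Finite G] in
/-- a simple group whose commutator subgroup is trivial is cyclic -/
theorem isCyclic_of_simple_of_comm [IsSimpleGroup G] (h : ∀ a b : G, a * b = b * a) : IsCyclic G := by
  let _ : CommGroup G := { ‹Group G› with mul_comm := h }
  exact IsSimpleGroup.isCyclic

/-- a non-cyclic simple group is perfect -/
theorem commutator_eq_top_of_simple [IsSimpleGroup G] (hG : ¬ IsCyclic G) : commutator G = ⊤ := by
  have hn : (commutator G).Normal := by unfold commutator; infer_instance
  rcases hn.eq_bot_or_eq_top with h | h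
  · exfalso
    apply hG
    apply isCyclic_of_simple_of_comm
    intro a b
    have hc : Subgroup.center G = ⊤ := (commutator_eq_bot_iff_center_eq_top G).mp h
    have ha : a ∈ Subgroup.center G := by rw [hc]; exact Subgroup.mem_top a
    exact (Subgroup.mem_center_iff.mp ha b).symm
  · exact h

/-- **BRC-W999**.  S0999 from the core. -/
theorem s0999_of_core
    (hcoreThm : ∀ {Q : Type u} [Group Q] [Finite Q], commutator Q = ⊤ → p ∣ Nat.card Q → Nat.card Q < p ^ 3 →
      (∀ K : Subgroup Q, K.Normal → (Nat.card K).Coprime p → K = ⊥) →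
      ∀ S : Sylow p Q, ¬ (S : Subgroup Q).Normal → Concl Q p)
    [IsSimpleGroup G] (hG : ¬ IsCyclic G) (hdvd : p ∣ Nat.card G) (hbig : Nat.card G < p ^ 3) :
    (∃ (F : Type) (_ : Field F) (_ : Fintype F), Fintype.card F = p ∧ 3 < p ∧
      Nonempty (G ≃* Matrix.ProjectiveSpecialLinearGroup (Fin 2) F)) ∨
    (∃ (m : ℕ) (F : Type) (_ : Field F) (_ : Fintype F), Fintype.card F = 2 ^ m ∧ p = 2 ^ m + 1 ∧ 3 < p ∧
      Nonempty (G ≃* Matrix.ProjectiveSpecialLinearGroup (Fin 2) F)) := by
  have hp : p.Prime := Fact.out
  have hperf : commutator G = ⊤ := commutator_eq_top_of_simple hG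
  have hcore : ∀ K : Subgroup G, K.Normal → (Nat.card K).Coprime p → K = ⊥ := by
    intro K hK hcop
    rcases hK.eq_bot_or_eq_top with h | h
    · exact h
    · exfalso
      rw [h, Subgroup.card_top] at hcop
      have := Nat.Coprime.eq_one_of_dvd hcop.symm hdvd
      exact hp.one_lt.ne' this
  have S : Sylow p G := default
  have hSn : ¬ (S : Subgroup G).Normal := by
    intro hn
    rcases hn.eq_bot_or_eq_top with h | h
    · -- a trivial Sylow subgroup: p does not divide |G|
      have h1 : Nat.card (S : Subgroup G) = 1 := by rw [h]; exact Subgroup.card_bot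
      have h2 := S.card_eq_multiplicity
      rw [h1] at h2
      have h3 : (Nat.card G).factorization p = 0 := by
        by_contra hne
        have : 1 < p ^ (Nat.card G).factorization p := Nat.one_lt_pow hne hp.one_lt
        omega
      have h4 : 0 < (Nat.card G).factorization p :=
        hp.factorization_pos_of_dvd Nat.card_pos.ne' hdvd
      omega
    · -- `G` is a `p`-group: its centre is non-trivial, so `G` is abelian, so cyclic
      have hpg : IsPGroup p G := by
        have := S.isPGroup'
        rw [h] at this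
        intro g
        obtain ⟨k, hk⟩ := this ⟨g, Subgroup.mem_top g⟩
        exact ⟨k, by simpa [Subtype.ext_iff] using hk⟩
      have : Nontrivial G := IsSimpleGroup.toNontrivial
      have hz : Subgroup.center G ≠ ⊥ := by
        have := hpg.center_nontrivial
        intro hbot
        rw [hbot] at this
        exact not_nontrivial _ this
      have hzt : Subgroup.center G = ⊤ := by
        rcases (inferInstance : (Subgroup.center G).Normal).eq_bot_or_eq_top with h' | h'
        · exact absurd h' hz
        · exact h'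
      apply hG
      apply isCyclic_of_simple_of_comm
      intro a b
      have ha : a ∈ Subgroup.center G := by rw [hzt]; exact Subgroup.mem_top a
      exact (Subgroup.mem_center_iff.mp ha b).symm
  rcases hcoreThm hperf hdvd hbig hcore S hSn with h | ⟨m, F, iF, iFt, hF, hpm, h3, ⟨e⟩⟩
  · exact Or.inl h
  · right
    obtain ⟨e'⟩ := @Cfsg.Agent.Lib.Helper5.BRWSLPSL.sl2_equiv_psl2_of_char_two F iF iFt m hF
    exact ⟨m, F, iF, iFt, hF, hpm, h3, ⟨e.trans e'⟩⟩

end Cfsg.Agent.Lib.Helper11.BRCW999
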