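/-
helper11: leaf BRC-QUOT `s4701_of_core` of helper24's Brauer-Reynolds core market (S0999 + S4701; frozen statement in
notes/S0999_leaves.lean): S4701 from the core theorem, through the quotient by the largest normal `p'`-subgroup.
-/
import Mathlib
import Cfsg.Prelude.Def_BlockRank
import Cfsg.Prelude.Def_Perm
import Cfsg.Agent.Lib.Helper24.BRCDefs
import Cfsg.Agent.Lib.Helper24.PerfectLemmas
import Cfsg.Agent.Lib.Helper13.PSL2
import Cfsg.Agent.Lib.Helper11.BRCW999

set_option autoImplicit false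

namespace Cfsg.Agent.Lib.Helper11.BRCQUOT

open Cfsg Cfsg.Agent.Lib.Helper8.DOM Cfsg.Agent.Lib.Helper27.DO Cfsg.Agent.CharLib
open Cfsg.Agent.Lib.Helper6.BRH Cfsg.Agent.Lib.Helper24.BRC
open Cfsg.Agent.Lib.Helper11.BRCW999
open scoped ComplexConjugate

universe u

variable {G : Type u} [Group G] [Finite G] {p : ℕ} [Fact p.Prime]

/-- a non-normal Sylow `p`-subgroup of a group of order `< p³` has order `p` -/
theorem card_sylow_eq_prime (hbig : Nat.card G < p ^ 3) (P : Sylow p G)
    (hP : ¬ (P : Subgroup G).Normal) : Nat.card (P : Subgroup G) = p := by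
  have hp : p.Prime := Fact.out
  -- the number of Sylow subgroups is `≡ 1 (mod p)` and not `1`
  have hmod := card_sylow_modEq_one p G
  have hne1 : Nat.card (Sylow p G) ≠ 1 := by
    intro h1
    apply hP
    have : Subsingleton (Sylow p G) := (Nat.card_eq_one_iff_unique.mp h1).1
    exact Sylow.normal_of_subsingleton P
  have hpos : 0 < Nat.card (Sylow p G) := Nat.card_pos
  have hge : p + 1 ≤ Nat.card (Sylow p G) := by
    have h1 : Nat.card (Sylow p G) % p = 1 % p := hmod
    rw [Nat.mod_eq_of_lt hp.one_lt] at h1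
    have h2 := Nat.div_add_mod (Nat.card (Sylow p G)) p
    rw [h1] at h2
    have h3 : Nat.card (Sylow p G) / p ≠ 0 := by
      intro h0
      rw [h0] at h2
      omega
    have h4 : 1 ≤ Nat.card (Sylow p G) / p := Nat.one_le_iff_ne_zero.mpr h3
    nlinarith
  -- `|G| = #Syl * |N(P)| ≥ (p + 1) |P|`
  have hidx : Nat.card (Sylow p G) = (Subgroup.normalizer ((P : Subgroup G) : Set G)).index :=
    Sylow.card_eq_index_normalizer P
  have hmul := Subgroup.card_mul_index (Subgroup.normalizer ((P : Subgroup G) : Set G))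
  have hle : Nat.card (P : Subgroup G) ≤ Nat.card (Subgroup.normalizer ((P : Subgroup G) : Set G)) :=
    Subgroup.card_le_of_le Subgroup.le_normalizer
  have hbound : (p + 1) * Nat.card (P : Subgroup G) ≤ Nat.card G := by
    calc (p + 1) * Nat.card (P : Subgroup G)
        ≤ Nat.card (Sylow p G) * Nat.card (Subgroup.normalizer ((P : Subgroup G) : Set G)) :=
          Nat.mul_le_mul hge hle
      _ = Nat.card G := by rw [hidx, mul_comm, hmul]
  -- `|P| = p ^ k`
  obtain ⟨k, hk⟩ := (IsPGroup.iff_card.mp P.isPGroup')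
  rw [hk] at hbound ⊢
  have hk0 : k ≠ 0 := by
    intro h0
    -- then `P = ⊥` is normal
    apply hP
    have h1 : Nat.card (P : Subgroup G) = 1 := by rw [hk, h0, pow_zero]
    have : (P : Subgroup G) = ⊥ := Subgroup.card_eq_one.mp h1
    rw [this]
    infer_instance
  have hk2 : k < 2 := by
    by_contra hcon
    have hk2' : 2 ≤ k := not_lt.mp hcon
    have h1 : p ^ 2 ≤ p ^ k := Nat.pow_le_pow_right hp.pos hk2'
    have h2 : (p + 1) * p ^ 2 ≤ (p + 1) * p ^ k := Nat.mul_le_mul_left _ h1
    have h3 : p ^ 3 < (p + 1) * p ^ 2 := by nlinarith [hp.pos]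
    omega
  have : k = 1 := by omega
  rw [this, pow_one]

/-- **BRC-QUOT**.  S4701 from the core. -/
theorem s4701_of_core
    (hcoreThm : ∀ {Q : Type u} [Group Q] [Finite Q], commutator Q = ⊤ → p ∣ Nat.card Q → Nat.card Q < p ^ 3 →
      (∀ K : Subgroup Q, K.Normal → (Nat.card K).Coprime p → K = ⊥) →
      ∀ S : Sylow p Q, ¬ (S : Subgroup Q).Normal → Concl Q p)
    (hperf : commutator G = ⊤) (hdvd : p ∣ Nat.card G) (hbig : Nat.card G < p ^ 3) (P : Sylow p G)
    (hP : ¬ (P : Subgroup G).Normal) (h2 : ∀ N : Subgroup G, N.Normal → Nat.card N ≠ 2) : Concl G p := by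
  have hp : p.Prime := Fact.out
  have hPcard : Nat.card (P : Subgroup G) = p := card_sylow_eq_prime hbig P hP
  have hGpos : 0 < Nat.card G := Nat.card_pos
  -- the `p`-part of `|G|` is `p`
  have hfactG : (Nat.card G).factorization p = 1 := by
    have h := P.card_eq_multiplicity
    rw [hPcard] at h
    have h' : p ^ 1 = p ^ (Nat.card G).factorization p := by rw [pow_one]; exact h
    exact (Nat.pow_right_injective hp.two_le h').symm
  -- a normal `p'`-subgroup of largest order
  obtain ⟨H, ⟨hHn, hHcop⟩, hHmax⟩ :=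
    Set.exists_max_image {K : Subgroup G | K.Normal ∧ (Nat.card K).Coprime p} (fun K => Nat.card K)
      (Set.toFinite _) ⟨⊥, by infer_instance, by simp⟩
  haveI : H.Normal := hHn
  have hcardGQ : Nat.card G = Nat.card (G ⧸ H) * Nat.card H :=
    Subgroup.card_eq_card_quotient_mul_card_subgroup H
  have hHpos : 0 < Nat.card H := Nat.card_pos
  have hQpos : 0 < Nat.card (G ⧸ H) := Nat.card_pos
  -- the quotient
  have hperfQ : commutator (G ⧸ H) = ⊤ :=
    Cfsg.Agent.Lib.Helper24.commutator_eq_top_of_surjective hperf (QuotientGroup.mk' H)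
      (QuotientGroup.mk'_surjective H)
  have hdvdQ : p ∣ Nat.card (G ⧸ H) := by
    rw [hcardGQ] at hdvd
    exact (Nat.Coprime.dvd_mul_right (Nat.Coprime.symm hHcop)).mp hdvd
  have hbigQ : Nat.card (G ⧸ H) < p ^ 3 := by
    have : Nat.card (G ⧸ H) ≤ Nat.card G := by
      rw [hcardGQ]; exact Nat.le_mul_of_pos_right _ hHpos
    omega
  have hcoreQ : ∀ K : Subgroup (G ⧸ H), K.Normal → (Nat.card K).Coprime p → K = ⊥ := by
    intro K hK hKcop
    have := hK
    set K' : Subgroup G := K.comap (QuotientGroup.mk' H) with hK'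
    have hK'n : K'.Normal := by rw [hK']; infer_instance
    have hHK' : H ≤ K' := by
      intro x hx
      rw [hK', Subgroup.mem_comap]
      have : (QuotientGroup.mk' H) x = 1 := by
        rw [QuotientGroup.mk'_apply, QuotientGroup.eq_one_iff]; exact hx
      rw [this]; exact K.one_mem
    -- `|K'| = |K| * |H|`
    have hidx : K'.index = K.index :=
      Subgroup.index_comap_of_surjective K (QuotientGroup.mk'_surjective H)
    have h1 := Subgroup.card_mul_index K'
    have h2 := Subgroup.card_mul_index K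
    have hKidx : 0 < K.index := Nat.pos_of_ne_zero Subgroup.index_ne_zero_of_finite
    have hcardK' : Nat.card K' = Nat.card K * Nat.card H := by
      have h3 : Nat.card K' * K.index = Nat.card K * Nat.card H * K.index := by
        rw [← hidx, h1, hcardGQ, ← h2, hidx]; ring
      exact Nat.eq_of_mul_eq_mul_right hKidx h3
    have hK'cop : (Nat.card K').Coprime p := by
      rw [hcardK']; exact Nat.Coprime.mul_left hKcop hHcop
    have hle := hHmax K' ⟨hK'n, hK'cop⟩
    rw [hcardK'] at hle
    have hKpos : 0 < Nat.card K := Nat.card_pos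
    have hK1 : Nat.card K = 1 := by
      by_contra hne
      have : 2 ≤ Nat.card K := by omega
      nlinarith
    exact Subgroup.card_eq_one.mp hK1
  -- its Sylow `p`-subgroups have order `p` and are not normal
  have hfactQ : (Nat.card (G ⧸ H)).factorization p = 1 := by
    have h := Nat.factorization_mul hQpos.ne' hHpos.ne'
    rw [← hcardGQ] at h
    have h' := congrArg (fun f => f p) h
    simp only [Finsupp.coe_add, Pi.add_apply] at h'
    have h0 : (Nat.card H).factorization p = 0 := by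
      apply Nat.factorization_eq_zero_of_not_dvd
      intro hd
      have := Nat.Coprime.eq_one_of_dvd hHcop.symm hd
      exact hp.one_lt.ne' this
    omega
  have hSn : ∀ S : Sylow p (G ⧸ H), ¬ (S : Subgroup (G ⧸ H)).Normal := by
    intro S hn
    have := hn
    have hS : Nat.card (S : Subgroup (G ⧸ H)) = p := by
      rw [S.card_eq_multiplicity, hfactQ, pow_one]
    have hc := Cfsg.Agent.Lib.Helper24.le_center_of_normal_of_prime_card_of_perfect hperfQ p
      (S : Subgroup (G ⧸ H)) hS
    exact Cfsg.Agent.Lib.Helper24.not_perfect_of_central_sylow p S hc hdvdQ hperfQ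
  have hconcl : Concl (G ⧸ H) p := hcoreThm hperfQ hdvdQ hbigQ hcoreQ default (hSn default)
  -- the order of the quotient forces `|H| ≤ 2`
  have hH3 : Nat.card H < 3 := by
    rcases hconcl with ⟨F, iF, iFt, hF, h3, ⟨e⟩⟩ | ⟨m, F, iF, iFt, hF, hpm, h3, ⟨e⟩⟩
    · -- `PSL₂(p)`
      have h2F : (2 : F) ≠ 0 := by
        intro h20
        have hd : ringChar F ∣ 2 := by
          have := (ringChar.spec F 2).mp (by exact_mod_cast h20)
          exact this
        have hrp : (ringChar F).Prime := CharP.char_is_prime F (ringChar F)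
        have hr2 : ringChar F = 2 := (Nat.prime_dvd_prime_iff_eq hrp Nat.prime_two).mp hd
        have hev := FiniteField.even_card_iff_char_two.mp hr2
        rw [hF] at hev
        have : p = 2 := (Nat.Prime.eq_one_or_self_of_dvd hp 2 (Nat.dvd_of_mod_eq_zero hev)).resolve_left (by norm_num) |>.symm
        omega
      have hc := Cfsg.Agent.Lib.Helper13.card_PSL2_mul_two (F := F) h2F
      rw [hF, ← Nat.card_congr e.toEquiv] at hc
      -- `|G| = |Q| |H| < p³`, `2 |Q| = p (p² - 1)`
      have hlt : Nat.card (G ⧸ H) * Nat.card H < p ^ 3 := by rw [← hcardGQ]; exact hbig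
      by_contra hcon
      have hH3' : 3 ≤ Nat.card H := not_lt.mp hcon
      have h4 : Nat.card (G ⧸ H) * 3 ≤ Nat.card (G ⧸ H) * Nat.card H := Nat.mul_le_mul_left _ hH3'
      have hp2 : 1 ≤ p ^ 2 := Nat.one_le_pow _ _ hp.pos
      have h5 : p * (p ^ 2 - 1) * 3 < 2 * p ^ 3 := by
        calc p * (p ^ 2 - 1) * 3 = (Nat.card (G ⧸ H) * 2) * 3 := by rw [hc]
          _ = 2 * (Nat.card (G ⧸ H) * 3) := by ring
          _ < 2 * p ^ 3 := by omega
      obtain ⟨c, hc2⟩ : ∃ c, p ^ 2 = c + 1 := ⟨p ^ 2 - 1, by omega⟩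
      have hc3 : p ^ 2 - 1 = c := by omega
      rw [hc3] at h5
      have h6 : p ^ 3 = p * (c + 1) := by rw [← hc2]; ring
      rw [h6] at h5
      have hc9 : 15 ≤ c := by
        have : 16 ≤ p ^ 2 := by nlinarith
        omega
      nlinarith [hp.pos]
    · -- `SL₂(2^m)`, `2^m = p - 1`
      have hc := Cfsg.Agent.Lib.Helper13.card_SL2 (F := F)
      rw [hF, ← Nat.card_congr e.toEquiv] at hc
      have hlt : Nat.card (G ⧸ H) * Nat.card H < p ^ 3 := by rw [← hcardGQ]; exact hbig
      by_contra hcon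
      have hH3' : 3 ≤ Nat.card H := not_lt.mp hcon
      have h4 : Nat.card (G ⧸ H) * 3 ≤ Nat.card (G ⧸ H) * Nat.card H := Nat.mul_le_mul_left _ hH3'
      obtain ⟨d, hd⟩ : ∃ d, 2 ^ m = d + 3 := ⟨2 ^ m - 3, by omega⟩
      have hq2 : (2 ^ m) ^ 2 - 1 = (d + 3) ^ 2 - 1 := by rw [hd]
      have hq3 : (d + 3) ^ 2 - 1 = d ^ 2 + 6 * d + 8 := by
        have : (d + 3) ^ 2 = d ^ 2 + 6 * d + 9 := by ring
        omega
      rw [hq2, hq3, hd] at hc
      have hpd : p = d + 4 := by omega
      rw [hc] at h4 hlt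
      rw [hpd] at hlt
      nlinarith
  have hH1 : Nat.card H = 1 := by
    have := h2 H hHn
    omega
  have hHbot : H = ⊥ := Subgroup.card_eq_one.mp hH1
  subst hHbot
  -- transport along `G ⧸ ⊥ ≃* G`
  have eG : G ≃* G ⧸ (⊥ : Subgroup G) := (QuotientGroup.quotientBot (G := G)).symm
  rcases hconcl with ⟨F, iF, iFt, hF, h3, ⟨e⟩⟩ | ⟨m, F, iF, iFt, hF, hpm, h3, ⟨e⟩⟩
  · exact Or.inl ⟨F, iF, iFt, hF, h3, ⟨eG.trans e⟩⟩
  · exact Or.inr ⟨m, F, iF, iFt, hF, hpm, h3, ⟨eG.trans e⟩⟩

end Cfsg.Agent.Lib.Helper11.BRCQUOT
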