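import Mathlib
import Cfsg.Prelude.Def_Classical
import Cfsg.Prelude.Def_ClassicalGeometry
import Cfsg.Prelude.Def_GeometricClasses
import Cfsg.Agent.Lib.Helper5.SUMax
import Cfsg.Agent.Lib.Helper5.UForm
import Cfsg.Agent.Lib.Helper22.C3LDefs
import Cfsg.Agent.Lib.Helper22.C3LTool
import Cfsg.Agent.Lib.Helper16.C3uDefs

/-!
Unitary C3 (cubic field) leaf market (helper16), leaf C3uSK, CORE: a matrix mapping every isotropic
`E`-line into an `E`-line normalises `E`.  The Witt-type facts of the hermitian `E`-space `(V, fE)` used here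
(`st ≠ refl`, `finrank_hyp`, `exists_iso_not_perp`, `exists_iso_sep`) are explicit hypotheses.
-/

set_option autoImplicit false
set_option linter.unusedSectionVars false
set_option linter.unusedVariables false

namespace Cfsg.Agent.Lib.Helper11.C3uLeaf
open Cfsg Matrix Module Cfsg.Agent.Lib.Helper5.SpMax Cfsg.Agent.Lib.Helper5.SUMax
  Cfsg.Agent.Lib.Helper22.C3L Cfsg.Agent.Lib.Helper16.C3u

universe u
variable {F : Type u} [Field F] {n q : ℕ} {E : Type u} [Field E] [Algebra F E]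

local notation "𝕍" => (Fin n → F)
local notation "𝕄" => Matrix (Fin n) (Fin n) F

/-- the `E`-multiples of an isotropic vector are isotropic -/
lemma sk_iso_act (S : KU n q F E) {v : 𝕍} (hv : S.fE v v = 0) (e : E) :
    S.fE (act S.ρ e v) (act S.ρ e v) = 0 := by
  rw [S.fE_act_left, S.fE_act_right, hv, mul_zero, mul_zero]

/-- every vector is the sum of two isotropic vectors -/
theorem sk_sum_iso (S : KU n q F E) (hst : S.st ≠ RingEquiv.refl E)
    (hnp : ∀ x : 𝕍, x ≠ 0 → ∃ a : 𝕍, S.fE a a = 0 ∧ S.fE x a ≠ 0) (x : 𝕍) :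
    ∃ a b : 𝕍, S.fE a a = 0 ∧ S.fE b b = 0 ∧ x = a + b := by
  by_cases hx : x = 0
  · exact ⟨0, 0, S.fE_zero_left 0, S.fE_zero_left 0, by rw [hx, add_zero]⟩
  obtain ⟨a₀, ha₀, hγ⟩ := hnp x hx
  set γ := S.fE x a₀ with hγdef
  obtain ⟨z, hz⟩ := Cfsg.Agent.Lib.Helper5.UForm.tr_surj S.st_st hst (S.fE x x) (S.st_fE_self x)
  have hsγ : S.st γ ≠ 0 := by
    intro h0
    apply hγ
    have := congrArg S.st h0
    rwa [S.st_st, map_zero] at this
  set l := z / S.st γ with hl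
  refine ⟨act S.ρ l a₀, x - act S.ρ l a₀, sk_iso_act S ha₀ l, ?_, by abel⟩
  rw [S.fE_sub_left, S.fE_sub_right, S.fE_sub_right, S.fE_act_right, S.fE_act_left, S.fE_act_left,
    S.fE_act_right, ha₀, ← hγdef, S.herm x a₀, ← hγdef, ← hz]
  have h1 : l * S.st γ = z := by rw [hl]; field_simp
  have h2 : S.st l * γ = S.st z := by
    rw [hl, map_div₀, S.st_st]
    field_simp
  rw [h1, h2]
  ring

section lam
variable (S : KU n q F E) [FiniteDimensional F E] (g : GL (Fin n) F) (lam : (Fin n → F) → E → E)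
  (hlam : ∀ v : Fin n → F, S.fE v v = 0 → ∀ e : E,
    (g : Matrix (Fin n) (Fin n) F) *ᵥ (act S.ρ e v) =
      act S.ρ (lam v e) ((g : Matrix (Fin n) (Fin n) F) *ᵥ v))

include hlam in
/-- `g` maps the `E`-line of an isotropic `v ≠ 0` ONTO the `E`-line of `g v` -/
lemma sk_img_line {v : 𝕍} (hv : S.fE v v = 0) (hv0 : v ≠ 0) :
    img g (line S.ρ v) = line S.ρ ((g : 𝕄) *ᵥ v) := by
  have hgv0 : (g : 𝕄) *ᵥ v ≠ 0 := by
    intro h0
    apply hv0
    apply mulVec_inj g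
    rw [h0, Matrix.mulVec_zero]
  apply Submodule.eq_of_le_of_finrank_eq
  · intro x hx
    obtain ⟨w, hw, rfl⟩ := mem_img.mp hx
    obtain ⟨e, rfl⟩ := mem_line.mp hw
    rw [hlam v hv e]
    exact act_mem_line _ _
  · rw [finrank_img, finrank_line hv0, finrank_line hgv0]

include hlam in
/-- the basic step -/
lemma sk_step {v w : 𝕍} (hv : S.fE v v = 0) (hw : S.fE w w = 0) (hv0 : v ≠ 0)
    (hwv : w ∉ line S.ρ v) (hsk : S.st (S.fE v w) = - S.fE v w) (e : E) : lam v e = lam w e := by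
  have hvw : S.fE (v + w) (v + w) = 0 := by
    rw [S.add_left, S.fE_add_right, S.fE_add_right, hv, hw, S.herm v w, hsk]
    ring
  have hgv0 : (g : 𝕄) *ᵥ v ≠ 0 := by
    intro h0
    apply hv0
    apply mulVec_inj g
    rw [h0, Matrix.mulVec_zero]
  have hgw : (g : 𝕄) *ᵥ w ∉ line S.ρ ((g : 𝕄) *ᵥ v) := by
    rw [← sk_img_line S g lam hlam hv hv0, mem_img_iff, inv_mul_mulVec]
    exact hwv
  have e1 : act S.ρ (lam (v + w) e - lam v e) ((g : 𝕄) *ᵥ v) =
      act S.ρ (lam w e - lam (v + w) e) ((g : 𝕄) *ᵥ w) := by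
    have h1 := hlam (v + w) hvw e
    rw [act_vadd, Matrix.mulVec_add, hlam v hv e, hlam w hw e, Matrix.mulVec_add, act_vadd] at h1
    rw [act_sub, act_sub]
    have h2 : act S.ρ (lam (v + w) e) ((g : 𝕄) *ᵥ v) - act S.ρ (lam v e) ((g : 𝕄) *ᵥ v) =
        act S.ρ (lam w e) ((g : 𝕄) *ᵥ w) - act S.ρ (lam (v + w) e) ((g : 𝕄) *ᵥ w) := by
      rw [sub_eq_sub_iff_add_eq_add, ← h1]; abel
    exact h2
  have hb : lam w e - lam (v + w) e = 0 := by
    by_contra hb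
    apply hgw
    have h3 : (g : 𝕄) *ᵥ w =
        act S.ρ ((lam w e - lam (v + w) e)⁻¹ * (lam (v + w) e - lam v e)) ((g : 𝕄) *ᵥ v) := by
      rw [act_mul, e1, act_inv_act S.ρ hb]
    rw [h3]
    exact act_mem_line _ _
  rw [hb, act_zero] at e1
  rcases act_eq_zero S.ρ e1 with h4 | h4
  · rw [sub_eq_zero] at h4 hb
    rw [← h4, hb]
  · exact absurd h4 hgv0

/-- an isotropic vector orthogonal to the isotropic `w ≠ 0`, off its line -/
lemma sk_exists_perp (hn : 4 * finrank F E ≤ n)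
    (hhyp : ∀ v : 𝕍, v ≠ 0 → finrank F (S.hyp v) + finrank F E = n)
    (hsep : ∀ w w' : 𝕍, w ≠ 0 → w' ∉ line S.ρ w →
      ∃ a : 𝕍, S.fE a a = 0 ∧ S.fE w a = 0 ∧ S.fE w' a ≠ 0)
    {w : 𝕍} (hw : S.fE w w = 0) (hw0 : w ≠ 0) :
    ∃ z : 𝕍, S.fE z z = 0 ∧ S.fE w z = 0 ∧ z ∉ line S.ρ w := by
  have hr : 0 < finrank F E := Module.finrank_pos
  obtain ⟨w', hw'h, hw'l⟩ : ∃ w' : 𝕍, w' ∈ S.hyp w ∧ w' ∉ line S.ρ w := by
    by_contra hcon
    push Not at hcon
    have hle : S.hyp w ≤ line S.ρ w := fun x hx => hcon x hx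
    have h1 := Submodule.finrank_mono hle
    rw [finrank_line hw0] at h1
    have h2 := hhyp w hw0
    omega
  obtain ⟨a, haa, hwa, hw'a⟩ := hsep w w' hw0 hw'l
  refine ⟨a, haa, hwa, ?_⟩
  intro hal
  obtain ⟨e, rfl⟩ := mem_line.mp hal
  apply hw'a
  rw [S.fE_act_right, S.mem_hyp.mp hw'h, mul_zero]

include hlam in
/-- two vectors on the same isotropic line -/
lemma sk_same_line (hn : 4 * finrank F E ≤ n)
    (hhyp : ∀ v : 𝕍, v ≠ 0 → finrank F (S.hyp v) + finrank F E = n)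
    (hsep : ∀ w w' : 𝕍, w ≠ 0 → w' ∉ line S.ρ w →
      ∃ a : 𝕍, S.fE a a = 0 ∧ S.fE w a = 0 ∧ S.fE w' a ≠ 0)
    {v : 𝕍} (hv : S.fE v v = 0) (hv0 : v ≠ 0) {s : E} (hs : s ≠ 0) (e : E) :
    lam v e = lam (act S.ρ s v) e := by
  obtain ⟨z, hzz, hvz, hzl⟩ := sk_exists_perp S hn hhyp hsep hv hv0
  have hsv0 : act S.ρ s v ≠ 0 := by
    intro h0
    rcases act_eq_zero S.ρ h0 with h | h
    · exact hs h
    · exact hv0 h
  have h1 : lam v e = lam z e :=
    sk_step S g lam hlam hv hzz hv0 hzl (by rw [hvz, map_zero, neg_zero]) e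
  have h2 : lam (act S.ρ s v) e = lam z e := by
    apply sk_step S g lam hlam (sk_iso_act S hv s) hzz hsv0
    · rw [line_eq_of_mem (act_mem_line s v) hsv0]
      exact hzl
    · rw [S.fE_act_left, hvz, mul_zero, map_zero, neg_zero]
  rw [h1, h2]

include hlam in
/-- `lam · e` is constant on the non-zero isotropic vectors -/
theorem sk_const (hst : S.st ≠ RingEquiv.refl E) (hn : 4 * finrank F E ≤ n)
    (hhyp : ∀ v : 𝕍, v ≠ 0 → finrank F (S.hyp v) + finrank F E = n)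
    (hsep : ∀ w w' : 𝕍, w ≠ 0 → w' ∉ line S.ρ w →
      ∃ a : 𝕍, S.fE a a = 0 ∧ S.fE w a = 0 ∧ S.fE w' a ≠ 0)
    {v w : 𝕍} (hv : S.fE v v = 0) (hv0 : v ≠ 0) (hw : S.fE w w = 0) (hw0 : w ≠ 0) (e : E) :
    lam v e = lam w e := by
  by_cases hwl : w ∈ line S.ρ v
  · obtain ⟨s, rfl⟩ := mem_line.mp hwl
    have hs : s ≠ 0 := by
      rintro rfl
      exact hw0 (act_zero S.ρ v)
    exact sk_same_line S g lam hlam hn hhyp hsep hv hv0 hs e
  · by_cases hγ : S.fE v w = 0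
    · exact sk_step S g lam hlam hv hw hv0 hwl (by rw [hγ, map_zero, neg_zero]) e
    · obtain ⟨δ, hδ0, hδ⟩ := Cfsg.Agent.Lib.Helper5.UForm.exists_skew S.st_st hst
      set γ := S.fE v w with hγdef
      set s := S.st (δ / γ) with hs
      have hs0 : s ≠ 0 := by
        intro h0
        have := congrArg S.st h0
        rw [hs, S.st_st, map_zero] at this
        exact div_ne_zero hδ0 hγ this
      have hsw0 : act S.ρ s w ≠ 0 := by
        intro h0
        rcases act_eq_zero S.ρ h0 with h | h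
        · exact hs0 h
        · exact hw0 h
      have hswl : act S.ρ s w ∉ line S.ρ v := by
        intro hmem
        apply hwl
        have := act_mem_line_of_mem hmem s⁻¹
        rwa [act_inv_act S.ρ hs0] at this
      have hform : S.fE v (act S.ρ s w) = δ := by
        rw [S.fE_act_right, ← hγdef, hs, S.st_st]
        field_simp
      have h1 : lam v e = lam (act S.ρ s w) e :=
        sk_step S g lam hlam hv (sk_iso_act S hw s) hv0 hswl (by rw [hform, hδ]) e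
      rw [h1]
      exact (sk_same_line S g lam hlam hn hhyp hsep hw hw0 hs0 e).symm

end lam

/-- SK, core -/
theorem mem_normalizer_of_iso_lines_core (S : KU n q F E) [FiniteDimensional F E]
    (hst : S.st ≠ RingEquiv.refl E) (hn : 4 * finrank F E ≤ n)
    (hhyp : ∀ v : 𝕍, v ≠ 0 → finrank F (S.hyp v) + finrank F E = n)
    (hnp : ∀ x : 𝕍, x ≠ 0 → ∃ a : 𝕍, S.fE a a = 0 ∧ S.fE x a ≠ 0)
    (hsep : ∀ w w' : 𝕍, w ≠ 0 → w' ∉ line S.ρ w →
      ∃ a : 𝕍, S.fE a a = 0 ∧ S.fE w a = 0 ∧ S.fE w' a ≠ 0)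
    (g : GL (Fin n) F)
    (h : ∀ v : 𝕍, S.fE v v = 0 → ∀ e : E,
      ∃ e' : E, (g : 𝕄) *ᵥ (act S.ρ e v) = act S.ρ e' ((g : 𝕄) *ᵥ v)) :
    g ∈ Cfsg.Geo.subalgebraNormalizer S.ρ.range := by
  have hr : 0 < finrank F E := Module.finrank_pos
  have hn0 : 0 < n := by omega
  have : Nonempty (Fin n) := ⟨⟨0, hn0⟩⟩
  have hρinj : Function.Injective S.ρ := S.ρ.toRingHom.injective
  -- the function `lam`
  have h' : ∀ (v : 𝕍) (e : E), ∃ e' : E, S.fE v v = 0 →
      (g : 𝕄) *ᵥ (act S.ρ e v) = act S.ρ e' ((g : 𝕄) *ᵥ v) := by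
    intro v e
    by_cases hv : S.fE v v = 0
    · obtain ⟨e', he'⟩ := h v hv e
      exact ⟨e', fun _ => he'⟩
    · exact ⟨0, fun hv' => absurd hv' hv⟩
  choose lam hlam0 using h'
  have hlam : ∀ v : 𝕍, S.fE v v = 0 → ∀ e : E,
      (g : 𝕄) *ᵥ (act S.ρ e v) = act S.ρ (lam v e) ((g : 𝕄) *ᵥ v) := fun v hv e => hlam0 v e hv
  -- a non-zero isotropic vector
  obtain ⟨v₀, hv₀, hv₀0⟩ : ∃ v₀ : 𝕍, S.fE v₀ v₀ = 0 ∧ v₀ ≠ 0 := by
    have hx : (Pi.single (⟨0, hn0⟩ : Fin n) (1 : F) : 𝕍) ≠ 0 := by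
      intro h0
      have := congrFun h0 ⟨0, hn0⟩
      simp at this
    obtain ⟨a, haa, hxa⟩ := hnp _ hx
    refine ⟨a, haa, ?_⟩
    rintro rfl
    exact hxa (S.fE_zero_right _)
  have key : ∀ e : E, ∃ l : E,
      (g : 𝕄) * S.ρ e * ((g⁻¹ : GL (Fin n) F) : 𝕄) = S.ρ l := by
    intro e
    refine ⟨lam v₀ e, ?_⟩
    apply mat_eq_of_mulVec
    intro x
    have hiso : ∀ a : 𝕍, S.fE a a = 0 →
        (g : 𝕄) *ᵥ (act S.ρ e a) = act S.ρ (lam v₀ e) ((g : 𝕄) *ᵥ a) := by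
      intro a ha
      by_cases ha0 : a = 0
      · rw [ha0, act_vzero, Matrix.mulVec_zero, act_vzero]
      · rw [hlam a ha e, sk_const S g lam hlam hst hn hhyp hsep ha ha0 hv₀ hv₀0 e]
    obtain ⟨a, b, ha, hb, hab⟩ := sk_sum_iso S hst hnp (((g⁻¹ : GL (Fin n) F) : 𝕄) *ᵥ x)
    rw [← Matrix.mulVec_mulVec, ← Matrix.mulVec_mulVec, ← act_def, hab, act_vadd,
      Matrix.mulVec_add, hiso a ha, hiso b hb, ← act_vadd, ← Matrix.mulVec_add, ← hab,
      mul_inv_mulVec, act_def]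
  choose φ hφ using key
  have hφadd : ∀ a b, φ (a + b) = φ a + φ b := by
    intro a b
    apply hρinj
    rw [← hφ, map_add, map_add, ← hφ, ← hφ, Matrix.mul_add, Matrix.add_mul]
  have hφsmul : ∀ (c : F) a, φ (c • a) = c • φ a := by
    intro c a
    apply hρinj
    rw [← hφ, map_smul, map_smul, ← hφ, Matrix.mul_smul, Matrix.smul_mul]
  let Φ : E →ₗ[F] E :=
    { toFun := φ
      map_add' := hφadd
      map_smul' := by
        intro c a
        simp only [RingHom.id_apply]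
        exact hφsmul c a }
  have hΦinj : Function.Injective Φ := by
    rw [← LinearMap.ker_eq_bot, LinearMap.ker_eq_bot']
    intro a ha
    have h1 : φ a = 0 := ha
    have h2 := hφ a
    rw [h1, map_zero] at h2
    apply hρinj
    rw [map_zero]
    have h3 : S.ρ a = ((g⁻¹ : GL (Fin n) F) : 𝕄) *
        ((g : 𝕄) * S.ρ a * ((g⁻¹ : GL (Fin n) F) : 𝕄)) * (g : 𝕄) := by
      rw [Matrix.mul_assoc, Matrix.mul_assoc, Matrix.mul_assoc, ← Units.val_mul, inv_mul_cancel,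
        Units.val_one, Matrix.mul_one, ← Matrix.mul_assoc, ← Units.val_mul, inv_mul_cancel,
        Units.val_one, Matrix.one_mul]
    rw [h3, h2, Matrix.mul_zero, Matrix.zero_mul]
  have hΦsurj : Function.Surjective Φ := LinearMap.injective_iff_surjective.mp hΦinj
  intro k
  constructor
  · rintro ⟨e, rfl⟩
    exact ⟨φ e, (hφ e).symm⟩
  · rintro ⟨l, hl⟩
    obtain ⟨a, ha⟩ := hΦsurj l
    refine ⟨a, ?_⟩
    have h1 : (g : 𝕄) * S.ρ a * ((g⁻¹ : GL (Fin n) F) : 𝕄) =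
        (g : 𝕄) * k * ((g⁻¹ : GL (Fin n) F) : 𝕄) := by
      have hl' : S.ρ l = (g : 𝕄) * k * ((g⁻¹ : GL (Fin n) F) : 𝕄) := hl
      have ha' : φ a = l := ha
      rw [hφ a, ha', hl']
    have h2 : ∀ X : 𝕄, X = ((g⁻¹ : GL (Fin n) F) : 𝕄) *
        ((g : 𝕄) * X * ((g⁻¹ : GL (Fin n) F) : 𝕄)) * (g : 𝕄) := by
      intro X
      rw [Matrix.mul_assoc, Matrix.mul_assoc, Matrix.mul_assoc, ← Units.val_mul, inv_mul_cancel,
        Units.val_one, Matrix.mul_one, ← Matrix.mul_assoc, ← Units.val_mul, inv_mul_cancel,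
        Units.val_one, Matrix.one_mul]
    change S.ρ a = k
    rw [h2 (S.ρ a), h1, ← h2 k]

end Cfsg.Agent.Lib.Helper11.C3uLeaf
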