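import Mathlib
import Cfsg.Prelude.Def_Classical
import Cfsg.Prelude.Def_ClassicalGeometry
import Cfsg.Prelude.Def_GeometricClasses
import Cfsg.Agent.Lib.Helper5.SUMax
import Cfsg.Agent.Lib.Helper22.C3LDefs
import Cfsg.Agent.Lib.Helper22.C3LTool
import Cfsg.Agent.Lib.Helper16.C3uDefs
import Cfsg.Agent.Lib.Helper12.C3uF
import Cfsg.Agent.Lib.Helper12.C3uW0
import Cfsg.Agent.Lib.Helper26.C3uW1
import Cfsg.Agent.Lib.Helper26.C3uW4
import Cfsg.Agent.Lib.Helper11.C3uSKCore

/-!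
Unitary C3 (cubic field) leaf market (helper16), leaf C3uSK `mem_normalizer_of_iso_lines`, exact signature:
the core (`C3uSKCore`) wired on F1 `st_ne_refl`, W0'' `finrank_hyp` (helper12) and W3 `exists_iso_not_perp`,
W4 `exists_iso_sep` (helper26).
-/

set_option autoImplicit false
set_option linter.unusedSectionVars false
set_option linter.unusedVariables false

namespace Cfsg.Agent.Lib.Helper11.C3uLeaf
open Cfsg Matrix Module Cfsg.Agent.Lib.Helper5.SpMax Cfsg.Agent.Lib.Helper5.SUMax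
  Cfsg.Agent.Lib.Helper22.C3L Cfsg.Agent.Lib.Helper16.C3u

universe u
variable {F : Type u} [Field F] [Fintype F] {n q : ℕ} {E : Type u} [Field E] [Algebra F E]

local notation "𝕍" => (Fin n → F)
local notation "𝕄" => Matrix (Fin n) (Fin n) F
local notation "ℍ" => (Cfsg.GU n F q ⊓ Cfsg.Geo.specialLinear (Fin n) F)

/-- SK: a matrix mapping every isotropic `E`-line into an `E`-line normalises `E` (`d ≥ 4`) -/
theorem mem_normalizer_of_iso_lines (S : KU n q F E) (hF : Fintype.card F = q ^ 2)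
    [FiniteDimensional F E] (hn : 4 * finrank F E ≤ n) (g : GL (Fin n) F)
    (h : ∀ v : 𝕍, S.fE v v = 0 → ∀ e : E,
      ∃ e' : E, (g : 𝕄) *ᵥ (act S.ρ e v) = act S.ρ e' ((g : 𝕄) *ᵥ v)) :
    g ∈ Cfsg.Geo.subalgebraNormalizer S.ρ.range :=
  mem_normalizer_of_iso_lines_core S (Cfsg.Agent.Lib.Helper12.C3uLeaf.st_ne_refl S hF) hn
    (fun v hv => Cfsg.Agent.Lib.Helper12.C3uLeaf.finrank_hyp S hF hv)
    (fun x hx => Cfsg.Agent.Lib.Helper26.C3uLeaf.exists_iso_not_perp S hF (by omega) hx)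
    (fun w w' hw hw' => Cfsg.Agent.Lib.Helper26.C3uLeaf.exists_iso_sep S hF hn hw hw')
    g h

end Cfsg.Agent.Lib.Helper11.C3uLeaf
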