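import Mathlib
import Cfsg.Agent.Lib.Helper11.T23UDefs
import Cfsg.Agent.Lib.Helper20.UTNNT

/-!
S5801 (8), market C4U (notes/S5801_C4_leaves.lean): the leaves **TR** `kron_pencil`, **STAB** `mem_StabA_of_maps`,
**XA** `mem_XA_iff`, **ISO** `exists_iso2` (exact signatures of the leaves file).
-/

set_option autoImplicit false
set_option linter.unusedSectionVars false
set_option linter.unusedVariables false

namespace Cfsg.Agent.Lib.Helper11.C4U
open Matrix Module
open Cfsg.Agent.Lib.Helper25.Tens Cfsg.Agent.Lib.Helper25.TensLeaf Cfsg.Agent.Lib.Helper25.TensLeaves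
open Cfsg.Agent.Lib.Helper20.UT Cfsg.Agent.Lib.Helper5.UTG Cfsg.Agent.Lib.Helper11.T23U
open scoped Kronecker

/-! ### TR -/

section pencil
variable {K : Type*} [Field K] {a b : ℕ}

/-- `β`, `1` are linearly independent if `β` is not scalar -/
lemma indep_of_not_scalar (hb : 0 < b) {β : Matrix (Fin b) (Fin b) K} (hβ : ¬ IsScalarMat β) {u v : K}
    (huv : u • β = v • (1 : Matrix (Fin b) (Fin b) K)) : u = 0 ∧ v = 0 := by
  have hu : u = 0 := by
    by_contra hu
    apply hβ
    refine ⟨u⁻¹ * v, ?_⟩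
    rw [mul_smul, ← huv, smul_smul, inv_mul_cancel₀ hu, one_smul]
  refine ⟨hu, ?_⟩
  rw [hu, zero_smul] at huv
  have := congrFun (congrFun huv ⟨0, hb⟩) ⟨0, hb⟩
  simpa using this.symm

/-- **TR**: a pencil `r (α ⊗ β) + (1 - r)`, `r ≠ 0, 1`, is a Kronecker product only if `α` or `β` is scalar -/
theorem kron_pencil (ha : 0 < a) (hb : 0 < b)
    (α α' : Matrix (Fin a) (Fin a) K) (β β' : Matrix (Fin b) (Fin b) K) (r : K) (hr0 : r ≠ 0) (hr1 : r ≠ 1)
    (h : r • (α ⊗ₖ β) + (1 - r) • (1 : Matrix (Idx a b) (Idx a b) K) = α' ⊗ₖ β') :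
    IsScalarMat α ∨ IsScalarMat β := by
  classical
  by_cases hβ : IsScalarMat β
  · exact Or.inr hβ
  left
  have h1r : (1 : K) - r ≠ 0 := fun h0 => hr1 (by linear_combination -h0)
  -- the block equations
  have hE : ∀ i j : Fin a, (r * α i j) • β + ((1 - r) * (if i = j then 1 else 0)) • (1 : Matrix (Fin b) (Fin b) K) =
      α' i j • β' := by
    intro i j
    ext k l
    have := congrFun (congrFun h (i, k)) (j, l)
    simp only [Matrix.add_apply, Matrix.smul_apply, Matrix.kroneckerMap_apply, Matrix.one_apply, smul_eq_mul,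
      Prod.mk.injEq] at this ⊢
    rw [← this]
    by_cases hij : i = j <;> by_cases hkl : k = l <;> simp [hij, hkl] <;> ring
  set i₀ : Fin a := ⟨0, ha⟩ with hi₀
  have h00 := hE i₀ i₀
  rw [if_pos rfl, mul_one] at h00
  have hα'0 : α' i₀ i₀ ≠ 0 := by
    intro h0
    rw [h0, zero_smul] at h00
    have h2 : (r * α i₀ i₀) • β = (-(1 - r)) • (1 : Matrix (Fin b) (Fin b) K) := by
      rw [neg_smul]; exact eq_neg_of_add_eq_zero_left h00
    have := (indep_of_not_scalar hb hβ h2).2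
    exact h1r (neg_eq_zero.mp this)
  have hβ' : β' = (α' i₀ i₀)⁻¹ • ((r * α i₀ i₀) • β + (1 - r) • (1 : Matrix (Fin b) (Fin b) K)) := by
    rw [h00, smul_smul, inv_mul_cancel₀ hα'0, one_smul]
  have key : ∀ i j : Fin a, α i j = (if i = j then 1 else 0) * α i₀ i₀ := by
    intro i j
    have hij := hE i j
    set t := α' i j * (α' i₀ i₀)⁻¹ with ht
    rw [hβ', smul_smul, ← ht, smul_add, smul_smul, smul_smul] at hij
    have h3 : (r * α i j - t * (r * α i₀ i₀)) • β =
        (t * (1 - r) - (1 - r) * (if i = j then 1 else 0)) • (1 : Matrix (Fin b) (Fin b) K) := by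
      rw [sub_smul, sub_smul]
      rw [sub_eq_sub_iff_add_eq_add]
      rw [hij]
      abel
    obtain ⟨hu, hv⟩ := indep_of_not_scalar hb hβ h3
    have ht' : t = if i = j then 1 else 0 := by
      have : (1 - r) * (t - (if i = j then 1 else 0)) = 0 := by linear_combination hv
      rcases mul_eq_zero.mp this with h4 | h4
      · exact absurd h4 h1r
      · exact sub_eq_zero.mp h4
    have : r * (α i j - t * α i₀ i₀) = 0 := by linear_combination hu
    rcases mul_eq_zero.mp this with h4 | h4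
    · exact absurd h4 hr0
    · rw [← ht']; exact sub_eq_zero.mp h4
  refine ⟨α i₀ i₀, ?_⟩
  ext i j
  rw [key i j, Matrix.smul_apply, Matrix.one_apply, smul_eq_mul]
  ring

end pencil

variable {F : Type*} [Field F] [Fintype F] {q : ℕ}

/-! ### STAB -/

/-- **STAB** -/
theorem mem_StabA_of_maps {x : Fin 2 → F} {g : GL (Idx 2 3) F}
    (h : ∀ y : Fin 3 → F, mv g (pt x y) ∈ FibA (b := 3) x) : g ∈ StabA (b := 3) x := by
  classical
  set W : Submodule F (Idx 2 3 → F) := FibA (b := 3) x with hW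
  set f : (Idx 2 3 → F) →ₗ[F] (Idx 2 3 → F) := Matrix.toLin' (g : Matrix (Idx 2 3) (Idx 2 3) F) with hf
  have hfv : ∀ v, f v = mv g v := fun v => by rw [hf, Matrix.toLin'_apply]; rfl
  have hinj : Function.Injective f := by
    intro u v huv
    rw [hfv, hfv] at huv
    exact mv_injective g huv
  have hle : W.map f ≤ W := by
    rintro _ ⟨v, hv, rfl⟩
    obtain ⟨y, rfl⟩ := mem_FibA.mp hv
    rw [hfv]
    exact h y
  have heq : W.map f = W := by
    apply Submodule.eq_of_le_of_finrank_eq hle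
    exact (Submodule.equivMapOfInjective f hinj W).finrank_eq.symm
  intro v
  constructor
  · intro hv
    obtain ⟨y, rfl⟩ := mem_FibA.mp hv
    exact h y
  · intro hv
    have hv' : mv g v ∈ W.map f := by rw [heq]; exact hv
    obtain ⟨w, hw, hwv⟩ := hv'
    rw [hfv] at hwv
    rw [← mv_injective g hwv]
    exact hw

/-! ### XA -/

lemma q_ne_zero (hF : Fintype.card F = q ^ 2) : q ≠ 0 := by
  rintro rfl
  have : 2 ≤ Fintype.card F := Fintype.one_lt_card
  rw [hF] at this
  omega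

lemma kA_zero {x : Fin 2 → F} (hx : hv q x x = 0) : (kA q x 0 hx : GL (Idx 2 3) F) = 1 := by
  apply ext_mv
  intro v
  rw [Cfsg.Agent.Lib.Helper20.UTLeaf.mv_kA, zero_smul, add_zero, mv_one]

lemma kA_mul {x : Fin 2 → F} (hx : hv q x x = 0) (c c' : F) :
    (kA q x c hx : GL (Idx 2 3) F) * kA q x c' hx = kA q x (c + c') hx := by
  apply ext_mv
  intro v
  rw [mv_mul, Cfsg.Agent.Lib.Helper20.UTLeaf.mv_kA, Cfsg.Agent.Lib.Helper20.UTLeaf.mv_kA,
    Cfsg.Agent.Lib.Helper20.UTLeaf.mv_kA, ctA_add, ctA_smul, ctA_cj_pt, hx, zero_smul, smul_zero, add_zero,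
    add_smul]
  abel

lemma kA_inv {x : Fin 2 → F} (hx : hv q x x = 0) (c : F) :
    (kA q x c hx : GL (Idx 2 3) F)⁻¹ = kA q x (-c) hx := by
  apply inv_eq_of_mul_eq_one_right
  rw [kA_mul, add_neg_cancel, kA_zero]

/-- **XA** -/
theorem mem_XA_iff (hF : Fintype.card F = q ^ 2) {x : Fin 2 → F} (hx : hv q x x = 0) (t : GL (Idx 2 3) F) :
    t ∈ XA (b := 3) q x hx ↔ ∃ c : F, c ^ q = -c ∧ t = kA q x c hx := by
  constructor
  · intro ht
    unfold XA at ht
    induction ht using Subgroup.closure_induction with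
    | mem y hy => exact hy
    | one => exact ⟨0, by rw [zero_pow (q_ne_zero hF), neg_zero], (kA_zero hx).symm⟩
    | mul y y' _ _ ih ih' =>
      obtain ⟨c, hc, rfl⟩ := ih
      obtain ⟨c', hc', rfl⟩ := ih'
      refine ⟨c + c', ?_, kA_mul hx c c'⟩
      rw [add_pow_q hF, hc, hc']; ring
    | inv y _ ih =>
      obtain ⟨c, hc, rfl⟩ := ih
      refine ⟨-c, ?_, kA_inv hx c⟩
      rw [neg_pow_q hF, hc]
  · rintro ⟨c, hc, rfl⟩
    exact Subgroup.subset_closure ⟨c, hc, rfl⟩

/-! ### ISO -/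

/-- **ISO** -/
theorem exists_iso2 (hF : Fintype.card F = q ^ 2) : ∃ x : Fin 2 → F, x ≠ 0 ∧ hv q x x = 0 := by
  have hf := hv_unitary (n := 1) hF
  have hm1 : (-1 : F) ^ q = -1 := by
    have := neg_pow_q hF (1 : F)
    rwa [one_pow] at this
  obtain ⟨d, hd⟩ := Cfsg.Agent.Lib.Helper5.UForm.norm_surj hf.involutive hf.ne_refl (-1 : F)
    (neg_ne_zero.mpr one_ne_zero)
    (by rw [Cfsg.Agent.Lib.Helper5.HermBridge.frobQ_apply]; exact hm1)
  rw [Cfsg.Agent.Lib.Helper5.HermBridge.frobQ_apply] at hd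
  refine ⟨![1, d], ?_, ?_⟩
  · intro h0
    have := congrFun h0 0
    simp at this
  · unfold hv
    rw [Fin.sum_univ_two]
    simp only [Matrix.cons_val_zero, Matrix.cons_val_one, one_pow, one_mul]
    rw [hd]; ring

end Cfsg.Agent.Lib.Helper11.C4U
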