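import Cfsg.Agent.Lib.Helper11.CTResC
import Cfsg.Agent.Lib.Helper18.CTEDefs
import Cfsg.Agent.Lib.Helper18.PSLnBasic
import Cfsg.Agent.Lib.Helper18.PSL2AutMaps
import Cfsg.Agent.Lib.Helper13.SimDiag
import Cfsg.Prelude.Def_ChevE6
import Cfsg.Prelude.Def_ChevE7
import Cfsg.Prelude.Def_ChevE8

/-! S3353, leaf RES (helper11): the frozen statement `exists_res` of `notes/S3353_leaves.lean`, from
`CTRes.exists_res_transvection` (`Lib/Helper11/CTResC.lean`). -/

set_option autoImplicit false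

namespace Cfsg.Agent.Lib.Helper11.CTERES

open Matrix Cfsg Cfsg.Lie Cfsg.Agent.Lib.Helper13 Cfsg.Agent.Lib.Helper18.CTE
  Cfsg.Agent.Lib.Helper18.PSLnAut Cfsg.Agent.Lib.Helper18.PSL2Aut

theorem exists_res (D : ChevalleyDatum) (hD : D ∈ [chevE6, chevE7, chevE8]) (F : Type*) [Field F]
    (i j : ℕ) (hi : i < D.rank) (hj : j < D.rank) (hadj : D.cartan i (D.simple j) = -1) :
    ∃ (res : ↥(R D F i ⊔ R D F j) →* SpecialLinearGroup (Fin 3) F) (e₁ e₃ : F),
      (e₁ = 1 ∨ e₁ = -1) ∧ (e₃ = 1 ∨ e₃ = -1) ∧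
      ∀ (g : GL D.Idx F) (hg : g ∈ R D F i ⊔ R D F j) (t : F),
        ((g : Matrix D.Idx D.Idx F) = D.x F (D.simple i) t → res ⟨g, hg⟩ = i12 (tSL (e₁ * t))) ∧
        ((g : Matrix D.Idx D.Idx F) = D.x F (D.neg (D.simple i)) t → res ⟨g, hg⟩ = i12 (lSL (e₁ * t))) ∧
        ((g : Matrix D.Idx D.Idx F) = D.x F (D.simple j) t → res ⟨g, hg⟩ = i23 (tSL (e₃ * t))) ∧
        ((g : Matrix D.Idx D.Idx F) = D.x F (D.neg (D.simple j)) t → res ⟨g, hg⟩ = i23 (lSL (e₃ * t))) := by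
  have key : ∃ ε₁ ε₃ : ℤ, (ε₁ = 1 ∨ ε₁ = -1) ∧ (ε₃ = 1 ∨ ε₃ = -1) ∧
      ∃ res : ↥(R D F i ⊔ R D F j) →* Matrix.SpecialLinearGroup (Fin 3) F,
        ∀ (g : ↥(R D F i ⊔ R D F j)) (t : F),
          ((g : GL D.Idx F) = Cfsg.Agent.Lib.Helper7.xGL D (Cfsg.Agent.Lib.Helper11.CTRes.mem7_of_mem3 hD) F
              (D.simple i) t →
            ((res g : Matrix.SpecialLinearGroup (Fin 3) F) : Matrix (Fin 3) (Fin 3) F) =
              Matrix.transvection 0 1 (((ε₁ : ℤ) : F) * t)) ∧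
          ((g : GL D.Idx F) = Cfsg.Agent.Lib.Helper7.xGL D (Cfsg.Agent.Lib.Helper11.CTRes.mem7_of_mem3 hD) F
              (D.neg (D.simple i)) t →
            ((res g : Matrix.SpecialLinearGroup (Fin 3) F) : Matrix (Fin 3) (Fin 3) F) =
              Matrix.transvection 1 0 (((ε₁ : ℤ) : F) * t)) ∧
          ((g : GL D.Idx F) = Cfsg.Agent.Lib.Helper7.xGL D (Cfsg.Agent.Lib.Helper11.CTRes.mem7_of_mem3 hD) F
              (D.simple j) t →
            ((res g : Matrix.SpecialLinearGroup (Fin 3) F) : Matrix (Fin 3) (Fin 3) F) =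
              Matrix.transvection 1 2 (((ε₃ : ℤ) : F) * t)) ∧
          ((g : GL D.Idx F) = Cfsg.Agent.Lib.Helper7.xGL D (Cfsg.Agent.Lib.Helper11.CTRes.mem7_of_mem3 hD) F
              (D.neg (D.simple j)) t →
            ((res g : Matrix.SpecialLinearGroup (Fin 3) F) : Matrix (Fin 3) (Fin 3) F) =
              Matrix.transvection 2 1 (((ε₃ : ℤ) : F) * t)) :=
    Cfsg.Agent.Lib.Helper11.CTRes.exists_res_transvection hD F i j hi hj hadj
  obtain ⟨ε₁, ε₃, h1, h3, res, hres⟩ := key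
  have hD7 := Cfsg.Agent.Lib.Helper11.CTRes.mem7_of_mem3 hD
  refine ⟨res, ((ε₁ : ℤ) : F), ((ε₃ : ℤ) : F), ?_, ?_, ?_⟩
  · rcases h1 with rfl | rfl
    · left; norm_num
    · right; norm_num
  · rcases h3 with rfl | rfl
    · left; norm_num
    · right; norm_num
  · intro g hg t
    have hx : ∀ r : ℕ, (g : Matrix D.Idx D.Idx F) = D.x F r t →
        g = Cfsg.Agent.Lib.Helper7.xGL D hD7 F r t := by
      intro r h
      apply Units.ext
      rw [h, Cfsg.Agent.Lib.Helper7.coe_xGL]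
    obtain ⟨r1, r2, r3, r4⟩ := hres ⟨g, hg⟩ t
    refine ⟨fun h => ?_, fun h => ?_, fun h => ?_, fun h => ?_⟩
    · apply Subtype.ext
      refine (r1 (hx _ h)).trans ?_
      rw [i12_tSL, Matrix.SpecialLinearGroup.transvection_coe]
      rfl
    · apply Subtype.ext
      refine (r2 (hx _ h)).trans ?_
      rw [i12_lSL, Matrix.SpecialLinearGroup.transvection_coe]
      rfl
    · apply Subtype.ext
      refine (r3 (hx _ h)).trans ?_
      rw [i23_tSL, Matrix.SpecialLinearGroup.transvection_coe]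
      rfl
    · apply Subtype.ext
      refine (r4 (hx _ h)).trans ?_
      rw [i23_lSL, Matrix.SpecialLinearGroup.transvection_coe]
      rfl

end Cfsg.Agent.Lib.Helper11.CTERES
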