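import Cfsg.Agent.Lib.Helper11.CTAsm
import Cfsg.Agent.Lib.Helper11.CTTabD4
import Cfsg.Agent.Lib.Helper11.CTTabF4
import Cfsg.Agent.Lib.Helper11.CTTabE6
import Cfsg.Agent.Lib.Helper11.CTTabE7
import Cfsg.Agent.Lib.Helper11.CTTabE8

/-! Curtis–Tits (helper11): the theorem for the five tabulated types of rank at least three. -/

set_option autoImplicit false

namespace Cfsg.Agent.Lib.Helper11.CT

open Cfsg Cfsg.Lie Matrix

/-- the Curtis–Tits theorem: for the types D₄, F₄, E₆, E₇, E₈ over a finite field the group presented by the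
Curtis–Tits relators is the group of Steinberg's presentation -/
theorem curtis_tits.{u} (D : ChevalleyDatum) (hD : D ∈ [chevD4, chevF4, chevE6, chevE7, chevE8])
    (K : Type u) [Field K] [Finite K] :
    ∃ e : D.CurtisTitsGroup K ≃* D.SteinbergGroup K,
      ∀ (i j r : ℕ) (t : K), D.InRankTwoSub i j r →
        e (PresentedGroup.mk (D.curtisTitsRels K) (D.stX r t)) = D.stGen K r t := by
  revert K
  apply mem_five_cases (P := fun D => ∀ (K : Type u) [Field K] [Finite K],
    ∃ e : D.CurtisTitsGroup K ≃* D.SteinbergGroup K,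
      ∀ (i j r : ℕ) (t : K), D.InRankTwoSub i j r →
        e (PresentedGroup.mk (D.curtisTitsRels K) (D.stX r t)) = D.stGen K r t) _ _ _ _ _ D hD
  · intro K _ _
    exact curtis_tits_of_tables (D := chevD4) List.mem_cons_self par_D4 dep_D4 mask0_D4 cert_D4 pT1_D4 pT2_D4
      (Leaves.onTabs_sound chevD4 (fun R => R.treeOK par_D4 dep_D4) treeOK_D4)
      (Leaves.onTabs_sound chevD4 (fun R => R.certOK par_D4 mask0_D4 cert_D4) certOK_D4)
      (Leaves.onTabs_sound chevD4 (fun R => R.pairsOK pT1_D4 pT2_D4) pairsOK_D4)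
  · intro K _ _
    exact curtis_tits_of_tables (D := chevF4) (List.mem_cons_of_mem _ List.mem_cons_self) par_F4 dep_F4 mask0_F4 cert_F4 pT1_F4 pT2_F4
      (Leaves.onTabs_sound chevF4 (fun R => R.treeOK par_F4 dep_F4) treeOK_F4)
      (Leaves.onTabs_sound chevF4 (fun R => R.certOK par_F4 mask0_F4 cert_F4) certOK_F4)
      (Leaves.onTabs_sound chevF4 (fun R => R.pairsOK pT1_F4 pT2_F4) pairsOK_F4)
  · intro K _ _
    exact curtis_tits_of_tables (D := chevE6) (List.mem_cons_of_mem _ (List.mem_cons_of_mem _ List.mem_cons_self)) par_E6 dep_E6 mask0_E6 cert_E6 pT1_E6 pT2_E6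
      (Leaves.onTabs_sound chevE6 (fun R => R.treeOK par_E6 dep_E6) treeOK_E6)
      (Leaves.onTabs_sound chevE6 (fun R => R.certOK par_E6 mask0_E6 cert_E6) certOK_E6)
      (Leaves.onTabs_sound chevE6 (fun R => R.pairsOK pT1_E6 pT2_E6) pairsOK_E6)
  · intro K _ _
    exact curtis_tits_of_tables (D := chevE7) (List.mem_cons_of_mem _ (List.mem_cons_of_mem _ (List.mem_cons_of_mem _ List.mem_cons_self))) par_E7 dep_E7 mask0_E7 cert_E7 pT1_E7 pT2_E7
      (Leaves.onTabs_sound chevE7 (fun R => R.treeOK par_E7 dep_E7) treeOK_E7)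
      (Leaves.onTabs_sound chevE7 (fun R => R.certOK par_E7 mask0_E7 cert_E7) certOK_E7)
      (Leaves.onTabs_sound chevE7 (fun R => R.pairsOK pT1_E7 pT2_E7) pairsOK_E7)
  · intro K _ _
    exact curtis_tits_of_tables (D := chevE8) (List.mem_cons_of_mem _ (List.mem_cons_of_mem _ (List.mem_cons_of_mem _ (List.mem_cons_of_mem _ List.mem_cons_self)))) par_E8 dep_E8 mask0_E8 cert_E8 pT1_E8 pT2_E8
      (Leaves.onTabs_sound chevE8 (fun R => R.treeOK par_E8 dep_E8) treeOK_E8)
      (Leaves.onTabs_sound chevE8 (fun R => R.certOK par_E8 mask0_E8 cert_E8) certOK_E8)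
      (Leaves.onTabs_sound chevE8 (fun R => R.pairsOK pT1_E8 pT2_E8) pairsOK_E8)

end Cfsg.Agent.Lib.Helper11.CT
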