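import Cfsg.Agent.Lib.Helper11.StPresU5

/-! Steinberg's presentation, part V1 (helper11): the general machine behind the central closedness of the
group presented by (R1), (R2): additive lifts of the root elements to a central extension satisfy (R2) as soon
as the central defects of the relations (R2), which are additive, can be killed. -/

set_option autoImplicit false
set_option linter.unusedSectionVars false

namespace Cfsg.Agent.Lib.Helper11.StPres

open scoped commutatorElement
open Cfsg Cfsg.Lie Matrix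
open Cfsg.Agent.Lib.Helper7

section
variable {D : ChevalleyDatum} {hD : D ∈ [chevG2, chevB2, chevD4, chevF4, chevE6, chevE7, chevE8]}
variable {K : Type*} [Field K] {Γ : Type*} [Group Γ] (S : StData D hD K Γ)

namespace StData

section Ext
variable {E : Type*} [Group E] (ψ : E →* Γ) (X : ℕ → K → E)

/-- the central additive defect of the relation (R2) for the ordered pair `(r, s)` is always trivial -/
def Kill (D : ChevalleyDatum) (r s : ℕ) : Prop :=
  ∀ u : K, ∀ F : K → E, (∀ t, F t ∈ ψ.ker) → (∀ t t', F (t + t') = F t * F t') →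
    (∀ t, X s u * X r t = X r t * X s u * wordG X (D.commWord K r s t u) * F t) → ∀ t, F t = 1

variable (hc : ψ.ker ≤ Subgroup.center E)
  (hψX : ∀ q, q < D.nroots → ∀ t, ψ (X q t) = S.x q t)
  (hXadd : ∀ q, q < D.nroots → ∀ t u, X q t * X q u = X q (t + u))

include hψX in
theorem ψ_wordX (w : List (ℕ × K)) (hw : ∀ p ∈ w, p.1 < D.nroots) :
    ψ (wordG X w) = wordG S.x w := by
  induction w with
  | nil => simp [wordG]
  | cons p w ih =>
    rw [wordG_cons, wordG_cons, map_mul, ih (fun q hq => hw q (List.mem_cons_of_mem _ hq)),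
      hψX p.1 (hw p List.mem_cons_self)]

/-- the partial data on the closed set of a pair of roots -/
noncomputable def pdataOf (hDec : DecFacts D) (r s : ℕ) (hr : r < D.nroots) (hs : s < D.nroots) (hsr : s ≠ r)
    (hsn : s ≠ D.neg r)
    (ih : ∀ g g', g < D.nroots → g' < D.nroots → g' ≠ g → g' ≠ D.neg g →
      (D.commTerms g g').length < (D.commTerms r s).length → ∀ t u : K,
      X g' u * X g t = X g t * X g' u * wordG X (D.commWord K g g' t u)) :
    PData D hD K E (fun q => q ∈ r :: (D.commTerms r s).map (·.1)) :=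
  have hLlt : ∀ q ∈ r :: (D.commTerms r s).map (·.1), q < D.nroots := by
    intro q hq
    rcases List.mem_cons.mp hq with rfl | hq
    · exact hr
    · rw [List.mem_map] at hq
      obtain ⟨c, hcm, rfl⟩ := hq
      exact ((chainAdd_zero D).commTerms D hD r s hr hs c hcm).1
  { y := X
    lt := hLlt
    y_add := fun q hq t u => hXadd q (hLlt q hq) t u
    y_comm := fun g g' hg hg' hne hnn t u => by
      obtain ⟨-, hlt, -⟩ := hDec.dec r s hr hs hsr hsn g hg g' hg' hne
      exact ih g g' (hLlt g hg) (hLlt g' hg') hne hnn hlt t u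
    closed := fun g g' hg hg' hne _ c hcm => (hDec.dec r s hr hs hsr hsn g hg g' hg' hne).2.2 c hcm
    θ := S.θ.comp ψ
    θ_y := fun q hq t => by
      rw [MonoidHom.comp_apply, hψX q (hLlt q hq), S.θ_x q (hLlt q hq)] }

include S in
/-- the positive functional of a pair of independent roots -/
theorem exists_pos_functional (hP : PairFacts D) (r s : ℕ) (hr : r < D.nroots) (hs : s < D.nroots) (hsr : s ≠ r)
    (hsn : s ≠ D.neg r) : ∃ f : ℕ → ℤ, ChainAdd D f ∧ 0 < f s ∧
      ∀ q, q ∈ r :: (D.commTerms r s).map (·.1) → 0 < f q := by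
  obtain ⟨h0, h3, -⟩ := hP.prod r s hr hs hsr hsn
  set f : ℕ → ℤ := fun q => (2 - carR D s r) * carR D r q + (2 - carR D r s) * carR D s q with hf
  have hfA : ChainAdd D f :=
    ((chainAdd_carR D (fun k hk => hxFacts_of_mem D hD k hk) r).smul (2 - carR D s r)).add
      ((chainAdd_carR D (fun k hk => hxFacts_of_mem D hD k hk) s).smul (2 - carR D r s))
  have hfr : 0 < f r := by
    show 0 < (2 - carR D s r) * carR D r r + (2 - carR D r s) * carR D s r
    rw [S.carR_self r hr]
    nlinarith
  have hfs : 0 < f s := by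
    show 0 < (2 - carR D s r) * carR D r s + (2 - carR D r s) * carR D s s
    rw [S.carR_self s hs]
    nlinarith
  refine ⟨f, hfA, hfs, ?_⟩
  intro q hq
  rcases List.mem_cons.mp hq with rfl | hq
  · exact hfr
  · rw [List.mem_map] at hq
    obtain ⟨c, hcm, rfl⟩ := hq
    obtain ⟨-, hi, hj, hlin⟩ := hfA.commTerms D hD r s hr hs c hcm
    rw [hlin]
    have h1 : (1 : ℤ) ≤ c.2.2.1 := by exact_mod_cast hi
    have h2 : (1 : ℤ) ≤ c.2.2.2 := by exact_mod_cast hj
    nlinarith

include hc hψX hXadd in
/-- the relation (R2) for the pair `(r, s)`, from the relations for the smaller pairs and the kill property -/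
theorem comm_core (hP : PairFacts D) (hDec : DecFacts D) (r s : ℕ) (hr : r < D.nroots) (hs : s < D.nroots)
    (hsr : s ≠ r) (hsn : s ≠ D.neg r)
    (ih : ∀ g g', g < D.nroots → g' < D.nroots → g' ≠ g → g' ≠ D.neg g →
      (D.commTerms g g').length < (D.commTerms r s).length → ∀ t u : K,
      X g' u * X g t = X g t * X g' u * wordG X (D.commWord K g g' t u))
    (hkill : Kill ψ X D r s) (t u : K) :
    X s u * X r t = X r t * X s u * wordG X (D.commWord K r s t u) := by
  set PD := S.pdataOf ψ X hψX hXadd hDec r s hr hs hsr hsn ih with hPD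
  obtain ⟨f, hfA, -, hpos⟩ := S.exists_pos_functional hP r s hr hs hsr hsn
  have hWlt : ∀ t : K, ∀ p ∈ D.commWord K r s t u, p.1 < D.nroots := by
    intro t p hp
    unfold ChevalleyDatum.commWord at hp
    rw [List.mem_map] at hp
    obtain ⟨c, hcm, rfl⟩ := hp
    exact ((chainAdd_zero D).commTerms D hD r s hr hs c hcm).1
  have hWmem : ∀ t : K, wordG X (D.commWord K r s t u) ∈ PD.YP := by
    intro t
    apply wordG_mem
    intro p hp
    unfold ChevalleyDatum.commWord at hp
    rw [List.mem_map] at hp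
    obtain ⟨c, hcm, rfl⟩ := hp
    exact PD.y_mem_YP c.1 (List.mem_cons_of_mem _ (List.mem_map.mpr ⟨c, hcm, rfl⟩)) _
  have hψW : ∀ t : K, ψ (wordG X (D.commWord K r s t u)) = wordG S.x (D.commWord K r s t u) :=
    fun t => S.ψ_wordX ψ X hψX _ (hWlt t)
  set F : K → E := fun t => (X r t * X s u * wordG X (D.commWord K r s t u))⁻¹ * (X s u * X r t) with hFdef
  have hFker : ∀ t, F t ∈ ψ.ker := by
    intro t
    rw [MonoidHom.mem_ker]
    show ψ ((X r t * X s u * wordG X (D.commWord K r s t u))⁻¹ * (X s u * X r t)) = 1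
    rw [map_mul, map_inv, map_mul, map_mul, map_mul, hψW, hψX r hr, hψX s hs, S.x_comm r s hr hs hsr hsn t u,
      inv_mul_cancel]
  have hFcen : ∀ t, F t ∈ Subgroup.center E := fun t => hc (hFker t)
  have hrel : ∀ t, X s u * X r t = X r t * X s u * wordG X (D.commWord K r s t u) * F t := by
    intro t
    show _ = _ * ((X r t * X s u * wordG X (D.commWord K r s t u))⁻¹ * (X s u * X r t))
    group
  have hadd : ∀ t t', F (t + t') = F t * F t' := by
    intro t t'
    apply central_add_of_rel (hFcen t) (hFcen t') (hrel t) (hrel t')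
    · rw [hXadd r hr]
      exact hrel (t + t')
    · apply PD.inj_YP hfA hpos
      · refine Subgroup.mul_mem _ (Subgroup.mul_mem _ (hWmem t') ?_) (Subgroup.inv_mem _ (hWmem (t + t')))
        exact Subgroup.mul_mem _ (Subgroup.mul_mem _ (Subgroup.inv_mem _ (PD.y_mem_YP r List.mem_cons_self t'))
          (hWmem t)) (PD.y_mem_YP r List.mem_cons_self t')
      · show S.θ (ψ _) = 1
        have hψZ : ψ (wordG X (D.commWord K r s t' u) * ((X r t')⁻¹ * wordG X (D.commWord K r s t u) * X r t') *
            (wordG X (D.commWord K r s (t + t') u))⁻¹) = 1 := by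
          simp only [map_mul, map_inv, hψW, hψX r hr]
          exact word_add_of_rel (S.x_comm r s hr hs hsr hsn t u) (S.x_comm r s hr hs hsr hsn t' u)
            (by rw [S.x_add r hr]; exact S.x_comm r s hr hs hsr hsn (t + t') u)
        rw [hψZ, map_one]
  have key := hkill u F hFker hadd hrel t
  have := hrel t
  rw [key, mul_one] at this
  exact this

include hψX hXadd in
/-- the relation (R2) for the pair `(r, s)` from the relation for the pair `(s, r)` -/
theorem comm_swap (hP : PairFacts D) (hDec : DecFacts D) (r s : ℕ) (hr : r < D.nroots) (hs : s < D.nroots)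
    (hsr : s ≠ r) (hsn : s ≠ D.neg r)
    (hsym : ∀ c ∈ D.commTerms s r, c.1 ∈ (D.commTerms r s).map (·.1))
    (ih : ∀ g g', g < D.nroots → g' < D.nroots → g' ≠ g → g' ≠ D.neg g →
      (D.commTerms g g').length < (D.commTerms r s).length → ∀ t u : K,
      X g' u * X g t = X g t * X g' u * wordG X (D.commWord K g g' t u))
    (hrs : r ≠ D.neg s)
    (hrel : ∀ t u : K, X r t * X s u = X s u * X r t * wordG X (D.commWord K s r u t)) (t u : K) :
    X s u * X r t = X r t * X s u * wordG X (D.commWord K r s t u) := by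
  set PD := S.pdataOf ψ X hψX hXadd hDec r s hr hs hsr hsn ih with hPD
  obtain ⟨f, hfA, -, hpos⟩ := S.exists_pos_functional hP r s hr hs hsr hsn
  have hWlt : ∀ p ∈ D.commWord K r s t u, p.1 < D.nroots := by
    intro p hp
    unfold ChevalleyDatum.commWord at hp
    rw [List.mem_map] at hp
    obtain ⟨c, hcm, rfl⟩ := hp
    exact ((chainAdd_zero D).commTerms D hD r s hr hs c hcm).1
  have hWlt' : ∀ p ∈ D.commWord K s r u t, p.1 < D.nroots := by
    intro p hp
    unfold ChevalleyDatum.commWord at hp
    rw [List.mem_map] at hp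
    obtain ⟨c, hcm, rfl⟩ := hp
    exact ((chainAdd_zero D).commTerms D hD s r hs hr c hcm).1
  have hWmem : wordG X (D.commWord K r s t u) ∈ PD.YP := by
    apply wordG_mem
    intro p hp
    unfold ChevalleyDatum.commWord at hp
    rw [List.mem_map] at hp
    obtain ⟨c, hcm, rfl⟩ := hp
    exact PD.y_mem_YP c.1 (List.mem_cons_of_mem _ (List.mem_map.mpr ⟨c, hcm, rfl⟩)) _
  have hWmem' : wordG X (D.commWord K s r u t) ∈ PD.YP := by
    apply wordG_mem
    intro p hp
    unfold ChevalleyDatum.commWord at hp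
    rw [List.mem_map] at hp
    obtain ⟨c, hcm, rfl⟩ := hp
    exact PD.y_mem_YP c.1 (List.mem_cons_of_mem _ (hsym c hcm)) _
  have hone : wordG X (D.commWord K r s t u) * wordG X (D.commWord K s r u t) = 1 := by
    apply PD.inj_YP hfA hpos _ (Subgroup.mul_mem _ hWmem hWmem')
    show S.θ (ψ _) = 1
    rw [map_mul, S.ψ_wordX ψ X hψX _ hWlt, S.ψ_wordX ψ X hψX _ hWlt']
    have h1 := S.x_comm r s hr hs hsr hsn t u
    have h2 := S.x_comm s r hs hr hsr.symm hrs u t
    have : wordG S.x (D.commWord K r s t u) * wordG S.x (D.commWord K s r u t) = 1 := by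
      have key : S.x r t * S.x s u * (wordG S.x (D.commWord K r s t u) * wordG S.x (D.commWord K s r u t)) =
          S.x r t * S.x s u * 1 := by
        rw [← mul_assoc, ← h1, ← h2, mul_one]
      exact mul_left_cancel key
    rw [this, map_one]
  have h3 := hrel t u
  have : wordG X (D.commWord K s r u t) = (wordG X (D.commWord K r s t u))⁻¹ :=
    (eq_inv_of_mul_eq_one_right hone)
  rw [this] at h3
  rw [h3]
  group

include hc hψX hXadd in
/-- the relations (R2) for additive lifts, when for every pair the central defect can be killed, directly or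
after exchanging the two roots -/
theorem comm_main (hP : PairFacts D) (hDec : DecFacts D)
    (hkill : ∀ r s, r < D.nroots → s < D.nroots → s ≠ r → s ≠ D.neg r → Kill ψ X D r s ∨
      ((D.commTerms s r).length = (D.commTerms r s).length ∧
        (∀ c ∈ D.commTerms s r, c.1 ∈ (D.commTerms r s).map (·.1)) ∧ Kill ψ X D s r)) :
    ∀ n : ℕ, ∀ r s : ℕ, r < D.nroots → s < D.nroots → s ≠ r → s ≠ D.neg r → (D.commTerms r s).length = n →
      ∀ t u : K, X s u * X r t = X r t * X s u * wordG X (D.commWord K r s t u) := by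
  intro n
  induction n using Nat.strong_induction_on with
  | _ n ih =>
  intro r s hr hs hsr hsn hlen t u
  have ih' : ∀ g g', g < D.nroots → g' < D.nroots → g' ≠ g → g' ≠ D.neg g →
      (D.commTerms g g').length < (D.commTerms r s).length → ∀ t u : K,
      X g' u * X g t = X g t * X g' u * wordG X (D.commWord K g g' t u) :=
    fun g g' hg hg' hne hnn hlt t u => ih _ (hlen ▸ hlt) g g' hg hg' hne hnn rfl t u
  rcases hkill r s hr hs hsr hsn with hk | ⟨hl, hsym, hk⟩
  · exact S.comm_core ψ X hc hψX hXadd hP hDec r s hr hs hsr hsn ih' hk t u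
  · have hrs : r ≠ D.neg s := by
      intro h
      apply hsn
      have e : D.neg (D.neg s) = s := (negInvOK_of_mem D hD s hs).1
      rw [h, e]
    have ih'' : ∀ g g', g < D.nroots → g' < D.nroots → g' ≠ g → g' ≠ D.neg g →
        (D.commTerms g g').length < (D.commTerms s r).length → ∀ t u : K,
        X g' u * X g t = X g t * X g' u * wordG X (D.commWord K g g' t u) :=
      fun g g' hg hg' hne hnn hlt t u => ih' g g' hg hg' hne hnn (hl ▸ hlt) t u
    have hrel : ∀ t u : K, X r t * X s u = X s u * X r t * wordG X (D.commWord K s r u t) :=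
      fun t u => S.comm_core ψ X hc hψX hXadd hP hDec s r hs hr hsr.symm hrs ih'' hk u t
    exact S.comm_swap ψ X hψX hXadd hP hDec r s hr hs hsr hsn hsym ih' hrs hrel t u

end Ext

end StData

end

section Cover
variable {D : ChevalleyDatum} (hD : D ∈ [chevG2, chevB2, chevD4, chevF4, chevE6, chevE7, chevE8])
variable {K : Type*} [Field K]

include hD in
/-- lifts of the root elements satisfying (R1), (R2) give a section -/
theorem section_of_lifts {E : Type*} [Group E] (ψ : E →* D.SteinbergCover K) (X : ℕ → K → E)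
    (hψX : ∀ q, q < D.nroots → ∀ t, ψ (X q t) = (coverData hD (K := K)).x q t)
    (hadd : ∀ r, r < D.nroots → ∀ t u : K, X r t * X r u = X r (t + u))
    (hcomm : ∀ r s, r < D.nroots → s < D.nroots → s ≠ r → s ≠ D.neg r → ∀ t u : K,
      X s u * X r t = X r t * X s u * wordG X (D.commWord K r s t u)) :
    ∃ τ : D.SteinbergCover K →* E, ψ.comp τ = MonoidHom.id _ := by
  refine ⟨PresentedGroup.toGroup (f := fun p : Fin D.nroots × K => X p.1.val p.2)
    (lift_relsAB hD X hadd hcomm), ?_⟩
  apply PresentedGroup.ext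
  intro p
  rw [MonoidHom.comp_apply, PresentedGroup.toGroup.of, MonoidHom.id_apply]
  show ψ (X p.1.val p.2) = _
  rw [hψX p.1.val p.1.isLt p.2]
  show PresentedGroup.mk _ (D.stX p.1.val p.2) = _
  unfold ChevalleyDatum.stX
  rw [dif_pos p.1.isLt]
  rfl

/-- the universal lifting property for a class of central extensions closed under pullbacks, from the existence
of sections -/
theorem unique_lift_of_sections (hperf : commutator (D.SteinbergCover K) = ⊤)
    {G₁ E : Type*} [Group G₁] [Group E] (π₁ : E →* G₁) (hπ : Function.Surjective π₁)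
    (hc : π₁.ker ≤ Subgroup.center E) (σ : D.SteinbergCover K →* G₁)
    (hsec : ∀ (P : Subgroup (E × D.SteinbergCover K)) (ψ : P →* D.SteinbergCover K),
      (∀ p : P, ψ p = p.1.2) → Function.Surjective ψ → ψ.ker ≤ Subgroup.center P →
      (∀ p : P, p ∈ ψ.ker → p.1.1 ∈ π₁.ker) →
      ∃ τ : D.SteinbergCover K →* P, ψ.comp τ = MonoidHom.id _) :
    ∃! τ : D.SteinbergCover K →* E, π₁.comp τ = σ := by
  let P : Subgroup (E × D.SteinbergCover K) :=
    MonoidHom.eqLocus (π₁.comp (MonoidHom.fst E (D.SteinbergCover K)))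
      (σ.comp (MonoidHom.snd E (D.SteinbergCover K)))
  let ψ : P →* D.SteinbergCover K := (MonoidHom.snd E (D.SteinbergCover K)).comp P.subtype
  have hmem : ∀ p : P, π₁ p.1.1 = σ p.1.2 := fun p => p.2
  have hψsurj : Function.Surjective ψ := by
    intro d
    obtain ⟨e, he⟩ := hπ (σ d)
    exact ⟨⟨(e, d), he⟩, rfl⟩
  have hker1 : ∀ p : P, p ∈ ψ.ker → p.1.1 ∈ π₁.ker := by
    intro p hp
    rw [MonoidHom.mem_ker] at hp
    have hp2 : p.1.2 = 1 := hp
    rw [MonoidHom.mem_ker, hmem p, hp2, map_one]
  have hψc : ψ.ker ≤ Subgroup.center P := by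
    intro p hp
    have hp1 : p.1.1 ∈ Subgroup.center E := hc (hker1 p hp)
    rw [MonoidHom.mem_ker] at hp
    have hp2 : p.1.2 = 1 := hp
    rw [Subgroup.mem_center_iff] at hp1 ⊢
    intro g
    apply Subtype.ext
    apply Prod.ext
    · exact hp1 g.1.1
    · show g.1.2 * p.1.2 = p.1.2 * g.1.2
      rw [hp2, mul_one, one_mul]
  obtain ⟨τ', hτ'⟩ := hsec P ψ (fun _ => rfl) hψsurj hψc hker1
  have hτ'' : ∀ d, ((τ' d).1).2 = d := fun d => DFunLike.congr_fun hτ' d
  refine ⟨(MonoidHom.fst E (D.SteinbergCover K)).comp (P.subtype.comp τ'), ?_, ?_⟩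
  · apply MonoidHom.ext
    intro d
    show π₁ ((τ' d).1).1 = σ d
    rw [hmem (τ' d), hτ'' d]
  · intro τ₂ hτ₂
    set τ₁ := (MonoidHom.fst E (D.SteinbergCover K)).comp (P.subtype.comp τ') with hτ₁
    have h1 : ∀ d, π₁ (τ₁ d) = σ d := by
      intro d
      show π₁ ((τ' d).1).1 = σ d
      rw [hmem (τ' d), hτ'' d]
    have h2 : ∀ d, π₁ (τ₂ d) = σ d := fun d => DFunLike.congr_fun hτ₂ d
    have hdense : Subgroup.closure (commutatorSet (D.SteinbergCover K)) = ⊤ := by
      rw [← commutator_eq_closure]; exact hperf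
    apply MonoidHom.eq_of_eqOn_dense hdense
    rintro g ⟨a, b, rfl⟩
    show τ₂ ⁅a, b⁆ = τ₁ ⁅a, b⁆
    rw [map_commutatorElement, map_commutatorElement]
    apply comm_eq_of_map_eq π₁ hc
    · rw [h1, h2]
    · rw [h1, h2]

end Cover

end Cfsg.Agent.Lib.Helper11.StPres
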