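import Cfsg.Agent.Lib.Helper11.CTDefs2
import Cfsg.Agent.Lib.Helper11.StPresV1
import Cfsg.Agent.Lib.Helper4.CTR2A
import Cfsg.Agent.Lib.Helper18.CTTREE
import Cfsg.Agent.Lib.Helper18.CTCHKC

/-! Curtis–Tits (S1164 / S3712), leaf PAIR (helper11): the relations (R2) for all pairs of roots, against the
root combinatorics `commTerms_reflect` (sub-leaf PAIR-T) as an explicit hypothesis (`y_comm_of`). A word `L` in the
fundamental reflections moves the pair `(r, s)` into a fundamental rank-two subsystem `Φ_ij` (`pairsOK_sound`); the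
element `nW L` conjugates `y_r`, `y_s` and the `y_q` of the terms of the commutator formula to root elements of
`Φ_ij` (good edges); there the relation holds by definition of the Curtis–Tits group, and the two products of the
terms agree because `θ` is injective on the root elements of `Φ_ij` on the positive side of a functional. -/

set_option autoImplicit false

namespace Cfsg.Agent.Lib.Helper11.CT.Pair

open Cfsg Cfsg.Lie Matrix
open Cfsg.Agent.Lib.Helper7
open Cfsg.Agent.Lib.Helper11.StPres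
open Cfsg.Agent.Lib.Helper11.CT

/-- the statement of the sub-leaf PAIR-T -/
def TermsReflect (D : ChevalleyDatum) : Prop :=
  ∀ (k : ℕ), k < D.rank → ∀ (r s : ℕ), r < D.nroots → s < D.nroots → s ≠ r → s ≠ D.neg r →
    ∀ c ∈ D.commTerms r s, ∃ c' ∈ D.commTerms (D.reflectRoot k r) (D.reflectRoot k s),
      c'.1 = D.reflectRoot k c.1

theorem conj_wordG {K : Type*} {Γ : Type*} [Group Γ] (g : Γ) (x : ℕ → K → Γ) (w : List (ℕ × K)) :
    g * wordG x w * g⁻¹ = wordG (fun q v => g * x q v * g⁻¹) w := by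
  induction w with
  | nil => simp [wordG]
  | cons p w ih =>
    rw [wordG_cons, wordG_cons, ← ih]
    group

section
variable {D : ChevalleyDatum} (hD : D ∈ [chevD4, chevF4, chevE6, chevE7, chevE8])

include hD in
/-- words in the fundamental reflections map the roots of the terms of the commutator formula of `(r, s)` to
roots of terms of the commutator formula of the image pair -/
theorem commTerms_reflWord (hT : TermsReflect D) (L : List ℕ) (hL : ∀ l ∈ L, l < D.rank) (r s : ℕ)
    (hr : r < D.nroots) (hs : s < D.nroots) (hsr : s ≠ r) (hsn : s ≠ D.neg r) :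
    reflWord D L s ≠ reflWord D L r ∧ reflWord D L s ≠ D.neg (reflWord D L r) ∧
    ∀ c ∈ D.commTerms r s, ∃ c' ∈ D.commTerms (reflWord D L r) (reflWord D L s),
      c'.1 = reflWord D L c.1 := by
  induction L with
  | nil => exact ⟨hsr, hsn, fun c hc => ⟨c, hc, rfl⟩⟩
  | cons k L ih =>
    have hk : k < D.rank := hL k List.mem_cons_self
    have hL' : ∀ l ∈ L, l < D.rank := fun l hl => hL l (List.mem_cons_of_mem _ hl)
    obtain ⟨h1, h2, h3⟩ := ih hL'
    have hC := conjFacts_of_mem D (mem7 hD) k hk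
    have hr1 := reflWord_lt (mem7 hD) L hL' r hr
    have hs1 := reflWord_lt (mem7 hD) L hL' s hs
    refine ⟨?_, ?_, ?_⟩
    · intro h
      apply h1
      have h' : D.reflectRoot k (reflWord D L s) = D.reflectRoot k (reflWord D L r) := h
      have := congrArg (D.reflectRoot k) h'
      rwa [hC.winv _ hs1, hC.winv _ hr1] at this
    · intro h
      apply h2
      have h' : D.reflectRoot k (reflWord D L s) = D.neg (D.reflectRoot k (reflWord D L r)) := h
      rw [← (hC.wneg _ hr1).2.1] at h'
      have := congrArg (D.reflectRoot k) h'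
      rwa [hC.winv _ hs1, hC.winv _ (hC.wneg _ hr1).1] at this
    · intro c hc
      obtain ⟨c1, hc1, e1⟩ := h3 c hc
      obtain ⟨c2, hc2, e2⟩ := hT k hk _ _ hr1 hs1 h1 h2 c1 hc1
      refine ⟨c2, hc2, ?_⟩
      rw [e2, e1]
      rfl

variable {K : Type*} [Field K]
variable (par dep : List ℕ) (htree : (rsD D).treeOK par dep = true)

include hD in
/-- the word action on the root elements, from the good edges -/
theorem nW_conj_y (hgood : ∀ r < D.nroots, ∀ k < D.rank, GoodE D K par dep k r)
    (L : List ℕ) (hL : ∀ l ∈ L, l < D.rank) (q : ℕ) (hq : q < D.nroots) :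
    ∃ c : K, c ≠ 0 ∧ ∀ t : K, nW D K L * y D K par dep q t * (nW D K L)⁻¹ =
      y D K par dep (reflWord D L q) (c * t) := by
  induction L with
  | nil =>
    refine ⟨1, one_ne_zero, fun t => ?_⟩
    rw [nW_nil, one_mul, inv_one, mul_one, one_mul]
    rfl
  | cons k L ih =>
    have hk : k < D.rank := hL k List.mem_cons_self
    have hL' : ∀ l ∈ L, l < D.rank := fun l hl => hL l (List.mem_cons_of_mem _ hl)
    obtain ⟨c1, hc1, h1⟩ := ih hL'
    obtain ⟨c2, hc2, h2⟩ := hgood _ (reflWord_lt (mem7 hD) L hL' q hq) k hk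
    refine ⟨c2 * c1, mul_ne_zero hc2 hc1, fun t => ?_⟩
    show _ = y D K par dep (D.reflectRoot k (reflWord D L q)) (c2 * c1 * t)
    rw [mul_assoc c2 c1 t, ← h2, ← h1, nW_cons]
    group

include htree in
theorem θ_wordG_y (w : List (ℕ × K)) (hw : ∀ p ∈ w, p.1 < D.nroots) :
    θ D hD K (wordG (y D K par dep) w) = wordGL D (mem7 hD) K w := by
  induction w with
  | nil => simp [wordG, wordGL]
  | cons p w ih =>
    rw [wordG_cons, map_mul, ih (fun q hq => hw q (List.mem_cons_of_mem _ hq)),
      Cfsg.Agent.Lib.Helper18.CTTREE.θ_y hD par dep htree p.1 (hw p List.mem_cons_self)]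
    unfold wordGL
    rw [List.map_cons, List.prod_cons]

include hD htree in
/-- leaf PAIR against the sub-leaf PAIR-T as an explicit hypothesis -/
theorem y_comm_of (hT : TermsReflect D)
    (hgood : ∀ r < D.nroots, ∀ k < D.rank, GoodE D K par dep k r)
    (T1 : List (List ℕ)) (T2 : List (ℕ × List (List ℕ))) (hpairs : (rsD D).pairsOK T1 T2 = true)
    (r s : ℕ) (hr : r < D.nroots) (hs : s < D.nroots) (hsr : s ≠ r) (hsn : s ≠ D.neg r) (t u : K) :
    y D K par dep s u * y D K par dep r t =
      y D K par dep r t * y D K par dep s u * wordG (y D K par dep) (D.commWord K r s t u) := by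
  have hD7 := mem7 hD
  obtain ⟨L, hL, i, j, hri, hsi⟩ :=
    Cfsg.Agent.Lib.Helper18.CTCHKC.pairsOK_sound D hD T1 T2 hpairs r s hr hs hsr hsn
  obtain ⟨hsr', hsn', hterms⟩ := commTerms_reflWord hD hT L hL r s hr hs hsr hsn
  obtain ⟨cr, hcr, hgr⟩ := nW_conj_y hD par dep hgood L hL r hr
  obtain ⟨cs, hcs, hgs⟩ := nW_conj_y hD par dep hgood L hL s hs
  have hP := (univFacts_of_mem D hD7).1
  obtain ⟨f, hf, hfs, hfpos⟩ :=
    (stData hD7 (K := K)).exists_pos_functional hP _ _ hri.1 hsi.1 hsr' hsn'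
  have hfr : 0 < f (reflWord D L r) := hfpos _ List.mem_cons_self
  have hR2 := r2Closed_of_mem D hD
  -- the root elements of the image pair are generators
  replace hgr : ∀ t : K, nW D K L * y D K par dep r t * (nW D K L)⁻¹ = X D K (reflWord D L r) (cr * t) :=
    fun t => by rw [hgr t, Cfsg.Agent.Lib.Helper18.CTTREE.y_of_phi2 par dep _ ⟨i, j, hri⟩]
  replace hgs : ∀ t : K, nW D K L * y D K par dep s t * (nW D K L)⁻¹ = X D K (reflWord D L s) (cs * t) :=
    fun t => by rw [hgs t, Cfsg.Agent.Lib.Helper18.CTTREE.y_of_phi2 par dep _ ⟨i, j, hsi⟩]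
  have hlt : ∀ c ∈ D.commTerms r s, c.1 < D.nroots := fun c hc =>
    ((chainAdd_zero D).commTerms D hD7 r s hr hs c hc).1
  have hWlt : ∀ p ∈ D.commWord K r s t u, p.1 < D.nroots := by
    intro p hp
    unfold ChevalleyDatum.commWord at hp
    rw [List.mem_map] at hp
    obtain ⟨c, hc, rfl⟩ := hp
    exact hlt c hc
  have hWphi : ∀ p ∈ D.commWord K (reflWord D L r) (reflWord D L s) (cr * t) (cs * u), Phi2 D p.1 := by
    intro p hp
    unfold ChevalleyDatum.commWord at hp
    rw [List.mem_map] at hp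
    obtain ⟨c, hc, rfl⟩ := hp
    exact ⟨i, j, hR2.comm i j _ _ hri hsi c hc⟩
  -- the two products of the terms lie in the group `YP`
  have hA : wordG (X D K) (D.commWord K (reflWord D L r) (reflWord D L s) (cr * t) (cs * u)) ∈
      (Cfsg.Agent.Lib.Helper4.CTR2A.pdata hD (K := K) i j f hf).YP := by
    apply wordG_mem
    intro p hp
    unfold ChevalleyDatum.commWord at hp
    rw [List.mem_map] at hp
    obtain ⟨c, hc, rfl⟩ := hp
    exact Cfsg.Agent.Lib.Helper4.CTR2A.X_mem_YP hD i j f hf (hR2.comm i j _ _ hri hsi c hc)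
      (hfpos _ (List.mem_cons_of_mem _ (List.mem_map.mpr ⟨c, hc, rfl⟩))) _
  have hB : nW D K L * wordG (y D K par dep) (D.commWord K r s t u) * (nW D K L)⁻¹ ∈
      (Cfsg.Agent.Lib.Helper4.CTR2A.pdata hD (K := K) i j f hf).YP := by
    rw [conj_wordG]
    apply wordG_mem
    intro p hp
    unfold ChevalleyDatum.commWord at hp
    rw [List.mem_map] at hp
    obtain ⟨c, hc, rfl⟩ := hp
    obtain ⟨c', hc', hcc⟩ := hterms c hc
    obtain ⟨κ, -, hκ⟩ := nW_conj_y hD par dep hgood L hL c.1 (hlt c hc)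
    have hin := hR2.comm i j _ _ hri hsi c' hc'
    show nW D K L * y D K par dep c.1 _ * (nW D K L)⁻¹ ∈ _
    rw [hκ, ← hcc, Cfsg.Agent.Lib.Helper18.CTTREE.y_of_phi2 par dep _ ⟨i, j, hin⟩]
    exact Cfsg.Agent.Lib.Helper4.CTR2A.X_mem_YP hD i j f hf hin
      (hfpos _ (List.mem_cons_of_mem _ (List.mem_map.mpr ⟨c', hc', rfl⟩))) _
  -- they have the same image in the Chevalley group
  have hθr : θ D hD K (nW D K L) * xGL D hD7 K r t * (θ D hD K (nW D K L))⁻¹ =
      xGL D hD7 K (reflWord D L r) (cr * t) := by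
    have := congrArg (θ D hD K) (hgr t)
    rwa [map_mul, map_mul, map_inv, Cfsg.Agent.Lib.Helper18.CTTREE.θ_y hD par dep htree r hr,
      θ_X D hD K _ ⟨i, j, hri⟩] at this
  have hθs : θ D hD K (nW D K L) * xGL D hD7 K s u * (θ D hD K (nW D K L))⁻¹ =
      xGL D hD7 K (reflWord D L s) (cs * u) := by
    have := congrArg (θ D hD K) (hgs u)
    rwa [map_mul, map_mul, map_inv, Cfsg.Agent.Lib.Helper18.CTTREE.θ_y hD par dep htree s hs,
      θ_X D hD K _ ⟨i, j, hsi⟩] at this
  have hAB : wordG (X D K) (D.commWord K (reflWord D L r) (reflWord D L s) (cr * t) (cs * u)) =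
      nW D K L * wordG (y D K par dep) (D.commWord K r s t u) * (nW D K L)⁻¹ := by
    apply Cfsg.Agent.Lib.Helper4.CTR2A.inj_YP hD i j f hf _ _ hA hB
    rw [Cfsg.Agent.Lib.Helper4.CTR2A.θ_wordG hD _ hWphi, map_mul, map_mul, map_inv,
      θ_wordG_y hD par dep htree _ hWlt]
    have h1 := comm_formula_GL D hD7 K r s hr hs hsr hsn t u
    have h2 := comm_formula_GL D hD7 K _ _ hri.1 hsi.1 hsr' hsn' (cr * t) (cs * u)
    have hW : wordGL D hD7 K (D.commWord K r s t u) =
        (xGL D hD7 K r t * xGL D hD7 K s u)⁻¹ * (xGL D hD7 K s u * xGL D hD7 K r t) := by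
      rw [h1]; group
    have hW' : wordGL D hD7 K (D.commWord K (reflWord D L r) (reflWord D L s) (cr * t) (cs * u)) =
        (xGL D hD7 K (reflWord D L r) (cr * t) * xGL D hD7 K (reflWord D L s) (cs * u))⁻¹ *
          (xGL D hD7 K (reflWord D L s) (cs * u) * xGL D hD7 K (reflWord D L r) (cr * t)) := by
      rw [h2]; group
    rw [hW', hW, ← hθr, ← hθs]
    group
  -- the relation in `Φ_ij`, conjugated back
  have hX := X_comm (K := K) hri hsi hsr' hsn' (cr * t) (cs * u)
  rw [hAB, ← hgr, ← hgs] at hX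
  calc y D K par dep s u * y D K par dep r t
      = (nW D K L)⁻¹ * ((nW D K L * y D K par dep s u * (nW D K L)⁻¹) *
          (nW D K L * y D K par dep r t * (nW D K L)⁻¹)) * nW D K L := by group
    _ = (nW D K L)⁻¹ * ((nW D K L * y D K par dep r t * (nW D K L)⁻¹) *
          (nW D K L * y D K par dep s u * (nW D K L)⁻¹) *
          (nW D K L * wordG (y D K par dep) (D.commWord K r s t u) * (nW D K L)⁻¹)) * nW D K L := by
        rw [hX]
    _ = _ := by group

end

end Cfsg.Agent.Lib.Helper11.CT.Pair
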