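import Mathlib

/-! Restriction of matrices to an invariant coordinate subspace (helper11; for S3353): if the columns `f b` of the
matrices of a subgroup `R` of `GL ι F` (and of their inverses) are supported on the rows `f a`, the blocks
`g.submatrix f f` define a homomorphism `R →* GL m F`; into `SL m F` when the blocks of the generators have
determinant one. -/

set_option autoImplicit false
set_option linter.unusedSectionVars false
set_option linter.unusedVariables false

namespace Cfsg.Agent.Lib.Helper11.CTRes

open Matrix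

section
variable {ι : Type*} [Fintype ι] [DecidableEq ι] {F : Type*} [Field F]
variable {m : Type*} [Fintype m] [DecidableEq m] (f : m → ι)

/-- the columns `f b` of `g` are supported on the rows `f a` -/
def ColSupp (g : Matrix ι ι F) : Prop := ∀ (b : m) (x : ι), x ∉ Set.range f → g x (f b) = 0

theorem colSupp_one (hf : Function.Injective f) : ColSupp f (1 : Matrix ι ι F) := by
  intro b x hx
  rw [Matrix.one_apply, if_neg]
  rintro rfl
  exact hx ⟨b, rfl⟩

theorem mul_apply_of_colSupp (hf : Function.Injective f) (g g' : Matrix ι ι F) (hg' : ColSupp f g')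
    (x : ι) (b : m) : (g * g') x (f b) = ∑ c : m, g x (f c) * g' (f c) (f b) := by
  rw [Matrix.mul_apply]
  have h1 : ∑ z : ι, g x z * g' z (f b) = ∑ z ∈ Finset.univ.image f, g x z * g' z (f b) := by
    symm
    apply Finset.sum_subset (Finset.subset_univ _)
    intro z _ hz
    have : z ∉ Set.range f := by
      rintro ⟨c, rfl⟩
      exact hz (Finset.mem_image_of_mem f (Finset.mem_univ c))
    rw [hg' b z this, mul_zero]
  rw [h1, Finset.sum_image (fun a _ c _ h => hf h)]

theorem colSupp_mul (hf : Function.Injective f) (g g' : Matrix ι ι F) (hg : ColSupp f g)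
    (hg' : ColSupp f g') : ColSupp f (g * g') := by
  intro b x hx
  rw [mul_apply_of_colSupp f hf g g' hg' x b]
  apply Finset.sum_eq_zero
  intro c _
  rw [hg c x hx, zero_mul]

theorem submatrix_mul_of_colSupp (hf : Function.Injective f) (g g' : Matrix ι ι F) (hg' : ColSupp f g') :
    (g * g').submatrix f f = g.submatrix f f * g'.submatrix f f := by
  ext a b
  rw [Matrix.submatrix_apply, mul_apply_of_colSupp f hf g g' hg' (f a) b, Matrix.mul_apply]
  rfl

/-- the subgroup of the invertible matrices preserving the coordinate subspace of the `f b` -/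
def stab (hf : Function.Injective f) : Subgroup (GL ι F) where
  carrier := {g | ColSupp f (g : Matrix ι ι F) ∧ ColSupp f ((g⁻¹ : GL ι F) : Matrix ι ι F)}
  mul_mem' := by
    rintro g g' ⟨h1, h2⟩ ⟨h1', h2'⟩
    refine ⟨?_, ?_⟩
    · rw [Units.val_mul]
      exact colSupp_mul f hf _ _ h1 h1'
    · rw [_root_.mul_inv_rev, Units.val_mul]
      exact colSupp_mul f hf _ _ h2' h2
  one_mem' := by
    refine ⟨?_, ?_⟩
    · rw [Units.val_one]
      exact colSupp_one f hf
    · rw [inv_one, Units.val_one]
      exact colSupp_one f hf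
  inv_mem' := by
    rintro g ⟨h1, h2⟩
    refine ⟨h2, ?_⟩
    rw [inv_inv]
    exact h1

theorem mem_stab (hf : Function.Injective f) (g : GL ι F) :
    g ∈ stab (F := F) f hf ↔ ColSupp f (g : Matrix ι ι F) ∧ ColSupp f ((g⁻¹ : GL ι F) : Matrix ι ι F) :=
  Iff.rfl

/-- the block of an element of `stab` -/
def blockHom (hf : Function.Injective f) : stab (F := F) f hf →* GL m F where
  toFun g :=
    { val := ((g : GL ι F) : Matrix ι ι F).submatrix f f
      inv := (((g : GL ι F)⁻¹ : GL ι F) : Matrix ι ι F).submatrix f f
      val_inv := by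
        rw [← submatrix_mul_of_colSupp f hf _ _ g.2.2, ← Units.val_mul, mul_inv_cancel, Units.val_one,
          Matrix.submatrix_one _ hf]
      inv_val := by
        rw [← submatrix_mul_of_colSupp f hf _ _ g.2.1, ← Units.val_mul, inv_mul_cancel, Units.val_one,
          Matrix.submatrix_one _ hf] }
  map_one' := by
    apply Units.ext
    show ((1 : GL ι F) : Matrix ι ι F).submatrix f f = 1
    rw [Units.val_one, Matrix.submatrix_one _ hf]
  map_mul' := by
    intro g g'
    apply Units.ext
    show (((g : GL ι F) * (g' : GL ι F) : GL ι F) : Matrix ι ι F).submatrix f f = _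
    rw [Units.val_mul, submatrix_mul_of_colSupp f hf _ _ g'.2.1]
    rfl

theorem coe_blockHom (hf : Function.Injective f) (g : stab (F := F) f hf) :
    ((blockHom f hf g : GL m F) : Matrix m m F) = ((g : GL ι F) : Matrix ι ι F).submatrix f f := rfl

/-- a subgroup generated by elements of `stab` lies in `stab` -/
theorem closure_le_stab (hf : Function.Injective f) (S : Set (GL ι F))
    (hS : ∀ g ∈ S, ColSupp f (g : Matrix ι ι F) ∧ ColSupp f ((g⁻¹ : GL ι F) : Matrix ι ι F)) :
    Subgroup.closure S ≤ stab f hf := by
  rw [Subgroup.closure_le]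
  exact hS

/-- the restriction homomorphism of a subgroup `R ≤ stab` with blocks of determinant one -/
noncomputable def resSL (hf : Function.Injective f) (R : Subgroup (GL ι F)) (hR : R ≤ stab f hf)
    (hdet : ∀ g : R, (((g : GL ι F) : Matrix ι ι F).submatrix f f).det = 1) :
    R →* Matrix.SpecialLinearGroup m F where
  toFun g := ⟨((g : GL ι F) : Matrix ι ι F).submatrix f f, hdet g⟩
  map_one' := by
    apply Subtype.ext
    show ((1 : GL ι F) : Matrix ι ι F).submatrix f f = 1
    rw [Units.val_one, Matrix.submatrix_one _ hf]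
  map_mul' := by
    intro g g'
    apply Subtype.ext
    show (((g : GL ι F) * (g' : GL ι F) : GL ι F) : Matrix ι ι F).submatrix f f = _
    rw [Units.val_mul, submatrix_mul_of_colSupp f hf _ _ (hR g'.2).1]
    rfl

theorem coe_resSL (hf : Function.Injective f) (R : Subgroup (GL ι F)) (hR : R ≤ stab f hf)
    (hdet : ∀ g : R, (((g : GL ι F) : Matrix ι ι F).submatrix f f).det = 1) (g : R) :
    ((resSL f hf R hR hdet g : Matrix.SpecialLinearGroup m F) : Matrix m m F) =
      ((g : GL ι F) : Matrix ι ι F).submatrix f f := rfl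

/-- the determinants of the blocks of a subgroup generated by elements with blocks of determinant one -/
theorem det_block_closure (hf : Function.Injective f) (S : Set (GL ι F))
    (hS : ∀ g ∈ S, ColSupp f (g : Matrix ι ι F) ∧ ColSupp f ((g⁻¹ : GL ι F) : Matrix ι ι F))
    (hdet : ∀ g ∈ S, ((g : Matrix ι ι F).submatrix f f).det = 1) :
    ∀ g ∈ Subgroup.closure S, ((g : Matrix ι ι F).submatrix f f).det = 1 := by
  -- the homomorphism `det ∘ block`
  let φ : stab (F := F) f hf →* Fˣ := (Matrix.GeneralLinearGroup.det).comp (blockHom f hf)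
  have hφ : ∀ g : stab (F := F) f hf, φ g = 1 ↔ (((g : GL ι F) : Matrix ι ι F).submatrix f f).det = 1 := by
    intro g
    rw [Units.ext_iff]
    show ((Matrix.GeneralLinearGroup.det (blockHom f hf g) : Fˣ) : F) = 1 ↔ _
    rw [Matrix.GeneralLinearGroup.val_det_apply, coe_blockHom]
  have hle : Subgroup.closure S ≤ (φ.ker).map (stab (F := F) f hf).subtype := by
    rw [Subgroup.closure_le]
    intro g hg
    refine ⟨⟨g, hS g hg⟩, ?_, rfl⟩
    rw [SetLike.mem_coe, MonoidHom.mem_ker, hφ]
    exact hdet g hg
  intro g hg
  obtain ⟨g', hg', rfl⟩ := hle hg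
  rw [SetLike.mem_coe, MonoidHom.mem_ker, hφ] at hg'
  exact hg'

end

end Cfsg.Agent.Lib.Helper11.CTRes
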