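import Cfsg.Agent.Lib.Helper11.CTResA
import Cfsg.Agent.Lib.Helper7.ChevAddMain

/-! Restriction of a group generated by root elements of a Chevalley group (adjoint matrices) to the span of a few
root vectors `e_{Y c}`, on which every generator acts as a transvection (helper11; for S3353, leaf RES). -/

set_option autoImplicit false
set_option linter.unusedSectionVars false
set_option linter.unusedVariables false

namespace Cfsg.Agent.Lib.Helper11.CTRes

open Cfsg Cfsg.Lie Matrix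
open Cfsg.Agent.Lib.Helper7

/-- the root element `x_r(t)` maps `e_{Y b}` to `e_{Y b} + ε t e_{Y a}` and fixes the other `e_{Y c}` -/
def GenOK (D : ChevalleyDatum) {n : ℕ} (Y : Fin n → ℕ) (r : ℕ) (a b : Fin n) (ε : ℤ) : Prop :=
  r < D.nroots ∧ a ≠ b ∧ ∀ c : Fin n, Y c ≠ r ∧ Y c ≠ D.negIdx.getD r 0 ∧
    ccAll D r (Y c) = if c = b then [(Y a, 1, ε)] else []

instance (D : ChevalleyDatum) {n : ℕ} (Y : Fin n → ℕ) (r : ℕ) (a b : Fin n) (ε : ℤ) :
    Decidable (GenOK D Y r a b ε) := by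
  unfold GenOK
  infer_instance

section
variable (D : ChevalleyDatum) (F : Type*) [Field F] {n : ℕ} (Y : Fin n → ℕ) (hY : ∀ c, Y c < D.nroots)

/-- the coordinates of the root vectors `e_{Y c}` -/
def idxOf (c : Fin n) : D.Idx := Sum.inr ⟨Y c, hY c⟩

theorem idxOf_injective (hinj : Function.Injective Y) : Function.Injective (idxOf D Y hY) := by
  intro c c' h
  unfold idxOf at h
  have := Sum.inr.inj h
  exact hinj (Fin.mk.inj_iff.mp this)

variable {D F Y}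

theorem polyAt_nil (t : F) (u : ℕ) : polyAt t ([] : List (ℕ × ℕ × ℤ)) u = 0 := by
  simp [polyAt]

theorem polyAt_single (t : F) (y : ℕ) (ε : ℤ) (u : ℕ) :
    polyAt t [(y, 1, ε)] u = if y = u then ((ε : ℤ) : F) * t else 0 := by
  simp [polyAt]

theorem colSupp_x (hinj : Function.Injective Y) (r : ℕ) (a b : Fin n) (ε : ℤ) (h : GenOK D Y r a b ε) (t : F) :
    ColSupp (idxOf D Y hY) (D.x F r t) := by
  obtain ⟨hr, hab, hc⟩ := h
  intro c x hx
  obtain ⟨h1, h2, h3⟩ := hc c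
  unfold ChevalleyDatum.x
  rw [dif_pos hr]
  have hsr : (⟨Y c, hY c⟩ : Fin D.nroots) ≠ ⟨r, hr⟩ := fun h => h1 (Fin.mk.inj_iff.mp h)
  rcases x with i' | u
  · exact xMat_inl_gen D F ⟨r, hr⟩ t ⟨Y c, hY c⟩ hsr h2 i'
  · show D.xMat F ⟨r, hr⟩ t (Sum.inr u) (Sum.inr ⟨Y c, hY c⟩) = 0
    rw [xMat_inr_gen D F ⟨r, hr⟩ t ⟨Y c, hY c⟩ hsr h2 u]
    have hu : ∀ c' : Fin n, u.val ≠ Y c' := by
      intro c' hu
      apply hx
      refine ⟨c', ?_⟩
      unfold idxOf
      congr 1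
      exact Fin.ext hu.symm
    rw [if_neg (fun h => hu c (by rw [h])), zero_add]
    show polyAt t (ccAll D r (Y c)) u.val = 0
    rw [h3]
    split_ifs
    · rw [polyAt_single, if_neg (fun h => hu a h.symm)]
    · exact polyAt_nil t _

theorem block_x (hinj : Function.Injective Y) (r : ℕ) (a b : Fin n) (ε : ℤ) (h : GenOK D Y r a b ε) (t : F) :
    (D.x F r t).submatrix (idxOf D Y hY) (idxOf D Y hY) = Matrix.transvection a b (((ε : ℤ) : F) * t) := by
  obtain ⟨hr, hab, hc⟩ := h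
  ext a' b'
  obtain ⟨h1, h2, h3⟩ := hc b'
  have hsr : (⟨Y b', hY b'⟩ : Fin D.nroots) ≠ ⟨r, hr⟩ := fun h => h1 (Fin.mk.inj_iff.mp h)
  rw [Matrix.submatrix_apply]
  unfold ChevalleyDatum.x
  rw [dif_pos hr]
  show D.xMat F ⟨r, hr⟩ t (Sum.inr ⟨Y a', hY a'⟩) (Sum.inr ⟨Y b', hY b'⟩) = _
  rw [xMat_inr_gen D F ⟨r, hr⟩ t ⟨Y b', hY b'⟩ hsr h2 ⟨Y a', hY a'⟩]
  show _ + polyAt t (ccAll D r (Y b')) (Y a') = _
  rw [h3, Matrix.transvection, Matrix.add_apply, Matrix.one_apply, Matrix.single_apply]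
  have e1 : ((⟨Y a', hY a'⟩ : Fin D.nroots) = ⟨Y b', hY b'⟩) ↔ a' = b' := by
    rw [Fin.mk.inj_iff]
    exact hinj.eq_iff
  congr 1
  · simp only [e1]
  · by_cases hb : b' = b
    · subst hb
      rw [if_pos rfl, polyAt_single]
      by_cases ha : a = a'
      · subst ha
        rw [if_pos rfl, if_pos ⟨rfl, rfl⟩]
      · rw [if_neg (fun h => ha (hinj h)), if_neg (fun h => ha h.1)]
    · rw [if_neg hb, polyAt_nil, if_neg (fun h => hb h.2.symm)]

end

section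
variable (D : ChevalleyDatum) (hD : D ∈ [chevG2, chevB2, chevD4, chevF4, chevE6, chevE7, chevE8])
variable (F : Type*) [Field F] {n : ℕ} (Y : Fin n → ℕ) (hY : ∀ c, Y c < D.nroots)
  (hinj : Function.Injective Y) (G : List (ℕ × Fin n × Fin n × ℤ))
  (hG : ∀ g ∈ G, GenOK D Y g.1 g.2.1 g.2.2.1 g.2.2.2)

/-- the group generated by the root elements of the table -/
def genGroup : Subgroup (GL D.Idx F) :=
  Subgroup.closure {x : GL D.Idx F | ∃ g ∈ G, ∃ t : F, x = xGL D hD F g.1 t}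

include hinj hG in
theorem gens_colSupp : ∀ x ∈ {x : GL D.Idx F | ∃ g ∈ G, ∃ t : F, x = xGL D hD F g.1 t},
    ColSupp (idxOf D Y hY) (x : Matrix D.Idx D.Idx F) ∧
      ColSupp (idxOf D Y hY) ((x⁻¹ : GL D.Idx F) : Matrix D.Idx D.Idx F) := by
  rintro x ⟨g, hg, t, rfl⟩
  refine ⟨?_, ?_⟩
  · rw [coe_xGL]
    exact colSupp_x hY hinj g.1 g.2.1 g.2.2.1 g.2.2.2 (hG g hg) t
  · show ColSupp (idxOf D Y hY) (D.x F g.1 (-t))
    exact colSupp_x hY hinj g.1 g.2.1 g.2.2.1 g.2.2.2 (hG g hg) (-t)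

include hinj hG in
theorem gens_det : ∀ x ∈ {x : GL D.Idx F | ∃ g ∈ G, ∃ t : F, x = xGL D hD F g.1 t},
    ((x : Matrix D.Idx D.Idx F).submatrix (idxOf D Y hY) (idxOf D Y hY)).det = 1 := by
  rintro x ⟨g, hg, t, rfl⟩
  rw [coe_xGL, block_x hY hinj g.1 g.2.1 g.2.2.1 g.2.2.2 (hG g hg) t]
  exact Matrix.det_transvection_of_ne _ _ (hG g hg).2.1 _

/-- the restriction of the group generated by the root elements of the table to the span of the `e_{Y c}` -/
noncomputable def resOf : genGroup D hD F G →* Matrix.SpecialLinearGroup (Fin n) F :=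
  resSL (idxOf D Y hY) (idxOf_injective D Y hY hinj) (genGroup D hD F G)
    (closure_le_stab _ _ _ (gens_colSupp D hD F Y hY hinj G hG))
    (fun g => det_block_closure _ (idxOf_injective D Y hY hinj) _ (gens_colSupp D hD F Y hY hinj G hG)
      (gens_det D hD F Y hY hinj G hG) g.1 g.2)

theorem resOf_xGL (g : ℕ × Fin n × Fin n × ℤ) (hg : g ∈ G) (t : F)
    (hmem : xGL D hD F g.1 t ∈ genGroup D hD F G) :
    ((resOf D hD F Y hY hinj G hG ⟨xGL D hD F g.1 t, hmem⟩ : Matrix.SpecialLinearGroup (Fin n) F) :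
      Matrix (Fin n) (Fin n) F) = Matrix.transvection g.2.1 g.2.2.1 (((g.2.2.2 : ℤ) : F) * t) := by
  have h1 : ((resOf D hD F Y hY hinj G hG ⟨xGL D hD F g.1 t, hmem⟩ : Matrix.SpecialLinearGroup (Fin n) F) :
      Matrix (Fin n) (Fin n) F) =
      ((xGL D hD F g.1 t : GL D.Idx F) : Matrix D.Idx D.Idx F).submatrix (idxOf D Y hY) (idxOf D Y hY) := rfl
  rw [h1, coe_xGL, block_x hY hinj g.1 g.2.1 g.2.2.1 g.2.2.2 (hG g hg) t]

end

end Cfsg.Agent.Lib.Helper11.CTRes
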