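import Cfsg.Agent.Lib.Helper11.CTResB
import Cfsg.Agent.Lib.Helper11.CTRecogA

/-! The restriction of the rank-two group `⟨X_{±p_i}, X_{±p_j}⟩` of a Chevalley group of type `E_n` (adjoint matrices)
to the span of the three root vectors `e_{p_k + p_j + p_i}, e_{p_k + p_j}, e_{p_k}` of a path `i - j - k` of the Dynkin
diagram: a homomorphism to `SL₃(F)` mapping the root elements of `p_i, -p_i, p_j, -p_j` to the elementary matrices
`u₁₂(±t), u₂₁(±t), u₂₃(±t), u₃₂(±t)` (helper11; for S3353, leaf RES). -/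

set_option autoImplicit false
set_option linter.unusedSectionVars false
set_option linter.unusedVariables false

namespace Cfsg.Agent.Lib.Helper11.CTRes

open Cfsg Cfsg.Lie Matrix
open Cfsg.Agent.Lib.Helper7
open Cfsg.Agent.Lib.Helper11.CT

/-- the roots `p_k + p_j + p_i, p_k + p_j, p_k` of a path `i - j - k` -/
def pathY (D : ChevalleyDatum) (i j k : ℕ) : Fin 3 → ℕ :=
  ![(D.chainRoot (D.simple i) ((D.chainRoot (D.simple j) (D.simple k) 1).getD 0) 1).getD 0,
    (D.chainRoot (D.simple j) (D.simple k) 1).getD 0, D.simple k]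

/-- the structure constant of `x_r(t) e_s = e_s + M t e_{r+s}` -/
def sgnOf (D : ChevalleyDatum) (r s : ℕ) : ℤ :=
  match ccAll D r s with
  | [(_, _, M)] => M
  | _ => 0

/-- the roots `-p_k, -p_k - p_i, -p_k - p_i - p_j` of a path `k - i - j` -/
def pathY2 (D : ChevalleyDatum) (i j k : ℕ) : Fin 3 → ℕ :=
  ![D.neg (D.simple k), (D.chainRoot (D.neg (D.simple i)) (D.neg (D.simple k)) 1).getD 0,
    (D.chainRoot (D.neg (D.simple j)) ((D.chainRoot (D.neg (D.simple i)) (D.neg (D.simple k)) 1).getD 0) 1).getD 0]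

/-- the four generators, with the positions of their transvections and their signs -/
def pathGens (D : ChevalleyDatum) (Y : Fin 3 → ℕ) (i j : ℕ) : List (ℕ × Fin 3 × Fin 3 × ℤ) :=
  [(D.simple i, 0, 1, sgnOf D (D.simple i) (Y 1)),
   (D.neg (D.simple i), 1, 0, sgnOf D (D.neg (D.simple i)) (Y 0)),
   (D.simple j, 1, 2, sgnOf D (D.simple j) (Y 2)),
   (D.neg (D.simple j), 2, 1, sgnOf D (D.neg (D.simple j)) (Y 1))]

/-- the table facts of three roots `Y` for the pair `i, j` -/
def PathOK (D : ChevalleyDatum) (Y : Fin 3 → ℕ) (i j : ℕ) : Prop :=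
  (∀ c : Fin 3, Y c < D.nroots) ∧
  (Y 0 ≠ Y 1 ∧ Y 0 ≠ Y 2 ∧ Y 1 ≠ Y 2) ∧
  (∀ g ∈ pathGens D Y i j, GenOK D Y g.1 g.2.1 g.2.2.1 g.2.2.2 ∧ (g.2.2.2 = 1 ∨ g.2.2.2 = -1)) ∧
  sgnOf D (D.neg (D.simple i)) (Y 0) = sgnOf D (D.simple i) (Y 1) ∧
  sgnOf D (D.neg (D.simple j)) (Y 1) = sgnOf D (D.simple j) (Y 2)

instance (D : ChevalleyDatum) (Y : Fin 3 → ℕ) (i j : ℕ) : Decidable (PathOK D Y i j) := by
  unfold PathOK
  infer_instance

/-- every pair of joined fundamental roots `p_i, p_j` has a good triple of roots: along a path `i - j - k` or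
along a path `k - i - j` -/
def pathAllB (D : ChevalleyDatum) : Bool :=
  (List.range D.rank).all fun i => (List.range D.rank).all fun j =>
    !(decide (D.cartan i (D.simple j) = -1)) ||
      (List.range D.rank).any fun k =>
        decide (PathOK D (pathY D i j k) i j) || decide (PathOK D (pathY2 D i j k) i j)

theorem pathAllB_E6 : pathAllB chevE6 = true := by decide +kernel
theorem pathAllB_E7 : pathAllB chevE7 = true := by decide +kernel
theorem pathAllB_E8 : pathAllB chevE8 = true := by decide +kernel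

theorem mem3_cases {P : ChevalleyDatum → Prop} (h6 : P chevE6) (h7 : P chevE7) (h8 : P chevE8)
    (D : ChevalleyDatum) (hD : D ∈ [chevE6, chevE7, chevE8]) : P D := by
  simp only [List.mem_cons, List.not_mem_nil, or_false] at hD
  rcases hD with rfl | rfl | rfl
  · exact h6
  · exact h7
  · exact h8

theorem mem7_of_mem3 {D : ChevalleyDatum} (hD : D ∈ [chevE6, chevE7, chevE8]) :
    D ∈ [chevG2, chevB2, chevD4, chevF4, chevE6, chevE7, chevE8] := by
  simp only [List.mem_cons, List.not_mem_nil, or_false] at hD ⊢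
  rcases hD with rfl | rfl | rfl <;> simp

theorem mem5_of_mem3 {D : ChevalleyDatum} (hD : D ∈ [chevE6, chevE7, chevE8]) :
    D ∈ [chevD4, chevF4, chevE6, chevE7, chevE8] := by
  simp only [List.mem_cons, List.not_mem_nil, or_false] at hD ⊢
  rcases hD with rfl | rfl | rfl <;> simp

theorem exists_pathOK (D : ChevalleyDatum) (hD : D ∈ [chevE6, chevE7, chevE8]) (i j : ℕ) (hi : i < D.rank)
    (hj : j < D.rank) (h1 : D.cartan i (D.simple j) = -1) : ∃ Y : Fin 3 → ℕ, PathOK D Y i j := by
  have h := mem3_cases (P := fun D => pathAllB D = true) pathAllB_E6 pathAllB_E7 pathAllB_E8 D hD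
  unfold pathAllB at h
  simp only [List.all_eq_true, List.mem_range, Bool.or_eq_true, Bool.not_eq_true', decide_eq_false_iff_not,
    decide_eq_true_eq, List.any_eq_true] at h
  rcases h i hi j hj with h | ⟨k, -, h | h⟩
  · exact absurd h1 h
  · exact ⟨_, h⟩
  · exact ⟨_, h⟩

section
variable {D : ChevalleyDatum} (hD : D ∈ [chevE6, chevE7, chevE8]) (F : Type*) [Field F]

theorem injective_of_pathOK (Y : Fin 3 → ℕ) (i j : ℕ) (h : PathOK D Y i j) : Function.Injective Y := by
  obtain ⟨-, ⟨h01, h02, h12⟩, -⟩ := h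
  intro a b hab
  fin_cases a <;> fin_cases b
  · rfl
  · exact absurd hab h01
  · exact absurd hab h02
  · exact absurd hab.symm h01
  · rfl
  · exact absurd hab h12
  · exact absurd hab.symm h02
  · exact absurd hab.symm h12
  · rfl

/-- the rank-two group is the group generated by the four families of root elements -/
theorem Lk_sup_eq_genGroup (Y : Fin 3 → ℕ) (i j : ℕ) :
    Lk D F i ⊔ Lk D F j = genGroup D (mem7_of_mem3 hD) F (pathGens D Y i j) := by
  have hD5 := mem5_of_mem3 hD
  apply le_antisymm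
  · apply sup_le
    · rw [Lk_eq_closure hD5 i]
      apply Subgroup.closure_mono
      rintro g ⟨t, rfl | rfl⟩
      · exact ⟨_, List.mem_cons_self, t, rfl⟩
      · exact ⟨_, List.mem_cons_of_mem _ List.mem_cons_self, t, rfl⟩
    · rw [Lk_eq_closure hD5 j]
      apply Subgroup.closure_mono
      rintro g ⟨t, rfl | rfl⟩
      · exact ⟨_, List.mem_cons_of_mem _ (List.mem_cons_of_mem _ List.mem_cons_self), t, rfl⟩
      · exact ⟨_, List.mem_cons_of_mem _ (List.mem_cons_of_mem _ (List.mem_cons_of_mem _ List.mem_cons_self)),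
          t, rfl⟩
  · unfold genGroup
    rw [Subgroup.closure_le]
    rintro g ⟨p, hp, t, rfl⟩
    unfold pathGens at hp
    simp only [List.mem_cons, List.not_mem_nil, or_false] at hp
    rcases hp with rfl | rfl | rfl | rfl
    · exact Subgroup.mem_sup_left (xGL_simple_mem_Lk hD5 i t)
    · exact Subgroup.mem_sup_left (xGL_neg_simple_mem_Lk hD5 i t)
    · exact Subgroup.mem_sup_right (xGL_simple_mem_Lk hD5 j t)
    · exact Subgroup.mem_sup_right (xGL_neg_simple_mem_Lk hD5 j t)

/-- leaf RES in transvection form: the restriction homomorphism of a pair of joined fundamental roots -/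
theorem exists_res_transvection (i j : ℕ) (hi : i < D.rank) (hj : j < D.rank)
    (h1 : D.cartan i (D.simple j) = -1) :
    ∃ ε₁ ε₃ : ℤ, (ε₁ = 1 ∨ ε₁ = -1) ∧ (ε₃ = 1 ∨ ε₃ = -1) ∧
      ∃ res : ↥(Lk D F i ⊔ Lk D F j) →* Matrix.SpecialLinearGroup (Fin 3) F,
        ∀ (g : ↥(Lk D F i ⊔ Lk D F j)) (t : F),
          ((g : GL D.Idx F) = xGL D (mem7_of_mem3 hD) F (D.simple i) t →
            ((res g : Matrix.SpecialLinearGroup (Fin 3) F) : Matrix (Fin 3) (Fin 3) F) =
              Matrix.transvection 0 1 (((ε₁ : ℤ) : F) * t)) ∧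
          ((g : GL D.Idx F) = xGL D (mem7_of_mem3 hD) F (D.neg (D.simple i)) t →
            ((res g : Matrix.SpecialLinearGroup (Fin 3) F) : Matrix (Fin 3) (Fin 3) F) =
              Matrix.transvection 1 0 (((ε₁ : ℤ) : F) * t)) ∧
          ((g : GL D.Idx F) = xGL D (mem7_of_mem3 hD) F (D.simple j) t →
            ((res g : Matrix.SpecialLinearGroup (Fin 3) F) : Matrix (Fin 3) (Fin 3) F) =
              Matrix.transvection 1 2 (((ε₃ : ℤ) : F) * t)) ∧
          ((g : GL D.Idx F) = xGL D (mem7_of_mem3 hD) F (D.neg (D.simple j)) t →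
            ((res g : Matrix.SpecialLinearGroup (Fin 3) F) : Matrix (Fin 3) (Fin 3) F) =
              Matrix.transvection 2 1 (((ε₃ : ℤ) : F) * t)) := by
  obtain ⟨Y, hOK⟩ := exists_pathOK D hD i j hi hj h1
  have hinj := injective_of_pathOK Y i j hOK
  obtain ⟨hY, -, hG, he1, he3⟩ := hOK
  have hD7 := mem7_of_mem3 hD
  have hG1 : ∀ g ∈ pathGens D Y i j, GenOK D Y g.1 g.2.1 g.2.2.1 g.2.2.2 :=
    fun g hg => (hG g hg).1
  have heq := Lk_sup_eq_genGroup hD F Y i j
  refine ⟨sgnOf D (D.simple i) (Y 1), sgnOf D (D.simple j) (Y 2), (hG _ List.mem_cons_self).2,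
    (hG _ (List.mem_cons_of_mem _ (List.mem_cons_of_mem _ List.mem_cons_self))).2,
    (resOf D hD7 F Y hY hinj (pathGens D Y i j) hG1).comp (Subgroup.inclusion (le_of_eq heq)), ?_⟩
  intro g t
  have key : ∀ (p : ℕ × Fin 3 × Fin 3 × ℤ), p ∈ pathGens D Y i j → (g : GL D.Idx F) = xGL D hD7 F p.1 t →
      (((resOf D hD7 F Y hY hinj (pathGens D Y i j) hG1).comp
        (Subgroup.inclusion (le_of_eq heq)) g : Matrix.SpecialLinearGroup (Fin 3) F) :
        Matrix (Fin 3) (Fin 3) F) = Matrix.transvection p.2.1 p.2.2.1 (((p.2.2.2 : ℤ) : F) * t) := by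
    intro p hp hgp
    have hmem : xGL D hD7 F p.1 t ∈ genGroup D hD7 F (pathGens D Y i j) :=
      Subgroup.subset_closure ⟨p, hp, t, rfl⟩
    have : Subgroup.inclusion (le_of_eq heq) g = ⟨xGL D hD7 F p.1 t, hmem⟩ := Subtype.ext hgp
    rw [MonoidHom.comp_apply, this]
    exact resOf_xGL D hD7 F Y hY hinj (pathGens D Y i j) hG1 p hp t hmem
  refine ⟨fun h => ?_, fun h => ?_, fun h => ?_, fun h => ?_⟩
  · exact key _ List.mem_cons_self h
  · have := key _ (List.mem_cons_of_mem _ List.mem_cons_self) h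
    rw [this]
    show Matrix.transvection 1 0 (((sgnOf D (D.neg (D.simple i)) (Y 0) : ℤ) : F) * t) = _
    rw [he1]
  · exact key _ (List.mem_cons_of_mem _ (List.mem_cons_of_mem _ List.mem_cons_self)) h
  · have := key _ (List.mem_cons_of_mem _ (List.mem_cons_of_mem _ (List.mem_cons_of_mem _
      List.mem_cons_self))) h
    rw [this]
    show Matrix.transvection 2 1 (((sgnOf D (D.neg (D.simple j)) (Y 1) : ℤ) : F) * t) = _
    rw [he3]

end

end Cfsg.Agent.Lib.Helper11.CTRes
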