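import Cfsg.Agent.Lib.Helper7.ChevWeylChain2

/-!
helper11: inversion counts along a chain of coset representatives (helper7's `ChainLevel` formalism, any list of
generating permutations `refls`).  If every level comes with the list `Q` of the positive roots of its group which are
not roots of the next group (and the list `M` of their negatives), and the table checks `invOKB` hold
(the representatives preserve the signs of the roots of the next group, the generators of the next group permute `Q`,
the length of a representative is its number of inversions in `Q`), then for every normal form the number of positive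
roots (of the first group) made negative is the length `nfDep` (`chain_cnt`).
-/

set_option autoImplicit false

namespace Cfsg.Agent.Lib.Helper11.ChainInv

open Cfsg.Agent.Lib.Helper7

/-- the number of elements of `P` sent to a negative element by `p` -/
def cnt (negB : ℕ → Bool) (P : List ℕ) (p : List ℕ) : ℕ := (P.filter (fun r => negB (p.getD r 0))).length

theorem cnt_append (negB : ℕ → Bool) (P Q p : List ℕ) : cnt negB (P ++ Q) p = cnt negB P p + cnt negB Q p := by
  unfold cnt
  rw [List.filter_append, List.length_append]

theorem cnt_perm (negB : ℕ → Bool) (P Q p : List ℕ) (h : P.Perm Q) : cnt negB P p = cnt negB Q p := by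
  unfold cnt
  exact (h.filter _).length_eq

theorem getD_range (n t : ℕ) (ht : t < n) : (List.range n).getD t 0 = t := by
  simp [List.getD_eq_getElem?_getD, ht]

/-- inversions of a composite `d ∘ p'` -/
theorem cnt_comp (n : ℕ) (negB : ℕ → Bool) (d p' : List ℕ) (hp' : Valid n p') (P' N' Q : List ℕ)
    (hQn : Q.Nodup) (hQlt : ∀ r ∈ Q, r < n) (hP'lt : ∀ r ∈ P', r < n)
    (h1 : ∀ t ∈ P' ++ N', negB (d.getD t 0) = negB t)
    (h2 : ∀ r ∈ P', p'.getD r 0 ∈ P' ++ N')
    (h3 : ∀ r ∈ Q, p'.getD r 0 ∈ Q)
    (hinj : ∀ a < n, ∀ b < n, p'.getD a 0 = p'.getD b 0 → a = b) :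
    cnt negB (Q ++ P') (comp d p') = cnt negB Q d + cnt negB P' p' := by
  rw [cnt_append]
  congr 1
  · -- the part in `Q`
    unfold cnt
    have e1 : Q.filter (fun r => negB ((comp d p').getD r 0)) =
        Q.filter ((fun t => negB (d.getD t 0)) ∘ (fun r => p'.getD r 0)) := by
      apply List.filter_congr
      intro r hr
      rw [getD_comp d p' r (by rw [hp'.1]; exact hQlt r hr)]
      rfl
    rw [e1]
    have e2 : ((Q.map (fun r => p'.getD r 0)).filter (fun t => negB (d.getD t 0))).length =
        (Q.filter ((fun t => negB (d.getD t 0)) ∘ (fun r => p'.getD r 0))).length := by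
      rw [List.filter_map, List.length_map]
    rw [← e2]
    have hperm : (Q.map (fun r => p'.getD r 0)).Perm Q := by
      have hnd : (Q.map (fun r => p'.getD r 0)).Nodup := by
        apply List.Nodup.map_on _ hQn
        intro a ha b hb hab
        exact hinj a (hQlt a ha) b (hQlt b hb) hab
      have hsub : Q.map (fun r => p'.getD r 0) ⊆ Q := by
        intro x hx
        rw [List.mem_map] at hx
        obtain ⟨r, hr, rfl⟩ := hx
        exact h3 r hr
      exact (List.subperm_of_subset hnd hsub).perm_of_length_le (by rw [List.length_map])
    exact (hperm.filter _).length_eq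
  · -- the part in `P'`
    unfold cnt
    congr 1
    apply List.filter_congr
    intro r hr
    rw [getD_comp d p' r (by rw [hp'.1]; exact hP'lt r hr)]
    exact h1 _ (h2 r hr)

section
variable (n : ℕ) (refls : List (List ℕ))

/-- induction over the normal forms of a chain whose head generators are involutions -/
theorem chain_induction (Ls : List ChainLevel) (hch : chainOKB n refls Ls = true)
    (hinv : ∀ i ∈ headGens Ls, comp (refls.getD i []) (refls.getD i []) = List.range n)
    (Pr : List ℕ → Prop) (h0 : Pr (List.range n))
    (hstep : ∀ i ∈ headGens Ls, ∀ p, Valid n p → Pr p → Pr (comp (refls.getD i []) p)) :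
    ∀ es, IsNF Ls es → Pr (nfPerm n Ls es) := by
  have key : ∀ k, ∀ es, IsNF Ls es → nfDep Ls es = k → Pr (nfPerm n Ls es) := by
    intro k
    induction k with
    | zero =>
      intro es hes hk
      by_cases h0' : es = nfZero Ls
      · rw [h0', nfPerm_zero n refls Ls hch]; exact h0
      · obtain ⟨i, hi, es', hes', hp, hd⟩ := chain_desc n refls Ls hch es hes h0'
        omega
    | succ k ih =>
      intro es hes hk
      by_cases h0' : es = nfZero Ls
      · rw [h0', nfPerm_zero n refls Ls hch]; exact h0
      · obtain ⟨i, hi, es', hes', hp, hd⟩ := chain_desc n refls Ls hch es hes h0'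
        have h1 := ih es' hes' (by omega)
        have hv := chain_valid n refls Ls hch es hes
        have hv' := chain_valid n refls Ls hch es' hes'
        have h2 := hstep i hi _ hv' h1
        have hlen : (refls.getD i []).length = n := by
          have := congrArg List.length (hinv i hi)
          rwa [comp_length, List.length_range] at this
        rw [hp, ← comp_assoc _ _ _ (by intro x hx; rw [hlen]; exact hv.2 x hx), hinv i hi,
          comp_range_left n _ hv.2] at h2
        exact h2
  intro es hes
  exact key _ es hes rfl

/-- the permutations of the normal forms are injective -/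
theorem chain_injOn : ∀ (Ls : List ChainLevel), chainOKB n refls Ls = true → ∀ es, IsNF Ls es →
    ∀ a < n, ∀ b < n, (nfPerm n Ls es).getD a 0 = (nfPerm n Ls es).getD b 0 → a = b
  | [], _, es, _, a, ha, b, hb, h => by
    have : nfPerm n [] es = List.range n := by cases es <;> rfl
    rw [this, getD_range n a ha, getD_range n b hb] at h
    exact h
  | L :: Ls, _, [], hes, _, _, _, _, _ => absurd hes (by simp [IsNF])
  | L :: Ls, hch, e :: es, hes, a, ha, b, hb, h => by
    have h' := hch
    unfold chainOKB at h'
    rw [Bool.and_eq_true] at h'
    have hL := levelFacts_of_OKB n refls L Ls h'.1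
    have hv := chain_valid n refls Ls h'.2 es hes.2
    have ih := chain_injOn Ls h'.2 es hes.2 a ha b hb
    have heq : (comp (L.elems.getD e []) (nfPerm n Ls es)).getD a 0 =
        (comp (L.elems.getD e []) (nfPerm n Ls es)).getD b 0 := h
    rw [getD_comp _ _ a (by rw [hv.1]; exact ha), getD_comp _ _ b (by rw [hv.1]; exact hb)] at heq
    have hinv := hL.elInv e hes.1
    have hlen : (L.elems.getD e []).length = n := by
      have := congrArg List.length hinv
      rwa [comp_length, List.length_range] at this
    -- apply the inverse
    have hx : ∀ x < n, (L.invs.getD e []).getD ((L.elems.getD e []).getD x 0) 0 = x := by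
      intro x hx
      have := congrArg (fun l => l.getD x 0) hinv
      beta_reduce at this
      rw [getD_comp _ _ x (by rw [hlen]; exact hx), getD_range n x hx] at this
      exact this
    have hlt : ∀ c < n, (nfPerm n Ls es).getD c 0 < n := by
      intro c hc
      apply hv.2
      rw [List.getD_eq_getElem _ _ (by rw [hv.1]; exact hc)]
      exact List.getElem_mem _
    have := congrArg (fun y => (L.invs.getD e []).getD y 0) heq
    beta_reduce at this
    rw [hx _ (hlt a ha), hx _ (hlt b hb)] at this
    exact ih this

end

/-- the positive roots of the group of the first level: those new at some level -/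
def posOf (QMs : List (List ℕ × List ℕ)) : List ℕ := (QMs.map Prod.fst).flatten

/-- their negatives -/
def negOf (QMs : List (List ℕ × List ℕ)) : List ℕ := (QMs.map Prod.snd).flatten

theorem posOf_cons (QM : List ℕ × List ℕ) (QMs : List (List ℕ × List ℕ)) :
    posOf (QM :: QMs) = QM.1 ++ posOf QMs := by
  unfold posOf
  rw [List.map_cons, List.flatten_cons]

/-- the table check for the inversion count -/
def invOKB (n : ℕ) (refls : List (List ℕ)) (negB : ℕ → Bool) :
    List ChainLevel → List (List ℕ × List ℕ) → Bool
  | [], [] => true
  | L :: Ls, QM :: QMs =>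
    decide QM.1.Nodup && QM.1.all (fun t => decide (t < n)) &&
    (posOf QMs ++ negOf QMs).all (fun t => decide (t < n)) &&
    (posOf QMs ++ negOf QMs).all (fun t => L.elems.all (fun d => negB (d.getD t 0) == negB t)) &&
    (headGens Ls).all (fun i => (posOf QMs ++ negOf QMs).all
      (fun t => (posOf QMs ++ negOf QMs).contains ((refls.getD i []).getD t 0))) &&
    (headGens Ls).all (fun i => QM.1.all (fun t => QM.1.contains ((refls.getD i []).getD t 0))) &&
    (headGens Ls).all (fun i => comp (refls.getD i []) (refls.getD i []) == List.range n) &&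
    (List.range L.elems.length).all (fun e => cnt negB QM.1 (L.elems.getD e []) == L.dep.getD e 0) &&
    invOKB n refls negB Ls QMs
  | _, _ => false

/-- along a checked chain, the number of inversions of a normal form is its length -/
theorem chain_cnt (n : ℕ) (refls : List (List ℕ)) (negB : ℕ → Bool) :
    ∀ (Ls : List ChainLevel) (QMs : List (List ℕ × List ℕ)), chainOKB n refls Ls = true →
      invOKB n refls negB Ls QMs = true → ∀ es, IsNF Ls es →
        cnt negB (posOf QMs) (nfPerm n Ls es) = nfDep Ls es
  | [], [], _, _, es, _ => by
    cases es <;> rfl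
  | [], _ :: _, _, h, _, _ => by simp [invOKB] at h
  | _ :: _, [], _, h, _, _ => by simp [invOKB] at h
  | L :: Ls, QM :: QMs, _, _, [], hes => absurd hes (by simp [IsNF])
  | L :: Ls, QM :: QMs, hch, hinv, e :: es, hes => by
    have h' := hch
    unfold chainOKB at h'
    rw [Bool.and_eq_true] at h'
    unfold invOKB at hinv
    simp only [Bool.and_eq_true, List.all_eq_true, decide_eq_true_eq, beq_iff_eq, List.mem_range,
      List.contains_iff_mem] at hinv
    obtain ⟨⟨⟨⟨⟨⟨⟨⟨hQn, hQlt⟩, hPNlt⟩, hsign⟩, hgPN⟩, hgQ⟩, hginv⟩, hdep⟩, hrec⟩ := hinv
    have ih := chain_cnt n refls negB Ls QMs h'.2 hrec es hes.2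
    have hv := chain_valid n refls Ls h'.2 es hes.2
    have hinj := chain_injOn n refls Ls h'.2 es hes.2
    -- the tail permutation preserves the roots of the next group and `Q`
    have hPr := chain_induction n refls Ls h'.2 hginv
      (fun p => (∀ t ∈ posOf QMs ++ negOf QMs, p.getD t 0 ∈ posOf QMs ++ negOf QMs) ∧
        (∀ t ∈ QM.1, p.getD t 0 ∈ QM.1))
      ⟨fun t ht => by rw [getD_range n t (hPNlt t ht)]; exact ht,
       fun t ht => by rw [getD_range n t (hQlt t ht)]; exact ht⟩
      (fun i hi p hp hpr => ⟨fun t ht => by
          rw [getD_comp _ _ t (by rw [hp.1]; exact hPNlt t ht)]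
          exact hgPN i hi _ (hpr.1 t ht),
        fun t ht => by
          rw [getD_comp _ _ t (by rw [hp.1]; exact hQlt t ht)]
          exact hgQ i hi _ (hpr.2 t ht)⟩) es hes.2
    have hmem : L.elems.getD e [] ∈ L.elems := by
      rw [List.getD_eq_getElem _ _ hes.1]; exact List.getElem_mem _
    show cnt negB (posOf (QM :: QMs)) (comp (L.elems.getD e []) (nfPerm n Ls es)) =
      L.dep.getD e 0 + nfDep Ls es
    rw [posOf_cons, cnt_comp n negB _ _ hv (posOf QMs) (negOf QMs) QM.1 hQn hQlt
      (fun r hr => hPNlt r (List.mem_append_left _ hr))
      (fun t ht => hsign t ht _ hmem)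
      (fun r hr => hPr.1 r (List.mem_append_left _ hr)) hPr.2 hinj, ih, hdep e hes.1]

end Cfsg.Agent.Lib.Helper11.ChainInv
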