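import Mathlib
import Cfsg.Agent.Lib.Helper9.PLocal2
import Cfsg.Agent.Lib.Helper9.FStar4
import Cfsg.Agent.Lib.Helper25.CharP
import Cfsg.Agent.Lib.Helper12.Cores

set_option autoImplicit false

namespace Cfsg.Agent.Lib.Helper11.CharPLocal

open Cfsg Cfsg.Agent.Lib.Helper9

variable {G : Type*} [Group G]

/-- `H` has characteristic `p`: `F*(H) = O_p(H)` -/
def Ch (p : ℕ) (H : Subgroup G) : Prop :=
  Cfsg.generalizedFittingSubgroup ↥H = Cfsg.pCore p ↥H

/-- if `F*(Y)` is a `p`-group then `F*(Y) = O_p(Y)` -/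
theorem gfs_eq_pCore_of_isPGroup {Y : Type*} [Group Y] [Finite Y] {p : ℕ} [Fact p.Prime]
    (h : IsPGroup p ↥(Cfsg.generalizedFittingSubgroup Y)) :
    Cfsg.generalizedFittingSubgroup Y = Cfsg.pCore p Y := by
  apply le_antisymm
  · exact Cfsg.Agent.Lib.Helper1.le_pCore inferInstance h
  · have hpc_le_fit : Cfsg.pCore p Y ≤ Cfsg.fittingSubgroup Y :=
      Cfsg.Agent.Lib.Helper1.le_fittingSubgroup (Cfsg.Agent.Lib.Helper1.pCore_normal p Y)
        (Cfsg.Agent.Lib.Helper1.pCore_isPGroup p Y).isNilpotent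
    exact hpc_le_fit.trans fittingSubgroup_le_generalizedFittingSubgroup

theorem ch_of_equiv {p : ℕ} {H K : Subgroup G} (e : ↥H ≃* ↥K) (h : Ch p H) : Ch p K :=
  generalizedFittingSubgroup_eq_pCore_of_equiv p e h

/-- normal subgroups of groups of characteristic `p` have characteristic `p` -/
theorem ch_of_normal [Finite G] {p : ℕ} [Fact p.Prime] {X B : Subgroup G} (hX : Ch p X) (hBX : B ≤ X)
    (hn : (B.subgroupOf X).Normal) : Ch p B := by
  have h1 := generalizedFittingSubgroup_inf_normal (G := ↥X) (B.subgroupOf X)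
  rw [hX] at h1
  -- `F*(B')` is a `p`-group
  have hp : IsPGroup p ↥(Cfsg.generalizedFittingSubgroup ↥(B.subgroupOf X)) := by
    have h2 : IsPGroup p ↥((Cfsg.generalizedFittingSubgroup ↥(B.subgroupOf X)).map
        (B.subgroupOf X).subtype) := by
      rw [← h1]
      exact (Cfsg.Agent.Lib.Helper1.pCore_isPGroup p ↥X).to_le inf_le_left
    have e := (Cfsg.generalizedFittingSubgroup ↥(B.subgroupOf X)).equivMapOfInjective
      (B.subgroupOf X).subtype (Subgroup.subtype_injective _)
    exact h2.of_equiv e.symm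
  have h3 : Cfsg.generalizedFittingSubgroup ↥(B.subgroupOf X) = Cfsg.pCore p ↥(B.subgroupOf X) :=
    gfs_eq_pCore_of_isPGroup hp
  exact generalizedFittingSubgroup_eq_pCore_of_equiv p (Subgroup.subgroupOfEquivOfLe hBX) h3

/-- normalizers of `p`-subgroups in groups of characteristic `p` have characteristic `p` -/
theorem ch_normalizer [Finite G] {p : ℕ} [Fact p.Prime] {X P : Subgroup G} (hX : Ch p X) (hPX : P ≤ X)
    (hP : IsPGroup p ↥P) : Ch p (X ⊓ Subgroup.normalizer (P : Set G)) := by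
  have h1 := generalizedFittingSubgroup_normalizer_eq_pCore (G := ↥X) hX
    (P := P.subgroupOf X) hP.comap_subtype
  have e1 := (Subgroup.normalizer ((P.subgroupOf X : Subgroup ↥X) : Set ↥X)).equivMapOfInjective
    X.subtype (Subgroup.subtype_injective _)
  have e2 := MulEquiv.subgroupCongr (map_subtype_normalizer_subgroupOf hPX)
  exact generalizedFittingSubgroup_eq_pCore_of_equiv p (e1.trans e2) h1

/-- centralizers of `p`-subgroups in groups of characteristic `p` have characteristic `p` -/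
theorem ch_centralizer [Finite G] {p : ℕ} [Fact p.Prime] {X P : Subgroup G} (hX : Ch p X) (hPX : P ≤ X)
    (hP : IsPGroup p ↥P) : Ch p (X ⊓ Subgroup.centralizer (P : Set G)) := by
  have h1 := ch_normalizer hX hPX hP
  refine ch_of_normal h1 (inf_le_inf_left X (Subgroup.centralizer_le_normalizer _)) ?_
  constructor
  intro c hc n
  rw [Subgroup.mem_subgroupOf] at hc ⊢
  have hn := n.2
  rw [Subgroup.mem_inf] at hn hc ⊢
  refine ⟨X.mul_mem (X.mul_mem hn.1 hc.1) (X.inv_mem hn.1), ?_⟩
  rw [Subgroup.mem_centralizer_iff]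
  intro y hy
  have hn2 := hn.2
  rw [Subgroup.mem_set_normalizer_iff] at hn2
  have hy' : (n : G)⁻¹ * y * (n : G) ∈ P := by
    have := (hn2 ((n : G)⁻¹ * y * (n : G))).mpr (by
      have e : (n : G) * ((n : G)⁻¹ * y * (n : G)) * (n : G)⁻¹ = y := by group
      rw [e]; exact hy)
    exact this
  have h2 := Subgroup.mem_centralizer_iff.mp hc.2 _ hy'
  show y * (((n : G) * (c : G) * (n : G)⁻¹)) = ((n : G) * (c : G) * (n : G)⁻¹) * y
  calc y * ((n : G) * (c : G) * (n : G)⁻¹)
      = (n : G) * (((n : G)⁻¹ * y * (n : G)) * (c : G)) * (n : G)⁻¹ := by group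
    _ = (n : G) * ((c : G) * ((n : G)⁻¹ * y * (n : G))) * (n : G)⁻¹ := by rw [h2]
    _ = ((n : G) * (c : G) * (n : G)⁻¹) * y := by group

/-- a group `Y` with a normal subgroup `X'` of characteristic `p` and `Y/X'` a `p`-group has characteristic `p` -/
theorem gfs_eq_pCore_of_normal_of_quotient {Y : Type*} [Group Y] [Finite Y] {p : ℕ} [Fact p.Prime]
    (X' : Subgroup Y) [hn : X'.Normal]
    (hX' : Cfsg.generalizedFittingSubgroup ↥X' = Cfsg.pCore p ↥X')
    (hq : ∀ y : Y, ∃ k : ℕ, y ^ (p ^ k) ∈ X') :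
    Cfsg.generalizedFittingSubgroup Y = Cfsg.pCore p Y := by
  have : (Cfsg.pCore p ↥X').Characteristic := Cfsg.Agent.Lib.Helper12.pCore_characteristic' p
  have hQn : ((Cfsg.pCore p ↥X').map X'.subtype).Normal := ConjAct.normal_of_characteristic_of_normal
  have hQp : IsPGroup p ↥((Cfsg.pCore p ↥X').map X'.subtype) :=
    (Cfsg.Agent.Lib.Helper1.pCore_isPGroup p ↥X').map _
  have hQle := Cfsg.Agent.Lib.Helper1.le_pCore hQn hQp
  have hcX : Subgroup.centralizer (Cfsg.pCore p ↥X' : Set ↥X') ≤ Cfsg.pCore p ↥X' := by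
    have := centralizer_generalizedFittingSubgroup_le (G := ↥X')
    rwa [hX'] at this
  have hDn : (Subgroup.centralizer (((Cfsg.pCore p ↥X').map X'.subtype : Subgroup Y) : Set Y)).Normal :=
    Subgroup.normal_centralizer
  have hDp : IsPGroup p ↥(Subgroup.centralizer
      (((Cfsg.pCore p ↥X').map X'.subtype : Subgroup Y) : Set Y)) := by
    rintro ⟨d, hd⟩
    obtain ⟨k, hk⟩ := hq d
    have he : d ^ (p ^ k) ∈ Subgroup.centralizer
        (((Cfsg.pCore p ↥X').map X'.subtype : Subgroup Y) : Set Y) := Subgroup.pow_mem _ hd _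
    have he' : (⟨d ^ (p ^ k), hk⟩ : ↥X') ∈ Subgroup.centralizer (Cfsg.pCore p ↥X' : Set ↥X') := by
      rw [Subgroup.mem_centralizer_iff]
      intro q hq'
      apply Subtype.ext
      have hqm : (q : Y) ∈ (Cfsg.pCore p ↥X').map X'.subtype := ⟨q, hq', rfl⟩
      exact Subgroup.mem_centralizer_iff.mp he _ hqm
    obtain ⟨m, hm⟩ := (Cfsg.Agent.Lib.Helper1.pCore_isPGroup p ↥X') ⟨_, hcX he'⟩
    refine ⟨k + m, ?_⟩
    apply Subtype.ext
    have h1 := congrArg (fun z : ↥(Cfsg.pCore p ↥X') => ((z : ↥X') : Y)) hm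
    simp only [Subgroup.coe_pow, Subgroup.coe_one] at h1
    show d ^ (p ^ (k + m)) = 1
    rw [pow_add, pow_mul]
    exact h1
  have hDle := Cfsg.Agent.Lib.Helper1.le_pCore hDn hDp
  exact Cfsg.Agent.Lib.Helper25.generalizedFittingSubgroup_eq_pCore_of_normal_pSubgroup
    (Cfsg.pCore p Y) (Cfsg.Agent.Lib.Helper1.pCore_normal p Y)
    (Cfsg.Agent.Lib.Helper1.pCore_isPGroup p Y)
    ((Subgroup.centralizer_le hQle).trans hDle)

/-- the product of a group of characteristic `p` with a `p`-group normalizing it has characteristic `p` -/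
theorem ch_sup [Finite G] {p : ℕ} [Fact p.Prime] {X A : Subgroup G} (hX : Ch p X)
    (hA : IsPGroup p ↥A) (hAX : A ≤ Subgroup.normalizer (X : Set G)) : Ch p (X ⊔ A) := by
  have hle : X ⊔ A ≤ Subgroup.normalizer (X : Set G) := sup_le Subgroup.le_normalizer hAX
  have hn : (X.subgroupOf (X ⊔ A)).Normal :=
    (Subgroup.normal_subgroupOf_iff_le_normalizer le_sup_left).mpr hle
  have hX' : Cfsg.generalizedFittingSubgroup ↥(X.subgroupOf (X ⊔ A)) =
      Cfsg.pCore p ↥(X.subgroupOf (X ⊔ A)) :=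
    generalizedFittingSubgroup_eq_pCore_of_equiv p
      (Subgroup.subgroupOfEquivOfLe (le_sup_left : X ≤ X ⊔ A)).symm hX
  apply gfs_eq_pCore_of_normal_of_quotient (X.subgroupOf (X ⊔ A)) hX'
  -- the quotient is a `p`-group
  have htop : (X.subgroupOf (X ⊔ A)) ⊔ (A.subgroupOf (X ⊔ A)) = ⊤ := by
    rw [← Subgroup.subgroupOf_sup le_sup_left le_sup_right, Subgroup.subgroupOf_self]
  have hmap : (A.subgroupOf (X ⊔ A)).map (QuotientGroup.mk' (X.subgroupOf (X ⊔ A))) = ⊤ := by
    have h1 : ((X.subgroupOf (X ⊔ A)) ⊔ (A.subgroupOf (X ⊔ A))).map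
        (QuotientGroup.mk' (X.subgroupOf (X ⊔ A))) = ⊤ := by
      rw [htop, ← MonoidHom.range_eq_map, MonoidHom.range_eq_top]
      exact QuotientGroup.mk'_surjective _
    rw [Subgroup.map_sup] at h1
    have h2 : (X.subgroupOf (X ⊔ A)).map (QuotientGroup.mk' (X.subgroupOf (X ⊔ A))) = ⊥ := by
      rw [Subgroup.map_eq_bot_iff, QuotientGroup.ker_mk']
    rw [h2, bot_sup_eq] at h1
    exact h1
  have hqp : IsPGroup p (↥(X ⊔ A) ⧸ X.subgroupOf (X ⊔ A)) := by
    have h3 : IsPGroup p ↥((A.subgroupOf (X ⊔ A)).map (QuotientGroup.mk' (X.subgroupOf (X ⊔ A)))) :=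
      (hA.comap_subtype).map _
    rw [hmap] at h3
    exact h3.of_equiv Subgroup.topEquiv
  intro y
  obtain ⟨k, hk⟩ := hqp (QuotientGroup.mk y)
  refine ⟨k, ?_⟩
  rw [← QuotientGroup.mk_pow] at hk
  exact (QuotientGroup.eq_one_iff _).mp hk

/-- If `U ≤ O_p(X)` and `F*(C_X(U)) = O_p(C_X(U))` then `F*(X) = O_p(X)`
(helper9's `generalizedFittingSubgroup_eq_pCore_of_centralizer` for a subgroup instead of an element). -/
theorem gfs_eq_pCore_of_centralizer_subgroup {X : Type*} [Group X] [Finite X]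
    {p : ℕ} [Fact p.Prime] {U : Subgroup X} (hU : U ≤ Cfsg.pCore p X)
    (h : Cfsg.generalizedFittingSubgroup ↥(Subgroup.centralizer (U : Set X)) =
      Cfsg.pCore p ↥(Subgroup.centralizer (U : Set X))) :
    Cfsg.generalizedFittingSubgroup X = Cfsg.pCore p X := by
  have hlayJ := layer_eq_bot_of_generalizedFittingSubgroup_eq_pCore h
  have hppJ := pPrimeCore_eq_bot_of_generalizedFittingSubgroup_eq_pCore h
  have hpc_le_fit : Cfsg.pCore p X ≤ Cfsg.fittingSubgroup X :=
    Cfsg.Agent.Lib.Helper1.le_fittingSubgroup inferInstance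
      (Cfsg.Agent.Lib.Helper1.pCore_isPGroup p X).isNilpotent
  have hcent : Subgroup.centralizer (Cfsg.pCore p X : Set X) ≤
      Subgroup.centralizer (U : Set X) := Subgroup.centralizer_le hU
  -- the layer of `X` is trivial
  have hlay : Cfsg.layer X = ⊥ := by
    have hlayle : Cfsg.layer X ≤ Subgroup.centralizer (U : Set X) :=
      (layer_le_centralizer_fittingSubgroup.trans (Subgroup.centralizer_le hpc_le_fit)).trans hcent
    rw [layer_eq_bot_iff]
    intro K hK
    have hKJ : K ≤ Subgroup.centralizer (U : Set X) := (component_le_layer hK).trans hlayle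
    exact (layer_eq_bot_iff.mp hlayJ) _ (isComponent_subgroupOf hKJ hK)
  -- `O_{p'}(X)` is trivial
  have hpp : Cfsg.pPrimeCore p X = ⊥ := by
    have hW : Cfsg.pPrimeCore p X ≤ Subgroup.centralizer (U : Set X) := by
      have h2 := commutator_pCore_pPrimeCore (G := X) p
      rw [Subgroup.commutator_comm, Subgroup.commutator_eq_bot_iff_le_centralizer] at h2
      exact h2.trans hcent
    have h3 : (Cfsg.pPrimeCore p X).subgroupOf (Subgroup.centralizer (U : Set X)) ≤
        Cfsg.pPrimeCore p ↥(Subgroup.centralizer (U : Set X)) := by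
      apply Cfsg.Agent.Lib.Helper12.le_pPrimeCore
      · infer_instance
      · apply Nat.Coprime.coprime_dvd_left _
          (Cfsg.Agent.Lib.Helper12.pPrimeCore_coprime (X := X) p)
        rw [← Subgroup.card_map_of_injective (Subgroup.subtype_injective _)]
        apply Subgroup.card_dvd_of_le
        rw [Subgroup.subgroupOf_map_subtype]
        exact inf_le_left
    rw [hppJ, le_bot_iff, Subgroup.subgroupOf_eq_bot] at h3
    exact Disjoint.eq_bot_of_le h3 hW
  unfold Cfsg.generalizedFittingSubgroup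
  rw [hlay, bot_sup_eq]
  exact fittingSubgroup_eq_pCore_of_pPrimeCore_eq_bot p hpp

theorem map_subtype_centralizer_subgroupOf (U : Subgroup G) :
    (Subgroup.centralizer ((U.subgroupOf (Subgroup.normalizer (U : Set G)) :
      Subgroup ↥(Subgroup.normalizer (U : Set G))) : Set ↥(Subgroup.normalizer (U : Set G)))).map
        (Subgroup.normalizer (U : Set G)).subtype = Subgroup.centralizer (U : Set G) := by
  ext g
  constructor
  · rintro ⟨c, hc, rfl⟩
    rw [Subgroup.mem_centralizer_iff]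
    intro u hu
    have hu' : (⟨u, Subgroup.le_normalizer hu⟩ : ↥(Subgroup.normalizer (U : Set G))) ∈
        U.subgroupOf (Subgroup.normalizer (U : Set G)) := Subgroup.mem_subgroupOf.mpr hu
    exact congrArg Subtype.val (Subgroup.mem_centralizer_iff.mp hc _ hu')
  · intro hg
    refine ⟨⟨g, Subgroup.centralizer_le_normalizer _ hg⟩, ?_, rfl⟩
    rw [SetLike.mem_coe, Subgroup.mem_centralizer_iff]
    intro u hu
    apply Subtype.ext
    exact Subgroup.mem_centralizer_iff.mp hg _ (Subgroup.mem_subgroupOf.mp hu)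

/-- if `C_G(U)` has characteristic `p` for a `p`-subgroup `U`, so has `N_G(U)` -/
theorem ch_normalizer_of_ch_centralizer [Finite G] {p : ℕ} [Fact p.Prime] {U : Subgroup G}
    (hU : IsPGroup p ↥U) (h : Ch p (Subgroup.centralizer (U : Set G))) :
    Ch p (Subgroup.normalizer (U : Set G)) := by
  have hUle : U.subgroupOf (Subgroup.normalizer (U : Set G)) ≤
      Cfsg.pCore p ↥(Subgroup.normalizer (U : Set G)) :=
    Cfsg.Agent.Lib.Helper1.le_pCore
      ((Subgroup.normal_subgroupOf_iff_le_normalizer Subgroup.le_normalizer).mpr le_rfl)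
      hU.comap_subtype
  apply gfs_eq_pCore_of_centralizer_subgroup hUle
  have e1 := (Subgroup.centralizer ((U.subgroupOf (Subgroup.normalizer (U : Set G)) :
      Subgroup ↥(Subgroup.normalizer (U : Set G))) :
        Set ↥(Subgroup.normalizer (U : Set G)))).equivMapOfInjective
          (Subgroup.normalizer (U : Set G)).subtype (Subgroup.subtype_injective _)
  have e2 := MulEquiv.subgroupCongr (map_subtype_centralizer_subgroupOf U)
  exact generalizedFittingSubgroup_eq_pCore_of_equiv p (e1.trans e2).symm h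

theorem normalizer_le_normalizer_centralizer (Y : Subgroup G) :
    Subgroup.normalizer (Y : Set G) ≤ Subgroup.normalizer (Subgroup.centralizer (Y : Set G) : Set G) := by
  intro a ha
  rw [Subgroup.mem_set_normalizer_iff] at ha ⊢
  replace ha : ∀ g, g ∈ Y ↔ a * g * a⁻¹ ∈ Y := fun g => ha g
  have key : ∀ b : G, (∀ g, g ∈ Y ↔ b * g * b⁻¹ ∈ Y) → ∀ h, h ∈ Subgroup.centralizer (Y : Set G) →
      b * h * b⁻¹ ∈ Subgroup.centralizer (Y : Set G) := by
    intro b hb h hh
    rw [Subgroup.mem_centralizer_iff] at hh ⊢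
    intro y hy
    have hy' : b⁻¹ * y * b ∈ Y := by
      rw [hb]
      have e : b * (b⁻¹ * y * b) * b⁻¹ = y := by group
      rw [e]; exact hy
    have h2 := hh _ hy'
    calc y * (b * h * b⁻¹) = b * ((b⁻¹ * y * b) * h) * b⁻¹ := by group
      _ = b * (h * (b⁻¹ * y * b)) * b⁻¹ := by rw [h2]
      _ = (b * h * b⁻¹) * y := by group
  intro h
  constructor
  · exact key a ha h
  · intro hh
    have ha' : ∀ g, g ∈ Y ↔ a⁻¹ * g * a⁻¹⁻¹ ∈ Y := by
      intro g
      rw [ha (a⁻¹ * g * a⁻¹⁻¹)]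
      have e : a * (a⁻¹ * g * a⁻¹⁻¹) * a⁻¹ = g := by group
      rw [e]
    have := key a⁻¹ ha' _ hh
    have e : a⁻¹ * (a * h * a⁻¹) * a⁻¹⁻¹ = h := by group
    rwa [e] at this

/-- one step up the normalizer chain -/
theorem ch_centralizer_step [Finite G] {p : ℕ} [Fact p.Prime] {Y Y' : Subgroup G}
    (hY : Ch p (Subgroup.centralizer (Y : Set G))) (hYY' : Y ≤ Y') (hY' : IsPGroup p ↥Y')
    (hN : Y' ≤ Subgroup.normalizer (Y : Set G)) : Ch p (Subgroup.centralizer (Y' : Set G)) := by
  have hAX : Y' ≤ Subgroup.normalizer (Subgroup.centralizer (Y : Set G) : Set G) :=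
    hN.trans (normalizer_le_normalizer_centralizer Y)
  have h1 := ch_sup hY hY' hAX
  have h2 := ch_centralizer h1 le_sup_right hY'
  have hle : Subgroup.centralizer (Y' : Set G) ≤
      (Subgroup.centralizer (Y : Set G) ⊔ Y') ⊓ Subgroup.centralizer (Y' : Set G) :=
    le_inf ((Subgroup.centralizer_le hYY').trans le_sup_left) le_rfl
  refine ch_of_normal h2 hle ?_
  constructor
  intro c hc n
  rw [Subgroup.mem_subgroupOf] at hc ⊢
  have hn := n.2
  rw [Subgroup.mem_inf] at hn
  show (n : G) * (c : G) * (n : G)⁻¹ ∈ Subgroup.centralizer (Y' : Set G)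
  exact Subgroup.mul_mem _ (Subgroup.mul_mem _ hn.2 hc) (Subgroup.inv_mem _ hn.2)

/-- a proper subgroup of a finite `p`-group is properly contained in its normalizer -/
theorem exists_mem_normalizer_not_mem [Finite G] {p : ℕ} [Fact p.Prime] {U Y : Subgroup G}
    (hU : IsPGroup p ↥U) (hYU : Y ≤ U) (hne : Y ≠ U) :
    ∃ x ∈ U, x ∈ Subgroup.normalizer (Y : Set G) ∧ x ∉ Y := by
  have hnil : Group.IsNilpotent ↥U := hU.isNilpotent
  have hlt : Y.subgroupOf U < ⊤ := by
    rw [lt_top_iff_ne_top]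
    intro h
    apply hne
    apply le_antisymm hYU
    intro u hu
    have : (⟨u, hu⟩ : ↥U) ∈ Y.subgroupOf U := by rw [h]; exact Subgroup.mem_top _
    exact Subgroup.mem_subgroupOf.mp this
  have h1 := Group.normalizerCondition_of_isNilpotent (G := ↥U) (Y.subgroupOf U) hlt
  obtain ⟨x, hx, hxn⟩ := SetLike.exists_of_lt h1
  refine ⟨x, x.2, ?_, fun h => hxn (Subgroup.mem_subgroupOf.mpr h)⟩
  rw [Subgroup.mem_set_normalizer_iff] at hx ⊢
  intro g
  constructor
  · intro hg
    have := (hx ⟨g, hYU hg⟩).mp (Subgroup.mem_subgroupOf.mpr hg)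
    exact Subgroup.mem_subgroupOf.mp this
  · intro hg
    have hgU : g ∈ U := by
      have h2 : (x : G)⁻¹ * ((x : G) * g * (x : G)⁻¹) * (x : G) ∈ U :=
        U.mul_mem (U.mul_mem (U.inv_mem x.2) (hYU hg)) x.2
      have e : (x : G)⁻¹ * ((x : G) * g * (x : G)⁻¹) * (x : G) = g := by group
      rwa [e] at h2
    have := (hx ⟨g, hgU⟩).mpr (Subgroup.mem_subgroupOf.mpr hg)
    exact Subgroup.mem_subgroupOf.mp this

/-- climbing the normalizer chain: if `C_G(Y)` has characteristic `p` for some `Y ≤ U`, `U` a `p`-group,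
then `C_G(U)` has characteristic `p` -/
theorem ch_centralizer_of_le [Finite G] {p : ℕ} [Fact p.Prime] {U : Subgroup G} (hU : IsPGroup p ↥U) :
    ∀ n : ℕ, ∀ Y : Subgroup G, Y ≤ U → Ch p (Subgroup.centralizer (Y : Set G)) →
      Nat.card ↥U - Nat.card ↥Y = n → Ch p (Subgroup.centralizer (U : Set G)) := by
  intro n
  induction n using Nat.strong_induction_on with
  | _ n ih =>
    intro Y hYU hY hn
    by_cases hne : Y = U
    · rw [← hne]; exact hY
    · obtain ⟨x, hxU, hxN, hxY⟩ := exists_mem_normalizer_not_mem hU hYU hne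
      have hYY' : Y ≤ U ⊓ Subgroup.normalizer (Y : Set G) := le_inf hYU Subgroup.le_normalizer
      have hY'U : U ⊓ Subgroup.normalizer (Y : Set G) ≤ U := inf_le_left
      have hstep := ch_centralizer_step hY hYY' (hU.to_le hY'U) inf_le_right
      have hcard : Nat.card ↥Y < Nat.card ↥(U ⊓ Subgroup.normalizer (Y : Set G)) := by
        by_contra hc
        have := Subgroup.eq_of_le_of_card_ge hYY' (not_lt.mp hc)
        apply hxY
        rw [this]
        exact Subgroup.mem_inf.mpr ⟨hxU, hxN⟩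
      have hle := Subgroup.card_le_of_le hY'U
      exact ih _ (by omega) _ hY'U hstep rfl

end Cfsg.Agent.Lib.Helper11.CharPLocal
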