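import Cfsg.Agent.Lib.Helper11.ChevRootChar
import Cfsg.Agent.Lib.Helper7.ChevLevi3
import Cfsg.Agent.Lib.Helper7.ChevBV

/-!
An element of the Chevalley group (seven tabulated data) whose matrix is the diagonal matrix of a chain character
lies in the diagonal subgroup `H` (Carter 7.1.1: `Ĥ ∩ G = H`) (helper11, on top of helper7's library).
-/

set_option autoImplicit false

namespace Cfsg.Agent.Lib.Helper11.ChevDiagMem

open Cfsg Cfsg.Lie Matrix Cfsg.Agent.Lib.Helper7
open scoped Pointwise

section
variable (D : ChevalleyDatum) (hD : D ∈ [chevG2, chevB2, chevD4, chevF4, chevE6, chevE7, chevE8])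
variable (F : Type*) [Field F]
include hD

/-- no root lies in the empty root subsystem -/
theorem not_inRootSub_empty (r : ℕ) (hr : r < D.nroots) : ¬ D.InRootSub (∅ : Set ℕ) r := by
  intro h
  obtain ⟨hsum, -, -⟩ := addHyp_of_addOKB D (addOKB_of_mem D hD) r hr
  have : ∑ i ∈ Finset.range D.rank,
      (D.coroot.getD r #[]).getD i 0 * (D.cartanSR.getD i #[]).getD r 0 = 0 := by
    apply Finset.sum_eq_zero
    intro i hi
    rw [h.2 i (Finset.mem_range.mp hi) (by simp), zero_mul]
  rw [this] at hsum
  exact absurd hsum (by norm_num)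

/-- `U_∅ = U` -/
theorem unipotentRadical_empty : D.unipotentRadical F (∅ : Set ℕ) = D.posUnipotent F := by
  unfold ChevalleyDatum.unipotentRadical ChevalleyDatum.posUnipotent
  congr 1
  ext g
  constructor
  · rintro ⟨r, t, hr, -, hg⟩
    exact ⟨r, t, hr, hg⟩
  · rintro ⟨r, t, hr, hg⟩
    exact ⟨r, t, hr, not_inRootSub_empty D hD r hr.1, hg⟩

/-- `P_∅ = B` -/
theorem parabolicSubgroup_empty : D.parabolicSubgroup F (∅ : Set ℕ) = D.borelSubgroup F := by
  unfold ChevalleyDatum.parabolicSubgroup
  have : {g : GL D.Idx F | ∃ j ∈ (∅ : Set ℕ), j < D.rank ∧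
      (g : Matrix D.Idx D.Idx F) = D.nMat F (D.simple j) 1} = ∅ := by
    ext g
    simp
  rw [this, Subgroup.closure_empty, sup_bot_eq]

/-- `N_G(U) = B` -/
theorem normalizer_posUnipotent_inf_group :
    Subgroup.normalizer (D.posUnipotent F : Set (GL D.Idx F)) ⊓ D.group F = D.borelSubgroup F := by
  have h := normalizer_uJ_inf_group D hD F (∅ : Set ℕ) (by simp)
  rw [unipotentRadical_empty D hD F, parabolicSubgroup_empty D hD F] at h
  exact h

/-- a group element whose matrix is the diagonal matrix of a chain character lies in `H` -/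
theorem mem_diagonalSubgroup_of_diagChar (χ : ℕ → F) (hχ : ChainChar D F χ) (g : GL D.Idx F)
    (hg : g ∈ D.group F) (hgχ : (g : Matrix D.Idx D.Idx F) = diagChar D F χ) :
    g ∈ D.diagonalSubgroup F := by
  -- `g` normalises `U`
  have hnorm : g ∈ Subgroup.normalizer (D.posUnipotent F : Set (GL D.Idx F)) := by
    rw [Subgroup.mem_set_normalizer_iff]
    intro u
    constructor
    · intro hu
      exact diagChar_conj_mem_posUnipotent D hD F g χ hχ hgχ u hu
    · intro hu
      have h1 := diagChar_conj_mem_posUnipotent D hD F g⁻¹ _ hχ.inv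
        (coe_inv_of_diagChar D F g χ hχ.ne0 hgχ) _ hu
      have : g⁻¹ * (g * u * g⁻¹) * g⁻¹⁻¹ = u := by group
      rw [this] at h1
      exact h1
  have hB : g ∈ D.borelSubgroup F := by
    rw [← normalizer_posUnipotent_inf_group D hD F]
    exact ⟨hnorm, hg⟩
  have hB' : g ∈ ((D.borelSubgroup F : Subgroup (GL D.Idx F)) : Set (GL D.Idx F)) := hB
  rw [borel_eq_mul D hD F] at hB'
  obtain ⟨h, hh, u, hu, hhu⟩ := hB'
  obtain ⟨ψ, hψ, hhm⟩ := mem_diagonalSubgroup_char D hD F h hh
  -- `u = h⁻¹ g` is diagonal and unitriangular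
  have hu_eq : u = h⁻¹ * g := by rw [← hhu]; group
  have hum : (u : Matrix D.Idx D.Idx F) = diagChar D F (fun s => (ψ s)⁻¹ * χ s) := by
    rw [hu_eq, Units.val_mul, coe_inv_of_diagChar D F h ψ hψ.ne0 hhm, hgχ, diagChar_mul]
  have hlev : Level (levelFn D) 1 ((u : Matrix D.Idx D.Idx F) - 1) :=
    mem_unitriSubgroup.mp (posUnipotent_le_unitri D (triOK_of_mem D hD) F hu)
  have hu1 : u = 1 := by
    apply Units.ext
    rw [Units.val_one]
    ext i j
    by_cases hij : i = j
    · subst hij
      have := hlev i i (by omega)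
      rw [Matrix.sub_apply, sub_eq_zero] at this
      exact this
    · rw [hum]
      unfold diagChar
      rw [Matrix.diagonal_apply_ne _ hij, Matrix.one_apply_ne hij]
  have hgh : g = h := by
    rw [← hhu, hu1]
    exact mul_one h
  rw [hgh]
  exact hh

end

end Cfsg.Agent.Lib.Helper11.ChevDiagMem
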