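import Cfsg.Agent.Lib.Helper7.ChevBN0
import Cfsg.Agent.Lib.Helper7.ChevPar

/-! The Chevalley group is generated by the root elements of the fundamental roots and of their negatives
(helper11, on top of helper7's Chevalley library). -/

set_option autoImplicit false

namespace Cfsg.Agent.Lib.Helper11

open Cfsg Cfsg.Lie Matrix Cfsg.Agent.Lib.Helper7

section
variable (D : ChevalleyDatum) (hD : D ∈ [chevG2, chevB2, chevD4, chevF4, chevE6, chevE7, chevE8])
variable (F : Type*) [Field F]
include hD

/-- a subgroup of `GL` containing the fundamental root elements `x_{±p_j}(t)` contains `n_{p_j}` -/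
theorem nFund_mem_of_fund (P : Subgroup (GL D.Idx F))
    (hpos : ∀ j < D.rank, ∀ t : F, xGL D hD F (D.simple j) t ∈ P)
    (hneg : ∀ j < D.rank, ∀ t : F, xGL D hD F (D.neg (D.simple j)) t ∈ P)
    (j : ℕ) (hj : j < D.rank) : wordGL D hD F (D.nWord (D.simple j) 1) ∈ P := by
  rw [nGL_eq]
  exact Subgroup.mul_mem _ (Subgroup.mul_mem _ (hpos j hj _) (hneg j hj _)) (hpos j hj _)

/-- a subgroup of `GL` containing the fundamental root elements `x_{±p_j}(t)` contains every root element -/
theorem xGL_mem_of_fund (P : Subgroup (GL D.Idx F))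
    (hpos : ∀ j < D.rank, ∀ t : F, xGL D hD F (D.simple j) t ∈ P)
    (hneg : ∀ j < D.rank, ∀ t : F, xGL D hD F (D.neg (D.simple j)) t ∈ P) :
    ∀ (m : ℕ) (r : ℕ), r < D.nroots → (cabsL D r).sum ≤ m → ∀ t : F, xGL D hD F r t ∈ P := by
  intro m
  induction m using Nat.strong_induction_on with
  | _ m ih =>
    intro r hr hm t
    obtain ⟨j, hj, h | h | h⟩ := (descFacts_of_mem D hD).descent r hr
    · rw [h]; exact hpos j hj t
    · rw [h]; exact hneg j hj t
    · have hC := conjFacts_of_mem D hD j hj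
      have hr' := hC.wlt r hr
      have h1 : ∀ t : F, xGL D hD F (D.reflectRoot j r) t ∈ P :=
        fun t => ih _ (lt_of_lt_of_le h hm) _ hr' le_rfl t
      have := xGL_reflect_mem D hD F P j hj (nFund_mem_of_fund D hD F P hpos hneg j hj) _ hr' h1 t
      rwa [hC.winv r hr] at this

/-- a subgroup of `GL` containing the fundamental root elements `x_{±p_j}(t)` contains the Chevalley group -/
theorem group_le_of_fund (P : Subgroup (GL D.Idx F))
    (hpos : ∀ j < D.rank, ∀ t : F, xGL D hD F (D.simple j) t ∈ P)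
    (hneg : ∀ j < D.rank, ∀ t : F, xGL D hD F (D.neg (D.simple j)) t ∈ P) :
    D.group F ≤ P := by
  unfold ChevalleyDatum.group
  rw [Subgroup.closure_le]
  rintro g ⟨r, t, hg⟩
  have hgx : g = xGL D hD F r.val t := Units.ext (by rw [hg, coe_xGL, x_eq_xMat D F r.val r.isLt])
  rw [hgx]
  exact xGL_mem_of_fund D hD F P hpos hneg _ r.val r.isLt le_rfl t

/-- the element of the Chevalley group with matrix `x_r(t)` -/
noncomputable def xG (r : ℕ) (t : F) : ↥(D.group F) := ⟨xGL D hD F r t, xGL_mem_group D hD F r t⟩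

theorem coe_xG (r : ℕ) (t : F) : ((xG D hD F r t : ↥(D.group F)) : GL D.Idx F) = xGL D hD F r t := rfl

theorem coe_coe_xG (r : ℕ) (t : F) :
    (((xG D hD F r t : ↥(D.group F)) : GL D.Idx F) : Matrix D.Idx D.Idx F) = D.x F r t := rfl

theorem eq_xG_of_coe (g : ↥(D.group F)) (r : ℕ) (t : F)
    (h : ((g : GL D.Idx F) : Matrix D.Idx D.Idx F) = D.x F r t) : g = xG D hD F r t :=
  Subtype.ext (Units.ext h)

/-- a subgroup of the Chevalley group containing the fundamental root elements `x_{±p_j}(t)` is everything -/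
theorem eq_top_of_fund (Q : Subgroup ↥(D.group F))
    (hpos : ∀ j < D.rank, ∀ t : F, xG D hD F (D.simple j) t ∈ Q)
    (hneg : ∀ j < D.rank, ∀ t : F, xG D hD F (D.neg (D.simple j)) t ∈ Q) : Q = ⊤ := by
  rw [eq_top_iff]
  intro g _
  have hle : D.group F ≤ Q.map (D.group F).subtype := by
    apply group_le_of_fund D hD F
    · intro j hj t
      exact ⟨xG D hD F (D.simple j) t, hpos j hj t, rfl⟩
    · intro j hj t
      exact ⟨xG D hD F (D.neg (D.simple j)) t, hneg j hj t, rfl⟩
  obtain ⟨g', hg', hgg'⟩ := hle g.2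
  have : g' = g := Subtype.ext hgg'
  rwa [← this]

/-- two homomorphisms from the Chevalley group agreeing on the fundamental root elements `x_{±p_j}(t)`
are equal -/
theorem hom_ext_of_fund {M : Type*} [Monoid M] (f g : ↥(D.group F) →* M)
    (hpos : ∀ j < D.rank, ∀ t : F, f (xG D hD F (D.simple j) t) = g (xG D hD F (D.simple j) t))
    (hneg : ∀ j < D.rank, ∀ t : F,
      f (xG D hD F (D.neg (D.simple j)) t) = g (xG D hD F (D.neg (D.simple j)) t)) : f = g := by
  have h := eq_top_of_fund D hD F (MonoidHom.eqLocus f g) hpos hneg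
  ext y
  have : y ∈ MonoidHom.eqLocus f g := by rw [h]; trivial
  exact this

end

end Cfsg.Agent.Lib.Helper11
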