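import Cfsg.Agent.Lib.Helper7.ChevCoef

/-! Table facts for: the centraliser of the unipotent radical `U_J` of a proper standard parabolic subgroup
of a Chevalley group lies in `U` (helper11, on top of helper7's Chevalley library). -/

set_option autoImplicit false

namespace Cfsg.Agent.Lib.Helper11.ChevParCent

open Cfsg Cfsg.Lie Cfsg.Agent.Lib.Helper7

/-! ### Table facts -/

/-- the `k`-th coroot coefficient of the root `r` -/
def cor (D : ChevalleyDatum) (r k : ℕ) : ℤ := (D.coroot.getD r #[]).getD k 0

/-- every root has a coroot coefficient or a Cartan integer equal to `±1` -/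
def unitEntryB (D : ChevalleyDatum) : Bool :=
  (List.range D.nroots).all fun s => (List.range D.rank).any fun k =>
    cor D s k == 1 || cor D s k == -1 || D.cartan k s == 1 || D.cartan k s == -1

/-- the sum of the rows of `W` -/
def wSum (D : ChevalleyDatum) (W : List (List ℤ)) : List ℤ :=
  (List.range D.rank).map fun c => ((List.range D.rank).map fun k => (W.getD k []).getD c 0).sum

/-- the functional `linF D w` is positive on the positive roots -/
def posWtB (D : ChevalleyDatum) (w : List ℤ) : Bool :=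
  (List.range D.nroots).all fun r => !decide (D.IsPosRoot r) || decide (1 ≤ linF D w r)

/-- for `i₀ ≠ i` some positive root involving `p_{i₀}` is lowered by the reflection `w_i` -/
def descB (D : ChevalleyDatum) (w : List ℤ) : Bool :=
  (List.range D.rank).all fun i0 => (List.range D.rank).all fun i => i0 == i ||
    (List.range D.nroots).any fun r => decide (D.IsPosRoot r) && cor D r i0 != 0 &&
      decide (linF D w (D.reflectRoot i r) < linF D w r)

/-- for `i₀ ≠ j` some positive root `r` involving `p_{i₀}` has `r + p_j` a positive root -/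
def stepB (D : ChevalleyDatum) : Bool :=
  (List.range D.rank).all fun i0 => (List.range D.rank).all fun j => i0 == j ||
    (List.range D.nroots).any fun r => decide (D.IsPosRoot r) && cor D r i0 != 0 &&
      match D.chainRoot (D.simple j) r 1 with
      | some r' => decide (D.IsPosRoot r') && cor D r' i0 != 0
      | none => false

def parCentOKB (D : ChevalleyDatum) (w : List ℤ) : Bool :=
  unitEntryB D && posWtB D w && descB D w && stepB D

structure ParCentFacts (D : ChevalleyDatum) (w : List ℤ) : Prop where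
  unit : ∀ s < D.nroots, ∃ k < D.rank,
    cor D s k = 1 ∨ cor D s k = -1 ∨ D.cartan k s = 1 ∨ D.cartan k s = -1
  pos : ∀ r, D.IsPosRoot r → 1 ≤ linF D w r
  desc : ∀ i0 < D.rank, ∀ i < D.rank, i0 ≠ i → ∃ r, D.IsPosRoot r ∧ cor D r i0 ≠ 0 ∧
    linF D w (D.reflectRoot i r) < linF D w r
  step : ∀ i0 < D.rank, ∀ j < D.rank, i0 ≠ j → ∃ r r', D.IsPosRoot r ∧ cor D r i0 ≠ 0 ∧
    D.chainRoot (D.simple j) r 1 = some r' ∧ D.IsPosRoot r' ∧ cor D r' i0 ≠ 0

theorem parCentFacts_of_OKB (D : ChevalleyDatum) (w : List ℤ) (h : parCentOKB D w = true) :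
    ParCentFacts D w := by
  unfold parCentOKB at h
  simp only [Bool.and_eq_true] at h
  obtain ⟨⟨⟨h1, h2⟩, h3⟩, h4⟩ := h
  refine ⟨?_, ?_, ?_, ?_⟩
  · intro s hs
    unfold unitEntryB at h1
    simp only [List.all_eq_true, List.mem_range, List.any_eq_true, Bool.or_eq_true, beq_iff_eq] at h1
    obtain ⟨k, hk, hk'⟩ := h1 s hs
    refine ⟨k, hk, ?_⟩
    rcases hk' with ((h | h) | h) | h
    · exact Or.inl h
    · exact Or.inr (Or.inl h)
    · exact Or.inr (Or.inr (Or.inl h))
    · exact Or.inr (Or.inr (Or.inr h))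
  · intro r hr
    unfold posWtB at h2
    simp only [List.all_eq_true, List.mem_range, Bool.or_eq_true, Bool.not_eq_true',
      decide_eq_false_iff_not, decide_eq_true_eq] at h2
    rcases h2 r hr.1 with h | h
    · exact absurd hr h
    · exact h
  · intro i0 hi0 i hi hne
    unfold descB at h3
    simp only [List.all_eq_true, List.mem_range, Bool.or_eq_true, beq_iff_eq, List.any_eq_true,
      Bool.and_eq_true, decide_eq_true_eq, bne_iff_ne] at h3
    rcases h3 i0 hi0 i hi with h | ⟨r, _, ⟨hr1, hr2⟩, hr3⟩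
    · exact absurd h hne
    · exact ⟨r, hr1, hr2, hr3⟩
  · intro i0 hi0 j hj hne
    unfold stepB at h4
    simp only [List.all_eq_true, List.mem_range, Bool.or_eq_true, beq_iff_eq, List.any_eq_true,
      Bool.and_eq_true, decide_eq_true_eq, bne_iff_ne] at h4
    rcases h4 i0 hi0 j hj with h | ⟨r, _, ⟨hr1, hr2⟩, hr3⟩
    · exact absurd h hne
    · cases hc : D.chainRoot (D.simple j) r 1 with
      | none => rw [hc] at hr3; exact absurd hr3 (by simp)
      | some r' =>
        rw [hc] at hr3
        simp only [Bool.and_eq_true, decide_eq_true_eq, bne_iff_ne] at hr3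
        exact ⟨r, r', hr1, hr2, hc, hr3.1, hr3.2⟩

theorem parCentOKB_G2 : parCentOKB chevG2 (wSum chevG2 coefW_G2) = true := by decide +kernel
theorem parCentOKB_B2 : parCentOKB chevB2 (wSum chevB2 coefW_B2) = true := by decide +kernel
theorem parCentOKB_D4 : parCentOKB chevD4 (wSum chevD4 coefW_D4) = true := by decide +kernel
theorem parCentOKB_F4 : parCentOKB chevF4 (wSum chevF4 coefW_F4) = true := by decide +kernel
theorem parCentOKB_E6 : parCentOKB chevE6 (wSum chevE6 coefW_E6) = true := by decide +kernel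
theorem parCentOKB_E7 : parCentOKB chevE7 (wSum chevE7 coefW_E7) = true := by decide +kernel
theorem parCentOKB_E8 : parCentOKB chevE8 (wSum chevE8 coefW_E8) = true := by decide +kernel

theorem exists_parCentFacts (D : ChevalleyDatum)
    (hD : D ∈ [chevG2, chevB2, chevD4, chevF4, chevE6, chevE7, chevE8]) :
    ∃ w : List ℤ, ParCentFacts D w :=
  mem_seven_cases (P := fun D => ∃ w : List ℤ, ParCentFacts D w)
    ⟨_, parCentFacts_of_OKB _ _ parCentOKB_G2⟩ ⟨_, parCentFacts_of_OKB _ _ parCentOKB_B2⟩
    ⟨_, parCentFacts_of_OKB _ _ parCentOKB_D4⟩ ⟨_, parCentFacts_of_OKB _ _ parCentOKB_F4⟩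
    ⟨_, parCentFacts_of_OKB _ _ parCentOKB_E6⟩ ⟨_, parCentFacts_of_OKB _ _ parCentOKB_E7⟩
    ⟨_, parCentFacts_of_OKB _ _ parCentOKB_E8⟩ D hD

end Cfsg.Agent.Lib.Helper11.ChevParCent
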