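import Cfsg.Agent.Lib.Helper7.ChevLevi3
import Cfsg.Agent.Lib.Helper7.ChevBV
import Cfsg.Agent.Lib.Helper11.ChevDiagMem
import Cfsg.Agent.Lib.Helper11.ChevFundGen
import Cfsg.Agent.Lib.Helper11.ChevParCentTab

/-! The centraliser of the unipotent radical `U_J` of a proper standard parabolic subgroup of a Chevalley
group lies in `U` (helper11, on top of helper7's Chevalley library). -/

set_option autoImplicit false

namespace Cfsg.Agent.Lib.Helper11.ChevParCent

open Cfsg Cfsg.Lie Matrix Cfsg.Agent.Lib.Helper7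
open Cfsg.Agent.Lib.Helper3.BN

section
variable (D : ChevalleyDatum) (hD : D ∈ [chevG2, chevB2, chevD4, chevF4, chevE6, chevE7, chevE8])
variable (F : Type*) [Field F]
variable (w : List ℤ) (hw : ParCentFacts D w)
include hD hw

/-! ### Levels with respect to the functional `linF D w` -/

theorem posUnipotent_le_unitriA :
    D.posUnipotent F ≤ unitriSubgroup (R := F) (lvlA D (linF D w)) (2 * bndA D (linF D w) + 1)
      (lvlA_lt D (linF D w)) 1 le_rfl := by
  unfold ChevalleyDatum.posUnipotent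
  rw [Subgroup.closure_le]
  rintro g ⟨r, t, hr, hg⟩
  show Level (lvlA D (linF D w)) 1 ((g : Matrix D.Idx D.Idx F) - 1)
  rw [hg, x_eq_xMat D F r hr.1]
  exact xMat_level D hD F (chainAdd_linF D hD w) ⟨r, hr.1⟩ t 1 le_rfl (by exact_mod_cast hw.pos r hr)

omit hD hw in
theorem level_zero_diagonal (d : D.Idx → F) :
    Level (lvlA D (linF D w)) 0 (Matrix.diagonal d) := by
  intro i j hij
  apply Matrix.diagonal_apply_ne
  rintro rfl
  omega

theorem level_zero_of_mem_posUnipotent (u : GL D.Idx F) (hu : u ∈ D.posUnipotent F) :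
    Level (lvlA D (linF D w)) 0 (u : Matrix D.Idx D.Idx F) := by
  have h1 : Level (lvlA D (linF D w)) 1 ((u : Matrix D.Idx D.Idx F) - 1) :=
    mem_unitriSubgroup.mp (posUnipotent_le_unitriA D hD F w hw hu)
  have h2 : (u : Matrix D.Idx D.Idx F) = ((u : Matrix D.Idx D.Idx F) - 1) + 1 := by
    rw [sub_add_cancel]
  rw [h2]
  exact (h1.mono (Nat.zero_le 1)).add Level.one

omit hw in
theorem level_zero_of_mem_diagonal (h : GL D.Idx F) (hh : h ∈ D.diagonalSubgroup F) :
    Level (lvlA D (linF D w)) 0 (h : Matrix D.Idx D.Idx F) := by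
  obtain ⟨χ, -, hhm⟩ := mem_diagonalSubgroup_char D hD F h hh
  rw [hhm]
  exact level_zero_diagonal D F w _

theorem level_zero_of_mem_borel (b : GL D.Idx F) (hb : b ∈ D.borelSubgroup F) :
    Level (lvlA D (linF D w)) 0 (b : Matrix D.Idx D.Idx F) := by
  have hb' : b ∈ ((D.borelSubgroup F : Subgroup (GL D.Idx F)) : Set (GL D.Idx F)) := hb
  rw [borel_eq_mul D hD F] at hb'
  obtain ⟨h, hh, u, hu, rfl⟩ := Set.mem_mul.mp hb'
  rw [Units.val_mul]
  have := (level_zero_of_mem_diagonal D hD F w h hh).mul (level_zero_of_mem_posUnipotent D hD F w hw u hu)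
  simpa using this

/-- conjugation by an element of `B` preserves levels -/
theorem level_conj_borel (b : GL D.Idx F) (hb : b ∈ D.borelSubgroup F) (x : GL D.Idx F) (m : ℕ)
    (hx : Level (lvlA D (linF D w)) m ((x : Matrix D.Idx D.Idx F) - 1)) :
    Level (lvlA D (linF D w)) m (((b * x * b⁻¹ : GL D.Idx F) : Matrix D.Idx D.Idx F) - 1) := by
  have e : ((b * x * b⁻¹ : GL D.Idx F) : Matrix D.Idx D.Idx F) - 1 =
      (b : Matrix D.Idx D.Idx F) * ((x : Matrix D.Idx D.Idx F) - 1) *
        ((b⁻¹ : GL D.Idx F) : Matrix D.Idx D.Idx F) := by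
    rw [Units.val_mul, Units.val_mul, Matrix.mul_sub, Matrix.sub_mul, Matrix.mul_one,
      ← Units.val_mul b b⁻¹, mul_inv_cancel, Units.val_one]
  rw [e]
  have h1 := level_zero_of_mem_borel D hD F w hw b hb
  have h2 := level_zero_of_mem_borel D hD F w hw b⁻¹ (Subgroup.inv_mem _ hb)
  have := (h1.mul hx).mul h2
  simpa using this

/-! ### Entries of low level vanish -/

omit hD hw in
/-- the level of a root vector -/
theorem lvlA_inr (s : ℕ) (hs : s < D.nroots) :
    ((lvlA D (linF D w) (Sum.inr ⟨s, hs⟩) : ℕ) : ℤ) = linF D w s + bndA D (linF D w) :=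
  lvlA_cast D (linF D w) _

omit hD hw in
theorem lvlA_inl (k : Fin D.rank) :
    ((lvlA D (linF D w) (Sum.inl k) : ℕ) : ℤ) = bndA D (linF D w) := by
  have := lvlA_cast D (linF D w) (Sum.inl k)
  rw [this]
  show (0 : ℤ) + _ = _
  rw [zero_add]

omit hw in
/-- a matrix of level `m > A(s)` has no entry in the positions where `x_s(c)` has its leading entries -/
theorem entries_eq_zero_of_level (s : ℕ) (hs : s < D.nroots) (m : ℕ) (hm : linF D w s < m)
    (N : Matrix D.Idx D.Idx F) (hN : Level (lvlA D (linF D w)) m N) (k : Fin D.rank) :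
    N (Sum.inl k) (Sum.inr ⟨D.neg s, (negOK_of_mem D hD s hs).1⟩) = 0 ∧
      N (Sum.inr ⟨s, hs⟩) (Sum.inl k) = 0 := by
  have hns : D.neg s < D.nroots := (negOK_of_mem D hD s hs).1
  have hA := chainAdd_linF D hD w
  have hneg : linF D w (D.neg s) = - linF D w s := hA.negA s hs hns
  constructor
  · apply hN
    have h1 := lvlA_inl D w k
    have h2 := lvlA_inr D w (D.neg s) hns
    have : ((lvlA D (linF D w) (Sum.inl k) : ℕ) : ℤ) <
        ((lvlA D (linF D w) (Sum.inr ⟨D.neg s, hns⟩) + m : ℕ) : ℤ) := by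
      push_cast
      rw [h1, h2, hneg]
      omega
    exact_mod_cast this
  · apply hN
    have h1 := lvlA_inl D w k
    have h2 := lvlA_inr D w s hs
    have : ((lvlA D (linF D w) (Sum.inr ⟨s, hs⟩) : ℕ) : ℤ) <
        ((lvlA D (linF D w) (Sum.inl k) + m : ℕ) : ℤ) := by
      push_cast
      rw [h1, h2]
      omega
    exact_mod_cast this

omit hw in
/-- the leading entries of `x_s(c) - x_s(c')` -/
theorem x_sub_entries (s : ℕ) (hs : s < D.nroots) (c c' : F) (k : Fin D.rank) :
    (D.x F s c - D.x F s c') (Sum.inl k) (Sum.inr ⟨D.neg s, (negOK_of_mem D hD s hs).1⟩) =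
        ((cor D s k : ℤ) : F) * (c - c') ∧
      (D.x F s c - D.x F s c') (Sum.inr ⟨s, hs⟩) (Sum.inl k) =
        - ((D.cartan k s : ℤ) : F) * (c - c') := by
  have hN := negOK_of_mem D hD s hs
  have hne : (⟨D.neg s, hN.1⟩ : Fin D.nroots) ≠ ⟨s, hs⟩ := fun h => hN.2 (Fin.mk.inj_iff.mp h)
  rw [x_eq_xMat D F s hs, x_eq_xMat D F s hs]
  constructor
  · rw [Matrix.sub_apply, xMat_inl_neg D F ⟨s, hs⟩ c ⟨D.neg s, hN.1⟩ hne rfl,
      xMat_inl_neg D F ⟨s, hs⟩ c' ⟨D.neg s, hN.1⟩ hne rfl]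
    unfold cor
    ring
  · rw [Matrix.sub_apply, xMat_inr_inl, xMat_inr_inl, if_pos rfl, if_pos rfl]
    unfold ChevalleyDatum.cartan
    ring

/-- if `x_s(c) - x_s(c')` has level `> A(s)` then `c = c'` -/
theorem eq_of_level_x_sub (s : ℕ) (hs : s < D.nroots) (m : ℕ) (hm : linF D w s < m) (c c' : F)
    (hN : Level (lvlA D (linF D w)) m (D.x F s c - D.x F s c')) : c = c' := by
  obtain ⟨k, hk, hu⟩ := hw.unit s hs
  have h0 := entries_eq_zero_of_level D hD F w s hs m hm _ hN ⟨k, hk⟩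
  have h1 := x_sub_entries D hD F s hs c c' ⟨k, hk⟩
  rw [h1.1] at h0
  rw [h1.2] at h0
  have : c - c' = 0 := by
    rcases hu with h | h | h | h
    · have := h0.1; rw [show cor D s (⟨k, hk⟩ : Fin D.rank) = cor D s k from rfl, h] at this
      linear_combination this
    · have := h0.1; rw [show cor D s (⟨k, hk⟩ : Fin D.rank) = cor D s k from rfl, h] at this
      push_cast at this
      linear_combination -this
    · have := h0.2; rw [show D.cartan (⟨k, hk⟩ : Fin D.rank) s = D.cartan k s from rfl, h] at this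
      push_cast at this
      linear_combination -this
    · have := h0.2; rw [show D.cartan (⟨k, hk⟩ : Fin D.rank) s = D.cartan k s from rfl, h] at this
      push_cast at this
      linear_combination this
  exact sub_eq_zero.mp this

end

/-! ### Elements acting on `U_J` like an element of `B` -/

section
variable (D : ChevalleyDatum) (hD : D ∈ [chevG2, chevB2, chevD4, chevF4, chevE6, chevE7, chevE8])
variable (F : Type*) [Field F]
include hD

theorem borel_conj_mem_uJ (J : Set ℕ) (b : GL D.Idx F) (hb : b ∈ D.borelSubgroup F)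
    (x : GL D.Idx F) (hx : x ∈ D.unipotentRadical F J) : b * x * b⁻¹ ∈ D.unipotentRadical F J := by
  obtain ⟨W, hW⟩ := exists_coefW D hD
  have hBP : D.borelSubgroup F ≤ D.parabolicSubgroup F J := le_sup_left
  have h := parabolic_le_normalizer_uJ D hD F W hW J (hBP hb)
  rw [Subgroup.mem_set_normalizer_iff] at h
  exact (h _).mp hx

/-- the elements of `GL` acting on `U_J` by conjugation like some element of `B` -/
def agreeSub (J : Set ℕ) : Subgroup (GL D.Idx F) where
  carrier := {g | ∃ b ∈ D.borelSubgroup F, ∀ x ∈ D.unipotentRadical F J, g * x * g⁻¹ = b * x * b⁻¹}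
  one_mem' := ⟨1, Subgroup.one_mem _, fun _ _ => rfl⟩
  mul_mem' := by
    rintro g1 g2 ⟨b1, hb1, h1⟩ ⟨b2, hb2, h2⟩
    refine ⟨b1 * b2, Subgroup.mul_mem _ hb1 hb2, fun x hx => ?_⟩
    have hy := borel_conj_mem_uJ D hD F J b2 hb2 x hx
    calc g1 * g2 * x * (g1 * g2)⁻¹ = g1 * (g2 * x * g2⁻¹) * g1⁻¹ := by group
      _ = g1 * (b2 * x * b2⁻¹) * g1⁻¹ := by rw [h2 x hx]
      _ = b1 * (b2 * x * b2⁻¹) * b1⁻¹ := h1 _ hy
      _ = b1 * b2 * x * (b1 * b2)⁻¹ := by group
  inv_mem' := by
    rintro g ⟨b, hb, h⟩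
    refine ⟨b⁻¹, Subgroup.inv_mem _ hb, fun x hx => ?_⟩
    have hy := borel_conj_mem_uJ D hD F J b⁻¹ (Subgroup.inv_mem _ hb) x hx
    have h1 := h _ hy
    have e : b * (b⁻¹ * x * b⁻¹⁻¹) * b⁻¹ = x := by group
    rw [e] at h1
    calc g⁻¹ * x * g⁻¹⁻¹ = g⁻¹ * (g * (b⁻¹ * x * b⁻¹⁻¹) * g⁻¹) * g⁻¹⁻¹ := by rw [h1]
      _ = b⁻¹ * x * b⁻¹⁻¹ := by group

theorem mem_agreeSub (J : Set ℕ) (g : GL D.Idx F) :
    g ∈ agreeSub D hD F J ↔
      ∃ b ∈ D.borelSubgroup F, ∀ x ∈ D.unipotentRadical F J, g * x * g⁻¹ = b * x * b⁻¹ := Iff.rfl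

theorem borel_le_agreeSub (J : Set ℕ) : D.borelSubgroup F ≤ agreeSub D hD F J :=
  fun b hb => ⟨b, hb, fun _ _ => rfl⟩

theorem centralizer_le_agreeSub (J : Set ℕ) :
    Subgroup.centralizer (D.unipotentRadical F J : Set (GL D.Idx F)) ≤ agreeSub D hD F J := by
  intro g hg
  refine ⟨1, Subgroup.one_mem _, fun x hx => ?_⟩
  have := Subgroup.mem_centralizer_iff.mp hg x hx
  calc g * x * g⁻¹ = x * g * g⁻¹ := by rw [this]
    _ = 1 * x * 1⁻¹ := by group

end

section
variable (D : ChevalleyDatum) (hD : D ∈ [chevG2, chevB2, chevD4, chevF4, chevE6, chevE7, chevE8])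
variable (F : Type*) [Field F]
variable (w : List ℤ) (hw : ParCentFacts D w)
include hD hw

/-- no fundamental reflection acts on `U_J` like an element of `B` when `J` is proper -/
theorem nFund_not_mem_agreeSub (J : Set ℕ) (i0 : ℕ) (hi0 : i0 < D.rank) (hi0J : i0 ∉ J)
    (i : ℕ) (hi : i < D.rank) : nFund D hD F i ∉ agreeSub D hD F J := by
  rintro ⟨b, hb, hbx⟩
  obtain ⟨r, hrpos, hrJ, hlt⟩ : ∃ r, D.IsPosRoot r ∧ ¬ D.InRootSub J r ∧
      linF D w (D.reflectRoot i r) < linF D w r := by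
    by_cases hiJ : i ∈ J
    · have hne : i0 ≠ i := fun h => hi0J (h ▸ hiJ)
      obtain ⟨r, hr, hc, hl⟩ := hw.desc i0 hi0 i hi hne
      exact ⟨r, hr, fun hin => hc (hin.2 i0 hi0 hi0J), hl⟩
    · have hF := fundFacts_of_mem D hD i hi
      have hpos := (parFacts_of_mem D hD).simplePos i hi
      refine ⟨D.simple i, hpos, ?_, ?_⟩
      · intro hin
        have := hin.2 i hi hiJ
        rw [hF.corUnit i hi, if_pos rfl] at this
        exact one_ne_zero this
      · rw [reflectRoot_simple]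
        have hA := chainAdd_linF D hD w
        rw [hA.negA _ hF.hp hF.hpb]
        have := hw.pos _ hpos
        omega
  have hr := hrpos.1
  have hC := conjFacts_of_mem D hD i hi
  have hr' := hC.wlt r hr
  have hx : xGL D hD F r 1 ∈ D.unipotentRadical F J :=
    Subgroup.subset_closure ⟨r, 1, hrpos, hrJ, coe_xGL D hD F _ _⟩
  have h1 := hbx _ hx
  rw [nFund_conj_xGL D hD F i hi r hr 1] at h1
  have hApos := hw.pos r hrpos
  obtain ⟨m, hm⟩ : ∃ m : ℕ, (m : ℤ) = linF D w r :=
    ⟨(linF D w r).toNat, Int.toNat_of_nonneg (by omega)⟩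
  have hlev : Level (lvlA D (linF D w)) m ((xGL D hD F r 1 : Matrix D.Idx D.Idx F) - 1) := by
    rw [coe_xGL, x_eq_xMat D F r hr]
    exact xMat_level D hD F (chainAdd_linF D hD w) ⟨r, hr⟩ 1 m (by omega) (by show (m : ℤ) ≤ linF D w r; omega)
  have hlev2 := level_conj_borel D hD F w hw b hb _ m hlev
  rw [← h1, coe_xGL] at hlev2
  have hlev3 : Level (lvlA D (linF D w)) m
      (D.x F (D.reflectRoot i r) (((etaFn D i r : ℤ) : F) * 1) - D.x F (D.reflectRoot i r) 0) := by
    rw [x_zero]; exact hlev2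
  have h2 := eq_of_level_x_sub D hD F w hw _ hr' m (by omega) _ _ hlev3
  rcases hC.ηpm r hr with h | h <;> rw [h] at h2 <;> simp at h2

/-- the centraliser in `G` of the unipotent radical of a proper parabolic subgroup lies in `B` -/
theorem centralizer_uJ_inf_group_le_borel (J : Set ℕ) (i0 : ℕ) (hi0 : i0 < D.rank) (hi0J : i0 ∉ J) :
    Subgroup.centralizer (D.unipotentRadical F J : Set (GL D.Idx F)) ⊓ D.group F ≤
      D.borelSubgroup F := by
  intro g hg
  rw [Subgroup.mem_inf] at hg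
  obtain ⟨P, hP⟩ : ∃ P, P = chevBNPair D hD F := ⟨_, rfl⟩
  obtain ⟨M, hMdef⟩ : ∃ M : Subgroup ↥(D.group F), M =
      (agreeSub D hD F J).subgroupOf (D.group F) := ⟨_, rfl⟩
  have hPB : ∀ g : ↥(D.group F), g ∈ P.B ↔ (g : GL D.Idx F) ∈ D.borelSubgroup F := by
    rw [hP]; intro g; rw [chevBNPair_B, Subgroup.mem_subgroupOf]
  have hM : P.B ≤ M := by
    intro b hb
    rw [hMdef, Subgroup.mem_subgroupOf]
    exact borel_le_agreeSub D hD F J ((hPB b).mp hb)
  have h1 := subgroup_eq_parabolic P M hM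
  have hgM : (⟨g, hg.2⟩ : ↥(D.group F)) ∈ M := by
    rw [hMdef, Subgroup.mem_subgroupOf]; exact centralizer_le_agreeSub D hD F J hg.1
  rw [h1] at hgM
  have hle : P.parabolic {s | s ∈ P.S ∧ s ∈ M} ≤ (D.borelSubgroup F).subgroupOf (D.group F) := by
    unfold BNPair.parabolic
    apply sup_le
    · intro b hb
      rw [Subgroup.mem_subgroupOf]
      exact (hPB b).mp hb
    · rw [Subgroup.closure_le]
      rintro s ⟨hs, hsM⟩
      exfalso
      have hs' : s ∈ fundSet D F := by rw [hP] at hs; exact hs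
      obtain ⟨i, hi, hsm⟩ := hs'
      have hsn := coe_eq_nFund_of_mem_fundSet D hD F s i hsm
      rw [hMdef, Subgroup.mem_subgroupOf, hsn] at hsM
      exact nFund_not_mem_agreeSub D hD F w hw J i0 hi0 hi0J i hi hsM
  have := hle hgM
  rw [Subgroup.mem_subgroupOf] at this
  exact this

/-! ### From `B` to `U` -/

/-- a diagonal element whose character is trivial on the fundamental roots is trivial -/
theorem eq_one_of_char_fund (χ : ℕ → F) (hχ : ChainChar D F χ) (h : GL D.Idx F)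
    (hh : (h : Matrix D.Idx D.Idx F) = diagChar D F χ)
    (h1 : ∀ j < D.rank, χ (D.simple j) = 1) : h = 1 := by
  have hcomm : ∀ r < D.nroots, ∀ t : F,
      xGL D hD F r t ∈ Subgroup.centralizer ({h} : Set (GL D.Idx F)) := by
    intro r hr t
    refine xGL_mem_of_fund D hD F (Subgroup.centralizer {h}) ?_ ?_ _ r hr le_rfl t
    · intro j hj t
      rw [Subgroup.mem_centralizer_iff]
      intro y hy
      rw [Set.mem_singleton_iff] at hy
      rw [hy, diagGL_xGL_comm D hD F h χ hχ hh, h1 j hj, one_mul]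
    · intro j hj t
      have hF := fundFacts_of_mem D hD j hj
      rw [Subgroup.mem_centralizer_iff]
      intro y hy
      rw [Set.mem_singleton_iff] at hy
      rw [hy, diagGL_xGL_comm D hD F h χ hχ hh, hχ.negC _ hF.hp hF.hpb, h1 j hj, inv_one, one_mul]
  have hχ1 : ∀ s < D.nroots, χ s = 1 := by
    intro s hs
    have h2 := Subgroup.mem_centralizer_iff.mp (hcomm s hs 1) h rfl
    rw [diagGL_xGL_comm D hD F h χ hχ hh] at h2
    have h3 : xGL D hD F s (χ s * 1) = xGL D hD F s 1 := mul_right_cancel h2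
    have h4 : D.x F s (χ s * 1) - D.x F s 1 = 0 := by
      rw [← coe_xGL D hD F, ← coe_xGL D hD F, h3, sub_self]
    have h5 : Level (lvlA D (linF D w)) ((linF D w s).toNat + 1)
        (D.x F s (χ s * 1) - D.x F s 1) := by
      rw [h4]; exact Level.zero _
    have := eq_of_level_x_sub D hD F w hw s hs ((linF D w s).toNat + 1) (by omega) _ _ h5
    rwa [mul_one] at this
  apply Units.ext
  rw [hh, Units.val_one]
  unfold diagChar
  rw [← Matrix.diagonal_one]
  congr 1
  funext x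
  rcases x with j | u
  · rfl
  · exact hχ1 u.val u.isLt

/-- an element of `B` centralising the unipotent radical of a proper parabolic subgroup lies in `U` -/
theorem centralizer_uJ_inf_borel_le (J : Set ℕ) (i0 : ℕ) (hi0 : i0 < D.rank) (hi0J : i0 ∉ J) :
    Subgroup.centralizer (D.unipotentRadical F J : Set (GL D.Idx F)) ⊓ D.borelSubgroup F ≤
      D.posUnipotent F := by
  intro g hg
  rw [Subgroup.mem_inf] at hg
  obtain ⟨hgc, hgB⟩ := hg
  have hb' : g ∈ ((D.borelSubgroup F : Subgroup (GL D.Idx F)) : Set (GL D.Idx F)) := hgB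
  rw [borel_eq_mul D hD F] at hb'
  obtain ⟨h, hh, u, hu, rfl⟩ := Set.mem_mul.mp hb'
  obtain ⟨χ, hχ, hhχ⟩ := mem_diagonalSubgroup_char D hD F h⁻¹ (Subgroup.inv_mem _ hh)
  have key : ∀ r, D.IsPosRoot r → ¬ D.InRootSub J r → χ r = 1 := by
    intro r hrpos hrJ
    have hr := hrpos.1
    have hx : xGL D hD F r 1 ∈ D.unipotentRadical F J :=
      Subgroup.subset_closure ⟨r, 1, hrpos, hrJ, coe_xGL D hD F _ _⟩
    have h1 := Subgroup.mem_centralizer_iff.mp hgc _ hx
    have h2 := diagGL_xGL_comm D hD F h⁻¹ χ hχ hhχ r 1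
    have h3 : xGL D hD F r (χ r * 1) * u = u * xGL D hD F r 1 := by
      calc xGL D hD F r (χ r * 1) * u = (xGL D hD F r (χ r * 1) * h⁻¹) * (h * u) := by group
        _ = h⁻¹ * xGL D hD F r 1 * (h * u) := by rw [h2]
        _ = h⁻¹ * (xGL D hD F r 1 * (h * u)) := by group
        _ = h⁻¹ * ((h * u) * xGL D hD F r 1) := by rw [h1]
        _ = u * xGL D hD F r 1 := by group
    have hApos := hw.pos r hrpos
    obtain ⟨m, hm⟩ : ∃ m : ℕ, (m : ℤ) = linF D w r :=
      ⟨(linF D w r).toNat, Int.toNat_of_nonneg (by omega)⟩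
    have hX : Level (lvlA D (linF D w)) m (D.x F r 1 - 1) := by
      rw [x_eq_xMat D F r hr]
      exact xMat_level D hD F (chainAdd_linF D hD w) ⟨r, hr⟩ 1 m (by omega) (by show (m : ℤ) ≤ linF D w r; omega)
    have hU : Level (lvlA D (linF D w)) 1 ((u : Matrix D.Idx D.Idx F) - 1) :=
      mem_unitriSubgroup.mp (posUnipotent_le_unitriA D hD F w hw hu)
    have hUi : Level (lvlA D (linF D w)) 0 ((u⁻¹ : GL D.Idx F) : Matrix D.Idx D.Idx F) :=
      level_zero_of_mem_posUnipotent D hD F w hw u⁻¹ (Subgroup.inv_mem _ hu)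
    have h4 : D.x F r (χ r * 1) * (u : Matrix D.Idx D.Idx F) =
        (u : Matrix D.Idx D.Idx F) * D.x F r 1 := by
      have := congrArg (fun g : GL D.Idx F => (g : Matrix D.Idx D.Idx F)) h3
      simpa only [Units.val_mul, coe_xGL] using this
    have h5 : D.x F r (χ r * 1) - D.x F r 1 =
        (((u : Matrix D.Idx D.Idx F) - 1) * (D.x F r 1 - 1) -
          (D.x F r 1 - 1) * ((u : Matrix D.Idx D.Idx F) - 1)) *
          ((u⁻¹ : GL D.Idx F) : Matrix D.Idx D.Idx F) := by
      have e1 : ((u : Matrix D.Idx D.Idx F) - 1) * (D.x F r 1 - 1) -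
          (D.x F r 1 - 1) * ((u : Matrix D.Idx D.Idx F) - 1) =
          (u : Matrix D.Idx D.Idx F) * D.x F r 1 - D.x F r 1 * (u : Matrix D.Idx D.Idx F) := by
        noncomm_ring
      rw [e1, ← h4, ← Matrix.sub_mul, Matrix.mul_assoc, ← Units.val_mul, mul_inv_cancel,
        Units.val_one, Matrix.mul_one]
    have h6 : Level (lvlA D (linF D w)) (m + 1) (D.x F r (χ r * 1) - D.x F r 1) := by
      rw [h5]
      have a := hU.mul hX
      have b := hX.mul hU
      have c := (a.mono (by omega : m + 1 ≤ 1 + m)).sub b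
      have d := c.mul hUi
      simpa using d
    have := eq_of_level_x_sub D hD F w hw r hr (m + 1) (by omega) _ _ h6
    rwa [mul_one] at this
  have hsimple : ∀ j < D.rank, χ (D.simple j) = 1 := by
    intro j hj
    have hF := fundFacts_of_mem D hD j hj
    by_cases hjJ : j ∈ J
    · have hne : i0 ≠ j := fun h => hi0J (h ▸ hjJ)
      obtain ⟨r, r', hr, hc, hch, hr', hc'⟩ := hw.step i0 hi0 j hj hne
      have e1 := key r hr (fun hin => hc (hin.2 i0 hi0 hi0J))
      have e2 := key r' hr' (fun hin => hc' (hin.2 i0 hi0 hi0J))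
      obtain ⟨M, hM⟩ := chainRoot_mem_ccAll D hD (D.simple j) r 1 r' hF.hp le_rfl hch
      have := hχ.addC (D.simple j) hF.hp r hr.1 _ hM hr'.1
      simp only [e1, e2, one_mul, pow_one] at this
      exact this.symm
    · apply key _ ((parFacts_of_mem D hD).simplePos j hj)
      intro hin
      have := hin.2 j hj hjJ
      rw [hF.corUnit j hj, if_pos rfl] at this
      exact one_ne_zero this
  have hh1 : h⁻¹ = 1 := eq_one_of_char_fund D hD F w hw χ hχ h⁻¹ hhχ hsimple
  have : h = 1 := inv_eq_one.mp hh1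
  rw [this, one_mul]; exact hu

/-- **the centraliser in `G` of the unipotent radical of a proper parabolic subgroup lies in `U`** -/
theorem centralizer_uJ_inf_group_le_posUnipotent (J : Set ℕ) (i0 : ℕ) (hi0 : i0 < D.rank)
    (hi0J : i0 ∉ J) :
    Subgroup.centralizer (D.unipotentRadical F J : Set (GL D.Idx F)) ⊓ D.group F ≤
      D.posUnipotent F := by
  intro g hg
  apply centralizer_uJ_inf_borel_le D hD F w hw J i0 hi0 hi0J
  exact Subgroup.mem_inf.mpr ⟨(Subgroup.mem_inf.mp hg).1,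
    centralizer_uJ_inf_group_le_borel D hD F w hw J i0 hi0 hi0J hg⟩

end

end Cfsg.Agent.Lib.Helper11.ChevParCent
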