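/-
helper11: wrappers around `ChevParCent` for the block-theoretic market S2441: inside a Chevalley group `G`
of one of the seven tabulated types, an element centralising (a conjugate of) the unipotent radical `U_J` of
a proper standard parabolic subgroup is a `p`-element; a `p`-regular such element is trivial.
-/
import Cfsg.Agent.Lib.Helper11.ChevParCent
import Cfsg.Agent.Lib.Helper7.ChevOrd3

set_option autoImplicit false

namespace Cfsg.Agent.Lib.Helper11.ChevCentU

open Cfsg Cfsg.Lie Matrix Cfsg.Agent.Lib.Helper7 Cfsg.Agent.Lib.Helper11.ChevParCent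
  Cfsg.Agent.Lib.Helper11.ChevDiagMem

section
variable (D : ChevalleyDatum) (hD : D ∈ [chevG2, chevB2, chevD4, chevF4, chevE6, chevE7, chevE8])
variable (F : Type*) [Field F]

/-- `U_J ≤ U` -/
theorem unipotentRadical_le_posUnipotent (J : Set ℕ) :
    D.unipotentRadical F J ≤ D.posUnipotent F := by
  unfold ChevalleyDatum.unipotentRadical ChevalleyDatum.posUnipotent
  apply Subgroup.closure_mono
  rintro g ⟨r, t, hr, -, hg⟩
  exact ⟨r, t, hr, hg⟩

include hD

/-- `0 < rank` for the seven types -/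
theorem rank_pos : 0 < D.rank := by
  simp only [List.mem_cons, List.mem_nil_iff, or_false] at hD
  rcases hD with rfl | rfl | rfl | rfl | rfl | rfl | rfl <;> decide

/-- `U ≤ G` -/
theorem posUnipotent_le_group : D.posUnipotent F ≤ D.group F :=
  (le_sup_left : D.posUnipotent F ≤ D.borelSubgroup F).trans (borel_le_group D hD F)

/-- **(W1)** an element of `G` commuting with every element of `U_J` (`J` proper) lies in `U` -/
theorem mem_posUnipotent_of_centralizes_uJ (J : Set ℕ) (hJ : ∃ i, i < D.rank ∧ i ∉ J)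
    (x : GL D.Idx F) (hx : x ∈ D.group F)
    (hc : ∀ u ∈ D.unipotentRadical F J, x * u = u * x) : x ∈ D.posUnipotent F := by
  obtain ⟨i0, hi0, hi0J⟩ := hJ
  obtain ⟨w, hw⟩ := exists_parCentFacts D hD
  apply centralizer_uJ_inf_group_le_posUnipotent D hD F w hw J i0 hi0 hi0J
  refine Subgroup.mem_inf.mpr ⟨?_, hx⟩
  rw [Subgroup.mem_centralizer_iff]
  intro u hu
  exact (hc u hu).symm

/-- an element of `G` commuting with every element of `U` lies in `U` -/
theorem mem_posUnipotent_of_centralizes_U (x : GL D.Idx F) (hx : x ∈ D.group F)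
    (hc : ∀ u ∈ D.posUnipotent F, x * u = u * x) : x ∈ D.posUnipotent F := by
  apply mem_posUnipotent_of_centralizes_uJ D hD F (∅ : Set ℕ) ⟨0, rank_pos D hD, by simp⟩ x hx
  intro u hu
  rw [unipotentRadical_empty D hD F] at hu
  exact hc u hu

variable [Fintype F] (p : ℕ) [Fact p.Prime] [CharP F p]

omit [Fact p.Prime] in
/-- **(W4)** `U` is a `p`-group -/
theorem isPGroup_posUnipotent : IsPGroup p ↥(D.posUnipotent F) := by
  obtain ⟨n, hp, hq⟩ := FiniteField.card F p
  apply IsPGroup.of_card (n := n * (D.nroots / 2))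
  rw [card_posUnipotent D hD F, hq, pow_mul]

omit [Fact p.Prime] in
/-- **(W4)** `U`, as a subgroup of `G`, is a `p`-group -/
theorem isPGroup_posUnipotent_subgroupOf :
    IsPGroup p ↥((D.posUnipotent F).subgroupOf (D.group F)) := by
  rintro ⟨c, hc⟩
  obtain ⟨k, hk⟩ := isPGroup_posUnipotent D hD F p ⟨(c : GL D.Idx F), Subgroup.mem_subgroupOf.mp hc⟩
  refine ⟨k, ?_⟩
  apply Subtype.ext
  apply Subtype.ext
  have := congrArg Subtype.val hk
  simpa using this

/-- a `p`-regular element of `G` whose matrix lies in `U` is trivial -/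
theorem eq_one_of_pregular_of_mem_posUnipotent (y : ↥(D.group F)) (hreg : ¬ p ∣ orderOf y)
    (hy : (y : GL D.Idx F) ∈ D.posUnipotent F) : y = 1 := by
  obtain ⟨k, hk⟩ := isPGroup_posUnipotent D hD F p ⟨(y : GL D.Idx F), hy⟩
  have hk' : y ^ p ^ k = 1 := by
    apply Subtype.ext
    have := congrArg Subtype.val hk
    simpa using this
  have hdvd : orderOf y ∣ p ^ k := orderOf_dvd_of_pow_eq_one hk'
  obtain ⟨j, -, hj⟩ := (Nat.dvd_prime_pow (Fact.out : p.Prime)).mp hdvd
  rcases Nat.eq_zero_or_pos j with rfl | hjpos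
  · rw [pow_zero] at hj
    exact orderOf_eq_one_iff.mp hj
  · exfalso
    apply hreg
    rw [hj]
    exact dvd_pow_self p (by omega)

/-- **(W2)** a `p`-regular element of `G` commuting with every element of `g U_J g⁻¹` (`J` proper,
`g ∈ G`) is trivial -/
theorem eq_one_of_pregular_of_centralizes_conj_uJ (J : Set ℕ) (hJ : ∃ i, i < D.rank ∧ i ∉ J)
    (g x : ↥(D.group F)) (hreg : ¬ p ∣ orderOf x)
    (hc : ∀ u : ↥(D.group F), (u : GL D.Idx F) ∈ D.unipotentRadical F J →
      x * (g * u * g⁻¹) = (g * u * g⁻¹) * x) : x = 1 := by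
  -- `y = g⁻¹ x g` centralises `U_J`
  have hy : ((g⁻¹ * x * g : ↥(D.group F)) : GL D.Idx F) ∈ D.posUnipotent F := by
    apply mem_posUnipotent_of_centralizes_uJ D hD F J hJ _ (g⁻¹ * x * g).2
    intro u hu
    have huG : u ∈ D.group F :=
      posUnipotent_le_group D hD F (unipotentRadical_le_posUnipotent D F J hu)
    have h := hc ⟨u, huG⟩ hu
    have h2 : (g⁻¹ * x * g) * (⟨u, huG⟩ : ↥(D.group F)) = ⟨u, huG⟩ * (g⁻¹ * x * g) := by
      have e1 : (g⁻¹ * x * g) * (⟨u, huG⟩ : ↥(D.group F)) =
          g⁻¹ * (x * (g * ⟨u, huG⟩ * g⁻¹)) * g := by group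
      have e2 : (⟨u, huG⟩ : ↥(D.group F)) * (g⁻¹ * x * g) =
          g⁻¹ * ((g * ⟨u, huG⟩ * g⁻¹) * x) * g := by group
      rw [e1, e2, h]
    exact congrArg Subtype.val h2
  have hord : orderOf (g⁻¹ * x * g) = orderOf x := by
    have : g⁻¹ * x * g = MulAut.conj g⁻¹ x := by simp
    rw [this, MulEquiv.orderOf_eq]
  have h1 := eq_one_of_pregular_of_mem_posUnipotent D hD F p (g⁻¹ * x * g) (by rw [hord]; exact hreg) hy
  have : x = g * (g⁻¹ * x * g) * g⁻¹ := by group
  rw [this, h1]; group

/-- **(W3)** a `p`-regular element of `G` commuting with every element of `U` is trivial -/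
theorem eq_one_of_pregular_of_centralizes_U (x : ↥(D.group F)) (hreg : ¬ p ∣ orderOf x)
    (hc : ∀ u : ↥(D.group F), (u : GL D.Idx F) ∈ D.posUnipotent F → x * u = u * x) : x = 1 := by
  apply eq_one_of_pregular_of_mem_posUnipotent D hD F p x hreg
  apply mem_posUnipotent_of_centralizes_U D hD F _ x.2
  intro u hu
  have huG : u ∈ D.group F := posUnipotent_le_group D hD F hu
  exact congrArg Subtype.val (hc ⟨u, huG⟩ hu)

/-- **(W3')** in subgroup form: a `p`-regular element of the centraliser in `G` of `U` (as a subgroup of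
`G`) is trivial -/
theorem eq_one_of_pregular_of_mem_centralizer_U (x : ↥(D.group F)) (hreg : ¬ p ∣ orderOf x)
    (hx : x ∈ Subgroup.centralizer
      (((D.posUnipotent F).subgroupOf (D.group F) : Subgroup ↥(D.group F)) : Set ↥(D.group F))) :
    x = 1 := by
  apply eq_one_of_pregular_of_centralizes_U D hD F p x hreg
  intro u hu
  exact (Subgroup.mem_centralizer_iff.mp hx u (Subgroup.mem_subgroupOf.mpr hu)).symm

end

end Cfsg.Agent.Lib.Helper11.ChevCentU
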