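import Cfsg.Prelude.Def_ChevAutomorphisms
import Cfsg.Agent.Lib.Helper7.ChevDiag
import Cfsg.Agent.Lib.Helper7.ChevAddMain

/-!
Root characters (`Cfsg.Lie.ChevalleyDatum.IsRootCharacter`) of the seven tabulated Chevalley data are chain
characters in the sense of helper7's `ChainChar`; conjugation of root elements by `charDiag` (helper11).
-/

set_option autoImplicit false

namespace Cfsg.Agent.Lib.Helper11.ChevRootChar

open Cfsg Cfsg.Lie Cfsg.Agent.Lib.Helper7

/-- keys of the chain table of `r` are distinct when `rootOKB` holds -/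
theorem keys_nodup (D : ChevalleyDatum) (r : ℕ) (h : rootOKB D r = true) :
    ((D.chain.getD r #[]).toList.map Prod.fst).Nodup := by
  unfold rootOKB at h
  simp only [Bool.and_eq_true] at h
  exact (pairwise_of_sortedB _ h.1.2).imp (fun hab => ne_of_lt hab)

/-- relation between helper7's `ccAll` and the frozen `chainEntry` -/
theorem cc_entry (D : ChevalleyDatum) (r : ℕ) (h : rootOKB D r = true) (s : ℕ) :
    (ccAll D r s = [] ∧ D.chainEntry r s = []) ∨
    ∃ e ∈ (D.chain.getD r #[]).toList, e.1 = s ∧ ccAll D r s = entryList e ∧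
      D.chainEntry r s = e.2.toList := by
  have hnd := keys_nodup D r h
  by_cases hs : s ∈ (D.chain.getD r #[]).toList.map Prod.fst
  · right
    rw [List.mem_map] at hs
    obtain ⟨e, he, rfl⟩ := hs
    have hf := filter_key_eq_singleton _ hnd e he
    refine ⟨e, he, rfl, ?_, ?_⟩
    · unfold ccAll
      rw [hf]
      simp
    · unfold ChevalleyDatum.chainEntry
      have : (D.chain.getD r #[]).toList.find? (fun e' => e'.1 = e.1) = some e := by
        rw [← List.head?_filter, hf]
        rfl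
      rw [this]
  · left
    have hf : (D.chain.getD r #[]).toList.filter (fun e => e.1 = s) = [] := by
      rw [List.filter_eq_nil_iff]
      intro x hx hxe
      apply hs
      rw [List.mem_map]
      exact ⟨x, hx, by simpa using hxe⟩
    constructor
    · unfold ccAll
      rw [hf]; rfl
    · unfold ChevalleyDatum.chainEntry
      have : (D.chain.getD r #[]).toList.find? (fun e' => e'.1 = s) = none := by
        rw [← List.head?_filter, hf]
        rfl
      rw [this]

/-- the first triple of `ccAll D r s` gives `chainRoot r s 1` -/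
theorem chainRoot_one_of_cc (D : ChevalleyDatum) (r : ℕ) (h : rootOKB D r = true) (s : ℕ)
    (u k : ℕ) (M : ℤ) (T : List (ℕ × ℕ × ℤ)) (hT : ccAll D r s = (u, k, M) :: T) :
    D.chainRoot r s 1 = some u := by
  rcases cc_entry D r h s with ⟨h0, -⟩ | ⟨e, -, -, hcc, hce⟩
  · rw [h0] at hT; exact absurd hT (by simp)
  · unfold ChevalleyDatum.chainRoot
    rw [hce]
    rw [hcc] at hT
    unfold entryList at hT
    rcases hl : e.2.toList with _ | ⟨a, l⟩
    · rw [hl] at hT; simp at hT
    · rw [hl] at hT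
      simp only [List.zipIdx_cons, List.map_cons, List.cons.injEq, Prod.mk.injEq] at hT
      simp [hT.1.1]

/-- a root character (frozen definition) is multiplicative along all chains of the seven data -/
theorem chain_mul (D : ChevalleyDatum) (hOK : addOKB D = true) {F : Type*} [Field F] (χ : ℕ → Fˣ)
    (hχ : D.IsRootCharacter χ) (r : ℕ) (hr : r < D.nroots) (s : ℕ) (hs : s < D.nroots) :
    ∀ x ∈ ccAll D r s, χ x.1 = χ s * χ r ^ x.2.1 := by
  have hroot : rootOKB D r = true := by
    unfold addOKB at hOK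
    rw [List.all_eq_true] at hOK
    exact hOK r (List.mem_range.mpr hr)
  obtain ⟨-, hlt, hshape⟩ := addHyp_of_rootOKB D r hroot
  obtain ⟨isKey, -, hsh⟩ := hshape s
  have hstep := hχ.2
  rcases hT : ccAll D r s with _ | ⟨⟨u1, k1, M1⟩, _ | ⟨⟨u2, k2, M2⟩, _ | ⟨⟨u3, k3, M3⟩, _ | ⟨x4, T⟩⟩⟩⟩
  · intro x hx; simp at hx
  · rw [hT] at hsh
    simp only [shapeB, Bool.and_eq_true, beq_iff_eq, Bool.not_eq_true'] at hsh
    obtain ⟨rfl, -⟩ := hsh
    have h1 := hstep r s u1 hr hs (chainRoot_one_of_cc D r hroot s u1 1 M1 [] hT)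
    intro x hx
    simp only [List.mem_singleton] at hx
    subst hx
    simp only [pow_one]
    rw [h1, mul_comm]
  · rw [hT] at hsh
    simp only [shapeB, Bool.and_eq_true, beq_iff_eq, Bool.not_eq_true'] at hsh
    obtain ⟨⟨⟨rfl, rfl⟩, -⟩, h3⟩ := hsh
    have hu1 : u1 < D.nroots := (hlt s (u1, 1, M1) (by rw [hT]; simp)).1
    have h1 := hstep r s u1 hr hs (chainRoot_one_of_cc D r hroot s u1 1 M1 _ hT)
    rcases hn1 : ccAll D r u1 with _ | ⟨⟨v, j, M'⟩, _ | ⟨y, N⟩⟩
    · rw [hn1] at h3; simp at h3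
    · rw [hn1] at h3
      simp only [Bool.and_eq_true, beq_iff_eq] at h3
      obtain ⟨⟨rfl, rfl⟩, -⟩ := h3
      have h2 := hstep r u1 v hr hu1 (chainRoot_one_of_cc D r hroot u1 v 1 M' [] hn1)
      intro x hx
      simp only [List.mem_cons, List.not_mem_nil, or_false] at hx
      rcases hx with rfl | rfl
      · simp only [pow_one]; rw [h1, mul_comm]
      · simp only []
        rw [h2, h1, pow_two]; ac_rfl
    · rw [hn1] at h3; simp at h3
  · rw [hT] at hsh
    simp only [shapeB, Bool.and_eq_true, beq_iff_eq, Bool.not_eq_true'] at hsh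
    obtain ⟨⟨⟨⟨⟨rfl, rfl⟩, rfl⟩, -⟩, h2⟩, h1'⟩ := hsh
    have hu1 : u1 < D.nroots := (hlt s (u1, 1, M1) (by rw [hT]; simp)).1
    have hu2 : u2 < D.nroots := (hlt s (u2, 2, M2) (by rw [hT]; simp)).1
    have h1 := hstep r s u1 hr hs (chainRoot_one_of_cc D r hroot s u1 1 M1 _ hT)
    rcases hn2 : ccAll D r u2 with _ | ⟨⟨v, j, Mc⟩, _ | ⟨y, N⟩⟩
    · rw [hn2] at h2; simp at h2
    · rw [hn2] at h2
      simp only [Bool.and_eq_true, beq_iff_eq] at h2
      obtain ⟨⟨rfl, rfl⟩, -⟩ := h2
      have e3 := hstep r u2 v hr hu2 (chainRoot_one_of_cc D r hroot u2 v 1 Mc [] hn2)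
      rcases hn1 : ccAll D r u1 with _ | ⟨⟨v', j', Ma⟩, _ | ⟨⟨w, i, Mb⟩, _ | ⟨y, N⟩⟩⟩
      · rw [hn1] at h1'; simp at h1'
      · rw [hn1] at h1'; simp at h1'
      · rw [hn1] at h1'
        simp only [Bool.and_eq_true, beq_iff_eq] at h1'
        obtain ⟨⟨⟨⟨⟨rfl, rfl⟩, rfl⟩, rfl⟩, -⟩, -⟩ := h1'
        have e2 := hstep r u1 v' hr hu1 (chainRoot_one_of_cc D r hroot u1 v' 1 Ma _ hn1)
        intro x hx
        simp only [List.mem_cons, List.not_mem_nil, or_false] at hx
        rcases hx with rfl | rfl | rfl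
        · simp only [pow_one]; rw [h1, mul_comm]
        · simp only []
          rw [e2, h1, pow_two]; ac_rfl
        · simp only []
          rw [e3, e2, h1, pow_succ, pow_two]; ac_rfl
      · rw [hn1] at h1'; simp at h1'
    · rw [hn2] at h2; simp at h2
  · rw [hT] at hsh
    simp [shapeB] at hsh

/-- a root character of one of the seven data is a `ChainChar` -/
theorem chainChar_of_isRootCharacter (D : ChevalleyDatum)
    (hD : D ∈ [chevG2, chevB2, chevD4, chevF4, chevE6, chevE7, chevE8]) {F : Type*} [Field F] (χ : ℕ → Fˣ)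
    (hχ : D.IsRootCharacter χ) : ChainChar D F (fun s => ((χ s : Fˣ) : F)) := by
  have hOK := addOKB_of_mem D hD
  refine ⟨fun s _ => Units.ne_zero _, fun s hs _ => ?_, fun s hs v hv x hx _ => ?_⟩
  · rw [hχ.1 s hs]
    exact Units.val_inv_eq_inv_val _
  · have := chain_mul D hOK χ hχ s hs v hv x hx
    rw [this]
    push_cast
    ring

/-- `charDiag` is helper7's `diagChar` -/
theorem charDiag_eq_diagChar (D : ChevalleyDatum) (F : Type*) [Field F] (χ : ℕ → Fˣ) :
    D.charDiag F χ = diagChar D F (fun s => ((χ s : Fˣ) : F)) := rfl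

/-- `ĥ(χ) x_r(t) ĥ(χ)⁻¹ = x_r(χ(r) t)` -/
theorem charDiag_conj_x (D : ChevalleyDatum)
    (hD : D ∈ [chevG2, chevB2, chevD4, chevF4, chevE6, chevE7, chevE8]) {F : Type*} [Field F] (χ : ℕ → Fˣ)
    (hχ : D.IsRootCharacter χ) (r : ℕ) (t : F) :
    D.charDiag F χ * D.x F r t * D.charDiag F (fun s => (χ s)⁻¹) = D.x F r ((χ r : F) * t) := by
  have hCC := chainChar_of_isRootCharacter D hD χ hχ
  rw [charDiag_eq_diagChar, charDiag_eq_diagChar, diagChar_x_comm D F _ hCC r t, mul_assoc, diagChar_mul]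
  have : (fun s => ((χ s : Fˣ) : F) * (((χ s)⁻¹ : Fˣ) : F)) = fun _ => (1 : F) := by
    funext s
    rw [← Units.val_mul, mul_inv_cancel, Units.val_one]
  rw [this, diagChar_one, mul_one]

/-- `ĥ(χ) ĥ(χ⁻¹) = 1` -/
theorem charDiag_mul_inv (D : ChevalleyDatum) (F : Type*) [Field F] (χ : ℕ → Fˣ) :
    D.charDiag F χ * D.charDiag F (fun s => (χ s)⁻¹) = 1 := by
  rw [charDiag_eq_diagChar, charDiag_eq_diagChar, diagChar_mul]
  have : (fun s => ((χ s : Fˣ) : F) * (((χ s)⁻¹ : Fˣ) : F)) = fun _ => (1 : F) := by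
    funext s
    rw [← Units.val_mul, mul_inv_cancel, Units.val_one]
  rw [this, diagChar_one]

end Cfsg.Agent.Lib.Helper11.ChevRootChar
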