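import Mathlib

set_option autoImplicit false

namespace Cfsg.Agent.Lib.Helper11.SL2Hom

open Matrix

/-- rank-one data in a group `G` over the field `F`: images of the upper unitriangular matrices, of the
Weyl element `!![0,1;-1,0]` and of the diagonal matrices `diag(s, s⁻¹)`, with the relations needed to extend to `SL₂(F)` -/
structure RankOneData (F : Type*) [Field F] (G : Type*) [Group G] where
  X : F → G
  N : G
  H : F → G
  X_add : ∀ t u, X (t + u) = X t * X u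
  H_mul : ∀ s s', s ≠ 0 → s' ≠ 0 → H (s * s') = H s * H s'
  H_X : ∀ s t, s ≠ 0 → H s * X t = X (s ^ 2 * t) * H s
  N_H : ∀ s, s ≠ 0 → N * H s = H s⁻¹ * N
  N_sq : N * N = H (-1)
  N_X_N : ∀ t, t ≠ 0 → N * X t * N = X (-t⁻¹) * N * H (-t) * X (-t⁻¹)

variable {F : Type*} [Field F] {G : Type*} [Group G]

local notation:1024 "↑ₘ" A:1024 => ((A : SpecialLinearGroup (Fin 2) F) : Matrix (Fin 2) (Fin 2) F)

/-- upper unitriangular element of `SL₂` -/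
def xS (t : F) : SpecialLinearGroup (Fin 2) F := ⟨!![1, t; 0, 1], by simp [det_fin_two]⟩

/-- lower unitriangular element of `SL₂` -/
def yS (t : F) : SpecialLinearGroup (Fin 2) F := ⟨!![1, 0; t, 1], by simp [det_fin_two]⟩

/-- the Weyl element of `SL₂` -/
def wS : SpecialLinearGroup (Fin 2) F := ⟨!![0, 1; -1, 0], by simp [det_fin_two]⟩

/-- diagonal element of `SL₂` -/
def hS (s : F) (hs : s ≠ 0) : SpecialLinearGroup (Fin 2) F :=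
  ⟨!![s, 0; 0, s⁻¹], by simp [det_fin_two, hs]⟩

theorem coe_xS (t : F) : (↑ₘ(xS t)) = !![1, t; 0, 1] := rfl
theorem coe_yS (t : F) : (↑ₘ(yS t)) = !![1, 0; t, 1] := rfl
theorem coe_wS : (↑ₘ(wS : SpecialLinearGroup (Fin 2) F)) = !![0, 1; -1, 0] := rfl
theorem coe_hS (s : F) (hs : s ≠ 0) : (↑ₘ(hS s hs)) = !![s, 0; 0, s⁻¹] := rfl

theorem det_eq (g : SpecialLinearGroup (Fin 2) F) : (↑ₘg) 0 0 * (↑ₘg) 1 1 - (↑ₘg) 0 1 * (↑ₘg) 1 0 = 1 := by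
  have := g.2
  rwa [det_fin_two] at this

namespace RankOneData

variable (R : RankOneData F G)

theorem X_zero : R.X 0 = 1 := by
  have := R.X_add 0 0
  rw [add_zero] at this
  exact (mul_eq_left.mp this.symm)

theorem H_one : R.H 1 = 1 := by
  have := R.H_mul 1 1 one_ne_zero one_ne_zero
  rw [mul_one] at this
  exact (mul_eq_left.mp this.symm)

theorem X_H (s t : F) (hs : s ≠ 0) : R.X t * R.H s = R.H s * R.X (t / s ^ 2) := by
  rw [R.H_X s _ hs]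
  congr 2
  field_simp

open Classical in
/-- the value of the homomorphism on `g`, by the Bruhat normal form -/
noncomputable def toFun (g : SpecialLinearGroup (Fin 2) F) : G :=
  if (↑ₘg) 1 0 = 0 then R.X ((↑ₘg) 0 0 * (↑ₘg) 0 1) * R.H ((↑ₘg) 0 0)
  else R.X ((↑ₘg) 0 0 / (↑ₘg) 1 0) * R.N * R.H (- (↑ₘg) 1 0) * R.X ((↑ₘg) 1 1 / (↑ₘg) 1 0)

theorem toFun_mul_xS (g : SpecialLinearGroup (Fin 2) F) (u : F) :
    R.toFun (g * xS u) = R.toFun g * R.X u := by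
  have e00 : (↑ₘ(g * xS u)) 0 0 = (↑ₘg) 0 0 := by
    simp [coe_xS, Matrix.mul_apply, Fin.sum_univ_two]
  have e01 : (↑ₘ(g * xS u)) 0 1 = (↑ₘg) 0 0 * u + (↑ₘg) 0 1 := by
    simp [coe_xS, Matrix.mul_apply, Fin.sum_univ_two]
  have e10 : (↑ₘ(g * xS u)) 1 0 = (↑ₘg) 1 0 := by
    simp [coe_xS, Matrix.mul_apply, Fin.sum_univ_two]
  have e11 : (↑ₘ(g * xS u)) 1 1 = (↑ₘg) 1 0 * u + (↑ₘg) 1 1 := by
    simp [coe_xS, Matrix.mul_apply, Fin.sum_univ_two]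
  unfold toFun
  rw [e00, e01, e10, e11]
  by_cases hc : (↑ₘg) 1 0 = 0
  · rw [if_pos hc, if_pos hc]
    have hdet := det_eq g
    rw [hc, mul_zero, sub_zero] at hdet
    have ha : (↑ₘg) 0 0 ≠ 0 := left_ne_zero_of_mul_eq_one hdet
    rw [mul_assoc, R.H_X _ _ ha, ← mul_assoc, ← R.X_add]
    congr 2
    ring
  · rw [if_neg hc, if_neg hc]
    rw [mul_assoc (R.X _ * R.N * R.H _), ← R.X_add]
    congr 2
    field_simp
    ring

theorem toFun_mul_hS (g : SpecialLinearGroup (Fin 2) F) (s : F) (hs : s ≠ 0) :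
    R.toFun (g * hS s hs) = R.toFun g * R.H s := by
  have e00 : (↑ₘ(g * hS s hs)) 0 0 = (↑ₘg) 0 0 * s := by
    simp [coe_hS, Matrix.mul_apply, Fin.sum_univ_two]
  have e01 : (↑ₘ(g * hS s hs)) 0 1 = (↑ₘg) 0 1 * s⁻¹ := by
    simp [coe_hS, Matrix.mul_apply, Fin.sum_univ_two]
  have e10 : (↑ₘ(g * hS s hs)) 1 0 = (↑ₘg) 1 0 * s := by
    simp [coe_hS, Matrix.mul_apply, Fin.sum_univ_two]
  have e11 : (↑ₘ(g * hS s hs)) 1 1 = (↑ₘg) 1 1 * s⁻¹ := by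
    simp [coe_hS, Matrix.mul_apply, Fin.sum_univ_two]
  unfold toFun
  rw [e00, e01, e10, e11]
  by_cases hc : (↑ₘg) 1 0 = 0
  · have hc' : (↑ₘg) 1 0 * s = 0 := by rw [hc, zero_mul]
    rw [if_pos hc, if_pos hc']
    have hdet := det_eq g
    rw [hc, mul_zero, sub_zero] at hdet
    have ha : (↑ₘg) 0 0 ≠ 0 := left_ne_zero_of_mul_eq_one hdet
    rw [R.H_mul _ _ ha hs, ← mul_assoc]
    congr 3
    field_simp
  · have hc' : (↑ₘg) 1 0 * s ≠ 0 := mul_ne_zero hc hs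
    rw [if_neg hc, if_neg hc']
    have e1 : -((↑ₘg) 1 0 * s) = (- (↑ₘg) 1 0) * s := by ring
    have e2 : (↑ₘg) 0 0 * s / ((↑ₘg) 1 0 * s) = (↑ₘg) 0 0 / (↑ₘg) 1 0 := by field_simp
    have e3 : (↑ₘg) 1 1 * s⁻¹ / ((↑ₘg) 1 0 * s) = (↑ₘg) 1 1 / (↑ₘg) 1 0 / s ^ 2 := by field_simp
    rw [e1, e2, e3, R.H_mul _ _ (neg_ne_zero.mpr hc) hs]
    rw [mul_assoc (R.X _ * R.N * R.H _) (R.X _) (R.H s), R.X_H _ _ hs]
    simp only [mul_assoc]

theorem toFun_mul_wS (g : SpecialLinearGroup (Fin 2) F) :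
    R.toFun (g * wS) = R.toFun g * R.N := by
  have e00 : (↑ₘ(g * wS)) 0 0 = - (↑ₘg) 0 1 := by
    simp [coe_wS, Matrix.mul_apply, Fin.sum_univ_two]
  have e01 : (↑ₘ(g * wS)) 0 1 = (↑ₘg) 0 0 := by
    simp [coe_wS, Matrix.mul_apply, Fin.sum_univ_two]
  have e10 : (↑ₘ(g * wS)) 1 0 = - (↑ₘg) 1 1 := by
    simp [coe_wS, Matrix.mul_apply, Fin.sum_univ_two]
  have e11 : (↑ₘ(g * wS)) 1 1 = (↑ₘg) 1 0 := by
    simp [coe_wS, Matrix.mul_apply, Fin.sum_univ_two]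
  have hdet := det_eq g
  unfold toFun
  rw [e00, e01, e10, e11]
  by_cases hc : (↑ₘg) 1 0 = 0
  · rw [hc, mul_zero, sub_zero] at hdet
    have ha : (↑ₘg) 0 0 ≠ 0 := left_ne_zero_of_mul_eq_one hdet
    have hd : (↑ₘg) 1 1 ≠ 0 := right_ne_zero_of_mul_eq_one hdet
    have hd' : - (↑ₘg) 1 1 ≠ 0 := neg_ne_zero.mpr hd
    rw [if_pos hc, if_neg hd', hc]
    have e1 : (0 : F) / - (↑ₘg) 1 1 = 0 := zero_div _
    rw [e1, R.X_zero, mul_one, neg_neg]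
    have hda : (↑ₘg) 1 1 = ((↑ₘg) 0 0)⁻¹ := eq_inv_of_mul_eq_one_right hdet
    rw [mul_assoc (R.X _) (R.H _) R.N]
    have e2 : R.H ((↑ₘg) 0 0) * R.N = R.N * R.H ((↑ₘg) 1 1) := by
      rw [hda, R.N_H _ (inv_ne_zero ha), inv_inv]
    rw [e2, ← mul_assoc]
    congr 3
    rw [hda]
    field_simp
  · by_cases hd : (↑ₘg) 1 1 = 0
    · have hd' : - (↑ₘg) 1 1 = 0 := by rw [hd, neg_zero]
      rw [if_neg hc, if_pos hd', hd, zero_div, R.X_zero, mul_one]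
      rw [hd, mul_zero, zero_sub] at hdet
      -- `b c = -1`
      have hb : (↑ₘg) 0 1 ≠ 0 := by
        intro h; rw [h, zero_mul, neg_zero] at hdet; exact zero_ne_one hdet
      have hbc : - (↑ₘg) 0 1 = ((↑ₘg) 1 0)⁻¹ := by
        have : (- (↑ₘg) 0 1) * (↑ₘg) 1 0 = 1 := by rw [neg_mul]; exact hdet
        exact eq_inv_of_mul_eq_one_left this
      rw [mul_assoc (R.X _ * R.N) (R.H _) R.N]
      have e2 : R.H (- (↑ₘg) 1 0) * R.N = R.N * R.H (- (↑ₘg) 1 0)⁻¹ := by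
        have := R.N_H (- (↑ₘg) 1 0)⁻¹ (inv_ne_zero (neg_ne_zero.mpr hc))
        rw [inv_inv] at this
        exact this.symm
      rw [e2, ← mul_assoc, mul_assoc (R.X _) R.N R.N, R.N_sq, mul_assoc,
        ← R.H_mul _ _ (neg_ne_zero.mpr one_ne_zero) (inv_ne_zero (neg_ne_zero.mpr hc))]
      rw [hbc]
      congr 2
      · field_simp
      · field_simp
    · have hd' : - (↑ₘg) 1 1 ≠ 0 := neg_ne_zero.mpr hd
      rw [if_neg hc, if_neg hd', neg_neg]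
      have hcd : (↑ₘg) 1 0 * (↑ₘg) 1 1 ≠ 0 := mul_ne_zero hc hd
      -- move `H (-c)` past `X (d/c)`
      have e1 : R.H (- (↑ₘg) 1 0) * R.X ((↑ₘg) 1 1 / (↑ₘg) 1 0) = R.X ((↑ₘg) 1 0 * (↑ₘg) 1 1) * R.H (- (↑ₘg) 1 0) := by
        rw [R.H_X _ _ (neg_ne_zero.mpr hc)]
        congr 2
        field_simp
      have e2 : R.H (- (↑ₘg) 1 0) * R.N = R.N * R.H (- (↑ₘg) 1 0)⁻¹ := by
        have := R.N_H (- (↑ₘg) 1 0)⁻¹ (inv_ne_zero (neg_ne_zero.mpr hc))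
        rw [inv_inv] at this
        exact this.symm
      symm
      calc R.X ((↑ₘg) 0 0 / (↑ₘg) 1 0) * R.N * R.H (- (↑ₘg) 1 0) * R.X ((↑ₘg) 1 1 / (↑ₘg) 1 0) * R.N
          = R.X ((↑ₘg) 0 0 / (↑ₘg) 1 0) * R.N * (R.H (- (↑ₘg) 1 0) * R.X ((↑ₘg) 1 1 / (↑ₘg) 1 0)) * R.N := by
            simp only [mul_assoc]
        _ = R.X ((↑ₘg) 0 0 / (↑ₘg) 1 0) * (R.N * R.X ((↑ₘg) 1 0 * (↑ₘg) 1 1) * R.N) * R.H (- (↑ₘg) 1 0)⁻¹ := by
            rw [e1]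
            simp only [mul_assoc]
            rw [e2]
        _ = R.X ((↑ₘg) 0 0 / (↑ₘg) 1 0) * (R.X (-((↑ₘg) 1 0 * (↑ₘg) 1 1)⁻¹) * R.N * R.H (-((↑ₘg) 1 0 * (↑ₘg) 1 1)) *
              R.X (-((↑ₘg) 1 0 * (↑ₘg) 1 1)⁻¹)) * R.H (- (↑ₘg) 1 0)⁻¹ := by
            rw [R.N_X_N _ hcd]
        _ = R.X ((↑ₘg) 0 0 / (↑ₘg) 1 0 + -((↑ₘg) 1 0 * (↑ₘg) 1 1)⁻¹) * R.N * R.H (-((↑ₘg) 1 0 * (↑ₘg) 1 1)) *
              (R.X (-((↑ₘg) 1 0 * (↑ₘg) 1 1)⁻¹) * R.H (- (↑ₘg) 1 0)⁻¹) := by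
            rw [R.X_add]
            simp only [mul_assoc]
        _ = R.X ((↑ₘg) 0 0 / (↑ₘg) 1 0 + -((↑ₘg) 1 0 * (↑ₘg) 1 1)⁻¹) * R.N * R.H (-((↑ₘg) 1 0 * (↑ₘg) 1 1)) *
              (R.H (- (↑ₘg) 1 0)⁻¹ * R.X (-((↑ₘg) 1 0 * (↑ₘg) 1 1)⁻¹ / ((- (↑ₘg) 1 0)⁻¹) ^ 2)) := by
            rw [R.X_H _ _ (inv_ne_zero (neg_ne_zero.mpr hc))]
        _ = R.X ((↑ₘg) 0 0 / (↑ₘg) 1 0 + -((↑ₘg) 1 0 * (↑ₘg) 1 1)⁻¹) * R.N * R.H (-((↑ₘg) 1 0 * (↑ₘg) 1 1) * (- (↑ₘg) 1 0)⁻¹) *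
              R.X (-((↑ₘg) 1 0 * (↑ₘg) 1 1)⁻¹ / ((- (↑ₘg) 1 0)⁻¹) ^ 2) := by
            rw [R.H_mul _ _ (neg_ne_zero.mpr hcd) (inv_ne_zero (neg_ne_zero.mpr hc))]
            simp only [mul_assoc]
        _ = R.X (- (↑ₘg) 0 1 / - (↑ₘg) 1 1) * R.N * R.H ((↑ₘg) 1 1) * R.X ((↑ₘg) 1 0 / - (↑ₘg) 1 1) := by
            have h1 : (↑ₘg) 0 0 / (↑ₘg) 1 0 + -((↑ₘg) 1 0 * (↑ₘg) 1 1)⁻¹ = - (↑ₘg) 0 1 / - (↑ₘg) 1 1 := by
              field_simp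
              linear_combination hdet
            have h2 : -((↑ₘg) 1 0 * (↑ₘg) 1 1) * (- (↑ₘg) 1 0)⁻¹ = (↑ₘg) 1 1 := by
              field_simp
            have h3 : -((↑ₘg) 1 0 * (↑ₘg) 1 1)⁻¹ / ((- (↑ₘg) 1 0)⁻¹) ^ 2 = (↑ₘg) 1 0 / - (↑ₘg) 1 1 := by
              field_simp
            rw [h1, h2, h3]

theorem eq_of_lower_zero (g : SpecialLinearGroup (Fin 2) F) (hc : (↑ₘg) 1 0 = 0) (ha : (↑ₘg) 0 0 ≠ 0) :
    g = xS ((↑ₘg) 0 0 * (↑ₘg) 0 1) * hS ((↑ₘg) 0 0) ha := by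
  have hdet := det_eq g
  rw [hc, mul_zero, sub_zero] at hdet
  have hda : (↑ₘg) 1 1 = ((↑ₘg) 0 0)⁻¹ := eq_inv_of_mul_eq_one_right hdet
  apply Matrix.SpecialLinearGroup.ext
  intro i j
  show (↑ₘg) i j = (↑ₘ(xS ((↑ₘg) 0 0 * (↑ₘg) 0 1) * hS ((↑ₘg) 0 0) ha)) i j
  fin_cases i <;> fin_cases j <;>
    simp [coe_xS, coe_hS, Matrix.mul_apply, Fin.sum_univ_two, hc, hda]
  field_simp

theorem eq_of_lower_ne_zero (g : SpecialLinearGroup (Fin 2) F) (hc : (↑ₘg) 1 0 ≠ 0) :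
    g = xS ((↑ₘg) 0 0 / (↑ₘg) 1 0) * wS * hS (- (↑ₘg) 1 0) (neg_ne_zero.mpr hc) * xS ((↑ₘg) 1 1 / (↑ₘg) 1 0) := by
  have hdet := det_eq g
  apply Matrix.SpecialLinearGroup.ext
  intro i j
  show (↑ₘg) i j = (↑ₘ(xS ((↑ₘg) 0 0 / (↑ₘg) 1 0) * wS * hS (- (↑ₘg) 1 0) (neg_ne_zero.mpr hc) *
    xS ((↑ₘg) 1 1 / (↑ₘg) 1 0))) i j
  fin_cases i <;> fin_cases j <;>
    simp [coe_xS, coe_hS, coe_wS, Matrix.mul_apply, Fin.sum_univ_two]
  · field_simp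
  · field_simp
    linear_combination (-1 : F) * hdet
  · field_simp

theorem toFun_one : R.toFun (1 : SpecialLinearGroup (Fin 2) F) = 1 := by
  unfold toFun
  simp [R.X_zero, R.H_one]

theorem toFun_mul (g g' : SpecialLinearGroup (Fin 2) F) : R.toFun (g * g') = R.toFun g * R.toFun g' := by
  by_cases hc : (↑ₘg') 1 0 = 0
  · have hdet := det_eq g'
    rw [hc, mul_zero, sub_zero] at hdet
    have ha : (↑ₘg') 0 0 ≠ 0 := left_ne_zero_of_mul_eq_one hdet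
    have e := eq_of_lower_zero g' hc ha
    have e2 : R.toFun g' = R.X ((↑ₘg') 0 0 * (↑ₘg') 0 1) * R.H ((↑ₘg') 0 0) := by
      unfold toFun; rw [if_pos hc]
    rw [e2]
    conv_lhs => rw [e]
    rw [← mul_assoc, R.toFun_mul_hS, R.toFun_mul_xS, mul_assoc]
  · have e := eq_of_lower_ne_zero g' hc
    have e2 : R.toFun g' = R.X ((↑ₘg') 0 0 / (↑ₘg') 1 0) * R.N * R.H (- (↑ₘg') 1 0) * R.X ((↑ₘg') 1 1 / (↑ₘg') 1 0) := by
      unfold toFun; rw [if_neg hc]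
    rw [e2]
    conv_lhs => rw [e]
    rw [← mul_assoc, ← mul_assoc, ← mul_assoc, R.toFun_mul_xS, R.toFun_mul_hS, R.toFun_mul_wS, R.toFun_mul_xS]
    simp only [mul_assoc]

/-- the homomorphism `SL₂(F) → G` defined by rank-one data -/
noncomputable def hom : SpecialLinearGroup (Fin 2) F →* G where
  toFun := R.toFun
  map_one' := R.toFun_one
  map_mul' := R.toFun_mul

theorem hom_xS (t : F) : R.hom (xS t) = R.X t := by
  show R.toFun (xS t) = _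
  unfold toFun
  simp [xS, R.H_one]

theorem hom_wS : R.hom (wS : SpecialLinearGroup (Fin 2) F) = R.N := by
  show R.toFun wS = _
  unfold toFun
  simp [wS, R.X_zero, R.H_one]

theorem hom_hS (s : F) (hs : s ≠ 0) : R.hom (hS s hs) = R.H s := by
  show R.toFun (hS s hs) = _
  unfold toFun
  simp [hS, R.X_zero]

end RankOneData

/-- more primitive rank-one data: two opposite root subgroups `X`, `Y`, the element `N`, the diagonal elements `H`,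
with `H c N = X(c) Y(-c⁻¹) X(c)` and `N X(t) N⁻¹ = Y(-t)` -/
structure RankOnePre (F : Type*) [Field F] (G : Type*) [Group G] where
  X : F → G
  Y : F → G
  N : G
  H : F → G
  X_add : ∀ t u, X (t + u) = X t * X u
  H_mul : ∀ s s', s ≠ 0 → s' ≠ 0 → H (s * s') = H s * H s'
  H_X : ∀ s t, s ≠ 0 → H s * X t = X (s ^ 2 * t) * H s
  H_Y : ∀ s t, s ≠ 0 → H s * Y t = Y ((s ^ 2)⁻¹ * t) * H s
  n_eq : ∀ c, c ≠ 0 → H c * N = X c * Y (-c⁻¹) * X c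
  N_X : ∀ t, N * X t = Y (-t) * N
  N_sq : N * N = H (-1)

namespace RankOnePre

variable (P : RankOnePre F G)

theorem H_one : P.H 1 = 1 := by
  have := P.H_mul 1 1 one_ne_zero one_ne_zero
  rw [mul_one] at this
  exact (mul_eq_left.mp this.symm)

theorem X_zero : P.X 0 = 1 := by
  have := P.X_add 0 0
  rw [add_zero] at this
  exact (mul_eq_left.mp this.symm)

theorem X_neg_mul (t : F) : P.X (-t) * P.X t = 1 := by
  rw [← P.X_add, neg_add_cancel, P.X_zero]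

theorem X_mul_neg (t : F) : P.X t * P.X (-t) = 1 := by
  rw [← P.X_add, add_neg_cancel, P.X_zero]

theorem N_eq (c : F) (hc : c ≠ 0) : P.N = P.H c * P.N * P.H c := by
  have hci : c⁻¹ ≠ 0 := inv_ne_zero hc
  have h1 : P.H c * (P.H c⁻¹ * P.N) = P.N := by
    rw [← mul_assoc, ← P.H_mul _ _ hc hci, mul_inv_cancel₀ hc, P.H_one, one_mul]
  have h2 : P.H c * (P.H c⁻¹ * P.N) = P.H c * P.N * P.H c := by
    rw [P.n_eq c⁻¹ hci, inv_inv, P.n_eq c hc]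
    calc P.H c * (P.X c⁻¹ * P.Y (-c) * P.X c⁻¹)
        = (P.H c * P.X c⁻¹) * P.Y (-c) * P.X c⁻¹ := by simp only [mul_assoc]
      _ = P.X (c ^ 2 * c⁻¹) * (P.H c * P.Y (-c)) * P.X c⁻¹ := by
          rw [P.H_X c _ hc]; simp only [mul_assoc]
      _ = P.X (c ^ 2 * c⁻¹) * P.Y ((c ^ 2)⁻¹ * (-c)) * (P.H c * P.X c⁻¹) := by
          rw [P.H_Y c _ hc]; simp only [mul_assoc]
      _ = P.X (c ^ 2 * c⁻¹) * P.Y ((c ^ 2)⁻¹ * (-c)) * P.X (c ^ 2 * c⁻¹) * P.H c := by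
          rw [P.H_X c _ hc]; simp only [mul_assoc]
      _ = P.X c * P.Y (-c⁻¹) * P.X c * P.H c := by
          have e1 : c ^ 2 * c⁻¹ = c := by field_simp
          have e2 : (c ^ 2)⁻¹ * (-c) = -c⁻¹ := by field_simp
          rw [e1, e2]
  exact h1.symm.trans h2

theorem N_H (c : F) (hc : c ≠ 0) : P.N * P.H c = P.H c⁻¹ * P.N := by
  have hci : c⁻¹ ≠ 0 := inv_ne_zero hc
  have h1 : P.H c⁻¹ * P.H c = 1 := by
    rw [← P.H_mul _ _ hci hc, inv_mul_cancel₀ hc, P.H_one]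
  conv_rhs => rw [P.N_eq c hc]
  rw [← mul_assoc, ← mul_assoc, h1, one_mul]

theorem X_H (s t : F) (hs : s ≠ 0) : P.X t * P.H s = P.H s * P.X (t / s ^ 2) := by
  rw [P.H_X s _ hs]
  congr 2
  field_simp

theorem N_X_N (t : F) (ht : t ≠ 0) :
    P.N * P.X t * P.N = P.X (-t⁻¹) * P.N * P.H (-t) * P.X (-t⁻¹) := by
  have hc : t⁻¹ ≠ 0 := inv_ne_zero ht
  have hm1 : (-1 : F) ≠ 0 := neg_ne_zero.mpr one_ne_zero
  -- `H c N = X c N X t N⁻¹ X c` with `c = t⁻¹`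
  have h1 : P.H t⁻¹ * P.N = P.X t⁻¹ * (P.N * P.X t * P.N⁻¹) * P.X t⁻¹ := by
    rw [P.n_eq _ hc, inv_inv, P.N_X t, mul_assoc (P.Y _) P.N, mul_inv_cancel, mul_one]
  have h2 : P.N * P.X t * P.N⁻¹ = P.X (-t⁻¹) * (P.H t⁻¹ * P.N) * P.X (-t⁻¹) := by
    rw [h1]
    simp only [mul_assoc]
    rw [P.X_mul_neg, mul_one, ← mul_assoc (P.X (-t⁻¹)), P.X_neg_mul, one_mul]
  have h3 : P.N * P.X t * P.N = (P.N * P.X t * P.N⁻¹) * (P.N * P.N) := by group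
  have h4 : P.X (-t⁻¹) * P.H (-1) = P.H (-1) * P.X (-t⁻¹) := by
    rw [P.X_H _ _ hm1]
    congr 2
    ring
  have h5 : P.N * P.H (-1) = P.H (-1) * P.N := by
    rw [P.N_H _ hm1]
    congr 2
    rw [inv_neg, inv_one]
  have h6 : P.H t⁻¹ * P.H (-1) = P.H (-t⁻¹) := by
    rw [← P.H_mul _ _ hc hm1]
    congr 1
    ring
  have h7 : P.H (-t⁻¹) * P.N = P.N * P.H (-t) := by
    have := P.N_H (-t) (neg_ne_zero.mpr ht)
    rw [this]
    congr 2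
    rw [inv_neg]
  rw [h3, h2, P.N_sq]
  calc P.X (-t⁻¹) * (P.H t⁻¹ * P.N) * P.X (-t⁻¹) * P.H (-1)
      = P.X (-t⁻¹) * P.H t⁻¹ * P.N * (P.X (-t⁻¹) * P.H (-1)) := by simp only [mul_assoc]
    _ = P.X (-t⁻¹) * P.H t⁻¹ * (P.N * P.H (-1)) * P.X (-t⁻¹) := by rw [h4]; simp only [mul_assoc]
    _ = P.X (-t⁻¹) * (P.H t⁻¹ * P.H (-1)) * P.N * P.X (-t⁻¹) := by rw [h5]; simp only [mul_assoc]
    _ = P.X (-t⁻¹) * (P.H (-t⁻¹) * P.N) * P.X (-t⁻¹) := by rw [h6]; simp only [mul_assoc]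
    _ = P.X (-t⁻¹) * P.N * P.H (-t) * P.X (-t⁻¹) := by rw [h7]; simp only [mul_assoc]

/-- the rank-one data of a `RankOnePre` -/
def toData : RankOneData F G where
  X := P.X
  N := P.N
  H := P.H
  X_add := P.X_add
  H_mul := P.H_mul
  H_X := P.H_X
  N_H := P.N_H
  N_sq := P.N_sq
  N_X_N := P.N_X_N

/-- the homomorphism `SL₂(F) → G` -/
noncomputable def hom : SpecialLinearGroup (Fin 2) F →* G := P.toData.hom

theorem hom_xS (t : F) : P.hom (xS t) = P.X t := P.toData.hom_xS t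

theorem hom_wS : P.hom (wS : SpecialLinearGroup (Fin 2) F) = P.N := P.toData.hom_wS

theorem hom_hS (s : F) (hs : s ≠ 0) : P.hom (hS s hs) = P.H s := P.toData.hom_hS s hs

theorem yS_mul_wS (t : F) : yS t * (wS : SpecialLinearGroup (Fin 2) F) = wS * xS (-t) := by
  apply Matrix.SpecialLinearGroup.ext
  intro i j
  show (↑ₘ(yS t * wS)) i j = (↑ₘ(wS * xS (-t))) i j
  fin_cases i <;> fin_cases j <;>
    simp [coe_xS, coe_yS, coe_wS, Matrix.mul_apply, Fin.sum_univ_two]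

theorem hom_yS (t : F) : P.hom (yS t) = P.Y t := by
  have h := congrArg P.hom (yS_mul_wS t)
  rw [map_mul, map_mul, P.hom_wS, P.hom_xS, P.N_X, neg_neg] at h
  exact mul_right_cancel h

end RankOnePre

/-- `SL₂(F)` is generated by the upper and lower unitriangular matrices -/
theorem closure_xS_yS :
    Subgroup.closure (Set.range (xS : F → SpecialLinearGroup (Fin 2) F) ∪ Set.range yS) = ⊤ := by
  set K := Subgroup.closure (Set.range (xS : F → SpecialLinearGroup (Fin 2) F) ∪ Set.range yS) with hK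
  have hx : ∀ t : F, xS t ∈ K := fun t => Subgroup.subset_closure (Or.inl ⟨t, rfl⟩)
  have hy : ∀ t : F, yS t ∈ K := fun t => Subgroup.subset_closure (Or.inr ⟨t, rfl⟩)
  have hw : ∀ s : F, s ≠ 0 → (xS s * yS (-s⁻¹) * xS s : SpecialLinearGroup (Fin 2) F) ∈ K :=
    fun s _ => K.mul_mem (K.mul_mem (hx s) (hy _)) (hx s)
  have hw1 : (wS : SpecialLinearGroup (Fin 2) F) ∈ K := by
    have e : (wS : SpecialLinearGroup (Fin 2) F) = xS 1 * yS (-(1 : F)⁻¹) * xS 1 := by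
      apply Matrix.SpecialLinearGroup.ext
      intro i j
      show (↑ₘ(wS : SpecialLinearGroup (Fin 2) F)) i j = (↑ₘ(xS 1 * yS (-(1 : F)⁻¹) * xS 1)) i j
      fin_cases i <;> fin_cases j <;>
        simp [coe_xS, coe_yS, coe_wS, Matrix.mul_apply, Fin.sum_univ_two]
    rw [e]
    exact hw 1 one_ne_zero
  have hh : ∀ (s : F) (hs : s ≠ 0), hS s hs ∈ K := by
    intro s hs
    have e : hS s hs * wS = xS s * yS (-s⁻¹) * xS s := by
      apply Matrix.SpecialLinearGroup.ext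
      intro i j
      show (↑ₘ(hS s hs * wS)) i j = (↑ₘ(xS s * yS (-s⁻¹) * xS s)) i j
      fin_cases i <;> fin_cases j <;>
        simp [coe_xS, coe_yS, coe_wS, coe_hS, Matrix.mul_apply, Fin.sum_univ_two, hs]
    have : hS s hs = (xS s * yS (-s⁻¹) * xS s) * wS⁻¹ := by
      rw [← e]; group
    rw [this]
    exact K.mul_mem (hw s hs) (K.inv_mem hw1)
  rw [eq_top_iff]
  intro g _
  by_cases hc : (↑ₘg) 1 0 = 0
  · have hdet := det_eq g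
    rw [hc, mul_zero, sub_zero] at hdet
    have ha : (↑ₘg) 0 0 ≠ 0 := left_ne_zero_of_mul_eq_one hdet
    rw [RankOneData.eq_of_lower_zero g hc ha]
    exact K.mul_mem (hx _) (hh _ _)
  · rw [RankOneData.eq_of_lower_ne_zero g hc]
    exact K.mul_mem (K.mul_mem (K.mul_mem (hx _) hw1) (hh _ _)) (hx _)

/-- the automorphism `(a b; c d) ↦ (a εb; εc d)` of `SL₂(F)` for `ε² = 1` -/
def twist (ε : F) (hε : ε * ε = 1) : SpecialLinearGroup (Fin 2) F →* SpecialLinearGroup (Fin 2) F where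
  toFun g := ⟨!![(↑ₘg) 0 0, ε * (↑ₘg) 0 1; ε * (↑ₘg) 1 0, (↑ₘg) 1 1], by
    rw [det_fin_two]
    simp only [of_apply, cons_val', cons_val_zero, cons_val_one, empty_val', cons_val_fin_one]
    have := det_eq g
    linear_combination this - (↑ₘg) 0 1 * (↑ₘg) 1 0 * hε⟩
  map_one' := by
    apply Matrix.SpecialLinearGroup.ext
    intro i j
    fin_cases i <;> fin_cases j <;> simp
  map_mul' g g' := by
    apply Matrix.SpecialLinearGroup.ext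
    intro i j
    show (!![(↑ₘ(g * g')) 0 0, ε * (↑ₘ(g * g')) 0 1; ε * (↑ₘ(g * g')) 1 0, (↑ₘ(g * g')) 1 1] :
      Matrix (Fin 2) (Fin 2) F) i j =
      ((!![(↑ₘg) 0 0, ε * (↑ₘg) 0 1; ε * (↑ₘg) 1 0, (↑ₘg) 1 1] : Matrix (Fin 2) (Fin 2) F) *
        !![(↑ₘg') 0 0, ε * (↑ₘg') 0 1; ε * (↑ₘg') 1 0, (↑ₘg') 1 1]) i j
    fin_cases i <;> fin_cases j <;>
      simp [Matrix.mul_apply, Fin.sum_univ_two]
    · linear_combination (-(↑ₘg) 0 1 * (↑ₘg') 1 0) * hε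
    · ring
    · ring
    · linear_combination (-(↑ₘg) 1 0 * (↑ₘg') 0 1) * hε

theorem twist_xS (ε : F) (hε : ε * ε = 1) (t : F) : twist ε hε (xS t) = xS (ε * t) := by
  apply Matrix.SpecialLinearGroup.ext
  intro i j
  show (!![(↑ₘ(xS t)) 0 0, ε * (↑ₘ(xS t)) 0 1; ε * (↑ₘ(xS t)) 1 0, (↑ₘ(xS t)) 1 1] :
      Matrix (Fin 2) (Fin 2) F) i j = (↑ₘ(xS (ε * t))) i j
  fin_cases i <;> fin_cases j <;> simp [coe_xS]

theorem twist_yS (ε : F) (hε : ε * ε = 1) (t : F) : twist ε hε (yS t) = yS (ε * t) := by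
  apply Matrix.SpecialLinearGroup.ext
  intro i j
  show (!![(↑ₘ(yS t)) 0 0, ε * (↑ₘ(yS t)) 0 1; ε * (↑ₘ(yS t)) 1 0, (↑ₘ(yS t)) 1 1] :
      Matrix (Fin 2) (Fin 2) F) i j = (↑ₘ(yS (ε * t))) i j
  fin_cases i <;> fin_cases j <;> simp [coe_yS]

theorem eq_xS_of_coe (g : SpecialLinearGroup (Fin 2) F) (t : F) (h : (↑ₘg) = !![1, t; 0, 1]) : g = xS t := by
  apply Matrix.SpecialLinearGroup.ext
  intro i j
  show (↑ₘg) i j = (↑ₘ(xS t)) i j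
  rw [h, coe_xS]

theorem eq_yS_of_coe (g : SpecialLinearGroup (Fin 2) F) (t : F) (h : (↑ₘg) = !![1, 0; t, 1]) : g = yS t := by
  apply Matrix.SpecialLinearGroup.ext
  intro i j
  show (↑ₘg) i j = (↑ₘ(yS t)) i j
  rw [h, coe_yS]

end Cfsg.Agent.Lib.Helper11.SL2Hom
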