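import Mathlib
import Cfsg.Agent.Lib.Helper11.SL2Hom
import Cfsg.Agent.Lib.Helper7.ChevPar
import Cfsg.Agent.Lib.Helper7.ChevHxMain
import Cfsg.Agent.Lib.Helper7.ChevFundMain

set_option autoImplicit false

namespace Cfsg.Agent.Lib.Helper11.ChevSL2

open Cfsg Cfsg.Lie Matrix Cfsg.Agent.Lib.Helper7 Cfsg.Agent.Lib.Helper11.SL2Hom

/-- the roots reached from `acc` along a certificate: an entry `(r, j, s)` says `r = w_j(s)` -/
def reachL (D : ChevalleyDatum) : List ℕ → List (ℕ × ℕ × ℕ) → List ℕ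
  | acc, [] => acc
  | acc, (r, j, s) :: L =>
    if acc.contains s && decide (j < D.rank) && (D.reflectRoot j s == r) then reachL D (r :: acc) L
    else reachL D acc L

theorem reachL_induction (D : ChevalleyDatum) (P : ℕ → Prop)
    (hrefl : ∀ j < D.rank, ∀ s, P s → P (D.reflectRoot j s)) :
    ∀ (cert : List (ℕ × ℕ × ℕ)) (acc : List ℕ), (∀ s ∈ acc, P s) → ∀ s ∈ reachL D acc cert, P s := by
  intro cert
  induction cert with
  | nil => intro acc h; exact h
  | cons e L ih =>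
    obtain ⟨r, j, s⟩ := e
    intro acc h
    unfold reachL
    split_ifs with hc
    · apply ih
      intro s' hs'
      rcases List.mem_cons.mp hs' with rfl | hs'
      · simp only [Bool.and_eq_true, List.contains_iff_mem, decide_eq_true_eq, beq_iff_eq] at hc
        obtain ⟨⟨h1, h2⟩, h3⟩ := hc
        rw [← h3]
        exact hrefl j h2 s (h s h1)
      · exact h s' hs'
    · exact ih acc h

/-- every root is reached from the fundamental roots -/
def reachAllB (D : ChevalleyDatum) (cert : List (ℕ × ℕ × ℕ)) : Bool :=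
  (List.range D.nroots).all fun s => (reachL D ((List.range D.rank).map D.simple) cert).contains s

def certG2 : List (ℕ × ℕ × ℕ) := [(4, 0, 7), (8, 1, 7), (10, 0, 6), (5, 1, 6), (3, 1, 4), (9, 0, 8), (11, 1, 10), (1, 0, 5), (2, 0, 3), (0, 1, 1)]
def certB2 : List (ℕ × ℕ × ℕ) := [(2, 0, 5), (6, 1, 5), (7, 0, 4), (3, 1, 4), (1, 1, 2), (0, 0, 3)]
def certD4 : List (ℕ × ℕ × ℕ) := [(5, 0, 18), (19, 1, 18), (9, 1, 14), (16, 2, 14), (15, 3, 14), (10, 2, 13), (11, 3, 12), (4, 1, 5), (21, 2, 19), (20, 3, 19), (7, 2, 9), (8, 3, 9), (17, 3, 16), (2, 2, 4), (3, 3, 4), (22, 3, 21), (6, 3, 7), (1, 3, 2), (23, 1, 22), (0, 1, 1)]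
def certF4 : List (ℕ × ℕ × ℕ) := [(14, 0, 33), (34, 1, 33), (20, 1, 27), (28, 2, 27), (30, 1, 25), (22, 2, 25), (26, 3, 25), (23, 3, 24), (13, 1, 14), (35, 2, 34), (19, 2, 20), (29, 3, 28), (41, 0, 30), (31, 3, 30), (17, 1, 22), (21, 3, 22), (12, 2, 13), (37, 1, 35), (36, 3, 35), (18, 3, 19), (42, 3, 41), (32, 2, 31), (6, 0, 17), (16, 3, 17), (10, 1, 12), (11, 3, 12), (38, 3, 37), (43, 2, 42), (5, 3, 6), (15, 2, 16), (9, 3, 10), (39, 2, 38), (45, 1, 43), (4, 2, 5), (8, 2, 9), (40, 1, 39), (46, 2, 45), (2, 1, 4), (7, 1, 8), (44, 0, 40), (47, 3, 46), (1, 2, 2), (3, 0, 7), (0, 3, 1)]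
def certE6 : List (ℕ × ℕ × ℕ) := [(15, 0, 56), (57, 2, 56), (25, 1, 46), (47, 3, 46), (29, 2, 42), (43, 3, 42), (32, 3, 39), (40, 4, 39), (34, 4, 37), (38, 5, 37), (35, 5, 36), (14, 2, 15), (58, 3, 57), (24, 3, 25), (50, 2, 47), (48, 4, 47), (28, 3, 29), (44, 4, 43), (31, 4, 32), (41, 5, 40), (33, 5, 34), (13, 3, 14), (61, 1, 58), (59, 4, 58), (21, 2, 24), (23, 4, 24), (51, 4, 50), (49, 5, 48), (27, 4, 28), (45, 5, 44), (30, 5, 31), (10, 1, 13), (12, 4, 13), (62, 4, 61), (60, 5, 59), (20, 4, 21), (22, 5, 23), (53, 3, 51), (52, 5, 51), (26, 5, 27), (9, 4, 10), (11, 5, 12), (64, 3, 62), (63, 5, 62), (18, 3, 20), (19, 5, 20), (54, 5, 53), (7, 3, 9), (8, 5, 9), (67, 2, 64), (65, 5, 64), (17, 5, 18), (55, 4, 54), (4, 2, 7), (6, 5, 7), (68, 5, 67), (66, 4, 65), (16, 4, 17), (3, 5, 4), (5, 4, 6), (69, 4, 68), (2, 4, 3), (70, 3, 69), (1, 3, 2), (71, 1, 70), (0, 1, 1)]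
def certE7 : List (ℕ × ℕ × ℕ) := [(32, 0, 93), (94, 2, 93), (47, 1, 78), (79, 3, 78), (52, 2, 73), (74, 3, 73), (56, 3, 69), (70, 4, 69), (59, 4, 66), (67, 5, 66), (61, 5, 64), (65, 6, 64), (62, 6, 63), (31, 2, 32), (95, 3, 94), (46, 3, 47), (83, 2, 79), (80, 4, 79), (51, 3, 52), (75, 4, 74), (55, 4, 56), (71, 5, 70), (58, 5, 59), (68, 6, 67), (60, 6, 61), (30, 3, 31), (99, 1, 95), (96, 4, 95), (42, 2, 46), (45, 4, 46), (84, 4, 83), (81, 5, 80), (50, 4, 51), (76, 5, 75), (54, 5, 55), (72, 6, 71), (57, 6, 58), (26, 1, 30), (29, 4, 30), (100, 4, 99), (97, 5, 96), (41, 4, 42), (44, 5, 45), (87, 3, 84), (85, 5, 84), (82, 6, 81), (49, 5, 50), (77, 6, 76), (53, 6, 54), (25, 4, 26), (28, 5, 29), (103, 3, 100), (101, 5, 100), (98, 6, 97), (38, 3, 41), (40, 5, 41), (43, 6, 44), (88, 5, 87), (86, 6, 85), (48, 6, 49), (22, 3, 25), (24, 5, 25), (27, 6, 28), (109, 2, 103), (104, 5, 103), (102, 6, 101), (37, 5, 38), (39, 6, 40), (90, 4, 88), (89, 6,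 88), (16, 2, 22), (21, 5, 22), (23, 6, 24), (110, 5, 109), (106, 4, 104), (105, 6, 104), (35, 4, 37), (36, 6, 37), (91, 6, 90), (15, 5, 16), (19, 4, 21), (20, 6, 21), (112, 4, 110), (111, 6, 110), (107, 6, 106), (34, 6, 35), (92, 5, 91), (13, 4, 15), (14, 6, 15), (18, 6, 19), (115, 3, 112), (113, 6, 112), (108, 5, 107), (33, 5, 34), (10, 3, 13), (12, 6, 13), (17, 5, 18), (119, 1, 115), (116, 6, 115), (114, 5, 113), (6, 1, 10), (9, 6, 10), (11, 5, 12), (120, 6, 119), (117, 5, 116), (5, 6, 6), (8, 5, 9), (121, 5, 120), (118, 4, 117), (4, 5, 5), (7, 4, 8), (122, 4, 121), (3, 4, 4), (123, 3, 122), (2, 3, 3), (124, 2, 123), (1, 2, 2), (125, 0, 124), (0, 0, 1)]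
def certE8 : List (ℕ × ℕ × ℕ) := [(77, 0, 162), (163, 2, 162), (98, 1, 141), (142, 3, 141), (104, 2, 135), (136, 3, 135), (109, 3, 130), (131, 4, 130), (113, 4, 126), (127, 5, 126), (116, 5, 123), (124, 6, 123), (118, 6, 121), (122, 7, 121), (119, 7, 120), (76, 2, 77), (164, 3, 163), (97, 3, 98), (147, 2, 142), (143, 4, 142), (103, 3, 104), (137, 4, 136), (108, 4, 109), (132, 5, 131), (112, 5, 113), (128, 6, 127), (115, 6, 116), (125, 7, 124), (117, 7, 118), (75, 3, 76), (169, 1, 164), (165, 4, 164), (92, 2, 97), (96, 4, 97), (148, 4, 147), (144, 5, 143), (102, 4, 103), (138, 5, 137), (107, 5, 108), (133, 6, 132), (111, 6, 112), (129, 7, 128), (114, 7, 115), (70, 1, 75), (74, 4, 75), (170, 4, 169), (166, 5, 165), (91, 4, 92), (95, 5, 96), (152, 3, 148), (149, 5, 148), (145, 6, 144), (101, 5, 102), (139, 6, 138), (106, 6, 107), (134, 7, 133), (110, 7, 111), (69, 4, 70), (73, 5, 74), (174, 3, 170), (171, 5, 170), (167, 6, 166), (87, 3, 91),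 (90, 5, 91), (94, 6, 95), (153, 5, 152), (150, 6, 149), (146, 7, 145), (100, 6, 101), (140, 7, 139), (105, 7, 106), (65, 3, 69), (68, 5, 69), (72, 6, 73), (184, 2, 174), (175, 5, 174), (172, 6, 171), (168, 7, 167), (86, 5, 87), (89, 6, 90), (93, 7, 94), (156, 4, 153), (154, 6, 153), (151, 7, 150), (99, 7, 100), (55, 2, 65), (64, 5, 65), (67, 6, 68), (71, 7, 72), (185, 5, 184), (178, 4, 175), (176, 6, 175), (173, 7, 172), (83, 4, 86), (85, 6, 86), (88, 7, 89), (157, 6, 156), (155, 7, 154), (54, 5, 55), (61, 4, 64), (63, 6, 64), (66, 7, 67), (188, 4, 185), (186, 6, 185), (179, 6, 178), (177, 7, 176), (82, 6, 83), (84, 7, 85), (159, 5, 157), (158, 7, 157), (51, 4, 54), (53, 6, 54), (60, 6, 61), (62, 7, 63), (194, 3, 188), (189, 6, 188), (187, 7, 186), (181, 5, 179), (180, 7, 179), (80, 5, 82), (81, 7, 82), (160, 7, 159), (45, 3, 51), (50, 6, 51), (52, 7, 53), (58, 5, 60), (59, 7, 60), (204, 1, 194), (195, 6, 194), (191, 5, 189), (190, 7, 189),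 (182, 7, 181), (79, 7, 80), (161, 6, 160), (35, 1, 45), (44, 6, 45), (48, 5, 50), (49, 7, 50), (57, 7, 58), (205, 6, 204), (197, 5, 195), (196, 7, 195), (192, 7, 191), (183, 6, 182), (78, 6, 79), (34, 6, 35), (42, 5, 44), (43, 7, 44), (47, 7, 48), (56, 6, 57), (207, 5, 205), (206, 7, 205), (200, 4, 197), (198, 7, 197), (193, 6, 192), (32, 5, 34), (33, 7, 34), (39, 4, 42), (41, 7, 42), (46, 6, 47), (210, 4, 207), (208, 7, 207), (201, 7, 200), (199, 6, 198), (29, 4, 32), (31, 7, 32), (38, 7, 39), (40, 6, 41), (214, 3, 210), (211, 7, 210), (209, 6, 208), (202, 6, 201), (25, 3, 29), (28, 7, 29), (30, 6, 31), (37, 6, 38), (219, 2, 214), (215, 7, 214), (212, 6, 211), (203, 5, 202), (20, 2, 25), (24, 7, 25), (27, 6, 28), (36, 5, 37), (226, 0, 219), (220, 7, 219), (216, 6, 215), (213, 5, 212), (13, 0, 20), (19, 7, 20), (23, 6, 24), (26, 5, 27), (227, 7, 226), (221, 6, 220), (217, 5, 216), (12, 7, 13), (18, 6, 19), (22, 5, 23), (228, 6, 227), (222,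 5, 221), (218, 4, 217), (11, 6, 12), (17, 5, 18), (21, 4, 22), (229, 5, 228), (223, 4, 222), (10, 5, 11), (16, 4, 17), (230, 4, 229), (224, 3, 223), (9, 4, 10), (15, 3, 16), (231, 3, 230), (225, 1, 224), (8, 3, 9), (14, 1, 15), (233, 1, 231), (232, 2, 231), (6, 1, 8), (7, 2, 8), (234, 2, 233), (5, 2, 6), (235, 3, 234), (4, 3, 5), (236, 4, 235), (3, 4, 4), (237, 5, 236), (2, 5, 3), (238, 6, 237), (1, 6, 2), (239, 7, 238), (0, 7, 1)]

set_option maxRecDepth 100000 in
theorem reach_G2 : reachAllB chevG2 certG2 = true := by decide +kernel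
set_option maxRecDepth 100000 in
theorem reach_B2 : reachAllB chevB2 certB2 = true := by decide +kernel
set_option maxRecDepth 100000 in
theorem reach_D4 : reachAllB chevD4 certD4 = true := by decide +kernel
set_option maxRecDepth 100000 in
theorem reach_F4 : reachAllB chevF4 certF4 = true := by decide +kernel
set_option maxRecDepth 100000 in
theorem reach_E6 : reachAllB chevE6 certE6 = true := by decide +kernel
set_option maxRecDepth 100000 in
theorem reach_E7 : reachAllB chevE7 certE7 = true := by decide +kernel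
set_option maxRecDepth 100000 in
theorem reach_E8 : reachAllB chevE8 certE8 = true := by decide +kernel

theorem exists_reach (D : ChevalleyDatum)
    (hD : D ∈ [chevG2, chevB2, chevD4, chevF4, chevE6, chevE7, chevE8]) :
    ∃ cert, reachAllB D cert = true :=
  mem_seven_cases (P := fun D => ∃ cert, reachAllB D cert = true)
    ⟨_, reach_G2⟩ ⟨_, reach_B2⟩ ⟨_, reach_D4⟩ ⟨_, reach_F4⟩ ⟨_, reach_E6⟩ ⟨_, reach_E7⟩ ⟨_, reach_E8⟩ D hD

section
variable (D : ChevalleyDatum) (hD : D ∈ [chevG2, chevB2, chevD4, chevF4, chevE6, chevE7, chevE8])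
variable (F : Type*) [Field F]
include hD

/-- `h_p(c)` for the `i`-th fundamental root, in `GL` -/
noncomputable def hF (i : ℕ) (c : F) : GL D.Idx F := wordGL D hD F (D.hWord (D.simple i) c)

/-- `n_p = n_p(1)` for the `i`-th fundamental root, in `GL` -/
noncomputable def nF (i : ℕ) : GL D.Idx F := wordGL D hD F (D.nWord (D.simple i) 1)

theorem coe_hF (i : ℕ) (hi : i < D.rank) (c : F) (hc : c ≠ 0) :
    ((hF D hD F i c : GL D.Idx F) : Matrix D.Idx D.Idx F) =
      Matrix.diagonal (Sum.elim (fun _ => (1 : F)) (fun s : Fin D.nroots => c ^ (D.cartan i s))) := by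
  unfold hF
  rw [coe_wordGL]
  exact hMat_fund D i (fundFacts_of_mem D hD i hi) F c hc

theorem hF_mul (i : ℕ) (hi : i < D.rank) (c c' : F) (hc : c ≠ 0) (hc' : c' ≠ 0) :
    hF D hD F i (c * c') = hF D hD F i c * hF D hD F i c' := by
  apply Units.ext
  rw [Units.val_mul, coe_hF D hD F i hi _ (mul_ne_zero hc hc'), coe_hF D hD F i hi c hc,
    coe_hF D hD F i hi c' hc', Matrix.diagonal_mul_diagonal]
  congr 1
  funext x
  rcases x with j | s
  · simp
  · simp [mul_zpow]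

theorem hF_x (i : ℕ) (hi : i < D.rank) (s : ℕ) (c : F) (hc : c ≠ 0) (t : F) :
    hF D hD F i c * xGL D hD F s t = xGL D hD F s (c ^ (D.cartan i s) * t) * hF D hD F i c := by
  apply Units.ext
  rw [Units.val_mul, Units.val_mul, coe_xGL, coe_xGL]
  unfold hF
  rw [coe_wordGL]
  exact hx_comm_of_mem D hD i hi F s c hc t

theorem nF_x (i : ℕ) (hi : i < D.rank) (t : F) :
    nF D hD F i * xGL D hD F (D.simple i) t = xGL D hD F (D.neg (D.simple i)) (-t) * nF D hD F i := by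
  have hF := fundFacts_of_mem D hD i hi
  have h := nGL_conj_xGL D hD F i hi (D.simple i) hF.hp t
  have e1 : D.reflectRoot i (D.simple i) = D.neg (D.simple i) := by
    unfold ChevalleyDatum.reflectRoot
    simp
  have e2 : etaFn D i (D.simple i) = -1 := by
    unfold etaFn
    simp
  rw [e1, e2] at h
  have e3 : (((-1 : ℤ) : F)) * t = -t := by push_cast; ring
  rw [e3] at h
  unfold nF
  rw [← h]
  group

theorem nGL_neg_one_eq (i : ℕ) : wordGL D hD F (D.nWord (D.simple i) (-1)) = (nF D hD F i)⁻¹ := by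
  have := nGL_neg_one_mul D hD F (D.simple i)
  exact eq_inv_of_mul_eq_one_left this

theorem hF_one (i : ℕ) : hF D hD F i 1 = 1 := by
  unfold hF ChevalleyDatum.hWord
  rw [wordGL_append, nGL_neg_one_eq D hD F i]
  exact mul_inv_cancel _

theorem nF_sq (i : ℕ) (hi : i < D.rank) : nF D hD F i * nF D hD F i = hF D hD F i (-1) := by
  have hm1 : (-1 : F) ≠ 0 := neg_ne_zero.mpr one_ne_zero
  have h1 : hF D hD F i (-1) = (nF D hD F i)⁻¹ * (nF D hD F i)⁻¹ := by
    unfold hF ChevalleyDatum.hWord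
    rw [wordGL_append, nGL_neg_one_eq D hD F i]
  have h2 : hF D hD F i (-1) * hF D hD F i (-1) = 1 := by
    rw [← hF_mul D hD F i hi _ _ hm1 hm1]
    have : (-1 : F) * (-1) = 1 := by ring
    rw [this, hF_one]
  have h3 : hF D hD F i (-1) = (hF D hD F i (-1))⁻¹ := eq_inv_of_mul_eq_one_left h2
  rw [h3, h1]
  simp [_root_.mul_inv_rev]

theorem hF_mul_nF (i : ℕ) (c : F) :
    hF D hD F i c * nF D hD F i =
      xGL D hD F (D.simple i) c * xGL D hD F (D.neg (D.simple i)) (-c⁻¹) * xGL D hD F (D.simple i) c := by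
  unfold hF nF
  rw [← nGL_eq_hGL_mul D hD F (D.simple i) c, nGL_eq]

/-- the rank-one data of the `i`-th fundamental root -/
noncomputable def fundPre (i : ℕ) (hi : i < D.rank) : RankOnePre F (GL D.Idx F) where
  X := fun t => xGL D hD F (D.simple i) t
  Y := fun t => xGL D hD F (D.neg (D.simple i)) t
  N := nF D hD F i
  H := fun c => hF D hD F i c
  X_add := fun t u => (xGL_mul D hD F (D.simple i) t u).symm
  H_mul := fun s s' hs hs' => hF_mul D hD F i hi s s' hs hs'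
  H_X := fun s t hs => by
    have h := hF_x D hD F i hi (D.simple i) s hs t
    rw [(fundFacts_of_mem D hD i hi).carP] at h
    rw [h]
    have e : s ^ (2 : ℤ) = s ^ 2 := zpow_ofNat s 2
    rw [e]
  H_Y := fun s t hs => by
    have h := hF_x D hD F i hi (D.neg (D.simple i)) s hs t
    rw [(fundFacts_of_mem D hD i hi).carPb] at h
    rw [h]
    have e : s ^ (-2 : ℤ) = (s ^ 2)⁻¹ := by
      rw [_root_.zpow_neg, zpow_ofNat]
    rw [e]
  n_eq := fun c _ => hF_mul_nF D hD F i c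
  N_X := fun t => nF_x D hD F i hi t
  N_sq := nF_sq D hD F i hi


/-- `r` is the image of a fundamental root under an element of `GL` acting compatibly, up to a common sign, on the two
opposite root subgroups -/
def Linked (r : ℕ) : Prop :=
  r < D.nroots ∧ ∃ i, i < D.rank ∧ ∃ (n : GL D.Idx F) (ε : F), ε * ε = 1 ∧
    ∀ t : F, n * xGL D hD F (D.simple i) t * n⁻¹ = xGL D hD F r (ε * t) ∧
      n * xGL D hD F (D.neg (D.simple i)) t * n⁻¹ = xGL D hD F (D.neg r) (ε * t)

theorem linked_simple (i : ℕ) (hi : i < D.rank) : Linked D hD F (D.simple i) := by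
  refine ⟨(fundFacts_of_mem D hD i hi).hp, i, hi, 1, 1, one_mul 1, fun t => ?_⟩
  simp

theorem linked_reflect (j : ℕ) (hj : j < D.rank) (s : ℕ) (h : Linked D hD F s) :
    Linked D hD F (D.reflectRoot j s) := by
  obtain ⟨hs, i, hi, n, ε, hε, hn⟩ := h
  have hC := conjFacts_of_mem D hD j hj
  obtain ⟨hns, hwn, _⟩ := hC.wneg s hs
  have hη : ((etaFn D j s : ℤ) : F) * ((etaFn D j s : ℤ) : F) = 1 := eta_sq D hD F j hj s hs
  refine ⟨hC.wlt s hs, i, hi, wordGL D hD F (D.nWord (D.simple j) 1) * n, ((etaFn D j s : ℤ) : F) * ε, ?_, fun t => ?_⟩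
  · calc ((etaFn D j s : ℤ) : F) * ε * (((etaFn D j s : ℤ) : F) * ε)
        = (((etaFn D j s : ℤ) : F) * ((etaFn D j s : ℤ) : F)) * (ε * ε) := by ring
      _ = 1 := by rw [hη, hε, one_mul]
  · obtain ⟨h1, h2⟩ := hn t
    constructor
    · have e : wordGL D hD F (D.nWord (D.simple j) 1) * n * xGL D hD F (D.simple i) t *
          (wordGL D hD F (D.nWord (D.simple j) 1) * n)⁻¹ =
          wordGL D hD F (D.nWord (D.simple j) 1) * (n * xGL D hD F (D.simple i) t * n⁻¹) *
            (wordGL D hD F (D.nWord (D.simple j) 1))⁻¹ := by group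
      rw [e, h1, nGL_conj_xGL D hD F j hj s hs, mul_assoc]
    · have e : wordGL D hD F (D.nWord (D.simple j) 1) * n * xGL D hD F (D.neg (D.simple i)) t *
          (wordGL D hD F (D.nWord (D.simple j) 1) * n)⁻¹ =
          wordGL D hD F (D.nWord (D.simple j) 1) * (n * xGL D hD F (D.neg (D.simple i)) t * n⁻¹) *
            (wordGL D hD F (D.nWord (D.simple j) 1))⁻¹ := by group
      rw [e, h2, nGL_conj_xGL D hD F j hj (D.neg s) hns, hwn, hC.ηneg s hs, mul_assoc]

theorem linked_all (r : ℕ) (hr : r < D.nroots) : Linked D hD F r := by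
  obtain ⟨cert, hcert⟩ := exists_reach D hD
  unfold reachAllB at hcert
  rw [List.all_eq_true] at hcert
  have h1 := hcert r (List.mem_range.mpr hr)
  rw [List.contains_iff_mem] at h1
  refine reachL_induction D (Linked D hD F) (fun j hj s hs => linked_reflect D hD F j hj s hs) cert _ ?_ r h1
  intro s hs
  rw [List.mem_map] at hs
  obtain ⟨i, hi, rfl⟩ := hs
  exact linked_simple D hD F i (List.mem_range.mp hi)

/-- the homomorphism `SL₂(F) → ⟨X_r, X_{-r}⟩` for every root `r` -/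
theorem exists_sl2_hom (r : ℕ) (hr : r < D.nroots) :
    ∃ φ : Matrix.SpecialLinearGroup (Fin 2) F →* GL D.Idx F,
      φ.range = D.rootSubgroup F r ⊔ D.rootSubgroup F (D.neg r) ∧
      (∀ t : F, φ (xS t) = xGL D hD F r t) ∧ (∀ t : F, φ (yS t) = xGL D hD F (D.neg r) t) := by
  obtain ⟨_, i, hi, n, ε, hε, hn⟩ := linked_all D hD F r hr
  set P := fundPre D hD F i hi with hP
  set φ : Matrix.SpecialLinearGroup (Fin 2) F →* GL D.Idx F :=
    (MulAut.conj n).toMonoidHom.comp (P.hom.comp (twist ε hε)) with hφ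
  have hx : ∀ t : F, φ (xS t) = xGL D hD F r t := by
    intro t
    show n * P.hom (twist ε hε (xS t)) * n⁻¹ = _
    rw [twist_xS, P.hom_xS]
    show n * xGL D hD F (D.simple i) (ε * t) * n⁻¹ = _
    rw [(hn _).1, ← mul_assoc, hε, one_mul]
  have hy : ∀ t : F, φ (yS t) = xGL D hD F (D.neg r) t := by
    intro t
    show n * P.hom (twist ε hε (yS t)) * n⁻¹ = _
    rw [twist_yS, P.hom_yS]
    show n * xGL D hD F (D.neg (D.simple i)) (ε * t) * n⁻¹ = _
    rw [(hn _).2, ← mul_assoc, hε, one_mul]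
  refine ⟨φ, ?_, hx, hy⟩
  apply le_antisymm
  · rw [MonoidHom.range_eq_map, ← closure_xS_yS, MonoidHom.map_closure, Subgroup.closure_le]
    rintro g ⟨g', hg', rfl⟩
    rcases hg' with ⟨t, rfl⟩ | ⟨t, rfl⟩
    · rw [hx]
      apply Subgroup.mem_sup_left
      exact Subgroup.subset_closure ⟨t, coe_xGL D hD F r t⟩
    · rw [hy]
      apply Subgroup.mem_sup_right
      exact Subgroup.subset_closure ⟨t, coe_xGL D hD F _ t⟩
  · rw [sup_le_iff]
    constructor
    · unfold ChevalleyDatum.rootSubgroup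
      rw [Subgroup.closure_le]
      rintro g ⟨t, hg⟩
      have : g = xGL D hD F r t := Units.ext (by rw [hg, coe_xGL])
      rw [this, ← hx]
      exact ⟨_, rfl⟩
    · unfold ChevalleyDatum.rootSubgroup
      rw [Subgroup.closure_le]
      rintro g ⟨t, hg⟩
      have : g = xGL D hD F (D.neg r) t := Units.ext (by rw [hg, coe_xGL])
      rw [this, ← hy]
      exact ⟨_, rfl⟩

end

end Cfsg.Agent.Lib.Helper11.ChevSL2
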