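import Mathlib

/-!
Helper lemmas on TI-subgroups (subgroups meeting their distinct conjugates trivially).
-/

set_option autoImplicit false

namespace Cfsg.Agent.Lib.Helper11

variable {G : Type*} [Group G]

theorem mem_map_conj_iff (A : Subgroup G) (g x : G) :
    x ∈ A.map (MulAut.conj g).toMonoidHom ↔ g⁻¹ * x * g ∈ A := by
  constructor
  · rintro ⟨a, ha, rfl⟩
    have : g⁻¹ * ((MulAut.conj g).toMonoidHom a) * g = a := by
      simp [MulAut.conj_apply, mul_assoc]
    rw [this]; exact ha
  · intro h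
    refine ⟨g⁻¹ * x * g, h, ?_⟩
    simp [MulAut.conj_apply, mul_assoc]

theorem conj_mem_map_conj (A : Subgroup G) (g a : G) (ha : a ∈ A) :
    g * a * g⁻¹ ∈ A.map (MulAut.conj g).toMonoidHom := by
  rw [mem_map_conj_iff]
  simpa [mul_assoc] using ha

/-- In a TI-subgroup `B`, anything centralizing a nontrivial element of `B` normalizes `B`. -/
theorem ti_map_conj_eq_of_commute (B : Subgroup G)
    (hBti : ∀ g : G, B.map (MulAut.conj g).toMonoidHom = B ∨ B.map (MulAut.conj g).toMonoidHom ⊓ B = ⊥)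
    (g b : G) (hb : b ∈ B) (hb1 : b ≠ 1) (hgb : g * b = b * g) :
    B.map (MulAut.conj g).toMonoidHom = B := by
  rcases hBti g with h | h
  · exact h
  · exfalso
    have hmem : b ∈ B.map (MulAut.conj g).toMonoidHom ⊓ B := by
      refine ⟨?_, hb⟩
      have : g * b * g⁻¹ = b := by rw [hgb, mul_inv_cancel_right]
      have h2 := conj_mem_map_conj B g b hb
      rw [this] at h2
      exact h2
    rw [h, Subgroup.mem_bot] at hmem
    exact hb1 hmem

/-- Key step: if `B` is TI, normalizes `A`, `A ⊓ B = ⊥`, and `a ∈ A` centralizes a nontrivial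
element of `B`, then `a` centralizes `B`. -/
theorem ti_centralizes_of_commute_one (A B : Subgroup G)
    (hBti : ∀ g : G, B.map (MulAut.conj g).toMonoidHom = B ∨ B.map (MulAut.conj g).toMonoidHom ⊓ B = ⊥)
    (hAB : A ⊓ B = ⊥) (hN : B ≤ Subgroup.normalizer (A : Set G))
    (a : G) (ha : a ∈ A) (b : G) (hb : b ∈ B) (hb1 : b ≠ 1) (hab : a * b = b * a) :
    ∀ b' ∈ B, a * b' = b' * a := by
  intro b' hb'
  have hmap := ti_map_conj_eq_of_commute B hBti a b hb hb1 hab
  have h1 : a * b' * a⁻¹ ∈ B := by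
    have := conj_mem_map_conj B a b' hb'
    rwa [hmap] at this
  have hcB : a * b' * a⁻¹ * b'⁻¹ ∈ B := B.mul_mem h1 (B.inv_mem hb')
  have hcA : a * b' * a⁻¹ * b'⁻¹ ∈ A := by
    have h2 : b' * a⁻¹ * b'⁻¹ ∈ A :=
      (Subgroup.mem_normalizer_iff.mp (hN hb') a⁻¹).mp (A.inv_mem ha)
    have : a * b' * a⁻¹ * b'⁻¹ = a * (b' * a⁻¹ * b'⁻¹) := by group
    rw [this]; exact A.mul_mem ha h2
  have : a * b' * a⁻¹ * b'⁻¹ ∈ A ⊓ B := ⟨hcA, hcB⟩
  rw [hAB, Subgroup.mem_bot] at this
  have h3 : a * b' = b' * a := by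
    have := congrArg (fun x => x * b' * a) this
    simpa [mul_assoc] using this
  exact h3

/-- If `B` is a TI-subgroup normalizing `A`, with `A ⊓ B = ⊥` and `|A| ≤ |B|`, then `A` and `B` commute. -/
theorem ti_commute [Finite G] (A B : Subgroup G)
    (hBti : ∀ g : G, B.map (MulAut.conj g).toMonoidHom = B ∨ B.map (MulAut.conj g).toMonoidHom ⊓ B = ⊥)
    (hle : Nat.card ↥A ≤ Nat.card ↥B) (hAB : A ⊓ B = ⊥) (hN : B ≤ Subgroup.normalizer (A : Set G)) :
    ∀ a ∈ A, ∀ b ∈ B, a * b = b * a := by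
  intro a ha
  by_contra hcon
  push Not at hcon
  obtain ⟨b₀, hb₀, hne⟩ := hcon
  -- `a` centralizes no nontrivial element of B
  have hfree : ∀ b ∈ B, b ≠ 1 → a * b ≠ b * a := by
    intro b hb hb1 hab
    exact hne (ti_centralizes_of_commute_one A B hBti hAB hN a ha b hb hb1 hab b₀ hb₀)
  have ha1 : a ≠ 1 := by
    rintro rfl
    exact hne (by simp)
  -- injection Option B → A
  let f : Option ↥B → ↥A := fun o =>
    match o with
    | none => 1
    | some b => ⟨(b : G) * a * (b : G)⁻¹,
        (Subgroup.mem_normalizer_iff.mp (hN b.2) a).mp ha⟩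
  have hf : Function.Injective f := by
    intro o₁ o₂ h
    match o₁, o₂ with
    | none, none => rfl
    | none, some b =>
      exfalso
      have h' : (1 : G) = (b : G) * a * (b : G)⁻¹ := congrArg Subtype.val h
      apply ha1
      have := congrArg (fun x => (b : G)⁻¹ * x * (b : G)) h'
      simpa [mul_assoc] using this.symm
    | some b, none =>
      exfalso
      have h' : (b : G) * a * (b : G)⁻¹ = 1 := congrArg Subtype.val h
      apply ha1
      have := congrArg (fun x => (b : G)⁻¹ * x * (b : G)) h'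
      simpa [mul_assoc] using this
    | some b, some b' =>
      have h' : (b : G) * a * (b : G)⁻¹ = (b' : G) * a * (b' : G)⁻¹ := congrArg Subtype.val h
      by_contra hbb
      have hbb' : b ≠ b' := fun h => hbb (by rw [h])
      have hc : (b' : G)⁻¹ * (b : G) ∈ B := B.mul_mem (B.inv_mem b'.2) b.2
      have hc1 : (b' : G)⁻¹ * (b : G) ≠ 1 := by
        intro h1
        apply hbb'
        apply Subtype.ext
        have := congrArg (fun x => (b' : G) * x) h1
        simpa using this
      apply hfree _ hc hc1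
      -- a * (b'⁻¹ b) = (b'⁻¹ b) * a
      have := congrArg (fun x => (b' : G)⁻¹ * x * (b : G)) h'
      simp only [mul_assoc, inv_mul_cancel, mul_one, inv_mul_cancel_left] at this
      -- this : b'⁻¹ * (b * a) = a * (b'⁻¹ * b)
      rw [mul_assoc]
      exact this.symm
  have hcard : Nat.card (Option ↥B) ≤ Nat.card ↥A := Nat.card_le_card_of_injective f hf
  rw [Finite.card_option] at hcard
  omega

/-- A conjugate of a TI-subgroup is a TI-subgroup. -/
theorem ti_conj (A : Subgroup G)
    (hti : ∀ h : G, A.map (MulAut.conj h).toMonoidHom = A ∨ A.map (MulAut.conj h).toMonoidHom ⊓ A = ⊥)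
    (g : G) : ∀ h : G,
      (A.map (MulAut.conj g).toMonoidHom).map (MulAut.conj h).toMonoidHom = A.map (MulAut.conj g).toMonoidHom ∨
      (A.map (MulAut.conj g).toMonoidHom).map (MulAut.conj h).toMonoidHom ⊓ A.map (MulAut.conj g).toMonoidHom = ⊥ := by
  intro h
  have key : ∀ x : G, x ∈ (A.map (MulAut.conj g).toMonoidHom).map (MulAut.conj h).toMonoidHom ↔
      g⁻¹ * x * g ∈ A.map (MulAut.conj (g⁻¹ * h * g)).toMonoidHom := by
    intro x
    rw [mem_map_conj_iff, mem_map_conj_iff, mem_map_conj_iff]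
    have : g⁻¹ * (h⁻¹ * x * h) * g = (g⁻¹ * h * g)⁻¹ * (g⁻¹ * x * g) * (g⁻¹ * h * g) := by group
    rw [this]
  rcases hti (g⁻¹ * h * g) with h1 | h1
  · left
    ext x
    rw [key, h1, mem_map_conj_iff]
  · right
    rw [eq_bot_iff]
    intro x hx
    rw [Subgroup.mem_bot]
    have hx1 := (key x).mp hx.1
    have hx2 := (mem_map_conj_iff A g x).mp hx.2
    have : g⁻¹ * x * g ∈ A.map (MulAut.conj (g⁻¹ * h * g)).toMonoidHom ⊓ A := ⟨hx1, hx2⟩
    rw [h1, Subgroup.mem_bot] at this
    have := congrArg (fun y => g * y * g⁻¹) this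
    simpa [mul_assoc] using this

theorem card_map_conj (A : Subgroup G) (g : G) :
    Nat.card ↥(A.map (MulAut.conj g).toMonoidHom) = Nat.card ↥A := by
  have hinj : Function.Injective (MulAut.conj g).toMonoidHom := (MulAut.conj g).injective
  exact (Nat.card_congr (A.equivMapOfInjective _ hinj).toEquiv).symm

end Cfsg.Agent.Lib.Helper11
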