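import Mathlib
import Cfsg.Agent.S1780
import Cfsg.Agent.Lib.Helper11.TI

/-!
Conjugation by a 2-element on an abelian 2-subgroup: the S1780 lemma transported to subgroups.
-/

set_option autoImplicit false

namespace Cfsg.Agent.Lib.Helper11

open scoped IsMulCommutative

variable {G : Type*} [Group G]

/-- If `d` (of 2-power order) normalizes the abelian 2-subgroup `B` of a finite group, and every element of `B`
centralized by `d²`-conjugation twice is centralized by `d`, then `d` centralizes `B`. -/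
theorem conj_trivial_of_fix [Finite G] (B : Subgroup G) [hBc : IsMulCommutative ↥B] (hB2 : IsPGroup 2 ↥B)
    (d : G) (hdN : d ∈ Subgroup.normalizer (B : Set G)) (hd : ∃ k : ℕ, d ^ (2 ^ k) = 1)
    (hC : ∀ b ∈ B, d * (d * b * d⁻¹) * d⁻¹ = b → d * b * d⁻¹ = b) :
    ∀ b ∈ B, d * b * d⁻¹ = b := by
  set t : MulAut ↥B := B.normalizerMonoidHom ⟨d, hdN⟩ with ht
  have htapp : ∀ b : ↥B, ((t b : ↥B) : G) = d * (b : G) * d⁻¹ := by
    intro b; rfl
  obtain ⟨k, hk⟩ := hd
  have htk : t ^ (2 ^ k) = 1 := by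
    rw [ht, ← map_pow]
    have : (⟨d, hdN⟩ : ↥(Subgroup.normalizer (B : Set G))) ^ (2 ^ k) = 1 := by
      apply Subtype.ext
      simpa using hk
    rw [this, map_one]
  have hord : ∃ j : ℕ, orderOf t = 2 ^ j := by
    have hdvd : orderOf t ∣ 2 ^ k := orderOf_dvd_of_pow_eq_one htk
    obtain ⟨j, _, hj⟩ := (Nat.dvd_prime_pow Nat.prime_two).mp hdvd
    exact ⟨j, hj⟩
  have hC' : ∀ a : ↥B, t (t a) = a → t a = a := by
    intro a h
    apply Subtype.ext
    rw [htapp]
    apply hC a a.2
    have := congrArg Subtype.val h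
    rw [htapp, htapp] at this
    exact this
  have := Cfsg.Agent.S1780.result (A := ↥B) hB2 t hord hC'
  intro b hb
  have h := congrArg Subtype.val (this ⟨b, hb⟩)
  rw [htapp] at h
  exact h

end Cfsg.Agent.Lib.Helper11
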