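import Mathlib
import Cfsg.Agent.Lib.Helper4.Basic

set_option autoImplicit false

namespace Cfsg.Agent.Lib.Helper11

section
variable {G : Type*} [Group G]

/-- Two elements of prime order `r` in the same coset of a normal subgroup `Q` of order prime to `r`
are conjugate under `Q` (Sylow's theorem in `Q⟨c⟩`). -/
theorem exists_conj_eq_of_coprime_coset [Finite G] (Q : Subgroup G) [Q.Normal] (r : ℕ)
    [Fact r.Prime] (hQ : ¬ r ∣ Nat.card Q) (c c' : G) (hc : orderOf c = r) (hc' : orderOf c' = r)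
    (hcc : c⁻¹ * c' ∈ Q) : ∃ q ∈ Q, q * c * q⁻¹ = c' := by
  have hr : r.Prime := Fact.out
  set R : Subgroup G := Subgroup.zpowers c ⊔ Q with hR
  have hcR : c ∈ R := (le_sup_left : Subgroup.zpowers c ≤ R) (Subgroup.mem_zpowers c)
  have hQR : Q ≤ R := le_sup_right
  have hc'R : c' ∈ R := by
    have : c' = c * (c⁻¹ * c') := by group
    rw [this]
    exact R.mul_mem hcR (hQR hcc)
  -- card R divides r * card Q
  have hcardR : Nat.card R ∣ r * Nat.card Q := by
    have h1 : Nat.card (Subgroup.zpowers c) = r := by rw [Nat.card_zpowers, hc]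
    have h2 := Cfsg.Agent.Lib.Helper4.card_sup_mul_card_inf (Subgroup.zpowers c) Q
      (by rw [Subgroup.normalizer_eq_top]; exact le_top)
    rw [h1] at h2
    rw [← h2]
    exact Dvd.intro _ rfl
  -- every Sylow r-subgroup of R has order r
  have hsyl : ∀ S : Sylow r ↥R, Nat.card S ∣ r := by
    intro S
    obtain ⟨k, hk⟩ := (IsPGroup.iff_card.mp S.2)
    have hdvd : Nat.card S ∣ r * Nat.card Q :=
      (Subgroup.card_subgroup_dvd_card (S : Subgroup ↥R)).trans hcardR
    rw [hk] at hdvd ⊢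
    rcases k with _ | _ | k
    · simp
    · simp
    · exfalso
      apply hQ
      have : r * r ∣ r * Nat.card Q := by
        refine Dvd.dvd.trans ?_ hdvd
        rw [pow_succ, pow_succ, mul_assoc]
        exact Dvd.intro_left _ rfl
      exact (Nat.mul_dvd_mul_iff_left hr.pos).mp this
  set cR : ↥R := ⟨c, hcR⟩ with hcRdef
  set cR' : ↥R := ⟨c', hc'R⟩ with hcR'def
  have hocR : orderOf cR = r := by
    rw [← hc]; exact (Subgroup.orderOf_mk c hcR)
  have hocR' : orderOf cR' = r := by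
    rw [← hc']; exact (Subgroup.orderOf_mk c' hc'R)
  have hp1 : IsPGroup r ↥(Subgroup.zpowers cR) := by
    rw [IsPGroup.iff_card]
    exact ⟨1, by rw [Nat.card_zpowers, hocR, pow_one]⟩
  have hp2 : IsPGroup r ↥(Subgroup.zpowers cR') := by
    rw [IsPGroup.iff_card]
    exact ⟨1, by rw [Nat.card_zpowers, hocR', pow_one]⟩
  obtain ⟨S, hS⟩ := hp1.exists_le_sylow
  obtain ⟨S', hS'⟩ := hp2.exists_le_sylow
  have hS'eq : Subgroup.zpowers cR' = (S' : Subgroup ↥R) := by
    apply Subgroup.eq_of_le_of_card_ge hS'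
    rw [Nat.card_zpowers, hocR']
    exact Nat.le_of_dvd hr.pos (hsyl S')
  obtain ⟨ρ, hρ⟩ := MulAction.exists_smul_eq ↥R S S'
  have hmem : ρ * cR * ρ⁻¹ ∈ (S' : Subgroup ↥R) := by
    rw [← hρ, Sylow.coe_subgroup_smul, Subgroup.mem_pointwise_smul_iff_inv_smul_mem]
    simp only [MulAut.smul_def, MulAut.inv_apply, MulAut.conj_symm_apply]
    have : ρ⁻¹ * (ρ * cR * ρ⁻¹) * ρ = cR := by group
    rw [this]
    exact hS (Subgroup.mem_zpowers cR)
  rw [← hS'eq] at hmem
  obtain ⟨j, hj⟩ := Subgroup.mem_zpowers_iff.mp hmem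
  -- decompose ρ = c^i * q
  have hρmem : (ρ : G) ∈ Subgroup.zpowers c ⊔ Q := ρ.2
  rw [Subgroup.mem_sup_of_normal_right] at hρmem
  obtain ⟨y, hy, q, hq, hyq⟩ := hρmem
  obtain ⟨i, rfl⟩ := Subgroup.mem_zpowers_iff.mp hy
  -- conjugating c by q gives (c')^j up to conjugation by c^i
  have hj' : (ρ : G) * c * (ρ : G)⁻¹ = c' ^ j := by
    have := congrArg (Subtype.val) hj
    simpa using this.symm
  set q' : G := c ^ i * q * (c ^ i)⁻¹ with hq'
  have hq'Q : q' ∈ Q := by
    have hn : Q.Normal := inferInstance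
    exact hn.conj_mem q hq (c ^ i)
  have hconj : q' * c * q'⁻¹ = c' ^ j := by
    rw [← hj', ← hyq, hq']
    have hcomm : (c ^ i)⁻¹ * c * c ^ i = c := by
      rw [← zpow_neg, ← zpow_add_one, ← zpow_add]
      simp
    calc c ^ i * q * (c ^ i)⁻¹ * c * (c ^ i * q * (c ^ i)⁻¹)⁻¹
        = c ^ i * q * ((c ^ i)⁻¹ * c * c ^ i) * q⁻¹ * (c ^ i)⁻¹ := by group
      _ = c ^ i * q * c * (c ^ i * q)⁻¹ := by rw [hcomm]; group
  refine ⟨q', hq'Q, ?_⟩
  rw [hconj]
  -- c'^j = c'
  set z : G := c'⁻¹ * c' ^ j with hz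
  have hzQ : z ∈ Q := by
    have h1 : c⁻¹ * (q' * c * q'⁻¹) ∈ Q := by
      have hn : Q.Normal := inferInstance
      have h2 : c⁻¹ * q' * c ∈ Q := by
        have := hn.conj_mem q' hq'Q c⁻¹
        simpa using this
      have h3 : c⁻¹ * (q' * c * q'⁻¹) = (c⁻¹ * q' * c) * q'⁻¹ := by group
      rw [h3]
      exact Q.mul_mem h2 (Q.inv_mem hq'Q)
    rw [hconj] at h1
    have h4 : z = (c⁻¹ * c')⁻¹ * (c⁻¹ * c' ^ j) := by rw [hz]; group
    rw [h4]
    exact Q.mul_mem (Q.inv_mem hcc) h1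
  have hzr : z ^ r = 1 := by
    have h5 : z = c' ^ (j - 1) := by
      rw [hz, zpow_sub_one]
      exact ((Commute.zpow_right (Commute.refl c') j).inv_left).eq
    rw [h5, ← zpow_natCast, ← zpow_mul, mul_comm, zpow_mul, zpow_natCast, ← hc', pow_orderOf_eq_one,
      one_zpow]
  have hz1 : z = 1 := by
    have hd1 : orderOf z ∣ r := orderOf_dvd_of_pow_eq_one hzr
    have hd2 : orderOf z ∣ Nat.card Q := Subgroup.orderOf_dvd_natCard Q hzQ
    rcases (Nat.dvd_prime hr).mp hd1 with h | h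
    · exact orderOf_eq_one_iff.mp h
    · exact absurd (h ▸ hd2) hQ
  have : c' ^ j = c' * z := by rw [hz, mul_inv_cancel_left]
  rw [this, hz1, mul_one]

end

end Cfsg.Agent.Lib.Helper11
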