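import Mathlib

/-! Arithmetic and abstract group lemmas for the two-generation of `³D₄(q)` (helper11). -/

set_option autoImplicit false

namespace Cfsg.Agent.Lib.Helper11.D4Gen




theorem coprime_aux (r : ℕ) : Nat.Coprime (r ^ 2 + 3 * r + 1) (r * (r ^ 2 + 3 * r + 3)) := by
  apply Nat.Coprime.mul_right
  · rw [← Nat.isCoprime_iff_coprime]
    exact ⟨1, -((r : ℤ) + 3), by push_cast; ring⟩
  · obtain ⟨k, hk⟩ : ∃ k, r * (r + 1) = 2 * k := by
      obtain ⟨k, hk⟩ := Nat.even_mul_succ_self r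
      exact ⟨k, by rw [hk]; ring⟩
    rw [← Nat.isCoprime_iff_coprime]
    refine ⟨(k : ℤ) + r + 1, -((k : ℤ) + r), ?_⟩
    have hk' : (r : ℤ) * (r + 1) = 2 * k := by exact_mod_cast hk
    push_cast
    linear_combination hk'

/-- for `q ≥ 1`: `q² + q - 1` is prime to `q³ - 1` -/
theorem coprime_q (q : ℕ) (hq : 1 ≤ q) : Nat.Coprime (q ^ 2 + q - 1) (q ^ 3 - 1) := by
  obtain ⟨r, rfl⟩ : ∃ r, q = r + 1 := ⟨q - 1, by omega⟩
  have e1 : (r + 1) ^ 2 + (r + 1) - 1 = r ^ 2 + 3 * r + 1 := by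
    have : (r + 1) ^ 2 + (r + 1) = r ^ 2 + 3 * r + 1 + 1 := by ring
    rw [this]; rfl
  have e2 : (r + 1) ^ 3 - 1 = r * (r ^ 2 + 3 * r + 3) := by
    have : (r + 1) ^ 3 = r * (r ^ 2 + 3 * r + 3) + 1 := by ring
    rw [this]; rfl
  rw [e1, e2]
  exact coprime_aux r

/-- in a finite field with `q³` elements, if `g` generates the units then so does `g^(q²+q-1)` -/
theorem exists_pow_eq {K : Type*} [Field K] [Fintype K] (q : ℕ) (hq : 1 ≤ q) (hK : Fintype.card K = q ^ 3)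
    (g : Kˣ) (hg : ∀ x : Kˣ, x ∈ Subgroup.zpowers g) (x : K) (hx : x ≠ 0) :
    ∃ i : ℕ, ((g : K) ^ (q ^ 2 + q - 1)) ^ i = x := by
  classical
  have ho : orderOf g = q ^ 3 - 1 := by
    rw [orderOf_eq_card_of_forall_mem_zpowers hg, Nat.card_eq_fintype_card, Fintype.card_units, hK]
  have ho2 : orderOf (g ^ (q ^ 2 + q - 1)) = Nat.card Kˣ := by
    rw [Nat.Coprime.orderOf_pow (by rw [ho]; exact (coprime_q q hq).symm),
      orderOf_eq_card_of_forall_mem_zpowers hg]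
  have hcyc : ∀ y : Kˣ, y ∈ Subgroup.zpowers (g ^ (q ^ 2 + q - 1)) := by
    intro y
    have : Subgroup.zpowers (g ^ (q ^ 2 + q - 1)) = ⊤ := by
      apply Subgroup.eq_top_of_card_eq
      rw [Nat.card_zpowers, ho2]
    rw [this]; trivial
  have hy := hcyc (Units.mk0 x hx)
  rw [← mem_powers_iff_mem_zpowers] at hy
  obtain ⟨i, hi⟩ := hy
  refine ⟨i, ?_⟩
  have := congrArg (fun u : Kˣ => (u : K)) hi
  simpa using this




open Polynomial in
theorem exists_trace_ne_zero {K : Type*} [Field K] [Fintype K] (q : ℕ) (hq : 2 ≤ q)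
    (hK : Fintype.card K = q ^ 3) : ∃ s : K, s + s ^ q + (s ^ q) ^ q ≠ 0 := by
  classical
  by_contra hcon
  simp only [not_exists, not_not] at hcon
  have hp : (X + X ^ q + X ^ (q * q) : K[X]) = 0 := by
    apply Polynomial.eq_zero_of_natDegree_lt_card_of_eval_eq_zero' _ (Finset.univ : Finset K)
    · intro s _
      have := hcon s
      rw [← pow_mul] at this
      simpa using this
    · rw [Finset.card_univ, hK]
      have h1 : (X + X ^ q + X ^ (q * q) : K[X]).natDegree ≤ q * q := by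
        apply Polynomial.natDegree_add_le_of_degree_le
        · apply Polynomial.natDegree_add_le_of_degree_le
          · rw [natDegree_X]; nlinarith
          · rw [natDegree_X_pow]; nlinarith
        · rw [natDegree_X_pow]
      have h2 : q * q < q ^ 3 := by nlinarith [pow_succ q 2, sq q]
      omega
  have hc := congrArg (fun p : K[X] => p.coeff 1) hp
  simp only [coeff_add, coeff_X_one, coeff_X_pow, coeff_zero] at hc
  have h1 : (1 : ℕ) ≠ q := by omega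
  have h2 : (1 : ℕ) ≠ q * q := by nlinarith
  rw [if_neg h1, if_neg h2] at hc
  simp at hc

theorem exists_trace_eq {K : Type*} [Field K] [Fintype K] (q : ℕ) (hq : 2 ≤ q)
    (hK : Fintype.card K = q ^ 3) (φ : K ≃+* K) (hφ : ∀ a, φ a = a ^ q)
    (hφ3 : ∀ a, φ (φ (φ a)) = a) (y : K) (hy : φ y = y) : ∃ s : K, s + φ s + φ (φ s) = y := by
  obtain ⟨s0, hs0⟩ := exists_trace_ne_zero (K := K) q hq hK
  rw [← hφ, ← hφ] at hs0
  obtain ⟨T, hT⟩ : ∃ T, T = s0 + φ s0 + φ (φ s0) := ⟨_, rfl⟩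
  rw [← hT] at hs0
  have hTfix : φ T = T := by
    rw [hT, map_add, map_add, hφ3]; ring
  refine ⟨y * T⁻¹ * s0, ?_⟩
  simp only [map_mul, map_inv₀, hy, hTfix]
  field_simp
  rw [hT]




section core
variable {G : Type*} [Group G] {K : Type*} [Field K]

theorem addX_zero (X : K → G) (hX : ∀ s t, X (s + t) = X s * X t) : X 0 = 1 := by
  have := hX 0 0
  rw [add_zero] at this
  exact (mul_eq_left.mp this.symm)

theorem addX_neg (X : K → G) (hX : ∀ s t, X (s + t) = X s * X t) (s : K) : X (-s) = (X s)⁻¹ := by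
  have := hX (-s) s
  rw [neg_add_cancel, addX_zero X hX] at this
  exact eq_inv_of_mul_eq_one_left this.symm

/-- the key lemma: from a torus element `h` and `b = n x_A(1)` one gets the whole root group `X_A` and `n` -/
theorem core_lemma (M : Subgroup G) (X : K → G) (hX : ∀ s t, X (s + t) = X s * X t)
    (h n : G) (cA cS : K) (hcA0 : cA ≠ 0) (hcA1 : cA ≠ 1) (hcS1 : cS ≠ 1)
    (hA : ∀ s, h * X s * h⁻¹ = X (cA * s))
    (hS : ∀ s, h * (n * X s * n⁻¹) * h⁻¹ = n * X (cS * s) * n⁻¹)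
    (hgen : ∀ x : K, x ≠ 0 → ∃ i : ℕ, cS ^ i = x)
    (hcomm : Commute h (n * h * n⁻¹))
    (hh : h ∈ M) (hb : n * X 1 ∈ M) : (∀ s, X s ∈ M) ∧ n ∈ M := by
  have hX0 := addX_zero X hX
  have hXneg := addX_neg X hX
  obtain ⟨r, hr⟩ : ∃ r : K, r = cA⁻¹ - 1 := ⟨_, rfl⟩
  have hr0 : r ≠ 0 := by
    rw [hr]
    intro h0
    apply hcA1
    have : cA⁻¹ = 1 := sub_eq_zero.mp h0
    exact inv_eq_one.mp this
  -- `X 1 * h * (X 1)⁻¹ = h * X r`
  have e1 : X 1 * h * (X 1)⁻¹ = h * X r := by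
    have h1 := hA cA⁻¹
    rw [mul_inv_cancel₀ hcA0] at h1
    have h2 : X 1 * h = h * X cA⁻¹ := by rw [← h1]; group
    rw [h2, hr, sub_eq_add_neg, hX, hXneg, mul_assoc]
  -- `y = b h b⁻¹ = h'' * P r`
  have hy : (n * X 1) * h * (n * X 1)⁻¹ ∈ M := M.mul_mem (M.mul_mem hb hh) (M.inv_mem hb)
  have e2 : (n * X 1) * h * (n * X 1)⁻¹ = (n * h * n⁻¹) * (n * X r * n⁻¹) := by
    have : (n * X 1) * h * (n * X 1)⁻¹ = n * (X 1 * h * (X 1)⁻¹) * n⁻¹ := by group
    rw [this, e1]; group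
  rw [e2] at hy
  -- `z = y⁻¹ h y h⁻¹ = P ((cS - 1) r)`
  have hz : ((n * h * n⁻¹) * (n * X r * n⁻¹))⁻¹ * h * ((n * h * n⁻¹) * (n * X r * n⁻¹)) * h⁻¹ ∈ M :=
    M.mul_mem (M.mul_mem (M.mul_mem (M.inv_mem hy) hh) hy) (M.inv_mem hh)
  have e3 : ((n * h * n⁻¹) * (n * X r * n⁻¹))⁻¹ * h * ((n * h * n⁻¹) * (n * X r * n⁻¹)) * h⁻¹ =
      n * X ((cS - 1) * r) * n⁻¹ := by
    have c1 : (n * h * n⁻¹)⁻¹ * h * (n * h * n⁻¹) = h := by
      rw [mul_assoc, hcomm.eq, ← mul_assoc, inv_mul_cancel, one_mul]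
    have : ((n * h * n⁻¹) * (n * X r * n⁻¹))⁻¹ * h * ((n * h * n⁻¹) * (n * X r * n⁻¹)) * h⁻¹ =
        (n * X r * n⁻¹)⁻¹ * ((n * h * n⁻¹)⁻¹ * h * (n * h * n⁻¹)) * (n * X r * n⁻¹) * h⁻¹ := by group
    rw [this, c1]
    have : (n * X r * n⁻¹)⁻¹ * h * (n * X r * n⁻¹) * h⁻¹ =
        (n * X r * n⁻¹)⁻¹ * (h * (n * X r * n⁻¹) * h⁻¹) := by group
    rw [this, hS]
    have : (n * X r * n⁻¹)⁻¹ * (n * X (cS * r) * n⁻¹) = n * ((X r)⁻¹ * X (cS * r)) * n⁻¹ := by group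
    rw [this, ← hXneg, ← hX]
    congr 2
    ring_nf
  rw [e3] at hz
  obtain ⟨r1, hr1⟩ : ∃ r1 : K, r1 = (cS - 1) * r := ⟨_, rfl⟩
  rw [← hr1] at hz
  have hr10 : r1 ≠ 0 := by
    rw [hr1]; exact mul_ne_zero (sub_ne_zero.mpr hcS1) hr0
  -- conjugating by powers of `h`
  have hpow : ∀ i : ℕ, n * X (cS ^ i * r1) * n⁻¹ ∈ M := by
    intro i
    induction i with
    | zero => simpa using hz
    | succ i ih =>
      have := M.mul_mem (M.mul_mem hh ih) (M.inv_mem hh)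
      rw [hS] at this
      convert this using 3
      ring_nf
  have hP : ∀ t : K, n * X t * n⁻¹ ∈ M := by
    intro t
    by_cases ht : t = 0
    · rw [ht, hX0]; simp
    · obtain ⟨i, hi⟩ := hgen (t / r1) (div_ne_zero ht hr10)
      have := hpow i
      rw [hi, div_mul_cancel₀ _ hr10] at this
      exact this
  have hXM : ∀ s, X s ∈ M := by
    intro s
    have := M.mul_mem (M.mul_mem (M.inv_mem hb) (hP s)) hb
    have e : (n * X 1)⁻¹ * (n * X s * n⁻¹) * (n * X 1) = (X 1)⁻¹ * X s * X 1 := by group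
    rw [e, ← hXneg, ← hX, ← hX] at this
    convert this using 2
    ring
  refine ⟨hXM, ?_⟩
  have := M.mul_mem hb (M.inv_mem (hXM 1))
  simpa using this

end core


end Cfsg.Agent.Lib.Helper11.D4Gen
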