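import Cfsg.Agent.Lib.Helper7.ChevTwistHD4
import Cfsg.Agent.Lib.Helper7.ChevBorel

/-! Explicit computations in `³D₄(q)` for the two-generation theorem (helper11). -/

set_option autoImplicit false
set_option maxRecDepth 100000

namespace Cfsg.Agent.Lib.Helper11.D4Gen

open Cfsg Cfsg.Lie Matrix
open Cfsg.Agent.Lib.Helper7

/-- the sign of the conjugation of `x_s` by the word `n_L` -/
def etaWord (D : ChevalleyDatum) : List ℕ → ℕ → ℤ
  | [], _ => 1
  | i :: L, s => etaFn D i (reflWord D L s) * etaWord D L s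

section gen
variable (D : ChevalleyDatum) (hD : D ∈ [chevG2, chevB2, chevD4, chevF4, chevE6, chevE7, chevE8])
variable (K : Type*) [Field K]
include hD

theorem nWordGL_conj_xGL_eta (L : List ℕ) (hL : ∀ i ∈ L, i < D.rank) (s : ℕ) (hs : s < D.nroots) (t : K) :
    nWordGL D hD K L * xGL D hD K s t * (nWordGL D hD K L)⁻¹ =
      xGL D hD K (reflWord D L s) (((etaWord D L s : ℤ) : K) * t) := by
  induction L with
  | nil =>
    have : nWordGL D hD K [] = 1 := by simp [nWordGL]
    rw [this]
    simp [reflWord, etaWord]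
  | cons i L ih =>
    have hi : i < D.rank := hL i List.mem_cons_self
    have ih' := ih (fun j hj => hL j (List.mem_cons_of_mem _ hj))
    have hlt : reflWord D L s < D.nroots :=
      reflWord_lt' D hD L (fun j hj => hL j (List.mem_cons_of_mem _ hj)) s hs
    have e : nWordGL D hD K (i :: L) = nFund D hD K i * nWordGL D hD K L := by simp [nWordGL]
    have e2 : nFund D hD K i * nWordGL D hD K L * xGL D hD K s t * (nFund D hD K i * nWordGL D hD K L)⁻¹ =
        nFund D hD K i * (nWordGL D hD K L * xGL D hD K s t * (nWordGL D hD K L)⁻¹) *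
          (nFund D hD K i)⁻¹ := by group
    rw [e, e2, ih']
    unfold nFund
    rw [nGL_conj_xGL D hD K i hi _ hlt]
    show xGL D hD K (D.reflectRoot i (reflWord D L s)) _ = xGL D hD K (D.reflectRoot i (reflWord D L s)) _
    congr 1
    have e3 : etaWord D (i :: L) s = etaFn D i (reflWord D L s) * etaWord D L s := rfl
    rw [e3]
    push_cast
    ring

end gen

section d4
variable (K : Type*) [Field K] (φ : K ≃+* K)

local notation "x" => xGL chevD4 chevD4_mem K

/-- the twisted root element of the class `{p₁, p₃, p₄}` -/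
noncomputable def xa (s : K) : GL chevD4.Idx K := x 18 s * x 13 (φ s) * x 12 (φ (φ s))

/-- the twisted root element of the class `-{p₁, p₃, p₄}` -/
noncomputable def xma (s : K) : GL chevD4.Idx K := x 5 s * x 10 (φ s) * x 11 (φ (φ s))

/-- the conjugate of `xa` by `n = n_A n_B` -/
noncomputable def xp (s : K) : GL chevD4.Idx K := x 17 s * x 20 (-φ s) * x 21 (-φ (φ s))

theorem comm_nil (r s : ℕ) (hr : r < 24) (hs : s < 24) (hsr : s ≠ r) (hsn : s ≠ chevD4.neg r)
    (h : chevD4.commTerms r s = []) (a b : K) : Commute (x r a) (x s b) :=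
  xGL_comm_of_nil chevD4 chevD4_mem K r s hr hs hsr hsn h a b

theorem c_18_13 (a b : K) : Commute (x 18 a) (x 13 b) :=
  comm_nil K 18 13 (by decide) (by decide) (by decide) (by decide) (by decide +kernel) a b
theorem c_18_12 (a b : K) : Commute (x 18 a) (x 12 b) :=
  comm_nil K 18 12 (by decide) (by decide) (by decide) (by decide) (by decide +kernel) a b
theorem c_13_12 (a b : K) : Commute (x 13 a) (x 12 b) :=
  comm_nil K 13 12 (by decide) (by decide) (by decide) (by decide) (by decide +kernel) a b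

theorem xa_add (s t : K) : xa K φ (s + t) = xa K φ s * xa K φ t := by
  unfold xa
  rw [map_add, map_add, ← xGL_mul, ← xGL_mul, ← xGL_mul]
  have h1 := c_18_13 K t (φ s)
  have h2 := c_18_12 K t (φ (φ s))
  have h3 := c_13_12 K (φ t) (φ (φ s))
  calc x 18 s * x 18 t * (x 13 (φ s) * x 13 (φ t)) * (x 12 (φ (φ s)) * x 12 (φ (φ t)))
      = x 18 s * (x 18 t * x 13 (φ s)) * (x 13 (φ t) * x 12 (φ (φ s))) * x 12 (φ (φ t)) := by group
    _ = x 18 s * (x 13 (φ s) * x 18 t) * (x 12 (φ (φ s)) * x 13 (φ t)) * x 12 (φ (φ t)) := by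
      rw [h1.eq, h3.eq]
    _ = x 18 s * x 13 (φ s) * (x 18 t * x 12 (φ (φ s))) * x 13 (φ t) * x 12 (φ (φ t)) := by group
    _ = x 18 s * x 13 (φ s) * (x 12 (φ (φ s)) * x 18 t) * x 13 (φ t) * x 12 (φ (φ t)) := by rw [h2.eq]
    _ = _ := by group

end d4

end Cfsg.Agent.Lib.Helper11.D4Gen
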