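import Cfsg.Agent.Lib.Helper11.D4GenB1

set_option autoImplicit false
set_option maxRecDepth 100000

namespace Cfsg.Agent.Lib.Helper11.D4Gen

open Cfsg Cfsg.Lie Matrix
open Cfsg.Agent.Lib.Helper7

section d4
variable (K : Type*) [Field K] (φ : K ≃+* K)

local notation "x" => xGL chevD4 chevD4_mem K

/-- the Coxeter word -/
def cox : List ℕ := [0, 2, 3, 1]

theorem cox_lt (j : ℕ) : ∀ i ∈ (List.replicate j cox).flatten, i < chevD4.rank := by
  intro i hi
  rw [List.mem_flatten] at hi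
  obtain ⟨l, hl, hil⟩ := hi
  rw [List.eq_of_mem_replicate hl] at hil
  revert hil; revert i; decide

/-- the element `n = n_A n_B` -/
noncomputable def nC : GL chevD4.Idx K := nWordGL chevD4 chevD4_mem K cox

theorem nC_pow (j : ℕ) : (nC K) ^ j = nWordGL chevD4 chevD4_mem K (List.replicate j cox).flatten := by
  induction j with
  | zero => simp [nWordGL]
  | succ j ih =>
    rw [pow_succ', ih, List.replicate_succ, List.flatten_cons, nWordGL_append]
    rfl

/-- conjugation of a root element by a power of `n`, with explicit data -/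
theorem nC_pow_conj (j s s' : ℕ) (c : ℤ) (hs : s < 24)
    (h1 : reflWord chevD4 (List.replicate j cox).flatten s = s')
    (h2 : etaWord chevD4 (List.replicate j cox).flatten s = c) (t : K) :
    (nC K) ^ j * x s t * ((nC K) ^ j)⁻¹ = x s' ((c : K) * t) := by
  rw [nC_pow, nWordGL_conj_xGL_eta chevD4 chevD4_mem K _ (cox_lt j) s hs t, h1, h2]

theorem nC_conj_xa (s : K) : nC K * xa K φ s * (nC K)⁻¹ = xp K φ s := by
  have h18 := nC_pow_conj K 1 18 17 1 (by decide) (by decide +kernel) (by decide +kernel) s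
  have h13 := nC_pow_conj K 1 13 20 (-1) (by decide) (by decide +kernel) (by decide +kernel) (φ s)
  have h12 := nC_pow_conj K 1 12 21 (-1) (by decide) (by decide +kernel) (by decide +kernel) (φ (φ s))
  rw [pow_one] at h18 h13 h12
  unfold xa xp
  have : nC K * (x 18 s * x 13 (φ s) * x 12 (φ (φ s))) * (nC K)⁻¹ =
      (nC K * x 18 s * (nC K)⁻¹) * (nC K * x 13 (φ s) * (nC K)⁻¹) * (nC K * x 12 (φ (φ s)) * (nC K)⁻¹) := by
    group
  rw [this, h18, h13, h12]
  simp

theorem nC3_conj_xa (s : K) : (nC K) ^ 3 * xa K φ s * ((nC K) ^ 3)⁻¹ = xma K φ (-s) := by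
  have h18 := nC_pow_conj K 3 18 5 (-1) (by decide) (by decide +kernel) (by decide +kernel) s
  have h13 := nC_pow_conj K 3 13 10 (-1) (by decide) (by decide +kernel) (by decide +kernel) (φ s)
  have h12 := nC_pow_conj K 3 12 11 (-1) (by decide) (by decide +kernel) (by decide +kernel) (φ (φ s))
  unfold xa xma
  have : (nC K) ^ 3 * (x 18 s * x 13 (φ s) * x 12 (φ (φ s))) * ((nC K) ^ 3)⁻¹ =
      ((nC K) ^ 3 * x 18 s * ((nC K) ^ 3)⁻¹) * ((nC K) ^ 3 * x 13 (φ s) * ((nC K) ^ 3)⁻¹) *
        ((nC K) ^ 3 * x 12 (φ (φ s)) * ((nC K) ^ 3)⁻¹) := by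
    group
  rw [this, h18, h13, h12]
  simp

theorem nC2_conj_x22 (y : K) : (nC K) ^ 2 * x 22 y * ((nC K) ^ 2)⁻¹ = x 14 (-y) := by
  have h := nC_pow_conj K 2 22 14 (-1) (by decide) (by decide +kernel) (by decide +kernel) y
  rw [h]; simp

theorem nC5_conj_x22 (y : K) : (nC K) ^ 5 * x 22 y * ((nC K) ^ 5)⁻¹ = x 9 y := by
  have h := nC_pow_conj K 5 22 9 1 (by decide) (by decide +kernel) (by decide +kernel) y
  rw [h]; simp

end d4

end Cfsg.Agent.Lib.Helper11.D4Gen
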