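import Cfsg.Agent.Lib.Helper11.D4GenB2

set_option autoImplicit false
set_option maxRecDepth 100000

namespace Cfsg.Agent.Lib.Helper11.D4Gen

open Cfsg Cfsg.Lie Matrix
open Cfsg.Agent.Lib.Helper7

section grp
variable {G : Type*} [Group G]

theorem conj_split {u a p z : G} (hup : Commute u p) (huz : Commute u z) (ha : a * p * a⁻¹ = p * z) :
    (u * a) * p * (u * a)⁻¹ = p * z := by
  have : (u * a) * p * (u * a)⁻¹ = u * (a * p * a⁻¹) * u⁻¹ := by group
  rw [this, ha]
  have h := hup.mul_right huz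
  rw [h.eq]; group

end grp

section d4
variable (K : Type*) [Field K] (φ : K ≃+* K)

local notation "x" => xGL chevD4 chevD4_mem K

theorem c_13_17 (a b : K) : Commute (x 13 a) (x 17 b) :=
  comm_nil K 13 17 (by decide) (by decide) (by decide) (by decide) (by decide +kernel) a b
theorem c_12_17 (a b : K) : Commute (x 12 a) (x 17 b) :=
  comm_nil K 12 17 (by decide) (by decide) (by decide) (by decide) (by decide +kernel) a b
theorem c_18_20 (a b : K) : Commute (x 18 a) (x 20 b) :=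
  comm_nil K 18 20 (by decide) (by decide) (by decide) (by decide) (by decide +kernel) a b
theorem c_12_20 (a b : K) : Commute (x 12 a) (x 20 b) :=
  comm_nil K 12 20 (by decide) (by decide) (by decide) (by decide) (by decide +kernel) a b
theorem c_18_21 (a b : K) : Commute (x 18 a) (x 21 b) :=
  comm_nil K 18 21 (by decide) (by decide) (by decide) (by decide) (by decide +kernel) a b
theorem c_13_21 (a b : K) : Commute (x 13 a) (x 21 b) :=
  comm_nil K 13 21 (by decide) (by decide) (by decide) (by decide) (by decide +kernel) a b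
theorem c_18_22 (a b : K) : Commute (x 18 a) (x 22 b) :=
  comm_nil K 18 22 (by decide) (by decide) (by decide) (by decide) (by decide +kernel) a b
theorem c_13_22 (a b : K) : Commute (x 13 a) (x 22 b) :=
  comm_nil K 13 22 (by decide) (by decide) (by decide) (by decide) (by decide +kernel) a b
theorem c_12_22 (a b : K) : Commute (x 12 a) (x 22 b) :=
  comm_nil K 12 22 (by decide) (by decide) (by decide) (by decide) (by decide +kernel) a b
theorem c_22_20 (a b : K) : Commute (x 22 a) (x 20 b) :=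
  comm_nil K 22 20 (by decide) (by decide) (by decide) (by decide) (by decide +kernel) a b
theorem c_22_21 (a b : K) : Commute (x 22 a) (x 21 b) :=
  comm_nil K 22 21 (by decide) (by decide) (by decide) (by decide) (by decide +kernel) a b

theorem conj_18_17 (u t : K) : x 18 u * x 17 t * (x 18 u)⁻¹ = x 17 t * x 22 (-(u * t)) := by
  rw [xGL_conj_xGL chevD4 chevD4_mem K 18 17 (by decide) (by decide) (by decide) (by decide) u t]
  have hct : chevD4.commTerms 18 17 = [(22, -1, 1, 1)] := by decide +kernel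
  unfold ChevalleyDatum.commWord
  rw [hct]
  simp [wordGL]

theorem conj_13_20 (u t : K) : x 13 u * x 20 t * (x 13 u)⁻¹ = x 20 t * x 22 (u * t) := by
  rw [xGL_conj_xGL chevD4 chevD4_mem K 13 20 (by decide) (by decide) (by decide) (by decide) u t]
  have hct : chevD4.commTerms 13 20 = [(22, 1, 1, 1)] := by decide +kernel
  unfold ChevalleyDatum.commWord
  rw [hct]
  simp [wordGL]

theorem conj_12_21 (u t : K) : x 12 u * x 21 t * (x 12 u)⁻¹ = x 21 t * x 22 (u * t) := by
  rw [xGL_conj_xGL chevD4 chevD4_mem K 12 21 (by decide) (by decide) (by decide) (by decide) u t]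
  have hct : chevD4.commTerms 12 21 = [(22, 1, 1, 1)] := by decide +kernel
  unfold ChevalleyDatum.commWord
  rw [hct]
  simp [wordGL]

/-- the commutator of `x_A(1)` and the twisted root element at `60°` is a long root element -/
theorem xa_conj_xp (s : K) :
    xa K φ 1 * xp K φ s * (xa K φ 1)⁻¹ = xp K φ s * x 22 (-(s + φ s + φ (φ s))) := by
  unfold xa xp
  rw [map_one, map_one]
  have e1 : x 18 1 * x 13 1 * x 12 1 = (x 13 1 * x 12 1) * x 18 1 := by
    rw [mul_assoc, ((c_18_13 K 1 1).mul_right (c_18_12 K 1 1)).eq]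
  have e2 : x 18 1 * x 13 1 * x 12 1 = (x 18 1 * x 12 1) * x 13 1 := by
    rw [mul_assoc, mul_assoc, (c_13_12 K 1 1).eq]
  have k1 : (x 18 1 * x 13 1 * x 12 1) * x 17 s * (x 18 1 * x 13 1 * x 12 1)⁻¹ = x 17 s * x 22 (-s) := by
    rw [e1]
    apply conj_split ((c_13_17 K 1 s).mul_left (c_12_17 K 1 s))
      ((c_13_22 K 1 _).mul_left (c_12_22 K 1 _))
    rw [conj_18_17, one_mul]
  have k2 : (x 18 1 * x 13 1 * x 12 1) * x 20 (-φ s) * (x 18 1 * x 13 1 * x 12 1)⁻¹ =
      x 20 (-φ s) * x 22 (-φ s) := by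
    rw [e2]
    apply conj_split ((c_18_20 K 1 _).mul_left (c_12_20 K 1 _))
      ((c_18_22 K 1 _).mul_left (c_12_22 K 1 _))
    rw [conj_13_20, one_mul]
  have k3 : (x 18 1 * x 13 1 * x 12 1) * x 21 (-φ (φ s)) * (x 18 1 * x 13 1 * x 12 1)⁻¹ =
      x 21 (-φ (φ s)) * x 22 (-φ (φ s)) := by
    apply conj_split ((c_18_21 K 1 _).mul_left (c_13_21 K 1 _))
      ((c_18_22 K 1 _).mul_left (c_13_22 K 1 _))
    rw [conj_12_21, one_mul]
  have split : (x 18 1 * x 13 1 * x 12 1) * (x 17 s * x 20 (-φ s) * x 21 (-φ (φ s))) *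
      (x 18 1 * x 13 1 * x 12 1)⁻¹ =
      ((x 18 1 * x 13 1 * x 12 1) * x 17 s * (x 18 1 * x 13 1 * x 12 1)⁻¹) *
      ((x 18 1 * x 13 1 * x 12 1) * x 20 (-φ s) * (x 18 1 * x 13 1 * x 12 1)⁻¹) *
      ((x 18 1 * x 13 1 * x 12 1) * x 21 (-φ (φ s)) * (x 18 1 * x 13 1 * x 12 1)⁻¹) := by group
  rw [split, k1, k2, k3]
  have z1 := c_22_20 K (-s) (-φ s)
  have z2 := c_22_21 K (-s) (-φ (φ s))
  have z3 := c_22_21 K (-φ s) (-φ (φ s))
  calc x 17 s * x 22 (-s) * (x 20 (-φ s) * x 22 (-φ s)) * (x 21 (-φ (φ s)) * x 22 (-φ (φ s)))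
      = x 17 s * (x 22 (-s) * x 20 (-φ s)) * (x 22 (-φ s) * x 21 (-φ (φ s))) * x 22 (-φ (φ s)) := by group
    _ = x 17 s * (x 20 (-φ s) * x 22 (-s)) * (x 21 (-φ (φ s)) * x 22 (-φ s)) * x 22 (-φ (φ s)) := by
      rw [z1.eq, z3.eq]
    _ = x 17 s * x 20 (-φ s) * (x 22 (-s) * x 21 (-φ (φ s))) * (x 22 (-φ s) * x 22 (-φ (φ s))) := by group
    _ = x 17 s * x 20 (-φ s) * (x 21 (-φ (φ s)) * x 22 (-s)) * (x 22 (-φ s) * x 22 (-φ (φ s))) := by
      rw [z2.eq]
    _ = x 17 s * x 20 (-φ s) * x 21 (-φ (φ s)) * (x 22 (-s) * (x 22 (-φ s) * x 22 (-φ (φ s)))) := by group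
    _ = _ := by
      rw [xGL_mul, xGL_mul]
      congr 2
      ring

end d4

end Cfsg.Agent.Lib.Helper11.D4Gen
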