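import Cfsg.Agent.Lib.Helper11.D4GenB3

set_option autoImplicit false
set_option maxRecDepth 100000

namespace Cfsg.Agent.Lib.Helper11.D4Gen

open Cfsg Cfsg.Lie Matrix
open Cfsg.Agent.Lib.Helper7

section d4
variable (K : Type*) [Field K] (φ : K ≃+* K)

local notation "x" => xGL chevD4 chevD4_mem K

/-- the torus element `h_{p₁}(λ) h_{p₃}(φλ) h_{p₄}(φ²λ)` -/
noncomputable def hT (lam : K) : GL chevD4.Idx K := tD4 K φ 1 lam

theorem char_val (lam : K) (s : ℕ) (c0 c2 c3 : ℤ) (h0 : chevD4.cartan 0 s = c0)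
    (h2 : chevD4.cartan 2 s = c2) (h3 : chevD4.cartan 3 s = c3) :
    prodChar chevD4 K [1] (fun _ => (1 : K)) s * prodChar chevD4 K [0, 2, 3] (tripleC K φ 0 2 lam) s =
      lam ^ c0 * (φ lam) ^ c2 * (φ (φ lam)) ^ c3 := by
  unfold prodChar
  simp only [List.map_cons, List.map_nil, List.prod_cons, List.prod_nil, mul_one, _root_.one_zpow, one_mul]
  rw [h0, h2, h3]
  unfold tripleC
  rw [if_pos rfl, if_neg (by decide), if_pos rfl, if_neg (by decide), if_neg (by decide)]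
  ring

theorem hT_conj (lam : K) (hlam : lam ≠ 0) (s : ℕ) (c0 c2 c3 : ℤ) (h0 : chevD4.cartan 0 s = c0)
    (h2 : chevD4.cartan 2 s = c2) (h3 : chevD4.cartan 3 s = c3) (t : K) :
    hT K φ lam * x s t * (hT K φ lam)⁻¹ = x s (lam ^ c0 * (φ lam) ^ c2 * (φ (φ lam)) ^ c3 * t) := by
  unfold hT
  rw [tD4_conj K φ 1 lam one_ne_zero hlam s t, ← mul_assoc, char_val K φ lam s c0 c2 c3 h0 h2 h3]

theorem hT_conj_xa (lam : K) (hlam : lam ≠ 0) (s : K) :
    hT K φ lam * xa K φ s * (hT K φ lam)⁻¹ = xa K φ (lam ^ 2 * s) := by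
  have h18 := hT_conj K φ lam hlam 18 2 0 0 (by decide +kernel) (by decide +kernel) (by decide +kernel) s
  have h13 := hT_conj K φ lam hlam 13 0 2 0 (by decide +kernel) (by decide +kernel) (by decide +kernel) (φ s)
  have h12 := hT_conj K φ lam hlam 12 0 0 2 (by decide +kernel) (by decide +kernel) (by decide +kernel)
    (φ (φ s))
  unfold xa
  have : hT K φ lam * (x 18 s * x 13 (φ s) * x 12 (φ (φ s))) * (hT K φ lam)⁻¹ =
      (hT K φ lam * x 18 s * (hT K φ lam)⁻¹) * (hT K φ lam * x 13 (φ s) * (hT K φ lam)⁻¹) *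
        (hT K φ lam * x 12 (φ (φ s)) * (hT K φ lam)⁻¹) := by group
  rw [this, h18, h13, h12]
  simp

theorem hT_conj_xp (hφ3 : ∀ a, φ (φ (φ a)) = a) (lam : K) (hlam : lam ≠ 0) (s : K) :
    hT K φ lam * xp K φ s * (hT K φ lam)⁻¹ = xp K φ (lam⁻¹ * φ lam * φ (φ lam) * s) := by
  have h17 := hT_conj K φ lam hlam 17 (-1) 1 1 (by decide +kernel) (by decide +kernel) (by decide +kernel) s
  have h20 := hT_conj K φ lam hlam 20 1 (-1) 1 (by decide +kernel) (by decide +kernel) (by decide +kernel)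
    (-φ s)
  have h21 := hT_conj K φ lam hlam 21 1 1 (-1) (by decide +kernel) (by decide +kernel) (by decide +kernel)
    (-φ (φ s))
  unfold xp
  have : hT K φ lam * (x 17 s * x 20 (-φ s) * x 21 (-φ (φ s))) * (hT K φ lam)⁻¹ =
      (hT K φ lam * x 17 s * (hT K φ lam)⁻¹) * (hT K φ lam * x 20 (-φ s) * (hT K φ lam)⁻¹) *
        (hT K φ lam * x 21 (-φ (φ s)) * (hT K φ lam)⁻¹) := by group
  rw [this, h17, h20, h21]
  simp only [_root_.zpow_neg_one, _root_.zpow_one, map_mul, map_inv₀, hφ3]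
  congr 1
  · congr 1
    congr 1
    ring
  · congr 1
    ring

end d4

end Cfsg.Agent.Lib.Helper11.D4Gen
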