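import Cfsg.Agent.Lib.Helper11.D4GenA
import Cfsg.Agent.Lib.Helper11.D4GenB4
import Cfsg.Agent.Lib.Helper7.ChevTwistD4

set_option autoImplicit false
set_option maxRecDepth 100000

namespace Cfsg.Agent.Lib.Helper11.D4Gen

open Cfsg Cfsg.Lie Matrix
open Cfsg.Agent.Lib.Helper7

section d4
variable (K : Type*) [Field K] (φ : K ≃+* K)

local notation "x" => xGL chevD4 chevD4_mem K

local notation "G1D4" => chevD4.genSubgroup K (twWords K φ [d4p2, d4m2] []
  [(d4p1, d4p3, d4p4), (d4m1, d4m3, d4m4)])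

theorem xa_eq_word (s : K) : xa K φ s = wordGL chevD4 chevD4_mem K [(18, s), (13, φ s), (12, φ (φ s))] := by
  unfold xa wordGL
  simp [mul_assoc]

theorem xma_eq_word (s : K) : xma K φ s = wordGL chevD4 chevD4_mem K [(5, s), (10, φ s), (11, φ (φ s))] := by
  unfold xma wordGL
  simp [mul_assoc]

theorem xa_mem (s : K) : xa K φ s ∈ G1D4 := by
  rw [xa_eq_word]
  exact wordGL_mem_twGroup chevD4 chevD4_mem K φ _ _ _ _ (Or.inr ⟨s, (d4p1, d4p3, d4p4), by simp, rfl⟩)

theorem nC_mem : nC K ∈ G1D4 := by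
  have : nC K = nWordGL chevD4 chevD4_mem K [0, 2, 3] * nWordGL chevD4 chevD4_mem K [1] :=
    nWordGL_append chevD4 chevD4_mem K [0, 2, 3] [1]
  rw [this]
  exact Subgroup.mul_mem _ (nWordGL_mem_twD4 K φ [0, 2, 3] (by decide)) (nWordGL_mem_twD4 K φ [1] (by decide))

theorem hT_mem (lam : K) (hlam : lam ≠ 0) : hT K φ lam ∈ G1D4 :=
  tD4_mem_G1 K φ 1 lam one_ne_zero (map_one φ) hlam

theorem hT_comm (lam : K) (hlam : lam ≠ 0) :
    Commute (hT K φ lam) (nC K * hT K φ lam * (nC K)⁻¹) := by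
  have h1 : hT K φ lam ∈ chevD4.diagonalSubgroup K := tD4_mem_H K φ 1 lam one_ne_zero hlam
  have h2 : nC K ∈ chevD4.monomialSubgroup K :=
    nWordGL_mem_monomial chevD4 chevD4_mem K cox (by decide)
  have h3 := monomialSubgroup_le_normalizer_diagonal chevD4 chevD4_mem K h2
  rw [Subgroup.mem_set_normalizer_iff] at h3
  exact diagonalSubgroup_comm chevD4 chevD4_mem K _ _ h1 ((h3 _).mp h1)

variable [Fintype K]

theorem d4_main (q : ℕ) (hq : 2 ≤ q) (hK : Fintype.card K = q ^ 3) (hφ : ∀ a, φ a = a ^ q)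
    (hφ3 : ∀ a, φ (φ (φ a)) = a) (g : Kˣ) (hg : ∀ y : Kˣ, y ∈ Subgroup.zpowers g) :
    Subgroup.closure ({hT K φ (g : K), nC K * xa K φ 1} : Set (GL chevD4.Idx K)) = G1D4 := by
  classical
  have hg0 : (g : K) ≠ 0 := Units.ne_zero g
  obtain ⟨M, hM⟩ : ∃ M, M = Subgroup.closure ({hT K φ (g : K), nC K * xa K φ 1} : Set (GL chevD4.Idx K)) :=
    ⟨_, rfl⟩
  rw [← hM]
  have hhM : hT K φ (g : K) ∈ M := by
    rw [hM]; exact Subgroup.subset_closure (Set.mem_insert _ _)
  have hbM : nC K * xa K φ 1 ∈ M := by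
    rw [hM]; exact Subgroup.subset_closure (Set.mem_insert_of_mem _ rfl)
  -- the order of `g`
  have ho : orderOf g = q ^ 3 - 1 := by
    rw [orderOf_eq_card_of_forall_mem_zpowers hg, Nat.card_eq_fintype_card, Fintype.card_units, hK]
  have hq3 : 8 ≤ q ^ 3 := by
    calc 8 = 2 ^ 3 := by norm_num
      _ ≤ q ^ 3 := Nat.pow_le_pow_left hq 3
  have hg2 : (g : K) ^ 2 ≠ 1 := by
    intro h
    have h' : g ^ 2 = 1 := Units.ext (by simpa using h)
    have := orderOf_dvd_of_pow_eq_one h'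
    rw [ho] at this
    have := Nat.le_of_dvd (by norm_num) this
    omega
  -- the character on the class at 60°
  obtain ⟨cS, hcS⟩ : ∃ cS : K, cS = (g : K)⁻¹ * φ g * φ (φ g) := ⟨_, rfl⟩
  have hcS' : cS = (g : K) ^ (q ^ 2 + q - 1) := by
    have h1 : cS * g = (g : K) ^ (q ^ 2 + q - 1) * g := by
      rw [hcS, ← pow_succ, hφ, hφ, ← pow_mul]
      have : q ^ 2 + q - 1 + 1 = q + q * q := by
        have : 1 ≤ q ^ 2 + q := by nlinarith
        rw [Nat.sub_add_cancel this]; ring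
      rw [this, pow_add]
      field_simp
    exact mul_right_cancel₀ hg0 h1
  have hgen : ∀ y : K, y ≠ 0 → ∃ i : ℕ, cS ^ i = y := by
    intro y hy
    rw [hcS']
    exact exists_pow_eq q (by omega) hK g hg y hy
  have hcS1 : cS ≠ 1 := by
    intro h
    obtain ⟨i, hi⟩ := hgen (g : K) hg0
    rw [h, one_pow] at hi
    apply hg2
    rw [← hi, one_pow]
  -- the core lemma
  obtain ⟨hXA, hnM⟩ := core_lemma M (xa K φ) (xa_add K φ) (hT K φ (g : K)) (nC K) ((g : K) ^ 2) cS
    (pow_ne_zero 2 hg0) hg2 hcS1 (hT_conj_xa K φ (g : K) hg0)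
    (by
      intro s
      rw [nC_conj_xa, nC_conj_xa, hT_conj_xp K φ hφ3 (g : K) hg0, hcS])
    hgen (hT_comm K φ (g : K) hg0) hhM hbM
  -- the negative class
  have hXmA : ∀ s, xma K φ s ∈ M := by
    intro s
    have := nC3_conj_xa K φ (-s)
    rw [neg_neg] at this
    rw [← this]
    exact M.mul_mem (M.mul_mem (M.pow_mem hnM 3) (hXA _)) (M.inv_mem (M.pow_mem hnM 3))
  -- the class at 60°
  have hXP : ∀ s, xp K φ s ∈ M := by
    intro s
    rw [← nC_conj_xa]
    exact M.mul_mem (M.mul_mem hnM (hXA _)) (M.inv_mem hnM)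
  -- the long root element
  have hX22 : ∀ y : K, φ y = y → x 22 y ∈ M := by
    intro y hy
    obtain ⟨s, hs⟩ := exists_trace_eq q hq hK φ hφ hφ3 (-y) (by rw [map_neg, hy])
    have h1 := xa_conj_xp K φ s
    rw [hs, neg_neg] at h1
    have h2 : x 22 y = (xp K φ s)⁻¹ * (xa K φ 1 * xp K φ s * (xa K φ 1)⁻¹) := by
      rw [h1]; group
    rw [h2]
    exact M.mul_mem (M.inv_mem (hXP s)) (M.mul_mem (M.mul_mem (hXA 1) (hXP s)) (M.inv_mem (hXA 1)))
  have hX14 : ∀ y : K, φ y = y → x 14 y ∈ M := by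
    intro y hy
    have := nC2_conj_x22 K (-y)
    rw [neg_neg] at this
    rw [← this]
    exact M.mul_mem (M.mul_mem (M.pow_mem hnM 2) (hX22 _ (by rw [map_neg, hy])))
      (M.inv_mem (M.pow_mem hnM 2))
  have hX9 : ∀ y : K, φ y = y → x 9 y ∈ M := by
    intro y hy
    rw [← nC5_conj_x22]
    exact M.mul_mem (M.mul_mem (M.pow_mem hnM 5) (hX22 _ hy)) (M.inv_mem (M.pow_mem hnM 5))
  apply le_antisymm
  · rw [hM, Subgroup.closure_le]
    intro z hz
    rcases hz with rfl | rfl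
    · exact hT_mem K φ (g : K) hg0
    · exact Subgroup.mul_mem _ (nC_mem K φ) (xa_mem K φ 1)
  · unfold ChevalleyDatum.genSubgroup
    rw [Subgroup.closure_le]
    rintro z ⟨w, hw, hz⟩
    have hzw : z = wordGL chevD4 chevD4_mem K w := Units.ext (by rw [hz, coe_wordGL])
    rw [SetLike.mem_coe, hzw]
    rcases hw with (⟨t, ht, r, hr, rfl⟩ | ⟨t, rs, hrs, rfl⟩) | ⟨t, rs, hrs, rfl⟩
    · have e : wordGL chevD4 chevD4_mem K [(r, t)] = x r t := by simp [wordGL]
      rw [e]
      simp only [List.mem_cons, List.not_mem_nil, or_false] at hr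
      rcases hr with rfl | rfl
      · exact hX14 t ht
      · exact hX9 t ht
    · simp at hrs
    · simp only [List.mem_cons, List.not_mem_nil, or_false] at hrs
      rcases hrs with rfl | rfl
      · have := hXA t
        rw [xa_eq_word] at this
        exact this
      · have := hXmA t
        rw [xma_eq_word] at this
        exact this

end d4

end Cfsg.Agent.Lib.Helper11.D4Gen
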