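import Cfsg.Agent.Lib.Helper11.D4GenB5

set_option autoImplicit false

namespace Cfsg.Agent.Lib.Helper11.D4Gen

open Cfsg Cfsg.Lie Matrix
open Cfsg.Agent.Lib.Helper7

/-- `³D₄(q)` is generated by two elements: a torus element and `n_w x_A(1)` for a Coxeter element `w` -/
theorem twistedD4_two_generated {K : Type*} [Field K] [Fintype K] {q : ℕ} (hq : IsPrimePow q)
    (hK : Fintype.card K = q ^ 3) :
    ∃ a b : ↥(twistedD4 K q), Subgroup.closure ({a, b} : Set ↥(twistedD4 K q)) = ⊤ := by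
  classical
  obtain ⟨φ, hφ, hiter, -, hG⟩ := twistedD4_eq K q hq hK
  have hφ3 : ∀ a, φ (φ (φ a)) = a := hiter
  obtain ⟨g, hg⟩ := IsCyclic.exists_generator (α := Kˣ)
  have key := d4_main K φ q hq.two_le hK hφ hφ3 g hg
  rw [← hG] at key
  have ha : hT K φ (g : K) ∈ twistedD4 K q := by
    rw [← key]; exact Subgroup.subset_closure (Set.mem_insert _ _)
  have hb : nC K * xa K φ 1 ∈ twistedD4 K q := by
    rw [← key]; exact Subgroup.subset_closure (Set.mem_insert_of_mem _ rfl)
  refine ⟨⟨_, ha⟩, ⟨_, hb⟩, ?_⟩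
  apply Subgroup.map_injective (twistedD4 K q).subtype_injective
  rw [MonoidHom.map_closure, Set.image_pair, ← MonoidHom.range_eq_map, Subgroup.range_subtype]
  exact key

end Cfsg.Agent.Lib.Helper11.D4Gen
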