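/-
helper11: S4719 leaf G10 core (`card_le_of_core_trivial` with leaves G6b, G7, G8, G9 as explicit
hypotheses at the group `G`): the `O_{2'}(G) = 1` step.
-/
import Mathlib
import Cfsg.Agent.Lib.Helper13.DCDefs
import Cfsg.Agent.Lib.Helper8.FStar
import Cfsg.Agent.Lib.Helper9.PComponent
import Cfsg.Agent.Lib.Helper7.DCG5

set_option autoImplicit false

universe u

namespace Cfsg.Agent.Lib.Helper11.DCG10

open Cfsg Cfsg.Agent.Lib.Helper13.DC

open scoped Pointwise

/-- `|G| ≤ |N| * |N|!` for a normal subgroup `N` containing its centralizer. -/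
theorem card_le_mul_factorial_of_centralizer_le {G : Type*} [Group G] [Finite G] (N : Subgroup G)
    [hN : N.Normal] (h : Subgroup.centralizer (N : Set G) ≤ N) :
    Nat.card G ≤ Nat.card N * (Nat.card N).factorial := by
  classical
  let φ : G →* Equiv.Perm N := (MulAut.toPerm N).comp (MulAut.conjNormal (H := N))
  have hker : φ.ker ≤ N := by
    intro g hg
    apply h
    rw [Subgroup.mem_centralizer_iff]
    intro n hn
    have h1 : φ g ⟨n, hn⟩ = ⟨n, hn⟩ := by
      rw [MonoidHom.mem_ker.mp hg]; rfl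
    have h2 : ((φ g ⟨n, hn⟩ : N) : G) = g * n * g⁻¹ := rfl
    rw [h1] at h2
    have h3 : g * n * g⁻¹ = n := h2.symm
    calc n * g = (g * n * g⁻¹) * g := by rw [h3]
      _ = g * n := by group
  have h1 : Nat.card φ.ker * φ.ker.index = Nat.card G := Subgroup.card_mul_index _
  have h2 : φ.ker.index = Nat.card φ.range := Subgroup.index_ker φ
  have h3 : Nat.card φ.range ≤ (Nat.card N).factorial := by
    rw [← Nat.card_perm]
    exact Finite.card_subtype_le _
  rw [← h1, h2]
  exact Nat.mul_le_mul (Subgroup.card_le_of_le hker) h3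

theorem card_le_of_core_trivial_of {G : Type u} [Group G] [Finite G] (a c : ℕ)
    (hG6b : ∀ L : Subgroup G, Cfsg.IsQuasisimple L → ∀ y : G, y * y = 1 →
      y ∈ Subgroup.normalizer (L : Set G) →
      Nat.card (Subgroup.centralizer ({y} : Set G)) ≤ c →
      Nat.card L ≤ (c * (c + 1)).factorial * Nat.card (Subgroup.center L))
    (hG7 : ∀ L : Subgroup G, Cfsg.IsComponent L → 2 ∣ (Subgroup.center L).index)
    (hG8 : ∀ L : Subgroup G, Cfsg.IsComponent L → Nat.card (Subgroup.center L) ≤ 2 ^ a)
    (hG9 : ∀ B : ℕ, 1 ≤ B →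
      (∀ L : Subgroup G, Cfsg.IsComponent L → 2 ∣ (Subgroup.center L).index) →
      (∀ L : Subgroup G, Cfsg.IsComponent L → Nat.card L ≤ B) →
      Nat.card (Cfsg.layer G) ≤ B ^ a)
    (hO : Cfsg.pPrimeCore 2 G = ⊥) (ha : (Nat.card G).factorization 2 ≤ a) (y : G)
    (hy : orderOf y = 2) (hc : Nat.card (Subgroup.centralizer ({y} : Set G)) ≤ c) :
    Nat.card G ≤ qBound a c := by
  classical
  have hyy : y * y = 1 := by rw [← pow_two, ← hy, pow_orderOf_eq_one]
  -- each component is bounded
  have hcomp : ∀ L : Subgroup G, Cfsg.IsComponent L → Nat.card L ≤ compBound a c := by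
    intro L hL
    have hZ := hG8 L hL
    unfold compBound
    by_cases hn : y ∈ Subgroup.normalizer (L : Set G)
    · calc Nat.card L ≤ (c * (c + 1)).factorial * Nat.card (Subgroup.center L) :=
            hG6b L hL.2 y hyy hn hc
        _ ≤ (c * (c + 1)).factorial * 2 ^ a := Nat.mul_le_mul_left _ hZ
    · set L' : Subgroup G := L.map (MulAut.conj y).toMonoidHom with hL'def
      have hL' : Cfsg.IsComponent L' := Cfsg.Agent.Lib.Helper8.isComponent_map_conj hL y
      have hne : L' ≠ L := fun h => hn (Cfsg.Agent.Lib.Helper8.mem_normalizer_iff_map_conj.mpr h)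
      have hcomm : ⁅L, L'⁆ = ⊥ := by
        rcases Cfsg.Agent.Lib.Helper8.component_le_or_commutator_eq_bot L L' hL hL'.1 with h | h
        · exfalso
          apply hne
          refine (Subgroup.eq_of_le_of_card_ge h ?_).symm
          rw [hL'def, Cfsg.Agent.Lib.Helper8.card_map_conj]
        · exact h
      have h5 := Cfsg.Agent.Lib.Helper7.DCG5.card_le_of_commute_conj L y hyy (by
        intro x hx b hb
        have hb' : y * b * y⁻¹ ∈ L' := Cfsg.Agent.Lib.Helper8.conj_mem_map_conj hb
        have := Subgroup.commutator_mem_commutator hx hb'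
        rw [hcomm, Subgroup.mem_bot] at this
        exact commutatorElement_eq_one_iff_mul_comm.mp this)
      have hcle : c ≤ (c * (c + 1)).factorial :=
        le_trans (Nat.le_mul_of_pos_right c (Nat.succ_pos c)) (Nat.self_le_factorial _)
      calc Nat.card L
          ≤ Nat.card (Subgroup.centralizer ({y} : Set G)) * Nat.card (Subgroup.center L) := h5
        _ ≤ c * 2 ^ a := Nat.mul_le_mul hc hZ
        _ ≤ (c * (c + 1)).factorial * 2 ^ a := Nat.mul_le_mul_right _ hcle
  -- the layer
  have hB1 : 1 ≤ compBound a c := by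
    unfold compBound
    exact Nat.one_le_iff_ne_zero.mpr
      (Nat.mul_ne_zero (Nat.factorial_ne_zero _) (pow_ne_zero _ (by norm_num)))
  have hlayer : Nat.card (Cfsg.layer G) ≤ compBound a c ^ a := hG9 (compBound a c) hB1 hG7 hcomp
  -- the Fitting subgroup
  have hF : Cfsg.fittingSubgroup G = Cfsg.pCore 2 G :=
    Cfsg.Agent.Lib.Helper9.fittingSubgroup_eq_pCore_of_pPrimeCore_eq_bot 2 hO
  have hFcard : Nat.card (Cfsg.fittingSubgroup G) ≤ 2 ^ a := by
    rw [hF]
    obtain ⟨n, hn⟩ := IsPGroup.iff_card.mp (Cfsg.Agent.Lib.Helper1.pCore_isPGroup 2 G)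
    rw [hn]
    apply Nat.pow_le_pow_right (by norm_num)
    refine le_trans ?_ ha
    have hdvd : 2 ^ n ∣ Nat.card G := hn ▸ Subgroup.card_subgroup_dvd_card _
    exact (Nat.prime_two.pow_dvd_iff_le_factorization Nat.card_pos.ne').mp hdvd
  -- the generalized Fitting subgroup
  have hFs : Nat.card (Cfsg.generalizedFittingSubgroup G) ≤ fstarBound a c := by
    have := Cfsg.Agent.Lib.Helper1.fittingSubgroup_normal G
    unfold Cfsg.generalizedFittingSubgroup fstarBound
    have h1 : ((Cfsg.layer G ⊔ Cfsg.fittingSubgroup G : Subgroup G) : Set G) =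
        (Cfsg.layer G : Set G) * (Cfsg.fittingSubgroup G : Set G) := Subgroup.mul_normal _ _
    calc Nat.card (Cfsg.layer G ⊔ Cfsg.fittingSubgroup G : Subgroup G)
        = Nat.card ((Cfsg.layer G ⊔ Cfsg.fittingSubgroup G : Subgroup G) : Set G) := rfl
      _ = Nat.card ((Cfsg.layer G : Set G) * (Cfsg.fittingSubgroup G : Set G) : Set G) := by
          rw [h1]
      _ ≤ Nat.card (Cfsg.layer G : Set G) * Nat.card (Cfsg.fittingSubgroup G : Set G) :=
          Set.natCard_mul_le
      _ ≤ compBound a c ^ a * 2 ^ a := Nat.mul_le_mul hlayer hFcard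
  -- conclusion
  have := Cfsg.Agent.Lib.Helper8.generalizedFittingSubgroup_normal G
  have hfin := card_le_mul_factorial_of_centralizer_le (Cfsg.generalizedFittingSubgroup G)
    Cfsg.Agent.Lib.Helper8.centralizer_fstar_le
  unfold qBound
  exact le_trans hfin (Nat.mul_le_mul hFs (Nat.factorial_le hFs))

end Cfsg.Agent.Lib.Helper11.DCG10
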