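/-
helper11: S4719 leaf G10 with only leaf G6b left as a hypothesis (G5, G7, G8, G9 instantiated from
helper7 / helper9 / helper4).
-/
import Mathlib
import Cfsg.Agent.Lib.Helper13.DCDefs
import Cfsg.Agent.Lib.Helper11.DCG10Core
import Cfsg.Agent.Lib.Helper9.DCG7
import Cfsg.Agent.Lib.Helper9.DCG8
import Cfsg.Agent.Lib.Helper4.DCG9

set_option autoImplicit false

universe u

namespace Cfsg.Agent.Lib.Helper11.DCG10

open Cfsg Cfsg.Agent.Lib.Helper13.DC

/-- G10 from G6b (at the group `G`). -/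
theorem card_le_of_core_trivial_of_G6b {G : Type u} [Group G] [Finite G] (a c : ℕ)
    (hG6b : ∀ L : Subgroup G, Cfsg.IsQuasisimple L → ∀ y : G, y * y = 1 →
      y ∈ Subgroup.normalizer (L : Set G) →
      Nat.card (Subgroup.centralizer ({y} : Set G)) ≤ c →
      Nat.card L ≤ (c * (c + 1)).factorial * Nat.card (Subgroup.center L))
    (hO : Cfsg.pPrimeCore 2 G = ⊥) (ha : (Nat.card G).factorization 2 ≤ a) (y : G)
    (hy : orderOf y = 2) (hc : Nat.card (Subgroup.centralizer ({y} : Set G)) ≤ c) :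
    Nat.card G ≤ qBound a c :=
  card_le_of_core_trivial_of a c hG6b
    (fun L hL => Cfsg.Agent.Lib.Helper9.DCG7.even_index_center_of_component hO L hL)
    (fun L hL => Cfsg.Agent.Lib.Helper9.DCG8.card_center_component_le hO L hL a ha)
    (fun B hB1 heven hB => Cfsg.Agent.Lib.Helper4.DCG9.card_layer_le a B hB1 ha heven hB)
    hO ha y hy hc

end Cfsg.Agent.Lib.Helper11.DCG10
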