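/-
helper11: S4719 leaf G10 `card_le_of_core_trivial` (exact leaf signature): the `O_{2'}(G) = 1` step,
from the core `card_le_of_core_trivial_of_G6b` and helper29's leaf G6b.
-/
import Mathlib
import Cfsg.Agent.Lib.Helper13.DCDefs
import Cfsg.Agent.Lib.Helper11.DCG10Pre
import Cfsg.Agent.Lib.Helper29.DCG6b

set_option autoImplicit false

universe u

namespace Cfsg.Agent.Lib.Helper11.DCG10

open Cfsg Cfsg.Agent.Lib.Helper13.DC

/-- LEAF G10: the `O_{2'}(G) = 1` step. -/
theorem card_le_of_core_trivial {G : Type u} [Group G] [Finite G] (a c : ℕ)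
    (hO : Cfsg.pPrimeCore 2 G = ⊥) (ha : (Nat.card G).factorization 2 ≤ a) (y : G)
    (hy : orderOf y = 2) (hc : Nat.card (Subgroup.centralizer ({y} : Set G)) ≤ c) :
    Nat.card G ≤ qBound a c :=
  card_le_of_core_trivial_of_G6b a c
    (fun L hL y hy hyL hc =>
      Cfsg.Agent.Lib.Helper29.DCG6b.card_le_of_normalizes L hL y hy hyL c hc)
    hO ha y hy hc

end Cfsg.Agent.Lib.Helper11.DCG10
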