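/-
helper11: S4719 leaf G3 core (`centralizer_bound_step` with leaf G1 as an explicit hypothesis):
pass to `C_G(y)/⟨y⟩` and the image of `E`.
-/
import Mathlib
import Cfsg.Agent.Lib.Helper13.DCDefs

set_option autoImplicit false

universe u

namespace Cfsg.Agent.Lib.Helper11.DCG3

open Cfsg Cfsg.Agent.Lib.Helper13.DC

theorem centralizer_bound_step_of
    (G1 : ∀ (H : Type u) [Group H] [Finite H] (N : Subgroup H) [N.Normal] (S : Finset H),
      Nat.card (Subgroup.centralizer ((QuotientGroup.mk' N) '' (S : Set H))) * Nat.card N ≤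
        Nat.card N ^ S.card * Nat.card (Subgroup.centralizer (S : Set H)))
    (m a c N' : ℕ)
    (hP : ∀ (H : Type u) [Group H] [Finite H] (E : Subgroup H), ElemAb2 E → Nat.card E = 2 ^ m →
      (Nat.card H).factorization 2 ≤ a → HypBd E (2 ^ (2 ^ m) * c) → Nat.card H ≤ N')
    (G : Type u) [Group G] [Finite G] (E : Subgroup G) (hE : ElemAb2 E)
    (hcard : Nat.card E = 2 ^ (m + 1)) (ha : (Nat.card G).factorization 2 ≤ a) (hbd : HypBd E c)
    (y : G) (hy : y ∈ E) (hy1 : y ≠ 1) :
    Nat.card (Subgroup.centralizer ({y} : Set G)) ≤ 2 * N' := by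
  classical
  set C : Subgroup G := Subgroup.centralizer ({y} : Set G) with hC
  have hyy : y * y = 1 := hE.2 y hy
  have hmemC : ∀ g : G, g ∈ C ↔ y * g = g * y := by
    intro g
    rw [hC, Subgroup.mem_centralizer_iff]
    constructor
    · intro h; exact h y rfl
    · intro h z hz; rw [Set.mem_singleton_iff.mp hz]; exact h
  have hyC : y ∈ C := (hmemC y).mpr rfl
  have hEC : E ≤ C := fun x hx => (hmemC x).mpr (hE.1 y hy x hx)
  set yC : C := ⟨y, hyC⟩ with hyCdef
  have hycentral : ∀ g : C, Commute g yC := by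
    intro g
    apply Subtype.ext
    exact ((hmemC g.1).mp g.2).symm
  set N : Subgroup C := Subgroup.zpowers yC with hN
  haveI hNn : N.Normal := by
    refine ⟨fun n hn g => ?_⟩
    obtain ⟨k, rfl⟩ := Subgroup.mem_zpowers_iff.mp hn
    have hc : Commute g (yC ^ k) := (hycentral g).zpow_right k
    rw [hc.eq, mul_inv_cancel_right]
    exact hn
  have hordy : orderOf yC = 2 := by
    refine orderOf_eq_prime ?_ ?_
    · apply Subtype.ext
      simp [pow_two, hyCdef, hyy]
    · intro h
      exact hy1 (congrArg Subtype.val h)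
  have hNcard : Nat.card N = 2 := by rw [hN, Nat.card_zpowers, hordy]
  set π : C →* C ⧸ N := QuotientGroup.mk' N with hπ
  have hπs : Function.Surjective π := QuotientGroup.mk'_surjective N
  have hker : π.ker = N := QuotientGroup.ker_mk' N
  set E' : Subgroup C := E.subgroupOf C with hE'
  have hNE' : N ≤ E' := by
    rw [hN, Subgroup.zpowers_le, hE', Subgroup.mem_subgroupOf]
    exact hy
  set Eb : Subgroup (C ⧸ N) := E'.map π with hEb
  -- cardinalities
  have hcardE' : Nat.card E' = 2 ^ (m + 1) := by
    rw [← hcard]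
    exact Nat.card_congr (Subgroup.subgroupOfEquivOfLe hEC).toEquiv
  have hCq : Nat.card C = Nat.card (C ⧸ N) * 2 := by
    rw [← hNcard]; exact Subgroup.card_eq_card_quotient_mul_card_subgroup N
  have hcard_map : ∀ K : Subgroup C, N ≤ K → Nat.card (K.map π) * 2 = Nat.card K := by
    intro K hK
    have h1 : (K.map π).index = K.index :=
      Subgroup.index_map_eq K hπs (by rw [hker]; exact hK)
    have h2 : Nat.card (K.map π) * (K.map π).index = Nat.card (C ⧸ N) := Subgroup.card_mul_index _
    have h3 : Nat.card K * K.index = Nat.card C := Subgroup.card_mul_index _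
    have h4 : K.index ≠ 0 := Subgroup.index_ne_zero_of_finite
    have h5 : Nat.card (K.map π) * 2 * K.index = Nat.card K * K.index := by
      rw [h3, hCq, ← h2, h1]; ring
    exact Nat.eq_of_mul_eq_mul_right (Nat.pos_of_ne_zero h4) h5
  have hcardEb : Nat.card Eb = 2 ^ m := by
    have := hcard_map E' hNE'
    rw [hcardE', pow_succ] at this
    exact Nat.eq_of_mul_eq_mul_right (by norm_num) this
  -- `Eb` is elementary abelian
  have hEbab : ElemAb2 Eb := by
    constructor
    · rintro _ ⟨x, hx, rfl⟩ _ ⟨z, hz, rfl⟩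
      rw [← map_mul, ← map_mul]
      congr 1
      apply Subtype.ext
      exact hE.1 x.1 (Subgroup.mem_subgroupOf.mp hx) z.1 (Subgroup.mem_subgroupOf.mp hz)
    · rintro _ ⟨x, hx, rfl⟩
      rw [← map_mul, ← map_one π]
      congr 1
      apply Subtype.ext
      exact hE.2 x.1 (Subgroup.mem_subgroupOf.mp hx)
  -- 2-part
  have hfac : (Nat.card (C ⧸ N)).factorization 2 ≤ a := by
    refine le_trans ?_ ha
    have hdvd : Nat.card (C ⧸ N) ∣ Nat.card G :=
      (Dvd.intro _ hCq.symm).trans (Subgroup.card_subgroup_dvd_card C)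
    exact (Nat.factorization_le_iff_dvd Nat.card_pos.ne' Nat.card_pos.ne').mpr hdvd 2
  -- the hypothesis on hyperplanes
  have hbdb : HypBd Eb (2 ^ (2 ^ m) * c) := by
    intro Fb hFb hidx
    set F1 : Subgroup C := Fb.comap π with hF1
    have hrel1 : F1.relIndex E' = 2 := by
      rw [hF1, Subgroup.relIndex_comap]; exact hidx
    have hNF1 : N ≤ F1 := by
      intro n hn
      rw [hF1, Subgroup.mem_comap]
      have : π n = 1 := by rw [← MonoidHom.mem_ker, hker]; exact hn
      rw [this]; exact Fb.one_mem
    have hF1E' : F1 ≤ E' := by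
      intro x hx
      have hx' : π x ∈ Eb := hFb hx
      obtain ⟨e, he, hex⟩ := hx'
      have : e⁻¹ * x ∈ N := by
        rw [← hker, MonoidHom.mem_ker, map_mul, map_inv, hex, inv_mul_cancel]
      have h2 : e * (e⁻¹ * x) ∈ E' := E'.mul_mem he (hNE' this)
      rwa [mul_inv_cancel_left] at h2
    set F : Subgroup G := F1.map C.subtype with hF
    have hFE : F ≤ E := by
      rintro _ ⟨x, hx, rfl⟩
      exact Subgroup.mem_subgroupOf.mp (hF1E' hx)
    have hrelF : F.relIndex E = 2 := by
      have hEeq : E = E'.map C.subtype := (Subgroup.map_subgroupOf_eq_of_le hEC).symm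
      rw [hF, hEeq, Subgroup.relIndex_map_map_of_injective _ _ (Subgroup.subtype_injective C)]
      exact hrel1
    have hcF : Nat.card (Subgroup.centralizer (F : Set G)) ≤ c := hbd F hFE hrelF
    -- cardinality of `F1`
    have hcardF1 : Nat.card F1 = 2 ^ m := by
      have h1 : Nat.card (F1.subgroupOf E') * (F1.subgroupOf E').index = Nat.card E' :=
        Subgroup.card_mul_index _
      have h2 : Nat.card (F1.subgroupOf E') = Nat.card F1 :=
        Nat.card_congr (Subgroup.subgroupOfEquivOfLe hF1E').toEquiv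
      have h3 : (F1.subgroupOf E').index = 2 := hrel1
      rw [h2, h3, hcardE', pow_succ] at h1
      exact Nat.eq_of_mul_eq_mul_right (by norm_num) h1
    -- apply G1
    set S : Finset C := (Set.toFinite (F1 : Set C)).toFinset with hS
    have hScoe : (S : Set C) = (F1 : Set C) := Set.Finite.coe_toFinset _
    have hScard : S.card = 2 ^ m := by
      rw [← hcardF1]
      have h1 : Nat.card (F1 : Set C) = Set.ncard (F1 : Set C) := Nat.card_coe_set_eq _
      have h2 : Set.ncard (F1 : Set C) = S.card := by
        rw [← hScoe]; exact Set.ncard_coe_finset S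
      exact (h1.trans h2).symm
    have himg : (π '' (S : Set C)) = (Fb : Set (C ⧸ N)) := by
      rw [hScoe]
      have : F1.map π = Fb := Subgroup.map_comap_eq_self_of_surjective hπs Fb
      rw [← this]; rfl
    have hG1 := G1 C N S
    rw [himg, hScoe, hNcard, hScard] at hG1
    -- compare centralizers
    have hcent : Nat.card (Subgroup.centralizer ((F1 : Subgroup C) : Set C)) ≤
        Nat.card (Subgroup.centralizer (F : Set G)) := by
      have hle : (Subgroup.centralizer ((F1 : Subgroup C) : Set C)).map C.subtype ≤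
          Subgroup.centralizer (F : Set G) := by
        rintro _ ⟨g, hg, rfl⟩
        rw [Subgroup.mem_centralizer_iff]
        rintro _ ⟨x, hx, rfl⟩
        have := Subgroup.mem_centralizer_iff.mp hg x hx
        exact congrArg Subtype.val this
      calc Nat.card (Subgroup.centralizer ((F1 : Subgroup C) : Set C))
          = Nat.card ((Subgroup.centralizer ((F1 : Subgroup C) : Set C)).map C.subtype) :=
            (Subgroup.card_map_of_injective (Subgroup.subtype_injective C)).symm
        _ ≤ Nat.card (Subgroup.centralizer (F : Set G)) := Subgroup.card_le_of_le hle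
    calc Nat.card (Subgroup.centralizer (Fb : Set (C ⧸ N)))
        ≤ Nat.card (Subgroup.centralizer (Fb : Set (C ⧸ N))) * 2 := Nat.le_mul_of_pos_right _ (by norm_num)
      _ ≤ 2 ^ 2 ^ m * Nat.card (Subgroup.centralizer ((F1 : Subgroup C) : Set C)) := hG1
      _ ≤ 2 ^ 2 ^ m * c := Nat.mul_le_mul_left _ (le_trans hcent hcF)
  have hfinal := hP (C ⧸ N) Eb hEbab hcardEb hfac hbdb
  rw [hCq]
  calc Nat.card (C ⧸ N) * 2 ≤ N' * 2 := Nat.mul_le_mul_right _ hfinal
    _ = 2 * N' := mul_comm _ _

end Cfsg.Agent.Lib.Helper11.DCG3
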