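/-
helper11: S4719 leaf G3 `centralizer_bound_step` (exact leaf signature), from the core
`centralizer_bound_step_of` and helper7's leaf G1.
-/
import Mathlib
import Cfsg.Agent.Lib.Helper13.DCDefs
import Cfsg.Agent.Lib.Helper7.DCG1
import Cfsg.Agent.Lib.Helper11.DCG3Core

set_option autoImplicit false

universe u

namespace Cfsg.Agent.Lib.Helper11.DCG3

open Cfsg Cfsg.Agent.Lib.Helper13.DC

/-- LEAF G3: the induction step on the rank: centralizers of the involutions of `E` are bounded. -/
theorem centralizer_bound_step (m a c N' : ℕ) (hm : 1 ≤ m)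
    (hP : ∀ (H : Type u) [Group H] [Finite H] (E : Subgroup H), ElemAb2 E → Nat.card E = 2 ^ m →
      (Nat.card H).factorization 2 ≤ a → HypBd E (2 ^ (2 ^ m) * c) → Nat.card H ≤ N')
    (G : Type u) [Group G] [Finite G] (E : Subgroup G) (hE : ElemAb2 E)
    (hcard : Nat.card E = 2 ^ (m + 1)) (ha : (Nat.card G).factorization 2 ≤ a) (hbd : HypBd E c)
    (y : G) (hy : y ∈ E) (hy1 : y ≠ 1) :
    Nat.card (Subgroup.centralizer ({y} : Set G)) ≤ 2 * N' :=
  centralizer_bound_step_of
    (fun H _ _ N _ S => Cfsg.Agent.Lib.Helper7.DCG1.card_centralizer_quotient_mul_le N S)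
    m a c N' hP G E hE hcard ha hbd y hy hy1

end Cfsg.Agent.Lib.Helper11.DCG3
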