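import Cfsg.Agent.Lib.Helper25.E6InvTab

/-!
helper11 (for helper7, S2182): a fusion identity in `E6(K)`, `char K = 2`.
-/

set_option autoImplicit false
set_option linter.unusedSimpArgs false
set_option linter.unusedVariables false

namespace Cfsg.Agent.Lib.Helper11.E6Fuse

open Cfsg Cfsg.Lie Cfsg.Agent.Lib.Helper7 Cfsg.Agent.Lib.Helper25.ChInv

theorem ct_50_66 : chevE6.commTerms 50 66 = [(71, chevE6.chainM 50 66 1, 1, 1)] := by decide +kernel
theorem ct_48_68 : chevE6.commTerms 48 68 = [(71, chevE6.chainM 48 68 1, 1, 1)] := by decide +kernel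
theorem cm_50_66 : chevE6.chainM 50 66 1 = 1 ∨ chevE6.chainM 50 66 1 = -1 := by decide +kernel
theorem cm_48_68 : chevE6.chainM 48 68 1 = 1 ∨ chevE6.chainM 48 68 1 = -1 := by decide +kernel
theorem ct_48_71 : chevE6.commTerms 48 71 = [] := by decide +kernel
theorem ct_48_66 : chevE6.commTerms 48 66 = [] := by decide +kernel
theorem ct_50_71 : chevE6.commTerms 50 71 = [] := by decide +kernel
theorem ct_50_68 : chevE6.commTerms 50 68 = [] := by decide +kernel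
theorem ct_66_71 : chevE6.commTerms 66 71 = [] := by decide +kernel
theorem ct_68_71 : chevE6.commTerms 68 71 = [] := by decide +kernel
theorem ct_66_68 : chevE6.commTerms 66 68 = [] := by decide +kernel
theorem e6_nroots : chevE6.nroots = 72 := by decide +kernel
theorem nn_48_68 : (68 : ℕ) ≠ chevE6.neg 48 := by decide +kernel
theorem nn_48_66 : (66 : ℕ) ≠ chevE6.neg 48 := by decide +kernel
theorem nn_48_71 : (71 : ℕ) ≠ chevE6.neg 48 := by decide +kernel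
theorem nn_50_68 : (68 : ℕ) ≠ chevE6.neg 50 := by decide +kernel
theorem nn_50_66 : (66 : ℕ) ≠ chevE6.neg 50 := by decide +kernel
theorem nn_50_71 : (71 : ℕ) ≠ chevE6.neg 50 := by decide +kernel
theorem nn_66_71 : (71 : ℕ) ≠ chevE6.neg 66 := by decide +kernel
theorem nn_68_71 : (71 : ℕ) ≠ chevE6.neg 68 := by decide +kernel
theorem nn_66_68 : (68 : ℕ) ≠ chevE6.neg 66 := by decide +kernel

variable (K : Type*) [Field K]

/-- root elements whose roots have no sum commute -/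
theorem comm_nil (r s : ℕ) (hr : r < chevE6.nroots) (hs : s < chevE6.nroots) (hsr : s ≠ r)
    (hsn : s ≠ chevE6.neg r) (h : chevE6.commTerms r s = []) (a b : K) :
    xGL chevE6 mem_E6 K r a * xGL chevE6 mem_E6 K s b =
      xGL chevE6 mem_E6 K s b * xGL chevE6 mem_E6 K r a := by
  have := comm_formula_GL chevE6 mem_E6 K r s hr hs hsr hsn a b
  unfold ChevalleyDatum.commWord at this
  rw [h] at this
  simp only [List.map_nil, wordGL, List.prod_nil, mul_one] at this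
  exact this.symm

/-- conjugation when there is exactly one sum -/
theorem conj_one (q s c : ℕ) (m : ℤ) (hq : q < chevE6.nroots) (hs : s < chevE6.nroots) (hsq : s ≠ q)
    (hsn : s ≠ chevE6.neg q) (h : chevE6.commTerms q s = [(c, m, 1, 1)]) (u t : K) :
    xGL chevE6 mem_E6 K q u * xGL chevE6 mem_E6 K s t * (xGL chevE6 mem_E6 K q u)⁻¹ =
      xGL chevE6 mem_E6 K s t * xGL chevE6 mem_E6 K c ((m : K) * u * t) := by
  rw [xGL_conj_xGL chevE6 mem_E6 K q s hq hs hsq hsn u t]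
  unfold ChevalleyDatum.commWord
  rw [h]
  simp only [List.map_cons, List.map_nil, wordGL, List.prod_cons, List.prod_nil, mul_one, pow_one,
    neg_neg]

theorem int_cast_char2 [CharP K 2] {m : ℤ} (h : m = 1 ∨ m = -1) : (m : K) = 1 := by
  rcases h with h | h
  · rw [h]; simp
  · rw [h]
    simp only [Int.cast_neg, Int.cast_one]
    exact CharTwo.neg_eq (1 : K)

theorem e6_fuse [CharP K 2] (s u : K) (hsu : s + u = 1) :
    (xGL chevE6 mem_E6 K 50 s * xGL chevE6 mem_E6 K 48 u) *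
      wordGL chevE6 mem_E6 K (ones K [71, 66, 68]) *
      (xGL chevE6 mem_E6 K 50 s * xGL chevE6 mem_E6 K 48 u)⁻¹ =
    wordGL chevE6 mem_E6 K (ones K [68, 66]) := by
  have hn := e6_nroots
  have w1 : wordGL chevE6 mem_E6 K (ones K [71, 66, 68]) =
      xGL chevE6 mem_E6 K 71 1 * xGL chevE6 mem_E6 K 66 1 * xGL chevE6 mem_E6 K 68 1 := by
    simp [wordGL, ones, mul_assoc]
  have w2 : wordGL chevE6 mem_E6 K (ones K [68, 66]) =
      xGL chevE6 mem_E6 K 68 1 * xGL chevE6 mem_E6 K 66 1 := by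
    simp [wordGL, ones]
  rw [w1, w2]
  -- conjugation by `x48(u)`
  have a1 : xGL chevE6 mem_E6 K 48 u * xGL chevE6 mem_E6 K 71 1 * (xGL chevE6 mem_E6 K 48 u)⁻¹ =
      xGL chevE6 mem_E6 K 71 1 := by
    rw [comm_nil K 48 71 (by omega) (by omega) (by omega) nn_48_71 ct_48_71, mul_assoc,
      mul_inv_cancel, mul_one]
  have a2 : xGL chevE6 mem_E6 K 48 u * xGL chevE6 mem_E6 K 66 1 * (xGL chevE6 mem_E6 K 48 u)⁻¹ =
      xGL chevE6 mem_E6 K 66 1 := by
    rw [comm_nil K 48 66 (by omega) (by omega) (by omega) nn_48_66 ct_48_66, mul_assoc,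
      mul_inv_cancel, mul_one]
  have a3 : xGL chevE6 mem_E6 K 48 u * xGL chevE6 mem_E6 K 68 1 * (xGL chevE6 mem_E6 K 48 u)⁻¹ =
      xGL chevE6 mem_E6 K 68 1 * xGL chevE6 mem_E6 K 71 u := by
    rw [conj_one K 48 68 71 _ (by omega) (by omega) (by omega) nn_48_68 ct_48_68,
      int_cast_char2 K cm_48_68, one_mul, mul_one]
  -- conjugation by `x50(s)`
  have b1 : ∀ t : K, xGL chevE6 mem_E6 K 50 s * xGL chevE6 mem_E6 K 71 t *
      (xGL chevE6 mem_E6 K 50 s)⁻¹ = xGL chevE6 mem_E6 K 71 t := by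
    intro t
    rw [comm_nil K 50 71 (by omega) (by omega) (by omega) nn_50_71 ct_50_71, mul_assoc,
      mul_inv_cancel, mul_one]
  have b2 : xGL chevE6 mem_E6 K 50 s * xGL chevE6 mem_E6 K 68 1 * (xGL chevE6 mem_E6 K 50 s)⁻¹ =
      xGL chevE6 mem_E6 K 68 1 := by
    rw [comm_nil K 50 68 (by omega) (by omega) (by omega) nn_50_68 ct_50_68, mul_assoc,
      mul_inv_cancel, mul_one]
  have b3 : xGL chevE6 mem_E6 K 50 s * xGL chevE6 mem_E6 K 66 1 * (xGL chevE6 mem_E6 K 50 s)⁻¹ =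
      xGL chevE6 mem_E6 K 66 1 * xGL chevE6 mem_E6 K 71 s := by
    rw [conj_one K 50 66 71 _ (by omega) (by omega) (by omega) nn_50_66 ct_50_66,
      int_cast_char2 K cm_50_66, one_mul, mul_one]
  have c1 : ∀ t : K, xGL chevE6 mem_E6 K 66 1 * xGL chevE6 mem_E6 K 71 t =
      xGL chevE6 mem_E6 K 71 t * xGL chevE6 mem_E6 K 66 1 :=
    fun t => comm_nil K 66 71 (by omega) (by omega) (by omega) nn_66_71 ct_66_71 1 t
  have c2 : ∀ t : K, xGL chevE6 mem_E6 K 68 1 * xGL chevE6 mem_E6 K 71 t =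
      xGL chevE6 mem_E6 K 71 t * xGL chevE6 mem_E6 K 68 1 :=
    fun t => comm_nil K 68 71 (by omega) (by omega) (by omega) nn_68_71 ct_68_71 1 t
  have c3 : xGL chevE6 mem_E6 K 66 1 * xGL chevE6 mem_E6 K 68 1 =
      xGL chevE6 mem_E6 K 68 1 * xGL chevE6 mem_E6 K 66 1 :=
    comm_nil K 66 68 (by omega) (by omega) (by omega) nn_66_68 ct_66_68 1 1
  -- assemble
  have step1 : xGL chevE6 mem_E6 K 48 u *
      (xGL chevE6 mem_E6 K 71 1 * xGL chevE6 mem_E6 K 66 1 * xGL chevE6 mem_E6 K 68 1) *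
      (xGL chevE6 mem_E6 K 48 u)⁻¹ =
      xGL chevE6 mem_E6 K 71 1 * xGL chevE6 mem_E6 K 66 1 *
        (xGL chevE6 mem_E6 K 68 1 * xGL chevE6 mem_E6 K 71 u) := by
    have e0 : xGL chevE6 mem_E6 K 48 u *
        (xGL chevE6 mem_E6 K 71 1 * xGL chevE6 mem_E6 K 66 1 * xGL chevE6 mem_E6 K 68 1) *
        (xGL chevE6 mem_E6 K 48 u)⁻¹ =
        (xGL chevE6 mem_E6 K 48 u * xGL chevE6 mem_E6 K 71 1 * (xGL chevE6 mem_E6 K 48 u)⁻¹) *
        (xGL chevE6 mem_E6 K 48 u * xGL chevE6 mem_E6 K 66 1 * (xGL chevE6 mem_E6 K 48 u)⁻¹) *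
        (xGL chevE6 mem_E6 K 48 u * xGL chevE6 mem_E6 K 68 1 * (xGL chevE6 mem_E6 K 48 u)⁻¹) := by
      group
    rw [e0, a1, a2, a3]
  have step2 : xGL chevE6 mem_E6 K 50 s *
      (xGL chevE6 mem_E6 K 71 1 * xGL chevE6 mem_E6 K 66 1 *
        (xGL chevE6 mem_E6 K 68 1 * xGL chevE6 mem_E6 K 71 u)) *
      (xGL chevE6 mem_E6 K 50 s)⁻¹ =
      xGL chevE6 mem_E6 K 71 1 * (xGL chevE6 mem_E6 K 66 1 * xGL chevE6 mem_E6 K 71 s) *
        (xGL chevE6 mem_E6 K 68 1 * xGL chevE6 mem_E6 K 71 u) := by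
    have e0 : xGL chevE6 mem_E6 K 50 s *
        (xGL chevE6 mem_E6 K 71 1 * xGL chevE6 mem_E6 K 66 1 *
          (xGL chevE6 mem_E6 K 68 1 * xGL chevE6 mem_E6 K 71 u)) *
        (xGL chevE6 mem_E6 K 50 s)⁻¹ =
        (xGL chevE6 mem_E6 K 50 s * xGL chevE6 mem_E6 K 71 1 * (xGL chevE6 mem_E6 K 50 s)⁻¹) *
        (xGL chevE6 mem_E6 K 50 s * xGL chevE6 mem_E6 K 66 1 * (xGL chevE6 mem_E6 K 50 s)⁻¹) *
        ((xGL chevE6 mem_E6 K 50 s * xGL chevE6 mem_E6 K 68 1 * (xGL chevE6 mem_E6 K 50 s)⁻¹) *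
        (xGL chevE6 mem_E6 K 50 s * xGL chevE6 mem_E6 K 71 u * (xGL chevE6 mem_E6 K 50 s)⁻¹)) := by
      group
    rw [e0, b1, b1, b2, b3]
  have step0 : (xGL chevE6 mem_E6 K 50 s * xGL chevE6 mem_E6 K 48 u) *
      (xGL chevE6 mem_E6 K 71 1 * xGL chevE6 mem_E6 K 66 1 * xGL chevE6 mem_E6 K 68 1) *
      (xGL chevE6 mem_E6 K 50 s * xGL chevE6 mem_E6 K 48 u)⁻¹ =
      xGL chevE6 mem_E6 K 50 s * (xGL chevE6 mem_E6 K 48 u *
      (xGL chevE6 mem_E6 K 71 1 * xGL chevE6 mem_E6 K 66 1 * xGL chevE6 mem_E6 K 68 1) *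
      (xGL chevE6 mem_E6 K 48 u)⁻¹) * (xGL chevE6 mem_E6 K 50 s)⁻¹ := by group
  rw [step0, step1, step2, c1 s, c2 u]
  -- `x71(1) x71(s) x66(1) x71(u) x68(1)`
  have e : xGL chevE6 mem_E6 K 71 1 * (xGL chevE6 mem_E6 K 71 s * xGL chevE6 mem_E6 K 66 1) *
      (xGL chevE6 mem_E6 K 71 u * xGL chevE6 mem_E6 K 68 1) =
      (xGL chevE6 mem_E6 K 71 1 * xGL chevE6 mem_E6 K 71 s) *
        (xGL chevE6 mem_E6 K 66 1 * xGL chevE6 mem_E6 K 71 u) * xGL chevE6 mem_E6 K 68 1 := by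
    simp only [mul_assoc]
  rw [e, c1 u]
  have e' : (xGL chevE6 mem_E6 K 71 1 * xGL chevE6 mem_E6 K 71 s) *
      (xGL chevE6 mem_E6 K 71 u * xGL chevE6 mem_E6 K 66 1) * xGL chevE6 mem_E6 K 68 1 =
      ((xGL chevE6 mem_E6 K 71 1 * xGL chevE6 mem_E6 K 71 s) * xGL chevE6 mem_E6 K 71 u) *
        (xGL chevE6 mem_E6 K 66 1 * xGL chevE6 mem_E6 K 68 1) := by
    simp only [mul_assoc]
  rw [e', xGL_mul, xGL_mul, c3]
  have z : (1 : K) + s + u = 0 := by
    rw [add_assoc, hsu]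
    exact CharTwo.add_self_eq_zero (1 : K)
  rw [z, xGL_zero, one_mul]


end Cfsg.Agent.Lib.Helper11.E6Fuse
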