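import Cfsg.Agent.Lib.Helper11.D4GenA
import Cfsg.Agent.Lib.Helper11.D4GenB3
import Cfsg.Agent.Lib.Helper7.ChevTwistE6

/-! Explicit computations in `²E₆(q)` for the two-generation theorem (helper11). -/

set_option autoImplicit false
set_option maxRecDepth 100000

namespace Cfsg.Agent.Lib.Helper11.E6Gen

open Cfsg Cfsg.Lie Matrix
open Cfsg.Agent.Lib.Helper7
open Cfsg.Agent.Lib.Helper11.D4Gen

open Polynomial in
theorem exists_trace2_ne_zero {K : Type*} [Field K] [Fintype K] (q : ℕ) (hq : 2 ≤ q)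
    (hK : Fintype.card K = q ^ 2) : ∃ s : K, s + s ^ q ≠ 0 := by
  classical
  by_contra hcon
  simp only [not_exists, not_not] at hcon
  have hp : (X + X ^ q : K[X]) = 0 := by
    apply Polynomial.eq_zero_of_natDegree_lt_card_of_eval_eq_zero' _ (Finset.univ : Finset K)
    · intro s _
      have := hcon s
      simpa using this
    · rw [Finset.card_univ, hK]
      have h1 : (X + X ^ q : K[X]).natDegree ≤ q := by
        apply Polynomial.natDegree_add_le_of_degree_le
        · rw [natDegree_X]; omega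
        · rw [natDegree_X_pow]
      have h2 : q < q ^ 2 := by nlinarith
      omega
  have hc := congrArg (fun p : K[X] => p.coeff 1) hp
  simp only [coeff_add, coeff_X_one, coeff_X_pow, coeff_zero] at hc
  have h1 : (1 : ℕ) ≠ q := by omega
  rw [if_neg h1] at hc
  simp at hc

theorem exists_trace2_eq {K : Type*} [Field K] [Fintype K] (q : ℕ) (hq : 2 ≤ q)
    (hK : Fintype.card K = q ^ 2) (φ : K ≃+* K) (hφ : ∀ a, φ a = a ^ q)
    (hφ2 : ∀ a, φ (φ a) = a) (y : K) (hy : φ y = y) : ∃ s : K, s + φ s = y := by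
  obtain ⟨s0, hs0⟩ := exists_trace2_ne_zero (K := K) q hq hK
  rw [← hφ] at hs0
  obtain ⟨T, hT⟩ : ∃ T, T = s0 + φ s0 := ⟨_, rfl⟩
  rw [← hT] at hs0
  have hTfix : φ T = T := by
    rw [hT, map_add, hφ2]; ring
  refine ⟨y * T⁻¹ * s0, ?_⟩
  simp only [map_mul, map_inv₀, hy, hTfix]
  field_simp
  rw [hT]

section e6
variable (K : Type*) [Field K] (φ : K ≃+* K)

local notation "x" => xGL chevE6 chevE6_mem K

/-- the twisted root elements of the classes `{p₁,p₆}`, `{p₃,p₅}`, their negatives, and a class at `90°` -/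
noncomputable def ya (s : K) : GL chevE6.Idx K := x 56 s * x 36 (φ s)
noncomputable def yb (s : K) : GL chevE6.Idx K := x 42 s * x 37 (φ s)
noncomputable def yma (s : K) : GL chevE6.Idx K := x 15 s * x 35 (φ s)
noncomputable def ymb (s : K) : GL chevE6.Idx K := x 29 s * x 34 (φ s)
noncomputable def yc (s : K) : GL chevE6.Idx K := x 62 (-s) * x 52 (φ s)

theorem comm_nilE (r s : ℕ) (hr : r < 72) (hs : s < 72) (hsr : s ≠ r) (hsn : s ≠ chevE6.neg r)
    (h : chevE6.commTerms r s = []) (a b : K) : Commute (x r a) (x s b) :=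
  xGL_comm_of_nil chevE6 chevE6_mem K r s hr hs hsr hsn h a b

theorem c_56_36 (a b : K) : Commute (x 56 a) (x 36 b) :=
  comm_nilE K 56 36 (by decide) (by decide) (by decide) (by decide) (by decide +kernel) a b
theorem c_15_35 (a b : K) : Commute (x 15 a) (x 35 b) :=
  comm_nilE K 15 35 (by decide) (by decide) (by decide) (by decide) (by decide +kernel) a b
theorem c_29_34 (a b : K) : Commute (x 29 a) (x 34 b) :=
  comm_nilE K 29 34 (by decide) (by decide) (by decide) (by decide) (by decide +kernel) a b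
theorem c_56_62 (a b : K) : Commute (x 56 a) (x 62 b) :=
  comm_nilE K 56 62 (by decide) (by decide) (by decide) (by decide) (by decide +kernel) a b
theorem c_36_52 (a b : K) : Commute (x 36 a) (x 52 b) :=
  comm_nilE K 36 52 (by decide) (by decide) (by decide) (by decide) (by decide +kernel) a b
theorem c_56_63 (a b : K) : Commute (x 56 a) (x 63 b) :=
  comm_nilE K 56 63 (by decide) (by decide) (by decide) (by decide) (by decide +kernel) a b
theorem c_36_63 (a b : K) : Commute (x 36 a) (x 63 b) :=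
  comm_nilE K 36 63 (by decide) (by decide) (by decide) (by decide) (by decide +kernel) a b
theorem c_63_52 (a b : K) : Commute (x 63 a) (x 52 b) :=
  comm_nilE K 63 52 (by decide) (by decide) (by decide) (by decide) (by decide +kernel) a b

theorem ya_add (s t : K) : ya K φ (s + t) = ya K φ s * ya K φ t := by
  unfold ya
  rw [map_add, ← xGL_mul, ← xGL_mul]
  have h1 := c_56_36 K t (φ s)
  calc x 56 s * x 56 t * (x 36 (φ s) * x 36 (φ t))
      = x 56 s * (x 56 t * x 36 (φ s)) * x 36 (φ t) := by group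
    _ = x 56 s * (x 36 (φ s) * x 56 t) * x 36 (φ t) := by rw [h1.eq]
    _ = _ := by group

/-- the Coxeter word -/
def coxE : List ℕ := [0, 5, 2, 4, 3, 1]

theorem coxE_lt (j : ℕ) : ∀ i ∈ (List.replicate j coxE).flatten, i < chevE6.rank := by
  intro i hi
  rw [List.mem_flatten] at hi
  obtain ⟨l, hl, hil⟩ := hi
  rw [List.eq_of_mem_replicate hl] at hil
  revert hil; revert i; decide

/-- the Coxeter element -/
noncomputable def nE : GL chevE6.Idx K := nWordGL chevE6 chevE6_mem K coxE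

theorem nE_pow (j : ℕ) : (nE K) ^ j = nWordGL chevE6 chevE6_mem K (List.replicate j coxE).flatten := by
  induction j with
  | zero => simp [nWordGL]
  | succ j ih =>
    rw [pow_succ', ih, List.replicate_succ, List.flatten_cons, nWordGL_append]
    rfl

theorem nE_pow_conj (j s s' : ℕ) (c : ℤ) (hs : s < 72)
    (h1 : reflWord chevE6 (List.replicate j coxE).flatten s = s')
    (h2 : etaWord chevE6 (List.replicate j coxE).flatten s = c) (t : K) :
    (nE K) ^ j * x s t * ((nE K) ^ j)⁻¹ = x s' ((c : K) * t) := by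
  rw [nE_pow, nWordGL_conj_xGL_eta chevE6 chevE6_mem K _ (coxE_lt j) s hs t, h1, h2]

theorem nE_conj_ya (s : K) : nE K * ya K φ s * (nE K)⁻¹ = yb K φ s := by
  have h56 := nE_pow_conj K 1 56 42 1 (by decide) (by decide +kernel) (by decide +kernel) s
  have h36 := nE_pow_conj K 1 36 37 1 (by decide) (by decide +kernel) (by decide +kernel) (φ s)
  rw [pow_one] at h56 h36
  unfold ya yb
  have : nE K * (x 56 s * x 36 (φ s)) * (nE K)⁻¹ =
      (nE K * x 56 s * (nE K)⁻¹) * (nE K * x 36 (φ s) * (nE K)⁻¹) := by group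
  rw [this, h56, h36]
  simp

theorem nE3_conj_ya (s : K) : (nE K) ^ 3 * ya K φ s * ((nE K) ^ 3)⁻¹ = yc K φ s := by
  have h56 := nE_pow_conj K 3 56 62 (-1) (by decide) (by decide +kernel) (by decide +kernel) s
  have h36 := nE_pow_conj K 3 36 52 1 (by decide) (by decide +kernel) (by decide +kernel) (φ s)
  unfold ya yc
  have : (nE K) ^ 3 * (x 56 s * x 36 (φ s)) * ((nE K) ^ 3)⁻¹ =
      ((nE K) ^ 3 * x 56 s * ((nE K) ^ 3)⁻¹) * ((nE K) ^ 3 * x 36 (φ s) * ((nE K) ^ 3)⁻¹) := by group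
  rw [this, h56, h36]
  simp

theorem nE6_conj_ya (hφ2 : ∀ a, φ (φ a) = a) (s : K) :
    (nE K) ^ 6 * ya K φ s * ((nE K) ^ 6)⁻¹ = yma K φ (-φ s) := by
  have h56 := nE_pow_conj K 6 56 35 (-1) (by decide) (by decide +kernel) (by decide +kernel) s
  have h36 := nE_pow_conj K 6 36 15 (-1) (by decide) (by decide +kernel) (by decide +kernel) (φ s)
  unfold ya yma
  have : (nE K) ^ 6 * (x 56 s * x 36 (φ s)) * ((nE K) ^ 6)⁻¹ =
      ((nE K) ^ 6 * x 56 s * ((nE K) ^ 6)⁻¹) * ((nE K) ^ 6 * x 36 (φ s) * ((nE K) ^ 6)⁻¹) := by group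
  rw [this, h56, h36, map_neg, hφ2, ← (c_15_35 K _ _).eq]
  simp

theorem nE6_conj_yb (hφ2 : ∀ a, φ (φ a) = a) (s : K) :
    (nE K) ^ 6 * yb K φ s * ((nE K) ^ 6)⁻¹ = ymb K φ (-φ s) := by
  have h42 := nE_pow_conj K 6 42 34 (-1) (by decide) (by decide +kernel) (by decide +kernel) s
  have h37 := nE_pow_conj K 6 37 29 (-1) (by decide) (by decide +kernel) (by decide +kernel) (φ s)
  unfold yb ymb
  have : (nE K) ^ 6 * (x 42 s * x 37 (φ s)) * ((nE K) ^ 6)⁻¹ =
      ((nE K) ^ 6 * x 42 s * ((nE K) ^ 6)⁻¹) * ((nE K) ^ 6 * x 37 (φ s) * ((nE K) ^ 6)⁻¹) := by group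
  rw [this, h42, h37, map_neg, hφ2, ← (c_29_34 K _ _).eq]
  simp

theorem nE4_conj_x63 (y : K) : (nE K) ^ 4 * x 63 y * ((nE K) ^ 4)⁻¹ = x 39 (-y) := by
  have h := nE_pow_conj K 4 63 39 (-1) (by decide) (by decide +kernel) (by decide +kernel) y
  rw [h]; simp

theorem nE5_conj_x63 (y : K) : (nE K) ^ 5 * x 63 y * ((nE K) ^ 5)⁻¹ = x 46 (-y) := by
  have h := nE_pow_conj K 5 63 46 (-1) (by decide) (by decide +kernel) (by decide +kernel) y
  rw [h]; simp

theorem nE10_conj_x63 (y : K) : (nE K) ^ 10 * x 63 y * ((nE K) ^ 10)⁻¹ = x 32 y := by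
  have h := nE_pow_conj K 10 63 32 1 (by decide) (by decide +kernel) (by decide +kernel) y
  rw [h]; simp

theorem nE11_conj_x63 (y : K) : (nE K) ^ 11 * x 63 y * ((nE K) ^ 11)⁻¹ = x 25 y := by
  have h := nE_pow_conj K 11 63 25 1 (by decide) (by decide +kernel) (by decide +kernel) y
  rw [h]; simp

end e6

end Cfsg.Agent.Lib.Helper11.E6Gen
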