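import Cfsg.Agent.Lib.Helper11.E6GenA
import Cfsg.Agent.Lib.Helper7.ChevBorel
import Cfsg.Agent.Lib.Helper7.ChevTwistH2

set_option autoImplicit false
set_option maxRecDepth 100000

namespace Cfsg.Agent.Lib.Helper11.E6Gen

open Cfsg Cfsg.Lie Matrix
open Cfsg.Agent.Lib.Helper7
open Cfsg.Agent.Lib.Helper11.D4Gen

section e6
variable (K : Type*) [Field K] (φ : K ≃+* K)

local notation "x" => xGL chevE6 chevE6_mem K

local notation "G1E6" => chevE6.genSubgroup K (twWords K φ [e6p2, e6m2, e6p4, e6m4]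
  [(e6p1, e6p6), (e6m1, e6m6), (e6p3, e6p5), (e6m3, e6m5)] [])

theorem conj_56_52 (u t : K) : x 56 u * x 52 t * (x 56 u)⁻¹ = x 52 t * x 63 (-(u * t)) := by
  rw [xGL_conj_xGL chevE6 chevE6_mem K 56 52 (by decide) (by decide) (by decide) (by decide) u t]
  have hct : chevE6.commTerms 56 52 = [(63, -1, 1, 1)] := by decide +kernel
  unfold ChevalleyDatum.commWord
  rw [hct]
  simp [wordGL]

theorem conj_36_62 (u t : K) : x 36 u * x 62 t * (x 36 u)⁻¹ = x 62 t * x 63 (u * t) := by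
  rw [xGL_conj_xGL chevE6 chevE6_mem K 36 62 (by decide) (by decide) (by decide) (by decide) u t]
  have hct : chevE6.commTerms 36 62 = [(63, 1, 1, 1)] := by decide +kernel
  unfold ChevalleyDatum.commWord
  rw [hct]
  simp [wordGL]

/-- the commutator of `x_{J₁}(1)` and the twisted root element at `90°` is a long root element -/
theorem ya_conj_yc (s : K) :
    ya K φ 1 * yc K φ s * (ya K φ 1)⁻¹ = yc K φ s * x 63 (-(s + φ s)) := by
  unfold ya yc
  rw [map_one]
  have e1 : x 56 1 * x 36 1 = x 36 1 * x 56 1 := (c_56_36 K 1 1).eq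
  have k1 : (x 56 1 * x 36 1) * x 62 (-s) * (x 56 1 * x 36 1)⁻¹ = x 62 (-s) * x 63 (-s) := by
    apply conj_split (c_56_62 K 1 _) (c_56_63 K 1 _)
    rw [conj_36_62, one_mul]
  have k2 : (x 56 1 * x 36 1) * x 52 (φ s) * (x 56 1 * x 36 1)⁻¹ = x 52 (φ s) * x 63 (-φ s) := by
    rw [e1]
    apply conj_split (c_36_52 K 1 _) (c_36_63 K 1 _)
    rw [conj_56_52, one_mul]
  have split : (x 56 1 * x 36 1) * (x 62 (-s) * x 52 (φ s)) * (x 56 1 * x 36 1)⁻¹ =
      ((x 56 1 * x 36 1) * x 62 (-s) * (x 56 1 * x 36 1)⁻¹) *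
      ((x 56 1 * x 36 1) * x 52 (φ s) * (x 56 1 * x 36 1)⁻¹) := by group
  rw [split, k1, k2]
  have z1 := c_63_52 K (-s) (φ s)
  calc x 62 (-s) * x 63 (-s) * (x 52 (φ s) * x 63 (-φ s))
      = x 62 (-s) * (x 63 (-s) * x 52 (φ s)) * x 63 (-φ s) := by group
    _ = x 62 (-s) * (x 52 (φ s) * x 63 (-s)) * x 63 (-φ s) := by rw [z1.eq]
    _ = x 62 (-s) * x 52 (φ s) * (x 63 (-s) * x 63 (-φ s)) := by group
    _ = _ := by
      rw [xGL_mul]
      congr 2
      ring

/-- the torus element `h_{p₁}(λ) h_{p₆}(φλ)` -/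
noncomputable def hE (lam : K) : GL chevE6.Idx K :=
  wordGL chevE6 chevE6_mem K ([0, 5].flatMap fun i => chevE6.hWord (chevE6.simple i) (pairC K φ 0 lam i))

theorem pairC_ne_zero (lam : K) (h0 : lam ≠ 0) (i : ℕ) : pairC K φ 0 lam i ≠ 0 := by
  unfold pairC
  split_ifs
  · exact h0
  · exact (map_ne_zero φ).mpr h0

theorem hE_conj (lam : K) (hlam : lam ≠ 0) (s : ℕ) (c0 c5 : ℤ) (h0 : chevE6.cartan 0 s = c0)
    (h5 : chevE6.cartan 5 s = c5) (t : K) :
    hE K φ lam * x s t * (hE K φ lam)⁻¹ = x s (lam ^ c0 * (φ lam) ^ c5 * t) := by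
  unfold hE
  rw [hClass_conj chevE6 chevE6_mem K [0, 5] (by decide) (pairC K φ 0 lam) (pairC_ne_zero K φ lam hlam) s t]
  congr 2
  unfold prodChar
  simp only [List.map_cons, List.map_nil, List.prod_cons, List.prod_nil, mul_one]
  rw [h0, h5]
  unfold pairC
  rw [if_pos rfl, if_neg (by decide)]

theorem hE_conj_ya (lam : K) (hlam : lam ≠ 0) (s : K) :
    hE K φ lam * ya K φ s * (hE K φ lam)⁻¹ = ya K φ (lam ^ 2 * s) := by
  have h56 := hE_conj K φ lam hlam 56 2 0 (by decide +kernel) (by decide +kernel) s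
  have h36 := hE_conj K φ lam hlam 36 0 2 (by decide +kernel) (by decide +kernel) (φ s)
  unfold ya
  have : hE K φ lam * (x 56 s * x 36 (φ s)) * (hE K φ lam)⁻¹ =
      (hE K φ lam * x 56 s * (hE K φ lam)⁻¹) * (hE K φ lam * x 36 (φ s) * (hE K φ lam)⁻¹) := by group
  rw [this, h56, h36]
  simp

theorem hE_conj_yb (lam : K) (hlam : lam ≠ 0) (s : K) :
    hE K φ lam * yb K φ s * (hE K φ lam)⁻¹ = yb K φ (lam⁻¹ * s) := by
  have h42 := hE_conj K φ lam hlam 42 (-1) 0 (by decide +kernel) (by decide +kernel) s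
  have h37 := hE_conj K φ lam hlam 37 0 (-1) (by decide +kernel) (by decide +kernel) (φ s)
  unfold yb
  have : hE K φ lam * (x 42 s * x 37 (φ s)) * (hE K φ lam)⁻¹ =
      (hE K φ lam * x 42 s * (hE K φ lam)⁻¹) * (hE K φ lam * x 37 (φ s) * (hE K φ lam)⁻¹) := by group
  rw [this, h42, h37]
  simp

theorem ya_eq_word (s : K) : ya K φ s = wordGL chevE6 chevE6_mem K [(56, s), (36, φ s)] := by
  unfold ya wordGL
  simp

theorem yb_eq_word (s : K) : yb K φ s = wordGL chevE6 chevE6_mem K [(42, s), (37, φ s)] := by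
  unfold yb wordGL
  simp

theorem yma_eq_word (s : K) : yma K φ s = wordGL chevE6 chevE6_mem K [(15, s), (35, φ s)] := by
  unfold yma wordGL
  simp

theorem ymb_eq_word (s : K) : ymb K φ s = wordGL chevE6 chevE6_mem K [(29, s), (34, φ s)] := by
  unfold ymb wordGL
  simp

theorem ya_mem (s : K) : ya K φ s ∈ G1E6 := by
  rw [ya_eq_word]
  exact wordGL_mem_twGroup chevE6 chevE6_mem K φ _ _ _ _
    (Or.inl (Or.inr ⟨s, (e6p1, e6p6), by simp, rfl⟩))

theorem nE_mem : nE K ∈ G1E6 := by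
  have e : nE K = nWordGL chevE6 chevE6_mem K [0, 5] * (nWordGL chevE6 chevE6_mem K [2, 4] *
      (nWordGL chevE6 chevE6_mem K [3] * nWordGL chevE6 chevE6_mem K [1])) := by
    rw [← nWordGL_append, ← nWordGL_append, ← nWordGL_append]
    rfl
  rw [e]
  exact Subgroup.mul_mem _ (nWordGL_mem_twE6 K φ [0, 5] (by decide))
    (Subgroup.mul_mem _ (nWordGL_mem_twE6 K φ [2, 4] (by decide))
      (Subgroup.mul_mem _ (nWordGL_mem_twE6 K φ [3] (by decide)) (nWordGL_mem_twE6 K φ [1] (by decide))))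

theorem hE_mem (lam : K) (hlam : lam ≠ 0) : hE K φ lam ∈ G1E6 :=
  hPair_mem chevE6 chevE6_mem K φ _ _ _ 0 5 (simpClassFacts_E6 [0, 5] (by decide)) (by decide +kernel)
    (by decide +kernel) (nWordGL_mem_twE6 K φ [0, 5] (by decide)) lam hlam

theorem hE_comm (lam : K) (hlam : lam ≠ 0) :
    Commute (hE K φ lam) (nE K * hE K φ lam * (nE K)⁻¹) := by
  have h1 : hE K φ lam ∈ chevE6.diagonalSubgroup K :=
    wordGL_flatMap_mem chevE6 chevE6_mem K (pairC K φ 0 lam) [0, 5] (fun i hi => ⟨by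
      simp only [List.mem_cons, List.not_mem_nil, or_false] at hi
      rcases hi with rfl | rfl <;> decide, pairC_ne_zero K φ lam hlam i⟩)
  have h2 : nE K ∈ chevE6.monomialSubgroup K :=
    nWordGL_mem_monomial chevE6 chevE6_mem K coxE (by decide)
  have h3 := monomialSubgroup_le_normalizer_diagonal chevE6 chevE6_mem K h2
  rw [Subgroup.mem_set_normalizer_iff] at h3
  exact diagonalSubgroup_comm chevE6 chevE6_mem K _ _ h1 ((h3 _).mp h1)

end e6

end Cfsg.Agent.Lib.Helper11.E6Gen
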