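import Cfsg.Agent.Lib.Helper11.E6GenB

set_option autoImplicit false
set_option maxRecDepth 100000

namespace Cfsg.Agent.Lib.Helper11.E6Gen

open Cfsg Cfsg.Lie Matrix
open Cfsg.Agent.Lib.Helper7
open Cfsg.Agent.Lib.Helper11.D4Gen

section e6
variable (K : Type*) [Field K] (φ : K ≃+* K)

local notation "x" => xGL chevE6 chevE6_mem K

local notation "G1E6" => chevE6.genSubgroup K (twWords K φ [e6p2, e6m2, e6p4, e6m4]
  [(e6p1, e6p6), (e6m1, e6m6), (e6p3, e6p5), (e6m3, e6m5)] [])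

variable [Fintype K]

theorem e6_main (q : ℕ) (hq : 2 ≤ q) (hK : Fintype.card K = q ^ 2) (hφ : ∀ a, φ a = a ^ q)
    (hφ2 : ∀ a, φ (φ a) = a) (g : Kˣ) (hg : ∀ y : Kˣ, y ∈ Subgroup.zpowers g) :
    Subgroup.closure ({hE K φ (g : K), nE K * ya K φ 1} : Set (GL chevE6.Idx K)) = G1E6 := by
  classical
  have hg0 : (g : K) ≠ 0 := Units.ne_zero g
  obtain ⟨M, hM⟩ : ∃ M, M = Subgroup.closure ({hE K φ (g : K), nE K * ya K φ 1} : Set (GL chevE6.Idx K)) :=
    ⟨_, rfl⟩
  rw [← hM]
  have hhM : hE K φ (g : K) ∈ M := by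
    rw [hM]; exact Subgroup.subset_closure (Set.mem_insert _ _)
  have hbM : nE K * ya K φ 1 ∈ M := by
    rw [hM]; exact Subgroup.subset_closure (Set.mem_insert_of_mem _ rfl)
  have ho : orderOf g = q ^ 2 - 1 := by
    rw [orderOf_eq_card_of_forall_mem_zpowers hg, Nat.card_eq_fintype_card, Fintype.card_units, hK]
  have hq2 : 4 ≤ q ^ 2 := by
    calc 4 = 2 ^ 2 := by norm_num
      _ ≤ q ^ 2 := Nat.pow_le_pow_left hq 2
  have hg2 : (g : K) ^ 2 ≠ 1 := by
    intro h
    have h' : g ^ 2 = 1 := Units.ext (by simpa using h)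
    have := orderOf_dvd_of_pow_eq_one h'
    rw [ho] at this
    have := Nat.le_of_dvd (by norm_num) this
    omega
  have hgen : ∀ y : K, y ≠ 0 → ∃ i : ℕ, ((g : K)⁻¹) ^ i = y := by
    intro y hy
    have h1 : Units.mk0 y hy ∈ Subgroup.zpowers g⁻¹ := by
      rw [Subgroup.zpowers_inv]; exact hg _
    rw [← mem_powers_iff_mem_zpowers] at h1
    obtain ⟨i, hi⟩ := h1
    refine ⟨i, ?_⟩
    have := congrArg (fun u : Kˣ => (u : K)) hi
    simpa using this
  have hcS1 : (g : K)⁻¹ ≠ 1 := by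
    intro h
    apply hg2
    rw [inv_eq_one] at h
    rw [h, one_pow]
  obtain ⟨hXA, hnM⟩ := core_lemma M (ya K φ) (ya_add K φ) (hE K φ (g : K)) (nE K) ((g : K) ^ 2) (g : K)⁻¹
    (pow_ne_zero 2 hg0) hg2 hcS1 (hE_conj_ya K φ (g : K) hg0)
    (by
      intro s
      rw [nE_conj_ya, nE_conj_ya, hE_conj_yb K φ (g : K) hg0])
    hgen (hE_comm K φ (g : K) hg0) hhM hbM
  have hXB : ∀ s, yb K φ s ∈ M := by
    intro s
    rw [← nE_conj_ya]
    exact M.mul_mem (M.mul_mem hnM (hXA _)) (M.inv_mem hnM)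
  have hXmA : ∀ s, yma K φ s ∈ M := by
    intro s
    have := nE6_conj_ya K φ hφ2 (-φ s)
    rw [map_neg, hφ2, neg_neg] at this
    rw [← this]
    exact M.mul_mem (M.mul_mem (M.pow_mem hnM 6) (hXA _)) (M.inv_mem (M.pow_mem hnM 6))
  have hXmB : ∀ s, ymb K φ s ∈ M := by
    intro s
    have := nE6_conj_yb K φ hφ2 (-φ s)
    rw [map_neg, hφ2, neg_neg] at this
    rw [← this]
    exact M.mul_mem (M.mul_mem (M.pow_mem hnM 6) (hXB _)) (M.inv_mem (M.pow_mem hnM 6))
  have hXC : ∀ s, yc K φ s ∈ M := by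
    intro s
    rw [← nE3_conj_ya]
    exact M.mul_mem (M.mul_mem (M.pow_mem hnM 3) (hXA _)) (M.inv_mem (M.pow_mem hnM 3))
  have hX63 : ∀ y : K, φ y = y → x 63 y ∈ M := by
    intro y hy
    obtain ⟨s, hs⟩ := exists_trace2_eq q hq hK φ hφ hφ2 (-y) (by rw [map_neg, hy])
    have h1 := ya_conj_yc K φ s
    rw [hs, neg_neg] at h1
    have h2 : x 63 y = (yc K φ s)⁻¹ * (ya K φ 1 * yc K φ s * (ya K φ 1)⁻¹) := by
      rw [h1]; group
    rw [h2]
    exact M.mul_mem (M.inv_mem (hXC s)) (M.mul_mem (M.mul_mem (hXA 1) (hXC s)) (M.inv_mem (hXA 1)))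
  have hX39 : ∀ y : K, φ y = y → x 39 y ∈ M := by
    intro y hy
    have := nE4_conj_x63 K (-y)
    rw [neg_neg] at this
    rw [← this]
    exact M.mul_mem (M.mul_mem (M.pow_mem hnM 4) (hX63 _ (by rw [map_neg, hy])))
      (M.inv_mem (M.pow_mem hnM 4))
  have hX46 : ∀ y : K, φ y = y → x 46 y ∈ M := by
    intro y hy
    have := nE5_conj_x63 K (-y)
    rw [neg_neg] at this
    rw [← this]
    exact M.mul_mem (M.mul_mem (M.pow_mem hnM 5) (hX63 _ (by rw [map_neg, hy])))
      (M.inv_mem (M.pow_mem hnM 5))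
  have hX32 : ∀ y : K, φ y = y → x 32 y ∈ M := by
    intro y hy
    rw [← nE10_conj_x63]
    exact M.mul_mem (M.mul_mem (M.pow_mem hnM 10) (hX63 _ hy)) (M.inv_mem (M.pow_mem hnM 10))
  have hX25 : ∀ y : K, φ y = y → x 25 y ∈ M := by
    intro y hy
    rw [← nE11_conj_x63]
    exact M.mul_mem (M.mul_mem (M.pow_mem hnM 11) (hX63 _ hy)) (M.inv_mem (M.pow_mem hnM 11))
  apply le_antisymm
  · rw [hM, Subgroup.closure_le]
    intro z hz
    rcases hz with rfl | rfl
    · exact hE_mem K φ (g : K) hg0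
    · exact Subgroup.mul_mem _ (nE_mem K φ) (ya_mem K φ 1)
  · unfold ChevalleyDatum.genSubgroup
    rw [Subgroup.closure_le]
    rintro z ⟨w, hw, hz⟩
    have hzw : z = wordGL chevE6 chevE6_mem K w := Units.ext (by rw [hz, coe_wordGL])
    rw [SetLike.mem_coe, hzw]
    rcases hw with (⟨t, ht, r, hr, rfl⟩ | ⟨t, rs, hrs, rfl⟩) | ⟨t, rs, hrs, rfl⟩
    · have e : wordGL chevE6 chevE6_mem K [(r, t)] = x r t := by simp [wordGL]
      rw [e]
      simp only [List.mem_cons, List.not_mem_nil, or_false] at hr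
      rcases hr with rfl | rfl | rfl | rfl
      · exact hX46 t ht
      · exact hX25 t ht
      · exact hX39 t ht
      · exact hX32 t ht
    · simp only [List.mem_cons, List.not_mem_nil, or_false] at hrs
      rcases hrs with rfl | rfl | rfl | rfl
      · have := hXA t
        rw [ya_eq_word] at this
        exact this
      · have := hXmA t
        rw [yma_eq_word] at this
        exact this
      · have := hXB t
        rw [yb_eq_word] at this
        exact this
      · have := hXmB t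
        rw [ymb_eq_word] at this
        exact this
    · simp at hrs

end e6

/-- `²E₆(q)` is generated by two elements: a torus element and `n_w x_{J₁}(1)` for a Coxeter element `w` -/
theorem twistedE6_two_generated {K : Type*} [Field K] [Fintype K] {q : ℕ} (hq : IsPrimePow q)
    (hK : Fintype.card K = q ^ 2) :
    ∃ a b : ↥(twistedE6 K q), Subgroup.closure ({a, b} : Set ↥(twistedE6 K q)) = ⊤ := by
  classical
  obtain ⟨φ, hφ, hiter, -, hG⟩ := twistedE6_eq K q hq hK
  have hφ2 : ∀ a, φ (φ a) = a := hiter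
  obtain ⟨g, hg⟩ := IsCyclic.exists_generator (α := Kˣ)
  have key := e6_main K φ q hq.two_le hK hφ hφ2 g hg
  rw [← hG] at key
  have ha : hE K φ (g : K) ∈ twistedE6 K q := by
    rw [← key]; exact Subgroup.subset_closure (Set.mem_insert _ _)
  have hb : nE K * ya K φ 1 ∈ twistedE6 K q := by
    rw [← key]; exact Subgroup.subset_closure (Set.mem_insert_of_mem _ rfl)
  refine ⟨⟨_, ha⟩, ⟨_, hb⟩, ?_⟩
  apply Subgroup.map_injective (twistedE6 K q).subtype_injective
  rw [MonoidHom.map_closure, Set.image_pair, ← MonoidHom.range_eq_map, Subgroup.range_subtype]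
  exact key

end Cfsg.Agent.Lib.Helper11.E6Gen
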