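import Cfsg.Agent.Lib.Helper11.SemiCentO
import Cfsg.Agent.Lib.Helper11.ChevSL2
import Cfsg.Agent.Lib.Helper7.ChevOrderE8
import Cfsg.Agent.Lib.Helper7.OddInvD

/-!
helper11: the order of the centraliser in `E8(q)`, `q` odd, of an element `h` of the torus whose character is
`r ↦ (-1)^{c(r)}`, from table checks for the Weyl group of the subsystem `{r : c(r) even}` (`card_cent_e8`).
-/

set_option autoImplicit false
set_option maxRecDepth 1000000

namespace Cfsg.Agent.Lib.Helper11.E8Cent

open Cfsg Cfsg.Lie Matrix Cfsg.Agent.Lib.Helper7 Cfsg.Agent.Lib.Helper11.SemiCent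
open Cfsg.Agent.Lib.Helper11.ChainInv

theorem memE8 : chevE8 ∈ [chevG2, chevB2, chevD4, chevF4, chevE6, chevE7, chevE8] := by simp

theorem e8_negB_all : (List.range 240).all (fun r => decide (r < 120) == decide (chevE8.IsNegRoot r)) = true := by
  decide +kernel

theorem e8_negB : ∀ r < chevE8.nroots, (fun r => decide (r < 120)) r = decide (chevE8.IsNegRoot r) := by
  intro r hr
  have h := List.all_eq_true.mp e8_negB_all r (List.mem_range.mpr hr)
  exact beq_iff_eq.mp h

theorem e8_posRoots : chevE8.posRoots = List.range' 120 120 := by decide +kernel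

theorem e8_simple_lt : ∀ j < 8, chevE8.simple j < 240 := by decide +kernel

section
variable (F : Type*) [Field F] [Fintype F]

theorem card_cent_e8 (h : GL chevE8.Idx F) (hh : h ∈ chevE8.diagonalSubgroup F) (c : ℕ → ℤ)
    (hχ : ChainChar chevE8 F (fun s => (-1 : F) ^ c s))
    (hm : (h : Matrix chevE8.Idx chevE8.Idx F) = diagChar chevE8 F (fun s => (-1 : F) ^ c s))
    (h2 : (2 : F) ≠ 0) (psi : ℕ → Bool)
    (hpsiB : (List.range 240).all (fun r => psi r == decide (Even (c r))) = true)
    (refls : List (List ℕ)) (words : List (List ℕ)) (levels : List ChainLevel)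
    (QMs : List (List ℕ × List ℕ)) (orbWords : List (List ℕ))
    (hwLt : ∀ L ∈ words, ∀ i ∈ L, i < chevE8.rank)
    (hgw : ∀ i ∈ headGens levels, i < words.length)
    (hreflB : (headGens levels).all (fun i => refls.getD i [] ==
      wordPerm 240 weylChain_E8.refls (words.getD i [])) = true)
    (hrpsiB : (headGens levels).all (fun i => (List.range 240).all
      (fun s => psi ((refls.getD i []).getD s 0) == psi s)) = true)
    (hginvB : (headGens levels).all (fun i => compG (refls.getD i []) (refls.getD i []) == List.range 240) = true)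
    (hch : chainOKB 240 refls levels = true)
    (hinv : invOKB 240 refls (fun r => decide (r < 120)) levels QMs = true)
    (hperm : ((List.range' 120 120).filter psi).Perm (posOf QMs))
    (horbLt : ∀ L ∈ orbWords, ∀ i ∈ L, i < chevE8.rank)
    (horbNodupB : (orbWords.map (fun L => (List.range 8).map
      (fun j => psi (wordPt weylChain_E8.refls L (chevE8.simple j))))).Nodup)
    (hcountB : orbWords.length * (levels.map fun L => L.elems.length).prod =
      (weylChain_E8.levels.map fun L => L.elems.length).prod)
    (hG : h ∈ chevE8.group F) :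
    Nat.card (Subgroup.centralizer ({(⟨h, hG⟩ : ↥(chevE8.group F))} : Set ↥(chevE8.group F))) =
      (Fintype.card F - 1) ^ 8 * Fintype.card F ^ ((List.range' 120 120).filter psi).length *
        chainPoly (Fintype.card F) levels := by
  have hm1 : (-1 : F) ≠ 1 := by
    intro h
    apply h2
    have : (2 : F) = 1 - (-1) := by ring
    rw [this, h, sub_self]
  have hpsiE : ∀ r < chevE8.nroots, psi r = decide (Even (c r)) := by
    intro r hr
    exact beq_iff_eq.mp (List.all_eq_true.mp hpsiB r (List.mem_range.mpr hr))
  have hpsi : ∀ r < chevE8.nroots, ((fun s => (-1 : F) ^ c s) r = 1 ↔ psi r = true) := by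
    intro r hr
    rw [hpsiE r hr, decide_eq_true_eq]
    show (-1 : F) ^ c r = 1 ↔ Even (c r)
    constructor
    · intro h1
      by_contra hne
      rw [Int.not_even_iff_odd] at hne
      have : (-1 : F) ^ c r = -1 := hne.neg_one_zpow
      rw [this] at h1
      exact hm1 h1
    · intro he
      exact he.neg_one_zpow
  have hval : ∀ r < chevE8.nroots, psi r = false → (fun s => (-1 : F) ^ c s) r = -1 := by
    intro r hr hp
    rw [hpsiE r hr, decide_eq_false_iff_not, Int.not_even_iff_odd] at hp
    show (-1 : F) ^ c r = -1
    exact hp.neg_one_zpow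
  have hwmem : ∀ i ∈ headGens levels, words.getD i [] ∈ words := by
    intro i hi
    rw [List.getD_eq_getElem _ _ (hgw i hi)]
    exact List.getElem_mem _
  have hrefl : ∀ i ∈ headGens levels, refls.getD i [] =
      (List.range chevE8.nroots).map (reflWord chevE8 (words.getD i [])) := by
    intro i hi
    have h1 := beq_iff_eq.mp (List.all_eq_true.mp hreflB i hi)
    rw [h1]
    exact wordPerm_eq chevE8 memE8 weylChain_E8.refls e8_refls _ (hwLt _ (hwmem i hi))
  have hrpsi : ∀ i ∈ headGens levels, ∀ s < chevE8.nroots, psi ((refls.getD i []).getD s 0) = psi s := by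
    intro i hi s hs
    exact beq_iff_eq.mp (List.all_eq_true.mp (List.all_eq_true.mp hrpsiB i hi) s (List.mem_range.mpr hs))
  have hginv : ∀ i ∈ headGens levels, Cfsg.Agent.Lib.Helper7.comp (refls.getD i []) (refls.getD i []) =
      List.range chevE8.nroots := by
    intro i hi
    have h1 := beq_iff_eq.mp (List.all_eq_true.mp hginvB i hi)
    rw [compG_eq] at h1
    exact h1
  have hperm' : (chevE8.posRoots.filter psi).Perm (posOf QMs) := by
    rw [e8_posRoots]; exact hperm
  have horbNodup : (orbWords.map (fun L => (List.range chevE8.rank).map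
      (fun j => psi (reflWord chevE8 L (chevE8.simple j))))).Nodup := by
    have e : orbWords.map (fun L => (List.range chevE8.rank).map
        (fun j => psi (reflWord chevE8 L (chevE8.simple j)))) =
        orbWords.map (fun L => (List.range 8).map
          (fun j => psi (wordPt weylChain_E8.refls L (chevE8.simple j)))) := by
      apply List.map_congr_left
      intro L hL
      show (List.range 8).map _ = _
      apply List.map_congr_left
      intro j hj
      rw [wordPt_eq chevE8 memE8 weylChain_E8.refls e8_refls L (horbLt L hL) _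
        (e8_simple_lt j (List.mem_range.mp hj))]
    rw [e]
    exact horbNodupB
  have hcount : orbWords.length * (nfFin levels).card = (nfFin weylChain_E8.levels).card := by
    rw [card_nfFin, card_nfFin]
    exact hcountB
  have key := card_centralizer_of_chain chevE8 memE8 F (nfFin weylChain_E8.levels)
    (nfPerm chevE8.nroots weylChain_E8.levels) (nfDep weylChain_E8.levels) (nfZero weylChain_E8.levels)
    (weylEnum_of_chain chevE8 weylChain_E8 weylChainOKB_E8) h hh (fun s => (-1 : F) ^ c s) hχ hm psi hpsi hval
    (fun r => decide (r < 120)) e8_negB refls words levels QMs orbWords hwLt hgw hrefl hrpsi hginv hch hinv hperm'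
    horbLt horbNodup hcount hG
  rw [key, card_diagonal_E8 F, e8_posRoots]

end

end Cfsg.Agent.Lib.Helper11.E8Cent
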