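import Cfsg.Agent.Lib.Helper11.E8CentA
import Cfsg.Agent.Lib.Helper11.E8CentT
import Cfsg.Agent.Lib.Helper11.E8CentS

/-!
helper11: the orders of the centralisers in `E8(q)`, `q` odd, of the involutions `z_t = h_{p_8}(-1)` (type `E7 + A1`)
and `z_s = h_{p_1}(-1) h_{p_8}(-1)` (type `D8`) of the torus: `card_cent_zt`, `card_cent_zs`.
-/

set_option autoImplicit false
set_option maxRecDepth 1000000
set_option maxHeartbeats 4000000

namespace Cfsg.Agent.Lib.Helper11.E8Cent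

open Cfsg Cfsg.Lie Matrix Cfsg.Agent.Lib.Helper7 Cfsg.Agent.Lib.Helper11.SemiCent
open Cfsg.Agent.Lib.Helper11.ChainInv Cfsg.Agent.Lib.Helper11.ChevSL2 Cfsg.Agent.Lib.Helper7.OddInv
open Cfsg.Agent.Lib.Helper25.ChInv

theorem e8t_psiB : (List.range 240).all (fun r => e8tPsi r == decide (Even (chevE8.cartan 7 r))) = true := by
  decide +kernel

theorem e8s_psiB : (List.range 240).all
    (fun r => e8sPsi r == decide (Even (chevE8.cartan 0 r + chevE8.cartan 7 r))) = true := by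
  decide +kernel

theorem e8t_len : ((List.range' 120 120).filter e8tPsi).length = 64 := by decide +kernel

theorem e8s_len : ((List.range' 120 120).filter e8sPsi).length = 56 := by decide +kernel

theorem e8t_arith (q : ℕ) (h1 : 1 ≤ q) :
    (q - 1) ^ 8 * q ^ 64 * histPoly q e8tHist =
      q ^ 64 * (q ^ 2 - 1) ^ 2 * (q ^ 6 - 1) * (q ^ 8 - 1) * (q ^ 10 - 1) * (q ^ 12 - 1) * (q ^ 14 - 1) *
        (q ^ 18 - 1) := by
  have h2 : 1 ≤ q ^ 2 := Nat.one_le_pow _ _ h1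
  have h6 : 1 ≤ q ^ 6 := Nat.one_le_pow _ _ h1
  have h8 : 1 ≤ q ^ 8 := Nat.one_le_pow _ _ h1
  have h10 : 1 ≤ q ^ 10 := Nat.one_le_pow _ _ h1
  have h12 : 1 ≤ q ^ 12 := Nat.one_le_pow _ _ h1
  have h14 : 1 ≤ q ^ 14 := Nat.one_le_pow _ _ h1
  have h18 : 1 ≤ q ^ 18 := Nat.one_le_pow _ _ h1
  simp only [e8tHist, histPoly, Finset.sum_range_succ, Finset.sum_range_zero, List.getD_cons_zero,
    List.getD_cons_succ]
  zify [h1, h2, h6, h8, h10, h12, h14, h18]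
  ring

theorem prod_Icc_1_7 (q : ℕ) : ∏ i ∈ Finset.Icc 1 7, (q ^ (2 * i) - 1) =
    (q ^ 2 - 1) * (q ^ 4 - 1) * (q ^ 6 - 1) * (q ^ 8 - 1) * (q ^ 10 - 1) * (q ^ 12 - 1) * (q ^ 14 - 1) := by
  have h : Finset.Icc 1 7 = Finset.Ico 1 8 := by decide
  rw [h, Finset.prod_Ico_eq_prod_range]
  simp [Finset.prod_range_succ]

theorem e8s_arith (q : ℕ) (h1 : 1 ≤ q) :
    (q - 1) ^ 8 * q ^ 56 * histPoly q e8sHist =
      q ^ 56 * (q ^ 8 - 1) * ∏ i ∈ Finset.Icc 1 7, (q ^ (2 * i) - 1) := by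
  rw [prod_Icc_1_7]
  have h2 : 1 ≤ q ^ 2 := Nat.one_le_pow _ _ h1
  have h4 : 1 ≤ q ^ 4 := Nat.one_le_pow _ _ h1
  have h6 : 1 ≤ q ^ 6 := Nat.one_le_pow _ _ h1
  have h8 : 1 ≤ q ^ 8 := Nat.one_le_pow _ _ h1
  have h10 : 1 ≤ q ^ 10 := Nat.one_le_pow _ _ h1
  have h12 : 1 ≤ q ^ 12 := Nat.one_le_pow _ _ h1
  have h14 : 1 ≤ q ^ 14 := Nat.one_le_pow _ _ h1
  simp only [e8sHist, histPoly, Finset.sum_range_succ, Finset.sum_range_zero, List.getD_cons_zero,
    List.getD_cons_succ]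
  zify [h1, h2, h4, h6, h8, h10, h12, h14]
  ring

section
variable (F : Type*) [Field F] [Fintype F]

/-- the involution of type `E7 + A1` -/
noncomputable def zt : GL chevE8.Idx F := hF chevE8 memE8 F 7 (-1)

/-- the involution of type `D8` -/
noncomputable def zs : GL chevE8.Idx F := hF chevE8 memE8 F 0 (-1) * hF chevE8 memE8 F 7 (-1)

theorem neg_one_ne_zero' : (-1 : F) ≠ 0 := neg_ne_zero.mpr one_ne_zero

theorem zt_mem_diag : zt F ∈ chevE8.diagonalSubgroup F :=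
  hF_mem_diagonal chevE8 memE8 F 7 (by decide) (-1) (neg_one_ne_zero' F)

theorem zs_mem_diag : zs F ∈ chevE8.diagonalSubgroup F :=
  Subgroup.mul_mem _ (hF_mem_diagonal chevE8 memE8 F 0 (by decide) (-1) (neg_one_ne_zero' F))
    (hF_mem_diagonal chevE8 memE8 F 7 (by decide) (-1) (neg_one_ne_zero' F))

theorem zt_mem_group : zt F ∈ chevE8.group F :=
  monomial_le_group chevE8 memE8 F (diagonal_le_monomial chevE8 memE8 F (zt_mem_diag F))

theorem zs_mem_group : zs F ∈ chevE8.group F :=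
  monomial_le_group chevE8 memE8 F (diagonal_le_monomial chevE8 memE8 F (zs_mem_diag F))

theorem card_cent_zt_poly (h2 : (2 : F) ≠ 0) (hG : zt F ∈ chevE8.group F) :
    Nat.card (Subgroup.centralizer ({(⟨zt F, hG⟩ : ↥(chevE8.group F))} : Set ↥(chevE8.group F))) =
      (Fintype.card F - 1) ^ 8 * Fintype.card F ^ 64 * histPoly (Fintype.card F) e8tHist := by
  have hχ := chainChar_hF chevE8 memE8 F 7 (by decide) (-1) (neg_one_ne_zero' F)
  have hm := coe_hF_diagChar chevE8 memE8 F 7 (by decide) (-1) (neg_one_ne_zero' F)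
  rw [card_cent_e8 F (zt F) (zt_mem_diag F) (chevE8.cartan 7) hχ hm h2 e8tPsi e8t_psiB e8tReflsU e8tWords e8tLevels
    e8tQMs e8tOrb e8t_wLt e8t_gw e8t_reflB e8t_rpsiB e8t_ginvB e8t_chain e8t_inv e8t_perm e8t_orbLt e8t_orbNodup
    e8t_count hG, e8t_len, chainPoly_eq_histPoly _ _ _ e8t_hist]

theorem card_cent_zs_poly (h2 : (2 : F) ≠ 0) (hG : zs F ∈ chevE8.group F) :
    Nat.card (Subgroup.centralizer ({(⟨zs F, hG⟩ : ↥(chevE8.group F))} : Set ↥(chevE8.group F))) =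
      (Fintype.card F - 1) ^ 8 * Fintype.card F ^ 56 * histPoly (Fintype.card F) e8sHist := by
  have hχ0 := chainChar_hF chevE8 memE8 F 0 (by decide) (-1) (neg_one_ne_zero' F)
  have hχ7 := chainChar_hF chevE8 memE8 F 7 (by decide) (-1) (neg_one_ne_zero' F)
  have hm0 := coe_hF_diagChar chevE8 memE8 F 0 (by decide) (-1) (neg_one_ne_zero' F)
  have hm7 := coe_hF_diagChar chevE8 memE8 F 7 (by decide) (-1) (neg_one_ne_zero' F)
  have e : (fun s => (-1 : F) ^ chevE8.cartan 0 s * (-1 : F) ^ chevE8.cartan 7 s) =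
      fun s => (-1 : F) ^ (chevE8.cartan 0 s + chevE8.cartan 7 s) := by
    funext s
    rw [zpow_add₀ (neg_one_ne_zero' F)]
  have hχ : ChainChar chevE8 F (fun s => (-1 : F) ^ (chevE8.cartan 0 s + chevE8.cartan 7 s)) := by
    rw [← e]; exact hχ0.mul hχ7
  have hm : ((zs F : GL chevE8.Idx F) : Matrix chevE8.Idx chevE8.Idx F) =
      diagChar chevE8 F (fun s => (-1 : F) ^ (chevE8.cartan 0 s + chevE8.cartan 7 s)) := by
    unfold zs
    rw [Units.val_mul, hm0, hm7, diagChar_mul, e]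
  rw [card_cent_e8 F (zs F) (zs_mem_diag F) (fun s => chevE8.cartan 0 s + chevE8.cartan 7 s) hχ hm h2 e8sPsi e8s_psiB
    e8sReflsU e8sWords e8sLevels e8sQMs e8sOrb e8s_wLt e8s_gw e8s_reflB e8s_rpsiB e8s_ginvB e8s_chain e8s_inv
    e8s_perm e8s_orbLt e8s_orbNodup e8s_count hG, e8s_len, chainPoly_eq_histPoly _ _ _ e8s_hist]

/-- `|C(z_t)| = q^64 (q^2-1)^2 (q^6-1)(q^8-1)(q^10-1)(q^12-1)(q^14-1)(q^18-1)` -/
theorem card_cent_zt (h2 : (2 : F) ≠ 0) (hG : zt F ∈ chevE8.group F) :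
    Nat.card (Subgroup.centralizer ({(⟨zt F, hG⟩ : ↥(chevE8.group F))} : Set ↥(chevE8.group F))) =
      Fintype.card F ^ 64 * (Fintype.card F ^ 2 - 1) ^ 2 * (Fintype.card F ^ 6 - 1) * (Fintype.card F ^ 8 - 1) *
        (Fintype.card F ^ 10 - 1) * (Fintype.card F ^ 12 - 1) * (Fintype.card F ^ 14 - 1) *
        (Fintype.card F ^ 18 - 1) := by
  rw [card_cent_zt_poly F h2 hG]
  exact e8t_arith _ Fintype.card_pos

/-- `|C(z_s)| = q^56 (q^8-1) ∏_{i=1}^7 (q^{2i}-1)` -/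
theorem card_cent_zs (h2 : (2 : F) ≠ 0) (hG : zs F ∈ chevE8.group F) :
    Nat.card (Subgroup.centralizer ({(⟨zs F, hG⟩ : ↥(chevE8.group F))} : Set ↥(chevE8.group F))) =
      Fintype.card F ^ 56 * (Fintype.card F ^ 8 - 1) *
        ∏ i ∈ Finset.Icc 1 7, (Fintype.card F ^ (2 * i) - 1) := by
  rw [card_cent_zs_poly F h2 hG]
  exact e8s_arith _ Fintype.card_pos

end

end Cfsg.Agent.Lib.Helper11.E8Cent
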