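/-
helper11: S2264/S2265 leaf P4 (core): the main induction, with the three finite-field inputs
(P1, P2, P3 of notes/S2264_leaves.lean) as explicit hypotheses.
-/
import Mathlib

set_option autoImplicit false

namespace Cfsg.Agent.Lib.Helper11.EOrdP4

open Polynomial

variable {F : Type*} [Field F]

theorem mirror_pow' (f : F[X]) (n : ℕ) : (f ^ n).mirror = f.mirror ^ n := by
  induction n with
  | zero => rw [pow_zero, pow_zero, ← C_1, mirror_C]
  | succ n ih => rw [pow_succ, mirror_mul_of_domain, ih, pow_succ]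

theorem X_pow_sub_one_dvd (a b : ℕ) (h : a ∣ b) : (X ^ a - 1 : F[X]) ∣ X ^ b - 1 := by
  obtain ⟨c, rfl⟩ := h
  have := sub_dvd_pow_sub_pow (X ^ a : F[X]) 1 c
  rwa [one_pow, ← pow_mul] at this

theorem le_two_pow_pred (μ : ℕ) (hμ : 1 ≤ μ) : μ ≤ 2 ^ (μ - 1) := by
  have := Nat.lt_two_pow_self (n := μ - 1)
  omega

variable [Fintype F]

/-- The statement proved by the induction, as a predicate. -/
def Goal (P : F[X]) : Prop :=
  ∃ (m : ℕ) (K : Finset ℕ) (nA e : ℕ),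
      P.natDegree = 2 * m ∧ (∀ k ∈ K, 1 ≤ k) ∧ 1 ≤ nA ∧
      P ∣ (X ^ (nA * K.lcm (fun k => Fintype.card F ^ k + 1)) - 1) ^ (ringChar F ^ e) ∧
      nA * ringChar F ^ e * Fintype.card F ^ (K.sum id) ≤ Fintype.card F ^ m ∧
      (Odd (Fintype.card F) → 1 ≤ m →
        Even (nA * K.lcm (fun k => Fintype.card F ^ k + 1)))

theorem ringChar_prime_le : (ringChar F).Prime ∧ ringChar F ≤ Fintype.card F := by
  have : CharP F (ringChar F) := ringChar.charP F
  obtain ⟨n, hp, hc⟩ := FiniteField.card F (ringChar F)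
  refine ⟨hp, ?_⟩
  rw [hc]
  calc ringChar F = ringChar F ^ 1 := (pow_one _).symm
    _ ≤ ringChar F ^ (n : ℕ) := Nat.pow_le_pow_right hp.pos n.pos

theorem main_induction_of
    (P1 : ∀ {f : F[X]}, Irreducible f → f.coeff 0 ≠ 0 →
      f ∣ X ^ (Fintype.card F ^ f.natDegree - 1) - 1)
    (P2 : ∀ {f : F[X]}, Irreducible f → f.coeff 0 ≠ 0 → Associated f.mirror f →
      f.eval 1 ≠ 0 → f.eval (-1) ≠ 0 →
      ∃ k, 1 ≤ k ∧ f.natDegree = 2 * k ∧ f ∣ X ^ (Fintype.card F ^ k + 1) - 1)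
    (P3 : ∀ {f : F[X]}, Irreducible f → Irreducible f.mirror) :
    ∀ (n : ℕ) (P : F[X]), P.natDegree = n → P.coeff 0 ≠ 0 → Associated P.mirror P →
      P.eval 1 ≠ 0 → P.eval (-1) ≠ 0 → Goal P := by
  classical
  obtain ⟨hpp, hpq⟩ := ringChar_prime_le (F := F)
  set p := ringChar F with hp
  set q := Fintype.card F with hq
  have hp2 : 2 ≤ p := hpp.two_le
  have hq2 : 2 ≤ q := le_trans hp2 hpq
  intro n
  induction n using Nat.strong_induction_on with
  | _ n ih =>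
  intro P hdeg hP0 hm h1 hm1
  have hPne : P ≠ 0 := by
    rintro rfl; simp at hP0
  by_cases hunit : IsUnit P
  · -- base case
    refine ⟨0, ∅, 1, 0, ?_, by simp, le_refl _, hunit.dvd, by simp, ?_⟩
    · rw [natDegree_eq_zero_of_isUnit hunit]
    · intro _ h; omega
  -- pick an irreducible factor
  obtain ⟨f, hf, hfP⟩ := WfDvdMonoid.exists_irreducible_factor hunit hPne
  obtain ⟨μ, P₂, hfP₂, hPeq⟩ := WfDvdMonoid.max_power_factor hPne hf
  have hμ : 1 ≤ μ := by
    rcases Nat.eq_zero_or_pos μ with h | h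
    · exfalso; rw [h, pow_zero, one_mul] at hPeq; rw [hPeq] at hfP; exact hfP₂ hfP
    · exact h
  have hfd : 1 ≤ f.natDegree := hf.natDegree_pos
  have hfne : f ≠ 0 := hf.ne_zero
  have hP₂ne : P₂ ≠ 0 := by
    rintro rfl; rw [mul_zero] at hPeq; exact hPne hPeq
  -- coefficient / evaluation facts
  have hcoeff : P.coeff 0 = (f ^ μ).coeff 0 * P₂.coeff 0 := by rw [hPeq, mul_coeff_zero]
  have hf0 : f.coeff 0 ≠ 0 := by
    intro h
    obtain ⟨g, hg⟩ := hfP
    rw [hg, mul_coeff_zero, h, zero_mul] at hP0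
    exact hP0 rfl
  have hP₂0 : P₂.coeff 0 ≠ 0 := by
    intro h; rw [hcoeff, h, mul_zero] at hP0; exact hP0 rfl
  have hev : ∀ a : F, P.eval a ≠ 0 → f.eval a ≠ 0 ∧ P₂.eval a ≠ 0 := by
    intro a ha
    rw [hPeq, eval_mul, eval_pow] at ha
    refine ⟨fun h => ha (by rw [h, zero_pow (by omega), zero_mul]), fun h => ha (by rw [h, mul_zero])⟩
  obtain ⟨hf1, hP₂1⟩ := hev 1 h1
  obtain ⟨hfm1, hP₂m1⟩ := hev (-1) hm1
  -- the mirror of `f`
  have hf'irr : Irreducible f.mirror := P3 hf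
  have hmirP : P.mirror = f.mirror ^ μ * P₂.mirror := by
    rw [hPeq, mirror_mul_of_domain, mirror_pow']
  have hf'P : f.mirror ∣ P := by
    have : f.mirror ∣ P.mirror := by
      rw [hmirP]; exact Dvd.dvd.mul_right (dvd_pow_self _ (by omega)) _
    exact (hm.dvd_iff_dvd_right).mp this
  have hdegP : P.natDegree = μ * f.natDegree + P₂.natDegree := by
    rw [hPeq, natDegree_mul (pow_ne_zero _ hfne) hP₂ne, natDegree_pow]
  have hpμ : μ ≤ p ^ (μ - 1) :=
    le_trans (le_two_pow_pred μ hμ) (Nat.pow_le_pow_left hp2 _)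
  by_cases hself : Associated f.mirror f
  · ------------------------------------------------ case (B)
    obtain ⟨k, hk1, hfk, hfdvd⟩ := P2 hf hf0 hself hf1 hfm1
    -- `P₂` is self-reciprocal
    have hm₂ : Associated P₂.mirror P₂ := by
      have h1' : Associated (f.mirror ^ μ * P₂.mirror) (f ^ μ * P₂) := by
        rw [← hmirP, ← hPeq]; exact hm
      have h2' : Associated (f ^ μ * P₂.mirror) (f.mirror ^ μ * P₂.mirror) :=
        (hself.symm.pow_pow).mul_right _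
      have h3' := h2'.trans h1'
      exact Associated.of_mul_left h3' (Associated.refl _) (pow_ne_zero _ hfne)
    have hlt : P₂.natDegree < n := by
      rw [← hdeg, hdegP]
      have : 1 ≤ μ * f.natDegree := Nat.mul_pos hμ hfd
      omega
    obtain ⟨m₂, K₂, nA₂, e₂, hd₂, hK₂, hnA₂, hdvd₂, hcost₂, -⟩ :=
      ih _ hlt P₂ rfl hP₂0 hm₂ hP₂1 hP₂m1
    set K := insert k K₂ with hK
    set L₂ := K₂.lcm (fun k => q ^ k + 1) with hL₂
    set L := K.lcm (fun k => q ^ k + 1) with hL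
    have hLL : L₂ ∣ L := by
      rw [hL, hK, Finset.lcm_insert]; exact dvd_lcm_right _ _
    have hkL : q ^ k + 1 ∣ L := by
      rw [hL, hK, Finset.lcm_insert]; exact dvd_lcm_left _ _
    refine ⟨m₂ + k * μ, K, nA₂, e₂ + (μ - 1), ?_, ?_, hnA₂, ?_, ?_, ?_⟩
    · rw [hdegP, hd₂, hfk]; ring
    · intro j hj
      rcases Finset.mem_insert.mp hj with rfl | hj
      · exact hk1
      · exact hK₂ j hj
    · -- divisibility
      set Y : F[X] := X ^ (nA₂ * L) - 1 with hY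
      have hY₂ : (X ^ (nA₂ * L₂) - 1 : F[X]) ∣ Y :=
        X_pow_sub_one_dvd _ _ (Nat.mul_dvd_mul_left _ hLL)
      have hYk : (X ^ (q ^ k + 1) - 1 : F[X]) ∣ Y :=
        X_pow_sub_one_dvd _ _ (Dvd.dvd.mul_left hkL _)
      have hA : f ^ μ ∣ Y ^ (p ^ (e₂ + (μ - 1))) := by
        have : f ^ μ ∣ Y ^ μ := pow_dvd_pow_of_dvd (hfdvd.trans hYk) μ
        refine this.trans (pow_dvd_pow _ ?_)
        calc μ ≤ p ^ (μ - 1) := hpμ
          _ ≤ p ^ (e₂ + (μ - 1)) := Nat.pow_le_pow_right hpp.pos (by omega)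
      have hB : P₂ ∣ Y ^ (p ^ (e₂ + (μ - 1))) := by
        have : P₂ ∣ Y ^ (p ^ e₂) := hdvd₂.trans (pow_dvd_pow_of_dvd hY₂ _)
        exact this.trans (pow_dvd_pow _ (Nat.pow_le_pow_right hpp.pos (by omega)))
      have hcop : IsCoprime (f ^ μ) P₂ := ((hf.coprime_iff_not_dvd).mpr hfP₂).pow_left
      rw [hPeq]
      exact hcop.mul_dvd hA hB
    · -- cost
      have hsum : q ^ (K.sum id) ≤ q ^ (K₂.sum id) * q ^ k := by
        rw [← pow_add]
        apply Nat.pow_le_pow_right (by omega)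
        by_cases hkK : k ∈ K₂
        · rw [hK, Finset.insert_eq_of_mem hkK]; omega
        · rw [hK, Finset.sum_insert hkK]; simp only [id]; omega
      have hpk : p ^ (μ - 1) ≤ q ^ (k * (μ - 1)) := by
        rw [pow_mul]
        apply Nat.pow_le_pow_left
        calc p ≤ q := hpq
          _ = q ^ 1 := (pow_one _).symm
          _ ≤ q ^ k := Nat.pow_le_pow_right (by omega) hk1
      calc nA₂ * p ^ (e₂ + (μ - 1)) * q ^ (K.sum id)
          ≤ nA₂ * (p ^ e₂ * p ^ (μ - 1)) * (q ^ (K₂.sum id) * q ^ k) := by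
            rw [pow_add]; exact Nat.mul_le_mul_left _ hsum
        _ = (nA₂ * p ^ e₂ * q ^ (K₂.sum id)) * (p ^ (μ - 1) * q ^ k) := by ring
        _ ≤ q ^ m₂ * (q ^ (k * (μ - 1)) * q ^ k) :=
            Nat.mul_le_mul hcost₂ (Nat.mul_le_mul_right _ hpk)
        _ = q ^ (m₂ + k * μ) := by
            rw [← pow_add, ← pow_add]
            congr 1
            obtain ⟨μ', rfl⟩ : ∃ μ', μ = μ' + 1 := ⟨μ - 1, by omega⟩
            simp only [Nat.add_sub_cancel]; ring
    · intro hodd _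
      have : Even (q ^ k + 1) := by
        have : Odd (q ^ k) := hodd.pow
        exact this.add_one
      exact (this.trans_dvd hkL).mul_left _
  · ------------------------------------------------ case (A)
    set f' := f.mirror with hf'
    have hff' : ¬ f' ∣ f := fun h => hself (hf'irr.associated_of_dvd hf h)
    have hf'f : ¬ f ∣ f' := fun h => hself (hf.associated_of_dvd hf'irr h).symm
    have hcopff' : IsCoprime f f' := (hf.coprime_iff_not_dvd).mpr hf'f
    -- `f'` does not divide `mirror P₂`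
    have hf'mP₂ : ¬ f' ∣ P₂.mirror := by
      rintro ⟨g, hg⟩
      apply hfP₂
      have : P₂ = f * g.mirror := by
        have := congrArg mirror hg
        rwa [mirror_mirror, mirror_mul_of_domain, hf', mirror_mirror] at this
      exact ⟨_, this⟩
    -- `f' ^ μ ∣ P₂`
    have hf'μ : f' ^ μ ∣ P₂ := by
      have h1' : f' ^ μ ∣ f ^ μ * P₂ := by
        rw [← hPeq]
        have : f' ^ μ ∣ P.mirror := by rw [hmirP]; exact dvd_mul_right _ _
        exact (hm.dvd_iff_dvd_right).mp this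
      exact (hcopff'.symm.pow).dvd_of_dvd_mul_left h1'
    obtain ⟨P₃, hP₃⟩ := hf'μ
    have hP₃ne : P₃ ≠ 0 := by
      rintro rfl; rw [mul_zero] at hP₃; exact hP₂ne hP₃
    have hPeq3 : P = (f ^ μ * f' ^ μ) * P₃ := by rw [hPeq, hP₃]; ring
    have hfP₃ : ¬ f ∣ P₃ := fun h => hfP₂ (by rw [hP₃]; exact Dvd.dvd.mul_left h _)
    have hmirf' : f'.mirror = f := by rw [hf', mirror_mirror]
    have hmirP3 : P.mirror = (f ^ μ * f' ^ μ) * P₃.mirror := by
      rw [hPeq3, mirror_mul_of_domain, mirror_mul_of_domain, mirror_pow', mirror_pow', hmirf']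
      ring
    have hm₃ : Associated P₃.mirror P₃ := by
      have h1' : Associated ((f ^ μ * f' ^ μ) * P₃.mirror) ((f ^ μ * f' ^ μ) * P₃) := by
        rw [← hmirP3, ← hPeq3]; exact hm
      exact Associated.of_mul_left h1' (Associated.refl _)
        (mul_ne_zero (pow_ne_zero _ hfne) (pow_ne_zero _ hf'irr.ne_zero))
    have hf'P₃ : ¬ f' ∣ P₃ := by
      intro h
      -- then `f = mirror f' ∣ mirror P₃ ~ P₃`
      have : f ∣ P₃.mirror := by
        obtain ⟨g, hg⟩ := h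
        refine ⟨g.mirror, ?_⟩
        rw [hg, mirror_mul_of_domain, hmirf']
      exact hfP₃ ((hm₃.dvd_iff_dvd_right).mp this)
    have hf'd : f'.natDegree = f.natDegree := by rw [hf', mirror_natDegree]
    have hdegP3 : P.natDegree = 2 * (μ * f.natDegree) + P₃.natDegree := by
      rw [hPeq3, natDegree_mul (mul_ne_zero (pow_ne_zero _ hfne) (pow_ne_zero _ hf'irr.ne_zero))
        hP₃ne, natDegree_mul (pow_ne_zero _ hfne) (pow_ne_zero _ hf'irr.ne_zero), natDegree_pow,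
        natDegree_pow, hf'd]
      ring
    have hlt : P₃.natDegree < n := by
      rw [← hdeg, hdegP3]
      have : 1 ≤ μ * f.natDegree := Nat.mul_pos hμ hfd
      omega
    have hP₃0 : P₃.coeff 0 ≠ 0 := by
      intro h; apply hP₂0; rw [hP₃, mul_coeff_zero, h, mul_zero]
    have hP₃ev : ∀ a : F, P₂.eval a ≠ 0 → P₃.eval a ≠ 0 := by
      intro a ha h; apply ha; rw [hP₃, eval_mul, h, mul_zero]
    have hf'0 : f'.coeff 0 ≠ 0 := by
      intro h
      obtain ⟨g, hg⟩ := hf'P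
      rw [hg, mul_coeff_zero, h, zero_mul] at hP0
      exact hP0 rfl
    obtain ⟨m₃, K₃, nA₃, e₃, hd₃, hK₃, hnA₃, hdvd₃, hcost₃, -⟩ :=
      ih _ hlt P₃ rfl hP₃0 hm₃ (hP₃ev 1 hP₂1) (hP₃ev (-1) hP₂m1)
    set d := f.natDegree with hd
    set L := K₃.lcm (fun k => q ^ k + 1) with hL
    have hqd : 1 ≤ q ^ d - 1 := by
      have : 2 ^ 1 ≤ q ^ d := le_trans (Nat.pow_le_pow_left hq2 1) (Nat.pow_le_pow_right (by omega) hfd)
      omega
    have hfdvd : f ∣ X ^ (q ^ d - 1) - 1 := P1 hf hf0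
    have hf'dvd : f' ∣ X ^ (q ^ d - 1) - 1 := by
      have := P1 hf'irr hf'0
      rwa [hf'd] at this
    refine ⟨m₃ + d * μ, K₃, nA₃ * (q ^ d - 1), e₃ + (μ - 1), ?_, hK₃, ?_, ?_, ?_, ?_⟩
    · rw [hdegP3, hd₃]; ring
    · exact Nat.mul_pos hnA₃ hqd
    · set Y : F[X] := X ^ (nA₃ * (q ^ d - 1) * L) - 1 with hY
      have hY₃ : (X ^ (nA₃ * L) - 1 : F[X]) ∣ Y :=
        X_pow_sub_one_dvd _ _ ⟨q ^ d - 1, by ring⟩
      have hYd : (X ^ (q ^ d - 1) - 1 : F[X]) ∣ Y :=
        X_pow_sub_one_dvd _ _ ⟨nA₃ * L, by ring⟩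
      have hle : μ ≤ p ^ (e₃ + (μ - 1)) :=
        calc μ ≤ p ^ (μ - 1) := hpμ
          _ ≤ p ^ (e₃ + (μ - 1)) := Nat.pow_le_pow_right hpp.pos (by omega)
      have hA : f ^ μ ∣ Y ^ (p ^ (e₃ + (μ - 1))) :=
        (pow_dvd_pow_of_dvd (hfdvd.trans hYd) μ).trans (pow_dvd_pow _ hle)
      have hA' : f' ^ μ ∣ Y ^ (p ^ (e₃ + (μ - 1))) :=
        (pow_dvd_pow_of_dvd (hf'dvd.trans hYd) μ).trans (pow_dvd_pow _ hle)
      have hB : P₃ ∣ Y ^ (p ^ (e₃ + (μ - 1))) := by
        have : P₃ ∣ Y ^ (p ^ e₃) := hdvd₃.trans (pow_dvd_pow_of_dvd hY₃ _)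
        exact this.trans (pow_dvd_pow _ (Nat.pow_le_pow_right hpp.pos (by omega)))
      have hcop1 : IsCoprime (f ^ μ) (f' ^ μ) := hcopff'.pow
      have hcop2 : IsCoprime (f ^ μ * f' ^ μ) P₃ :=
        IsCoprime.mul_left ((hf.coprime_iff_not_dvd).mpr hfP₃).pow_left
          ((hf'irr.coprime_iff_not_dvd).mpr hf'P₃).pow_left
      rw [hPeq3]
      exact hcop2.mul_dvd (hcop1.mul_dvd hA hA') hB
    · have hpk : p ^ (μ - 1) ≤ q ^ (d * (μ - 1)) := by
        rw [pow_mul]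
        apply Nat.pow_le_pow_left
        calc p ≤ q := hpq
          _ = q ^ 1 := (pow_one _).symm
          _ ≤ q ^ d := Nat.pow_le_pow_right (by omega) hfd
      calc nA₃ * (q ^ d - 1) * p ^ (e₃ + (μ - 1)) * q ^ (K₃.sum id)
          = (nA₃ * p ^ e₃ * q ^ (K₃.sum id)) * ((q ^ d - 1) * p ^ (μ - 1)) := by
            rw [pow_add]; ring
        _ ≤ q ^ m₃ * (q ^ d * q ^ (d * (μ - 1))) :=
            Nat.mul_le_mul hcost₃ (Nat.mul_le_mul (Nat.sub_le _ _) hpk)
        _ = q ^ (m₃ + d * μ) := by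
            rw [← pow_add, ← pow_add]
            congr 1
            obtain ⟨μ', rfl⟩ : ∃ μ', μ = μ' + 1 := ⟨μ - 1, by omega⟩
            simp only [Nat.add_sub_cancel]; ring
    · intro hodd _
      have h2 : Even (q ^ d - 1) := by
        have : Odd (q ^ d) := hodd.pow
        obtain ⟨r, hr⟩ := this
        exact ⟨r, by omega⟩
      exact (h2.mul_left nA₃).mul_right _

end Cfsg.Agent.Lib.Helper11.EOrdP4
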