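/-
helper11: S2264/S2265 leaf P4 `main_induction` (exact statement), from the core induction
`EOrdP4Core.main_induction_of` and the leaves P1, P3 (helper10) and P2 (helper19).
-/
import Mathlib
import Cfsg.Agent.Lib.Helper11.EOrdP4Core
import Cfsg.Agent.Lib.Helper10.EOrdP1
import Cfsg.Agent.Lib.Helper19.EOrdP2

set_option autoImplicit false

namespace Cfsg.Agent.Lib.Helper11.EOrdP4

open Polynomial

variable {F : Type*} [Field F] [Fintype F]

/-- LEAF P4 (main induction, strong induction on `natDegree P`). -/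
theorem main_induction (P : F[X]) (hP0 : P.coeff 0 ≠ 0) (hm : Associated P.mirror P)
    (h1 : P.eval 1 ≠ 0) (hm1 : P.eval (-1) ≠ 0) :
    ∃ (m : ℕ) (K : Finset ℕ) (nA e : ℕ),
      P.natDegree = 2 * m ∧ (∀ k ∈ K, 1 ≤ k) ∧ 1 ≤ nA ∧
      P ∣ (X ^ (nA * K.lcm (fun k => Fintype.card F ^ k + 1)) - 1) ^ (ringChar F ^ e) ∧
      nA * ringChar F ^ e * Fintype.card F ^ (K.sum id) ≤ Fintype.card F ^ m ∧
      (Odd (Fintype.card F) → 1 ≤ m →
        Even (nA * K.lcm (fun k => Fintype.card F ^ k + 1))) :=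
  main_induction_of
    (fun hf h0 => Cfsg.Agent.Lib.Helper10.EOrdP1.irreducible_dvd_X_pow_sub_one hf h0)
    (fun hf h0 hm h1 hm1 => Cfsg.Agent.Lib.Helper19.EOrdP2.selfMirror_irreducible hf h0 hm h1 hm1)
    (fun hf => Cfsg.Agent.Lib.Helper10.EOrdP1.irreducible_mirror hf)
    P.natDegree P rfl hP0 hm h1 hm1

end Cfsg.Agent.Lib.Helper11.EOrdP4
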