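import Mathlib
import Cfsg.Prelude.Def_Transfer
import Cfsg.Agent.Lib.Helper4.ElemAb
import Cfsg.Agent.Lib.Helper4.Basic
import Cfsg.Agent.Lib.Helper17.Basic

/-!
Elementary abelian 2-subgroups acting on elementary abelian 2-subgroups: fixed point estimates
(helper11 library).
-/

set_option autoImplicit false

namespace Cfsg.Agent.Lib.Helper11

open Cfsg Cfsg.Agent.Lib.Helper4

variable {X : Type*} [Group X]

/-- An element of `zpowers a`, where `a ^ 2 = 1`, is `1` or `a`. -/
theorem mem_zpowers_of_sq_eq_one {a x : X} (ha2 : a ^ 2 = 1) (hx : x ∈ Subgroup.zpowers a) :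
    x = 1 ∨ x = a := by
  obtain ⟨k, rfl⟩ := Subgroup.mem_zpowers_iff.mp hx
  rcases Int.emod_two_eq_zero_or_one k with h | h
  · left
    have : k = 2 * (k / 2) := by omega
    rw [this, zpow_mul]
    have : a ^ (2 : ℤ) = 1 := by exact_mod_cast ha2
    rw [this, one_zpow]
  · right
    have : k = 2 * (k / 2) + 1 := by omega
    rw [this, zpow_add, zpow_mul]
    have : a ^ (2 : ℤ) = 1 := by exact_mod_cast ha2
    rw [this, one_zpow, one_mul, zpow_one]

/-- Adjoining a commuting involution to an elementary abelian 2-subgroup. -/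
theorem elemAb_sup_zpowers {D : Subgroup X} (hD : IsElementaryAbelian 2 D) {a : X} (ha2 : a ^ 2 = 1)
    (hc : ∀ d ∈ D, a * d = d * a) : IsElementaryAbelian 2 (D ⊔ Subgroup.zpowers a) := by
  apply elemAb_sup hD (elemAb_zpowers ha2)
  intro d hd b hb
  obtain ⟨k, rfl⟩ := Subgroup.mem_zpowers_iff.mp hb
  exact (Commute.zpow_right (show Commute d a from (hc d hd).symm) k).eq

/-- Adjoining a commuting involution outside `D` doubles the order. -/
theorem card_sup_zpowers {D : Subgroup X} [Finite D] {a : X} (ha2 : a ^ 2 = 1) (haD : a ∉ D)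
    (hc : ∀ d ∈ D, a * d = d * a) : Nat.card ↥(D ⊔ Subgroup.zpowers a) = 2 * Nat.card D := by
  have ha1 : a ≠ 1 := fun h => haD (h ▸ D.one_mem)
  have : Fact (Nat.Prime 2) := ⟨Nat.prime_two⟩
  have hord : orderOf a = 2 := orderOf_eq_prime ha2 ha1
  have hnorm : Subgroup.zpowers a ≤ Subgroup.normalizer (D : Set X) := by
    rw [Subgroup.zpowers_le]
    apply Subgroup.centralizer_le_normalizer
    rw [Subgroup.mem_centralizer_iff]
    intro d hd
    exact (hc d hd).symm
  have hinf : Subgroup.zpowers a ⊓ D = ⊥ := by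
    rw [eq_bot_iff]
    intro x hx
    obtain ⟨hx1, hx2⟩ := Subgroup.mem_inf.mp hx
    rcases mem_zpowers_of_sq_eq_one ha2 hx1 with h | h
    · exact Subgroup.mem_bot.mpr h
    · exact absurd (h ▸ hx2) haD
  have := card_sup_mul_card_inf (Subgroup.zpowers a) D hnorm
  rw [hinf, Subgroup.card_bot, mul_one, Nat.card_zpowers, hord, sup_comm] at this
  exact this

/-- An involution normalizing an elementary abelian 2-subgroup `F` centralizes a subgroup of `F`
of order at least `√|F|`. -/
theorem card_le_sq_card_centralizer [Finite X] {F : Subgroup X} (hF : IsElementaryAbelian 2 F) {t : X}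
    (ht2 : t ^ 2 = 1) (htN : t ∈ Subgroup.normalizer (F : Set X)) :
    Nat.card F ≤ Nat.card ↥(F ⊓ Subgroup.centralizer ({t} : Set X)) ^ 2 := by
  have hconj : ∀ x ∈ F, t * x * t⁻¹ ∈ F := fun x hx => (Subgroup.mem_normalizer_iff.mp htN x).mp hx
  have htinv : t⁻¹ = t := by
    rw [inv_eq_iff_mul_eq_one, ← pow_two, ht2]
  let φ : F →* F := MonoidHom.mk' (fun x => ⟨(x : X) * (t * x * t⁻¹), F.mul_mem x.2 (hconj x x.2)⟩) (by
    intro x y
    apply Subtype.ext
    simp only [Subgroup.coe_mul]
    have h2 := elemAb_comm hF y y.2 (t * x * t⁻¹) (hconj x x.2)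
    calc (x : X) * y * (t * (x * y) * t⁻¹)
        = x * (y * (t * x * t⁻¹)) * (t * y * t⁻¹) := by group
      _ = x * ((t * x * t⁻¹) * y) * (t * y * t⁻¹) := by rw [h2]
      _ = x * (t * x * t⁻¹) * (y * (t * y * t⁻¹)) := by group)
  have hφ : ∀ x : F, ((φ x : F) : X) = (x : X) * (t * x * t⁻¹) := fun x => rfl
  set K := F ⊓ Subgroup.centralizer ({t} : Set X) with hK
  have hker : φ.ker ≤ K.subgroupOf F := by
    intro x hx
    rw [MonoidHom.mem_ker] at hx
    have h1 : (x : X) * (t * x * t⁻¹) = 1 := by rw [← hφ, hx]; rfl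
    have hx2 : (x : X) * x = 1 := by rw [← pow_two]; exact hF.2 x x.2
    rw [Subgroup.mem_subgroupOf, hK, Subgroup.mem_inf, Subgroup.mem_centralizer_singleton_iff]
    refine ⟨x.2, ?_⟩
    have h3 : t * (x : X) * t⁻¹ = x := by
      have : (x : X) * (t * x * t⁻¹) = x * x := by rw [h1, hx2]
      exact mul_left_cancel this
    calc (x : X) * t = (t * x * t⁻¹) * t := by rw [h3]
      _ = t * x := by group
  have hrange : φ.range ≤ K.subgroupOf F := by
    rintro _ ⟨x, rfl⟩
    rw [Subgroup.mem_subgroupOf, hK, Subgroup.mem_inf, Subgroup.mem_centralizer_singleton_iff]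
    refine ⟨(φ x).2, ?_⟩
    rw [hφ]
    have h2 := elemAb_comm hF x x.2 (t * x * t⁻¹) (hconj x x.2)
    have htt : t * t = 1 := by rw [← pow_two, ht2]
    calc (x : X) * (t * x * t⁻¹) * t = (t * x * t⁻¹) * x * t := by rw [h2]
      _ = t * x * (t⁻¹ * x * t) := by group
      _ = t * x * (t * x * t⁻¹) := by
          congr 1
          conv_lhs => rw [htinv]
          conv_rhs => rw [htinv]
      _ = t * (x * (t * x * t⁻¹)) := by group
  have hcard : Nat.card F = Nat.card φ.ker * Nat.card φ.range := by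
    rw [← Subgroup.index_ker, Subgroup.card_mul_index]
  have hKF : K ≤ F := inf_le_left
  have hKcard : Nat.card (K.subgroupOf F) = Nat.card K :=
    Nat.card_congr (Subgroup.subgroupOfEquivOfLe hKF).toEquiv
  have h1 : Nat.card φ.ker ≤ Nat.card K := hKcard ▸ Subgroup.card_le_of_le hker
  have h2 : Nat.card φ.range ≤ Nat.card K := hKcard ▸ Subgroup.card_le_of_le hrange
  rw [hcard, pow_two]
  exact Nat.mul_le_mul h1 h2

/-- If `D ≤ A` are elementary abelian 2-subgroups with `|A : D| = 2 ^ n` and `A` normalizes the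
elementary abelian 2-subgroup `F`, then `|C_F(D)| ≤ |C_F(A)| ^ (2 ^ n)`. -/
theorem card_centralizer_le_pow [Finite X] {F : Subgroup X} (hF : IsElementaryAbelian 2 F) :
    ∀ (n : ℕ) (D A : Subgroup X), D ≤ A → IsElementaryAbelian 2 A →
      Nat.card A = 2 ^ n * Nat.card D → A ≤ Subgroup.normalizer (F : Set X) →
      Nat.card ↥(F ⊓ Subgroup.centralizer (D : Set X)) ≤
        Nat.card ↥(F ⊓ Subgroup.centralizer (A : Set X)) ^ (2 ^ n) := by
  intro n
  induction n with
  | zero =>
    intro D A hDA hA hcard hN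
    have : D = A := Subgroup.eq_of_le_of_card_ge hDA (by rw [hcard]; simp)
    subst this
    simp
  | succ n ih =>
    intro D A hDA hA hcard hN
    have hne : ¬ A ≤ D := by
      intro hAD
      have h1 : Nat.card A ≤ Nat.card D := Subgroup.card_le_of_le hAD
      have hpos : 0 < Nat.card D := Nat.card_pos
      have h2 : 2 * Nat.card D ≤ 2 ^ (n + 1) * Nat.card D := by
        apply Nat.mul_le_mul_right
        calc 2 = 2 ^ 1 := by norm_num
          _ ≤ 2 ^ (n + 1) := Nat.pow_le_pow_right (by norm_num) (by omega)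
      omega
    obtain ⟨a, haA, haD⟩ := SetLike.not_le_iff_exists.mp hne
    have ha2 : a ^ 2 = 1 := hA.2 a haA
    have hca : ∀ d ∈ D, a * d = d * a := fun d hd => elemAb_comm hA a haA d (hDA hd)
    have hD : IsElementaryAbelian 2 D := elemAb_mono hDA hA
    have hD₁A : D ⊔ Subgroup.zpowers a ≤ A := sup_le hDA (Subgroup.zpowers_le.mpr haA)
    have hcard₁ : Nat.card ↥(D ⊔ Subgroup.zpowers a) = 2 * Nat.card D := card_sup_zpowers ha2 haD hca
    have h1 := ih (D ⊔ Subgroup.zpowers a) A hD₁A hA (by rw [hcard₁, hcard]; ring) hN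
    have hF' : IsElementaryAbelian 2 (F ⊓ Subgroup.centralizer (D : Set X)) := elemAb_mono inf_le_left hF
    have haN : a ∈ Subgroup.normalizer ((F ⊓ Subgroup.centralizer (D : Set X) : Subgroup X) : Set X) := by
      apply Cfsg.Agent.Lib.Helper17.mem_normalizer_of_forall_conj_mem
      intro x hx
      obtain ⟨hxF, hxD⟩ := Subgroup.mem_inf.mp hx
      rw [Subgroup.mem_inf]
      refine ⟨(Subgroup.mem_normalizer_iff.mp (hN haA) x).mp hxF, ?_⟩
      rw [Subgroup.mem_centralizer_iff] at hxD ⊢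
      intro d hd
      have h3 := hxD d hd
      have h4 := hca d hd
      calc d * (a * x * a⁻¹) = (d * a) * x * a⁻¹ := by group
        _ = a * (d * x) * a⁻¹ := by rw [← h4]; group
        _ = a * (x * d) * a⁻¹ := by rw [h3]
        _ = a * x * (d * a⁻¹) := by group
        _ = a * x * (a⁻¹ * d) := by
            congr 1
            have : a⁻¹ * (a * d) * a⁻¹ = a⁻¹ * (d * a) * a⁻¹ := by rw [h4]
            calc d * a⁻¹ = a⁻¹ * (a * d) * a⁻¹ := by group
              _ = a⁻¹ * (d * a) * a⁻¹ := this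
              _ = a⁻¹ * d := by group
        _ = a * x * a⁻¹ * d := by group
    have h2 := card_le_sq_card_centralizer hF' ha2 haN
    have heq : F ⊓ Subgroup.centralizer (D : Set X) ⊓ Subgroup.centralizer ({a} : Set X) =
        F ⊓ Subgroup.centralizer ((D ⊔ Subgroup.zpowers a : Subgroup X) : Set X) := by
      ext x
      simp only [Subgroup.mem_inf, Subgroup.mem_centralizer_singleton_iff]
      constructor
      · rintro ⟨⟨hxF, hxD⟩, hxa⟩
        refine ⟨hxF, ?_⟩
        rw [Subgroup.mem_centralizer_iff] at hxD ⊢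
        have hle : D ⊔ Subgroup.zpowers a ≤ Subgroup.centralizer ({x} : Set X) := by
          apply sup_le
          · intro d hd
            rw [Subgroup.mem_centralizer_singleton_iff]
            exact hxD d hd
          · rw [Subgroup.zpowers_le, Subgroup.mem_centralizer_singleton_iff]
            exact hxa.symm
        intro y hy
        exact Subgroup.mem_centralizer_singleton_iff.mp (hle hy)
      · rintro ⟨hxF, hxD⟩
        rw [Subgroup.mem_centralizer_iff] at hxD
        refine ⟨⟨hxF, ?_⟩, ?_⟩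
        · rw [Subgroup.mem_centralizer_iff]
          intro d hd
          exact hxD d (Subgroup.mem_sup_left hd)
        · exact (hxD a (Subgroup.mem_sup_right (Subgroup.mem_zpowers a))).symm
    rw [heq] at h2
    calc Nat.card ↥(F ⊓ Subgroup.centralizer (D : Set X))
        ≤ Nat.card ↥(F ⊓ Subgroup.centralizer ((D ⊔ Subgroup.zpowers a : Subgroup X) : Set X)) ^ 2 := h2
      _ ≤ (Nat.card ↥(F ⊓ Subgroup.centralizer (A : Set X)) ^ (2 ^ n)) ^ 2 := Nat.pow_le_pow_left h1 2
      _ = Nat.card ↥(F ⊓ Subgroup.centralizer (A : Set X)) ^ (2 ^ (n + 1)) := by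
          rw [← pow_mul, pow_succ]

/-- Subgroups of every intermediate order between `D` and `A` in an elementary abelian 2-subgroup. -/
theorem exists_between_card [Finite X] {A : Subgroup X} (hA : IsElementaryAbelian 2 A) :
    ∀ (j : ℕ) (D : Subgroup X), D ≤ A → 2 ^ j * Nat.card D ≤ Nat.card A →
      ∃ H : Subgroup X, D ≤ H ∧ H ≤ A ∧ Nat.card H = 2 ^ j * Nat.card D := by
  intro j
  induction j with
  | zero =>
    intro D hDA _
    exact ⟨D, le_rfl, hDA, by simp⟩
  | succ j ih =>
    intro D hDA hcard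
    have hne : ¬ A ≤ D := by
      intro hAD
      have h1 : Nat.card A ≤ Nat.card D := Subgroup.card_le_of_le hAD
      have hpos : 0 < Nat.card D := Nat.card_pos
      have h2 : 2 * Nat.card D ≤ 2 ^ (j + 1) * Nat.card D := by
        apply Nat.mul_le_mul_right
        calc 2 = 2 ^ 1 := by norm_num
          _ ≤ 2 ^ (j + 1) := Nat.pow_le_pow_right (by norm_num) (by omega)
      omega
    obtain ⟨a, haA, haD⟩ := SetLike.not_le_iff_exists.mp hne
    have ha2 : a ^ 2 = 1 := hA.2 a haA
    have hca : ∀ d ∈ D, a * d = d * a := fun d hd => elemAb_comm hA a haA d (hDA hd)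
    have hD₁A : D ⊔ Subgroup.zpowers a ≤ A := sup_le hDA (Subgroup.zpowers_le.mpr haA)
    have hcard₁ : Nat.card ↥(D ⊔ Subgroup.zpowers a) = 2 * Nat.card D := card_sup_zpowers ha2 haD hca
    obtain ⟨H, h1, h2, h3⟩ := ih (D ⊔ Subgroup.zpowers a) hD₁A (by rw [hcard₁]; rw [pow_succ] at hcard; linarith)
    exact ⟨H, le_trans le_sup_left h1, h2, by rw [h3, hcard₁, pow_succ]; ring⟩

/-- Key fixed-point lemma: an elementary abelian 2-subgroup `A` normalizing the elementary abelian
2-subgroup `E`, with `|A : A ∩ E| = 2 ^ n` and `|A ∩ E| ^ (2 ^ n) < |E|`, is centralized by an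
element of `E` outside `A`. -/
theorem exists_centralizing_not_mem [Finite X] {E : Subgroup X} (hE : IsElementaryAbelian 2 E)
    {A : Subgroup X} (hA : IsElementaryAbelian 2 A) (hAN : A ≤ Subgroup.normalizer (E : Set X)) (n : ℕ)
    (hcard : Nat.card A = 2 ^ n * Nat.card ↥(A ⊓ E))
    (hlt : Nat.card ↥(A ⊓ E) ^ (2 ^ n) < Nat.card E) :
    ∃ z ∈ E, z ∉ A ∧ ∀ a ∈ A, z * a = a * z := by
  by_contra hcon
  push Not at hcon
  have hle : E ⊓ Subgroup.centralizer (A : Set X) ≤ A ⊓ E := by
    intro z hz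
    obtain ⟨hzE, hzA⟩ := Subgroup.mem_inf.mp hz
    rw [Subgroup.mem_centralizer_iff] at hzA
    by_contra hzn
    have hzA' : z ∉ A := fun h => hzn (Subgroup.mem_inf.mpr ⟨h, hzE⟩)
    obtain ⟨a, ha, hne⟩ := hcon z hzE hzA'
    exact hne (hzA a ha).symm
  have h1 := card_centralizer_le_pow hE n (A ⊓ E) A inf_le_left hA hcard hAN
  have h2 : E ⊓ Subgroup.centralizer ((A ⊓ E : Subgroup X) : Set X) = E := by
    apply le_antisymm inf_le_left
    intro x hx
    refine Subgroup.mem_inf.mpr ⟨hx, ?_⟩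
    rw [Subgroup.mem_centralizer_iff]
    intro d hd
    exact elemAb_comm hE d (Subgroup.mem_inf.mp hd).2 x hx
  rw [h2] at h1
  have h3 : Nat.card ↥(E ⊓ Subgroup.centralizer (A : Set X)) ≤ Nat.card ↥(A ⊓ E) := Subgroup.card_le_of_le hle
  have h4 := Nat.pow_le_pow_left h3 (2 ^ n)
  omega

end Cfsg.Agent.Lib.Helper11
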