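import Mathlib

/-!
# The Schrödinger representation of `2^{1+2n}_+` over `𝔽₃` (helper11)

Matrices `Bm u` (`u ∈ 𝔽₂^{2n}`) of size `2^n` over `ZMod 3`, with
`Bm u * Bm v = ± Bm (u + v)`.  Basic calculus.
-/

set_option autoImplicit false

namespace Cfsg.Agent.Lib.Helper11.ExtQ

open Matrix

/-- the sign character `𝔽₂ → 𝔽₃ˣ` -/
def sg (t : ZMod 2) : ZMod 3 := if t = 0 then 1 else -1

@[simp] theorem sg_zero : sg 0 = 1 := by decide
@[simp] theorem sg_one : sg 1 = -1 := by decide
theorem sg_add (s t : ZMod 2) : sg (s + t) = sg s * sg t := by revert s t; decide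
theorem sg_mul_self (t : ZMod 2) : sg t * sg t = 1 := by revert t; decide
theorem sg_ne_zero (t : ZMod 2) : sg t ≠ 0 := by revert t; decide
theorem sg_injective : Function.Injective sg := by
  intro s t; revert s t; decide
theorem sg_eq_one_iff (t : ZMod 2) : sg t = 1 ↔ t = 0 := by revert t; decide
theorem sg_cases (t : ZMod 2) : sg t = 1 ∨ sg t = -1 := by revert t; decide
theorem zmod2_cases (t : ZMod 2) : t = 0 ∨ t = 1 := by revert t; decide
theorem zmod3_cases (c : ZMod 3) : c = 0 ∨ c = 1 ∨ c = -1 := by revert c; decide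
theorem zmod2_add_self (t : ZMod 2) : t + t = 0 := by revert t; decide

variable {n : ℕ}

theorem vec_add_self {ι : Type*} (v : ι → ZMod 2) : v + v = 0 := by
  ext i; exact zmod2_add_self _

theorem vec_neg {ι : Type*} (v : ι → ZMod 2) : -v = v := by
  rw [neg_eq_iff_add_eq_zero]; exact vec_add_self v

theorem vec_sub {ι : Type*} (v w : ι → ZMod 2) : v - w = v + w := by
  rw [sub_eq_add_neg, vec_neg]

/-- first half of the coordinates -/
def pa (u : Fin n ⊕ Fin n → ZMod 2) : Fin n → ZMod 2 := fun i => u (Sum.inl i)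
/-- second half of the coordinates -/
def pb (u : Fin n ⊕ Fin n → ZMod 2) : Fin n → ZMod 2 := fun i => u (Sum.inr i)

@[simp] theorem pa_add (u v : Fin n ⊕ Fin n → ZMod 2) : pa (u + v) = pa u + pa v := rfl
@[simp] theorem pb_add (u v : Fin n ⊕ Fin n → ZMod 2) : pb (u + v) = pb u + pb v := rfl
@[simp] theorem pa_zero : pa (0 : Fin n ⊕ Fin n → ZMod 2) = 0 := rfl
@[simp] theorem pb_zero : pb (0 : Fin n ⊕ Fin n → ZMod 2) = 0 := rfl

theorem ext_pa_pb {u v : Fin n ⊕ Fin n → ZMod 2} (ha : pa u = pa v) (hb : pb u = pb v) : u = v := by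
  ext i
  rcases i with i | i
  · exact congrFun ha i
  · exact congrFun hb i

/-- the bilinear form `β(u,v) = b_u · a_v` with `β(u,u) = q₀(u)` -/
def bet (u v : Fin n ⊕ Fin n → ZMod 2) : ZMod 2 := pb u ⬝ᵥ pa v

theorem bet_add_left (u u' v : Fin n ⊕ Fin n → ZMod 2) : bet (u + u') v = bet u v + bet u' v := by
  simp [bet, add_dotProduct]
theorem bet_add_right (u v v' : Fin n ⊕ Fin n → ZMod 2) : bet u (v + v') = bet u v + bet u v' := by
  simp [bet, dotProduct_add]
@[simp] theorem bet_zero_left (v : Fin n ⊕ Fin n → ZMod 2) : bet 0 v = 0 := by simp [bet]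
@[simp] theorem bet_zero_right (v : Fin n ⊕ Fin n → ZMod 2) : bet v 0 = 0 := by simp [bet]

/-- the standard plus-type quadratic form -/
def q0 (u : Fin n ⊕ Fin n → ZMod 2) : ZMod 2 := bet u u

theorem q0_add (u v : Fin n ⊕ Fin n → ZMod 2) : q0 (u + v) = q0 u + q0 v + (bet u v + bet v u) := by
  simp only [q0, bet_add_left, bet_add_right]; ring

/-- the matrices -/
def Bm (u : Fin n ⊕ Fin n → ZMod 2) : Matrix (Fin n → ZMod 2) (Fin n → ZMod 2) (ZMod 3) :=
  fun v w => if v = w + pa u then sg (pb u ⬝ᵥ w) else 0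

theorem Bm_apply (u : Fin n ⊕ Fin n → ZMod 2) (v w : Fin n → ZMod 2) :
    Bm u v w = if v = w + pa u then sg (pb u ⬝ᵥ w) else 0 := rfl

@[simp] theorem Bm_zero : Bm (0 : Fin n ⊕ Fin n → ZMod 2) = 1 := by
  ext v w
  simp [Bm_apply, Matrix.one_apply]

theorem Bm_mul (u u' : Fin n ⊕ Fin n → ZMod 2) :
    Bm u * Bm u' = sg (bet u u') • Bm (u + u') := by
  ext v w
  rw [Matrix.mul_apply, Finset.sum_eq_single (w + pa u')]
  · simp only [Bm_apply, Matrix.smul_apply, smul_eq_mul, if_true]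
    by_cases h : v = w + pa u' + pa u
    · have h' : v = w + pa (u + u') := by rw [h, pa_add]; abel
      rw [if_pos h, if_pos h', pb_add, dotProduct_add, sg_add, add_dotProduct, sg_add, bet]
      ring
    · have h' : ¬ v = w + pa (u + u') := by
        intro h2; apply h; rw [h2, pa_add]; abel
      rw [if_neg h, if_neg h']; simp
  · intro x _ hx
    rw [Bm_apply u' x w, if_neg hx, mul_zero]
  · intro h; exact absurd (Finset.mem_univ _) h

theorem Bm_mul_self (u : Fin n ⊕ Fin n → ZMod 2) : Bm u * Bm u = sg (q0 u) • 1 := by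
  rw [Bm_mul, vec_add_self, Bm_zero, q0]

/-- the polar form -/
def pol (u v : Fin n ⊕ Fin n → ZMod 2) : ZMod 2 := bet u v + bet v u

theorem pol_comm (u v : Fin n ⊕ Fin n → ZMod 2) : pol u v = pol v u := by
  simp [pol, add_comm]

theorem pol_add_right (u v v' : Fin n ⊕ Fin n → ZMod 2) : pol u (v + v') = pol u v + pol u v' := by
  simp only [pol, bet_add_left, bet_add_right]; ring

theorem pol_add_left (u u' v : Fin n ⊕ Fin n → ZMod 2) : pol (u + u') v = pol u v + pol u' v := by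
  simp only [pol, bet_add_left, bet_add_right]; ring

theorem pol_self (u : Fin n ⊕ Fin n → ZMod 2) : pol u u = 0 := zmod2_add_self _

theorem Bm_comm (u v : Fin n ⊕ Fin n → ZMod 2) : Bm u * Bm v = sg (pol u v) • (Bm v * Bm u) := by
  rw [Bm_mul, Bm_mul, smul_smul, add_comm v u, pol, sg_add, mul_assoc, sg_mul_self, mul_one]

/-- `Bm u` as a unit -/
def BU (u : Fin n ⊕ Fin n → ZMod 2) : (Matrix (Fin n → ZMod 2) (Fin n → ZMod 2) (ZMod 3))ˣ where
  val := Bm u
  inv := sg (q0 u) • Bm u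
  val_inv := by
    rw [Matrix.mul_smul, Bm_mul_self, smul_smul, sg_mul_self, one_smul]
  inv_val := by
    rw [Matrix.smul_mul, Bm_mul_self, smul_smul, sg_mul_self, one_smul]

@[simp] theorem BU_val (u : Fin n ⊕ Fin n → ZMod 2) : ((BU u : (Matrix (Fin n → ZMod 2) (Fin n → ZMod 2) (ZMod 3))ˣ) : Matrix _ _ _) = Bm u := rfl

end Cfsg.Agent.Lib.Helper11.ExtQ
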