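import Cfsg.Agent.Lib.Helper11.ExtQA

/-!
# Schrödinger representation over `𝔽₃`: orthogonality, traces, centraliser (helper11)
-/

set_option autoImplicit false

namespace Cfsg.Agent.Lib.Helper11.ExtQ

open Matrix

variable {n : ℕ}

/-- build a vector of `𝔽₂^{2n}` from its two halves -/
def mkW (a b : Fin n → ZMod 2) : Fin n ⊕ Fin n → ZMod 2 := Sum.elim a b

@[simp] theorem pa_mkW (a b : Fin n → ZMod 2) : pa (mkW a b) = a := rfl
@[simp] theorem pb_mkW (a b : Fin n → ZMod 2) : pb (mkW a b) = b := rfl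
theorem mkW_pa_pb (u : Fin n ⊕ Fin n → ZMod 2) : mkW (pa u) (pb u) = u :=
  ext_pa_pb rfl rfl

theorem mkW_add (a b a' b' : Fin n → ZMod 2) : mkW a b + mkW a' b' = mkW (a + a') (b + b') :=
  ext_pa_pb rfl rfl

theorem two_ne_zero3 : (2 : ZMod 3) ≠ 0 := by decide

theorem eq_zero_of_eq_neg3 {x : ZMod 3} (h : x = -x) : x = 0 := by
  revert h; revert x; decide

theorem two_pow_ne_zero3 (n : ℕ) : (2 : ZMod 3) ^ n ≠ 0 := pow_ne_zero _ two_ne_zero3

theorem one_ne_neg_one3 : (1 : ZMod 3) ≠ -1 := by decide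

/-- orthogonality of characters of `𝔽₂^n` -/
theorem sum_sg_dot (c : Fin n → ZMod 2) :
    ∑ b : Fin n → ZMod 2, sg (b ⬝ᵥ c) = if c = 0 then (2 : ZMod 3) ^ n else 0 := by
  by_cases hc : c = 0
  · subst hc
    simp only [dotProduct_zero, sg_zero, if_true, Finset.sum_const, Finset.card_univ,
      Fintype.card_fun, ZMod.card, Fintype.card_fin, nsmul_eq_mul, mul_one]
    push_cast; rfl
  · rw [if_neg hc]
    obtain ⟨i, hi⟩ : ∃ i, c i ≠ 0 := by
      by_contra h
      exact hc (funext fun i => by_contra fun hi => h ⟨i, hi⟩)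
    have hi1 : c i = 1 := by
      rcases zmod2_cases (c i) with h | h
      · exact absurd h hi
      · exact h
    apply eq_zero_of_eq_neg3
    rw [← Finset.sum_neg_distrib]
    rw [← Equiv.sum_comp (Equiv.addRight (Pi.single i (1 : ZMod 2)))]
    apply Finset.sum_congr rfl
    intro b _
    simp only [Equiv.coe_addRight, add_dotProduct, single_dotProduct, one_mul, hi1, sg_add,
      sg_one]
    ring

theorem sum_sg_dot' (c : Fin n → ZMod 2) :
    ∑ b : Fin n → ZMod 2, sg (c ⬝ᵥ b) = if c = 0 then (2 : ZMod 3) ^ n else 0 := by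
  rw [← sum_sg_dot c]
  exact Finset.sum_congr rfl fun b _ => by rw [dotProduct_comm]

theorem eq_zero_iff_pa_pb (u : Fin n ⊕ Fin n → ZMod 2) : u = 0 ↔ pa u = 0 ∧ pb u = 0 := by
  constructor
  · rintro rfl; exact ⟨rfl, rfl⟩
  · rintro ⟨ha, hb⟩; exact ext_pa_pb ha hb

theorem add_eq_self_iff (v a : Fin n → ZMod 2) : v = v + a ↔ a = 0 := by
  constructor
  · intro h
    have := congrArg (fun x => v + x) h
    simp only [← add_assoc, vec_add_self, zero_add] at this
    exact this.symm
  · rintro rfl; simp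

/-- the trace of `Bm u` -/
theorem trace_Bm (u : Fin n ⊕ Fin n → ZMod 2) :
    Matrix.trace (Bm u) = if u = 0 then (2 : ZMod 3) ^ n else 0 := by
  unfold Matrix.trace
  simp only [Matrix.diag_apply, Bm_apply, add_eq_self_iff]
  by_cases ha : pa u = 0
  · simp only [ha, if_true]
    rw [sum_sg_dot']
    by_cases hb : pb u = 0
    · rw [if_pos hb, if_pos ((eq_zero_iff_pa_pb u).2 ⟨ha, hb⟩)]
    · rw [if_neg hb, if_neg (fun h => hb ((eq_zero_iff_pa_pb u).1 h).2)]
  · simp only [ha, if_false, Finset.sum_const_zero]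
    rw [if_neg (fun h => ha ((eq_zero_iff_pa_pb u).1 h).1)]

theorem mul_Bm_apply (T : Matrix (Fin n → ZMod 2) (Fin n → ZMod 2) (ZMod 3))
    (u : Fin n ⊕ Fin n → ZMod 2) (v w : Fin n → ZMod 2) :
    (T * Bm u) v w = T v (w + pa u) * sg (pb u ⬝ᵥ w) := by
  rw [Matrix.mul_apply, Finset.sum_eq_single (w + pa u)]
  · rw [Bm_apply, if_pos rfl]
  · intro x _ hx
    rw [Bm_apply, if_neg hx, mul_zero]
  · intro h; exact absurd (Finset.mem_univ _) h

theorem eq_add_iff (v x a : Fin n → ZMod 2) : v = x + a ↔ x = v + a := by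
  constructor
  · rintro rfl; rw [add_assoc, vec_add_self, add_zero]
  · rintro rfl; rw [add_assoc, vec_add_self, add_zero]

theorem Bm_mul_apply (T : Matrix (Fin n → ZMod 2) (Fin n → ZMod 2) (ZMod 3))
    (u : Fin n ⊕ Fin n → ZMod 2) (v w : Fin n → ZMod 2) :
    (Bm u * T) v w = sg (pb u ⬝ᵥ (v + pa u)) * T (v + pa u) w := by
  rw [Matrix.mul_apply, Finset.sum_eq_single (v + pa u)]
  · rw [Bm_apply, if_pos ((eq_add_iff _ _ _).2 rfl)]
  · intro x _ hx
    rw [Bm_apply, if_neg (fun h => hx ((eq_add_iff _ _ _).1 h)), zero_mul]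
  · intro h; exact absurd (Finset.mem_univ _) h

theorem Bm_mulVec_apply (x : (Fin n → ZMod 2) → ZMod 3)
    (u : Fin n ⊕ Fin n → ZMod 2) (v : Fin n → ZMod 2) :
    (Bm u *ᵥ x) v = sg (pb u ⬝ᵥ (v + pa u)) * x (v + pa u) := by
  rw [Matrix.mulVec, dotProduct, Finset.sum_eq_single (v + pa u)]
  · rw [Bm_apply, if_pos ((eq_add_iff _ _ _).2 rfl)]
  · intro y _ hy
    rw [Bm_apply, if_neg (fun h => hy ((eq_add_iff _ _ _).1 h)), zero_mul]
  · intro h; exact absurd (Finset.mem_univ _) h

/-- `Bm` is injective up to sign -/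
theorem Bm_inj {u v : Fin n ⊕ Fin n → ZMod 2} (h : Bm u = Bm v ∨ Bm u = -Bm v) : u = v := by
  have key : ∀ x w, Bm u x w = Bm v x w ∨ Bm u x w = -Bm v x w := by
    intro x w
    rcases h with h | h
    · left; rw [h]
    · right; rw [h]; rfl
  have ha : pa u = pa v := by
    have h1 := key (pa u) 0
    rw [Bm_apply, if_pos (zero_add _).symm, dotProduct_zero, sg_zero, Bm_apply] at h1
    by_contra hne
    rw [if_neg (by rw [zero_add]; exact hne)] at h1
    rcases h1 with h1 | h1
    · exact one_ne_zero h1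
    · rw [neg_zero] at h1; exact one_ne_zero h1
  have hsign : Bm u = Bm v := by
    rcases h with h | h
    · exact h
    · exfalso
      have h1 := congrFun (congrFun h (pa u)) 0
      rw [Matrix.neg_apply, Bm_apply, if_pos (zero_add _).symm, Bm_apply,
        if_pos (by rw [zero_add, ha])] at h1
      simp only [dotProduct_zero, sg_zero] at h1
      exact one_ne_neg_one3 h1
  have hb : pb u = pb v := by
    funext i
    have h1 := congrFun (congrFun hsign (Pi.single i 1 + pa u)) (Pi.single i 1)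
    rw [Bm_apply, if_pos rfl, Bm_apply, if_pos (by rw [ha]), dotProduct_single,
      dotProduct_single, mul_one, mul_one] at h1
    exact sg_injective h1
  exact ext_pa_pb ha hb

/-- the centraliser of all `Bm u` consists of scalars -/
theorem scalar_of_commute (T : Matrix (Fin n → ZMod 2) (Fin n → ZMod 2) (ZMod 3))
    (hT : ∀ u, T * Bm u = Bm u * T) : T = T 0 0 • (1 : Matrix _ _ _) := by
  have hdiag : ∀ v w, v ≠ w → T v w = 0 := by
    intro v w hvw
    obtain ⟨i, hi⟩ : ∃ i, v i ≠ w i := by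
      by_contra h
      exact hvw (funext fun i => by_contra fun hi => h ⟨i, hi⟩)
    have h1 := congrFun (congrFun (hT (mkW 0 (Pi.single i 1))) v) w
    rw [mul_Bm_apply, Bm_mul_apply] at h1
    simp only [pa_mkW, pb_mkW, add_zero, single_dotProduct, one_mul] at h1
    have h2 : sg (v i) = - sg (w i) := by
      rcases zmod2_cases (v i) with h | h <;> rcases zmod2_cases (w i) with h' | h'
      · exact absurd (h.trans h'.symm) hi
      · rw [h, h']; decide
      · rw [h, h']; decide
      · exact absurd (h.trans h'.symm) hi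
    rw [h2] at h1
    have h3 : T v w * sg (w i) = 0 := by
      apply eq_zero_of_eq_neg3
      calc T v w * sg (w i) = -sg (w i) * T v w := h1
        _ = -(T v w * sg (w i)) := by ring
    rcases mul_eq_zero.mp h3 with h4 | h4
    · exact h4
    · exact absurd h4 (sg_ne_zero _)
  have hconst : ∀ v, T v v = T 0 0 := by
    intro v
    have h1 := congrFun (congrFun (hT (mkW v 0)) v) 0
    rw [mul_Bm_apply, Bm_mul_apply] at h1
    simp only [pa_mkW, pb_mkW, zero_dotProduct, sg_zero, mul_one, one_mul, zero_add,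
      vec_add_self] at h1
    exact h1
  ext v w
  rw [Matrix.smul_apply, Matrix.one_apply, smul_eq_mul]
  by_cases hvw : v = w
  · subst hvw; rw [if_pos rfl, mul_one, hconst]
  · rw [if_neg hvw, mul_zero, hdiag v w hvw]

end Cfsg.Agent.Lib.Helper11.ExtQ
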