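import Cfsg.Agent.Lib.Helper11.ExtQB

/-!
# Quadratic refinements of alternating forms over `𝔽₂` (helper11)

For an additive `q₀`-isometry `g` there is `γ` with
`γ (u + v) = γ u + γ v + β (g u) (g v) + β u v`.
-/

set_option autoImplicit false

namespace Cfsg.Agent.Lib.Helper11.ExtQ

open Matrix

/-- an additive function on `𝔽₂^J` in coordinates -/
theorem additive_expand {J : Type*} [Fintype J] [DecidableEq J] (f : (J → ZMod 2) → ZMod 2)
    (hf : ∀ u v, f (u + v) = f u + f v) (u : J → ZMod 2) :
    f u = ∑ j, u j * f (Pi.single j 1) := by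
  have h0 : f 0 = 0 := by
    have := hf 0 0
    rw [add_zero] at this
    exact left_eq_add.mp this
  let F : (J → ZMod 2) →+ ZMod 2 := ⟨⟨f, h0⟩, hf⟩
  have := LinearMap.pi_apply_eq_sum_univ (AddMonoidHom.toZModLinearMap 2 F) u
  simp only [AddMonoidHom.coe_toZModLinearMap, smul_eq_mul] at this
  rw [show f u = F u from rfl, this]
  apply Finset.sum_congr rfl
  intro j _
  have hfun : (fun k => if j = k then (1 : ZMod 2) else 0) = Pi.single j 1 := by
    ext k
    simp [Pi.single_apply, eq_comm]
  rw [hfun]
  rfl

/-- an alternating biadditive form on `𝔽₂^J` is the polarisation of some function -/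
theorem exists_refinement {J : Type*} [Fintype J] [DecidableEq J] [LinearOrder J]
    (A : (J → ZMod 2) → (J → ZMod 2) → ZMod 2)
    (hl : ∀ u u' v, A (u + u') v = A u v + A u' v)
    (hr : ∀ u v v', A u (v + v') = A u v + A u v')
    (halt : ∀ u, A u u = 0) (hsym : ∀ u v, A u v = A v u) :
    ∃ γ : (J → ZMod 2) → ZMod 2, ∀ u v, γ (u + v) = γ u + γ v + A u v := by
  classical
  let a : J → J → ZMod 2 := fun i j => A (Pi.single i 1) (Pi.single j 1)
  have hA : ∀ u v, A u v = ∑ i, ∑ j, a i j * (u i * v j) := by
    intro u v
    rw [additive_expand (fun x => A x v) (fun x y => hl x y v) u]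
    apply Finset.sum_congr rfl
    intro i _
    rw [additive_expand (fun y => A (Pi.single i 1) y) (fun x y => hr _ x y) v, Finset.mul_sum]
    apply Finset.sum_congr rfl
    intro j _
    ring
  let C : (J → ZMod 2) → (J → ZMod 2) → ZMod 2 :=
    fun u v => ∑ i, ∑ j, if i < j then a i j * (u i * v j) else 0
  have hCl : ∀ u u' v, C (u + u') v = C u v + C u' v := by
    intro u u' v
    simp only [C, ← Finset.sum_add_distrib]
    apply Finset.sum_congr rfl; intro i _
    apply Finset.sum_congr rfl; intro j _
    split_ifs
    · simp only [Pi.add_apply]; ring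
    · simp
  have hCr : ∀ u v v', C u (v + v') = C u v + C u v' := by
    intro u v v'
    simp only [C, ← Finset.sum_add_distrib]
    apply Finset.sum_congr rfl; intro i _
    apply Finset.sum_congr rfl; intro j _
    split_ifs
    · simp only [Pi.add_apply]; ring
    · simp
  have hCC : ∀ u v, C u v + C v u = A u v := by
    intro u v
    have h2 : C v u = ∑ i, ∑ j, if j < i then a i j * (u i * v j) else 0 := by
      simp only [C]
      rw [Finset.sum_comm]
      apply Finset.sum_congr rfl; intro i _
      apply Finset.sum_congr rfl; intro j _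
      have : a j i = a i j := hsym _ _
      rw [this, mul_comm (v j) (u i)]
    rw [h2, hA]
    simp only [C, ← Finset.sum_add_distrib]
    apply Finset.sum_congr rfl; intro i _
    apply Finset.sum_congr rfl; intro j _
    rcases lt_trichotomy i j with h | h | h
    · rw [if_pos h, if_neg (not_lt.mpr h.le), add_zero]
    · subst h
      rw [if_neg (lt_irrefl _), add_zero]
      have : a i i = 0 := halt _
      rw [this, zero_mul]
    · rw [if_neg (not_lt.mpr h.le), if_pos h, zero_add]
  refine ⟨fun u => C u u, fun u v => ?_⟩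
  show C (u + v) (u + v) = C u u + C v v + A u v
  rw [hCl, hCr, hCr, ← hCC u v]
  ring

variable {n : ℕ}

/-- the sign function attached to an isometry -/
theorem exists_gamma (g : (Fin n ⊕ Fin n → ZMod 2) → (Fin n ⊕ Fin n → ZMod 2))
    (hadd : ∀ u v, g (u + v) = g u + g v) (hq : ∀ u, q0 (g u) = q0 u) :
    ∃ γ : (Fin n ⊕ Fin n → ZMod 2) → ZMod 2,
      ∀ u v, γ (u + v) = γ u + γ v + bet (g u) (g v) + bet u v := by
  classical
  let _ : LinearOrder (Fin n ⊕ Fin n) :=
    LinearOrder.lift' (Fintype.equivFin (Fin n ⊕ Fin n)) (Equiv.injective _)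
  have hpol : ∀ u v, pol (g u) (g v) = pol u v := by
    intro u v
    have h1 := q0_add (g u) (g v)
    have h2 := q0_add u v
    rw [← hadd, hq, hq, hq, h2] at h1
    have : pol u v = pol (g u) (g v) := by
      simp only [pol]
      exact add_left_cancel h1
    exact this.symm
  obtain ⟨γ, hγ⟩ := exists_refinement (fun u v => bet (g u) (g v) + bet u v)
    (by intro u u' v; simp only [hadd, bet_add_left]; ring)
    (by intro u v v'; simp only [hadd, bet_add_right]; ring)
    (by intro u; show q0 (g u) + q0 u = 0; rw [hq]; exact zmod2_add_self _)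
    (by
      intro u v
      have h1 := hpol u v
      simp only [pol] at h1
      have h3 : ∀ x y z w : ZMod 2, x + y = z + w → x + z = y + w := by decide
      exact h3 _ _ _ _ h1)
  exact ⟨γ, fun u v => by rw [hγ]; ring⟩

end Cfsg.Agent.Lib.Helper11.ExtQ
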