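import Cfsg.Agent.Lib.Helper11.ExtQC

/-!
# Lifting isometries to intertwiners of the Schrödinger representation (helper11)
-/

set_option autoImplicit false

namespace Cfsg.Agent.Lib.Helper11.ExtQ

open Matrix

variable {n : ℕ}

instance fact_three : Fact (Nat.Prime 3) := ⟨Nat.prime_three⟩

theorem mkW_zero_zero : mkW (0 : Fin n → ZMod 2) 0 = 0 := ext_pa_pb rfl rfl

theorem mkW_eq_zero_iff (a b : Fin n → ZMod 2) : mkW a b = 0 ↔ a = 0 ∧ b = 0 := by
  rw [eq_zero_iff_pa_pb]; rfl

/-- the intertwiner -/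
theorem exists_intertwiner (g : (Fin n ⊕ Fin n → ZMod 2) → (Fin n ⊕ Fin n → ZMod 2))
    (γ : (Fin n ⊕ Fin n → ZMod 2) → ZMod 2)
    (hadd : ∀ u v, g (u + v) = g u + g v) (hinj : Function.Injective g)
    (hγ : ∀ u v, γ (u + v) = γ u + γ v + bet (g u) (g v) + bet u v) :
    ∃ T : Matrix (Fin n → ZMod 2) (Fin n → ZMod 2) (ZMod 3),
      IsUnit T ∧ ∀ u, T * Bm u = (sg (γ u) • Bm (g u)) * T := by
  classical
  have hg0 : g 0 = 0 := by
    have := hadd 0 0
    rw [add_zero] at this
    exact left_eq_add.mp this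
  have hγ0 : γ 0 = 0 := by
    have := hγ 0 0
    rw [add_zero, hg0, bet_zero_left, add_zero, add_zero] at this
    exact left_eq_add.mp this
  set B' : (Fin n ⊕ Fin n → ZMod 2) → Matrix (Fin n → ZMod 2) (Fin n → ZMod 2) (ZMod 3) :=
    fun u => sg (γ u) • Bm (g u) with hB'
  have hmul : ∀ u v, B' u * B' v = sg (bet u v) • B' (u + v) := by
    intro u v
    simp only [hB']
    rw [smul_mul_smul_comm, Bm_mul, smul_smul, smul_smul, hadd, hγ]
    congr 1
    simp only [sg_add]
    have h1 := sg_mul_self (bet u v)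
    calc sg (γ u) * sg (γ v) * sg (bet (g u) (g v))
        = sg (γ u) * sg (γ v) * sg (bet (g u) (g v)) * (sg (bet u v) * sg (bet u v)) := by
          rw [h1, mul_one]
      _ = _ := by ring
  have hB'0 : B' 0 = 1 := by
    simp only [hB', hg0, hγ0, sg_zero, Bm_zero, one_smul]
  have hL : ∀ b b', B' (mkW 0 b) * B' (mkW 0 b') = B' (mkW 0 (b + b')) := by
    intro b b'
    rw [hmul, mkW_add, add_zero]
    simp [bet]
  set P := ∑ b, B' (mkW 0 b) with hP
  have hPfix : ∀ b, B' (mkW 0 b) * P = P := by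
    intro b
    rw [hP, Finset.mul_sum]
    simp_rw [hL]
    exact Equiv.sum_comp (Equiv.addLeft b) (fun x => B' (mkW 0 x))
  have htr : Matrix.trace P = (2 : ZMod 3) ^ n := by
    rw [hP, Matrix.trace_sum]
    simp only [hB', Matrix.trace_smul, trace_Bm, smul_eq_mul]
    rw [Finset.sum_eq_single 0]
    · rw [mkW_zero_zero, hg0, hγ0, sg_zero, if_pos rfl, one_mul]
    · intro b _ hb
      rw [if_neg, mul_zero]
      intro h
      rw [← hg0] at h
      have := hinj h
      exact hb ((mkW_eq_zero_iff _ _).1 this).2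
    · intro h; exact absurd (Finset.mem_univ _) h
  have hPne : P ≠ 0 := by
    intro h
    rw [h, Matrix.trace_zero] at htr
    exact two_pow_ne_zero3 n htr.symm
  obtain ⟨v0, x0, hx0⟩ : ∃ v0 x0, P v0 x0 ≠ 0 := by
    by_contra h
    apply hPne
    ext v x
    by_contra hvx
    exact h ⟨v, x, hvx⟩
  set w0 : (Fin n → ZMod 2) → ZMod 3 := fun v => P v x0 with hw0def
  have hw0 : w0 ≠ 0 := fun h => hx0 (congrFun h v0)
  have hfix : ∀ b, B' (mkW 0 b) *ᵥ w0 = w0 := by
    intro b
    ext v
    have := congrFun (congrFun (hPfix b) v) x0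
    rw [Matrix.mul_apply] at this
    exact this
  set T : Matrix (Fin n → ZMod 2) (Fin n → ZMod 2) (ZMod 3) :=
    Matrix.of fun v a => (B' (mkW a 0) *ᵥ w0) v with hT
  have hTapp : ∀ v a, T v a = (B' (mkW a 0) *ᵥ w0) v := fun _ _ => rfl
  have hint : ∀ u, T * Bm u = B' u * T := by
    intro u
    ext v w
    rw [mul_Bm_apply]
    have h1 : (B' u * T) v w = ((B' u * B' (mkW w 0)) *ᵥ w0) v := by
      rw [← Matrix.mulVec_mulVec]
      rfl
    have h2 : u + mkW w 0 = mkW (w + pa u) 0 + mkW 0 (pb u) := by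
      apply ext_pa_pb
      · simp [add_comm]
      · simp
    have h3 : B' (mkW (w + pa u) 0 + mkW 0 (pb u))
        = B' (mkW (w + pa u) 0) * B' (mkW 0 (pb u)) := by
      rw [hmul]
      simp [bet]
    rw [h1, hmul, h2, h3, Matrix.smul_mulVec, ← Matrix.mulVec_mulVec, hfix, hTapp]
    simp only [Pi.smul_apply, smul_eq_mul, bet, pa_mkW]
    ring
  have hker : ∀ x, T *ᵥ x = 0 → x = 0 := by
    intro x hx
    by_contra hne
    obtain ⟨v, hv⟩ : ∃ v, x v ≠ 0 := by
      by_contra h
      apply hne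
      funext v
      by_contra hv
      exact h ⟨v, hv⟩
    have h1 : ∀ b, T *ᵥ (Bm (mkW 0 b) *ᵥ x) = 0 := by
      intro b
      rw [Matrix.mulVec_mulVec, hint, ← Matrix.mulVec_mulVec, hx, Matrix.mulVec_zero]
    have h2 : ∑ b, sg (b ⬝ᵥ v) • (Bm (mkW 0 b) *ᵥ x)
        = ((2 : ZMod 3) ^ n * x v) • (Pi.single v 1 : (Fin n → ZMod 2) → ZMod 3) := by
      ext w
      simp only [Finset.sum_apply, Pi.smul_apply, Bm_mulVec_apply, pa_mkW, pb_mkW, add_zero,
        smul_eq_mul]
      have h3 : ∀ b : Fin n → ZMod 2,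
          sg (b ⬝ᵥ v) * (sg (b ⬝ᵥ w) * x w) = sg (b ⬝ᵥ (v + w)) * x w := by
        intro b
        rw [dotProduct_add, sg_add]
        ring
      simp_rw [h3]
      rw [← Finset.sum_mul, sum_sg_dot]
      by_cases hvw : v = w
      · subst hvw
        simp [vec_add_self]
      · have hne' : v + w ≠ 0 := by
          intro h
          apply hvw
          have := congrArg (fun t => t + w) h
          simp only [add_assoc, vec_add_self, add_zero, zero_add] at this
          exact this
        rw [if_neg hne', Pi.single_apply, if_neg (Ne.symm hvw)]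
        simp
    have h3 : T *ᵥ (Pi.single v 1 : (Fin n → ZMod 2) → ZMod 3) = 0 := by
      have h4 : T *ᵥ (∑ b, sg (b ⬝ᵥ v) • (Bm (mkW 0 b) *ᵥ x)) = 0 := by
        rw [Matrix.mulVec_sum]
        apply Finset.sum_eq_zero
        intro b _
        rw [Matrix.mulVec_smul, h1, smul_zero]
      rw [h2, Matrix.mulVec_smul] at h4
      exact (smul_eq_zero.mp h4).resolve_left (mul_ne_zero (two_pow_ne_zero3 n) hv)
    have h5 : B' (mkW v 0) *ᵥ w0 = 0 := by
      ext y
      have := congrFun h3 y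
      rw [Matrix.mulVec, dotProduct, Finset.sum_eq_single v] at this
      · rw [Pi.single_eq_same, mul_one, hTapp] at this
        exact this
      · intro a _ ha
        rw [Pi.single_eq_of_ne ha, mul_zero]
      · intro h; exact absurd (Finset.mem_univ _) h
    have h6 : B' (mkW v 0) * B' (mkW v 0) = 1 := by
      rw [hmul, vec_add_self, hB'0]
      simp [bet]
    apply hw0
    rw [← Matrix.one_mulVec w0, ← h6, ← Matrix.mulVec_mulVec, h5, Matrix.mulVec_zero]
  refine ⟨T, ?_, hint⟩
  rw [← Matrix.mulVec_injective_iff_isUnit]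
  intro x y hxy
  have := hker (x - y) (by rw [Matrix.mulVec_sub, hxy, sub_self])
  exact sub_eq_zero.mp this

end Cfsg.Agent.Lib.Helper11.ExtQ
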