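import Cfsg.Agent.Lib.Helper11.ExtQD

/-!
# The group `2^{1+2n}_+ . K` inside `GL(2^n, 𝔽₃)` (helper11)
-/

set_option autoImplicit false

namespace Cfsg.Agent.Lib.Helper11.ExtQ

open Matrix

/-- a faithful action of `K` on `𝔽₂^{2n}` by isometries of the standard plus-type form -/
structure Act (n : ℕ) (K : Type*) [Group K] where
  act : K → (Fin n ⊕ Fin n → ZMod 2) → (Fin n ⊕ Fin n → ZMod 2)
  one' : ∀ u, act 1 u = u
  mul' : ∀ k k' u, act (k * k') u = act k (act k' u)
  add' : ∀ k u v, act k (u + v) = act k u + act k v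
  q' : ∀ k u, q0 (act k u) = q0 u
  faithful' : ∀ k k', (∀ u, act k u = act k' u) → k = k'

/-- the matrix ring -/
abbrev Mat (n : ℕ) := Matrix (Fin n → ZMod 2) (Fin n → ZMod 2) (ZMod 3)

variable {n : ℕ} {K : Type*} [Group K]

theorem sg_smul_sg_smul (s t : ZMod 2) (M : Mat n) : sg s • sg t • M = sg (s + t) • M := by
  rw [smul_smul, sg_add]

theorem sg_smul_self (t : ZMod 2) (M : Mat n) : sg t • sg t • M = M := by
  rw [smul_smul, sg_mul_self, one_smul]

theorem isUnit_Bm (u : Fin n ⊕ Fin n → ZMod 2) : IsUnit (Bm u) := (BU u).isUnit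

/-- cancel a sign against a unit -/
theorem sg_eq_of_smul_eq {s t : ZMod 2} {M : Mat n} (hM : IsUnit M) (h : sg s • M = sg t • M) :
    s = t := by
  obtain ⟨M', hM'⟩ := hM.exists_right_inv
  have h1 := congrArg (fun X => X * M') h
  simp only [Matrix.smul_mul, hM'] at h1
  have h2 := congrFun (congrFun h1 0) 0
  simp only [Matrix.smul_apply, Matrix.one_apply_eq, smul_eq_mul, mul_one] at h2
  exact sg_injective h2

/-- `T` induces `k` -/
def Rel (A : Act n K) (T : Mat n) (k : K) : Prop :=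
  ∀ u, ∃ t : ZMod 2, T * Bm u = sg t • (Bm (A.act k u) * T)

theorem rel_one (A : Act n K) : Rel A 1 1 := by
  intro u
  exact ⟨0, by rw [A.one', sg_zero, one_smul, one_mul, mul_one]⟩

theorem rel_mul (A : Act n K) {T T' : Mat n} {k k' : K} (h : Rel A T k) (h' : Rel A T' k') :
    Rel A (T * T') (k * k') := by
  intro u
  obtain ⟨t', ht'⟩ := h' u
  obtain ⟨t, ht⟩ := h (A.act k' u)
  refine ⟨t' + t, ?_⟩
  rw [mul_assoc, ht', Matrix.mul_smul, ← mul_assoc, ht, Matrix.smul_mul, sg_smul_sg_smul,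
    A.mul', mul_assoc]

theorem act_inv_act (A : Act n K) (k : K) (u : Fin n ⊕ Fin n → ZMod 2) :
    A.act k (A.act k⁻¹ u) = u := by
  rw [← A.mul', mul_inv_cancel, A.one']

theorem act_act_inv (A : Act n K) (k : K) (u : Fin n ⊕ Fin n → ZMod 2) :
    A.act k⁻¹ (A.act k u) = u := by
  rw [← A.mul', inv_mul_cancel, A.one']

theorem act_injective (A : Act n K) (k : K) : Function.Injective (A.act k) := by
  intro u v h
  rw [← act_act_inv A k u, h, act_act_inv]

theorem rel_inv (A : Act n K) {T : (Mat n)ˣ} {k : K} (h : Rel A (T : Mat n) k) :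
    Rel A ((T⁻¹ : (Mat n)ˣ) : Mat n) k⁻¹ := by
  intro u
  obtain ⟨t, ht⟩ := h (A.act k⁻¹ u)
  rw [act_inv_act] at ht
  refine ⟨t, ?_⟩
  have h1 : ((T⁻¹ : (Mat n)ˣ) : Mat n) * ((T : Mat n) * Bm (A.act k⁻¹ u)) * ((T⁻¹ : (Mat n)ˣ) : Mat n)
      = ((T⁻¹ : (Mat n)ˣ) : Mat n) * (sg t • (Bm u * (T : Mat n))) * ((T⁻¹ : (Mat n)ˣ) : Mat n) := by
    rw [ht]
  rw [← mul_assoc, Units.inv_mul, one_mul, Matrix.mul_smul, Matrix.smul_mul, mul_assoc, mul_assoc,
    Units.mul_inv, mul_one] at h1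
  rw [h1, sg_smul_self]

theorem rel_unique (A : Act n K) {T : Mat n} (hT : IsUnit T) {k k' : K} (h : Rel A T k)
    (h' : Rel A T k') : k = k' := by
  apply A.faithful'
  intro u
  obtain ⟨t, ht⟩ := h u
  obtain ⟨t', ht'⟩ := h' u
  obtain ⟨T', hT'⟩ := hT.exists_right_inv
  have h1 : sg t • (Bm (A.act k u) * T) * T' = sg t' • (Bm (A.act k' u) * T) * T' := by
    rw [← ht, ← ht']
  simp only [Matrix.smul_mul, mul_assoc, hT', mul_one] at h1
  apply Bm_inj
  have h2 : Bm (A.act k u) = sg (t + t') • Bm (A.act k' u) := by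
    rw [← sg_smul_sg_smul, ← h1, sg_smul_self]
  rcases sg_cases (t + t') with h3 | h3
  · left; rw [h2, h3, one_smul]
  · right; rw [h2, h3, neg_smul, one_smul]

/-- the group `R` -/
def Rsub (A : Act n K) : Subgroup (Mat n)ˣ where
  carrier := {T | ∃ k, Rel A (T : Mat n) k}
  one_mem' := ⟨1, rel_one A⟩
  mul_mem' := by
    rintro T T' ⟨k, hk⟩ ⟨k', hk'⟩
    exact ⟨k * k', by rw [Units.val_mul]; exact rel_mul A hk hk'⟩
  inv_mem' := by
    rintro T ⟨k, hk⟩
    exact ⟨k⁻¹, rel_inv A hk⟩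

theorem mem_Rsub (A : Act n K) (T : (Mat n)ˣ) : T ∈ Rsub A ↔ ∃ k, Rel A (T : Mat n) k := Iff.rfl

/-- the projection `R → K` as a function -/
noncomputable def piFun (A : Act n K) (T : Rsub A) : K := Classical.choose T.2

theorem piFun_spec (A : Act n K) (T : Rsub A) : Rel A ((T : (Mat n)ˣ) : Mat n) (piFun A T) :=
  Classical.choose_spec T.2

theorem piFun_eq (A : Act n K) (T : Rsub A) (k : K) (h : Rel A ((T : (Mat n)ˣ) : Mat n) k) :
    piFun A T = k :=
  rel_unique A (T : (Mat n)ˣ).isUnit (piFun_spec A T) h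

/-- the projection `R → K` -/
noncomputable def proj (A : Act n K) : Rsub A →* K where
  toFun := piFun A
  map_one' := piFun_eq A 1 1 (rel_one A)
  map_mul' := fun T T' => piFun_eq A (T * T') _ (by
    have := rel_mul A (piFun_spec A T) (piFun_spec A T')
    simpa using this)

theorem proj_spec (A : Act n K) (T : Rsub A) : Rel A ((T : (Mat n)ˣ) : Mat n) (proj A T) :=
  piFun_spec A T

theorem proj_eq (A : Act n K) (T : Rsub A) (k : K) (h : Rel A ((T : (Mat n)ˣ) : Mat n) k) :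
    proj A T = k := piFun_eq A T k h

theorem proj_surjective (A : Act n K) : Function.Surjective (proj A) := by
  intro k
  obtain ⟨γ, hγ⟩ := exists_gamma (A.act k) (A.add' k) (A.q' k)
  obtain ⟨T, hT, hint⟩ := exists_intertwiner (A.act k) γ (A.add' k) (act_injective A k) hγ
  have hrel : Rel A T k := by
    intro u
    exact ⟨γ u, by rw [hint, Matrix.smul_mul]⟩
  refine ⟨⟨hT.unit, ⟨k, by simpa using hrel⟩⟩, ?_⟩
  exact proj_eq A _ k (by simpa using hrel)

end Cfsg.Agent.Lib.Helper11.ExtQ
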