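import Cfsg.Agent.Lib.Helper11.ExtQE

/-!
# The kernel of `R → K` is `{± Bm w}` (helper11)
-/

set_option autoImplicit false

namespace Cfsg.Agent.Lib.Helper11.ExtQ

open Matrix

variable {n : ℕ} {K : Type*} [Group K]

theorem Bm_comm' (w u : Fin n ⊕ Fin n → ZMod 2) (T : Mat n) :
    Bm w * (Bm u * T) = sg (pol w u) • (Bm u * (Bm w * T)) := by
  rw [← mul_assoc, Bm_comm, Matrix.smul_mul, mul_assoc]

/-- the polar form is non-degenerate, explicitly -/
theorem exists_pol_eq (lam : (Fin n ⊕ Fin n → ZMod 2) → ZMod 2)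
    (hlam : ∀ u v, lam (u + v) = lam u + lam v) :
    ∃ w, ∀ u, pol w u = lam u := by
  classical
  refine ⟨mkW (fun i => lam (Pi.single (Sum.inr i) 1)) (fun i => lam (Pi.single (Sum.inl i) 1)),
    fun u => ?_⟩
  rw [additive_expand lam hlam u, Fintype.sum_sum_type]
  show (fun i => lam (Pi.single (Sum.inl i) 1)) ⬝ᵥ pa u
      + pb u ⬝ᵥ (fun i => lam (Pi.single (Sum.inr i) 1)) = _
  simp only [dotProduct, pa, pb]
  congr 1
  apply Finset.sum_congr rfl; intro i _; ring

theorem exists_pol_eq_one {w : Fin n ⊕ Fin n → ZMod 2} (hw : w ≠ 0) : ∃ u, pol w u = 1 := by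
  classical
  by_cases ha : pa w = 0
  · have hb : pb w ≠ 0 := fun hb => hw ((eq_zero_iff_pa_pb w).2 ⟨ha, hb⟩)
    obtain ⟨i, hi⟩ : ∃ i, pb w i ≠ 0 := by
      by_contra h
      exact hb (funext fun i => by_contra fun hi => h ⟨i, hi⟩)
    refine ⟨mkW (Pi.single i 1) 0, ?_⟩
    simp only [pol, bet, pa_mkW, pb_mkW, dotProduct_single, mul_one, zero_dotProduct, add_zero]
    rcases zmod2_cases (pb w i) with h | h
    · exact absurd h hi
    · exact h
  · obtain ⟨i, hi⟩ : ∃ i, pa w i ≠ 0 := by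
      by_contra h
      exact ha (funext fun i => by_contra fun hi => h ⟨i, hi⟩)
    refine ⟨mkW 0 (Pi.single i 1), ?_⟩
    simp only [pol, bet, pa_mkW, pb_mkW, single_dotProduct, one_mul, dotProduct_zero, zero_add]
    rcases zmod2_cases (pa w i) with h | h
    · exact absurd h hi
    · exact h

/-- an invertible matrix normalising every `Bm u` up to sign is `± Bm w` -/
theorem ker_char (T : Mat n) (hT : IsUnit T)
    (h : ∀ u, ∃ t : ZMod 2, T * Bm u = sg t • (Bm u * T)) :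
    ∃ w t, T = sg t • Bm w := by
  classical
  choose lam hlam using h
  have hadd : ∀ u v, lam (u + v) = lam u + lam v := by
    intro u v
    have h1 : T * (Bm u * Bm v) = sg (lam u + lam v) • (Bm u * Bm v * T) := by
      rw [← mul_assoc, hlam u, Matrix.smul_mul, mul_assoc, hlam v, Matrix.mul_smul,
        sg_smul_sg_smul, mul_assoc]
    have h2 : T * (Bm u * Bm v) = sg (lam (u + v)) • (Bm u * Bm v * T) := by
      rw [Bm_mul, Matrix.mul_smul, hlam (u + v), Matrix.smul_mul, smul_comm]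
    have h3 : IsUnit (Bm u * Bm v * T) := ((isUnit_Bm u).mul (isUnit_Bm v)).mul hT
    exact (sg_eq_of_smul_eq h3 (h1.symm.trans h2)).symm
  obtain ⟨w, hw⟩ := exists_pol_eq lam hadd
  have hcomm : ∀ u, (Bm w * T) * Bm u = Bm u * (Bm w * T) := by
    intro u
    rw [mul_assoc, hlam u, Matrix.mul_smul, Bm_comm', sg_smul_sg_smul, hw, zmod2_add_self, sg_zero,
      one_smul]
  have hsc := scalar_of_commute (Bm w * T) hcomm
  set c := (Bm w * T) 0 0 with hc
  have hT' : T = (sg (q0 w) * c) • Bm w := by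
    have h1 : Bm w * (Bm w * T) = Bm w * (c • (1 : Mat n)) := by rw [← hsc]
    rw [← mul_assoc, Bm_mul_self, Matrix.smul_mul, one_mul, Matrix.mul_smul, mul_one] at h1
    have h2 := congrArg (fun X => sg (q0 w) • X) h1
    simp only [sg_smul_self] at h2
    rw [h2, smul_smul]
  have hc0 : c ≠ 0 := by
    intro h0
    rw [h0, mul_zero, zero_smul] at hT'
    rw [hT'] at hT
    exact not_isUnit_zero hT
  rcases zmod3_cases c with h0 | h1 | h1
  · exact absurd h0 hc0
  · exact ⟨w, q0 w, by rw [hT', h1, mul_one]⟩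
  · refine ⟨w, q0 w + 1, ?_⟩
    rw [hT', h1, sg_add, sg_one]

/-- `± Bm w` as a unit -/
def el (t : ZMod 2) (w : Fin n ⊕ Fin n → ZMod 2) : (Mat n)ˣ where
  val := sg t • Bm w
  inv := sg t • (sg (q0 w) • Bm w)
  val_inv := by
    rw [smul_mul_smul_comm, sg_mul_self, one_smul, Matrix.mul_smul, Bm_mul_self, sg_smul_self]
  inv_val := by
    rw [smul_mul_smul_comm, sg_mul_self, one_smul, Matrix.smul_mul, Bm_mul_self, sg_smul_self]

@[simp] theorem el_val (t : ZMod 2) (w : Fin n ⊕ Fin n → ZMod 2) :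
    ((el t w : (Mat n)ˣ) : Mat n) = sg t • Bm w := rfl

theorem el_mul (t t' : ZMod 2) (w w' : Fin n ⊕ Fin n → ZMod 2) :
    el t w * el t' w' = el (t + t' + bet w w') (w + w') := by
  apply Units.ext
  rw [Units.val_mul, el_val, el_val, el_val, smul_mul_smul_comm, Bm_mul, smul_smul, sg_add, sg_add]

theorem el_zero_zero : el 0 (0 : Fin n ⊕ Fin n → ZMod 2) = 1 := by
  apply Units.ext
  rw [el_val, sg_zero, one_smul, Bm_zero]; rfl

theorem el_inj {t t' : ZMod 2} {w w' : Fin n ⊕ Fin n → ZMod 2} (h : el t w = el t' w') :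
    t = t' ∧ w = w' := by
  have h1 : sg t • Bm w = sg t' • Bm w' := congrArg Units.val h
  have h2 : Bm w = sg (t + t') • Bm w' := by
    rw [← sg_smul_sg_smul, ← h1, sg_smul_self]
  have hw : w = w' := by
    apply Bm_inj
    rcases sg_cases (t + t') with h3 | h3
    · left; rw [h2, h3, one_smul]
    · right; rw [h2, h3, neg_smul, one_smul]
  subst hw
  exact ⟨sg_eq_of_smul_eq (isUnit_Bm w) h1, rfl⟩

theorem rel_el (A : Act n K) (t : ZMod 2) (w : Fin n ⊕ Fin n → ZMod 2) :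
    Rel A ((el t w : (Mat n)ˣ) : Mat n) 1 := by
  intro u
  refine ⟨pol w u, ?_⟩
  rw [A.one', el_val, Matrix.smul_mul, Bm_comm, Matrix.mul_smul, smul_comm]

theorem el_mem (A : Act n K) (t : ZMod 2) (w : Fin n ⊕ Fin n → ZMod 2) : el t w ∈ Rsub A :=
  ⟨1, rel_el A t w⟩

theorem mem_ker_iff (A : Act n K) (T : Rsub A) :
    T ∈ (proj A).ker ↔ ∃ t w, (T : (Mat n)ˣ) = el t w := by
  constructor
  · intro hT
    rw [MonoidHom.mem_ker] at hT
    have h1 := proj_spec A T
    rw [hT] at h1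
    obtain ⟨w, t, hwt⟩ := ker_char ((T : (Mat n)ˣ) : Mat n) (T : (Mat n)ˣ).isUnit (by
      intro u
      obtain ⟨t, ht⟩ := h1 u
      rw [A.one'] at ht
      exact ⟨t, ht⟩)
    exact ⟨t, w, Units.ext hwt⟩
  · rintro ⟨t, w, h⟩
    rw [MonoidHom.mem_ker]
    apply proj_eq
    rw [h]
    exact rel_el A t w

end Cfsg.Agent.Lib.Helper11.ExtQ
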