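import Cfsg.Agent.Lib.Helper11.ExtQF
import Cfsg.Agent.Lib.Helper20.ESCriterion

/-!
# The extension `2^{1+2n}_+ . K`: the extraspecial normal subgroup (helper11)
-/

set_option autoImplicit false

namespace Cfsg.Agent.Lib.Helper11.ExtQ

open Matrix
open scoped commutatorElement

variable {n : ℕ} {K : Type*} [Group K] (A : Act n K)

/-- the extraspecial normal subgroup -/
noncomputable abbrev Qsub : Subgroup (Rsub A) := (proj A).ker

theorem exists_el (a : Qsub A) : ∃ t w, ((a : Rsub A) : (Mat n)ˣ) = el t w :=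
  (mem_ker_iff A a.1).1 a.2

/-- sign coordinate -/
noncomputable def tOf (a : Qsub A) : ZMod 2 := Classical.choose (exists_el A a)
/-- vector coordinate -/
noncomputable def wOf (a : Qsub A) : Fin n ⊕ Fin n → ZMod 2 :=
  Classical.choose (Classical.choose_spec (exists_el A a))

theorem coe_eq (a : Qsub A) : ((a : Rsub A) : (Mat n)ˣ) = el (tOf A a) (wOf A a) :=
  Classical.choose_spec (Classical.choose_spec (exists_el A a))

theorem wOf_eq (a : Qsub A) (t : ZMod 2) (w : Fin n ⊕ Fin n → ZMod 2)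
    (h : ((a : Rsub A) : (Mat n)ˣ) = el t w) : wOf A a = w :=
  (el_inj ((coe_eq A a).symm.trans h)).2

theorem tOf_eq (a : Qsub A) (t : ZMod 2) (w : Fin n ⊕ Fin n → ZMod 2)
    (h : ((a : Rsub A) : (Mat n)ˣ) = el t w) : tOf A a = t :=
  (el_inj ((coe_eq A a).symm.trans h)).1

/-- elements of `Q` -/
noncomputable def qel (t : ZMod 2) (w : Fin n ⊕ Fin n → ZMod 2) : Qsub A :=
  ⟨⟨el t w, el_mem A t w⟩, (mem_ker_iff A _).2 ⟨t, w, rfl⟩⟩

@[simp] theorem wOf_qel (t : ZMod 2) (w : Fin n ⊕ Fin n → ZMod 2) : wOf A (qel A t w) = w :=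
  wOf_eq A _ t w rfl

@[simp] theorem tOf_qel (t : ZMod 2) (w : Fin n ⊕ Fin n → ZMod 2) : tOf A (qel A t w) = t :=
  tOf_eq A _ t w rfl

theorem qel_tOf_wOf (a : Qsub A) : qel A (tOf A a) (wOf A a) = a :=
  Subtype.ext (Subtype.ext (coe_eq A a).symm)

theorem qel_mul (t t' : ZMod 2) (w w' : Fin n ⊕ Fin n → ZMod 2) :
    qel A t w * qel A t' w' = qel A (t + t' + bet w w') (w + w') :=
  Subtype.ext (Subtype.ext (el_mul t t' w w'))

theorem qel_zero : qel A 0 0 = 1 :=
  Subtype.ext (Subtype.ext el_zero_zero)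

theorem qel_inj {t t' : ZMod 2} {w w' : Fin n ⊕ Fin n → ZMod 2} (h : qel A t w = qel A t' w') :
    t = t' ∧ w = w' :=
  el_inj (congrArg (fun a : Qsub A => ((a : Rsub A) : (Mat n)ˣ)) h)

/-- the map `Q → 𝔽₂^{2n}` -/
noncomputable def chi : Qsub A →* Multiplicative (Fin n ⊕ Fin n → ZMod 2) where
  toFun a := Multiplicative.ofAdd (wOf A a)
  map_one' := by
    rw [← qel_zero A, wOf_qel]; rfl
  map_mul' a b := by
    rw [← ofAdd_add]
    congr 1
    conv_lhs => rw [← qel_tOf_wOf A a, ← qel_tOf_wOf A b, qel_mul, wOf_qel]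

theorem chi_apply (a : Qsub A) : chi A a = Multiplicative.ofAdd (wOf A a) := rfl

theorem chi_surjective : Function.Surjective (chi A) := by
  intro x
  exact ⟨qel A 0 (Multiplicative.toAdd x), by rw [chi_apply, wOf_qel]; rfl⟩

theorem chi_eq_one_iff (a : Qsub A) : chi A a = 1 ↔ wOf A a = 0 := by
  rw [chi_apply]
  exact Iff.rfl

theorem chi_ker : (chi A).ker = Subgroup.center (Qsub A) := by
  ext a
  rw [MonoidHom.mem_ker, chi_eq_one_iff, Subgroup.mem_center_iff]
  constructor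
  · intro ha b
    rw [← qel_tOf_wOf A a, ← qel_tOf_wOf A b, ha, qel_mul, qel_mul]
    simp only [bet_zero_left, bet_zero_right, add_zero, zero_add]
    rw [add_comm (tOf A b)]
  · intro ha
    by_contra hw
    obtain ⟨u, hu⟩ := exists_pol_eq_one hw
    have h1 := ha (qel A 0 u)
    rw [← qel_tOf_wOf A a, qel_mul, qel_mul] at h1
    have h2 := (qel_inj A h1).1
    have h3 : bet u (wOf A a) = bet (wOf A a) u := by
      have h4 : ∀ x y z : ZMod 2, 0 + x + y = x + 0 + z → y = z := by decide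
      exact h4 _ _ _ h2
    rw [pol, h3, zmod2_add_self] at hu
    exact zero_ne_one hu

theorem conj_coe (r : Rsub A) (a : Qsub A) :
    ∃ s : ZMod 2, (r : (Mat n)ˣ) * ((a : Rsub A) : (Mat n)ˣ) * (r : (Mat n)ˣ)⁻¹
      = el s (A.act (proj A r) (wOf A a)) := by
  obtain ⟨s, hs⟩ := proj_spec A r (wOf A a)
  refine ⟨tOf A a + s, ?_⟩
  apply Units.ext
  rw [coe_eq A a, Units.val_mul, Units.val_mul, el_val, el_val, Matrix.mul_smul, hs,
    Matrix.smul_mul, Matrix.smul_mul, mul_assoc, Units.mul_inv, mul_one, sg_smul_sg_smul]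

theorem chi_conj (r : Rsub A) (a : Qsub A) (h : r * (a : Rsub A) * r⁻¹ ∈ Qsub A) :
    chi A ⟨r * (a : Rsub A) * r⁻¹, h⟩
      = Multiplicative.ofAdd (A.act (proj A r) (Multiplicative.toAdd (chi A a))) := by
  obtain ⟨s, hs⟩ := conj_coe A r a
  rw [chi_apply, chi_apply]
  congr 1
  exact wOf_eq A _ s _ hs

theorem sq_eq_one_iff (a : Qsub A) : a * a = 1 ↔ q0 (Multiplicative.toAdd (chi A a)) = 0 := by
  rw [chi_apply]
  show a * a = 1 ↔ q0 (wOf A a) = 0
  conv_lhs => rw [← qel_tOf_wOf A a, qel_mul, ← qel_zero A]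
  constructor
  · intro h
    have h1 := (qel_inj A h).1
    rw [zmod2_add_self, zero_add] at h1
    exact h1
  · intro h
    rw [vec_add_self, zmod2_add_self, zero_add]
    show qel A (q0 (wOf A a)) 0 = qel A 0 0
    rw [h]

theorem card_Qsub : Nat.card (Qsub A) = 2 ^ (2 * n + 1) := by
  have e : ZMod 2 × (Fin n ⊕ Fin n → ZMod 2) ≃ Qsub A :=
    { toFun := fun p => qel A p.1 p.2
      invFun := fun a => (tOf A a, wOf A a)
      left_inv := fun p => by simp
      right_inv := fun a => qel_tOf_wOf A a }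
  rw [← Nat.card_congr e, Nat.card_prod, Nat.card_eq_fintype_card, Nat.card_eq_fintype_card,
    ZMod.card, Fintype.card_fun, ZMod.card, Fintype.card_sum, Fintype.card_fin]
  ring

theorem esData (hn : 1 ≤ n) : Cfsg.Agent.Lib.Helper20.ES.ESData 2 (Qsub A) (qel A 1 0) := by
  have hcenter : ∀ w ∈ Subgroup.center (Qsub A), w ∈ Subgroup.zpowers (qel A 1 0) := by
    intro w hw
    rw [← chi_ker, MonoidHom.mem_ker, chi_eq_one_iff] at hw
    rw [← qel_tOf_wOf A w, hw]
    rcases zmod2_cases (tOf A w) with h | h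
    · rw [h, qel_zero]; exact one_mem _
    · rw [h]; exact Subgroup.mem_zpowers _
  refine ⟨?_, ?_, ?_, hcenter, ?_, ?_⟩
  · intro h
    rw [← qel_zero A] at h
    exact one_ne_zero (qel_inj A h).1
  · rw [pow_two, qel_mul, ← qel_zero A]
    congr 1
    simp only [bet_zero_left, add_zero]; exact zmod2_add_self 1
  · rw [← chi_ker, MonoidHom.mem_ker, chi_eq_one_iff, wOf_qel]
  · intro x y
    apply hcenter
    rw [← chi_ker, MonoidHom.mem_ker, map_commutatorElement]
    exact commutatorElement_eq_one_iff_mul_comm.mpr (mul_comm _ _)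
  · intro x
    apply hcenter
    rw [← chi_ker, MonoidHom.mem_ker, map_pow, chi_apply, ← ofAdd_nsmul, two_nsmul, vec_add_self]
    rfl

theorem isExtraspecial_Qsub (hn : 1 ≤ n) : Cfsg.IsExtraspecial 2 (Qsub A) := by
  classical
  have : Fact (Nat.Prime 2) := ⟨Nat.prime_two⟩
  apply Cfsg.Agent.Lib.Helper20.ES.ESData.isExtraspecial (esData A hn)
  let i : Fin n := ⟨0, hn⟩
  refine ⟨qel A 0 (mkW (Pi.single i 1) 0), qel A 0 (mkW 0 (Pi.single i 1)), ?_⟩
  intro h
  rw [commutatorElement_eq_one_iff_mul_comm, qel_mul, qel_mul] at h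
  have h1 := (qel_inj A h).1
  simp only [bet, pa_mkW, pb_mkW, zero_dotProduct, single_dotProduct, one_mul, Pi.single_eq_same,
    add_zero] at h1
  exact zero_ne_one h1

end Cfsg.Agent.Lib.Helper11.ExtQ
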