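import Cfsg.Agent.Lib.Helper11.ExtQG
import Cfsg.Agent.Lib.Helper15.UnitaryQuad

/-!
# Existence of `2^{1+2n}_+ . K` for `K ≤ O⁺_{2n}(2)` (helper11)
-/

set_option autoImplicit false

namespace Cfsg.Agent.Lib.Helper11.ExtQ

open Matrix

variable {n : ℕ} {K : Type*} [Group K]

theorem main_abstract (A : Act n K) (hn : 1 ≤ n) :
    ∃ (R : Type) (_ : Group R) (_ : Finite R) (Q : Subgroup R) (hN : Q.Normal) (e : R ⧸ Q ≃* K)
      (χ : ↥Q →* Multiplicative (Fin n ⊕ Fin n → ZMod 2)),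
      Cfsg.IsExtraspecial 2 ↥Q ∧ Nat.card ↥Q = 2 ^ (2 * n + 1) ∧ Function.Surjective χ ∧
      χ.ker = Subgroup.center ↥Q ∧
      (∀ (r : R) (a : ↥Q), χ ⟨r * a * r⁻¹, hN.conj_mem (a : R) a.2 r⟩ =
        Multiplicative.ofAdd (A.act (e (r : R ⧸ Q)) (Multiplicative.toAdd (χ a)))) ∧
      ∀ a : ↥Q, a * a = 1 ↔ q0 (Multiplicative.toAdd (χ a)) = 0 := by
  refine ⟨↥(Rsub A), inferInstance, inferInstance, (proj A).ker, MonoidHom.normal_ker _,
    QuotientGroup.quotientKerEquivOfSurjective (proj A) (proj_surjective A), chi A,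
    isExtraspecial_Qsub A hn, card_Qsub A, chi_surjective A, chi_ker A, ?_, sq_eq_one_iff A⟩
  intro r a
  exact chi_conj A r a _

theorem q0_eq_quadFormPlus (u : Fin n ⊕ Fin n → ZMod 2) :
    q0 u = Cfsg.quadFormPlus n (ZMod 2) u := by
  simp only [q0, bet, dotProduct, pa, pb, Cfsg.quadFormPlus]
  apply Finset.sum_congr rfl
  intro i _
  ring

theorem main {K : Type*} [Group K] {U : Type*} [AddCommGroup U] [Module (ZMod 2) U]
    [Module.Finite (ZMod 2) U] (n : ℕ) (hn1 : 1 ≤ n) (hn : Module.finrank (ZMod 2) U = 2 * n)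
    (ρ : Representation (ZMod 2) K U) (hρ : Function.Injective ρ) (q : QuadraticForm (ZMod 2) U)
    (hq : ∀ (k : K) (u : U), q (ρ k u) = q u) (hnd : (QuadraticMap.polarBilin q).Nondegenerate)
    (hplus : ∃ W : Submodule (ZMod 2) U, Module.finrank (ZMod 2) ↥W = n ∧ ∀ w ∈ W, q w = 0) :
    ∃ (R : Type) (_ : Group R) (_ : Finite R) (Q : Subgroup R) (hN : Q.Normal) (e : R ⧸ Q ≃* K)
      (χ : ↥Q →* Multiplicative U), Cfsg.IsExtraspecial 2 ↥Q ∧ Nat.card ↥Q = 2 ^ (2 * n + 1) ∧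
      Function.Surjective χ ∧ χ.ker = Subgroup.center ↥Q ∧
      (∀ (r : R) (a : ↥Q), χ ⟨r * a * r⁻¹, hN.conj_mem (a : R) a.2 r⟩ =
        Multiplicative.ofAdd (ρ (e (r : R ⧸ Q)) (Multiplicative.toAdd (χ a)))) ∧
      ∀ a : ↥Q, a * a = 1 ↔ q (Multiplicative.toAdd (χ a)) = 0 := by
  classical
  obtain ⟨W0, hW0, hW0q⟩ := hplus
  obtain ⟨e', f', H⟩ := Cfsg.Agent.Lib.Helper15.hypFam_of_ts q n ⊤ W0
    (Cfsg.Agent.Lib.Helper15.ndOn_top q hnd) (by rw [finrank_top, hn]) le_top hW0q (le_of_eq hW0.symm)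
  obtain ⟨b, hb⟩ := Cfsg.Agent.Lib.Helper15.plus_coords q e' f' H hn
  set θ : U ≃ₗ[ZMod 2] (Fin n ⊕ Fin n → ZMod 2) := b.equivFun with hθ
  have hθq : ∀ v, q0 (θ v) = q v := fun v => by rw [q0_eq_quadFormPlus]; exact hb v
  let A : Act n K :=
    { act := fun k u => θ (ρ k (θ.symm u))
      one' := fun u => by simp
      mul' := fun k k' u => by simp
      add' := fun k u v => by simp
      q' := fun k u => by rw [hθq, hq, ← hθq, LinearEquiv.apply_symm_apply]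
      faithful' := fun k k' h => by
        apply hρ
        ext x
        have := h (θ x)
        simpa using this }
  obtain ⟨R, iG, iF, Q, hN, e, χ0, hES, hcard, hsurj, hker, hconj, hsq⟩ := main_abstract A hn1
  let ψ : Multiplicative (Fin n ⊕ Fin n → ZMod 2) ≃* Multiplicative U :=
    AddEquiv.toMultiplicative θ.symm.toAddEquiv
  have hψ : ∀ x, ψ x = Multiplicative.ofAdd (θ.symm (Multiplicative.toAdd x)) := fun _ => rfl
  refine ⟨R, iG, iF, Q, hN, e, ψ.toMonoidHom.comp χ0, hES, hcard, ?_, ?_, ?_, ?_⟩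
  · exact ψ.surjective.comp hsurj
  · rw [← hker]
    ext a
    simp only [MonoidHom.mem_ker, MonoidHom.comp_apply, MulEquiv.coe_toMonoidHom,
      EmbeddingLike.map_eq_one_iff]
  · intro r a
    simp only [MonoidHom.comp_apply, MulEquiv.coe_toMonoidHom]
    rw [hconj r a, hψ, hψ]
    simp [A]
  · intro a
    rw [hsq a]
    simp only [MonoidHom.comp_apply, MulEquiv.coe_toMonoidHom, hψ, toAdd_ofAdd]
    rw [← hθq, LinearEquiv.apply_symm_apply]

end Cfsg.Agent.Lib.Helper11.ExtQ
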