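import Mathlib

/-!
Groups with centre of order 2 containing all commutators (e.g. extraspecial 2-groups):
the centralizer of a subgroup of index 2 is not central (helper11 library).
-/

set_option autoImplicit false

namespace Cfsg.Agent.Lib.Helper11

/-- A `±1`-valued multiplicative function on a finite group taking the value `-1` sums to zero. -/
theorem sum_eq_zero_of_mul_of_neg_one {K : Type*} [Group K] [Fintype K] (f : K → ℤ)
    (hmul : ∀ a b, f (a * b) = f a * f b) (a₀ : K) (ha₀ : f a₀ = -1) : ∑ k : K, f k = 0 := by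
  have h1 : ∑ k : K, f (a₀ * k) = ∑ k : K, f k := Equiv.sum_comp (Equiv.mulLeft a₀) f
  have h2 : ∑ k : K, f (a₀ * k) = - ∑ k : K, f k := by
    rw [← Finset.sum_neg_distrib]
    apply Finset.sum_congr rfl
    intro k _
    rw [hmul, ha₀]; ring
  omega

/-- The commutation sign. -/
noncomputable def commSign {Q : Type*} [Group Q] (a b : Q) : ℤ := by
  classical exact if a * b = b * a then 1 else -1

theorem commSign_eq_one {Q : Type*} [Group Q] {a b : Q} (h : a * b = b * a) : commSign a b = 1 := by
  classical
  unfold commSign; rw [if_pos h]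

theorem commSign_eq_neg_one {Q : Type*} [Group Q] {a b : Q} (h : ¬ a * b = b * a) : commSign a b = -1 := by
  classical
  unfold commSign; rw [if_neg h]

theorem commSign_symm {Q : Type*} [Group Q] (a b : Q) : commSign a b = commSign b a := by
  by_cases h : a * b = b * a
  · rw [commSign_eq_one h, commSign_eq_one h.symm]
  · rw [commSign_eq_neg_one h, commSign_eq_neg_one (fun h' => h h'.symm)]

/-- In a group whose centre has order 2 and contains all commutators, the commutation sign is
multiplicative in the first variable. -/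
theorem commSign_mul {Q : Type*} [Group Q] (hZ : Nat.card (Subgroup.center Q) = 2)
    (hcomm : ∀ a b : Q, a * b * a⁻¹ * b⁻¹ ∈ Subgroup.center Q) (a b g : Q) :
    commSign (a * b) g = commSign a g * commSign b g := by
  -- the centre is {1, z}
  have hsq : ∀ c d : Q, c ∈ Subgroup.center Q → d ∈ Subgroup.center Q → c ≠ 1 → d ≠ 1 → c = d := by
    intro c d hc hd hc1 hd1
    obtain ⟨x, y, hxy, huniv⟩ := Nat.card_eq_two_iff.mp hZ
    have hmem : ∀ w : Subgroup.center Q, w = x ∨ w = y := by
      intro w
      have : w ∈ ({x, y} : Set (Subgroup.center Q)) := huniv ▸ Set.mem_univ w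
      simpa using this
    have h1 := hmem 1
    have hc' := hmem ⟨c, hc⟩
    have hd' := hmem ⟨d, hd⟩
    have hc1' : (⟨c, hc⟩ : Subgroup.center Q) ≠ 1 := fun h => hc1 (congrArg Subtype.val h)
    have hd1' : (⟨d, hd⟩ : Subgroup.center Q) ≠ 1 := fun h => hd1 (congrArg Subtype.val h)
    have : (⟨c, hc⟩ : Subgroup.center Q) = ⟨d, hd⟩ := by
      rcases h1 with h1 | h1 <;> rcases hc' with hc' | hc' <;> rcases hd' with hd' | hd' <;>
        first
        | exact hc'.trans hd'.symm
        | exact absurd (hc'.trans h1.symm) hc1'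
        | exact absurd (hd'.trans h1.symm) hd1'
    exact congrArg Subtype.val this
  -- commutator identity
  have hid : (a * b) * g * (a * b)⁻¹ * g⁻¹ = (b * g * b⁻¹ * g⁻¹) * (a * g * a⁻¹ * g⁻¹) := by
    have hc := Subgroup.mem_center_iff.mp (hcomm b g) a
    calc (a * b) * g * (a * b)⁻¹ * g⁻¹ = a * (b * g * b⁻¹ * g⁻¹) * g * a⁻¹ * g⁻¹ := by group
      _ = (b * g * b⁻¹ * g⁻¹) * a * g * a⁻¹ * g⁻¹ := by rw [hc]
      _ = (b * g * b⁻¹ * g⁻¹) * (a * g * a⁻¹ * g⁻¹) := by group
  have hiff : ∀ u v : Q, u * v = v * u ↔ u * v * u⁻¹ * v⁻¹ = 1 := by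
    intro u v
    constructor
    · intro h; rw [h]; group
    · intro h
      calc u * v = (u * v * u⁻¹ * v⁻¹) * v * u := by group
        _ = v * u := by rw [h, one_mul]
  by_cases ha : a * g = g * a <;> by_cases hb : b * g = g * b
  · have : (a * b) * g = g * (a * b) := by
      rw [hiff, hid, (hiff a g).mp ha, (hiff b g).mp hb, one_mul]
    rw [commSign_eq_one ha, commSign_eq_one hb, commSign_eq_one this]; norm_num
  · have : ¬ (a * b) * g = g * (a * b) := by
      rw [hiff, hid, (hiff a g).mp ha, mul_one, ← hiff]; exact hb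
    rw [commSign_eq_one ha, commSign_eq_neg_one hb, commSign_eq_neg_one this]; norm_num
  · have : ¬ (a * b) * g = g * (a * b) := by
      rw [hiff, hid, (hiff b g).mp hb, one_mul, ← hiff]; exact ha
    rw [commSign_eq_neg_one ha, commSign_eq_one hb, commSign_eq_neg_one this]; norm_num
  · have ha' : a * g * a⁻¹ * g⁻¹ ≠ 1 := fun h => ha ((hiff a g).mpr h)
    have hb' : b * g * b⁻¹ * g⁻¹ ≠ 1 := fun h => hb ((hiff b g).mpr h)
    have heq := hsq _ _ (hcomm a g) (hcomm b g) ha' hb'
    -- the square of the nontrivial central element is 1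
    have hsq1 : (a * g * a⁻¹ * g⁻¹) * (a * g * a⁻¹ * g⁻¹) = 1 := by
      by_contra hne
      have hmem : (a * g * a⁻¹ * g⁻¹) * (a * g * a⁻¹ * g⁻¹) ∈ Subgroup.center Q :=
        Subgroup.mul_mem _ (hcomm a g) (hcomm a g)
      have := hsq _ _ hmem (hcomm a g) hne ha'
      have h1 : a * g * a⁻¹ * g⁻¹ = 1 := by
        have := mul_left_cancel (a := a * g * a⁻¹ * g⁻¹) (b := a * g * a⁻¹ * g⁻¹) (c := 1)
          (by rw [mul_one]; exact this)
        exact this
      exact ha' h1
    have : (a * b) * g = g * (a * b) := by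
      rw [hiff, hid, ← heq, hsq1]
    rw [commSign_eq_neg_one ha, commSign_eq_neg_one hb, commSign_eq_one this]; norm_num

/-- In a finite group whose centre has order 2 and equals the commutator subgroup (e.g. an
extraspecial 2-group), the centralizer of a subgroup of index 2 contains a non-central element. -/
theorem exists_mem_centralizer_not_mem_center {Q : Type*} [Group Q] [Finite Q]
    (hZ : Nat.card (Subgroup.center Q) = 2) (hcomm : commutator Q = Subgroup.center Q)
    (M : Subgroup Q) (hM : M.index = 2) :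
    ∃ q ∈ Subgroup.centralizer (M : Set Q), q ∉ Subgroup.center Q := by
  classical
  by_contra hcon
  push Not at hcon
  haveI : Fintype Q := Fintype.ofFinite Q
  haveI : Fintype M := Fintype.ofFinite M
  have hcomm' : ∀ a b : Q, a * b * a⁻¹ * b⁻¹ ∈ Subgroup.center Q := by
    intro a b
    rw [← hcomm, commutator_def]
    exact Subgroup.commutator_mem_commutator (Subgroup.mem_top a) (Subgroup.mem_top b)
  obtain ⟨z, hzZ, hz1⟩ : ∃ z ∈ Subgroup.center Q, z ≠ 1 := by
    by_contra h
    push Not at h
    have : Subgroup.center Q = ⊥ := by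
      rw [eq_bot_iff]; intro x hx; exact Subgroup.mem_bot.mpr (h x hx)
    rw [this, Subgroup.card_bot] at hZ
    omega
  have hMn : M.Normal := Subgroup.normal_of_index_eq_two hM
  have hcM : commutator Q ≤ M := by
    rw [commutator_def, Subgroup.commutator_le]
    intro a _ b _
    rw [commutatorElement_def, Subgroup.mul_mem_iff_of_index_two hM, inv_mem_iff]
    constructor
    · intro h
      have := hMn.conj_mem _ h a⁻¹
      simpa [mul_assoc] using this
    · intro h
      exact hMn.conj_mem _ h a
  have hzM : z ∈ M := hcM (hcomm ▸ hzZ)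
  have h1 : ∀ m : M, ∑ q : Q, commSign (m : Q) q =
      if (m : Q) ∈ Subgroup.center Q then (Fintype.card Q : ℤ) else 0 := by
    intro m
    split_ifs with hm
    · have : ∀ q : Q, commSign (m : Q) q = 1 :=
        fun q => commSign_eq_one ((Subgroup.mem_center_iff.mp hm q).symm)
      simp [this]
    · have : ∃ q₀ : Q, ¬ (m : Q) * q₀ = q₀ * m := by
        by_contra h
        push Not at h
        exact hm (Subgroup.mem_center_iff.mpr (fun g => (h g).symm))
      obtain ⟨q₀, hq₀⟩ := this
      have h0 := sum_eq_zero_of_mul_of_neg_one (fun q : Q => commSign q (m : Q))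
        (fun a b => commSign_mul hZ hcomm' a b m) q₀ (commSign_eq_neg_one (fun h => hq₀ h.symm))
      rw [← h0]
      exact Finset.sum_congr rfl (fun q _ => commSign_symm _ _)
  have h2 : ∀ q : Q, ∑ m : M, commSign (m : Q) q =
      if q ∈ Subgroup.centralizer (M : Set Q) then (Fintype.card M : ℤ) else 0 := by
    intro q
    split_ifs with hq
    · have : ∀ m : M, commSign (m : Q) q = 1 :=
        fun m => commSign_eq_one (Subgroup.mem_centralizer_iff.mp hq m m.2)
      simp [this]
    · have : ∃ m₀ : M, ¬ (m₀ : Q) * q = q * m₀ := by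
        by_contra h
        push Not at h
        exact hq (Subgroup.mem_centralizer_iff.mpr (fun m hm => h ⟨m, hm⟩))
      obtain ⟨m₀, hm₀⟩ := this
      exact sum_eq_zero_of_mul_of_neg_one (fun m : M => commSign (m : Q) q)
        (fun a b => by simp only [Subgroup.coe_mul]; exact commSign_mul hZ hcomm' a b q) m₀
        (commSign_eq_neg_one hm₀)
  have hS1 : ∑ m : M, ∑ q : Q, commSign (m : Q) q =
      ∑ m : M, if (m : Q) ∈ Subgroup.center Q then (Fintype.card Q : ℤ) else 0 :=
    Finset.sum_congr rfl (fun m _ => h1 m)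
  have hS2 : ∑ m : M, ∑ q : Q, commSign (m : Q) q =
      ∑ q : Q, if q ∈ Subgroup.centralizer (M : Set Q) then (Fintype.card M : ℤ) else 0 := by
    rw [Finset.sum_comm]
    exact Finset.sum_congr rfl (fun q _ => h2 q)
  have hlow : 2 * (Fintype.card Q : ℤ) ≤ ∑ m : M, ∑ q : Q, commSign (m : Q) q := by
    rw [hS1]
    have hne : (1 : M) ≠ ⟨z, hzM⟩ := fun h => hz1 (congrArg Subtype.val h).symm
    have hsub : ∑ m ∈ ({(1 : M), ⟨z, hzM⟩} : Finset M),
        (if (m : Q) ∈ Subgroup.center Q then (Fintype.card Q : ℤ) else 0) ≤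
        ∑ m : M, if (m : Q) ∈ Subgroup.center Q then (Fintype.card Q : ℤ) else 0 :=
      Finset.sum_le_sum_of_subset_of_nonneg (Finset.subset_univ _)
        (fun m _ _ => by split_ifs <;> positivity)
    rw [Finset.sum_pair hne] at hsub
    simp only [Subgroup.coe_one, Subgroup.one_mem, if_true, hzZ] at hsub
    linarith
  have hup : ∑ m : M, ∑ q : Q, commSign (m : Q) q ≤ 2 * (Fintype.card M : ℤ) := by
    rw [hS2]
    calc ∑ q : Q, (if q ∈ Subgroup.centralizer (M : Set Q) then (Fintype.card M : ℤ) else 0)
        ≤ ∑ q : Q, if q ∈ Subgroup.center Q then (Fintype.card M : ℤ) else 0 := by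
          apply Finset.sum_le_sum
          intro q _
          by_cases hq : q ∈ Subgroup.centralizer (M : Set Q)
          · rw [if_pos hq, if_pos (hcon q hq)]
          · rw [if_neg hq]; split_ifs <;> positivity
      _ = (Fintype.card M : ℤ) * ((Finset.univ.filter (fun q : Q => q ∈ Subgroup.center Q)).card : ℤ) := by
          rw [← Finset.sum_filter, Finset.sum_const, nsmul_eq_mul, mul_comm]
      _ = 2 * (Fintype.card M : ℤ) := by
          have : (Finset.univ.filter (fun q : Q => q ∈ Subgroup.center Q)).card = 2 := by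
            rw [← hZ, Nat.card_eq_fintype_card, Fintype.card_subtype]
          rw [this]; ring
  have hQM : Fintype.card Q = 2 * Fintype.card M := by
    have := Subgroup.card_mul_index M
    rw [hM, Nat.card_eq_fintype_card, Nat.card_eq_fintype_card] at this
    omega
  have hQM' : (Fintype.card Q : ℤ) = 2 * (Fintype.card M : ℤ) := by exact_mod_cast hQM
  have hpos : (0 : ℤ) < (Fintype.card M : ℤ) := by exact_mod_cast Fintype.card_pos
  linarith

/-- A centre of order 2 has a unique non-identity element. -/
theorem eq_of_mem_center_of_card_two {Q : Type*} [Group Q] (hZ : Nat.card (Subgroup.center Q) = 2)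
    {c d : Q} (hc : c ∈ Subgroup.center Q) (hd : d ∈ Subgroup.center Q) (hc1 : c ≠ 1) (hd1 : d ≠ 1) :
    c = d := by
  obtain ⟨x, y, hxy, huniv⟩ := Nat.card_eq_two_iff.mp hZ
  have hmem : ∀ w : Subgroup.center Q, w = x ∨ w = y := by
    intro w
    have : w ∈ ({x, y} : Set (Subgroup.center Q)) := huniv ▸ Set.mem_univ w
    simpa using this
  have h1 := hmem 1
  have hc' := hmem ⟨c, hc⟩
  have hd' := hmem ⟨d, hd⟩
  have hc1' : (⟨c, hc⟩ : Subgroup.center Q) ≠ 1 := fun h => hc1 (congrArg Subtype.val h)
  have hd1' : (⟨d, hd⟩ : Subgroup.center Q) ≠ 1 := fun h => hd1 (congrArg Subtype.val h)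
  have : (⟨c, hc⟩ : Subgroup.center Q) = ⟨d, hd⟩ := by
    rcases h1 with h1 | h1 <;> rcases hc' with hc' | hc' <;> rcases hd' with hd' | hd' <;>
      first
      | exact hc'.trans hd'.symm
      | exact absurd (hc'.trans h1.symm) hc1'
      | exact absurd (hd'.trans h1.symm) hd1'
  exact congrArg Subtype.val this

end Cfsg.Agent.Lib.Helper11
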