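import Mathlib
import Cfsg.Agent.Lib.Helper11.Extraspecial

/-!
Double centralizers in groups whose centre has order 2 and contains all commutators
(e.g. extraspecial 2-groups), by a character-sum count with the commutation sign
(helper11 library).
-/

set_option autoImplicit false

namespace Cfsg.Agent.Lib.Helper11

theorem commSign_mul_self {Q : Type*} [Group Q] (a b : Q) : commSign a b * commSign a b = 1 := by
  by_cases h : a * b = b * a
  · rw [commSign_eq_one h]; norm_num
  · rw [commSign_eq_neg_one h]; norm_num

theorem commSign_eq_one_iff {Q : Type*} [Group Q] (a b : Q) : commSign a b = 1 ↔ a * b = b * a := by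
  constructor
  · intro h
    by_contra hne
    rw [commSign_eq_neg_one hne] at h
    norm_num at h
  · exact commSign_eq_one

theorem commSign_conj {Q : Type*} [Group Q] (g a b : Q) :
    commSign (g * a * g⁻¹) (g * b * g⁻¹) = commSign a b := by
  by_cases h : a * b = b * a
  · have : (g * a * g⁻¹) * (g * b * g⁻¹) = (g * b * g⁻¹) * (g * a * g⁻¹) := by
      calc (g * a * g⁻¹) * (g * b * g⁻¹) = g * (a * b) * g⁻¹ := by group
        _ = g * (b * a) * g⁻¹ := by rw [h]
        _ = _ := by group
    rw [commSign_eq_one h, commSign_eq_one this]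
  · have : ¬ (g * a * g⁻¹) * (g * b * g⁻¹) = (g * b * g⁻¹) * (g * a * g⁻¹) := by
      intro h'
      apply h
      calc a * b = g⁻¹ * ((g * a * g⁻¹) * (g * b * g⁻¹)) * g := by group
        _ = g⁻¹ * ((g * b * g⁻¹) * (g * a * g⁻¹)) * g := by rw [h']
        _ = b * a := by group
    rw [commSign_eq_neg_one h, commSign_eq_neg_one this]

theorem commSign_inv_left {Q : Type*} [Group Q] (a b : Q) : commSign a⁻¹ b = commSign a b := by
  by_cases h : a * b = b * a
  · have : a⁻¹ * b = b * a⁻¹ := by
      calc a⁻¹ * b = a⁻¹ * (b * a) * a⁻¹ := by group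
        _ = a⁻¹ * (a * b) * a⁻¹ := by rw [h]
        _ = b * a⁻¹ := by group
    rw [commSign_eq_one h, commSign_eq_one this]
  · have : ¬ a⁻¹ * b = b * a⁻¹ := by
      intro h'
      apply h
      calc a * b = a * (b * a⁻¹) * a := by group
        _ = a * (a⁻¹ * b) * a := by rw [h']
        _ = b * a := by group
    rw [commSign_eq_neg_one h, commSign_eq_neg_one this]

theorem commSign_map {T G : Type*} [Group T] [Group G] (ι : T →* G) (hι : Function.Injective ι)
    (s t : T) : commSign (ι s) (ι t) = commSign s t := by
  by_cases h : s * t = t * s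
  · have : ι s * ι t = ι t * ι s := by rw [← map_mul, ← map_mul, h]
    rw [commSign_eq_one h, commSign_eq_one this]
  · have : ¬ ι s * ι t = ι t * ι s := by
      intro h'
      apply h
      apply hι
      rw [map_mul, map_mul, h']
    rw [commSign_eq_neg_one h, commSign_eq_neg_one this]

/-- The counting formula `|U| |C_Q(U)| = |Q| |U ∩ Z(Q)|`. -/
theorem card_mul_card_centralizer {Q : Type*} [Group Q] [Finite Q]
    (hZ : Nat.card (Subgroup.center Q) = 2)
    (hcomm : ∀ a b : Q, a * b * a⁻¹ * b⁻¹ ∈ Subgroup.center Q) (U : Subgroup Q) :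
    Nat.card U * Nat.card (Subgroup.centralizer (U : Set Q)) =
      Nat.card Q * Nat.card ((Subgroup.center Q).subgroupOf U) := by
  classical
  haveI : Fintype Q := Fintype.ofFinite Q
  have h1 : ∀ q : Q, ∑ u : U, commSign (u : Q) q =
      (Nat.card U : ℤ) * (if q ∈ Subgroup.centralizer (U : Set Q) then 1 else 0) := by
    intro q
    by_cases hq : q ∈ Subgroup.centralizer (U : Set Q)
    · rw [if_pos hq, mul_one]
      have : ∀ u : U, commSign (u : Q) q = 1 := by
        intro u
        apply commSign_eq_one
        exact Subgroup.mem_centralizer_iff.mp hq u u.2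
      simp only [this, Finset.sum_const, Finset.card_univ, Nat.card_eq_fintype_card]
      simp
    · rw [if_neg hq, mul_zero]
      have : ∃ u : U, ¬ (u : Q) * q = q * (u : Q) := by
        by_contra hcon
        push Not at hcon
        apply hq
        rw [Subgroup.mem_centralizer_iff]
        intro u hu
        exact hcon ⟨u, hu⟩
      obtain ⟨u₀, hu₀⟩ := this
      apply sum_eq_zero_of_mul_of_neg_one (fun u : U => commSign (u : Q) q) _ u₀
        (commSign_eq_neg_one hu₀)
      intro a b
      exact commSign_mul hZ hcomm (a : Q) (b : Q) q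
  have h2 : ∀ u : U, ∑ q : Q, commSign (u : Q) q =
      (Nat.card Q : ℤ) * (if u ∈ (Subgroup.center Q).subgroupOf U then 1 else 0) := by
    intro u
    by_cases hu : u ∈ (Subgroup.center Q).subgroupOf U
    · rw [if_pos hu, mul_one]
      have hu' : (u : Q) ∈ Subgroup.center Q := Subgroup.mem_subgroupOf.mp hu
      have : ∀ q : Q, commSign (u : Q) q = 1 := by
        intro q
        apply commSign_eq_one
        exact (Subgroup.mem_center_iff.mp hu' q).symm
      simp only [this, Finset.sum_const, Finset.card_univ, Nat.card_eq_fintype_card]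
      simp
    · rw [if_neg hu, mul_zero]
      have hu' : ¬ (u : Q) ∈ Subgroup.center Q := fun h => hu (Subgroup.mem_subgroupOf.mpr h)
      have : ∃ q : Q, ¬ q * (u : Q) = (u : Q) * q := by
        by_contra hcon
        push Not at hcon
        apply hu'
        rw [Subgroup.mem_center_iff]
        exact hcon
      obtain ⟨q₀, hq₀⟩ := this
      have hsw : ∀ q : Q, commSign (u : Q) q = commSign q (u : Q) := fun q => commSign_symm _ _
      simp only [hsw]
      apply sum_eq_zero_of_mul_of_neg_one (fun q : Q => commSign q (u : Q)) _ q₀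
        (commSign_eq_neg_one hq₀)
      intro a b
      exact commSign_mul hZ hcomm a b (u : Q)
  have h3 : ∑ q : Q, ∑ u : U, commSign (u : Q) q = ∑ u : U, ∑ q : Q, commSign (u : Q) q :=
    Finset.sum_comm
  simp only [h1, h2, ← Finset.mul_sum, Finset.sum_boole] at h3
  have hc1 : (Finset.univ.filter (fun q : Q => q ∈ Subgroup.centralizer (U : Set Q))).card =
      Nat.card (Subgroup.centralizer (U : Set Q)) := by
    rw [Nat.card_eq_fintype_card, Fintype.card_subtype]
  have hc2 : (Finset.univ.filter (fun u : U => u ∈ (Subgroup.center Q).subgroupOf U)).card =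
      Nat.card ((Subgroup.center Q).subgroupOf U) := by
    rw [Nat.card_eq_fintype_card, Fintype.card_subtype]
  rw [hc1, hc2] at h3
  exact_mod_cast h3

/-- Double centralizer theorem: `C_Q(C_Q(U)) = U` for `Z(Q) ≤ U`. -/
theorem centralizer_centralizer_eq_of_center_le {Q : Type*} [Group Q] [Finite Q]
    (hZ : Nat.card (Subgroup.center Q) = 2)
    (hcomm : ∀ a b : Q, a * b * a⁻¹ * b⁻¹ ∈ Subgroup.center Q) (U : Subgroup Q)
    (hU : Subgroup.center Q ≤ U) :
    Subgroup.centralizer (Subgroup.centralizer (U : Set Q) : Set Q) = U := by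
  have e1 := card_mul_card_centralizer hZ hcomm U
  have e2 := card_mul_card_centralizer hZ hcomm (Subgroup.centralizer (U : Set Q))
  have hle2 : Subgroup.center Q ≤ Subgroup.centralizer (U : Set Q) := Subgroup.center_le_centralizer _
  rw [Nat.card_congr (Subgroup.subgroupOfEquivOfLe hU).toEquiv, hZ] at e1
  rw [Nat.card_congr (Subgroup.subgroupOfEquivOfLe hle2).toEquiv, hZ] at e2
  have hpos : 0 < Nat.card (Subgroup.centralizer (U : Set Q)) := Nat.card_pos
  have hcard : Nat.card U = Nat.card (Subgroup.centralizer (Subgroup.centralizer (U : Set Q) : Set Q)) := by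
    have : Nat.card (Subgroup.centralizer (U : Set Q)) * Nat.card U =
        Nat.card (Subgroup.centralizer (U : Set Q)) *
          Nat.card (Subgroup.centralizer (Subgroup.centralizer (U : Set Q) : Set Q)) := by
      rw [e2, mul_comm, e1]
    exact Nat.eq_of_mul_eq_mul_left hpos this
  have hle : U ≤ Subgroup.centralizer (Subgroup.centralizer (U : Set Q) : Set Q) := by
    intro u hu
    rw [Subgroup.mem_centralizer_iff]
    intro h hh
    exact (Subgroup.mem_centralizer_iff.mp hh u hu).symm
  exact (Subgroup.eq_of_le_of_card_ge hle (le_of_eq hcard.symm)).symm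

end Cfsg.Agent.Lib.Helper11
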