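import Mathlib
import Cfsg.Agent.Lib.Helper11.ExtraspecialCent
import Cfsg.Agent.Lib.Helper11.ElemAb2
import Cfsg.Agent.Lib.Helper8.Layer

/-!
An involution `α` acting non-trivially on an extraspecial 2-group `Q` (fixing its centre `⟨z⟩`):
the commutator subgroup `[Q, α]` is the centre of `Q₀ = {q ∈ Q | [α, q] ∈ ⟨z⟩}` (helper11 library).
-/

set_option autoImplicit false

namespace Cfsg.Agent.Lib.Helper11

/-- Core statement, all in the ambient group. -/
theorem closure_commutators_eq_center_core {G : Type*} [Group G] (Q : Subgroup G) (z α : G)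
    (hzz : z * z = 1)
    (hmul : ∀ a ∈ Q, ∀ b ∈ Q, ∀ g ∈ Q, commSign (a * b) g = commSign a g * commSign b g)
    (F1 : ∀ a ∈ Q, ∀ b ∈ Q, a * b * a⁻¹ * b⁻¹ = 1 ∨ a * b * a⁻¹ * b⁻¹ = z)
    (F2 : ∀ x ∈ Q, (∀ y ∈ Q, x * y = y * x) → x = 1 ∨ x = z)
    (F3 : ∀ a ∈ Q, a * a = 1 ∨ a * a = z)
    (hzQ : z ∈ Q) (hzc : ∀ y ∈ Q, z * y = y * z)
    (hα2 : α * α = 1)
    (hαQ : ∀ q ∈ Q, α * q * α⁻¹ ∈ Q)
    (hαne : ∃ q ∈ Q, α * q ≠ q * α)
    (F8 : ∀ W : Subgroup G, W ≤ Q → z ∈ W → ∀ x ∈ Q,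
      (∀ y ∈ Q, (∀ w ∈ W, y * w = w * y) → x * y = y * x) → x ∈ W)
    (Q₀ : Subgroup G)
    (hQ₀ : ∀ q, q ∈ Q₀ ↔ q ∈ Q ∧ α * q * α⁻¹ * q⁻¹ ∈ Subgroup.zpowers z) :
    Subgroup.closure ((fun q => α * q * α⁻¹ * q⁻¹) '' (Q : Set G)) =
      (Subgroup.center ↥Q₀).map Q₀.subtype := by
  have hαi : α⁻¹ = α := inv_eq_of_mul_eq_one_left hα2
  have hz2 : z ^ 2 = 1 := by rw [pow_two]; exact hzz
  have hzp : ∀ x : G, x ∈ Subgroup.zpowers z ↔ x = 1 ∨ x = z := by
    intro x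
    constructor
    · exact mem_zpowers_of_sq_eq_one hz2
    · rintro (rfl | rfl)
      · exact one_mem _
      · exact Subgroup.mem_zpowers _
  obtain ⟨W, hW⟩ : ∃ W : Subgroup G,
      W = Subgroup.closure ((fun q => α * q * α⁻¹ * q⁻¹) '' (Q : Set G)) := ⟨_, rfl⟩
  rw [← hW]
  have hgen : ∀ x ∈ Q, α * x * α⁻¹ * x⁻¹ ∈ W := by
    intro x hx
    rw [hW]
    exact Subgroup.subset_closure ⟨x, hx, rfl⟩
  have hWQ : W ≤ Q := by
    rw [hW, Subgroup.closure_le]
    rintro _ ⟨x, hx, rfl⟩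
    exact Q.mul_mem (hαQ x hx) (Q.inv_mem hx)
  -- sign calculus
  have hsz : ∀ c : G, (c = 1 ∨ c = z) → ∀ y ∈ Q, commSign c y = 1 := by
    rintro c (rfl | rfl) y hy
    · exact commSign_eq_one (by rw [one_mul, mul_one])
    · exact commSign_eq_one (hzc y hy)
  have hmulr : ∀ g ∈ Q, ∀ a ∈ Q, ∀ b ∈ Q, commSign g (a * b) = commSign g a * commSign g b := by
    intro g hg a ha b hb
    rw [commSign_symm g (a * b), commSign_symm g a, commSign_symm g b]
    exact hmul a ha b hb g hg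
  have hconj' : ∀ a b : G, commSign (α * a * α⁻¹) b = commSign a (α * b * α⁻¹) := by
    intro a b
    have := commSign_conj α a (α * b * α⁻¹)
    rw [← this]
    congr 1
    rw [hαi]
    calc b = (α * α) * b * (α * α) := by rw [hα2, one_mul, mul_one]
      _ = _ := by group
  -- W ≤ Q₀
  have hWQ₀ : W ≤ Q₀ := by
    rw [hW, Subgroup.closure_le]
    rintro _ ⟨x, hx, rfl⟩
    have hwQ : α * x * α⁻¹ * x⁻¹ ∈ Q := Q.mul_mem (hαQ x hx) (Q.inv_mem hx)
    refine (hQ₀ _).mpr ⟨hwQ, ?_⟩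
    have : α * (α * x * α⁻¹ * x⁻¹) * α⁻¹ * (α * x * α⁻¹ * x⁻¹)⁻¹ =
        ((α * x * α⁻¹ * x⁻¹) * (α * x * α⁻¹ * x⁻¹))⁻¹ := by
      have e : α * (α * x * α⁻¹ * x⁻¹) * α⁻¹ = (α * x * α⁻¹ * x⁻¹)⁻¹ := by
        calc α * (α * x * α⁻¹ * x⁻¹) * α⁻¹ = (α * α) * x * α⁻¹ * x⁻¹ * α⁻¹ := by group
          _ = x * α⁻¹ * x⁻¹ * α⁻¹ := by rw [hα2, one_mul]
          _ = x * α * x⁻¹ * α⁻¹ := by rw [hαi]
          _ = (α * x * α⁻¹ * x⁻¹)⁻¹ := by group
      rw [e]; group
    rw [this]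
    apply Subgroup.inv_mem
    rw [hzp]
    exact F3 _ hwQ
  -- W centralizes Q₀
  have hWc : ∀ q ∈ Q₀, ∀ w ∈ W, w * q = q * w := by
    intro q hq
    obtain ⟨hqQ, hqz⟩ := (hQ₀ q).mp hq
    have hle : W ≤ Subgroup.centralizer ({q} : Set G) := by
      rw [hW, Subgroup.closure_le]
      rintro _ ⟨x, hx, rfl⟩
      rw [SetLike.mem_coe, Subgroup.mem_centralizer_singleton_iff]
      have hx' : α * x * α⁻¹ ∈ Q := hαQ x hx
      rw [← commSign_eq_one_iff, hmul _ hx' _ (Q.inv_mem hx) q hqQ, commSign_inv_left,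
        hconj' x q]
      -- α q α⁻¹ = ζ q
      obtain ⟨ζ, hζ⟩ : ∃ ζ, ζ = α * q * α⁻¹ * q⁻¹ := ⟨_, rfl⟩
      have hζz : ζ = 1 ∨ ζ = z := by rw [hζ]; exact (hzp _).mp hqz
      have hζQ : ζ ∈ Q := by rcases hζz with h | h <;> rw [h]; exacts [one_mem _, hzQ]
      have e : α * q * α⁻¹ = ζ * q := by rw [hζ]; group
      rw [e, hmulr x hx ζ hζQ q hqQ, commSign_symm x ζ, hsz ζ hζz x hx, one_mul]
      exact commSign_mul_self x q
    intro w hw
    exact Subgroup.mem_centralizer_singleton_iff.mp (hle hw)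
  -- z ∈ W
  have hzW : z ∈ W := by
    by_contra hzW
    have hnorm : ∀ q ∈ Q, ∀ w ∈ W, q * w * q⁻¹ ∈ W := by
      intro q hq w hw
      have hle : W ≤ (W.comap (MulAut.conj q).toMonoidHom) := by
        rw [hW, Subgroup.closure_le]
        rintro _ ⟨x, hx, rfl⟩
        rw [SetLike.mem_coe, Subgroup.mem_comap]
        show q * (α * x * α⁻¹ * x⁻¹) * q⁻¹ ∈ Subgroup.closure _
        rw [← hW]
        have : q * (α * x * α⁻¹ * x⁻¹) * q⁻¹ =
            (α * q * α⁻¹ * q⁻¹)⁻¹ * (α * (q * x) * α⁻¹ * (q * x)⁻¹) := by group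
        rw [this]
        exact W.mul_mem (W.inv_mem (hgen q hq)) (hgen _ (Q.mul_mem hq hx))
      exact hle hw
    have hcent : ∀ w ∈ W, w = 1 := by
      intro w hw
      have hwQ := hWQ hw
      have hc : ∀ y ∈ Q, w * y = y * w := by
        intro y hy
        have hk : w * y * w⁻¹ * y⁻¹ ∈ W := by
          have : w * y * w⁻¹ * y⁻¹ = w * (y * w⁻¹ * y⁻¹) := by group
          rw [this]
          exact W.mul_mem hw (hnorm y hy _ (W.inv_mem hw))
        rcases F1 w hwQ y hy with h | h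
        · calc w * y = (w * y * w⁻¹ * y⁻¹) * y * w := by group
            _ = y * w := by rw [h, one_mul]
        · rw [h] at hk; exact absurd hk hzW
      rcases F2 w hwQ hc with h | h
      · exact h
      · rw [h] at hw; exact absurd hw hzW
    obtain ⟨q, hq, hne⟩ := hαne
    apply hne
    have := hcent _ (hgen q hq)
    calc α * q = (α * q * α⁻¹ * q⁻¹) * q * α := by group
      _ = q * α := by rw [this, one_mul]
  -- assemble
  ext x
  rw [Cfsg.Agent.Lib.Helper8.mem_center_map]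
  constructor
  · intro hx
    exact ⟨hWQ₀ hx, fun b hb => (hWc b hb x hx).symm⟩
  · rintro ⟨hx0, hxc⟩
    have hxQ : x ∈ Q := ((hQ₀ x).mp hx0).1
    apply F8 W hWQ hzW x hxQ
    intro y hy hyW
    -- y ∈ Q₀
    have hy0 : y ∈ Q₀ := by
      refine (hQ₀ y).mpr ⟨hy, ?_⟩
      rw [hzp]
      have hy' : α * y * α⁻¹ ∈ Q := hαQ y hy
      apply F2 _ (Q.mul_mem hy' (Q.inv_mem hy))
      intro x' hx'
      rw [← commSign_eq_one_iff, hmul _ hy' _ (Q.inv_mem hy) x' hx', commSign_inv_left,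
        hconj' y x']
      have hx'' : α * x' * α⁻¹ ∈ Q := hαQ x' hx'
      have e : α * x' * α⁻¹ = (α * x' * α⁻¹ * x'⁻¹) * x' := by group
      have hwQ : α * x' * α⁻¹ * x'⁻¹ ∈ Q := Q.mul_mem hx'' (Q.inv_mem hx')
      rw [e, hmulr y hy _ hwQ x' hx', (commSign_eq_one_iff _ _).mpr (hyW _ (hgen x' hx')), one_mul]
      exact commSign_mul_self y x'
    exact (hxc y hy0).symm

/-- Wrapper: `Q` is the image of an injective homomorphism from a group whose centre has order 2,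
contains all commutators and squares. -/
theorem closure_commutators_eq_center {T G : Type*} [Group T] [Finite T] [Group G]
    (ι : T →* G) (hι : Function.Injective ι)
    (hZ : Nat.card (Subgroup.center T) = 2)
    (hcomm : ∀ a b : T, a * b * a⁻¹ * b⁻¹ ∈ Subgroup.center T)
    (hsq : ∀ a : T, a * a ∈ Subgroup.center T)
    (z : G) (hzT : ∃ t ∈ Subgroup.center T, ι t = z) (hz1 : z ≠ 1)
    (α : G) (hα2 : α * α = 1)
    (hαQ : ∀ q ∈ ι.range, α * q * α⁻¹ ∈ ι.range)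
    (hαne : ∃ q ∈ ι.range, α * q ≠ q * α)
    (Q₀ : Subgroup G)
    (hQ₀ : ∀ q, q ∈ Q₀ ↔ q ∈ ι.range ∧ α * q * α⁻¹ * q⁻¹ ∈ Subgroup.zpowers z) :
    Subgroup.closure ((fun q => α * q * α⁻¹ * q⁻¹) '' (ι.range : Set G)) =
      (Subgroup.center ↥Q₀).map Q₀.subtype := by
  obtain ⟨zT, hzTc, hzTz⟩ := hzT
  have hzT1 : zT ≠ 1 := by
    intro h; apply hz1; rw [← hzTz, h, map_one]
  have hcen : ∀ c ∈ Subgroup.center T, c = 1 ∨ c = zT := by
    intro c hc
    by_cases h1 : c = 1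
    · exact Or.inl h1
    · exact Or.inr (eq_of_mem_center_of_card_two hZ hc hzTc h1 hzT1)
  have hcenι : ∀ c ∈ Subgroup.center T, ι c = 1 ∨ ι c = z := by
    intro c hc
    rcases hcen c hc with h | h
    · left; rw [h, map_one]
    · right; rw [h, hzTz]
  have hzz : z * z = 1 := by
    rcases hcen (zT * zT) (Subgroup.mul_mem _ hzTc hzTc) with h | h
    · rw [← hzTz, ← map_mul, h, map_one]
    · exfalso; apply hzT1
      have := mul_left_cancel (a := zT) (b := zT) (c := 1) (by rw [mul_one]; exact h)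
      exact this
  apply closure_commutators_eq_center_core ι.range z α hzz
  · rintro _ ⟨a, rfl⟩ _ ⟨b, rfl⟩ _ ⟨g, rfl⟩
    rw [← map_mul, commSign_map ι hι, commSign_map ι hι, commSign_map ι hι]
    exact commSign_mul hZ hcomm a b g
  · rintro _ ⟨a, rfl⟩ _ ⟨b, rfl⟩
    have := hcenι _ (hcomm a b)
    simpa only [map_mul, map_inv] using this
  · rintro _ ⟨t, rfl⟩ hc
    apply hcenι
    rw [Subgroup.mem_center_iff]
    intro s
    apply hι
    rw [map_mul, map_mul]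
    exact (hc _ ⟨s, rfl⟩).symm
  · rintro _ ⟨a, rfl⟩
    have := hcenι _ (hsq a)
    simpa only [map_mul] using this
  · exact ⟨zT, hzTz⟩
  · rintro _ ⟨s, rfl⟩
    rw [← hzTz, ← map_mul, ← map_mul, Subgroup.mem_center_iff.mp hzTc s]
  · exact hα2
  · exact hαQ
  · exact hαne
  · -- double centralizer
    intro W hWQ hzW x hx hcc
    obtain ⟨t, rfl⟩ := hx
    have hU : Subgroup.center T ≤ W.comap ι := by
      intro c hc
      rw [Subgroup.mem_comap]
      rcases hcenι c hc with h | h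
      · rw [h]; exact one_mem _
      · rw [h]; exact hzW
    have hdc := centralizer_centralizer_eq_of_center_le hZ hcomm (W.comap ι) hU
    have : t ∈ W.comap ι := by
      rw [← hdc, Subgroup.mem_centralizer_iff]
      intro s hs
      apply hι
      rw [map_mul, map_mul]
      refine (hcc (ι s) ⟨s, rfl⟩ ?_).symm
      intro w hw
      obtain ⟨u, rfl⟩ := hWQ hw
      rw [← map_mul, ← map_mul]
      congr 1
      exact (Subgroup.mem_centralizer_iff.mp hs u (Subgroup.mem_comap.mpr hw)).symm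
    exact Subgroup.mem_comap.mp this
  · exact hQ₀

end Cfsg.Agent.Lib.Helper11
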