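import Mathlib
import Cfsg.Prelude.Def_Transfer
import Cfsg.Agent.Lib.Helper11.ThompsonTransfer
import Cfsg.Agent.Lib.Helper1.PGroup

set_option autoImplicit false

namespace Cfsg.Agent.Lib.Helper11

/-- A homomorphism from a group generated by its elements of odd order (`O^2(G) = G`) to a `2`-group
is trivial. -/
theorem map_eq_one_of_pResidual_eq_top {G : Type*} [Group G] {A : Type*} [Group A]
    (hA : IsPGroup 2 A) (hres : Cfsg.pResidual 2 G = ⊤) (f : G →* A) (g : G) : f g = 1 := by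
  have hker : f.ker = ⊤ := by
    rw [eq_top_iff, ← hres, Cfsg.pResidual, Subgroup.closure_le]
    intro x hx
    have hx' : Nat.Coprime (orderOf x) 2 := hx
    have h1 : orderOf (f x) ∣ orderOf x := orderOf_map_dvd _ x
    obtain ⟨k, hk⟩ := hA (f x)
    have h3 : orderOf (f x) ∣ 2 ^ k := orderOf_dvd_of_pow_eq_one hk
    have h4 : Nat.Coprime (orderOf (f x)) (2 ^ k) :=
      Nat.Coprime.coprime_dvd_left h1 (Nat.Coprime.pow_right k hx')
    have h5 : orderOf (f x) = 1 := Nat.Coprime.eq_one_of_dvd h4 h3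
    exact orderOf_eq_one_iff.mp h5
  have : g ∈ f.ker := hker ▸ Subgroup.mem_top g
  exact this

/-- Extremal conjugation (Thompson transfer lemma), general form. `S` is a Sylow `2`-subgroup,
`T ⊴ S` with `S/T` cyclic, `y ∈ S ∖ T` an involution, and `G = O^2(G)`. Then some conjugate
`y' = g y g⁻¹` lies in `T`, is extremal (`C_S(y')` is Sylow in `C_G(y')`), and `g C_S(y) g⁻¹ ≤ C_S(y')`. -/
theorem exists_extremal_conj {G : Type*} [Group G] [Finite G]
    (S : Sylow 2 G) (T : Subgroup G) (hTS : T ≤ S)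
    [hTn : (T.subgroupOf (S : Subgroup G)).Normal]
    (hcyc : IsCyclic (↥(S : Subgroup G) ⧸ T.subgroupOf (S : Subgroup G)))
    (hres : Cfsg.pResidual 2 G = ⊤)
    (y : G) (hy : orderOf y = 2) (hyS : y ∈ S) (hyT : y ∉ T) :
    ∃ g : G, g * y * g⁻¹ ∈ T ∧
      ¬ 2 ∣ ((S : Subgroup G) ⊓ Subgroup.centralizer {g * y * g⁻¹}).relIndex
          (Subgroup.centralizer {g * y * g⁻¹}) ∧
      ((S : Subgroup G) ⊓ Subgroup.centralizer {y}).map (MulAut.conj g).toMonoidHom ≤
        (S : Subgroup G) ⊓ Subgroup.centralizer {g * y * g⁻¹} := by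
  classical
  haveI := hcyc
  letI : CommGroup (↥(S : Subgroup G) ⧸ T.subgroupOf (S : Subgroup G)) := IsCyclic.commGroup
  let ϕ : ↥(S : Subgroup G) →* (↥(S : Subgroup G) ⧸ T.subgroupOf (S : Subgroup G)) :=
    QuotientGroup.mk' (T.subgroupOf (S : Subgroup G))
  have hker : ∀ s : ↥(S : Subgroup G), ϕ s = 1 ↔ (s : G) ∈ T := by
    intro s
    show QuotientGroup.mk' (T.subgroupOf (S : Subgroup G)) s = 1 ↔ _
    rw [QuotientGroup.mk'_apply, QuotientGroup.eq_one_iff, Subgroup.mem_subgroupOf]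
  have hA2 : IsPGroup 2 (↥(S : Subgroup G) ⧸ T.subgroupOf (S : Subgroup G)) :=
    S.2.to_quotient _
  have htr : MonoidHom.transfer ϕ y = 1 :=
    map_eq_one_of_pResidual_eq_top hA2 hres (MonoidHom.transfer ϕ) y
  -- a cyclic group has at most one involution
  have huniq : ∀ a b : ↥(S : Subgroup G) ⧸ T.subgroupOf (S : Subgroup G),
      a ^ 2 = 1 → b ^ 2 = 1 → a ≠ 1 → b ≠ 1 → a = b := by
    intro a b ha hb ha1 hb1
    by_contra hab
    haveI : Fintype (↥(S : Subgroup G) ⧸ T.subgroupOf (S : Subgroup G)) := Fintype.ofFinite _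
    have hle := IsCyclic.card_pow_eq_one_le (α := ↥(S : Subgroup G) ⧸ T.subgroupOf (S : Subgroup G))
      (n := 2) (by norm_num)
    have hsub : ({1, a, b} : Finset _) ⊆
        Finset.univ.filter (fun x : ↥(S : Subgroup G) ⧸ T.subgroupOf (S : Subgroup G) => x ^ 2 = 1) := by
      intro x hx
      simp only [Finset.mem_insert, Finset.mem_singleton] at hx
      simp only [Finset.mem_filter, Finset.mem_univ, true_and]
      rcases hx with rfl | rfl | rfl
      · exact one_pow 2
      · exact ha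
      · exact hb
    have hcard : ({1, a, b} : Finset (↥(S : Subgroup G) ⧸ T.subgroupOf (S : Subgroup G))).card = 3 := by
      rw [Finset.card_insert_of_notMem, Finset.card_insert_of_notMem, Finset.card_singleton]
      · simpa using hab
      · simp only [Finset.mem_insert, Finset.mem_singleton, not_or]
        exact ⟨fun h => ha1 h.symm, fun h => hb1 h.symm⟩
    have := Finset.card_le_card hsub
    omega
  have hSodd : ¬ 2 ∣ (S : Subgroup G).index := S.not_dvd_index
  have hyT' : ϕ ⟨y, hyS⟩ ≠ 1 := fun h => hyT ((hker ⟨y, hyS⟩).mp h)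
  have hodd := Cfsg.Agent.Lib.Helper11.odd_card_fixed_in_ker (S : Subgroup G) hSodd ϕ huniq y hy hyS hyT' htr
  -- well-definedness of the condition `x⁻¹ y x ∈ T` on cosets
  have hWD : ∀ x x' : G, (x : G ⧸ (S : Subgroup G)) = x' → x⁻¹ * y * x ∈ T → x'⁻¹ * y * x' ∈ T := by
    intro x x' hxx' hx
    have hs : x⁻¹ * x' ∈ (S : Subgroup G) := QuotientGroup.eq.mp hxx'
    have hn := hTn.conj_mem ⟨x⁻¹ * y * x, hTS hx⟩ (Subgroup.mem_subgroupOf.mpr hx)
      ⟨(x⁻¹ * x')⁻¹, (S : Subgroup G).inv_mem hs⟩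
    rw [Subgroup.mem_subgroupOf] at hn
    have : x'⁻¹ * y * x' = (x⁻¹ * x')⁻¹ * (x⁻¹ * y * x) * ((x⁻¹ * x')⁻¹)⁻¹ := by group
    rw [this]
    exact hn
  have hpred : ∀ c : G ⧸ (S : Subgroup G), (y • c = c ∧
      ∃ h : (Quotient.out c)⁻¹ * y * Quotient.out c ∈ (S : Subgroup G), ϕ ⟨_, h⟩ = 1) ↔
      (Quotient.out c)⁻¹ * y * Quotient.out c ∈ T := by
    intro c
    constructor
    · rintro ⟨-, h, hϕ⟩
      exact (hker _).mp hϕ
    · intro h
      refine ⟨?_, hTS h, (hker _).mpr h⟩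
      conv_lhs => rw [← QuotientGroup.out_eq' c]
      conv_rhs => rw [← QuotientGroup.out_eq' c]
      rw [MulAction.Quotient.smul_mk, QuotientGroup.eq, smul_eq_mul]
      have : (y * Quotient.out c)⁻¹ * Quotient.out c = ((Quotient.out c)⁻¹ * y * Quotient.out c)⁻¹ := by group
      rw [this]
      exact (S : Subgroup G).inv_mem (hTS h)
  -- Sylow 2-subgroup of the centralizer of y containing C_S(y)
  have hCS2 : IsPGroup 2 ↥(((S : Subgroup G) ⊓ Subgroup.centralizer {y}).subgroupOf (Subgroup.centralizer {y})) :=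
    (S.2.to_le inf_le_left).comap_subtype
  obtain ⟨R', hR'⟩ := hCS2.exists_le_sylow
  -- the invariant set of cosets
  let F : SubMulAction ↥((R' : Subgroup ↥(Subgroup.centralizer ({y} : Set G))).map (Subgroup.centralizer ({y} : Set G)).subtype)
      (G ⧸ (S : Subgroup G)) :=
    { carrier := {c | (Quotient.out c)⁻¹ * y * Quotient.out c ∈ T}
      smul_mem' := by
        rintro ⟨r, hr⟩ c hc
        obtain ⟨r', -, rfl⟩ := hr
        have hry : (r' : G) * y = y * r' := by
          have := r'.2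
          rw [Subgroup.mem_centralizer_singleton_iff] at this
          exact this
        show (Quotient.out ((r' : G) • c))⁻¹ * y * Quotient.out ((r' : G) • c) ∈ T
        apply hWD ((r' : G) * Quotient.out c) _
        · conv_rhs => rw [QuotientGroup.out_eq']
          conv_rhs => rw [← QuotientGroup.out_eq' c]
          rw [MulAction.Quotient.smul_mk, smul_eq_mul]
        · have : ((r' : G) * Quotient.out c)⁻¹ * y * ((r' : G) * Quotient.out c) =
              (Quotient.out c)⁻¹ * ((r' : G)⁻¹ * (y * r')) * Quotient.out c := by group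
          rw [this, ← hry]
          have : (Quotient.out c)⁻¹ * ((r' : G)⁻¹ * ((r' : G) * y)) * Quotient.out c =
              (Quotient.out c)⁻¹ * y * Quotient.out c := by group
          rw [this]
          exact hc }
  have hFcard : Nat.card ↥F = Nat.card {c : G ⧸ (S : Subgroup G) // y • c = c ∧
      ∃ h : (Quotient.out c)⁻¹ * y * Quotient.out c ∈ (S : Subgroup G), ϕ ⟨_, h⟩ = 1} :=
    Nat.card_congr (Equiv.subtypeEquivRight (fun c => (hpred c).symm))
  have hRp : IsPGroup 2 ↥((R' : Subgroup ↥(Subgroup.centralizer ({y} : Set G))).map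
      (Subgroup.centralizer ({y} : Set G)).subtype) := R'.2.map _
  have hnd : ¬ 2 ∣ Nat.card ↥F := by
    rw [hFcard]
    intro h
    exact (Nat.not_even_iff_odd.mpr hodd) (even_iff_two_dvd.mpr h)
  obtain ⟨c, hc⟩ := hRp.nonempty_fixed_point_of_prime_not_dvd_card ↥F hnd
  have hcT : (Quotient.out (c : G ⧸ (S : Subgroup G)))⁻¹ * y * Quotient.out (c : G ⧸ (S : Subgroup G)) ∈ T := c.2
  have hxc : ((Quotient.out (c : G ⧸ (S : Subgroup G)) : G) : G ⧸ (S : Subgroup G)) = c :=
    QuotientGroup.out_eq' _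
  generalize Quotient.out (c : G ⧸ (S : Subgroup G)) = x at hcT hxc
  -- R fixes the coset xS, so x⁻¹ R x ≤ S
  have hfix : ∀ r' : ↥(Subgroup.centralizer ({y} : Set G)), r' ∈ R' → x⁻¹ * (r' : G) * x ∈ (S : Subgroup G) := by
    intro r' hr'
    have h1 := hc ⟨(r' : G), ⟨r', hr', rfl⟩⟩
    have h2 : (r' : G) • (c : G ⧸ (S : Subgroup G)) = c := congrArg Subtype.val h1
    have h3 : (((r' : G) * x : G) : G ⧸ (S : Subgroup G)) = (x : G ⧸ (S : Subgroup G)) := by
      calc (((r' : G) * x : G) : G ⧸ (S : Subgroup G)) = (r' : G) • ((x : G) : G ⧸ (S : Subgroup G)) := by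
            rw [MulAction.Quotient.smul_mk, smul_eq_mul]
        _ = (r' : G) • (c : G ⧸ (S : Subgroup G)) := by rw [hxc]
        _ = c := h2
        _ = x := hxc.symm
    have h4 : ((r' : G) * x)⁻¹ * x ∈ (S : Subgroup G) := QuotientGroup.eq.mp h3
    have h5 := (S : Subgroup G).inv_mem h4
    have : (((r' : G) * x)⁻¹ * x)⁻¹ = x⁻¹ * (r' : G) * x := by group
    rw [this] at h5
    exact h5
  have hcomm : ∀ w : G, w ∈ Subgroup.centralizer ({y} : Set G) →
      x⁻¹ * w * x⁻¹⁻¹ ∈ Subgroup.centralizer ({x⁻¹ * y * x⁻¹⁻¹} : Set G) := by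
    intro w hw
    rw [Subgroup.mem_centralizer_singleton_iff] at hw ⊢
    calc x⁻¹ * w * x⁻¹⁻¹ * (x⁻¹ * y * x⁻¹⁻¹) = x⁻¹ * (w * y) * x⁻¹⁻¹ := by group
      _ = x⁻¹ * (y * w) * x⁻¹⁻¹ := by rw [hw]
      _ = x⁻¹ * y * x⁻¹⁻¹ * (x⁻¹ * w * x⁻¹⁻¹) := by group
  have hRle : ((R' : Subgroup ↥(Subgroup.centralizer ({y} : Set G))).map
      (Subgroup.centralizer ({y} : Set G)).subtype).map (MulAut.conj x⁻¹).toMonoidHom ≤
      (S : Subgroup G) ⊓ Subgroup.centralizer ({x⁻¹ * y * x⁻¹⁻¹} : Set G) := by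
    rintro _ ⟨_, ⟨r', hr', rfl⟩, rfl⟩
    rw [Subgroup.mem_inf]
    refine ⟨?_, ?_⟩
    · have := hfix r' hr'
      simpa [MulAut.conj_apply] using this
    · have := hcomm (r' : G) r'.2
      simpa [MulAut.conj_apply] using this
  refine ⟨x⁻¹, ?_, ?_, ?_⟩
  · rw [inv_inv]; exact hcT
  · have hCmap : Subgroup.centralizer ({x⁻¹ * y * x⁻¹⁻¹} : Set G) =
        (Subgroup.centralizer ({y} : Set G)).map (MulAut.conj x⁻¹).toMonoidHom := by
      ext z
      constructor
      · intro hz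
        refine ⟨x * z * x⁻¹, ?_, ?_⟩
        · rw [SetLike.mem_coe]
          rw [Subgroup.mem_centralizer_singleton_iff] at hz ⊢
          have h6 : z * (x⁻¹ * y * x) = x⁻¹ * y * x * z := by simpa using hz
          calc x * z * x⁻¹ * y = x * (z * (x⁻¹ * y * x)) * x⁻¹ := by group
            _ = x * (x⁻¹ * y * x * z) * x⁻¹ := by rw [h6]
            _ = y * (x * z * x⁻¹) := by group
        · simp [MulAut.conj_apply, mul_assoc]
      · rintro ⟨w, hw, rfl⟩
        have := hcomm w hw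
        simpa [MulAut.conj_apply] using this
    have hidx := Subgroup.relIndex_map_map_of_injective (f := (MulAut.conj x⁻¹).toMonoidHom)
      ((R' : Subgroup ↥(Subgroup.centralizer ({y} : Set G))).map (Subgroup.centralizer ({y} : Set G)).subtype)
      (Subgroup.centralizer ({y} : Set G)) (MulAut.conj x⁻¹).injective
    have hidx2 : ((R' : Subgroup ↥(Subgroup.centralizer ({y} : Set G))).map
        (Subgroup.centralizer ({y} : Set G)).subtype).relIndex (Subgroup.centralizer ({y} : Set G)) =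
        (R' : Subgroup ↥(Subgroup.centralizer ({y} : Set G))).index := by
      rw [Subgroup.relIndex, Subgroup.subgroupOf,
        Subgroup.comap_map_eq_self_of_injective (Subgroup.subtype_injective _)]
    have hdvd := Subgroup.relIndex_dvd_of_le_left (Subgroup.centralizer ({x⁻¹ * y * x⁻¹⁻¹} : Set G)) hRle
    intro h2
    apply R'.not_dvd_index
    rw [← hidx2, ← hidx, ← hCmap]
    exact dvd_trans h2 hdvd
  · refine le_trans ?_ hRle
    apply Subgroup.map_mono
    intro w hw
    have hwC : w ∈ Subgroup.centralizer ({y} : Set G) := (Subgroup.mem_inf.mp hw).2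
    exact ⟨⟨w, hwC⟩, hR' (Subgroup.mem_subgroupOf.mpr hw), rfl⟩

/-- Extremal conjugation for a maximal subgroup: `M` a maximal subgroup of the Sylow `2`-subgroup
`S` (as a subgroup of `↥S`), `y ∈ S` an involution not in `M`, `G = O^2(G)`. -/
theorem exists_extremal_conj_coatom {G : Type*} [Group G] [Finite G]
    (S : Sylow 2 G) (M : Subgroup ↥(S : Subgroup G)) (hM : IsCoatom M)
    (hres : Cfsg.pResidual 2 G = ⊤)
    (y : G) (hy : orderOf y = 2) (hyS : y ∈ S) (hyM : (⟨y, hyS⟩ : ↥(S : Subgroup G)) ∉ M) :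
    ∃ g : G, (∃ h : g * y * g⁻¹ ∈ (S : Subgroup G), (⟨g * y * g⁻¹, h⟩ : ↥(S : Subgroup G)) ∈ M) ∧
      ¬ 2 ∣ ((S : Subgroup G) ⊓ Subgroup.centralizer {g * y * g⁻¹}).relIndex
          (Subgroup.centralizer {g * y * g⁻¹}) ∧
      ((S : Subgroup G) ⊓ Subgroup.centralizer {y}).map (MulAut.conj g).toMonoidHom ≤
        (S : Subgroup G) ⊓ Subgroup.centralizer {g * y * g⁻¹} := by
  classical
  have hMn : M.Normal := Cfsg.Agent.Lib.Helper1.IsPGroup.coatom_normal S.2 M hM
  set T : Subgroup G := M.map (S : Subgroup G).subtype with hT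
  have hTS : T ≤ (S : Subgroup G) := Subgroup.map_subtype_le M
  have hTM : T.subgroupOf (S : Subgroup G) = M := by
    rw [hT, Subgroup.subgroupOf, Subgroup.comap_map_eq_self_of_injective (Subgroup.subtype_injective _)]
  have hNco : IsCoatom (T.subgroupOf (S : Subgroup G)) := hTM.symm ▸ hM
  haveI hTn : (T.subgroupOf (S : Subgroup G)).Normal := hTM.symm ▸ hMn
  have hcyc : IsCyclic (↥(S : Subgroup G) ⧸ T.subgroupOf (S : Subgroup G)) := by
    have hidx := Cfsg.Agent.Lib.Helper1.IsPGroup.coatom_index S.2 _ hNco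
    have hcard : Nat.card (↥(S : Subgroup G) ⧸ T.subgroupOf (S : Subgroup G)) = 2 := by
      rw [← Subgroup.index_eq_card, hidx]
    exact isCyclic_of_prime_card hcard
  have hyT : y ∉ T := by
    intro h
    obtain ⟨s, hs, hsy⟩ := h
    apply hyM
    have : s = ⟨y, hyS⟩ := Subtype.ext hsy
    rw [← this]; exact hs
  obtain ⟨g, hg1, hg2, hg3⟩ := exists_extremal_conj S T hTS hcyc hres y hy hyS hyT
  refine ⟨g, ?_, hg2, hg3⟩
  obtain ⟨s, hs, hsy⟩ := hg1
  refine ⟨hsy ▸ s.2, ?_⟩
  have : s = ⟨g * y * g⁻¹, hsy ▸ s.2⟩ := Subtype.ext hsy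
  rw [← this]; exact hs

end Cfsg.Agent.Lib.Helper11
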