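import Cfsg.Agent.Lib.Helper11.F4GenC
import Cfsg.Agent.Lib.Helper7.F4Ord
import Cfsg.Agent.Lib.Lead.TwSteinE

/-! `²F₄(q)`: every automorphism stabilises `U` and `V` after composition with an inner automorphism
(helper11, on the lead's calculus of stabilised subgroups). -/

set_option autoImplicit false
set_option linter.unusedSectionVars false
set_option maxRecDepth 100000

namespace Cfsg.Agent.Lib.Helper11.F4T

open Cfsg Cfsg.Lie Matrix Cfsg.Agent.Lib.Helper7 Cfsg.Agent.Lib.Helper11 Cfsg.Agent.Lib.Helper11.Isog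
open Cfsg.Agent.Lib.Lead.TwStein

theorem longB_W8 : longB chevF4 (flatW W8) = true := by decide +kernel

theorem longFacts_W8 : LongFacts chevF4 (flatW W8) := longFacts_of_longB _ _ longB_W8

/-- a word of the dihedral group either maps all positive roots to negative roots or maps one of the eight
positive classes to positive roots -/
theorem tab_move : ∀ w ∈ words16,
    (∀ r ∈ chevF4.posRoots, chevF4.IsNegRoot (reflWord chevF4 (flatW w) r)) ∨
    ∃ k < 8, ∀ r ∈ blk (W8.take k) (k % 2),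
      chevF4.IsPosRoot r ∧ chevF4.IsPosRoot (reflWord chevF4 (flatW w) r) := by decide +kernel

section
variable {F : Type*} [Field F]

theorem nW_W8_conj_pos :
    (chevF4.posUnipotent F).map (MulAut.conj (nW F W8)).toMonoidHom = chevF4.negUnipotent F :=
  conj_posUnipotent_eq chevF4 f4_mem F _ longFacts_W8

theorem nW_W8_conj_neg :
    (chevF4.negUnipotent F).map (MulAut.conj (nW F W8)).toMonoidHom = chevF4.posUnipotent F :=
  Cfsg.Agent.Lib.Lead.Stein.conj_negUnipotent_eq chevF4 f4_mem F _ longFacts_W8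

end

section
variable {F : Type*} [Field F] [Fintype F]
variable {τ : ↥(chevF4.group F) ≃* ↥(chevF4.group F)} {θ : ℕ} (hτ : TauData F τ θ)
include hτ

/-- `U ∩ ²F₄(q)` is a Sylow `2`-subgroup -/
theorem f4_sylow (k : ℕ) (hk : 0 < k) (hF : Fintype.card F = 2 ^ k) :
    ∃ P0 : Sylow 2 ↥(twistedF4 F θ),
      (P0 : Subgroup ↥(twistedF4 F θ)) = (chevF4.posUnipotent F).subgroupOf (twistedF4 F θ) := by
  classical
  have : Fact (Nat.Prime 2) := ⟨Nat.prime_two⟩
  set q := Nat.card F with hq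
  have hqF : q = 2 ^ k := by rw [hq, Nat.card_eq_fintype_card, hF]
  have hq0 : 0 < q := by rw [hqF]; positivity
  have h2q : 2 ∣ q := by rw [hqF]; exact dvd_pow_self 2 hk.ne'
  have hcU : Nat.card ↥((chevF4.posUnipotent F).subgroupOf (twistedF4 F θ)) = q ^ 12 := by
    rw [← Subgroup.inf_subgroupOf_right, Nat.card_congr (Subgroup.subgroupOfEquivOfLe inf_le_right).toEquiv,
      ← fixTau_eq hτ]
    exact card_posUnipotent_inf_fixTau hτ
  have hP : IsPGroup 2 ↥((chevF4.posUnipotent F).subgroupOf (twistedF4 F θ)) := by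
    apply IsPGroup.of_card (n := k * 12)
    rw [hcU, hqF, pow_mul]
  have hcG := Cfsg.Agent.Lib.Helper7.F4O.card_twistedF4_aux hτ
  have hcu : Nat.card Fˣ = q - 1 := by
    rw [Nat.card_eq_fintype_card, Fintype.card_units, hq, Nat.card_eq_fintype_card]
  have hidx : ((chevF4.posUnipotent F).subgroupOf (twistedF4 F θ)).index =
      (q - 1) ^ 2 * ((1 + q) * (1 + q ^ 2) * (1 + q * q ^ 2 + q ^ 2 * (q ^ 2) ^ 2 + q ^ 3 * (q ^ 2) ^ 3)) := by
    have h1 := Subgroup.card_mul_index ((chevF4.posUnipotent F).subgroupOf (twistedF4 F θ))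
    rw [hcU, hcG, hcu] at h1
    have h2 : q ^ 12 * ((chevF4.posUnipotent F).subgroupOf (twistedF4 F θ)).index =
        q ^ 12 * ((q - 1) ^ 2 * ((1 + q) * (1 + q ^ 2) *
          (1 + q * q ^ 2 + q ^ 2 * (q ^ 2) ^ 2 + q ^ 3 * (q ^ 2) ^ 3))) := by
      rw [h1]; ring
    exact Nat.eq_of_mul_eq_mul_left (pow_pos hq0 12) h2
  have hnd : ¬ 2 ∣ ((chevF4.posUnipotent F).subgroupOf (twistedF4 F θ)).index := by
    rw [hidx]
    obtain ⟨j, hj⟩ := h2q
    intro h
    have hodd : ∀ a : ℕ, ¬ 2 ∣ 1 + q * a := by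
      intro a ha
      have e : q * a = 2 * (j * a) := by rw [hj]; ring
      rw [e] at ha
      omega
    have h1 : ¬ 2 ∣ q - 1 := by omega
    rcases (Nat.Prime.dvd_mul Nat.prime_two).mp h with h | h
    · exact h1 (Nat.Prime.dvd_of_dvd_pow Nat.prime_two h)
    · rcases (Nat.Prime.dvd_mul Nat.prime_two).mp h with h | h
      · rcases (Nat.Prime.dvd_mul Nat.prime_two).mp h with h | h
        · exact hodd 1 (by simpa using h)
        · exact hodd q (by rw [← pow_two]; exact h)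
      · apply hodd (q ^ 2 + q * (q ^ 2) ^ 2 + q ^ 2 * (q ^ 2) ^ 3)
        have e : 1 + q * (q ^ 2 + q * (q ^ 2) ^ 2 + q ^ 2 * (q ^ 2) ^ 3) =
            1 + q * q ^ 2 + q ^ 2 * (q ^ 2) ^ 2 + q ^ 3 * (q ^ 2) ^ 3 := by ring
        rw [e]; exact h
  exact ⟨hP.toSylow hnd, IsPGroup.toSylow_coe hP hnd⟩

/-- the normal form `g = b n u` inside `²F₄` -/
theorem f4_canon (y : GL chevF4.Idx F) (hy : y ∈ twistedF4 F θ) :
    ∃ b ∈ twistedF4 F θ, b ∈ Subgroup.normalizer (chevF4.posUnipotent F : Set (GL chevF4.Idx F)) ∧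
      ∃ n ∈ chevF4.monomialSubgroup F ⊓ twistedF4 F θ, ∃ u ∈ chevF4.posUnipotent F ⊓ twistedF4 F θ,
        y = b * n * u := by
  rw [← fixTau_eq hτ] at hy ⊢
  obtain ⟨w, -, b, hb, u, hu, rfl⟩ := fix_cases hτ y hy
  obtain ⟨hb1, hb2⟩ := Subgroup.mem_inf.mp hb
  obtain ⟨hu1, hu2⟩ := Subgroup.mem_inf.mp hu
  have hle : chevF4.borelSubgroup F ≤
      Subgroup.normalizer (chevF4.posUnipotent F : Set (GL chevF4.Idx F)) := by
    unfold ChevalleyDatum.borelSubgroup
    exact sup_le Subgroup.le_normalizer (diagonalSubgroup_le_normalizer_posUnipotent chevF4 f4_mem F)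
  exact ⟨b, hb2, hle hb1, nW F w, Subgroup.mem_inf.mpr ⟨nW_mem_monomial F w, nW_mem_fixTau hτ w⟩, u,
    Subgroup.mem_inf.mpr ⟨uMinus_le_posUnipotent chevF4 F _ hu1, hu2⟩, rfl⟩

/-- an element of `N¹` that moves `U¹` off `U` conjugates `U` onto `V` -/
theorem f4_conj_monomial (n : GL chevF4.Idx F) (hn : n ∈ chevF4.monomialSubgroup F ⊓ twistedF4 F θ)
    (h : ∀ u ∈ chevF4.posUnipotent F ⊓ twistedF4 F θ, n * u * n⁻¹ ∈ chevF4.posUnipotent F → u = 1) :
    (chevF4.posUnipotent F).map (MulAut.conj n).toMonoidHom = chevF4.negUnipotent F := by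
  obtain ⟨hnN, hnG⟩ := Subgroup.mem_inf.mp hn
  have hnfix : n ∈ fixTau F τ := twistedF4_le_fixTau hτ hnG
  have hh : n⁻¹ * tauGL F τ n ∈ chevF4.diagonalSubgroup F := by
    rw [hnfix.2, inv_mul_cancel]; exact Subgroup.one_mem _
  obtain ⟨w, hw, hact⟩ := monomial_stable_cases hτ n hnN hh
  rcases tab_move w hw with hneg | ⟨k, hk, hpos⟩
  · apply conj_monomial_eq_neg' chevF4 f4_mem F n hnN
    intro s hs a ha c hc hconj
    obtain ⟨hlt, c', hc', h1⟩ := hact s hs.1
    have e : reflWord chevF4 (flatW w) s = a := by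
      have := (h1 1).symm.trans (hconj 1)
      exact xGL_root_inj chevF4 f4_mem F _ _ hlt ha _ _ (by simpa using hc') this
    rw [← e]
    exact hneg s ((mem_posRoots chevF4 s).mpr hs)
  · exfalso
    set J : Fin 2 := ⟨k % 2, Nat.mod_lt _ (by norm_num)⟩ with hJ
    obtain ⟨x₀, hx₀, hx₀1⟩ := exists_ne_one_XJ hτ J
    set pre := W8.take k with hpre
    have hx := conj_mem_fix hτ (clsJ J) (clsJ_lt J) pre x₀ hx₀
    have hblk : (clsJ (J : ℕ)).map (reflWord chevF4 (flatW pre)) = blk pre (k % 2) := rfl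
    rw [hblk] at hx
    obtain ⟨hx1, hx2⟩ := Subgroup.mem_inf.mp hx
    have hxU : nW F pre * x₀ * (nW F pre)⁻¹ ∈ chevF4.posUnipotent F :=
      XL_le_pos _ (fun r hr => (hpos r hr).1) hx1
    have hblt : ∀ r ∈ blk pre (k % 2), r < 48 := fun r hr => (hpos r hr).1.1
    have hc := conj_closure_gensL chevF4 f4_mem F n _ hact _ hblt _ hx1
    have hcU : n * (nW F pre * x₀ * (nW F pre)⁻¹) * n⁻¹ ∈ chevF4.posUnipotent F := by
      refine XL_le_pos _ (fun r hr => ?_) hc
      obtain ⟨r', hr', rfl⟩ := List.mem_map.mp hr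
      exact (hpos r' hr').2
    have h1 := h _ (Subgroup.mem_inf.mpr ⟨hxU, by rw [← fixTau_eq hτ]; exact hx2⟩) hcU
    apply hx₀1
    have : x₀ = (nW F pre)⁻¹ * (nW F pre * x₀ * (nW F pre)⁻¹) * nW F pre := by group
    rw [this, h1]; group

/-- every automorphism of `²F₄(q)` stabilises `U` and `V` after composition with an inner automorphism -/
theorem f4_inner_stb (k : ℕ) (hk : 0 < k) (hF : Fintype.card F = 2 ^ k)
    (α : ↥(twistedF4 F θ) ≃* ↥(twistedF4 F θ)) :
    ∃ x : ↥(twistedF4 F θ), Stb (α.trans (MulAut.conj x)) (chevF4.posUnipotent F) ∧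
      Stb (α.trans (MulAut.conj x)) (chevF4.negUnipotent F) := by
  have : Fact (Nat.Prime 2) := ⟨Nat.prime_two⟩
  have hfin : Finite ↥(twistedF4 F θ) := inferInstance
  exact exists_stb_pair (twistedF4 F θ) (chevF4.posUnipotent F) (chevF4.negUnipotent F) 2
    (f4_sylow hτ k hk hF) (nW F W8) (nW_mem_twistedF4 F hτ.two θ hτ.pos W8) nW_W8_conj_pos
    (posUnipotent_inf_negUnipotent chevF4 f4_mem F) (chevF4.monomialSubgroup F)
    (f4_canon hτ) (f4_conj_monomial hτ) α

end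

end Cfsg.Agent.Lib.Helper11.F4T
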