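import Cfsg.Agent.Lib.Helper11.F4AutA
import Cfsg.Agent.Lib.Lead.TwSteinL

/-! `²F₄(q)`: an automorphism stabilising `U` and `V` stabilises `B`, `H` and the rank one groups
(helper11, following the lead's treatment of the twisted groups). -/

set_option autoImplicit false
set_option linter.unusedSectionVars false
set_option maxRecDepth 100000

namespace Cfsg.Agent.Lib.Helper11.F4T

open Cfsg Cfsg.Lie Matrix Cfsg.Agent.Lib.Helper7 Cfsg.Agent.Lib.Helper11 Cfsg.Agent.Lib.Helper11.Isog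
open Cfsg.Agent.Lib.Lead.TwStein Cfsg.Agent.Lib.Helper3.BN Cfsg.Agent.Lib.Lead.Stein
open Cfsg.Agent.Lib.Helper11.ChevDiagMem

theorem tab_opp : ∀ J : Fin 2,
    (∀ r ∈ (clsJ J).map (reflWord chevF4 (flatW (W8 ++ [J.val]))), r ∈ clsJ J) ∧
    (∀ r ∈ clsJ J, r ∈ (clsJ J).map (reflWord chevF4 (flatW (W8 ++ [J.val])))) := by decide +kernel

section
variable {F : Type*} [Field F] [Fintype F]
variable {τ : ↥(chevF4.group F) ≃* ↥(chevF4.group F)} {θ : ℕ} (hτ : TauData F τ θ)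
include hτ

theorem twistedF4_le_group : twistedF4 F θ ≤ chevF4.group F :=
  fun _ hg => fixTau_le_group F τ (twistedF4_le_fixTau hτ hg)

/-- the normal form `g = b n u` inside `²F₄`, with `b ∈ B¹` -/
theorem f4_canon' (y : GL chevF4.Idx F) (hy : y ∈ twistedF4 F θ) :
    ∃ b ∈ chevF4.borelSubgroup F ⊓ twistedF4 F θ, ∃ n ∈ chevF4.monomialSubgroup F ⊓ twistedF4 F θ,
      ∃ u ∈ chevF4.posUnipotent F ⊓ twistedF4 F θ, y = b * n * u := by
  rw [← fixTau_eq hτ] at hy ⊢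
  obtain ⟨w, -, b, hb, u, hu, rfl⟩ := fix_cases hτ y hy
  obtain ⟨hu1, hu2⟩ := Subgroup.mem_inf.mp hu
  exact ⟨b, hb, nW F w, Subgroup.mem_inf.mpr ⟨nW_mem_monomial F w, nW_mem_fixTau hτ w⟩, u,
    Subgroup.mem_inf.mpr ⟨uMinus_le_posUnipotent chevF4 F _ hu1, hu2⟩, rfl⟩

/-- `N_{G¹}(U¹) = B¹` -/
theorem f4_normalizer_pos :
    Subgroup.normalizer ((chevF4.posUnipotent F ⊓ twistedF4 F θ : Subgroup (GL chevF4.Idx F)) :
      Set (GL chevF4.Idx F)) ⊓ twistedF4 F θ = chevF4.borelSubgroup F ⊓ twistedF4 F θ := by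
  have hBnorm : chevF4.borelSubgroup F ⊓ twistedF4 F θ ≤
      Subgroup.normalizer ((chevF4.posUnipotent F ⊓ twistedF4 F θ : Subgroup (GL chevF4.Idx F)) :
        Set (GL chevF4.Idx F)) := by
    intro b hb
    rw [Subgroup.mem_inf] at hb
    have hbN : b ∈ Subgroup.normalizer (chevF4.posUnipotent F : Set (GL chevF4.Idx F)) := by
      have hle : chevF4.borelSubgroup F ≤
          Subgroup.normalizer (chevF4.posUnipotent F : Set (GL chevF4.Idx F)) := by
        unfold ChevalleyDatum.borelSubgroup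
        exact sup_le Subgroup.le_normalizer (diagonalSubgroup_le_normalizer_posUnipotent chevF4 f4_mem F)
      exact hle hb.1
    rw [Subgroup.mem_set_normalizer_iff] at hbN ⊢
    intro u
    rw [SetLike.mem_coe, SetLike.mem_coe, Subgroup.mem_inf, Subgroup.mem_inf]
    constructor
    · rintro ⟨h1, h2⟩
      exact ⟨(hbN u).mp h1, Subgroup.mul_mem _ (Subgroup.mul_mem _ hb.2 h2) (Subgroup.inv_mem _ hb.2)⟩
    · rintro ⟨h1, h2⟩
      refine ⟨(hbN u).mpr h1, ?_⟩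
      have : u = b⁻¹ * (b * u * b⁻¹) * b := by group
      rw [this]
      exact Subgroup.mul_mem _ (Subgroup.mul_mem _ (Subgroup.inv_mem _ hb.2) h2) hb.2
  apply le_antisymm
  · intro g hg
    rw [Subgroup.mem_inf] at hg
    obtain ⟨hgN, hgG⟩ := hg
    obtain ⟨b, hb, n, hn, u, hu, rfl⟩ := f4_canon' hτ g hgG
    have huB : u ∈ chevF4.borelSubgroup F ⊓ twistedF4 F θ := by
      rw [Subgroup.mem_inf] at hu ⊢
      exact ⟨posUnipotent_le_borel chevF4 f4_mem F hu.1, hu.2⟩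
    have hnN : n ∈ Subgroup.normalizer
        ((chevF4.posUnipotent F ⊓ twistedF4 F θ : Subgroup (GL chevF4.Idx F)) : Set (GL chevF4.Idx F)) := by
      have : n = b⁻¹ * (b * n * u) * u⁻¹ := by group
      rw [this]
      exact Subgroup.mul_mem _ (Subgroup.mul_mem _ (Subgroup.inv_mem _ (hBnorm hb)) hgN)
        (Subgroup.inv_mem _ (hBnorm huB))
    rw [Subgroup.mem_set_normalizer_iff] at hnN
    set n₀ := nW F W8 with hn₀
    have hn₀N : n₀ ∈ chevF4.monomialSubgroup F := nW_mem_monomial F W8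
    have hn₀G : n₀ ∈ twistedF4 F θ := nW_mem_twistedF4 F hτ.two θ hτ.pos W8
    have hUV : (chevF4.posUnipotent F).map (MulAut.conj n₀).toMonoidHom = chevF4.negUnipotent F :=
      nW_W8_conj_pos
    have hn' := Subgroup.mem_inf.mp hn
    have hmove : ∀ u' ∈ chevF4.posUnipotent F ⊓ twistedF4 F θ,
        (n₀ * n) * u' * (n₀ * n)⁻¹ ∈ chevF4.posUnipotent F → u' = 1 := by
      intro u' hu' hc
      have h1 : n * u' * n⁻¹ ∈ chevF4.posUnipotent F ⊓ twistedF4 F θ := (hnN u').mp hu'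
      have h2 : n₀ * (n * u' * n⁻¹) * n₀⁻¹ ∈ chevF4.negUnipotent F := by
        rw [← hUV]
        exact ⟨_, (Subgroup.mem_inf.mp h1).1, rfl⟩
      have h3 : n₀ * (n * u' * n⁻¹) * n₀⁻¹ ∈ chevF4.posUnipotent F ⊓ chevF4.negUnipotent F := by
        refine Subgroup.mem_inf.mpr ⟨?_, h2⟩
        have e : n₀ * (n * u' * n⁻¹) * n₀⁻¹ = (n₀ * n) * u' * (n₀ * n)⁻¹ := by group
        rw [e]; exact hc
      rw [posUnipotent_inf_negUnipotent chevF4 f4_mem F, Subgroup.mem_bot] at h3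
      have : u' = (n₀ * n)⁻¹ * (n₀ * (n * u' * n⁻¹) * n₀⁻¹) * (n₀ * n) := by group
      rw [this, h3]; group
    have hconj := f4_conj_monomial hτ (n₀ * n)
      (Subgroup.mem_inf.mpr ⟨Subgroup.mul_mem _ hn₀N hn'.1, Subgroup.mul_mem _ hn₀G hn'.2⟩) hmove
    have hnU : (chevF4.posUnipotent F).map (MulAut.conj n).toMonoidHom = chevF4.posUnipotent F := by
      have e : (MulAut.conj (n₀ * n)).toMonoidHom =
          (MulAut.conj n₀).toMonoidHom.comp (MulAut.conj n).toMonoidHom := by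
        ext x; simp [MulAut.conj_apply, mul_assoc]
      rw [e, ← Subgroup.map_map, ← hUV] at hconj
      exact Subgroup.map_injective (MulAut.conj n₀).injective hconj
    have hnB : n ∈ chevF4.borelSubgroup F := by
      rw [← normalizer_posUnipotent_inf_group chevF4 f4_mem F]
      refine Subgroup.mem_inf.mpr ⟨?_, twistedF4_le_group hτ hn'.2⟩
      rw [Subgroup.mem_set_normalizer_iff]
      intro x
      constructor
      · intro hx
        rw [← hnU]
        exact ⟨x, hx, rfl⟩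
      · intro hx
        rw [← hnU] at hx
        obtain ⟨x', hx', he⟩ := hx
        simp only [MulEquiv.coe_toMonoidHom, MulAut.conj_apply] at he
        have : x' = x := by
          have e2 : x' = n⁻¹ * (n * x' * n⁻¹) * n := by group
          rw [e2, he]; group
        rw [← this]; exact hx'
    rw [Subgroup.mem_inf] at hb hu ⊢
    exact ⟨Subgroup.mul_mem _ (Subgroup.mul_mem _ hb.1 hnB) (posUnipotent_le_borel chevF4 f4_mem F hu.1),
      Subgroup.mul_mem _ (Subgroup.mul_mem _ hb.2 hn'.2) hu.2⟩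
  · exact le_inf hBnorm inf_le_right

/-- an automorphism stabilising `U` stabilises `B` -/
theorem f4_stb_borel (α : ↥(twistedF4 F θ) ≃* ↥(twistedF4 F θ)) (hU : Stb α (chevF4.posUnipotent F)) :
    Stb α (chevF4.borelSubgroup F) := by
  have h1 := (stb_inf_self hU).normalizer (inf_le_right)
  rw [f4_normalizer_pos hτ] at h1
  exact stb_of_inf_self h1

/-- the longest element, as an element of `²F₄` -/
noncomputable def n0El : ↥(twistedF4 F θ) := ⟨nW F W8, nW_mem_twistedF4 F hτ.two θ hτ.pos W8⟩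

theorem n0El_mps_pos : Mps (MulAut.conj (n0El hτ)) (chevF4.posUnipotent F) (chevF4.negUnipotent F) := by
  have := mps_conj (n0El hτ) (chevF4.posUnipotent F)
  rwa [show ((n0El hτ : ↥(twistedF4 F θ)) : GL chevF4.Idx F) = nW F W8 from rfl, nW_W8_conj_pos] at this

theorem n0El_mps_neg : Mps (MulAut.conj (n0El hτ)) (chevF4.negUnipotent F) (chevF4.posUnipotent F) := by
  have := mps_conj (n0El hτ) (chevF4.negUnipotent F)
  rwa [show ((n0El hτ : ↥(twistedF4 F θ)) : GL chevF4.Idx F) = nW F W8 from rfl, nW_W8_conj_neg] at this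

theorem n0El_mps_borel : Mps (MulAut.conj (n0El hτ)) (chevF4.borelSubgroup F) (negBorel chevF4 F) := by
  have := mps_conj (n0El hτ) (chevF4.borelSubgroup F)
  rwa [show ((n0El hτ : ↥(twistedF4 F θ)) : GL chevF4.Idx F) = nW F W8 from rfl,
    show (chevF4.borelSubgroup F).map (MulAut.conj (nW F W8)).toMonoidHom = negBorel chevF4 F from
      conj_borel_eq chevF4 f4_mem F _ longFacts_W8] at this

/-- an automorphism stabilising `U` and `V` stabilises `V H` -/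
theorem f4_stb_negBorel (α : ↥(twistedF4 F θ) ≃* ↥(twistedF4 F θ)) (hU : Stb α (chevF4.posUnipotent F))
    (hV : Stb α (chevF4.negUnipotent F)) : Stb α (negBorel chevF4 F) := by
  set c : ↥(twistedF4 F θ) ≃* ↥(twistedF4 F θ) := MulAut.conj (n0El hτ) with hc
  have hcU := n0El_mps_pos hτ
  have hcB := n0El_mps_borel hτ
  set ψ : ↥(twistedF4 F θ) ≃* ↥(twistedF4 F θ) := c.trans (α.trans c.symm) with hψ
  have hψU : Stb ψ (chevF4.posUnipotent F) := (hcU.trans (hV.toMps.trans hcU.symm)).toStb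
  have hψB := f4_stb_borel hτ ψ hψU
  have hθ : α = c.symm.trans (ψ.trans c) := by
    ext g
    simp [hψ]
  rw [hθ]
  exact (hcB.symm.trans (hψB.toMps.trans hcB)).toStb

/-- an automorphism stabilising `U` and `V` stabilises `H` -/
theorem f4_stb_diagonal (α : ↥(twistedF4 F θ) ≃* ↥(twistedF4 F θ)) (hU : Stb α (chevF4.posUnipotent F))
    (hV : Stb α (chevF4.negUnipotent F)) : Stb α (chevF4.diagonalSubgroup F) := by
  have := (f4_stb_borel hτ α hU).inf (f4_stb_negBorel hτ α hU hV)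
  rwa [Cfsg.Agent.Lib.Lead.Stein.borel_inf_negBorel chevF4 f4_mem F] at this

/-- `n_J` does not lie in `B` -/
theorem nJ_not_mem_borel (J : Fin 2) : nJ F J ∉ chevF4.borelSubgroup F := by
  intro hn
  obtain ⟨x, hx, hx1⟩ := exists_ne_one_XJ hτ J
  rw [Subgroup.mem_inf] at hx
  have h1 : nJ F J * x * (nJ F J)⁻¹ ∈ chevF4.negUnipotent F := conj_nJ_XJ_mem_neg hτ J x hx.1
  have hxU : x ∈ chevF4.posUnipotent F := XJ_le_pos J hx.1
  have h2 : nJ F J * x * (nJ F J)⁻¹ ∈ chevF4.borelSubgroup F ⊓ chevF4.negUnipotent F := by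
    refine Subgroup.mem_inf.mpr ⟨?_, h1⟩
    exact Subgroup.mul_mem _ (Subgroup.mul_mem _ hn (posUnipotent_le_borel chevF4 f4_mem F hxU))
      (Subgroup.inv_mem _ hn)
  rw [borel_inf_negUnipotent chevF4 f4_mem F, Subgroup.mem_bot] at h2
  apply hx1
  have : x = (nJ F J)⁻¹ * (nJ F J * x * (nJ F J)⁻¹) * nJ F J := by group
  rw [this, h2]; group

/-- the elements of `V ∩ B¹ n_J B¹` are the conjugates `n_J x n_J⁻¹`, `x ∈ X_J¹` -/
theorem f4_neg_inf_cell (J : Fin 2) (y b b' : GL chevF4.Idx F) (hy' : y ∈ chevF4.negUnipotent F)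
    (hb : b ∈ chevF4.borelSubgroup F ⊓ fixTau F τ) (hb' : b' ∈ chevF4.borelSubgroup F ⊓ fixTau F τ)
    (he : y = b * nJ F J * b') :
    ∃ x ∈ XJ F J ⊓ fixTau F τ, y = nJ F J * x * (nJ F J)⁻¹ := by
  classical
  obtain ⟨n, hn⟩ : ∃ n, n = nJ F J := ⟨_, rfl⟩
  have hnB : n ∉ chevF4.borelSubgroup F := by rw [hn]; exact nJ_not_mem_borel hτ J
  have hnN : n ∈ chevF4.monomialSubgroup F := by rw [hn]; exact nJ_mem_monomial F J
  have hnG : n ∈ fixTau F τ := by rw [hn]; exact nJ_mem_fixTau hτ J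
  have hBV := borel_inf_negUnipotent chevF4 f4_mem F
  obtain ⟨X, hX⟩ : ∃ X, X = XJ F J ⊓ fixTau F τ := ⟨_, rfl⟩
  have hXV : ∀ x ∈ X, n * x * n⁻¹ ∈ chevF4.negUnipotent F := by
    intro x hx
    rw [hX] at hx
    rw [hn]
    exact conj_nJ_XJ_mem_neg hτ J x (Subgroup.mem_inf.mp hx).1
  have hXU : ∀ x ∈ X, x ∈ chevF4.borelSubgroup F := by
    intro x hx
    rw [hX] at hx
    exact posUnipotent_le_borel chevF4 f4_mem F (XJ_le_pos J (Subgroup.mem_inf.mp hx).1)
  have hrank : ∀ x ∈ X, x ≠ 1 → ∃ x₂ ∈ X, x₂ ≠ 1 ∧ ∃ b₁ ∈ chevF4.borelSubgroup F ⊓ fixTau F τ,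
      n * x * n⁻¹ = b₁ * n * x₂ := by
    intro x hx hx1
    rw [hX] at hx
    obtain ⟨b₁, hb₁, x₂, hx₂, h1⟩ := rank_one hτ J x hx hx1
    rw [← hn] at h1
    refine ⟨x₂, by rw [hX]; exact hx₂, ?_, b₁, hb₁, h1⟩
    rintro rfl
    rw [mul_one] at h1
    have hsq : n * n ∈ chevF4.borelSubgroup F := by
      have := (closureData hτ).sq J
      rw [show sJ F J = nJ F J from rfl, ← hn] at this
      exact (Subgroup.mem_inf.mp this).1
    apply hnB
    have e : n = b₁ * (n * n) * x⁻¹ := by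
      have : n * x = b₁ * n * n := by
        have e2 : n * x = (n * x * n⁻¹) * n := by group
        rw [e2, h1]
      calc n = (n * x) * x⁻¹ := by group
        _ = b₁ * (n * n) * x⁻¹ := by rw [this]; group
    rw [e]
    have hxX : x ∈ X := by rw [hX]; exact hx
    exact Subgroup.mul_mem _ (Subgroup.mul_mem _ (Subgroup.mem_inf.mp hb₁).1 hsq)
      (Subgroup.inv_mem _ (hXU x hxX))
  obtain ⟨c, hc, x, hx, hb'e, hcn⟩ := borel_decomp hτ J b' hb'
  rw [← hn] at hcn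
  have hxX : x ∈ X := by rw [hX]; exact hx
  obtain ⟨b₃, hb₃⟩ : ∃ b₃, b₃ = b * (n * c * n⁻¹) := ⟨_, rfl⟩
  have hb₃B : b₃ ∈ chevF4.borelSubgroup F ⊓ fixTau F τ := by
    rw [hb₃]; exact Subgroup.mul_mem _ hb hcn
  have hy : y = b₃ * n * x := by
    rw [he, ← hn, hb'e, hb₃]; group
  by_cases hx1 : x = 1
  · exfalso
    rw [hx1, mul_one] at hy
    apply hnB
    have h1 : n⁻¹ ∈ chevF4.borelSubgroup F := by
      apply monomial_mem_borel_of_big chevF4 f4_mem F n⁻¹ y⁻¹ b₃ (Subgroup.inv_mem _ hnN)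
        (Subgroup.inv_mem _ hy') (Subgroup.mem_inf.mp hb₃B).1
      rw [hy]; group
    have := Subgroup.inv_mem _ h1
    rwa [inv_inv] at this
  · have hfinGL : Finite (GL chevF4.Idx F) := by
      have : Finite (Matrix chevF4.Idx chevF4.Idx F) := inferInstance
      exact Finite.of_injective (fun g : GL chevF4.Idx F => (g : Matrix chevF4.Idx chevF4.Idx F))
        Units.val_injective
    have hfinT : Finite {x : GL chevF4.Idx F // x ∈ X ∧ x ≠ 1} := Subtype.finite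
    have hch : ∀ t : {x : GL chevF4.Idx F // x ∈ X ∧ x ≠ 1},
        ∃ t' : {x : GL chevF4.Idx F // x ∈ X ∧ x ≠ 1},
        ∃ b₁ ∈ chevF4.borelSubgroup F ⊓ fixTau F τ, n * t.1 * n⁻¹ = b₁ * n * t'.1 := by
      rintro ⟨t, ht, ht1⟩
      obtain ⟨x₂, hx₂, hx₂1, b₁, hb₁, h1⟩ := hrank t ht ht1
      exact ⟨⟨x₂, hx₂, hx₂1⟩, b₁, hb₁, h1⟩
    choose f hf using hch
    have hinj : Function.Injective f := by
      intro t t' htt
      obtain ⟨b₁, hb₁, h1⟩ := hf t
      obtain ⟨b₁', hb₁', h1'⟩ := hf t'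
      rw [htt] at h1
      have e : n * (t.1 * t'.1⁻¹) * n⁻¹ = b₁ * b₁'⁻¹ := by
        have : n * (t.1 * t'.1⁻¹) * n⁻¹ = (n * t.1 * n⁻¹) * (n * t'.1 * n⁻¹)⁻¹ := by group
        rw [this, h1, h1']; group
      have h2 : n * (t.1 * t'.1⁻¹) * n⁻¹ ∈ chevF4.borelSubgroup F ⊓ chevF4.negUnipotent F := by
        refine Subgroup.mem_inf.mpr ⟨?_, hXV _ (Subgroup.mul_mem _ t.2.1 (Subgroup.inv_mem _ t'.2.1))⟩
        rw [e]
        exact Subgroup.mul_mem _ (Subgroup.mem_inf.mp hb₁).1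
          (Subgroup.inv_mem _ (Subgroup.mem_inf.mp hb₁').1)
      rw [hBV, Subgroup.mem_bot] at h2
      have h3 : t.1 * t'.1⁻¹ = 1 := by
        have : t.1 * t'.1⁻¹ = n⁻¹ * (n * (t.1 * t'.1⁻¹) * n⁻¹) * n := by group
        rw [this, h2]; group
      exact Subtype.ext (mul_inv_eq_one.mp h3)
    have hsurj := Finite.surjective_of_injective hinj
    obtain ⟨t, ht⟩ := hsurj ⟨x, hxX, hx1⟩
    obtain ⟨b₁, hb₁, h1⟩ := hf t
    rw [ht] at h1
    refine ⟨t.1, by rw [← hX]; exact t.2.1, ?_⟩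
    rw [← hn]
    have e : y = (b₃ * b₁⁻¹) * (n * t.1 * n⁻¹) := by
      rw [hy, h1]; group
    have h2 : b₃ * b₁⁻¹ ∈ chevF4.borelSubgroup F ⊓ chevF4.negUnipotent F := by
      refine Subgroup.mem_inf.mpr ⟨Subgroup.mul_mem _ (Subgroup.mem_inf.mp hb₃B).1
        (Subgroup.inv_mem _ (Subgroup.mem_inf.mp hb₁).1), ?_⟩
      have : b₃ * b₁⁻¹ = y * (n * t.1 * n⁻¹)⁻¹ := by rw [e]; group
      rw [this]
      exact Subgroup.mul_mem _ hy' (Subgroup.inv_mem _ (hXV _ t.2.1))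
    rw [hBV, Subgroup.mem_bot] at h2
    rw [e, h2, one_mul]

/-- the negative rank one group `Y_J = n_J X_J¹ n_J⁻¹` -/
noncomputable def YJ (F : Type*) [Field F] (τ : ↥(chevF4.group F) ≃* ↥(chevF4.group F)) (J : Fin 2) :
    Subgroup (GL chevF4.Idx F) :=
  (XJ F J ⊓ fixTau F τ).map (MulAut.conj (nJ F J)).toMonoidHom

open Cfsg.Agent.Lib.Helper7.F4O in
/-- membership in `Y_J`: the elements of `V` in the minimal parabolic subgroup `P_J` -/
theorem mem_YJ_iff (J : Fin 2) (g : ↥(twistedF4 F θ)) :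
    (g : GL chevF4.Idx F) ∈ YJ F τ J ↔
      (g : GL chevF4.Idx F) ∈ chevF4.negUnipotent F ∧ g ∈ (f4BNPair hτ).parabolic {sEl hτ J} := by
  obtain ⟨P, hP⟩ : ∃ P, P = f4BNPair hτ := ⟨_, rfl⟩
  rw [← hP]
  obtain ⟨s, hs⟩ : ∃ s, s = sEl hτ J := ⟨_, rfl⟩
  rw [← hs]
  have hsS : s ∈ P.S := by rw [hP, hs]; exact sEl_mem hτ J
  have hPB : ∀ x : ↥(twistedF4 F θ), x ∈ P.B ↔ (x : GL chevF4.Idx F) ∈ chevF4.borelSubgroup F := by
    intro x; rw [hP]; exact mem_B_iff hτ x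
  constructor
  · rintro ⟨x, hx, he⟩
    simp only [MulEquiv.coe_toMonoidHom, MulAut.conj_apply] at he
    have hxc : x ∈ XJ F J := (Subgroup.mem_inf.mp hx).1
    have hxG : x ∈ twistedF4 F θ := by rw [← fixTau_eq hτ]; exact (Subgroup.mem_inf.mp hx).2
    refine ⟨?_, ?_⟩
    · rw [← he]
      exact conj_nJ_XJ_mem_neg hτ J x hxc
    · have hxB : x ∈ chevF4.borelSubgroup F := posUnipotent_le_borel chevF4 f4_mem F (XJ_le_pos J hxc)
      have hgs : g = s * ⟨x, hxG⟩ * s⁻¹ := by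
        apply Subtype.ext
        rw [hs]
        exact he.symm
      rw [hgs]
      have h1 : s ∈ P.parabolic {s} :=
        (le_sup_right : Subgroup.closure _ ≤ _) (Subgroup.subset_closure rfl)
      have h2 : (⟨x, hxG⟩ : ↥(twistedF4 F θ)) ∈ P.parabolic {s} :=
        (le_sup_left : P.B ≤ _) ((hPB _).mpr hxB)
      exact Subgroup.mul_mem _ (Subgroup.mul_mem _ h1 h2) (Subgroup.inv_mem _ h1)
  · rintro ⟨hgV, hgP⟩
    rcases mem_parabolic_singleton P hsS g hgP with hgB | ⟨b, hb, b', hb', he⟩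
    · have h1 : (g : GL chevF4.Idx F) ∈ chevF4.borelSubgroup F ⊓ chevF4.negUnipotent F :=
        Subgroup.mem_inf.mpr ⟨(hPB g).mp hgB, hgV⟩
      rw [borel_inf_negUnipotent chevF4 f4_mem F, Subgroup.mem_bot] at h1
      rw [h1]; exact Subgroup.one_mem _
    · have hbf : (b : GL chevF4.Idx F) ∈ chevF4.borelSubgroup F ⊓ fixTau F τ :=
        Subgroup.mem_inf.mpr ⟨(hPB b).mp hb, by rw [fixTau_eq hτ]; exact b.2⟩
      have hbf' : (b' : GL chevF4.Idx F) ∈ chevF4.borelSubgroup F ⊓ fixTau F τ :=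
        Subgroup.mem_inf.mpr ⟨(hPB b').mp hb', by rw [fixTau_eq hτ]; exact b'.2⟩
      obtain ⟨x, hx, hxe⟩ := f4_neg_inf_cell hτ J (g : GL chevF4.Idx F) (b : GL chevF4.Idx F)
        (b' : GL chevF4.Idx F) hgV hbf hbf' (by rw [he, hs]; rfl)
      exact ⟨x, hx, hxe.symm⟩

theorem YJ_le (J : Fin 2) : YJ F τ J ≤ twistedF4 F θ := by
  rintro _ ⟨x, hx, rfl⟩
  simp only [MulEquiv.coe_toMonoidHom, MulAut.conj_apply]
  rw [← fixTau_eq hτ]
  exact Subgroup.mul_mem _ (Subgroup.mul_mem _ (nJ_mem_fixTau hτ J) (Subgroup.mem_inf.mp hx).2)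
    (Subgroup.inv_mem _ (nJ_mem_fixTau hτ J))

theorem card_YJ (J : Fin 2) : Nat.card ↥(YJ F τ J) = Nat.card ↥(XJ F J ⊓ fixTau F τ) := by
  unfold YJ
  exact Nat.card_congr ((XJ F J ⊓ fixTau F τ).equivMapOfInjective _ (MulAut.conj (nJ F J)).injective).symm.toEquiv

open Cfsg.Agent.Lib.Helper7.F4O in
/-- an automorphism stabilising `U` and `V` stabilises the groups `Y_J` -/
theorem f4_stb_YJ (α : ↥(twistedF4 F θ) ≃* ↥(twistedF4 F θ)) (hU : Stb α (chevF4.posUnipotent F))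
    (hV : Stb α (chevF4.negUnipotent F)) (J : Fin 2) : Stb α (YJ F τ J) := by
  obtain ⟨P, hP⟩ : ∃ P, P = f4BNPair hτ := ⟨_, rfl⟩
  have hBst := f4_stb_borel hτ α hU
  have hB' : P.B.map α.toMonoidHom = P.B := by
    rw [hP]
    exact map_eq_of_stb α _ (stb_inf_self hBst)
  have hsS : sEl hτ J ∈ P.S := by rw [hP]; exact sEl_mem hτ J
  obtain ⟨s', hs', hmap⟩ := exists_parabolic_map P α hB' hsS
  rw [hP] at hs'
  obtain ⟨J', hJ'⟩ := hs'
  have hs'e : s' = sEl hτ J' := Subtype.ext hJ'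
  have hmps : Mps α (YJ F τ J) (YJ F τ J') := by
    intro g
    rw [mem_YJ_iff hτ J' (α g), mem_YJ_iff hτ J g, hV g, ← hP, ← hs'e, ← hmap]
    constructor
    · rintro ⟨h1, g', hg', he⟩
      have : g' = g := α.injective he
      rw [this] at hg'; exact ⟨h1, hg'⟩
    · rintro ⟨h1, h2⟩
      exact ⟨h1, g, h2, rfl⟩
  have hcard := card_eq_of_mps (YJ_le hτ J) (YJ_le hτ J') hmps
  rw [card_YJ hτ, card_YJ hτ] at hcard
  have hF : 1 < Nat.card F := by
    rw [Nat.card_eq_fintype_card]; exact Fintype.one_lt_card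
  have hJJ : J = J' := by
    have e0 := card_XJ_zero_inf_fixTau hτ
    have e1 := card_XJ_one_inf_fixTau hτ
    have hlt : Nat.card F < Nat.card F ^ 2 := by
      calc Nat.card F = Nat.card F ^ 1 := (pow_one _).symm
        _ < Nat.card F ^ 2 := Nat.pow_lt_pow_right hF (by norm_num)
    fin_cases J <;> fin_cases J'
    · rfl
    · exfalso
      have h : Nat.card ↥(XJ F 0 ⊓ fixTau F τ) = Nat.card ↥(XJ F 1 ⊓ fixTau F τ) := hcard
      omega
    · exfalso
      have h : Nat.card ↥(XJ F 1 ⊓ fixTau F τ) = Nat.card ↥(XJ F 0 ⊓ fixTau F τ) := hcard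
      omega
    · rfl
  rw [← hJJ] at hmps
  exact hmps.toStb

/-- `n₀ Y_J n₀⁻¹ = X_J¹` -/
theorem n0_conj_YJ (J : Fin 2) :
    (YJ F τ J).map (MulAut.conj (nW F W8)).toMonoidHom = XJ F J ⊓ fixTau F τ := by
  have hn : nW F (W8 ++ [J.val]) = nW F W8 * nJ F J := by
    rw [nW_append, nW_cons, nW_nil, mul_one]
  have hXL : XL F ((clsJ J).map (reflWord chevF4 (flatW (W8 ++ [J.val])))) = XJ F J :=
    le_antisymm (XL_mono _ _ (tab_opp J).1) (XL_mono _ _ (tab_opp J).2)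
  unfold YJ
  rw [Subgroup.map_map]
  have e : (MulAut.conj (nW F W8)).toMonoidHom.comp (MulAut.conj (nJ F J)).toMonoidHom =
      (MulAut.conj (nW F (W8 ++ [J.val]))).toMonoidHom := by
    rw [hn, map_mul]; rfl
  rw [e]
  apply le_antisymm
  · rintro _ ⟨x, hx, rfl⟩
    simp only [MulEquiv.coe_toMonoidHom, MulAut.conj_apply]
    have := conj_mem_fix hτ (clsJ J) (clsJ_lt J) (W8 ++ [J.val]) x hx
    rwa [hXL] at this
  · intro y hy
    have hy' : y ∈ XL F ((clsJ J).map (reflWord chevF4 (flatW (W8 ++ [J.val])))) ⊓ fixTau F τ := by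
      rw [hXL]; exact hy
    refine ⟨_, conj_mem_fix' hτ (clsJ J) (clsJ_lt J) (W8 ++ [J.val]) y hy', ?_⟩
    simp only [MulEquiv.coe_toMonoidHom, MulAut.conj_apply]
    group

/-- an automorphism stabilising `U` and `V` stabilises the groups `X_J¹` -/
theorem f4_stb_XJ (α : ↥(twistedF4 F θ) ≃* ↥(twistedF4 F θ)) (hU : Stb α (chevF4.posUnipotent F))
    (hV : Stb α (chevF4.negUnipotent F)) (J : Fin 2) : Stb α (XJ F J ⊓ fixTau F τ) := by
  set c : ↥(twistedF4 F θ) ≃* ↥(twistedF4 F θ) := MulAut.conj (n0El hτ) with hc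
  have hcU := n0El_mps_pos hτ
  have hcV := n0El_mps_neg hτ
  have hcY : Mps c (YJ F τ J) (XJ F J ⊓ fixTau F τ) := by
    have := mps_conj (n0El hτ) (YJ F τ J)
    rwa [show ((n0El hτ : ↥(twistedF4 F θ)) : GL chevF4.Idx F) = nW F W8 from rfl, n0_conj_YJ hτ J] at this
  set ψ : ↥(twistedF4 F θ) ≃* ↥(twistedF4 F θ) := c.trans (α.trans c.symm) with hψ
  have hψU : Stb ψ (chevF4.posUnipotent F) := (hcU.trans (hV.toMps.trans hcU.symm)).toStb
  have hψV : Stb ψ (chevF4.negUnipotent F) := (hcV.trans (hU.toMps.trans hcV.symm)).toStb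
  have hψY := f4_stb_YJ hτ ψ hψU hψV J
  have hθ : α = c.symm.trans (ψ.trans c) := by
    ext g
    simp [hψ]
  rw [hθ]
  exact (hcY.symm.trans (hψY.toMps.trans hcY)).toStb

end

end Cfsg.Agent.Lib.Helper11.F4T
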