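import Cfsg.Agent.Lib.Helper11.F4AutB

/-! `²F₄(q)`: the rank one homomorphism `SL₂(q) → ⟨X_{J₁}¹, Y_{J₁}¹⟩` and the action of a normalised
automorphism on the root elements `x_{p₁}(t^θ) x_{p₄}(t)` (helper11). -/

set_option autoImplicit false
set_option linter.unusedSectionVars false
set_option maxRecDepth 100000

namespace Cfsg.Agent.Lib.Helper11.F4T

open Cfsg Cfsg.Lie Matrix Cfsg.Agent.Lib.Helper7 Cfsg.Agent.Lib.Helper11 Cfsg.Agent.Lib.Helper11.Isog
open Cfsg.Agent.Lib.Lead.TwStein Cfsg.Agent.Lib.Helper3.BN Cfsg.Agent.Lib.Lead.Stein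
open Cfsg.Agent.Lib.Helper11.SL2Hom

theorem simpClass_F4_0 : SimpClassFacts chevF4 [0, 3] := simpClassFacts_of_B _ _ (by decide +kernel)

theorem simple_F4 : [0, 3].map chevF4.simple = [33, 24] ∧ chevF4.neg 33 = 14 ∧ chevF4.neg 24 = 23 := by
  decide

section
variable {F : Type*} [Field F]
variable {τ : ↥(chevF4.group F) ≃* ↥(chevF4.group F)} {θ : ℕ} (hτ : TauData F τ θ)

/-- the ring homomorphism `t ↦ t^θ` -/
noncomputable def thetaHom : F →+* F where
  toFun t := t ^ θ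
  map_one' := one_pow θ
  map_mul' x y := mul_pow x y θ
  map_zero' := zero_pow hτ.pos.ne'
  map_add' := hτ.add_pow

theorem thetaHom_apply (t : F) : thetaHom hτ t = t ^ θ := rfl

/-- the twisting ring homomorphisms on the class `{p₁, p₄}` -/
noncomputable def sig0 : ℕ → F →+* F := fun r => if r = 33 then thetaHom hτ else RingHom.id F

/-- the rank one homomorphism of the class `{p₁, p₄}` -/
noncomputable def psi0 : SpecialLinearGroup (Fin 2) F →* GL chevF4.Idx F :=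
  classHom chevF4 f4_mem F [0, 3] simpClass_F4_0 (sig0 hτ)

theorem psi0_xS (t : F) : psi0 hτ (xS t) = pairU θ t := by
  unfold psi0
  rw [classHom_xS, simple_F4.1, pairU_eq]
  unfold ordProd wordGL
  simp only [List.map_cons, List.map_nil, List.prod_cons, List.prod_nil, mul_one]
  rfl

theorem psi0_yS (t : F) : psi0 hτ (yS t) = pairV θ t := by
  unfold psi0
  rw [classHom_yS, simple_F4.1, pairV_eq]
  simp only [List.map_cons, List.map_nil, List.prod_cons, List.prod_nil, mul_one]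
  rw [simple_F4.2.1, simple_F4.2.2]
  rfl

theorem psi0_wS : psi0 hτ wS = nJ F 0 := by
  unfold psi0
  rw [classHom_wS]
  rfl

end

section
variable {F : Type*} [Field F] [Fintype F]
variable {τ : ↥(chevF4.group F) ≃* ↥(chevF4.group F)} {θ : ℕ} (hτ : TauData F τ θ)

theorem psi0_mem (g : SpecialLinearGroup (Fin 2) F) : psi0 hτ g ∈ twistedF4 F θ := by
  have hg : g ∈ Subgroup.closure (Set.range (xS : F → SpecialLinearGroup (Fin 2) F) ∪ Set.range yS) := by
    rw [closure_xS_yS]; trivial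
  induction hg using Subgroup.closure_induction with
  | mem x hx' =>
    rcases hx' with ⟨t, rfl⟩ | ⟨t, rfl⟩
    · rw [psi0_xS]; exact pairU_mem_twistedF4 θ t
    · rw [psi0_yS]; exact pairV_mem_twistedF4 θ t
  | one => rw [map_one]; exact Subgroup.one_mem _
  | mul a b _ _ iha ihb => rw [map_mul]; exact Subgroup.mul_mem _ iha ihb
  | inv a _ iha => rw [map_inv]; exact Subgroup.inv_mem _ iha

theorem psi0_yS_eq (t : F) : psi0 hτ (yS t) = nJ F 0 * psi0 hτ (xS (-t)) * (nJ F 0)⁻¹ := by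
  unfold psi0
  rw [classHom_yS_eq]
  rfl

/-- the rank one homomorphism of the class `{p₁, p₄}` satisfies the hypotheses of the rank one analysis -/
theorem f4R0 : RankOneHom (twistedF4 F θ) (chevF4.negUnipotent F) (chevF4.borelSubgroup F)
    (XJ F 0 ⊓ fixTau F τ) (YJ F τ 0) (psi0 hτ) := by
  refine ⟨psi0_mem hτ, ?_, ?_, ?_, ?_, ?_, ?_, ?_, ?_, ?_⟩
  · intro x
    rw [XJ_zero_inf_fixTau hτ]
    constructor
    · rintro ⟨t, rfl⟩; exact ⟨t, (psi0_xS hτ t).symm⟩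
    · rintro ⟨t, rfl⟩; exact ⟨t, psi0_xS hτ t⟩
  · intro y
    constructor
    · rintro ⟨x, hx, rfl⟩
      obtain ⟨t, rfl⟩ := (XJ_zero_inf_fixTau hτ x).mp hx
      refine ⟨-t, ?_⟩
      rw [psi0_yS_eq, neg_neg, psi0_xS]
      rfl
    · rintro ⟨t, rfl⟩
      rw [psi0_yS_eq, psi0_xS]
      exact ⟨_, (XJ_zero_inf_fixTau hτ _).mpr ⟨-t, rfl⟩, rfl⟩
  · intro t t' h
    rw [psi0_xS, psi0_xS] at h
    exact pairU_inj θ t t' h
  · intro t t' h
    rw [psi0_yS_eq, psi0_yS_eq, psi0_xS, psi0_xS] at h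
    have h' : pairU θ (-t) = pairU θ (-t') := by
      have := congrArg (fun g => (nJ F 0)⁻¹ * g * nJ F 0) h
      beta_reduce at this
      have e : ∀ z : GL chevF4.Idx F, (nJ F 0)⁻¹ * (nJ F 0 * z * (nJ F 0)⁻¹) * nJ F 0 = z :=
        fun z => by group
      rwa [e, e] at this
    exact neg_injective (pairU_inj θ _ _ h')
  · exact fun x hx => posUnipotent_le_borel chevF4 f4_mem F (XJ_le_pos 0 (Subgroup.mem_inf.mp hx).1)
  · rintro y ⟨x, hx, rfl⟩
    simp only [MulEquiv.coe_toMonoidHom, MulAut.conj_apply]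
    exact conj_nJ_XJ_mem_neg hτ 0 x (Subgroup.mem_inf.mp hx).1
  · intro s hs
    exact diagonal_le_borel chevF4 f4_mem F (classHom_hS_mem chevF4 f4_mem F _ simpClass_F4_0 _ s hs)
  · intro s hs v hv
    have hh : (psi0 hτ (hS s hs))⁻¹ ∈ chevF4.diagonalSubgroup F :=
      Subgroup.inv_mem _ (classHom_hS_mem chevF4 f4_mem F _ simpClass_F4_0 _ s hs)
    have hN := diagonalSubgroup_le_normalizer_negUnipotent chevF4 f4_mem F hh
    rw [Subgroup.mem_set_normalizer_iff] at hN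
    have := (hN v).mp hv
    rwa [inv_inv] at this
  · intro v hv b hb he
    rw [psi0_wS] at he
    exact nJ_not_mem_borel hτ 0
      (monomial_mem_borel_of_big chevF4 f4_mem F _ v b (nJ_mem_monomial F 0) hv hb he)

/-- a normalised automorphism acts on the root elements of the class `{p₁, p₄}` through a scalar and a
field automorphism -/
theorem f4_pair_params (α : ↥(twistedF4 F θ) ≃* ↥(twistedF4 F θ)) (hU : Stb α (chevF4.posUnipotent F))
    (hV : Stb α (chevF4.negUnipotent F)) :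
    ∃ (c : F) (σ : F ≃+* F) (hc : c ≠ 0),
      (∀ t, ((α ⟨pairU θ t, pairU_mem_twistedF4 θ t⟩ : ↥(twistedF4 F θ)) : GL chevF4.Idx F) =
        pairU θ (c * σ t)) ∧
      (∀ t, ((α ⟨pairV θ t, pairV_mem_twistedF4 θ t⟩ : ↥(twistedF4 F θ)) : GL chevF4.Idx F) =
        pairV θ (c⁻¹ * σ t)) ∧
      ((α ⟨nJ F 0, nJ_mem_twistedF4 F hτ.two θ hτ.pos 0⟩ : ↥(twistedF4 F θ)) : GL chevF4.Idx F) =
        psi0 hτ (hS c hc) * nJ F 0 := by
  have R := f4R0 hτ
  obtain ⟨c, σ, hc, h1, h2⟩ := R.exists_field α hV (f4_stb_borel hτ α hU)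
    (f4_stb_XJ hτ α hU hV 0).toMps (f4_stb_YJ hτ α hU hV 0).toMps
  refine ⟨c, σ, hc, ?_, ?_, ?_⟩
  · intro t
    have e : (⟨pairU θ t, pairU_mem_twistedF4 θ t⟩ : ↥(twistedF4 F θ)) = ⟨psi0 hτ (xS t), R.mem _⟩ :=
      Subtype.ext (psi0_xS hτ t).symm
    rw [e, h1, psi0_xS]
  · intro t
    have e : (⟨pairV θ t, pairV_mem_twistedF4 θ t⟩ : ↥(twistedF4 F θ)) = ⟨psi0 hτ (yS t), R.mem _⟩ :=
      Subtype.ext (psi0_yS hτ t).symm
    rw [e, h2, psi0_yS]
  · have e : nJ F 0 = psi0 hτ (xS 1 * yS (-1) * xS 1) := by rw [← wS_eq, psi0_wS]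
    have e2 : (⟨nJ F 0, nJ_mem_twistedF4 F hτ.two θ hτ.pos 0⟩ : ↥(twistedF4 F θ)) =
        ⟨psi0 hτ (xS 1 * yS (-1) * xS 1), R.mem _⟩ := Subtype.ext e
    rw [e2, R.map_mul', R.map_mul', h1, h2, map_one, map_neg, map_one, mul_one, ← map_mul, ← map_mul,
      ← psi0_wS hτ, ← map_mul]
    congr 1
    rw [hS_mul_wS]
    congr 2
    rw [mul_neg, mul_one]

end

end Cfsg.Agent.Lib.Helper11.F4T
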