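import Cfsg.Agent.Lib.Helper11.F4GenB

/-! The rigidity of the parameter functions of an automorphism of a root group of Suzuki type: pure
algebra over a field with a Tits endomorphism (helper11). -/

set_option autoImplicit false
set_option linter.unusedSectionVars false

namespace Cfsg.Agent.Lib.Helper11.F4T

open Cfsg Cfsg.Lie Matrix Cfsg.Agent.Lib.Helper7 Cfsg.Agent.Lib.Helper11 Cfsg.Agent.Lib.Helper11.Isog

section
variable {F : Type*} [Field F]
variable {τ : ↥(chevF4.group F) ≃* ↥(chevF4.group F)} {θ : ℕ} (hτ : TauData F τ θ)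
include hτ

/-- every element is a `(θ+1)`-th power -/
theorem exists_pow_theta_succ (u : F) : ∃ v : F, v ^ (θ + 1) = u := by
  by_cases hu : u = 0
  · exact ⟨0, by rw [hu, zero_pow (by omega)]⟩
  · refine ⟨u ^ 2 / u ^ (2 * θ), ?_⟩
    have h0 : u ^ (2 * θ) ≠ 0 := pow_ne_zero _ hu
    rw [div_pow, div_eq_iff (pow_ne_zero _ h0)]
    have e1 : (u ^ (2 * θ)) ^ (θ + 1) = u * u ^ (2 * θ) := by
      rw [← pow_mul]
      have : 2 * θ * (θ + 1) = 2 * θ * θ + 2 * θ := by ring
      rw [this, pow_add, hτ.pow]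
    have e2 : (u ^ 2) ^ (θ + 1) = u * (u * u ^ (2 * θ)) := by
      rw [← pow_mul]
      have : 2 * (θ + 1) = 2 * θ + 1 + 1 := by ring
      rw [this, pow_succ, pow_succ]; ring
    rw [e1, e2]

/-- the rigidity of the parameter functions -/
theorem suz_rigid_alg (g k : F → F → F) (a : F) (σ : F ≃+* F) (ha : a ≠ 0)
    (hne : ∃ κ : F, κ ≠ 0 ∧ κ ≠ 1)
    (H : ∀ t u t' u', g (t + t') (u + u' + t ^ θ * t') = g t u + g t' u' ∧
      k (t + t') (u + u' + t ^ θ * t') = k t u + k t' u' + (g t u) ^ θ * g t' u')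
    (S5 : ∀ t, g t 0 = a * σ t)
    (S4 : ∀ κ : F, κ ≠ 0 → ∃ κ' : F, ∀ t u, g (κ * t) (κ ^ (θ + 1) * u) = κ' * g t u ∧
      k (κ * t) (κ ^ (θ + 1) * u) = κ' ^ (θ + 1) * k t u) (t u : F) :
    g t u = a * σ t ∧ k t u = a ^ (θ + 1) * σ u := by
  have h2 : ∀ x : F, x + x = 0 := fun x => by linear_combination x * hτ.two
  have hσpow : ∀ (x : F) (n : ℕ), σ (x ^ n) = σ x ^ n := fun x n => map_pow σ x n
  -- the values on the centre
  have hcen : ∀ u, g 0 u = 0 ∧ k 0 u = a ^ (θ + 1) * σ u := by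
    intro u
    obtain ⟨v, hv⟩ := exists_pow_theta_succ hτ u
    have := H v 0 v 0
    rw [h2 v, add_zero, zero_add, ← pow_succ, hv, S5 v] at this
    obtain ⟨e1, e2⟩ := this
    refine ⟨by rw [e1, h2], ?_⟩
    rw [e2, h2, zero_add, ← pow_succ, mul_pow, ← hσpow, hv]
  have hg : ∀ t u, g t u = a * σ t := by
    intro t u
    have := (H t 0 0 u).1
    rw [add_zero, zero_add, mul_zero, add_zero, (hcen u).1, add_zero, S5 t] at this
    exact this
  -- the remaining part of `k`
  have hk : ∀ t u, k t u = k t 0 + a ^ (θ + 1) * σ u := by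
    intro t u
    have := (H t 0 0 u).2
    rw [add_zero, zero_add, mul_zero, add_zero, (hcen u).1, mul_zero, add_zero, (hcen u).2] at this
    exact this
  have hadd : ∀ t t', k (t + t') 0 = k t 0 + k t' 0 := by
    intro t t'
    have := (H t 0 t' 0).2
    rw [add_zero, zero_add, hk (t + t'), hg t 0, hg t' 0] at this
    have e : (a * σ t) ^ θ * (a * σ t') = a ^ (θ + 1) * σ (t ^ θ * t') := by
      rw [map_mul, hσpow, mul_pow, pow_succ]; ring
    rw [e] at this
    exact add_right_cancel this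
  have hk0 : k 0 0 = 0 := by
    have := hadd 0 0
    rw [add_zero] at this
    have h3 : k 0 0 + k 0 0 = 0 := h2 _
    rw [h3] at this
    exact this
  have hscal : ∀ κ : F, κ ≠ 0 → ∀ t, k (κ * t) 0 = σ κ ^ (θ + 1) * k t 0 := by
    intro κ hκ t
    obtain ⟨κ', hκ'⟩ := S4 κ hκ
    have h1 := (hκ' 1 0).1
    rw [mul_one, mul_zero, hg, hg, map_one, mul_one] at h1
    have hκe : κ' = σ κ := by
      have : κ' * a = σ κ * a := by rw [← h1]; ring
      exact mul_right_cancel₀ ha this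
    have h3 := (hκ' t 0).2
    rw [mul_zero, hκe] at h3
    exact h3
  obtain ⟨κ, hκ0, hκ1⟩ := hne
  have hκ1' : κ + 1 ≠ 0 := by
    intro h
    apply hκ1
    have : κ = κ + (1 + 1) := by rw [h2 1, add_zero]
    rw [this, ← add_assoc, h, zero_add]
  have hξ1 : k 1 0 = 0 := by
    have e1 := hscal κ hκ0 1
    have e2 := hscal (κ + 1) hκ1' 1
    rw [mul_one] at e1 e2
    rw [hadd, e1] at e2
    have e0 : (κ + 1) ^ (θ + 1) = κ ^ (θ + 1) + κ ^ θ + κ + 1 := by
      rw [pow_succ, hτ.add_pow, one_pow, pow_succ]; ring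
    have e3 : σ (κ + 1) ^ (θ + 1) = σ κ ^ (θ + 1) + σ κ ^ θ + σ κ + 1 := by
      rw [← hσpow, e0, map_add, map_add, map_add, map_one, hσpow, hσpow]
    rw [e3] at e2
    have e4 : (σ κ ^ θ + σ κ) * k 1 0 = 0 := by linear_combination -e2
    rcases mul_eq_zero.mp e4 with h | h
    · exfalso
      have h5 : σ (κ ^ θ) = σ κ := by
        rw [hσpow]
        have : σ κ ^ θ = σ κ ^ θ + (σ κ + σ κ) := by rw [h2, add_zero]
        rw [this, ← add_assoc, h, zero_add]
      rcases pow_theta_eq_self hτ κ (σ.injective h5) with h6 | h6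
      · exact hκ0 h6
      · exact hκ1 h6
    · exact h
  have hξ : ∀ t, k t 0 = 0 := by
    intro t
    by_cases ht : t = 0
    · rw [ht, hk0]
    · have := hscal t ht 1
      rw [mul_one, hξ1, mul_zero] at this
      exact this
  exact ⟨hg t u, by rw [hk, hξ, zero_add]⟩

end

end Cfsg.Agent.Lib.Helper11.F4T
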