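import Cfsg.Agent.Lib.Helper11.F4AutD

/-! Automorphisms stabilising a root group of Suzuki type: the group-level form of the rigidity of the
parameter functions (helper11). -/

set_option autoImplicit false
set_option linter.unusedSectionVars false

namespace Cfsg.Agent.Lib.Helper11.F4T

open Cfsg Cfsg.Lie Matrix Cfsg.Agent.Lib.Helper7 Cfsg.Agent.Lib.Helper11 Cfsg.Agent.Lib.Helper11.Isog

section
variable {F : Type*} [Field F]
variable {τ : ↥(chevF4.group F) ≃* ↥(chevF4.group F)} {θ : ℕ} (hτ : TauData F τ θ)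
variable {Γ : Type*} [Group Γ] {G : Subgroup Γ}
include hτ

/-- an automorphism stabilising a root group of Suzuki type, acting semilinearly on the first coordinate of
the elements `S(t,0)`, and compatible with a torus, acts on the root group through a scalar and a field
automorphism -/
theorem suz_rigid (α : ↥G ≃* ↥G) (S : F → F → Γ)
    (hmul : ∀ t u t' u', S t u * S t' u' = S (t + t') (u + u' + t ^ θ * t'))
    (hinj : ∀ t u t' u', S t u = S t' u' → t = t' ∧ u = u')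
    (hmem : ∀ t u, S t u ∈ G)
    (hstab : ∀ t u, ∃ t' u', ((α ⟨S t u, hmem t u⟩ : ↥G) : Γ) = S t' u')
    (htor : ∀ κ : F, κ ≠ 0 → ∃ (h : ↥G) (κ' : F),
      (∀ t u, (h : Γ) * S t u * (h : Γ)⁻¹ = S (κ * t) (κ ^ (θ + 1) * u)) ∧
      (∀ t u, ((α h : ↥G) : Γ) * S t u * ((α h : ↥G) : Γ)⁻¹ = S (κ' * t) (κ' ^ (θ + 1) * u)))
    (a : F) (σ : F ≃+* F) (ha : a ≠ 0) (hne : ∃ κ : F, κ ≠ 0 ∧ κ ≠ 1)
    (hfirst : ∀ t, ∃ w, ((α ⟨S t 0, hmem t 0⟩ : ↥G) : Γ) = S (a * σ t) w) (t u : F) :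
    ((α ⟨S t u, hmem t u⟩ : ↥G) : Γ) = S (a * σ t) (a ^ (θ + 1) * σ u) := by
  choose g k hgk using hstab
  have hαmul : ∀ t u t' u', ((α ⟨S t u * S t' u', G.mul_mem (hmem t u) (hmem t' u')⟩ : ↥G) : Γ) =
      ((α ⟨S t u, hmem t u⟩ : ↥G) : Γ) * ((α ⟨S t' u', hmem t' u'⟩ : ↥G) : Γ) := by
    intro t u t' u'
    have : (⟨S t u * S t' u', G.mul_mem (hmem t u) (hmem t' u')⟩ : ↥G) =
        ⟨S t u, hmem t u⟩ * ⟨S t' u', hmem t' u'⟩ := rfl
    rw [this, map_mul]; rfl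
  have H : ∀ t u t' u', g (t + t') (u + u' + t ^ θ * t') = g t u + g t' u' ∧
      k (t + t') (u + u' + t ^ θ * t') = k t u + k t' u' + (g t u) ^ θ * g t' u' := by
    intro t u t' u'
    have h1 := hαmul t u t' u'
    have e : (⟨S t u * S t' u', G.mul_mem (hmem t u) (hmem t' u')⟩ : ↥G) =
        ⟨S (t + t') (u + u' + t ^ θ * t'), hmem _ _⟩ := Subtype.ext (hmul t u t' u')
    rw [e, hgk, hgk, hgk, hmul] at h1
    exact hinj _ _ _ _ h1
  have S5 : ∀ t, g t 0 = a * σ t := by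
    intro t
    obtain ⟨w, hw⟩ := hfirst t
    rw [hgk] at hw
    exact (hinj _ _ _ _ hw).1
  have S4 : ∀ κ : F, κ ≠ 0 → ∃ κ' : F, ∀ t u, g (κ * t) (κ ^ (θ + 1) * u) = κ' * g t u ∧
      k (κ * t) (κ ^ (θ + 1) * u) = κ' ^ (θ + 1) * k t u := by
    intro κ hκ
    obtain ⟨h, κ', h1, h2⟩ := htor κ hκ
    refine ⟨κ', fun t u => ?_⟩
    have e : (⟨S (κ * t) (κ ^ (θ + 1) * u), hmem _ _⟩ : ↥G) = h * ⟨S t u, hmem t u⟩ * h⁻¹ :=
      Subtype.ext (h1 t u).symm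
    have h3 : ((α ⟨S (κ * t) (κ ^ (θ + 1) * u), hmem _ _⟩ : ↥G) : Γ) =
        ((α h : ↥G) : Γ) * ((α ⟨S t u, hmem t u⟩ : ↥G) : Γ) * ((α h : ↥G) : Γ)⁻¹ := by
      rw [e, map_mul, map_mul, map_inv]; rfl
    rw [hgk, hgk, h2] at h3
    exact hinj _ _ _ _ h3
  obtain ⟨e1, e2⟩ := suz_rigid_alg hτ g k a σ ha hne H S5 S4 t u
  rw [hgk, e1, e2]

end

end Cfsg.Agent.Lib.Helper11.F4T
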