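import Cfsg.Agent.Lib.Helper11.F4GenC

/-! `²F₄`: the commutator relation between the root groups of Suzuki type at `±22.5°` of the root group
`X_{J₁}¹` (helper11). -/

set_option autoImplicit false
set_option linter.unusedSectionVars false
set_option maxRecDepth 100000

namespace Cfsg.Agent.Lib.Helper11.F4T

open Cfsg Cfsg.Lie Matrix Cfsg.Agent.Lib.Helper7 Cfsg.Agent.Lib.Helper11 Cfsg.Agent.Lib.Helper11.Isog

theorem rel_tab_w : reflWord chevF4 (wJ 0) 27 = 34 ∧ reflWord chevF4 (wJ 0) 25 = 26 ∧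
    reflWord chevF4 (wJ 0) 28 = 36 ∧ reflWord chevF4 (wJ 0) 30 = 42 ∧
    reflWord chevF4 (wJ 1) 27 = 20 ∧ reflWord chevF4 (wJ 1) 25 = 22 ∧
    reflWord chevF4 (wJ 1) 28 = 19 ∧ reflWord chevF4 (wJ 1) 30 = 17 := by decide +kernel

section
variable {F : Type*} [Field F]

/-- the conjugate by `n_{J₁}` of a root element of Suzuki type -/
noncomputable def yU (θ : ℕ) (t u : F) : GL chevF4.Idx F := nJ F 0 * suzU θ t u * (nJ F 0)⁻¹

/-- the conjugate by `n_{J₂}` of a root element of Suzuki type -/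
noncomputable def yV (θ : ℕ) (t u : F) : GL chevF4.Idx F := nJ F 1 * suzU θ t u * (nJ F 1)⁻¹

theorem yU_eq (θ : ℕ) : ∃ c27 c25 c28 c30 : F, c25 ≠ 0 ∧ ∀ t u : F, yU θ t u =
    X F 34 (c27 * t ^ θ) * X F 26 (c25 * t) *
      (X F 36 (c28 * (t ^ (θ + 1) + u)) * X F 42 (c30 * u ^ (2 * θ))) := by
  obtain ⟨-, c27, -, h27⟩ := actsAs_nJ (F := F) 0 27 (by decide)
  obtain ⟨-, c25, hc25, h25⟩ := actsAs_nJ (F := F) 0 25 (by decide)
  obtain ⟨-, c28, -, h28⟩ := actsAs_nJ (F := F) 0 28 (by decide)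
  obtain ⟨-, c30, -, h30⟩ := actsAs_nJ (F := F) 0 30 (by decide)
  rw [rel_tab_w.1] at h27
  rw [rel_tab_w.2.1] at h25
  rw [rel_tab_w.2.2.1] at h28
  rw [rel_tab_w.2.2.2.1] at h30
  refine ⟨c27, c25, c28, c30, hc25, fun t u => ?_⟩
  unfold yU
  rw [suzU_eq]
  unfold P4
  rw [show X F 34 (c27 * t ^ θ) = nJ F 0 * X F 27 (t ^ θ) * (nJ F 0)⁻¹ from (h27 _).symm,
    show X F 26 (c25 * t) = nJ F 0 * X F 25 t * (nJ F 0)⁻¹ from (h25 _).symm,
    show X F 36 (c28 * (t ^ (θ + 1) + u)) = nJ F 0 * X F 28 (t ^ (θ + 1) + u) * (nJ F 0)⁻¹ from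
      (h28 _).symm,
    show X F 42 (c30 * u ^ (2 * θ)) = nJ F 0 * X F 30 (u ^ (2 * θ)) * (nJ F 0)⁻¹ from (h30 _).symm]
  group

theorem yV_eq (θ : ℕ) : ∃ d27 d25 d28 d30 : F, d25 ≠ 0 ∧ ∀ t u : F, yV θ t u =
    X F 20 (d27 * t ^ θ) * X F 22 (d25 * t) *
      (X F 19 (d28 * (t ^ (θ + 1) + u)) * X F 17 (d30 * u ^ (2 * θ))) := by
  obtain ⟨-, c27, -, h27⟩ := actsAs_nJ (F := F) 1 27 (by decide)
  obtain ⟨-, c25, hc25, h25⟩ := actsAs_nJ (F := F) 1 25 (by decide)
  obtain ⟨-, c28, -, h28⟩ := actsAs_nJ (F := F) 1 28 (by decide)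
  obtain ⟨-, c30, -, h30⟩ := actsAs_nJ (F := F) 1 30 (by decide)
  rw [rel_tab_w.2.2.2.2.1] at h27
  rw [rel_tab_w.2.2.2.2.2.1] at h25
  rw [rel_tab_w.2.2.2.2.2.2.1] at h28
  rw [rel_tab_w.2.2.2.2.2.2.2] at h30
  refine ⟨c27, c25, c28, c30, hc25, fun t u => ?_⟩
  unfold yV
  rw [suzU_eq]
  unfold P4
  rw [show X F 20 (c27 * t ^ θ) = nJ F 1 * X F 27 (t ^ θ) * (nJ F 1)⁻¹ from (h27 _).symm,
    show X F 22 (c25 * t) = nJ F 1 * X F 25 t * (nJ F 1)⁻¹ from (h25 _).symm,
    show X F 19 (c28 * (t ^ (θ + 1) + u)) = nJ F 1 * X F 28 (t ^ (θ + 1) + u) * (nJ F 1)⁻¹ from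
      (h28 _).symm,
    show X F 17 (c30 * u ^ (2 * θ)) = nJ F 1 * X F 30 (u ^ (2 * θ)) * (nJ F 1)⁻¹ from (h30 _).symm]
  group

variable {τ : ↥(chevF4.group F) ≃* ↥(chevF4.group F)} {θ : ℕ} (hτ : TauData F τ θ)
include hτ

theorem yU_mem_fixTau (t u : F) : yU θ t u ∈ fixTau F τ :=
  Subgroup.mul_mem _ (Subgroup.mul_mem _ (nJ_mem_fixTau hτ 0)
    (twistedF4_le_fixTau hτ (suzU_mem_twistedF4 θ t u))) (Subgroup.inv_mem _ (nJ_mem_fixTau hτ 0))

theorem yV_mem_fixTau (t u : F) : yV θ t u ∈ fixTau F τ :=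
  Subgroup.mul_mem _ (Subgroup.mul_mem _ (nJ_mem_fixTau hτ 1)
    (twistedF4_le_fixTau hτ (suzU_mem_twistedF4 θ t u))) (Subgroup.inv_mem _ (nJ_mem_fixTau hτ 1))

/-- the commutator relation `[y(t,u), ỹ(s,v)] = x(C t s)` -/
theorem oct_rel : ∃ C : F, C ≠ 0 ∧ ∀ t u s v : F,
    yV θ s v * yU θ t u = yU θ t u * yV θ s v * pairU θ (C * t * s) := by
  obtain ⟨c27, c25, c28, c30, hc25, hyU⟩ := yU_eq (F := F) θ
  obtain ⟨d27, d25, d28, d30, hd25, hyV⟩ := yV_eq (F := F) θ
  refine ⟨c25 * d25, mul_ne_zero hc25 hd25, fun t u s v => ?_⟩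
  obtain ⟨t1, t2, t3, t4, t5⟩ := gen_tab_comm
  have key := oct_comm (X F 34 (c27 * t ^ θ)) (X F 26 (c25 * t))
    (X F 36 (c28 * (t ^ (θ + 1) + u)) * X F 42 (c30 * u ^ (2 * θ)))
    (X F 20 (d27 * s ^ θ)) (X F 22 (d25 * s))
    (X F 19 (d28 * (s ^ (θ + 1) + v)) * X F 17 (d30 * v ^ (2 * θ)))
    (X F 33 (((-1 : ℤ) : F) * (-(c27 * t ^ θ)) * (d27 * s ^ θ)))
    (X F 24 (((1 : ℤ) : F) * (-(c25 * t)) * (d25 * s)))
    (comm_single 34 20 33 (-1) (by decide) (by decide) (by decide) (by decide) t1 _ _)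
    (comm_single 26 22 24 1 (by decide) (by decide) (by decide) (by decide) t2 _ _)
    (comm_nil 26 20 (by decide) (by decide) (by decide) (by decide)
      (t3 26 (by decide) 20 (by decide) (by decide) (by decide)) _ _).symm
    (Commute.mul_right
      (comm_nil 36 20 (by decide) (by decide) (by decide) (by decide)
        (t3 36 (by decide) 20 (by decide) (by decide) (by decide)) _ _).symm
      (comm_nil 42 20 (by decide) (by decide) (by decide) (by decide)
        (t3 42 (by decide) 20 (by decide) (by decide) (by decide)) _ _).symm)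
    (comm_nil 34 22 (by decide) (by decide) (by decide) (by decide)
      (t3 34 (by decide) 22 (by decide) (by decide) (by decide)) _ _).symm
    (Commute.mul_right
      (comm_nil 36 22 (by decide) (by decide) (by decide) (by decide)
        (t3 36 (by decide) 22 (by decide) (by decide) (by decide)) _ _).symm
      (comm_nil 42 22 (by decide) (by decide) (by decide) (by decide)
        (t3 42 (by decide) 22 (by decide) (by decide) (by decide)) _ _).symm)
    (Commute.mul_left
      (comm_nil 34 19 (by decide) (by decide) (by decide) (by decide)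
        (t3 34 (by decide) 19 (by decide) (by decide) (by decide)) _ _).symm
      (comm_nil 34 17 (by decide) (by decide) (by decide) (by decide)
        (t3 34 (by decide) 17 (by decide) (by decide) (by decide)) _ _).symm)
    (Commute.mul_left
      (comm_nil 26 19 (by decide) (by decide) (by decide) (by decide)
        (t3 26 (by decide) 19 (by decide) (by decide) (by decide)) _ _).symm
      (comm_nil 26 17 (by decide) (by decide) (by decide) (by decide)
        (t3 26 (by decide) 17 (by decide) (by decide) (by decide)) _ _).symm)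
    (Commute.mul_left
      (Commute.mul_right
        (comm_nil 36 19 (by decide) (by decide) (by decide) (by decide)
          (t3 36 (by decide) 19 (by decide) (by decide) (by decide)) _ _).symm
        (comm_nil 42 19 (by decide) (by decide) (by decide) (by decide)
          (t3 42 (by decide) 19 (by decide) (by decide) (by decide)) _ _).symm)
      (Commute.mul_right
        (comm_nil 36 17 (by decide) (by decide) (by decide) (by decide)
          (t3 36 (by decide) 17 (by decide) (by decide) (by decide)) _ _).symm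
        (comm_nil 42 17 (by decide) (by decide) (by decide) (by decide)
          (t3 42 (by decide) 17 (by decide) (by decide) (by decide)) _ _).symm))
    (comm_nil 33 26 (by decide) (by decide) (by decide) (by decide) (t4 26 (by decide)) _ _)
    (Commute.mul_right
      (comm_nil 33 36 (by decide) (by decide) (by decide) (by decide) (t4 36 (by decide)) _ _)
      (comm_nil 33 42 (by decide) (by decide) (by decide) (by decide) (t4 42 (by decide)) _ _))
    (comm_nil 33 22 (by decide) (by decide) (by decide) (by decide) (t4 22 (by decide)) _ _)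
    (Commute.mul_right
      (comm_nil 33 19 (by decide) (by decide) (by decide) (by decide) (t4 19 (by decide)) _ _)
      (comm_nil 33 17 (by decide) (by decide) (by decide) (by decide) (t4 17 (by decide)) _ _))
    (Commute.mul_right
      (comm_nil 24 36 (by decide) (by decide) (by decide) (by decide) (t5 36 (by decide)) _ _)
      (comm_nil 24 42 (by decide) (by decide) (by decide) (by decide) (t5 42 (by decide)) _ _))
    (Commute.mul_right
      (comm_nil 24 19 (by decide) (by decide) (by decide) (by decide) (t5 19 (by decide)) _ _)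
      (comm_nil 24 17 (by decide) (by decide) (by decide) (by decide) (t5 17 (by decide)) _ _))
    (pair_comm_pos F _ _)
  rw [← hyU, ← hyV] at key
  set PQ := X F 33 (((-1 : ℤ) : F) * (-(c27 * t ^ θ)) * (d27 * s ^ θ)) *
    X F 24 (((1 : ℤ) : F) * (-(c25 * t)) * (d25 * s)) with hPQ
  have e : PQ = (yU θ t u * yV θ s v)⁻¹ * (yV θ s v * yU θ t u) := by
    rw [key]; group
  have hPQfix : PQ ∈ XJ F 0 ⊓ fixTau F τ := by
    refine Subgroup.mem_inf.mpr ⟨Subgroup.mul_mem _ (X_mem_XJ F 0 33 (by decide) _)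
      (X_mem_XJ F 0 24 (by decide) _), ?_⟩
    rw [e]
    exact Subgroup.mul_mem _ (Subgroup.inv_mem _ (Subgroup.mul_mem _ (yU_mem_fixTau hτ t u)
      (yV_mem_fixTau hτ s v))) (Subgroup.mul_mem _ (yV_mem_fixTau hτ s v) (yU_mem_fixTau hτ t u))
  obtain ⟨v', hv'⟩ := (XJ_zero_inf_fixTau hτ _).mp hPQfix
  have hv'' := hv'
  rw [pairU_eq] at hv''
  obtain ⟨-, hv2⟩ := pair_inj F _ _ _ _ hv''
  have hv3 : v' = c25 * d25 * t * s := by
    rw [← hv2, hτ.neg_eq]
    push_cast
    ring
  rw [key, hv', hv3]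

end

end Cfsg.Agent.Lib.Helper11.F4T
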