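import Cfsg.Agent.Lib.Helper11.F4AutC
import Cfsg.Agent.Lib.Helper11.F4AutE
import Cfsg.Agent.Lib.Helper11.F4AutF

/-! `²F₄(q)`: the parameters of an automorphism stabilising `U` and `V` (helper11). -/

set_option autoImplicit false
set_option linter.unusedSectionVars false
set_option maxRecDepth 100000

namespace Cfsg.Agent.Lib.Helper11.F4T

open Cfsg Cfsg.Lie Matrix Cfsg.Agent.Lib.Helper7 Cfsg.Agent.Lib.Helper11 Cfsg.Agent.Lib.Helper11.Isog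
open Cfsg.Agent.Lib.Lead.TwStein Cfsg.Agent.Lib.Helper3.BN Cfsg.Agent.Lib.Lead.Stein
open Cfsg.Agent.Lib.Helper11.SL2Hom

theorem aut_tab : (clsJ 1).map (reflWord chevF4 (flatW [1])) = [20, 17, 19, 22] ∧
    carR chevF4 33 25 = 0 ∧ carR chevF4 24 25 = -1 ∧ carR chevF4 33 24 = 0 ∧ carR chevF4 24 24 = 2 ∧
    chevF4.neg 24 = 23 ∧ chevF4.neg 33 = 14 := by decide +kernel

section
variable {F : Type*} [Field F]
variable {τ : ↥(chevF4.group F) ≃* ↥(chevF4.group F)} {θ : ℕ} (hτ : TauData F τ θ)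
include hτ

/-- the action of a fixed diagonal element on the negative root elements of the class `{p₁, p₄}` -/
theorem fixH_conj_pairV (h : GL chevF4.Idx F) (hh : h ∈ chevF4.diagonalSubgroup F ⊓ fixTau F τ) (t : F) :
    h * pairV θ t * h⁻¹ = pairV θ ((ce 24 h)⁻¹ * t) := by
  obtain ⟨χ, hχ, e⟩ := mem_diagonalSubgroup_char chevF4 f4_mem F h (Subgroup.mem_inf.mp hh).1
  obtain ⟨-, -, -, h33⟩ := fixH_char hτ h hh
  rw [ce_diag _ _ e 33 (by decide), ce_diag _ _ e 24 (by decide)] at h33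
  have h23 : χ 23 = (χ 24)⁻¹ := by
    have := hχ.negC 24 (by decide) (by decide)
    rwa [aut_tab.2.2.2.2.2.1] at this
  have h14 : χ 14 = (χ 33)⁻¹ := by
    have := hχ.negC 33 (by decide) (by decide)
    rwa [aut_tab.2.2.2.2.2.2] at this
  rw [ce_diag _ _ e 24 (by decide), pairV_eq, pairV_eq, mul_pow, inv_pow, ← h33, ← h14, ← h23,
    ← diag_conj_X _ χ hχ e, ← diag_conj_X _ χ hχ e]
  group

theorem conj_fixH_mem (n h : GL chevF4.Idx F) (hn : n ∈ chevF4.monomialSubgroup F ⊓ fixTau F τ)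
    (hh : h ∈ chevF4.diagonalSubgroup F ⊓ fixTau F τ) :
    n⁻¹ * h * n ∈ chevF4.diagonalSubgroup F ⊓ fixTau F τ := by
  obtain ⟨hn1, hn2⟩ := Subgroup.mem_inf.mp hn
  obtain ⟨hh1, hh2⟩ := Subgroup.mem_inf.mp hh
  refine Subgroup.mem_inf.mpr ⟨?_, Subgroup.mul_mem _ (Subgroup.mul_mem _ (Subgroup.inv_mem _ hn2) hh2) hn2⟩
  have := conj_diagonal_mem n⁻¹ h (Subgroup.inv_mem _ hn1) hh1
  rwa [inv_inv] at this

theorem nJ_mem_inf (J : ℕ) : nJ F J ∈ chevF4.monomialSubgroup F ⊓ fixTau F τ :=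
  Subgroup.mem_inf.mpr ⟨nJ_mem_monomial F J, nJ_mem_fixTau hτ J⟩

/-- the action of a fixed diagonal element on the conjugates `y(t,u)` -/
theorem fixH_conj_yU (h : GL chevF4.Idx F) (hh : h ∈ chevF4.diagonalSubgroup F ⊓ fixTau F τ) (t u : F) :
    h * yU θ t u * h⁻¹ = yU θ (ce 25 ((nJ F 0)⁻¹ * h * nJ F 0) * t)
      (ce 25 ((nJ F 0)⁻¹ * h * nJ F 0) ^ (θ + 1) * u) := by
  have h1 := fixH_conj_suzU hτ _ (conj_fixH_mem hτ _ h (nJ_mem_inf hτ 0) hh) t u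
  unfold yU
  rw [← h1]; group

/-- the action of a fixed diagonal element on the conjugates `ỹ(t,u)` -/
theorem fixH_conj_yV (h : GL chevF4.Idx F) (hh : h ∈ chevF4.diagonalSubgroup F ⊓ fixTau F τ) (t u : F) :
    h * yV θ t u * h⁻¹ = yV θ (ce 25 ((nJ F 1)⁻¹ * h * nJ F 1) * t)
      (ce 25 ((nJ F 1)⁻¹ * h * nJ F 1) ^ (θ + 1) * u) := by
  have h1 := fixH_conj_suzU hτ _ (conj_fixH_mem hτ _ h (nJ_mem_inf hτ 1) hh) t u
  unfold yV
  rw [← h1]; group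

theorem yV_mul (t u t' u' : F) : yV θ t u * yV θ t' u' = yV θ (t + t') (u + u' + t ^ θ * t') := by
  unfold yV
  rw [← suzU_mul hτ]; group

theorem yV_inj (t u t' u' : F) (h : yV θ t u = yV θ t' u') : t = t' ∧ u = u' := by
  unfold yV at h
  apply suzU_inj hτ
  have := congrArg (fun g => (nJ F 1)⁻¹ * g * nJ F 1) h
  beta_reduce at this
  have e : ∀ z : GL chevF4.Idx F, (nJ F 1)⁻¹ * (nJ F 1 * z * (nJ F 1)⁻¹) * nJ F 1 = z := fun z => by group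
  rwa [e, e] at this

theorem yU_inj (t u t' u' : F) (h : yU θ t u = yU θ t' u') : t = t' ∧ u = u' := by
  unfold yU at h
  apply suzU_inj hτ
  have := congrArg (fun g => (nJ F 0)⁻¹ * g * nJ F 0) h
  beta_reduce at this
  have e : ∀ z : GL chevF4.Idx F, (nJ F 0)⁻¹ * (nJ F 0 * z * (nJ F 0)⁻¹) * nJ F 0 = z := fun z => by group
  rwa [e, e] at this

theorem yV_mem (t u : F) : yV θ t u ∈ twistedF4 F θ :=
  Subgroup.mul_mem _ (Subgroup.mul_mem _ (nJ_mem_twistedF4 F hτ.two θ hτ.pos 1)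
    (suzU_mem_twistedF4 θ t u)) (Subgroup.inv_mem _ (nJ_mem_twistedF4 F hτ.two θ hτ.pos 1))

theorem yU_mem (t u : F) : yU θ t u ∈ twistedF4 F θ :=
  Subgroup.mul_mem _ (Subgroup.mul_mem _ (nJ_mem_twistedF4 F hτ.two θ hτ.pos 0)
    (suzU_mem_twistedF4 θ t u)) (Subgroup.inv_mem _ (nJ_mem_twistedF4 F hτ.two θ hτ.pos 0))

theorem mem_YJ_one_iff (y : GL chevF4.Idx F) : y ∈ YJ F τ 1 ↔ ∃ t u : F, y = yV θ t u := by
  constructor
  · rintro ⟨x, hx, rfl⟩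
    obtain ⟨t, u, rfl⟩ := (XJ_one_inf_fixTau hτ x).mp hx
    exact ⟨t, u, rfl⟩
  · rintro ⟨t, u, rfl⟩
    exact ⟨suzU θ t u, (XJ_one_inf_fixTau hτ _).mpr ⟨t, u, rfl⟩, rfl⟩

/-- the generators `suzV` are among the conjugates `ỹ` -/
theorem suzV_eq_yV (t u : F) : ∃ s v : F, suzV θ t u = yV θ s v := by
  have h1 : suzV θ t u ∈ XL F ((clsJ 1).map (reflWord chevF4 (flatW [1]))) ⊓ fixTau F τ := by
    rw [aut_tab.1]
    refine Subgroup.mem_inf.mpr ⟨?_, twistedF4_le_fixTau hτ (suzV_mem_twistedF4 θ t u)⟩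
    rw [suzV_eq]
    unfold P4
    have hX : ∀ r ∈ [20, 17, 19, 22], ∀ x : F, X F r x ∈ XL F [20, 17, 19, 22] :=
      fun r hr x => Subgroup.subset_closure ⟨r, hr, x, rfl⟩
    exact Subgroup.mul_mem _ (Subgroup.mul_mem _ (hX 20 (by decide) _) (hX 22 (by decide) _))
      (Subgroup.mul_mem _ (hX 19 (by decide) _) (hX 17 (by decide) _))
  have h2 := conj_mem_fix' hτ (clsJ 1) (clsJ_lt 1) [1] _ h1
  obtain ⟨s, v, hsv⟩ := (XJ_one_inf_fixTau hτ _).mp h2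
  refine ⟨s, v, ?_⟩
  unfold yV
  rw [← hsv]
  have e : nW F [1] = nJ F 1 := by rw [nW_cons, nW_nil, mul_one]
  rw [e]; group

theorem ce25_hJ1 (s : F) (hs : s ≠ 0) : ce 25 (hJ1 θ s) = s⁻¹ := by
  rw [ce_hJ1 θ s hs 25 (by decide), aut_tab.2.1, aut_tab.2.2.1]
  simp

theorem ce24_hJ1 (s : F) (hs : s ≠ 0) : ce 24 (hJ1 θ s) = s ^ 2 := by
  rw [ce_hJ1 θ s hs 24 (by decide), aut_tab.2.2.2.1, aut_tab.2.2.2.2.1]
  simp [zpow_ofNat]

end

section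
variable {F : Type*} [Field F] [Fintype F]
variable {τ : ↥(chevF4.group F) ≃* ↥(chevF4.group F)} {θ : ℕ} (hτ : TauData F τ θ)
include hτ

/-- the torus constant attached to the scalar `c` of the class `{p₁, p₄}` -/
noncomputable def kap0 (c : F) (hc : c ≠ 0) : F := ce 25 ((nJ F 0)⁻¹ * psi0 hτ (hS c hc) * nJ F 0)

theorem psi0_hS_mem (c : F) (hc : c ≠ 0) : psi0 hτ (hS c hc) ∈ chevF4.diagonalSubgroup F ⊓ fixTau F τ :=
  Subgroup.mem_inf.mpr ⟨classHom_hS_mem chevF4 f4_mem F _ simpClass_F4_0 _ c hc,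
    twistedF4_le_fixTau hτ (psi0_mem hτ _)⟩

/-- the image of a fixed diagonal element under an automorphism stabilising `U` and `V` -/
theorem aut_fixH_mem (α : ↥(twistedF4 F θ) ≃* ↥(twistedF4 F θ)) (hU : Stb α (chevF4.posUnipotent F))
    (hV : Stb α (chevF4.negUnipotent F)) (h : ↥(twistedF4 F θ))
    (hh : (h : GL chevF4.Idx F) ∈ chevF4.diagonalSubgroup F) :
    ((α h : ↥(twistedF4 F θ)) : GL chevF4.Idx F) ∈ chevF4.diagonalSubgroup F ⊓ fixTau F τ :=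
  Subgroup.mem_inf.mpr ⟨(f4_stb_diagonal hτ α hU hV h).mpr hh, twistedF4_le_fixTau hτ (α h).2⟩

/-- the parameters of an automorphism stabilising `U` and `V` -/
theorem f4_params (α : ↥(twistedF4 F θ) ≃* ↥(twistedF4 F θ)) (hU : Stb α (chevF4.posUnipotent F))
    (hV : Stb α (chevF4.negUnipotent F)) (hne : ∃ κ : F, κ ≠ 0 ∧ κ ≠ 1) (C : F) (hC : C ≠ 0)
    (hrel : ∀ t u s v : F, yV θ s v * yU θ t u = yU θ t u * yV θ s v * pairU θ (C * t * s)) :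
    ∃ (c : F) (σ : F ≃+* F) (hc : c ≠ 0) (a a' : F), a ≠ 0 ∧ a' ≠ 0 ∧
      (∀ t, ((α ⟨pairU θ t, pairU_mem_twistedF4 θ t⟩ : ↥(twistedF4 F θ)) : GL chevF4.Idx F) =
        pairU θ (c * σ t)) ∧
      (∀ t, ((α ⟨pairV θ t, pairV_mem_twistedF4 θ t⟩ : ↥(twistedF4 F θ)) : GL chevF4.Idx F) =
        pairV θ (c⁻¹ * σ t)) ∧
      (∀ t u, ((α ⟨suzU θ t u, suzU_mem_twistedF4 θ t u⟩ : ↥(twistedF4 F θ)) : GL chevF4.Idx F) =
        suzU θ (a * σ t) (a ^ (θ + 1) * σ u)) ∧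
      (∀ t u, ((α ⟨yV θ t u, yV_mem hτ t u⟩ : ↥(twistedF4 F θ)) : GL chevF4.Idx F) =
        yV θ (a' * σ t) (a' ^ (θ + 1) * σ u)) ∧
      c * σ C = C * kap0 hτ c hc * a * a' := by
  obtain ⟨c, σ, hc, hpU, hpV, hn0⟩ := f4_pair_params hτ α hU hV
  have hstabU : ∀ t u, ∃ t' u', ((α ⟨suzU θ t u, suzU_mem_twistedF4 θ t u⟩ : ↥(twistedF4 F θ)) :
      GL chevF4.Idx F) = suzU θ t' u' := by
    intro t u
    exact (XJ_one_inf_fixTau hτ _).mp ((f4_stb_XJ hτ α hU hV 1 ⟨suzU θ t u, suzU_mem_twistedF4 θ t u⟩).mpr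
      ((XJ_one_inf_fixTau hτ _).mpr ⟨t, u, rfl⟩))
  have hstabV : ∀ t u, ∃ t' u', ((α ⟨yV θ t u, yV_mem hτ t u⟩ : ↥(twistedF4 F θ)) :
      GL chevF4.Idx F) = yV θ t' u' := by
    intro t u
    exact (mem_YJ_one_iff hτ _).mp ((f4_stb_YJ hτ α hU hV 1 ⟨yV θ t u, yV_mem hτ t u⟩).mpr
      ((mem_YJ_one_iff hτ _).mpr ⟨t, u, rfl⟩))
  choose gU kU hgU using hstabU
  choose gV kV hgV using hstabV
  set κ₀ := kap0 hτ c hc with hκ₀
  -- the image of `y(t,u)`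
  have hyU : ∀ t u, ((α ⟨yU θ t u, yU_mem hτ t u⟩ : ↥(twistedF4 F θ)) : GL chevF4.Idx F) =
      yU θ (κ₀ * gU t u) (κ₀ ^ (θ + 1) * kU t u) := by
    intro t u
    have e : (⟨yU θ t u, yU_mem hτ t u⟩ : ↥(twistedF4 F θ)) =
        ⟨nJ F 0, nJ_mem_twistedF4 F hτ.two θ hτ.pos 0⟩ * ⟨suzU θ t u, suzU_mem_twistedF4 θ t u⟩ *
          (⟨nJ F 0, nJ_mem_twistedF4 F hτ.two θ hτ.pos 0⟩ : ↥(twistedF4 F θ))⁻¹ := rfl
    rw [e, map_mul, map_mul, map_inv]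
    simp only [Subgroup.coe_mul, Subgroup.coe_inv]
    rw [hn0, hgU]
    have : psi0 hτ (hS c hc) * yU θ (gU t u) (kU t u) * (psi0 hτ (hS c hc))⁻¹ =
        yU θ (κ₀ * gU t u) (κ₀ ^ (θ + 1) * kU t u) :=
      fixH_conj_yU hτ _ (psi0_hS_mem hτ c hc) (gU t u) (kU t u)
    rw [← this]
    unfold yU
    group
  -- the fundamental relation between the parameters
  have hE : ∀ t u s v, c * σ (C * t * s) = C * (κ₀ * gU t u) * gV s v := by
    intro t u s v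
    have h1 : (⟨yV θ s v, yV_mem hτ s v⟩ : ↥(twistedF4 F θ)) * ⟨yU θ t u, yU_mem hτ t u⟩ =
        ⟨yU θ t u, yU_mem hτ t u⟩ * ⟨yV θ s v, yV_mem hτ s v⟩ *
          ⟨pairU θ (C * t * s), pairU_mem_twistedF4 θ _⟩ := Subtype.ext (hrel t u s v)
    have h2 := congrArg (fun g : ↥(twistedF4 F θ) => (g : GL chevF4.Idx F)) (congrArg α h1)
    simp only [map_mul, Subgroup.coe_mul] at h2
    rw [hgV, hyU, hpU, hrel] at h2
    have h3 := mul_left_cancel h2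
    exact (pairU_inj θ _ _ h3).symm
  set a := gU 1 0 with ha
  set a' := gV 1 0 with ha'
  have hE1 : c * σ C = C * κ₀ * a * a' := by
    have := hE 1 0 1 0
    rw [mul_one, mul_one] at this
    rw [this]; ring
  have hcσ : c * σ C ≠ 0 := mul_ne_zero hc ((map_ne_zero σ).mpr hC)
  have hκ0 : κ₀ ≠ 0 := by
    intro h; apply hcσ; rw [hE1, h]; ring
  have ha0 : a ≠ 0 := by
    intro h; apply hcσ; rw [hE1, h]; ring
  have ha'0 : a' ≠ 0 := by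
    intro h; apply hcσ; rw [hE1, h]; ring
  have hgUe : ∀ t u, gU t u = a * σ t := by
    intro t u
    have h1 := hE t u 1 0
    rw [mul_one, map_mul] at h1
    have h2 : C * κ₀ * a' * gU t u = C * κ₀ * a' * (a * σ t) := by
      calc C * κ₀ * a' * gU t u = C * (κ₀ * gU t u) * a' := by ring
        _ = c * (σ C * σ t) := h1.symm
        _ = (c * σ C) * σ t := by ring
        _ = _ := by rw [hE1]; ring
    exact mul_left_cancel₀ (mul_ne_zero (mul_ne_zero hC hκ0) ha'0) h2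
  have hgVe : ∀ s v, gV s v = a' * σ s := by
    intro s v
    have h1 := hE 1 0 s v
    rw [mul_one, map_mul] at h1
    have h2 : C * κ₀ * a * gV s v = C * κ₀ * a * (a' * σ s) := by
      calc C * κ₀ * a * gV s v = C * (κ₀ * a) * gV s v := by ring
        _ = c * (σ C * σ s) := h1.symm
        _ = (c * σ C) * σ s := by ring
        _ = _ := by rw [hE1]; ring
    exact mul_left_cancel₀ (mul_ne_zero (mul_ne_zero hC hκ0) ha0) h2
  refine ⟨c, σ, hc, a, a', ha0, ha'0, hpU, hpV, ?_, ?_, hE1⟩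
  · -- the root elements of Suzuki type
    refine suz_rigid hτ α (suzU θ) (suzU_mul hτ) (suzU_inj hτ) (suzU_mem_twistedF4 θ)
      (fun t u => ⟨gU t u, kU t u, hgU t u⟩) ?_ a σ ha0 hne
      (fun t => ⟨kU t 0, by rw [hgU, hgUe]⟩)
    intro κ hκ
    have hκi : κ⁻¹ ≠ 0 := inv_ne_zero hκ
    refine ⟨⟨hJ1 θ κ⁻¹, hJ1_mem_twistedF4 hτ.two θ κ⁻¹⟩, ce 25 ((α ⟨hJ1 θ κ⁻¹,
      hJ1_mem_twistedF4 hτ.two θ κ⁻¹⟩ : ↥(twistedF4 F θ)) : GL chevF4.Idx F), ?_, ?_⟩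
    · intro t u
      have hh : hJ1 θ κ⁻¹ ∈ chevF4.diagonalSubgroup F ⊓ fixTau F τ :=
        Subgroup.mem_inf.mpr ⟨hJ1_mem_diagonal θ κ⁻¹ hκi,
          twistedF4_le_fixTau hτ (hJ1_mem_twistedF4 hτ.two θ κ⁻¹)⟩
      have := fixH_conj_suzU hτ _ hh t u
      rw [ce25_hJ1 hτ _ hκi, inv_inv] at this
      exact this
    · intro t u
      exact fixH_conj_suzU hτ _ (aut_fixH_mem hτ α hU hV _ (hJ1_mem_diagonal θ κ⁻¹ hκi)) t u
  · -- the conjugates `ỹ`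
    refine suz_rigid hτ α (yV θ) (yV_mul hτ) (yV_inj hτ) (yV_mem hτ)
      (fun t u => ⟨gV t u, kV t u, hgV t u⟩) ?_ a' σ ha'0 hne
      (fun t => ⟨kV t 0, by rw [hgV, hgVe]⟩)
    intro κ hκ
    have hκi : κ⁻¹ ≠ 0 := inv_ne_zero hκ
    refine ⟨⟨hJ2 θ κ⁻¹, hJ2_mem_twistedF4 hτ.two θ hτ.pos κ⁻¹⟩,
      ce 25 ((nJ F 1)⁻¹ * ((α ⟨hJ2 θ κ⁻¹, hJ2_mem_twistedF4 hτ.two θ hτ.pos κ⁻¹⟩ : ↥(twistedF4 F θ)) :
        GL chevF4.Idx F) * nJ F 1), ?_, ?_⟩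
    · intro t u
      have hh : hJ2 θ κ⁻¹ ∈ chevF4.diagonalSubgroup F ⊓ fixTau F τ :=
        Subgroup.mem_inf.mpr ⟨hJ2_mem_diagonal θ κ⁻¹ hκi,
          twistedF4_le_fixTau hτ (hJ2_mem_twistedF4 hτ.two θ hτ.pos κ⁻¹)⟩
      have := fixH_conj_yV hτ _ hh t u
      have e : (nJ F 1)⁻¹ * hJ2 θ κ⁻¹ * nJ F 1 = hJ1 θ κ⁻¹ := by unfold hJ2; group
      rw [e, ce25_hJ1 hτ _ hκi, inv_inv] at this
      exact this
    · intro t u
      exact fixH_conj_yV hτ _ (aut_fixH_mem hτ α hU hV _ (hJ2_mem_diagonal θ κ⁻¹ hκi)) t u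

end

end Cfsg.Agent.Lib.Helper11.F4T
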