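import Cfsg.Agent.Lib.Helper11.F4AutG

/-! `²F₄(q)`: rigidity, the field automorphisms, and every automorphism is the product of a field and an
inner automorphism (helper11). -/

set_option autoImplicit false
set_option linter.unusedSectionVars false
set_option maxRecDepth 100000

namespace Cfsg.Agent.Lib.Helper11.F4T

open Cfsg Cfsg.Lie Matrix Cfsg.Agent.Lib.Helper7 Cfsg.Agent.Lib.Helper11 Cfsg.Agent.Lib.Helper11.Isog
open Cfsg.Agent.Lib.Lead.TwStein Cfsg.Agent.Lib.Helper3.BN Cfsg.Agent.Lib.Lead.Stein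
open Cfsg.Agent.Lib.Helper11.SL2Hom

section
variable {F : Type*} [Field F] [Fintype F]
variable {τ : ↥(chevF4.group F) ≃* ↥(chevF4.group F)} {θ : ℕ} (hτ : TauData F τ θ)
include hτ

theorem kap0_one : kap0 hτ (1 : F) one_ne_zero = 1 := by
  unfold kap0
  have : hS (1 : F) one_ne_zero = 1 := by
    apply Matrix.SpecialLinearGroup.ext
    intro i j
    fin_cases i <;> fin_cases j <;> simp [coe_hS]
  rw [this, map_one, mul_one, inv_mul_cancel, ce_one]

/-- an automorphism stabilising `U` and `V` and fixing the positive root elements is trivial -/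
theorem f4_rigid (α : ↥(twistedF4 F θ) ≃* ↥(twistedF4 F θ)) (hU : Stb α (chevF4.posUnipotent F))
    (hV : Stb α (chevF4.negUnipotent F)) (hne : ∃ κ : F, κ ≠ 0 ∧ κ ≠ 1)
    (h1 : ∀ t, ((α ⟨pairU θ t, pairU_mem_twistedF4 θ t⟩ : ↥(twistedF4 F θ)) : GL chevF4.Idx F) =
      pairU θ t)
    (h2 : ∀ t u, ((α ⟨suzU θ t u, suzU_mem_twistedF4 θ t u⟩ : ↥(twistedF4 F θ)) : GL chevF4.Idx F) =
      suzU θ t u) (g : ↥(twistedF4 F θ)) : α g = g := by
  obtain ⟨C, hC, hrel⟩ := oct_rel hτ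
  obtain ⟨c, σ, hc, a, a', ha, ha', hpU, hpV, hsU, hyV, hE⟩ := f4_params hτ α hU hV hne C hC hrel
  have hcσ : ∀ t, c * σ t = t := fun t => pairU_inj θ _ _ ((hpU t).symm.trans (h1 t))
  have hc1 : c = 1 := by have := hcσ 1; rwa [map_one, mul_one] at this
  have hσ : ∀ t, σ t = t := by intro t; have := hcσ t; rwa [hc1, one_mul] at this
  have ha1 : a = 1 := by
    have := (suzU_inj hτ _ _ _ _ ((hsU 1 0).symm.trans (h2 1 0))).1
    rwa [hσ, mul_one] at this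
  have ha'1 : a' = 1 := by
    subst hc1
    rw [kap0_one hτ, hσ, ha1] at hE
    have : C * a' = C * 1 := by rw [mul_one]; linear_combination -hE
    exact mul_left_cancel₀ hC this
  -- the fixed points form a subgroup containing the generators
  set T : Subgroup (GL chevF4.Idx F) :=
    (MonoidHom.eqLocus α.toMonoidHom (MonoidHom.id ↥(twistedF4 F θ))).map (twistedF4 F θ).subtype with hT
  have hmemT : ∀ (x : GL chevF4.Idx F) (hx : x ∈ twistedF4 F θ),
      ((α ⟨x, hx⟩ : ↥(twistedF4 F θ)) : GL chevF4.Idx F) = x → x ∈ T := by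
    intro x hx he
    exact ⟨⟨x, hx⟩, Subtype.ext he, rfl⟩
  have hle : twistedF4 F θ ≤ T := by
    apply twistedF4_le_of_gens θ T
    · intro t; exact hmemT _ _ (h1 t)
    · intro t
      apply hmemT _ (pairV_mem_twistedF4 θ t)
      rw [hpV, hc1, hσ, inv_one, one_mul]
    · intro t u; exact hmemT _ _ (h2 t u)
    · intro t u
      obtain ⟨s, v, hsv⟩ := suzV_eq_yV hτ t u
      apply hmemT _ (suzV_mem_twistedF4 θ t u)
      have e : (⟨suzV θ t u, suzV_mem_twistedF4 θ t u⟩ : ↥(twistedF4 F θ)) = ⟨yV θ s v, yV_mem hτ s v⟩ :=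
        Subtype.ext hsv
      rw [e, hyV, ha'1, hσ, hσ, one_mul, one_pow, one_mul, hsv]
  obtain ⟨x, hx, hxe⟩ := hle g.2
  have : x = g := Subtype.ext hxe
  rw [← this]
  exact hx

end

section
variable {F : Type*} [Field F] (θ : ℕ) (σ : F ≃+* F)

theorem map_mem_f4Words (w : List (ℕ × F)) (hw : w ∈ f4Words F θ) :
    (w.map fun p => (p.1, σ p.2)) ∈ f4Words F θ := by
  rcases hw with ⟨t, hw | hw⟩ | ⟨t, u, hw | hw⟩
  · left; exact ⟨σ t, Or.inl (by rw [hw]; simp [f4PairWord, map_pow])⟩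
  · left; exact ⟨σ t, Or.inr (by rw [hw]; simp [f4PairWord, map_pow])⟩
  · right; exact ⟨σ t, σ u, Or.inl (by rw [hw]; simp [b2ClassWord, map_pow, map_add])⟩
  · right; exact ⟨σ t, σ u, Or.inr (by rw [hw]; simp [b2ClassWord, map_pow, map_add])⟩

theorem f4_map_le :
    (twistedF4 F θ).map (glMapEquiv chevF4.Idx σ).toMonoidHom ≤ twistedF4 F θ := by
  unfold twistedF4 ChevalleyDatum.genSubgroup
  rw [MonoidHom.map_closure, Subgroup.closure_le]
  rintro _ ⟨g, ⟨w, hw, hg⟩, rfl⟩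
  have hg' : g = wordGL chevF4 f4_mem F w := Units.ext (by rw [hg, coe_wordGL])
  apply Subgroup.subset_closure
  refine ⟨w.map fun p => (p.1, σ p.2), map_mem_f4Words θ σ w hw, ?_⟩
  rw [hg']
  show ((glMapEquiv chevF4.Idx σ (wordGL chevF4 f4_mem F w) : GL chevF4.Idx F) :
    Matrix chevF4.Idx chevF4.Idx F) = _
  rw [glMapEquiv_wordGL chevF4 f4_mem F σ w, coe_wordGL]

theorem f4_map_eq :
    (twistedF4 F θ).map (glMapEquiv chevF4.Idx σ).toMonoidHom = twistedF4 F θ := by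
  apply le_antisymm (f4_map_le θ σ)
  intro g hg
  refine ⟨(glMapEquiv chevF4.Idx σ).symm g, ?_, by simp⟩
  have := f4_map_le θ σ.symm ⟨g, hg, rfl⟩
  have e : (glMapEquiv chevF4.Idx σ.symm).toMonoidHom g = (glMapEquiv chevF4.Idx σ).symm g := by
    apply Units.ext
    rfl
  rwa [e] at this

/-- the field automorphism of `²F₄` induced by `σ` -/
noncomputable def f4FieldAut : ↥(twistedF4 F θ) ≃* ↥(twistedF4 F θ) :=
  ((glMapEquiv chevF4.Idx σ).subgroupMap (twistedF4 F θ)).trans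
    (MulEquiv.subgroupCongr (f4_map_eq θ σ))

theorem coe_f4FieldAut (g : ↥(twistedF4 F θ)) :
    ((f4FieldAut θ σ g : ↥(twistedF4 F θ)) : GL chevF4.Idx F) =
      glMapEquiv chevF4.Idx σ (g : GL chevF4.Idx F) := rfl

theorem f4FieldAut_stb_pos : Stb (f4FieldAut θ σ) (chevF4.posUnipotent F) := by
  intro g
  rw [coe_f4FieldAut]
  constructor
  · intro h
    have := glMapEquiv_mem_posUnipotent chevF4 f4_mem F σ.symm _ h
    rwa [glMapEquiv_symm_apply'] at this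
  · exact glMapEquiv_mem_posUnipotent chevF4 f4_mem F σ _

theorem f4FieldAut_stb_neg : Stb (f4FieldAut θ σ) (chevF4.negUnipotent F) := by
  intro g
  rw [coe_f4FieldAut]
  constructor
  · intro h
    have := glMapEquiv_mem_negUnipotent chevF4 f4_mem F σ.symm _ h
    rwa [glMapEquiv_symm_apply'] at this
  · exact glMapEquiv_mem_negUnipotent chevF4 f4_mem F σ _

theorem glMapEquiv_pairU (t : F) : glMapEquiv chevF4.Idx σ (pairU θ t) = pairU θ (σ t) := by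
  unfold pairU
  rw [glMapEquiv_wordGL chevF4 f4_mem F σ]
  congr 1
  simp [f4PairWord, map_pow]

theorem glMapEquiv_suzU (t u : F) : glMapEquiv chevF4.Idx σ (suzU θ t u) = suzU θ (σ t) (σ u) := by
  unfold suzU
  rw [glMapEquiv_wordGL chevF4 f4_mem F σ]
  congr 1
  simp [b2ClassWord, map_pow, map_add]

end

theorem tab_hJ2 : reflWord chevF4 (wJ 1) 22 = 25 ∧ reflWord chevF4 (wJ 1) 32 = 24 ∧
    carR chevF4 33 22 = 0 ∧ carR chevF4 24 22 = 1 ∧ carR chevF4 33 32 = -2 ∧ carR chevF4 24 32 = 0 := by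
  decide +kernel

section
variable {F : Type*} [Field F]
variable {τ : ↥(chevF4.group F) ≃* ↥(chevF4.group F)} {θ : ℕ} (hτ : TauData F τ θ)
include hτ

theorem ce25_hJ2 (s : F) (hs : s ≠ 0) : ce 25 (hJ2 θ s) = s := by
  have h := ce_conj (nJ F 1) _ (actsAs_nWordGL chevF4 f4_mem F _ (wJ_lt 1)) (nJ_mem_monomial F 1)
    (hJ1 θ s) (hJ1_mem_diagonal θ s hs) 22 (by decide)
  rw [tab_hJ2.1] at h
  unfold hJ2
  rw [h, ce_hJ1 θ s hs 22 (by decide), tab_hJ2.2.2.1, tab_hJ2.2.2.2.1]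
  simp

theorem ce24_hJ2 (s : F) (hs : s ≠ 0) : ce 24 (hJ2 θ s) = ((s ^ θ) ^ 2)⁻¹ := by
  have h := ce_conj (nJ F 1) _ (actsAs_nWordGL chevF4 f4_mem F _ (wJ_lt 1)) (nJ_mem_monomial F 1)
    (hJ1 θ s) (hJ1_mem_diagonal θ s hs) 32 (by decide)
  rw [tab_hJ2.2.1] at h
  unfold hJ2
  rw [h, ce_hJ1 θ s hs 32 (by decide), tab_hJ2.2.2.2.2.1, tab_hJ2.2.2.2.2.2]
  rw [show (-2 : ℤ) = -((2 : ℕ) : ℤ) from rfl, _root_.zpow_neg, zpow_natCast]
  simp

/-- the fixed torus acts on the two fundamental root groups through arbitrary scalars -/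
theorem exists_torus (c a : F) (hc : c ≠ 0) (ha : a ≠ 0) :
    ∃ h ∈ chevF4.diagonalSubgroup F ⊓ twistedF4 F θ, ce 24 h = c ∧ ce 25 h = a := by
  set c₁ := c ^ (θ * θ) with hc₁
  have hc₁sq : c₁ ^ 2 = c := by
    rw [hc₁, ← pow_mul]
    have : θ * θ * 2 = 2 * θ * θ := by ring
    rw [this, hτ.pow]
  have hc₁0 : c₁ ≠ 0 := pow_ne_zero _ hc
  set e := c₁ * a ^ θ with he
  have he0 : e ≠ 0 := mul_ne_zero hc₁0 (pow_ne_zero _ ha)
  set s := e ^ (2 * θ + 2) with hs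
  have hs0 : s ≠ 0 := pow_ne_zero _ he0
  have hsθ : s ^ θ * e = s := by
    rw [hs, ← pow_mul]
    have e1 : (2 * θ + 2) * θ = 2 * θ * θ + 2 * θ := by ring
    rw [e1, pow_add, hτ.pow]
    ring
  set s' := a * s with hs'
  have hs'0 : s' ≠ 0 := mul_ne_zero ha hs0
  refine ⟨hJ1 θ s * hJ2 θ s', hJ_mul_mem hτ s s' hs0 hs'0, ?_, ?_⟩
  · rw [ce_mul _ _ (hJ1_mem_diagonal θ s hs0) (hJ2_mem_diagonal θ s' hs'0) 24 (by decide),
      ce24_hJ1 hτ s hs0, ce24_hJ2 hτ s' hs'0]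
    have h1 : s' ^ θ * c₁ = s := by
      rw [hs', mul_pow]
      calc a ^ θ * s ^ θ * c₁ = s ^ θ * (c₁ * a ^ θ) := by ring
        _ = s := hsθ
    have h2 : s' ^ θ ≠ 0 := pow_ne_zero _ hs'0
    rw [← hc₁sq, ← h1]
    field_simp
  · rw [ce_mul _ _ (hJ1_mem_diagonal θ s hs0) (hJ2_mem_diagonal θ s' hs'0) 25 (by decide),
      ce25_hJ1 hτ s hs0, ce25_hJ2 hτ s' hs'0, hs']
    field_simp

end

section
variable {F : Type*} [Field F] [Fintype F]
variable {τ : ↥(chevF4.group F) ≃* ↥(chevF4.group F)} {θ : ℕ} (hτ : TauData F τ θ)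
include hτ

/-- every automorphism of `²F₄(q)` is the product of a field and an inner automorphism -/
theorem f4_aut (k : ℕ) (hk : 0 < k) (hF : Fintype.card F = 2 ^ k) (hne : ∃ κ : F, κ ≠ 0 ∧ κ ≠ 1)
    (α : ↥(twistedF4 F θ) ≃* ↥(twistedF4 F θ)) :
    ∃ (z : ↥(twistedF4 F θ)) (σ : F ≃+* F), ∀ g, α g = z * f4FieldAut θ σ g * z⁻¹ := by
  obtain ⟨x, hxU, hxV⟩ := f4_inner_stb hτ k hk hF α
  set α₁ := α.trans (MulAut.conj x) with hα₁
  obtain ⟨C, hC, hrel⟩ := oct_rel hτ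
  obtain ⟨c, σ, hc, a, a', ha, ha', hpU, hpV, hsU, hyV, hE⟩ := f4_params hτ α₁ hxU hxV hne C hC hrel
  obtain ⟨h, hh, h24, h25⟩ := exists_torus hτ c a hc ha
  obtain ⟨hH, hG⟩ := Subgroup.mem_inf.mp hh
  have hfix : h ∈ chevF4.diagonalSubgroup F ⊓ fixTau F τ :=
    Subgroup.mem_inf.mpr ⟨hH, twistedF4_le_fixTau hτ hG⟩
  set β : ↥(twistedF4 F θ) ≃* ↥(twistedF4 F θ) :=
    (f4FieldAut θ σ).trans (MulAut.conj (⟨h, hG⟩ : ↥(twistedF4 F θ))) with hβ
  have hβU : Stb β (chevF4.posUnipotent F) :=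
    (f4FieldAut_stb_pos θ σ).trans (stb_conj _ _ (diagonalSubgroup_le_normalizer_posUnipotent chevF4 f4_mem F hH))
  have hβV : Stb β (chevF4.negUnipotent F) :=
    (f4FieldAut_stb_neg θ σ).trans (stb_conj _ _ (diagonalSubgroup_le_normalizer_negUnipotent chevF4 f4_mem F hH))
  have hβcoe : ∀ g : ↥(twistedF4 F θ), ((β g : ↥(twistedF4 F θ)) : GL chevF4.Idx F) =
      h * glMapEquiv chevF4.Idx σ (g : GL chevF4.Idx F) * h⁻¹ := fun g => rfl
  set γ := α₁.trans β.symm with hγ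
  have hγU : Stb γ (chevF4.posUnipotent F) := hxU.trans hβU.symm
  have hγV : Stb γ (chevF4.negUnipotent F) := hxV.trans hβV.symm
  have hγ1 : ∀ t, ((γ ⟨pairU θ t, pairU_mem_twistedF4 θ t⟩ : ↥(twistedF4 F θ)) : GL chevF4.Idx F) =
      pairU θ t := by
    intro t
    have e : α₁ ⟨pairU θ t, pairU_mem_twistedF4 θ t⟩ = β ⟨pairU θ t, pairU_mem_twistedF4 θ t⟩ := by
      apply Subtype.ext
      rw [hpU, hβcoe, glMapEquiv_pairU, fixH_conj_pairU hτ h hfix, h24]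
    rw [hγ, MulEquiv.trans_apply, e, MulEquiv.symm_apply_apply]
  have hγ2 : ∀ t u, ((γ ⟨suzU θ t u, suzU_mem_twistedF4 θ t u⟩ : ↥(twistedF4 F θ)) : GL chevF4.Idx F) =
      suzU θ t u := by
    intro t u
    have e : α₁ ⟨suzU θ t u, suzU_mem_twistedF4 θ t u⟩ = β ⟨suzU θ t u, suzU_mem_twistedF4 θ t u⟩ := by
      apply Subtype.ext
      rw [hsU, hβcoe, glMapEquiv_suzU, fixH_conj_suzU hτ h hfix, h25]
    rw [hγ, MulEquiv.trans_apply, e, MulEquiv.symm_apply_apply]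
  have hrig := f4_rigid hτ γ hγU hγV hne hγ1 hγ2
  refine ⟨x⁻¹ * ⟨h, hG⟩, σ, fun g => ?_⟩
  have h1 : α₁ g = β g := by
    have := hrig g
    rw [hγ, MulEquiv.trans_apply] at this
    have h2 := congrArg β this
    rwa [MulEquiv.apply_symm_apply] at h2
  have h3 : α g = x⁻¹ * α₁ g * x := by
    rw [hα₁, MulEquiv.trans_apply, MulAut.conj_apply]; group
  rw [h3, h1, hβ, MulEquiv.trans_apply, MulAut.conj_apply]
  group

end

end Cfsg.Agent.Lib.Helper11.F4T
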