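import Cfsg.Agent.Lib.Helper11.F4AutH
import Cfsg.Agent.Lib.Lead.SteinJ

/-! `²F₄(q)`: the outer automorphism group is the group of field automorphisms (helper11). -/

set_option autoImplicit false
set_option linter.unusedSectionVars false
set_option maxRecDepth 100000

namespace Cfsg.Agent.Lib.Helper11.F4T

open Cfsg Cfsg.Lie Matrix Cfsg.Agent.Lib.Helper7 Cfsg.Agent.Lib.Helper11 Cfsg.Agent.Lib.Helper11.Isog
open Cfsg.Agent.Lib.Lead.TwStein Cfsg.Agent.Lib.Helper3.BN Cfsg.Agent.Lib.Lead.Stein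
open Cfsg.Agent.Lib.Helper11.SL2Hom

section
variable {F : Type*} [Field F] [Fintype F]
variable {τ : ↥(chevF4.group F) ≃* ↥(chevF4.group F)} {θ : ℕ} (hτ : TauData F τ θ)
include hτ

/-- an element of `²F₄` whose conjugation stabilises `U` and `V` lies in `H` -/
theorem f4_mem_diagonal_of_stb_conj (z : ↥(twistedF4 F θ))
    (hU : Stb (MulAut.conj z) (chevF4.posUnipotent F)) (hV : Stb (MulAut.conj z) (chevF4.negUnipotent F)) :
    (z : GL chevF4.Idx F) ∈ chevF4.diagonalSubgroup F := by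
  have hnorm := f4_normalizer_pos hτ
  have key : ∀ z : ↥(twistedF4 F θ), Stb (MulAut.conj z) (chevF4.posUnipotent F) →
      (z : GL chevF4.Idx F) ∈ chevF4.borelSubgroup F := by
    intro z hz
    have h1 := mem_normalizer_of_stb_conj
      (inf_le_right : chevF4.posUnipotent F ⊓ twistedF4 F θ ≤ twistedF4 F θ) z (stb_inf_self hz)
    have h2 : (z : GL chevF4.Idx F) ∈ chevF4.borelSubgroup F ⊓ twistedF4 F θ := by
      rw [← hnorm]
      exact Subgroup.mem_inf.mpr ⟨h1, z.2⟩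
    exact (Subgroup.mem_inf.mp h2).1
  have h1 := key z hU
  set n₀ : ↥(twistedF4 F θ) := n0El hτ with hn₀d
  have h2 : ((n₀⁻¹ * z * n₀ : ↥(twistedF4 F θ)) : GL chevF4.Idx F) ∈ chevF4.borelSubgroup F := by
    apply key
    set c : ↥(twistedF4 F θ) ≃* ↥(twistedF4 F θ) := MulAut.conj n₀ with hc
    have hcU := n0El_mps_pos hτ
    have e : (MulAut.conj (n₀⁻¹ * z * n₀) : ↥(twistedF4 F θ) ≃* ↥(twistedF4 F θ)) =
        c.trans ((MulAut.conj z).trans c.symm) := by
      ext g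
      simp [hc, MulAut.conj_apply, MulAut.conj_symm_apply, mul_assoc]
    rw [e]
    exact (hcU.trans (hV.toMps.trans hcU.symm)).toStb
  have h3 : (z : GL chevF4.Idx F) ∈ negBorel chevF4 F := by
    rw [← show (chevF4.borelSubgroup F).map (MulAut.conj (nW F W8)).toMonoidHom = negBorel chevF4 F from
      conj_borel_eq chevF4 f4_mem F _ longFacts_W8]
    refine ⟨_, h2, ?_⟩
    simp only [MulEquiv.coe_toMonoidHom, MulAut.conj_apply, Subgroup.coe_mul, Subgroup.coe_inv]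
    show nW F W8 * ((nW F W8)⁻¹ * (z : GL chevF4.Idx F) * nW F W8) * (nW F W8)⁻¹ = _
    group
  rw [← Cfsg.Agent.Lib.Lead.Stein.borel_inf_negBorel chevF4 f4_mem F]
  exact Subgroup.mem_inf.mpr ⟨h1, h3⟩

/-- a field automorphism which is inner is trivial -/
theorem f4_field_eq_of_inner (σ ρ : F ≃+* F) (z : ↥(twistedF4 F θ))
    (hz : ∀ y, f4FieldAut θ ρ y = f4FieldAut θ σ (z * y * z⁻¹)) : ρ = σ := by
  have hψ : (f4FieldAut θ ρ).trans (f4FieldAut θ σ).symm = MulAut.conj z := by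
    ext y
    rw [MulEquiv.trans_apply, hz y, MulEquiv.symm_apply_apply, MulAut.conj_apply]
  have hU : Stb (MulAut.conj z) (chevF4.posUnipotent F) := by
    rw [← hψ]
    exact (f4FieldAut_stb_pos θ ρ).trans (f4FieldAut_stb_pos θ σ).symm
  have hV : Stb (MulAut.conj z) (chevF4.negUnipotent F) := by
    rw [← hψ]
    exact (f4FieldAut_stb_neg θ ρ).trans (f4FieldAut_stb_neg θ σ).symm
  have hzH := f4_mem_diagonal_of_stb_conj hτ z hU hV
  have hzfix : (z : GL chevF4.Idx F) ∈ chevF4.diagonalSubgroup F ⊓ fixTau F τ :=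
    Subgroup.mem_inf.mpr ⟨hzH, twistedF4_le_fixTau hτ z.2⟩
  have key : ∀ u : F, ρ u = σ (ce 24 (z : GL chevF4.Idx F)) * σ u := by
    intro u
    have h1 := congrArg (fun g : ↥(twistedF4 F θ) => (g : GL chevF4.Idx F))
      (hz ⟨pairU θ u, pairU_mem_twistedF4 θ u⟩)
    beta_reduce at h1
    rw [coe_f4FieldAut, coe_f4FieldAut] at h1
    simp only [Subgroup.coe_mul, Subgroup.coe_inv] at h1
    rw [glMapEquiv_pairU, fixH_conj_pairU hτ _ hzfix, glMapEquiv_pairU, map_mul] at h1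
    exact pairU_inj θ _ _ h1
  have h1 := key 1
  rw [map_one, map_one, mul_one] at h1
  ext u
  rw [key u, ← h1, one_mul]

/-- `|Out(²F₄(q))| = |Aut(F)|` -/
theorem f4_card_out (k : ℕ) (hk : 0 < k) (hF : Fintype.card F = 2 ^ k) (hne : ∃ κ : F, κ ≠ 0 ∧ κ ≠ 1) :
    Nat.card (Cfsg.Out ↥(twistedF4 F θ)) = Nat.card (F ≃+* F) := by
  let Φ : (F ≃+* F) → Cfsg.Out ↥(twistedF4 F θ) := fun σ =>
    (QuotientGroup.mk (f4FieldAut θ σ : MulAut ↥(twistedF4 F θ)) : Cfsg.Out ↥(twistedF4 F θ))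
  have hinj : Function.Injective Φ := by
    intro σ ρ hσρ
    have h1 : ((f4FieldAut θ σ : MulAut ↥(twistedF4 F θ)))⁻¹ * (f4FieldAut θ ρ : MulAut ↥(twistedF4 F θ)) ∈
        Cfsg.Inn ↥(twistedF4 F θ) := QuotientGroup.eq.mp hσρ
    obtain ⟨z, hz⟩ := h1
    have h2 : ∀ y, f4FieldAut θ ρ y = f4FieldAut θ σ (z * y * z⁻¹) := by
      intro y
      have := congrArg (fun ψ : MulAut ↥(twistedF4 F θ) => ψ y) hz
      simp only [MulAut.conj_apply, MulAut.mul_apply, MulAut.inv_apply] at this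
      rw [this, MulEquiv.apply_symm_apply]
    exact (f4_field_eq_of_inner hτ σ ρ z h2).symm
  have hsurj : Function.Surjective Φ := by
    intro x
    obtain ⟨α, rfl⟩ := QuotientGroup.mk_surjective x
    obtain ⟨z, σ, hzσ⟩ := f4_aut hτ k hk hF hne α
    refine ⟨σ, ?_⟩
    have h1 : (α : MulAut ↥(twistedF4 F θ)) =
        MulAut.conj z * (f4FieldAut θ σ : MulAut ↥(twistedF4 F θ)) := by
      ext y
      rw [hzσ y, MulAut.mul_apply, MulAut.conj_apply]
    show (QuotientGroup.mk (f4FieldAut θ σ : MulAut ↥(twistedF4 F θ)) : Cfsg.Out ↥(twistedF4 F θ)) =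
      QuotientGroup.mk α
    have h2 : (MulAut.conj z : MulAut ↥(twistedF4 F θ)) ∈ Cfsg.Inn ↥(twistedF4 F θ) := ⟨z, rfl⟩
    rw [h1, QuotientGroup.mk_mul, (QuotientGroup.eq_one_iff (MulAut.conj z)).mpr h2, one_mul]
  exact (Nat.card_congr (Equiv.ofBijective Φ ⟨hinj, hsurj⟩)).symm

end

section
variable {K : Type*} [Field K] [Fintype K] {m : ℕ}

/-- the outer automorphism group of `²F₄(2^(2m+1))` has order `2m+1` -/
theorem twistedF4_card_out (hm : 1 ≤ m) (hK : Fintype.card K = 2 ^ (2 * m + 1)) :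
    Nat.card (Cfsg.Out ↥(twistedF4 K (2 ^ m))) = 2 * m + 1 := by
  classical
  obtain ⟨τ, hτ⟩ := exists_tauData hK
  have hne : ∃ κ : K, κ ≠ 0 ∧ κ ≠ 1 := by
    by_contra hcon
    push Not at hcon
    have hsub : (Finset.univ : Finset K) ⊆ {0, 1} := by
      intro v _
      by_cases hv : v = 0
      · simp [hv]
      · simp [hcon v hv]
    have h3 := Finset.card_le_card hsub
    have h2 : ({0, 1} : Finset K).card ≤ 2 := Finset.card_le_two
    rw [Finset.card_univ, hK] at h3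
    have : 2 ^ 2 ≤ 2 ^ (2 * m + 1) := Nat.pow_le_pow_right (by norm_num) (by omega)
    omega
  have : Fact (Nat.Prime 2) := ⟨Nat.prime_two⟩
  have : CharP K 2 := charP2_of_card hK
  rw [f4_card_out hτ (2 * m + 1) (by omega) hK hne]
  exact card_ringEquiv_field 2 hK

end

end Cfsg.Agent.Lib.Helper11.F4T
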