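import Mathlib

/-! Unipotent groups of type `B₂` in characteristic 2: the product law (helper11). -/

set_option autoImplicit false

namespace Cfsg.Agent.Lib.Helper11.F4T

variable {G : Type*} [Group G] {F : Type*} [Field F]

/-- the relations of a unipotent group of type `B₂` (`a` short, `b` long) in characteristic 2 -/
structure B2Grp (xa xb xab xaab : F → G) : Prop where
  add_a : ∀ s t, xa s * xa t = xa (s + t)
  add_b : ∀ s t, xb s * xb t = xb (s + t)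
  add_ab : ∀ s t, xab s * xab t = xab (s + t)
  add_aab : ∀ s t, xaab s * xaab t = xaab (s + t)
  c_a_ab : ∀ s t, Commute (xa s) (xab t)
  c_a_aab : ∀ s t, Commute (xa s) (xaab t)
  c_b_ab : ∀ s t, Commute (xb s) (xab t)
  c_b_aab : ∀ s t, Commute (xb s) (xaab t)
  c_ab_aab : ∀ s t, Commute (xab s) (xaab t)
  rel : ∀ t u, xb u * xa t = xa t * xb u * (xab (t * u) * xaab (t ^ 2 * u))

/-- the product over the four roots -/
def P4 (xa xb xab xaab : F → G) (t₁ t₂ t₃ t₄ : F) : G := xa t₁ * xb t₂ * (xab t₃ * xaab t₄)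

theorem hom_zero (x : F → G) (h : ∀ s t, x s * x t = x (s + t)) : x 0 = 1 := by
  have := h 0 0
  rw [add_zero] at this
  exact mul_eq_left.mp this

variable {xa xb xab xaab : F → G} (h : B2Grp xa xb xab xaab)
include h

theorem B2Grp.zz (c d c' d' : F) :
    (xab c * xaab d) * (xab c' * xaab d') = xab (c + c') * xaab (d + d') := by
  have e : xaab d * xab c' = xab c' * xaab d := (h.c_ab_aab c' d).eq.symm
  calc (xab c * xaab d) * (xab c' * xaab d') = xab c * (xaab d * xab c') * xaab d' := by group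
    _ = xab c * (xab c' * xaab d) * xaab d' := by rw [e]
    _ = (xab c * xab c') * (xaab d * xaab d') := by group
    _ = _ := by rw [h.add_ab, h.add_aab]

theorem B2Grp.z_comm_a (c d s : F) : Commute (xab c * xaab d) (xa s) :=
  ((h.c_a_ab s c).symm).mul_left ((h.c_a_aab s d).symm)

theorem B2Grp.z_comm_b (c d s : F) : Commute (xab c * xaab d) (xb s) :=
  ((h.c_b_ab s c).symm).mul_left ((h.c_b_aab s d).symm)

/-- the product law -/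
theorem B2Grp.P4_mul (t₁ t₂ t₃ t₄ s₁ s₂ s₃ s₄ : F) :
    P4 xa xb xab xaab t₁ t₂ t₃ t₄ * P4 xa xb xab xaab s₁ s₂ s₃ s₄ =
      P4 xa xb xab xaab (t₁ + s₁) (t₂ + s₂) (t₃ + s₃ + s₁ * t₂) (t₄ + s₄ + s₁ ^ 2 * t₂) := by
  unfold P4
  have e1 : (xab t₃ * xaab t₄) * xa s₁ = xa s₁ * (xab t₃ * xaab t₄) := (h.z_comm_a t₃ t₄ s₁).eq
  have e2 : (xab t₃ * xaab t₄) * xb s₂ = xb s₂ * (xab t₃ * xaab t₄) := (h.z_comm_b t₃ t₄ s₂).eq
  have e3 : (xab (s₁ * t₂) * xaab (s₁ ^ 2 * t₂)) * xb s₂ = xb s₂ * (xab (s₁ * t₂) * xaab (s₁ ^ 2 * t₂)) :=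
    (h.z_comm_b _ _ s₂).eq
  calc xa t₁ * xb t₂ * (xab t₃ * xaab t₄) * (xa s₁ * xb s₂ * (xab s₃ * xaab s₄))
      = xa t₁ * xb t₂ * ((xab t₃ * xaab t₄) * xa s₁) * xb s₂ * (xab s₃ * xaab s₄) := by group
    _ = xa t₁ * xb t₂ * (xa s₁ * (xab t₃ * xaab t₄)) * xb s₂ * (xab s₃ * xaab s₄) := by rw [e1]
    _ = xa t₁ * (xb t₂ * xa s₁) * ((xab t₃ * xaab t₄) * xb s₂) * (xab s₃ * xaab s₄) := by group
    _ = xa t₁ * (xa s₁ * xb t₂ * (xab (s₁ * t₂) * xaab (s₁ ^ 2 * t₂))) * (xb s₂ * (xab t₃ * xaab t₄)) *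
        (xab s₃ * xaab s₄) := by rw [h.rel, e2]
    _ = (xa t₁ * xa s₁) * xb t₂ * ((xab (s₁ * t₂) * xaab (s₁ ^ 2 * t₂)) * xb s₂) * (xab t₃ * xaab t₄) *
        (xab s₃ * xaab s₄) := by group
    _ = (xa t₁ * xa s₁) * xb t₂ * (xb s₂ * (xab (s₁ * t₂) * xaab (s₁ ^ 2 * t₂))) * (xab t₃ * xaab t₄) *
        (xab s₃ * xaab s₄) := by rw [e3]
    _ = (xa t₁ * xa s₁) * (xb t₂ * xb s₂) * ((xab (s₁ * t₂) * xaab (s₁ ^ 2 * t₂)) * (xab t₃ * xaab t₄) *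
        (xab s₃ * xaab s₄)) := by group
    _ = _ := by
      rw [h.add_a, h.add_b, h.zz, h.zz]
      congr 2
      · congr 1; ring
      · congr 1; ring

theorem B2Grp.P4_zero : P4 xa xb xab xaab 0 0 0 0 = 1 := by
  unfold P4
  rw [hom_zero xa h.add_a, hom_zero xb h.add_b, hom_zero xab h.add_ab, hom_zero xaab h.add_aab]
  group

theorem B2Grp.P4_inv (h2 : (2 : F) = 0) (t₁ t₂ t₃ t₄ : F) :
    (P4 xa xb xab xaab t₁ t₂ t₃ t₄)⁻¹ =
      P4 xa xb xab xaab t₁ t₂ (t₃ + t₁ * t₂) (t₄ + t₁ ^ 2 * t₂) := by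
  rw [inv_eq_iff_mul_eq_one, h.P4_mul]
  have e1 : t₁ + t₁ = 0 := by linear_combination t₁ * h2
  have e2 : t₂ + t₂ = 0 := by linear_combination t₂ * h2
  have e3 : t₃ + (t₃ + t₁ * t₂) + t₁ * t₂ = 0 := by linear_combination (t₃ + t₁ * t₂) * h2
  have e4 : t₄ + (t₄ + t₁ ^ 2 * t₂) + t₁ ^ 2 * t₂ = 0 := by linear_combination (t₄ + t₁ ^ 2 * t₂) * h2
  rw [e1, e2, e3, e4, h.P4_zero]

/-- the set of products is a subgroup -/
def B2Grp.sub (h : B2Grp xa xb xab xaab) (h2 : (2 : F) = 0) : Subgroup G where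
  carrier := {g | ∃ t₁ t₂ t₃ t₄, g = P4 xa xb xab xaab t₁ t₂ t₃ t₄}
  one_mem' := ⟨0, 0, 0, 0, h.P4_zero.symm⟩
  mul_mem' := by
    rintro _ _ ⟨t₁, t₂, t₃, t₄, rfl⟩ ⟨s₁, s₂, s₃, s₄, rfl⟩
    exact ⟨_, _, _, _, h.P4_mul _ _ _ _ _ _ _ _⟩
  inv_mem' := by
    rintro _ ⟨t₁, t₂, t₃, t₄, rfl⟩
    exact ⟨_, _, _, _, h.P4_inv h2 _ _ _ _⟩

theorem B2Grp.mem_sub (h2 : (2 : F) = 0) (g : G) :
    g ∈ h.sub h2 ↔ ∃ t₁ t₂ t₃ t₄, g = P4 xa xb xab xaab t₁ t₂ t₃ t₄ := Iff.rfl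

theorem B2Grp.P4_a (t : F) : P4 xa xb xab xaab t 0 0 0 = xa t := by
  unfold P4
  rw [hom_zero xb h.add_b, hom_zero xab h.add_ab, hom_zero xaab h.add_aab]
  group

theorem B2Grp.P4_b (t : F) : P4 xa xb xab xaab 0 t 0 0 = xb t := by
  unfold P4
  rw [hom_zero xa h.add_a, hom_zero xab h.add_ab, hom_zero xaab h.add_aab]
  group

theorem B2Grp.P4_ab (t : F) : P4 xa xb xab xaab 0 0 t 0 = xab t := by
  unfold P4
  rw [hom_zero xa h.add_a, hom_zero xb h.add_b, hom_zero xaab h.add_aab]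
  group

theorem B2Grp.P4_aab (t : F) : P4 xa xb xab xaab 0 0 0 t = xaab t := by
  unfold P4
  rw [hom_zero xa h.add_a, hom_zero xb h.add_b, hom_zero xab h.add_ab]
  group

/-- the same group in the order `b, a, a+b, 2a+b` -/
theorem B2Grp.P4_swap (t₁ t₂ t₃ t₄ : F) :
    xb t₂ * xa t₁ * (xab t₃ * xaab t₄) =
      P4 xa xb xab xaab t₁ t₂ (t₃ + t₁ * t₂) (t₄ + t₁ ^ 2 * t₂) := by
  unfold P4
  rw [h.rel, mul_assoc, h.zz]
  congr 2
  · congr 1; ring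
  · congr 1; ring

end Cfsg.Agent.Lib.Helper11.F4T
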