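import Cfsg.Agent.Lib.Helper7.ChevOrdA
import Cfsg.Agent.Lib.Helper7.ChevUp
import Cfsg.Agent.Lib.Helper7.ChevSylow
import Cfsg.Prelude.Def_ChevF4
import Cfsg.Prelude.Def_LieTwisted

/-! The exponent of the unipotent subgroup `U` of `F₄(K)`, `char K = 2`, divides `16` (helper11). -/

set_option autoImplicit false
set_option maxRecDepth 100000

namespace Cfsg.Agent.Lib.Helper11.F4E

open Cfsg Cfsg.Lie Matrix Cfsg.Agent.Lib.Helper7
open scoped Pointwise

theorem f4e_mem : chevF4 ∈ [chevG2, chevB2, chevD4, chevF4, chevE6, chevE7, chevE8] := by simp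

/-- the subgroup generated by the root subgroups of a list of roots -/
abbrev XLe (F : Type*) [Field F] (l : List ℕ) : Subgroup (GL chevF4.Idx F) :=
  Subgroup.closure (gensL chevF4 F l)

/-- squares of the elements of a group generated by elements that are commuting involutions modulo a subgroup
which they normalise lie in that subgroup -/
theorem sq_mem_of_gens {G : Type*} [Group G] (SA : Set G) (N : Subgroup G)
    (hN : ∀ a ∈ SA, a ∈ Subgroup.normalizer (N : Set G))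
    (hsq : ∀ a ∈ SA, a * a ∈ N)
    (hcomm : ∀ a ∈ SA, ∀ b ∈ SA, a * b * a⁻¹ * b⁻¹ ∈ N) :
    ∀ x ∈ Subgroup.closure SA, x * x ∈ N := by
  have hAN : Subgroup.closure SA ≤ Subgroup.normalizer (N : Set G) := by
    rw [Subgroup.closure_le]; exact hN
  have hconj : ∀ x ∈ Subgroup.closure SA, ∀ n ∈ N, x * n * x⁻¹ ∈ N := by
    intro x hx n hn
    have := hAN hx
    rw [Subgroup.mem_set_normalizer_iff] at this
    exact (this n).mp hn
  have h1 : ∀ x ∈ Subgroup.closure SA, ∀ b ∈ SA, x * b * x⁻¹ * b⁻¹ ∈ N := by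
    intro x hx b hb
    induction hx using Subgroup.closure_induction with
    | mem a ha => exact hcomm a ha b hb
    | one => simp
    | mul x₁ x₂ hx₁ _ ih₁ ih₂ =>
      have e : x₁ * x₂ * b * (x₁ * x₂)⁻¹ * b⁻¹ =
          (x₁ * (x₂ * b * x₂⁻¹ * b⁻¹) * x₁⁻¹) * (x₁ * b * x₁⁻¹ * b⁻¹) := by group
      rw [e]
      exact N.mul_mem (hconj x₁ hx₁ _ ih₂) ih₁
    | inv x hx ih =>
      have e : x⁻¹ * b * x⁻¹⁻¹ * b⁻¹ = x⁻¹ * (x * b * x⁻¹ * b⁻¹)⁻¹ * x⁻¹⁻¹ := by group
      rw [e]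
      exact hconj x⁻¹ (Subgroup.inv_mem _ hx) _ (N.inv_mem ih)
  have h2 : ∀ x ∈ Subgroup.closure SA, ∀ y ∈ Subgroup.closure SA, x * y * x⁻¹ * y⁻¹ ∈ N := by
    intro x hx y hy
    induction hy using Subgroup.closure_induction with
    | mem b hb => exact h1 x hx b hb
    | one => simp
    | mul y₁ y₂ hy₁ _ ih₁ ih₂ =>
      have e : x * (y₁ * y₂) * x⁻¹ * (y₁ * y₂)⁻¹ =
          (x * y₁ * x⁻¹ * y₁⁻¹) * (y₁ * (x * y₂ * x⁻¹ * y₂⁻¹) * y₁⁻¹) := by group
      rw [e]
      exact N.mul_mem ih₁ (hconj y₁ hy₁ _ ih₂)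
    | inv y hy ih =>
      have e : x * y⁻¹ * x⁻¹ * y⁻¹⁻¹ = y⁻¹ * (x * y * x⁻¹ * y⁻¹)⁻¹ * y⁻¹⁻¹ := by group
      rw [e]
      exact hconj y⁻¹ (Subgroup.inv_mem _ hy) _ (N.inv_mem ih)
  intro x hx
  induction hx using Subgroup.closure_induction with
  | mem a ha => exact hsq a ha
  | one => simp
  | mul x₁ x₂ hx₁ hx₂ ih₁ ih₂ =>
    have e : x₁ * x₂ * (x₁ * x₂) = (x₁ * x₁) * (x₁⁻¹ * x₂ * x₁⁻¹⁻¹ * x₂⁻¹) * (x₂ * x₂) := by group
    rw [e]
    exact N.mul_mem (N.mul_mem ih₁ (h2 _ (Subgroup.inv_mem _ hx₁) _ hx₂)) ih₂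
  | inv x _ ih =>
    have e : x⁻¹ * x⁻¹ = (x * x)⁻¹ := by group
    rw [e]; exact N.inv_mem ih

/-- the table check: the commutator terms of two roots of `L` lie in `N ⊆ L` -/
def hgtB (L N : List ℕ) : Bool :=
  (N.all fun s => L.contains s) &&
  L.all fun r => decide (r < 48) && L.all fun s =>
    r == s || (!(s == chevF4.neg r) && (chevF4.commTerms r s).all fun c => N.contains c.1)

theorem hgtB_spec (L N : List ℕ) (h : hgtB L N = true) :
    (∀ s ∈ N, s ∈ L) ∧ ∀ r ∈ L, r < 48 ∧ ∀ s ∈ L, r = s ∨ (s ≠ chevF4.neg r ∧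
      ∀ c ∈ chevF4.commTerms r s, c.1 ∈ N) := by
  unfold hgtB at h
  simp only [Bool.and_eq_true, List.all_eq_true, decide_eq_true_eq, List.contains_iff_mem, Bool.or_eq_true,
    beq_iff_eq, Bool.not_eq_true', beq_eq_false_iff_ne] at h
  refine ⟨h.1, fun r hr => ⟨(h.2 r hr).1, fun s hs => ?_⟩⟩
  rcases (h.2 r hr).2 s hs with h1 | h1
  · exact Or.inl h1
  · exact Or.inr ⟨h1.1, h1.2⟩

section
variable {F : Type*} [Field F] (h2 : (2 : F) = 0)
include h2

/-- squaring maps `⟨X_r : r ∈ L⟩` into `⟨X_r : r ∈ N⟩` -/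
theorem sq_step (L N : List ℕ) (h : hgtB L N = true) : ∀ x ∈ XLe F L, x * x ∈ XLe F N := by
  obtain ⟨hNL, hL⟩ := hgtB_spec L N h
  have hword : ∀ r ∈ L, ∀ s ∈ L, r ≠ s → ∀ t u : F,
      wordGL chevF4 f4e_mem F (chevF4.commWord F r s t u) ∈ XLe F N := by
    intro r hr s hs hrs t u
    rcases (hL r hr).2 s hs with h1 | h1
    · exact absurd h1 hrs
    · unfold wordGL
      apply Subgroup.list_prod_mem
      intro g hg
      rw [List.mem_map] at hg
      obtain ⟨p, hp, rfl⟩ := hg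
      unfold ChevalleyDatum.commWord at hp
      rw [List.mem_map] at hp
      obtain ⟨c, hc, rfl⟩ := hp
      apply Subgroup.subset_closure
      exact ⟨c.1, h1.2 c hc, _, coe_xGL chevF4 f4e_mem F _ _⟩
  -- the generators normalise `⟨X_s : s ∈ N⟩`
  have hconj : ∀ r ∈ L, ∀ t : F, ∀ y ∈ gensL chevF4 F N,
      xGL chevF4 f4e_mem F r t * y * (xGL chevF4 f4e_mem F r t)⁻¹ ∈ XLe F N := by
    rintro r hr t y ⟨s, hs, u, hym⟩
    have hy : y = xGL chevF4 f4e_mem F s u := Units.ext (by rw [hym, coe_xGL])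
    rw [hy]
    by_cases hrs : r = s
    · subst hrs
      have : xGL chevF4 f4e_mem F r t * xGL chevF4 f4e_mem F r u * (xGL chevF4 f4e_mem F r t)⁻¹ =
          xGL chevF4 f4e_mem F r u := by
        rw [xGL_inv, xGL_mul, xGL_mul]; congr 1; ring
      rw [this]
      exact Subgroup.subset_closure ⟨r, hs, u, coe_xGL chevF4 f4e_mem F _ _⟩
    · have hsL := hNL s hs
      rcases (hL r hr).2 s hsL with h1 | h1
      · exact absurd h1 hrs
      · rw [xGL_conj_xGL chevF4 f4e_mem F r s (hL r hr).1 (hL s hsL).1 (Ne.symm hrs) h1.1 t u]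
        exact Subgroup.mul_mem _ (Subgroup.subset_closure ⟨s, hs, u, coe_xGL chevF4 f4e_mem F _ _⟩)
          (hword r hr s hsL hrs _ _)
  have hnorm : ∀ a ∈ gensL chevF4 F L, a ∈ Subgroup.normalizer ((XLe F N : Subgroup _) : Set (GL chevF4.Idx F)) := by
    rintro a ⟨r, hr, t, ham⟩
    have ha : a = xGL chevF4 f4e_mem F r t := Units.ext (by rw [ham, coe_xGL])
    rw [ha]
    apply mem_normalizer_closure
    · exact hconj r hr t
    · intro y hy
      rw [xGL_inv]
      exact hconj r hr (-t) y hy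
  apply sq_mem_of_gens (gensL chevF4 F L) (XLe F N) hnorm
  · rintro a ⟨r, hr, t, ham⟩
    have ha : a = xGL chevF4 f4e_mem F r t := Units.ext (by rw [ham, coe_xGL])
    rw [ha, xGL_mul]
    have : t + t = 0 := by linear_combination t * h2
    rw [this, xGL_zero]
    exact Subgroup.one_mem _
  · rintro a ⟨r, hr, t, ham⟩ b ⟨s, hs, u, hbm⟩
    have ha : a = xGL chevF4 f4e_mem F r t := Units.ext (by rw [ham, coe_xGL])
    have hb : b = xGL chevF4 f4e_mem F s u := Units.ext (by rw [hbm, coe_xGL])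
    rw [ha, hb]
    by_cases hrs : r = s
    · subst hrs
      have : xGL chevF4 f4e_mem F r t * xGL chevF4 f4e_mem F r u * (xGL chevF4 f4e_mem F r t)⁻¹ *
          (xGL chevF4 f4e_mem F r u)⁻¹ = 1 := by
        rw [xGL_inv, xGL_inv, xGL_mul, xGL_mul, xGL_mul]
        have : t + u + -t + -u = 0 := by ring
        rw [this, xGL_zero]
      rw [this]
      exact Subgroup.one_mem _
    · rcases (hL r hr).2 s hs with h1 | h1
      · exact absurd h1 hrs
      · rw [xGL_conj_xGL chevF4 f4e_mem F r s (hL r hr).1 (hL s hs).1 (Ne.symm hrs) h1.1 t u]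
        have hb' := hnorm (xGL chevF4 f4e_mem F s u) ⟨s, hs, u, coe_xGL chevF4 f4e_mem F _ _⟩
        rw [Subgroup.mem_set_normalizer_iff] at hb'
        exact (hb' _).mp (hword r hr s hs hrs _ _)

end

/-- the positive roots of `F₄` of height at least `1`, `2`, `4`, `8` -/
def hL1 : List ℕ := [33, 27, 25, 24, 34, 28, 26, 30, 35, 29, 37, 31, 36, 41, 32, 38, 42, 39, 43, 40, 44, 45, 46, 47]
def hL2 : List ℕ := [34, 28, 26, 30, 35, 29, 37, 31, 36, 41, 32, 38, 42, 39, 43, 40, 44, 45, 46, 47]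
def hL4 : List ℕ := [37, 31, 36, 41, 32, 38, 42, 39, 43, 40, 44, 45, 46, 47]
def hL8 : List ℕ := [44, 45, 46, 47]

theorem hgtB_1 : hgtB hL1 hL2 = true := by decide +kernel
theorem hgtB_2 : hgtB hL2 hL4 = true := by decide +kernel
theorem hgtB_4 : hgtB hL4 hL8 = true := by decide +kernel
theorem hgtB_8 : hgtB hL8 [] = true := by decide +kernel

theorem hL1_pos : (∀ r ∈ hL1, r ∈ chevF4.posRoots) ∧ (∀ r ∈ chevF4.posRoots, r ∈ hL1) := by decide +kernel

section
variable {F : Type*} [Field F] (h2 : (2 : F) = 0)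
include h2

/-- the exponent of `U` divides `16` -/
theorem posUnipotent_pow_16 (x : GL chevF4.Idx F) (hx : x ∈ chevF4.posUnipotent F) : x ^ 16 = 1 := by
  have hx1 : x ∈ XLe F hL1 := by
    rw [posUnipotent_eq_closure_gensL] at hx
    have e : gensL chevF4 F chevF4.posRoots = gensL chevF4 F hL1 :=
      gensL_congr chevF4 F _ _ (fun r => ⟨hL1_pos.2 r, hL1_pos.1 r⟩)
    rw [e] at hx
    exact hx
  have h1 := sq_step h2 _ _ hgtB_1 x hx1
  have h2' := sq_step h2 _ _ hgtB_2 _ h1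
  have h4 := sq_step h2 _ _ hgtB_4 _ h2'
  have h8 := sq_step h2 _ _ hgtB_8 _ h4
  have hbot : XLe F [] = ⊥ := by
    have : gensL chevF4 F [] = ∅ := by ext g; simp [gensL]
    show Subgroup.closure (gensL chevF4 F []) = ⊥
    rw [this, Subgroup.closure_empty]
  rw [hbot, Subgroup.mem_bot] at h8
  rw [← h8]
  simp only [pow_succ, pow_zero, one_mul, mul_assoc]

end

section
variable {F : Type*} [Field F] [Fintype F] [CharP F 2]

/-- elements of `2`-power order of `F₄(q)`, `q` even, have order dividing `16` -/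
theorem orderOf_dvd_16 (x : GL chevF4.Idx F) (hx : x ∈ chevF4.group F) (j : ℕ) (hj : orderOf x = 2 ^ j) :
    orderOf x ∣ 16 := by
  classical
  have h2 : (2 : F) = 0 := by
    have := CharP.cast_eq_zero F 2
    exact_mod_cast this
  have : Fact (Nat.Prime 2) := ⟨Nat.prime_two⟩
  have hfin : Finite (GL chevF4.Idx F) := by
    have : Finite (Matrix chevF4.Idx chevF4.Idx F) := inferInstance
    exact Finite.of_injective (fun g : GL chevF4.Idx F => (g : Matrix chevF4.Idx chevF4.Idx F)) Units.val_injective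
  obtain ⟨P, hP⟩ := posUnipotent_sylow chevF4 f4e_mem F 2
  set x' : ↥(chevF4.group F) := ⟨x, hx⟩ with hx'
  have hord : orderOf x' = orderOf x := Subgroup.orderOf_mk x hx
  have hZ : IsPGroup 2 (Subgroup.zpowers x') := by
    apply IsPGroup.of_card (n := j)
    rw [Nat.card_zpowers, hord, hj]
  obtain ⟨Q, hQ⟩ := hZ.exists_le_sylow
  obtain ⟨g, hg⟩ := MulAction.exists_smul_eq ↥(chevF4.group F) Q P
  have hxQ : x' ∈ (Q : Subgroup ↥(chevF4.group F)) := hQ (Subgroup.mem_zpowers x')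
  have h1 : MulAut.conj g • x' ∈ MulAut.conj g • (Q : Subgroup ↥(chevF4.group F)) :=
    Subgroup.smul_mem_pointwise_smul _ _ _ hxQ
  have h3 : ((g • Q : Sylow 2 ↥(chevF4.group F)) : Subgroup ↥(chevF4.group F)) =
      MulAut.conj g • (Q : Subgroup ↥(chevF4.group F)) := rfl
  rw [← h3, hg, hP, MulAut.smul_def, MulAut.conj_apply, Subgroup.mem_subgroupOf] at h1
  have h4 := posUnipotent_pow_16 h2 _ h1
  have h5 : (g * x' * g⁻¹) ^ 16 = 1 := Subtype.ext (by
    rw [Subgroup.coe_pow]; exact h4)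
  rw [conj_pow] at h5
  have h6 : x' ^ 16 = 1 := by
    have : x' ^ 16 = g⁻¹ * (g * x' ^ 16 * g⁻¹) * g := by group
    rw [this, h5]; group
  rw [← hord]
  exact orderOf_dvd_of_pow_eq_one h6

end

/-- the twisted group lies in the Chevalley group -/
theorem twistedF4_le_group (F : Type*) [Field F] (θ : ℕ) : twistedF4 F θ ≤ chevF4.group F := by
  unfold twistedF4 ChevalleyDatum.genSubgroup
  rw [Subgroup.closure_le]
  rintro g ⟨w, -, hg⟩
  have : g = wordGL chevF4 f4e_mem F w := Units.ext (by rw [hg]; exact (coe_wordGL chevF4 f4e_mem F _).symm)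
  rw [this]
  exact wordGL_mem_group chevF4 f4e_mem F _

end Cfsg.Agent.Lib.Helper11.F4E
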