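import Cfsg.Agent.Lib.Helper11.F4Tw20

/-! `²F₄`: the action of the fixed torus on the twisted root elements, the product law of the root
elements of Suzuki type (helper11). -/

set_option autoImplicit false
set_option linter.unusedSectionVars false
set_option maxRecDepth 100000

namespace Cfsg.Agent.Lib.Helper11.F4T

open Cfsg Cfsg.Lie Matrix Cfsg.Agent.Lib.Helper7 Cfsg.Agent.Lib.Helper11 Cfsg.Agent.Lib.Helper11.Isog

theorem ccAll_F4_27_25 : ccAll chevF4 27 25 = [(28, 1, -1), (30, 2, -1)] := by decide +kernel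

section
variable {F : Type*} [Field F]
variable {τ : ↥(chevF4.group F) ≃* ↥(chevF4.group F)} {θ : ℕ} (hτ : TauData F τ θ)
include hτ

/-- the characters of a fixed diagonal element at the roots of the two fundamental classes -/
theorem fixH_char (h : GL chevF4.Idx F) (hh : h ∈ chevF4.diagonalSubgroup F ⊓ fixTau F τ) :
    ce 27 h = ce 25 h ^ θ ∧ ce 28 h = ce 25 h ^ (θ + 1) ∧ ce 30 h = ce 25 h ^ (2 * θ + 1) ∧
      ce 33 h = ce 24 h ^ θ := by
  obtain ⟨χ, hχ, e⟩ := mem_diagonalSubgroup_char chevF4 f4_mem F h (Subgroup.mem_inf.mp hh).1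
  rw [ce_diag _ _ e 27 (by decide), ce_diag _ _ e 25 (by decide), ce_diag _ _ e 28 (by decide),
    ce_diag _ _ e 30 (by decide), ce_diag _ _ e 33 (by decide), ce_diag _ _ e 24 (by decide)]
  have h27 : χ 27 = χ 25 ^ θ := by
    have := char_fix hτ h hh χ hχ e 25 (by decide)
    have e1 : rho_F4 25 = 27 := rfl
    have e2 : eF4 θ 25 = θ * 1 := rfl
    rw [e1, e2, mul_one] at this
    exact this
  have h33 : χ 33 = χ 24 ^ θ := by
    have := char_fix hτ h hh χ hχ e 24 (by decide)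
    have e1 : rho_F4 24 = 33 := rfl
    have e2 : eF4 θ 24 = θ * 1 := rfl
    rw [e1, e2, mul_one] at this
    exact this
  have h28 : χ 28 = χ 25 * χ 27 ^ 1 :=
    hχ.addC 27 (by decide) 25 (by decide) (28, 1, -1) (by rw [ccAll_F4_27_25]; simp) (by decide)
  have h30 : χ 30 = χ 25 * χ 27 ^ 2 :=
    hχ.addC 27 (by decide) 25 (by decide) (30, 2, -1) (by rw [ccAll_F4_27_25]; simp) (by decide)
  refine ⟨h27, ?_, ?_, h33⟩
  · rw [h28, h27, pow_one, pow_succ]; ring
  · rw [h30, h27, ← pow_mul, pow_succ]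
    have : θ * 2 = 2 * θ := by ring
    rw [this]; ring

/-- the action of a fixed diagonal element on the root elements of Suzuki type -/
theorem fixH_conj_suzU (h : GL chevF4.Idx F) (hh : h ∈ chevF4.diagonalSubgroup F ⊓ fixTau F τ) (t u : F) :
    h * suzU θ t u * h⁻¹ = suzU θ (ce 25 h * t) (ce 25 h ^ (θ + 1) * u) := by
  obtain ⟨χ, hχ, e⟩ := mem_diagonalSubgroup_char chevF4 f4_mem F h (Subgroup.mem_inf.mp hh).1
  obtain ⟨h27, h28, h30, -⟩ := fixH_char hτ h hh
  rw [ce_diag _ _ e 27 (by decide), ce_diag _ _ e 25 (by decide)] at h27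
  rw [ce_diag _ _ e 28 (by decide), ce_diag _ _ e 25 (by decide)] at h28
  rw [ce_diag _ _ e 30 (by decide), ce_diag _ _ e 25 (by decide)] at h30
  rw [ce_diag _ _ e 25 (by decide)]
  have e1 : h * suzU θ t u * h⁻¹ =
      P4 (X F 27) (X F 25) (X F 28) (X F 30) (χ 27 * t ^ θ) (χ 25 * t) (χ 28 * (t ^ (θ + 1) + u))
        (χ 30 * u ^ (2 * θ)) := by
    rw [suzU_eq]
    unfold P4
    rw [← diag_conj_X _ χ hχ e, ← diag_conj_X _ χ hχ e, ← diag_conj_X _ χ hχ e,
      ← diag_conj_X _ χ hχ e]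
    group
  rw [e1, suzU_eq, h27, h28, h30]
  have hk : (χ 25 ^ (θ + 1)) ^ (2 * θ) = χ 25 ^ (2 * θ + 1) := by
    rw [← pow_mul]
    have : (θ + 1) * (2 * θ) = 2 * θ * θ + 2 * θ := by ring
    rw [this, pow_add, hτ.pow, pow_succ]; ring
  congr 1
  · rw [mul_pow]
  · rw [mul_pow]; ring
  · rw [mul_pow, hk]

/-- the action of a fixed diagonal element on the root elements of the other fundamental class -/
theorem fixH_conj_pairU (h : GL chevF4.Idx F) (hh : h ∈ chevF4.diagonalSubgroup F ⊓ fixTau F τ) (t : F) :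
    h * pairU θ t * h⁻¹ = pairU θ (ce 24 h * t) := by
  obtain ⟨χ, hχ, e⟩ := mem_diagonalSubgroup_char chevF4 f4_mem F h (Subgroup.mem_inf.mp hh).1
  obtain ⟨-, -, -, h33⟩ := fixH_char hτ h hh
  rw [ce_diag _ _ e 33 (by decide), ce_diag _ _ e 24 (by decide)] at h33
  rw [ce_diag _ _ e 24 (by decide), pairU_eq, pairU_eq, mul_pow, ← h33,
    ← diag_conj_X _ χ hχ e, ← diag_conj_X _ χ hχ e]
  group

/-- the product law of the root elements of Suzuki type -/
theorem suzU_mul (t u t' u' : F) :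
    suzU θ t u * suzU θ t' u' = suzU θ (t + t') (u + u' + t ^ θ * t') := by
  rw [suzU_eq, suzU_eq, suzU_eq, (b2Grp_pos F hτ.two).P4_mul]
  congr 1
  · rw [hτ.add_pow]
  · have : (t + t') ^ (θ + 1) = t ^ (θ + 1) + t ^ θ * t' + t' ^ θ * t + t' ^ (θ + 1) := by
      rw [pow_succ, hτ.add_pow, pow_succ, pow_succ]; ring
    rw [this]
    linear_combination (-(t ^ θ * t')) * hτ.two
  · have e1 : (u + u' + t ^ θ * t') ^ (2 * θ) = u ^ (2 * θ) + u' ^ (2 * θ) + (t ^ θ * t') ^ (2 * θ) := by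
      rw [mul_comm 2 θ, pw_add2 hτ, pw_add2 hτ]
    have e2 : (t ^ θ * t') ^ (2 * θ) = t * t' ^ (2 * θ) := by
      rw [mul_pow, ← pow_mul]
      have : θ * (2 * θ) = 2 * θ * θ := by ring
      rw [this, hτ.pow]
    have e3 : (t' ^ θ) ^ 2 = t' ^ (2 * θ) := by rw [← pow_mul, mul_comm]
    rw [e1, e2, e3]; ring

theorem suzU_zero : suzU θ (0 : F) 0 = 1 := by
  have h := suzU_mul hτ (0 : F) 0 0 0
  simp only [add_zero, mul_zero] at h
  exact mul_eq_left.mp h

theorem suzU_inv (t u : F) : (suzU θ t u)⁻¹ = suzU θ t (u + t ^ (θ + 1)) := by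
  rw [inv_eq_iff_mul_eq_one, suzU_mul hτ]
  have e1 : t + t = 0 := add_self' hτ t
  have e2 : u + (u + t ^ (θ + 1)) + t ^ θ * t = 0 := by
    rw [pow_succ]; linear_combination (u + t ^ θ * t) * hτ.two
  rw [e1, e2, suzU_zero hτ]

end

end Cfsg.Agent.Lib.Helper11.F4T
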