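import Cfsg.Agent.Lib.Helper11.F4GenA

/-! `²F₄`: a subgroup containing a suitable torus element, one root element of Suzuki type and the
rotation of order 8 of the Weyl group contains all root elements (helper11). -/

set_option autoImplicit false
set_option linter.unusedSectionVars false
set_option maxRecDepth 100000

namespace Cfsg.Agent.Lib.Helper11.F4T

open Cfsg Cfsg.Lie Matrix Cfsg.Agent.Lib.Helper7 Cfsg.Agent.Lib.Helper11 Cfsg.Agent.Lib.Helper11.Isog

theorem gen_tab_cls : (clsJ 1).map (reflWord chevF4 (flatW W8)) = [20, 17, 19, 22] ∧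
    (clsJ 0).map (reflWord chevF4 (flatW W8)) = [14, 23] ∧
    (clsJ 1).map (reflWord chevF4 (flatW [0, 1, 0, 1, 0, 1, 0, 1, 0, 1])) = [34, 42, 36, 26] ∧
    (clsJ 1).map (reflWord chevF4 (flatW [0])) = [34, 42, 36, 26] ∧
    reflWord chevF4 (flatW [0, 1, 0, 1, 0, 1]) 26 = 25 ∧ reflWord chevF4 (wJ 1) 31 = 26 := by
  decide +kernel

theorem gen_tab_w0 : reflWord chevF4 (flatW [0]) 27 = 34 ∧ reflWord chevF4 (flatW [0]) 25 = 26 ∧
    reflWord chevF4 (flatW [0]) 28 = 36 ∧ reflWord chevF4 (flatW [0]) 30 = 42 := by decide +kernel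

theorem gen_tab_car : carR chevF4 33 26 = 0 ∧ carR chevF4 24 26 = 1 ∧ carR chevF4 33 31 = -2 ∧
    carR chevF4 24 31 = 1 := by decide +kernel

theorem gen_tab_comm : chevF4.commTerms 34 20 = [(33, -1, 1, 1)] ∧
    chevF4.commTerms 26 22 = [(24, 1, 1, 1)] ∧
    (∀ r ∈ [34, 42, 36, 26], ∀ s ∈ [20, 17, 19, 22], (r, s) ≠ (34, 20) → (r, s) ≠ (26, 22) →
      chevF4.commTerms r s = []) ∧
    (∀ r ∈ [34, 42, 36, 26, 20, 17, 19, 22, 24], chevF4.commTerms 33 r = []) ∧
    (∀ r ∈ [34, 42, 36, 26, 20, 17, 19, 22], chevF4.commTerms 24 r = []) := by decide +kernel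

/-- the commutator of two products of three factors with two non-commuting pairs and central
commutators -/
theorem oct_comm {G : Type*} [Group G] (A₁ A₂ A₃ B₁ B₂ B₃ P Q : G)
    (h11 : B₁ * A₁ = A₁ * B₁ * P) (h22 : B₂ * A₂ = A₂ * B₂ * Q)
    (h12 : Commute B₁ A₂) (h13 : Commute B₁ A₃) (h21 : Commute B₂ A₁) (h23 : Commute B₂ A₃)
    (h31 : Commute B₃ A₁) (h32 : Commute B₃ A₂) (h33 : Commute B₃ A₃)
    (hPA₂ : Commute P A₂) (hPA₃ : Commute P A₃) (hPB₂ : Commute P B₂) (hPB₃ : Commute P B₃)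
    (hQA₃ : Commute Q A₃) (hQB₃ : Commute Q B₃) (hPQ : Commute P Q) :
    B₁ * B₂ * B₃ * (A₁ * A₂ * A₃) = A₁ * A₂ * A₃ * (B₁ * B₂ * B₃) * (P * Q) := by
  have e1 : B₁ * B₂ * B₃ * A₁ = A₁ * (B₁ * B₂ * B₃) * P := by
    calc B₁ * B₂ * B₃ * A₁ = B₁ * B₂ * (B₃ * A₁) := by group
      _ = B₁ * B₂ * (A₁ * B₃) := by rw [h31.eq]
      _ = B₁ * (B₂ * A₁) * B₃ := by group
      _ = B₁ * (A₁ * B₂) * B₃ := by rw [h21.eq]
      _ = (B₁ * A₁) * B₂ * B₃ := by group
      _ = (A₁ * B₁ * P) * B₂ * B₃ := by rw [h11]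
      _ = A₁ * B₁ * (P * B₂) * B₃ := by group
      _ = A₁ * B₁ * (B₂ * P) * B₃ := by rw [hPB₂.eq]
      _ = A₁ * B₁ * B₂ * (P * B₃) := by group
      _ = A₁ * B₁ * B₂ * (B₃ * P) := by rw [hPB₃.eq]
      _ = _ := by group
  have e2 : B₁ * B₂ * B₃ * A₂ = A₂ * (B₁ * B₂ * B₃) * Q := by
    calc B₁ * B₂ * B₃ * A₂ = B₁ * B₂ * (B₃ * A₂) := by group
      _ = B₁ * B₂ * (A₂ * B₃) := by rw [h32.eq]
      _ = B₁ * (B₂ * A₂) * B₃ := by group
      _ = B₁ * (A₂ * B₂ * Q) * B₃ := by rw [h22]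
      _ = (B₁ * A₂) * B₂ * (Q * B₃) := by group
      _ = (A₂ * B₁) * B₂ * (B₃ * Q) := by rw [h12.eq, hQB₃.eq]
      _ = _ := by group
  have e3 : B₁ * B₂ * B₃ * A₃ = A₃ * (B₁ * B₂ * B₃) := by
    calc B₁ * B₂ * B₃ * A₃ = B₁ * B₂ * (B₃ * A₃) := by group
      _ = B₁ * B₂ * (A₃ * B₃) := by rw [h33.eq]
      _ = B₁ * (B₂ * A₃) * B₃ := by group
      _ = B₁ * (A₃ * B₂) * B₃ := by rw [h23.eq]
      _ = (B₁ * A₃) * B₂ * B₃ := by group
      _ = (A₃ * B₁) * B₂ * B₃ := by rw [h13.eq]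
      _ = _ := by group
  calc B₁ * B₂ * B₃ * (A₁ * A₂ * A₃) = (B₁ * B₂ * B₃ * A₁) * A₂ * A₃ := by group
    _ = (A₁ * (B₁ * B₂ * B₃) * P) * A₂ * A₃ := by rw [e1]
    _ = A₁ * (B₁ * B₂ * B₃) * (P * A₂) * A₃ := by group
    _ = A₁ * (B₁ * B₂ * B₃) * (A₂ * P) * A₃ := by rw [hPA₂.eq]
    _ = A₁ * (B₁ * B₂ * B₃ * A₂) * (P * A₃) := by group
    _ = A₁ * (A₂ * (B₁ * B₂ * B₃) * Q) * (A₃ * P) := by rw [e2, hPA₃.eq]
    _ = A₁ * A₂ * (B₁ * B₂ * B₃) * (Q * A₃) * P := by group
    _ = A₁ * A₂ * (B₁ * B₂ * B₃) * (A₃ * Q) * P := by rw [hQA₃.eq]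
    _ = A₁ * A₂ * (B₁ * B₂ * B₃ * A₃) * Q * P := by group
    _ = A₁ * A₂ * (A₃ * (B₁ * B₂ * B₃)) * Q * P := by rw [e3]
    _ = A₁ * A₂ * A₃ * (B₁ * B₂ * B₃) * (Q * P) := by group
    _ = _ := by rw [hPQ.eq]


section
variable {F : Type*} [Field F]

/-- a subgroup containing the four families of generators contains `²F₄` -/
theorem twistedF4_le_of_gens (θ : ℕ) (T : Subgroup (GL chevF4.Idx F)) (h1 : ∀ t : F, pairU θ t ∈ T)
    (h2 : ∀ t : F, pairV θ t ∈ T) (h3 : ∀ t u : F, suzU θ t u ∈ T) (h4 : ∀ t u : F, suzV θ t u ∈ T) :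
    twistedF4 F θ ≤ T := by
  unfold twistedF4 ChevalleyDatum.genSubgroup
  rw [Subgroup.closure_le]
  rintro g ⟨w, hw, hg⟩
  rcases hw with ⟨t, hw | hw⟩ | ⟨t, u, hw | hw⟩
  · have : g = pairU θ t := Units.ext (by rw [hg, hw]; exact (coe_wordGL chevF4 f4_mem F _).symm)
    rw [this]; exact h1 t
  · have : g = pairV θ t := Units.ext (by rw [hg, hw]; exact (coe_wordGL chevF4 f4_mem F _).symm)
    rw [this]; exact h2 t
  · have : g = suzU θ t u := Units.ext (by rw [hg, hw]; exact (coe_wordGL chevF4 f4_mem F _).symm)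
    rw [this]; exact h3 t u
  · have : g = suzV θ t u := Units.ext (by rw [hg, hw]; exact (coe_wordGL chevF4 f4_mem F _).symm)
    rw [this]; exact h4 t u

variable {τ : ↥(chevF4.group F) ≃* ↥(chevF4.group F)} {θ : ℕ} (hτ : TauData F τ θ)
include hτ

theorem pow_theta_eq_self (s : F) (h : s ^ θ = s) : s = 0 ∨ s = 1 := by
  have h1 : s ^ (2 * θ * θ) = s ^ 2 := by
    have : 2 * θ * θ = θ * θ * 2 := by ring
    rw [this, pow_mul, pow_mul, h, h]
  rw [hτ.pow] at h1
  have : s * (s - 1) = 0 := by linear_combination -h1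
  rcases mul_eq_zero.mp this with h | h
  · exact Or.inl h
  · exact Or.inr (sub_eq_zero.mp h)

/-- the orbit of a root element of Suzuki type under a fixed torus element -/
theorem torus_orbit (T : Subgroup (GL chevF4.Idx F)) (h : GL chevF4.Idx F)
    (hh : h ∈ chevF4.diagonalSubgroup F ⊓ fixTau F τ) (hT : h ∈ T) (k : ℕ) (t u : F)
    (htu : suzU θ t u ∈ T) :
    suzU θ (ce 25 h ^ k * t) ((ce 25 h ^ (θ + 1)) ^ k * u) ∈ T := by
  induction k with
  | zero => simpa using htu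
  | succ k ih =>
    have := T.mul_mem (T.mul_mem hT ih) (T.inv_mem hT)
    rw [fixH_conj_suzU hτ h hh] at this
    have e1 : ce 25 h * (ce 25 h ^ k * t) = ce 25 h ^ (k + 1) * t := by ring
    have e2 : ce 25 h ^ (θ + 1) * ((ce 25 h ^ (θ + 1)) ^ k * u) = (ce 25 h ^ (θ + 1)) ^ (k + 1) * u := by ring
    rw [e1, e2] at this
    exact this

/-- a subgroup containing one root element of Suzuki type and a suitable fixed torus element contains the
whole root subgroup -/
theorem suz_le_of_torus (T : Subgroup (GL chevF4.Idx F)) (h : GL chevF4.Idx F)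
    (hh : h ∈ chevF4.diagonalSubgroup F ⊓ fixTau F τ) (hT : h ∈ T) (s : F)
    (hgen : ∀ v : F, v ≠ 0 → ∃ j : ℕ, s ^ j = v) (hs0 : s ≠ 0) (hs1 : s ≠ 1)
    (hc : ce 25 h ^ (θ + 1) = s) (h10 : suzU θ 1 0 ∈ T) (t u : F) : suzU θ t u ∈ T := by
  -- the elements `(v, 0)`
  have hA : ∀ v : F, v ≠ 0 → suzU θ v 0 ∈ T := by
    intro v hv
    obtain ⟨j, hj⟩ := hgen v hv
    have := torus_orbit hτ T h hh hT ((θ + 1) * j) 1 0 h10
    rw [mul_zero, mul_one, pow_mul, hc, hj] at this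
    exact this
  -- the elements `(0, u)`
  have hmulB : ∀ (j : ℕ) (u : F), suzU θ 0 u ∈ T → suzU θ 0 (s ^ j * u) ∈ T := by
    intro j u hu
    have := torus_orbit hτ T h hh hT j 0 u hu
    rw [mul_zero, hc] at this
    exact this
  have haddB : ∀ u u' : F, suzU θ 0 u ∈ T → suzU θ 0 u' ∈ T → suzU θ 0 (u + u') ∈ T := by
    intro u u' hu hu'
    have := T.mul_mem hu hu'
    rw [suzU_mul hτ] at this
    simpa using this
  have hw : suzU θ 0 (s ^ θ + s) ∈ T := by
    have h1 := T.mul_mem (T.inv_mem (T.mul_mem h10 (hA s hs0))) (T.mul_mem (hA s hs0) h10)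
    rw [suzU_mul hτ, suzU_mul hτ, suzU_inv hτ, suzU_mul hτ] at h1
    have e1 : (1 : F) + s + (s + 1) = 0 := by linear_combination (s + 1) * hτ.two
    have e2 : (0 : F) + 0 + 1 ^ θ * s + (1 + s) ^ (θ + 1) + (0 + 0 + s ^ θ * 1) + (1 + s) ^ θ * (s + 1)
        = s ^ θ + s := by
      rw [pow_succ, hτ.add_pow, one_pow]
      linear_combination (1 + s ^ θ + s + s ^ θ * s) * hτ.two
    rw [e1, e2] at h1
    exact h1
  have hw0 : s ^ θ + s ≠ 0 := by
    intro h0
    have : s ^ θ = s := by linear_combination h0 - s * hτ.two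
    rcases pow_theta_eq_self hτ s this with h | h
    · exact hs0 h
    · exact hs1 h
  have hB : ∀ u : F, suzU θ 0 u ∈ T := by
    intro u
    by_cases hu : u = 0
    · rw [hu, suzU_zero hτ]; exact T.one_mem
    · obtain ⟨j, hj⟩ := hgen (u / (s ^ θ + s)) (div_ne_zero hu hw0)
      have := hmulB j _ hw
      rw [hj, div_mul_cancel₀ _ hw0] at this
      exact this
  by_cases ht : t = 0
  · rw [ht]; exact hB u
  · have := T.mul_mem (hA t ht) (hB u)
    rw [suzU_mul hτ] at this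
    simpa using this

/-- the fixed points of the conjugates of a class subgroup -/
theorem cls_le (T : Subgroup (GL chevF4.Idx F)) (J : ℕ) (hJ : XJ F J ⊓ fixTau F τ ≤ T) (pre : List ℕ)
    (hpre : nW F pre ∈ T) :
    XL F ((clsJ J).map (reflWord chevF4 (flatW pre))) ⊓ fixTau F τ ≤ T := by
  intro a ha
  have h1 := hJ (conj_mem_fix' hτ (clsJ J) (clsJ_lt J) pre a ha)
  have e : a = nW F pre * ((nW F pre)⁻¹ * a * nW F pre) * (nW F pre)⁻¹ := by group
  rw [e]
  exact T.mul_mem (T.mul_mem hpre h1) (T.inv_mem hpre)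

theorem suzV_le (T : Subgroup (GL chevF4.Idx F)) (hJ : XJ F 1 ⊓ fixTau F τ ≤ T)
    (hpre : nW F W8 ∈ T) (t u : F) : suzV θ t u ∈ T := by
  apply cls_le hτ T 1 hJ W8 hpre
  rw [gen_tab_cls.1]
  refine Subgroup.mem_inf.mpr ⟨?_, twistedF4_le_fixTau hτ (suzV_mem_twistedF4 θ t u)⟩
  rw [suzV_eq]
  unfold P4
  have hX : ∀ r ∈ [20, 17, 19, 22], ∀ x : F, X F r x ∈ XL F [20, 17, 19, 22] :=
    fun r hr x => Subgroup.subset_closure ⟨r, hr, x, rfl⟩
  exact Subgroup.mul_mem _ (Subgroup.mul_mem _ (hX 20 (by decide) _) (hX 22 (by decide) _))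
    (Subgroup.mul_mem _ (hX 19 (by decide) _) (hX 17 (by decide) _))

theorem pairV_le (T : Subgroup (GL chevF4.Idx F)) (hJ : XJ F 0 ⊓ fixTau F τ ≤ T)
    (hpre : nW F W8 ∈ T) (t : F) : pairV θ t ∈ T := by
  apply cls_le hτ T 0 hJ W8 hpre
  rw [gen_tab_cls.2.1]
  refine Subgroup.mem_inf.mpr ⟨?_, twistedF4_le_fixTau hτ (pairV_mem_twistedF4 θ t)⟩
  rw [pairV_eq]
  have hX : ∀ r ∈ [14, 23], ∀ x : F, X F r x ∈ XL F [14, 23] :=
    fun r hr x => Subgroup.subset_closure ⟨r, hr, x, rfl⟩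
  exact Subgroup.mul_mem _ (hX 14 (by decide) _) (hX 23 (by decide) _)

omit hτ in
theorem comm_single (r s k : ℕ) (c : ℤ) (hr : r < 48) (hs : s < 48) (hsr : s ≠ r)
    (hsn : s ≠ chevF4.neg r) (h : chevF4.commTerms r s = [(k, c, 1, 1)]) (a b : F) :
    X F s b * X F r a = X F r a * X F s b * X F k ((c : F) * (-a) * b) := by
  have := comm_formula_GL chevF4 f4_mem F r s hr hs hsr hsn a b
  unfold ChevalleyDatum.commWord at this
  rw [h] at this
  simp only [List.map_cons, List.map_nil, wordGL, List.prod_cons, List.prod_nil, mul_one, pow_one] at this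
  exact this

omit hτ in
theorem comm_nil (r s : ℕ) (hr : r < 48) (hs : s < 48) (hsr : s ≠ r)
    (hsn : s ≠ chevF4.neg r) (h : chevF4.commTerms r s = []) (a b : F) :
    Commute (X F r a) (X F s b) := xGL_comm_of_nil chevF4 f4_mem F r s hr hs hsr hsn h a b

/-- the root elements of the other class as commutators of root elements of Suzuki type -/
theorem pairU_le (T : Subgroup (GL chevF4.Idx F)) (hJ : XJ F 1 ⊓ fixTau F τ ≤ T)
    (hpre : nW F [0, 1, 0, 1, 0, 1, 0, 1, 0, 1] ∈ T) (hz : suzV θ 1 0 ∈ T) (v : F) : pairU θ v ∈ T := by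
  obtain ⟨-, c27, hc27, h27⟩ := actsAs_nW F [0] 27 (by decide)
  obtain ⟨-, c25, hc25, h25⟩ := actsAs_nW F [0] 25 (by decide)
  obtain ⟨-, c28, hc28, h28⟩ := actsAs_nW F [0] 28 (by decide)
  obtain ⟨-, c30, hc30, h30⟩ := actsAs_nW F [0] 30 (by decide)
  rw [gen_tab_w0.1] at h27
  rw [gen_tab_w0.2.1] at h25
  rw [gen_tab_w0.2.2.1] at h28
  rw [gen_tab_w0.2.2.2] at h30
  set t : F := c25⁻¹ * v with ht
  set n := nW F [0] with hn
  -- the conjugate `y`
  have hyfix : n * suzU θ t 0 * n⁻¹ ∈ XL F [34, 42, 36, 26] ⊓ fixTau F τ := by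
    have := conj_mem_fix hτ (clsJ 1) (clsJ_lt 1) [0] (suzU θ t 0)
      ((XJ_one_inf_fixTau hτ _).mpr ⟨t, 0, rfl⟩)
    rw [gen_tab_cls.2.2.2.1] at this
    exact this
  have hyT : n * suzU θ t 0 * n⁻¹ ∈ T := by
    apply cls_le hτ T 1 hJ _ hpre
    rw [gen_tab_cls.2.2.1]
    exact hyfix
  have hy : n * suzU θ t 0 * n⁻¹ = X F 34 (c27 * t ^ θ) * X F 26 (c25 * t) *
      (X F 36 (c28 * (t ^ (θ + 1) + 0)) * X F 42 (c30 * (0 : F) ^ (2 * θ))) := by
    rw [suzU_eq]
    unfold P4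
    rw [show X F 34 (c27 * t ^ θ) = n * X F 27 (t ^ θ) * n⁻¹ from (h27 _).symm,
      show X F 26 (c25 * t) = n * X F 25 t * n⁻¹ from (h25 _).symm,
      show X F 36 (c28 * (t ^ (θ + 1) + 0)) = n * X F 28 (t ^ (θ + 1) + 0) * n⁻¹ from (h28 _).symm,
      show X F 42 (c30 * (0 : F) ^ (2 * θ)) = n * X F 30 ((0 : F) ^ (2 * θ)) * n⁻¹ from (h30 _).symm]
    group
  have hzfix : suzV θ (1 : F) 0 ∈ fixTau F τ := twistedF4_le_fixTau hτ (suzV_mem_twistedF4 θ 1 0)
  have hz' : suzV θ (1 : F) 0 = X F 20 ((1 : F) ^ θ) * X F 22 1 *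
      (X F 19 ((1 : F) ^ (θ + 1) + 0) * X F 17 ((0 : F) ^ (2 * θ))) := by
    rw [suzV_eq]; rfl
  obtain ⟨t1, t2, t3, t4, t5⟩ := gen_tab_comm
  have key := oct_comm (X F 34 (c27 * t ^ θ)) (X F 26 (c25 * t))
    (X F 36 (c28 * (t ^ (θ + 1) + 0)) * X F 42 (c30 * (0 : F) ^ (2 * θ)))
    (X F 20 ((1 : F) ^ θ)) (X F 22 1) (X F 19 ((1 : F) ^ (θ + 1) + 0) * X F 17 ((0 : F) ^ (2 * θ)))
    (X F 33 (((-1 : ℤ) : F) * (-(c27 * t ^ θ)) * (1 : F) ^ θ)) (X F 24 (((1 : ℤ) : F) * (-(c25 * t)) * 1))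
    (comm_single 34 20 33 (-1) (by decide) (by decide) (by decide) (by decide) t1 _ _)
    (comm_single 26 22 24 1 (by decide) (by decide) (by decide) (by decide) t2 _ _)
    (comm_nil 26 20 (by decide) (by decide) (by decide) (by decide)
      (t3 26 (by decide) 20 (by decide) (by decide) (by decide)) _ _).symm
    (Commute.mul_right
      (comm_nil 36 20 (by decide) (by decide) (by decide) (by decide)
        (t3 36 (by decide) 20 (by decide) (by decide) (by decide)) _ _).symm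
      (comm_nil 42 20 (by decide) (by decide) (by decide) (by decide)
        (t3 42 (by decide) 20 (by decide) (by decide) (by decide)) _ _).symm)
    (comm_nil 34 22 (by decide) (by decide) (by decide) (by decide)
      (t3 34 (by decide) 22 (by decide) (by decide) (by decide)) _ _).symm
    (Commute.mul_right
      (comm_nil 36 22 (by decide) (by decide) (by decide) (by decide)
        (t3 36 (by decide) 22 (by decide) (by decide) (by decide)) _ _).symm
      (comm_nil 42 22 (by decide) (by decide) (by decide) (by decide)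
        (t3 42 (by decide) 22 (by decide) (by decide) (by decide)) _ _).symm)
    (Commute.mul_left
      (comm_nil 34 19 (by decide) (by decide) (by decide) (by decide)
        (t3 34 (by decide) 19 (by decide) (by decide) (by decide)) _ _).symm
      (comm_nil 34 17 (by decide) (by decide) (by decide) (by decide)
        (t3 34 (by decide) 17 (by decide) (by decide) (by decide)) _ _).symm)
    (Commute.mul_left
      (comm_nil 26 19 (by decide) (by decide) (by decide) (by decide)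
        (t3 26 (by decide) 19 (by decide) (by decide) (by decide)) _ _).symm
      (comm_nil 26 17 (by decide) (by decide) (by decide) (by decide)
        (t3 26 (by decide) 17 (by decide) (by decide) (by decide)) _ _).symm)
    (Commute.mul_left
      (Commute.mul_right
        (comm_nil 36 19 (by decide) (by decide) (by decide) (by decide)
          (t3 36 (by decide) 19 (by decide) (by decide) (by decide)) _ _).symm
        (comm_nil 42 19 (by decide) (by decide) (by decide) (by decide)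
          (t3 42 (by decide) 19 (by decide) (by decide) (by decide)) _ _).symm)
      (Commute.mul_right
        (comm_nil 36 17 (by decide) (by decide) (by decide) (by decide)
          (t3 36 (by decide) 17 (by decide) (by decide) (by decide)) _ _).symm
        (comm_nil 42 17 (by decide) (by decide) (by decide) (by decide)
          (t3 42 (by decide) 17 (by decide) (by decide) (by decide)) _ _).symm))
    (comm_nil 33 26 (by decide) (by decide) (by decide) (by decide) (t4 26 (by decide)) _ _)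
    (Commute.mul_right
      (comm_nil 33 36 (by decide) (by decide) (by decide) (by decide) (t4 36 (by decide)) _ _)
      (comm_nil 33 42 (by decide) (by decide) (by decide) (by decide) (t4 42 (by decide)) _ _))
    (comm_nil 33 22 (by decide) (by decide) (by decide) (by decide) (t4 22 (by decide)) _ _)
    (Commute.mul_right
      (comm_nil 33 19 (by decide) (by decide) (by decide) (by decide) (t4 19 (by decide)) _ _)
      (comm_nil 33 17 (by decide) (by decide) (by decide) (by decide) (t4 17 (by decide)) _ _))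
    (Commute.mul_right
      (comm_nil 24 36 (by decide) (by decide) (by decide) (by decide) (t5 36 (by decide)) _ _)
      (comm_nil 24 42 (by decide) (by decide) (by decide) (by decide) (t5 42 (by decide)) _ _))
    (Commute.mul_right
      (comm_nil 24 19 (by decide) (by decide) (by decide) (by decide) (t5 19 (by decide)) _ _)
      (comm_nil 24 17 (by decide) (by decide) (by decide) (by decide) (t5 17 (by decide)) _ _))
    (pair_comm_pos F _ _)
  rw [← hy, ← hz'] at key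
  -- the commutator lies in `T`, in `X_{J₁}` and is fixed
  set PQ := X F 33 (((-1 : ℤ) : F) * (-(c27 * t ^ θ)) * (1 : F) ^ θ) *
    X F 24 (((1 : ℤ) : F) * (-(c25 * t)) * 1) with hPQ
  have e : PQ = (n * suzU θ t 0 * n⁻¹ * suzV θ 1 0)⁻¹ * (suzV θ 1 0 * (n * suzU θ t 0 * n⁻¹)) := by
    rw [key]; group
  have hPQT : PQ ∈ T := by
    rw [e]
    exact T.mul_mem (T.inv_mem (T.mul_mem hyT hz)) (T.mul_mem hz hyT)
  have hPQfix : PQ ∈ XJ F 0 ⊓ fixTau F τ := by
    refine Subgroup.mem_inf.mpr ⟨Subgroup.mul_mem _ (X_mem_XJ F 0 33 (by decide) _)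
      (X_mem_XJ F 0 24 (by decide) _), ?_⟩
    rw [e]
    have hyf := (Subgroup.mem_inf.mp hyfix).2
    exact Subgroup.mul_mem _ (Subgroup.inv_mem _ (Subgroup.mul_mem _ hyf hzfix))
      (Subgroup.mul_mem _ hzfix hyf)
  obtain ⟨v', hv'⟩ := (XJ_zero_inf_fixTau hτ _).mp hPQfix
  rw [pairU_eq] at hv'
  obtain ⟨-, hv2⟩ := pair_inj F _ _ _ _ hv'
  have hv3 : v' = v := by
    rw [← hv2, ht]
    have : (-(c25 * (c25⁻¹ * v)) : F) = v := by
      rw [← mul_assoc, mul_inv_cancel₀ hc25, one_mul, hτ.neg_eq]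
    rw [this]; simp
  rw [← hv3, pairU_eq, ← hv']
  exact hPQT

end

end Cfsg.Agent.Lib.Helper11.F4T
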