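import Cfsg.Agent.Lib.Helper11.F4Tw0

/-! The Ree groups `²F₄(2^(2m+1))`: existence of the twisting automorphism (helper11). -/

set_option autoImplicit false

namespace Cfsg.Agent.Lib.Helper11.F4T

open Cfsg Cfsg.Lie Matrix Cfsg.Agent.Lib.Helper7 Cfsg.Agent.Lib.Helper11 Cfsg.Agent.Lib.Helper11.Isog
open Cfsg.Agent.Lib.Helper11.Ree (fieldG fieldG_xG)

section
variable {K : Type*} [Field K] [Fintype K] {m : ℕ} (hK : Fintype.card K = 2 ^ (2 * m + 1))
include hK

theorem charP2_of_card : CharP K 2 := by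
  obtain ⟨p, hp⟩ := CharP.exists K
  have := hp
  obtain ⟨n, hpp, hn⟩ := FiniteField.card K p
  have h1 : p ∣ 2 ^ (2 * m + 1) := by
    rw [← hK, hn]
    exact dvd_pow_self p n.ne_zero
  have h2 : p = 2 := (Nat.prime_dvd_prime_iff_eq hpp Nat.prime_two).mp (hpp.dvd_of_dvd_pow h1)
  rw [← h2]
  exact hp

theorem pow_card_ree (t : K) : t ^ (2 * 2 ^ m * 2 ^ m) = t := by
  have : 2 * 2 ^ m * 2 ^ m = Fintype.card K := by rw [hK]; ring
  rw [this, FiniteField.pow_card]

theorem perfect_of_card (x : K) : ∃ y : K, y ^ 2 = x := by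
  refine ⟨x ^ (2 ^ m * 2 ^ m), ?_⟩
  rw [← pow_mul]
  have : 2 ^ m * 2 ^ m * 2 = 2 * 2 ^ m * 2 ^ m := by ring
  rw [this]
  exact pow_card_ree hK x

/-- the twisting automorphism of `F₄(2^(2m+1))` exists -/
theorem exists_tauData : ∃ τ : ↥(chevF4.group K) ≃* ↥(chevF4.group K), TauData K τ (2 ^ m) := by
  have : CharP K 2 := charP2_of_card hK
  have : Fact (Nat.Prime 2) := ⟨Nat.prime_two⟩
  obtain ⟨σ, hσ⟩ := f4_exists_equiv K (perfect_of_card hK)
  have hbij : Function.Bijective (iterateFrobenius K 2 m) := by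
    have hinj : Function.Injective (iterateFrobenius K 2 m) := RingHom.injective _
    exact ⟨hinj, Finite.surjective_of_injective hinj⟩
  let φ : K ≃+* K := RingEquiv.ofBijective (iterateFrobenius K 2 m) hbij
  have hφ : ∀ t : K, φ t = t ^ 2 ^ m := fun t => iterateFrobenius_def 2 m t
  refine ⟨σ.trans (fieldG chevF4 φ), ⟨?_, ?_, ?_, ?_, ?_⟩⟩
  · intro r hr t
    rw [MulEquiv.trans_apply, hσ r hr, fieldG_xG chevF4 f4_mem φ, hφ]
    unfold eF4 rho_F4 lam_F4
    rw [← pow_mul, mul_comm]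
  · exact pow_card_ree hK
  · intro x y
    exact add_pow_char_pow x y 2 m
  · have := CharP.cast_eq_zero K 2
    exact_mod_cast this
  · exact Nat.pos_of_ne_zero (by positivity)

end

end Cfsg.Agent.Lib.Helper11.F4T
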