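import Cfsg.Agent.Lib.Helper11.F4GenB
import Cfsg.Agent.Lib.Helper11.F4Tw8

/-! `²F₄(q)` is generated by two elements (helper11). -/

set_option autoImplicit false
set_option linter.unusedSectionVars false
set_option maxRecDepth 100000

namespace Cfsg.Agent.Lib.Helper11.F4T

open Cfsg Cfsg.Lie Matrix Cfsg.Agent.Lib.Helper7 Cfsg.Agent.Lib.Helper11 Cfsg.Agent.Lib.Helper11.Isog

section
variable {F : Type*} [Field F]
variable {τ : ↥(chevF4.group F) ≃* ↥(chevF4.group F)} {θ : ℕ} (hτ : TauData F τ θ)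
include hτ

/-- the torus element used for the generation -/
noncomputable def hRot (θ : ℕ) (s : F) : GL chevF4.Idx F := hJ1 θ s * hJ2 θ s

theorem hRot_mem (s : F) (hs : s ≠ 0) : hRot θ s ∈ chevF4.diagonalSubgroup F ⊓ fixTau F τ := by
  have := hJ_mul_mem hτ s s hs hs
  exact Subgroup.mem_inf.mpr ⟨(Subgroup.mem_inf.mp this).1, twistedF4_le_fixTau hτ (Subgroup.mem_inf.mp this).2⟩

theorem ce25_hRot (s : F) (hs : s ≠ 0) : ce 25 (hRot θ s) = 1 := by
  have h27 : ce 27 (hRot θ s) = 1 := by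
    unfold hRot
    rw [ce27_hJ_mul hτ s s hs hs]
    exact inv_mul_cancel₀ (pow_ne_zero _ hs)
  obtain ⟨h1, -⟩ := fixH_char hτ _ (hRot_mem hτ s hs)
  rw [h27] at h1
  apply pow_theta_inj hτ
  rw [← h1, one_pow]

theorem ce26_hRot (s : F) (hs : s ≠ 0) : ce 26 (hRot θ s) * (s ^ θ) ^ 2 = s ^ 2 := by
  have h := ce_conj (nJ F 1) _ (actsAs_nWordGL chevF4 f4_mem F _ (wJ_lt 1)) (nJ_mem_monomial F 1)
    (hJ1 θ s) (hJ1_mem_diagonal θ s hs) 31 (by decide)
  rw [gen_tab_cls.2.2.2.2.2] at h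
  unfold hRot
  rw [ce_mul _ _ (hJ1_mem_diagonal θ s hs) (hJ2_mem_diagonal θ s hs) 26 (by decide)]
  unfold hJ2
  rw [h, ce_hJ1 θ s hs 26 (by decide), ce_hJ1 θ s hs 31 (by decide), gen_tab_car.1, gen_tab_car.2.1,
    gen_tab_car.2.2.1, gen_tab_car.2.2.2]
  have h0 : s ^ θ ≠ 0 := pow_ne_zero _ hs
  simp only [zpow_zero, zpow_one, one_mul]
  rw [show (-2 : ℤ) = -((2 : ℕ) : ℤ) from rfl, _root_.zpow_neg, zpow_natCast]
  field_simp

theorem suzU_pow_four : suzU θ (1 : F) 0 ^ 4 = 1 := by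
  have e : suzU θ (1 : F) 0 ^ 4 = (suzU θ (1 : F) 0 * suzU θ 1 0) * (suzU θ 1 0 * suzU θ 1 0) := by
    rw [show 4 = 2 + 2 from rfl, pow_add, pow_two]
  rw [e, suzU_mul hτ, suzU_mul hτ]
  have e1 : (1 : F) + 1 = 0 := add_self' hτ 1
  have e2 : (0 : F) + 0 + 1 ^ θ * 1 + (0 + 0 + 1 ^ θ * 1) + (1 + 1) ^ θ * (1 + 1) = 0 := by
    rw [e1, one_pow]; linear_combination hτ.two
  rw [e2, e1, add_zero, suzU_zero hτ]

theorem nW_rot_mem (T : Subgroup (GL chevF4.Idx F)) (hb : nW F [0, 1] ∈ T) :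
    nW F [0, 1, 0, 1, 0, 1] ∈ T ∧ nW F W8 ∈ T ∧ nW F [0, 1, 0, 1, 0, 1, 0, 1, 0, 1] ∈ T := by
  have h2 : nW F [0, 1, 0, 1] ∈ T := by
    rw [show [0, 1, 0, 1] = [0, 1] ++ [0, 1] from rfl, nW_append]; exact T.mul_mem hb hb
  have h3 : nW F [0, 1, 0, 1, 0, 1] ∈ T := by
    rw [show [0, 1, 0, 1, 0, 1] = [0, 1] ++ [0, 1, 0, 1] from rfl, nW_append]; exact T.mul_mem hb h2
  have h4 : nW F W8 ∈ T := by
    rw [show W8 = [0, 1] ++ [0, 1, 0, 1, 0, 1] from rfl, nW_append]; exact T.mul_mem hb h3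
  have h5 : nW F [0, 1, 0, 1, 0, 1, 0, 1, 0, 1] ∈ T := by
    rw [show [0, 1, 0, 1, 0, 1, 0, 1, 0, 1] = [0, 1] ++ W8 from rfl, nW_append]; exact T.mul_mem hb h4
  exact ⟨h3, h4, h5⟩

/-- `²F₄(q)` is generated by `h x` and the rotation `n`, for a torus element `h` and a root element `x` of
Suzuki type -/
theorem gen_main [Fintype F] (h4 : 4 ∣ Fintype.card F) (s : F)
    (hgen : ∀ v : F, v ≠ 0 → ∃ j : ℕ, s ^ j = v) (hs0 : s ≠ 0) (hs1 : s ≠ 1) :
    Subgroup.closure {hRot θ s * suzU θ 1 0, nW F [0, 1]} = twistedF4 F θ := by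
  apply le_antisymm
  · rw [Subgroup.closure_le]
    intro g hg
    rcases hg with rfl | rfl
    · exact Subgroup.mul_mem _ (Subgroup.mem_inf.mp (hJ_mul_mem hτ s s hs0 hs0)).2 (suzU_mem_twistedF4 θ 1 0)
    · exact nW_mem_twistedF4 F hτ.two θ hτ.pos _
  set T := Subgroup.closure {hRot θ s * suzU θ 1 0, nW F [0, 1]} with hT
  have ha : hRot θ s * suzU θ 1 0 ∈ T := Subgroup.subset_closure (Set.mem_insert _ _)
  have hb : nW F [0, 1] ∈ T := Subgroup.subset_closure (Set.mem_insert_of_mem _ rfl)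
  have hh := hRot_mem hτ s hs0
  -- `h` and `x` commute
  have hcomm : Commute (hRot θ s) (suzU θ 1 0) := by
    have := fixH_conj_suzU hτ _ hh 1 0
    rw [ce25_hRot hτ s hs0, one_mul, mul_zero] at this
    show hRot θ s * suzU θ 1 0 = suzU θ 1 0 * hRot θ s
    calc hRot θ s * suzU θ 1 0 = (hRot θ s * suzU θ 1 0 * (hRot θ s)⁻¹) * hRot θ s := by group
      _ = _ := by rw [this]
  -- `x ∈ T`
  obtain ⟨j, hj⟩ := h4
  obtain ⟨j', rfl⟩ : ∃ j', j = j' + 1 := by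
    rcases Nat.eq_zero_or_pos j with h0 | h0
    · rw [h0] at hj; have := Fintype.card_pos (α := F); omega
    · exact ⟨j - 1, by omega⟩
  have hq : Fintype.card F - 1 = 4 * j' + 3 := by omega
  have hx3 : suzU θ (1 : F) 0 ^ 3 ∈ T := by
    have h1 := T.pow_mem ha (Fintype.card F - 1)
    rw [hcomm.mul_pow, diagonal_pow_card_sub_one chevF4 f4_mem F _ (Subgroup.mem_inf.mp hh).1, one_mul, hq,
      pow_add, pow_mul, suzU_pow_four hτ, one_pow, one_mul] at h1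
    exact h1
  have hx : suzU θ (1 : F) 0 ∈ T := by
    have h1 := T.pow_mem hx3 3
    have e : (suzU θ (1 : F) 0 ^ 3) ^ 3 = (suzU θ (1 : F) 0 ^ 4) ^ 2 * suzU θ 1 0 := by group
    rw [e, suzU_pow_four hτ, one_pow, one_mul] at h1
    exact h1
  have hhT : hRot θ s ∈ T := by
    have := T.mul_mem ha (T.inv_mem hx)
    rwa [mul_inv_cancel_right] at this
  obtain ⟨hn3, hn4, hn5⟩ := nW_rot_mem hτ T hb
  -- the conjugate torus element
  set n3 := nW F [0, 1, 0, 1, 0, 1] with hn3def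
  have hh' : n3 * hRot θ s * n3⁻¹ ∈ chevF4.diagonalSubgroup F ⊓ fixTau F τ := by
    refine Subgroup.mem_inf.mpr ⟨conj_diagonal_mem _ _ (nW_mem_monomial F _) (Subgroup.mem_inf.mp hh).1, ?_⟩
    exact Subgroup.mul_mem _ (Subgroup.mul_mem _ (nW_mem_fixTau hτ _) (Subgroup.mem_inf.mp hh).2)
      (Subgroup.inv_mem _ (nW_mem_fixTau hτ _))
  have hh'T : n3 * hRot θ s * n3⁻¹ ∈ T := T.mul_mem (T.mul_mem hn3 hhT) (T.inv_mem hn3)
  have hce : ce 25 (n3 * hRot θ s * n3⁻¹) = ce 26 (hRot θ s) := by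
    have := ce_conj n3 _ (actsAs_nW F _) (nW_mem_monomial F _) (hRot θ s) (Subgroup.mem_inf.mp hh).1 26
      (by decide)
    rw [gen_tab_cls.2.2.2.2.1] at this
    exact this
  have hc : ce 25 (n3 * hRot θ s * n3⁻¹) ^ (θ + 1) = s := by
    rw [hce]
    have h1 := ce26_hRot hτ s hs0
    have h2 : (ce 26 (hRot θ s) * (s ^ θ) ^ 2) ^ (θ + 1) = (s ^ 2) ^ (θ + 1) := by rw [h1]
    have e1 : ((s ^ θ) ^ 2) ^ (θ + 1) = s * s ^ (2 * θ) := by
      rw [← pow_mul, ← pow_mul]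
      have : θ * (2 * (θ + 1)) = 2 * θ * θ + 2 * θ := by ring
      rw [this, pow_add, hτ.pow]
    have e2 : (s ^ 2) ^ (θ + 1) = s * (s * s ^ (2 * θ)) := by
      rw [← pow_mul]
      have : 2 * (θ + 1) = 2 * θ + 1 + 1 := by ring
      rw [this, pow_succ, pow_succ]; ring
    rw [mul_pow, e1, e2] at h2
    have h0 : s * s ^ (2 * θ) ≠ 0 := mul_ne_zero hs0 (pow_ne_zero _ hs0)
    exact mul_right_cancel₀ h0 h2
  have hsuz : ∀ t u : F, suzU θ t u ∈ T :=
    suz_le_of_torus hτ T _ hh' hh'T s hgen hs0 hs1 hc hx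
  have hJ1 : XJ F 1 ⊓ fixTau F τ ≤ T := by
    intro g hg
    obtain ⟨t, u, rfl⟩ := (XJ_one_inf_fixTau hτ g).mp hg
    exact hsuz t u
  have hsuzV : ∀ t u : F, suzV θ t u ∈ T := suzV_le hτ T hJ1 hn4
  have hpU : ∀ v : F, pairU θ v ∈ T := pairU_le hτ T hJ1 hn5 (hsuzV 1 0)
  have hJ0 : XJ F 0 ⊓ fixTau F τ ≤ T := by
    intro g hg
    obtain ⟨t, rfl⟩ := (XJ_zero_inf_fixTau hτ g).mp hg
    exact hpU t
  exact twistedF4_le_of_gens θ T hpU (pairV_le hτ T hJ0 hn4) hsuz hsuzV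

end

section
variable {K : Type*} [Field K] [Fintype K] {m : ℕ}

/-- the large Ree groups are generated by two elements -/
theorem twistedF4_two_generated (hm : 1 ≤ m) (hK : Fintype.card K = 2 ^ (2 * m + 1)) :
    ∃ a b : ↥(twistedF4 K (2 ^ m)), Subgroup.closure ({a, b} : Set ↥(twistedF4 K (2 ^ m))) = ⊤ := by
  classical
  obtain ⟨τ, hτ⟩ := exists_tauData hK
  obtain ⟨g, hg⟩ := IsCyclic.exists_monoid_generator (α := Kˣ)
  have hgen : ∀ v : K, v ≠ 0 → ∃ j : ℕ, (g : K) ^ j = v := by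
    intro v hv
    obtain ⟨j, hj⟩ := Submonoid.mem_powers_iff _ _ |>.mp (hg (Units.mk0 v hv))
    refine ⟨j, ?_⟩
    have := congrArg Units.val hj
    simpa using this
  have h4 : 4 ∣ Fintype.card K := by
    rw [hK]
    obtain ⟨k, rfl⟩ : ∃ k, m = k + 1 := ⟨m - 1, by omega⟩
    exact ⟨2 ^ (2 * k + 1), by ring⟩
  have hs1 : (g : K) ≠ 1 := by
    intro h1
    have hcard : 2 < Fintype.card K := by
      rw [hK]
      calc 2 < 2 ^ 2 := by norm_num
        _ ≤ 2 ^ (2 * m + 1) := Nat.pow_le_pow_right (by norm_num) (by omega)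
    have hsub : (Finset.univ : Finset K) ⊆ {0, 1} := by
      intro v _
      by_cases hv : v = 0
      · simp [hv]
      · obtain ⟨j, hj⟩ := hgen v hv
        rw [h1, one_pow] at hj
        simp [← hj]
    have h3 := Finset.card_le_card hsub
    have h2 : ({0, 1} : Finset K).card ≤ 2 := Finset.card_le_two
    rw [Finset.card_univ] at h3
    omega
  have key := gen_main hτ h4 (g : K) hgen (Units.ne_zero g) hs1
  have ha : hRot (2 ^ m) (g : K) * suzU (2 ^ m) 1 0 ∈ twistedF4 K (2 ^ m) := by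
    rw [← key]; exact Subgroup.subset_closure (Set.mem_insert _ _)
  have hb : nW K [0, 1] ∈ twistedF4 K (2 ^ m) := by
    rw [← key]; exact Subgroup.subset_closure (Set.mem_insert_of_mem _ rfl)
  refine ⟨⟨_, ha⟩, ⟨_, hb⟩, ?_⟩
  apply Subgroup.map_injective (twistedF4 K (2 ^ m)).subtype_injective
  rw [MonoidHom.map_closure, Set.image_pair, ← MonoidHom.range_eq_map, Subgroup.range_subtype]
  exact key

end

end Cfsg.Agent.Lib.Helper11.F4T
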