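import Cfsg.Agent.Lib.Helper11.IsogPoly
import Cfsg.Prelude.Def_ChevF4

/-! Numerical identities between products of root elements `x_r(1)` in characteristic 2, by a verified
computation with bit tables (helper11). -/

set_option autoImplicit false

namespace Cfsg.Agent.Lib.Helper11.F4T

open Cfsg Cfsg.Lie Matrix Cfsg.Agent.Lib.Helper11.Isog

/-- the coordinate indices in their natural order -/
def allIdx (D : ChevalleyDatum) : List D.Idx :=
  (List.finRange D.rank).map Sum.inl ++ (List.finRange D.nroots).map Sum.inr

/-- the position of a coordinate index -/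
def enc (D : ChevalleyDatum) : D.Idx → ℕ
  | Sum.inl i => i.val
  | Sum.inr s => D.rank + s.val

theorem enc_lt (D : ChevalleyDatum) (i : D.Idx) : enc D i < D.rank + D.nroots := by
  rcases i with i | s
  · show i.val < _
    have := i.isLt
    omega
  · show D.rank + s.val < _
    have := s.isLt
    omega

theorem allIdx_getElem? (D : ChevalleyDatum) (i : D.Idx) : (allIdx D)[enc D i]? = some i := by
  unfold allIdx
  rcases i with i | s
  · show (_ ++ _)[i.val]? = _
    rw [List.getElem?_append_left (by simp)]
    simp
  · show (_ ++ _)[D.rank + s.val]? = _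
    rw [List.getElem?_append_right (by simp)]
    simp

/-- the number with the given binary digits, lowest first -/
def bitsToNat : List Bool → ℕ
  | [] => 0
  | b :: l => Nat.bit b (bitsToNat l)

theorem testBit_bitsToNat (l : List Bool) (k : ℕ) : (bitsToNat l).testBit k = l.getD k false := by
  induction l generalizing k with
  | nil => simp [bitsToNat]
  | cons b l ih =>
    cases k with
    | zero => simp [bitsToNat]
    | succ k => simp [bitsToNat, Nat.testBit_bit_succ, ih]

/-- lookup in a bit table -/
def lk (T : List ℕ) (a b : ℕ) : Bool := (T.getD a 0).testBit b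

/-- the parity table of the matrix `x_r(1)`: one number for each row -/
def tab (D : ChevalleyDatum) (r : ℕ) : List ℕ :=
  (allIdx D).map fun i => bitsToNat ((allIdx D).map fun j =>
    decide (((entryTermsN D r i j).map Prod.snd).sum % 2 = 1))

theorem lk_map (D : ChevalleyDatum) (g : D.Idx → D.Idx → Bool) (i j : D.Idx) :
    lk ((allIdx D).map fun i => bitsToNat ((allIdx D).map fun j => g i j)) (enc D i) (enc D j) = g i j := by
  unfold lk
  simp [List.getD_eq_getElem?_getD, List.getElem?_map, allIdx_getElem?, testBit_bitsToNat]

/-- the matrix of a bit table -/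
def matL (D : ChevalleyDatum) (K : Type*) [Field K] (T : List ℕ) : Matrix D.Idx D.Idx K :=
  fun i j => if lk T (enc D i) (enc D j) then 1 else 0

/-- a row of the product of two bit tables -/
def mulRow (n : ℕ) (row : ℕ) (T' : List ℕ) : ℕ :=
  (List.range n).foldl (fun acc m => if row.testBit m then acc ^^^ T'.getD m 0 else acc) 0

/-- multiplication of bit tables over the field with two elements -/
def mulT (n : ℕ) (T T' : List ℕ) : List ℕ := T.map fun row => mulRow n row T'

theorem testBit_mulRow (n row : ℕ) (T' : List ℕ) (k : ℕ) :
    (mulRow n row T').testBit k =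
      (List.range n).foldl (fun acc m => xor acc (row.testBit m && lk T' m k)) false := by
  unfold mulRow
  induction n with
  | zero => simp
  | succ n ih =>
    rw [List.range_succ, List.foldl_append, List.foldl_append]
    simp only [List.foldl_cons, List.foldl_nil]
    rw [← ih]
    unfold lk
    by_cases h : row.testBit n
    · simp [h, Nat.testBit_xor]
    · simp [h]

section
variable (K : Type*) [Field K] [CharP K 2]

theorem two_eq_zero' : (2 : K) = 0 := by
  have := CharP.cast_eq_zero K 2
  exact_mod_cast this

theorem intCast_char2 (n : ℤ) : ((n : ℤ) : K) = if n % 2 = 1 then 1 else 0 := by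
  have h2 := two_eq_zero' K
  have hn : n = 2 * (n / 2) + n % 2 := (Int.mul_ediv_add_emod n 2).symm
  rcases Int.emod_two_eq_zero_or_one n with h | h
  · rw [h, if_neg (by norm_num)]
    rw [hn, h]
    push_cast
    rw [h2]; ring
  · rw [h, if_pos rfl]
    rw [hn, h]
    push_cast
    rw [h2]; ring

omit [CharP K 2] in
theorem evalTerms_one (l : List (ℕ × ℤ)) : evalTerms l (1 : K) = (((l.map Prod.snd).sum : ℤ) : K) := by
  induction l with
  | nil => simp [evalTerms]
  | cons x l ih =>
    rw [evalTerms_cons, ih, List.map_cons, List.sum_cons]
    push_cast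
    rw [one_pow, mul_one]

/-- `x_r(1)` is the matrix of its parity table -/
theorem x_one_eq_matL (D : ChevalleyDatum) (r : ℕ) : D.x K r 1 = matL D K (tab D r) := by
  ext i j
  unfold matL tab
  rw [lk_map, x_eq_eval, evalTerms_one, intCast_char2]
  simp

theorem bool_add (x y : Bool) :
    (if x then (1 : K) else 0) + (if y then (1 : K) else 0) = if xor x y then 1 else 0 := by
  have h2 := two_eq_zero' K
  cases x <;> cases y <;> simp
  linear_combination h2

omit [CharP K 2] in
theorem bool_mul (x y : Bool) :
    (if x then (1 : K) else 0) * (if y then (1 : K) else 0) = if (x && y) then 1 else 0 := by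
  cases x <;> cases y <;> simp

theorem sum_bool_char2 (b : ℕ → Bool) (n : ℕ) :
    (∑ m ∈ Finset.range n, if b m then (1 : K) else 0) =
      if (List.range n).foldl (fun acc m => xor acc (b m)) false then 1 else 0 := by
  induction n with
  | zero => simp
  | succ n ih =>
    rw [Finset.sum_range_succ, ih, List.range_succ, List.foldl_append]
    simp only [List.foldl_cons, List.foldl_nil]
    exact bool_add K _ _

omit [CharP K 2] in
theorem sum_idx (D : ChevalleyDatum) (f : ℕ → K) :
    (∑ l : D.Idx, f (enc D l)) = ∑ m ∈ Finset.range (D.rank + D.nroots), f m := by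
  rw [Fintype.sum_sum_type, Finset.sum_range_add]
  congr 1
  · exact Fin.sum_univ_eq_sum_range (fun m => f m) D.rank
  · exact Fin.sum_univ_eq_sum_range (fun m => f (D.rank + m)) D.nroots

/-- the product of the matrices of two tables is the matrix of the product table -/
theorem matL_mul (D : ChevalleyDatum) (T T' : List ℕ) :
    matL D K T * matL D K T' = matL D K (mulT (D.rank + D.nroots) T T') := by
  ext i j
  rw [Matrix.mul_apply]
  unfold matL
  have e1 : ∀ l : D.Idx, ((if lk T (enc D i) (enc D l) then (1 : K) else 0) *
      (if lk T' (enc D l) (enc D j) then (1 : K) else 0)) =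
      (fun m => if (lk T (enc D i) m && lk T' m (enc D j)) then (1 : K) else 0) (enc D l) := by
    intro l
    exact bool_mul K _ _
  rw [Finset.sum_congr rfl (fun l _ => e1 l),
    sum_idx K D (fun m => if (lk T (enc D i) m && lk T' m (enc D j)) then (1 : K) else 0), sum_bool_char2]
  congr 1
  have e2 : lk (mulT (D.rank + D.nroots) T T') (enc D i) (enc D j) =
      (mulRow (D.rank + D.nroots) (T.getD (enc D i) 0) T').testBit (enc D j) := by
    unfold lk mulT
    by_cases hi : enc D i < T.length
    · simp [List.getD_eq_getElem?_getD, hi]
    · have hi' : T.length ≤ enc D i := Nat.le_of_not_lt hi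
      simp [List.getD_eq_getElem?_getD, hi', mulRow]
  rw [e2, testBit_mulRow]
  rfl

/-- the table of a product of root elements `x_r(1)` -/
def prodT (D : ChevalleyDatum) : List ℕ → List ℕ
  | [] => []
  | [r] => tab D r
  | r :: L => mulT (D.rank + D.nroots) (tab D r) (prodT D L)

omit [CharP K 2] in
theorem prodT_cons (D : ChevalleyDatum) (r s : ℕ) (L : List ℕ) :
    prodT D (r :: s :: L) = mulT (D.rank + D.nroots) (tab D r) (prodT D (s :: L)) := rfl

theorem wordMat_ones (D : ChevalleyDatum) (r : ℕ) (L : List ℕ) :
    D.wordMat K ((r :: L).map fun s => (s, (1 : K))) = matL D K (prodT D (r :: L)) := by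
  induction L generalizing r with
  | nil =>
    unfold ChevalleyDatum.wordMat
    simp only [List.map_cons, List.map_nil, List.prod_cons, List.prod_nil, mul_one]
    exact x_one_eq_matL K D r
  | cons s L ih =>
    have := ih s
    unfold ChevalleyDatum.wordMat at this ⊢
    rw [List.map_cons, List.map_cons, List.prod_cons, this, prodT_cons, ← matL_mul, ← x_one_eq_matL]

end

end Cfsg.Agent.Lib.Helper11.F4T
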