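import Cfsg.Agent.Lib.Helper11.F4Num

/-! The table identity behind `n_{J₂} = W(1,0) W⁻(0,1) W(1,1)` in `F₄` over a field of characteristic 2
(helper11). -/

set_option autoImplicit false

namespace Cfsg.Agent.Lib.Helper11.F4T

open Cfsg Cfsg.Lie

set_option maxRecDepth 1000000 in
theorem nJ2_tab : prodT chevF4 [27, 25, 28, 19, 17, 27, 25, 30] =
    prodT chevF4 [27, 20, 27, 25, 22, 25, 27, 20, 27, 25, 22, 25] := by decide +kernel

end Cfsg.Agent.Lib.Helper11.F4T
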