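import Cfsg.Agent.Lib.Helper11.IsogG2
import Cfsg.Agent.Lib.Helper7.ChevFieldAut
import Cfsg.Agent.Lib.Helper7.ChevWordGL

/-! The automorphism `σ = (graph) ∘ (field)` of `G₂(K)`, `|K| = 3^(2m+1)`, whose fixed points contain the Ree
group `²G₂(K)` (helper11). -/

set_option autoImplicit false
set_option linter.unusedSectionVars false

namespace Cfsg.Agent.Lib.Helper11.Ree

open Cfsg Cfsg.Lie Matrix Cfsg.Agent.Lib.Helper7 Cfsg.Agent.Lib.Helper11 Cfsg.Agent.Lib.Helper11.Isog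

/-- the field automorphism of a Chevalley group induced by a field automorphism -/
noncomputable def fieldG (D : ChevalleyDatum) {F : Type*} [Field F] (f : F ≃+* F) :
    ↥(D.group F) ≃* ↥(D.group F) :=
  ((glMapEquiv D.Idx f).subgroupMap (D.group F)).trans (MulEquiv.subgroupCongr (group_map_glMapEquiv D f))

theorem coe_fieldG (D : ChevalleyDatum) {F : Type*} [Field F] (f : F ≃+* F) (g : ↥(D.group F)) :
    ((fieldG D f g : ↥(D.group F)) : GL D.Idx F) = glMapEquiv D.Idx f (g : GL D.Idx F) := rfl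

theorem fieldG_xG (D : ChevalleyDatum) (hD : D ∈ [chevG2, chevB2, chevD4, chevF4, chevE6, chevE7, chevE8])
    {F : Type*} [Field F] (f : F ≃+* F) (r : ℕ) (t : F) :
    fieldG D f (xG D hD F r t) = xG D hD F r (f t) := by
  apply Subtype.ext
  apply Units.ext
  rw [coe_fieldG, glMapEquiv_val, coe_coe_xG, coe_coe_xG]
  exact x_map D (f : F →+* F) r t

/-- a word in root elements, as an element of the Chevalley group -/
noncomputable def wordG (D : ChevalleyDatum) (hD : D ∈ [chevG2, chevB2, chevD4, chevF4, chevE6, chevE7, chevE8])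
    (F : Type*) [Field F] (w : List (ℕ × F)) : ↥(D.group F) := (w.map fun p => xG D hD F p.1 p.2).prod

theorem coe_wordG (D : ChevalleyDatum) (hD : D ∈ [chevG2, chevB2, chevD4, chevF4, chevE6, chevE7, chevE8])
    (F : Type*) [Field F] (w : List (ℕ × F)) :
    ((wordG D hD F w : ↥(D.group F)) : GL D.Idx F) = wordGL D hD F w := by
  unfold wordG wordGL
  induction w with
  | nil => simp
  | cons p w ih =>
    rw [List.map_cons, List.prod_cons, List.map_cons, List.prod_cons, Subgroup.coe_mul, ih]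
    rfl

section
variable (K : Type*) [Field K] [CharP K 3] (θ : ℕ) (φ : K ≃+* K)

theorem perf (hq : ∀ x : K, x ^ (3 * θ * θ) = x) : ∀ x : K, ∃ y : K, y ^ 3 = x := fun x =>
  ⟨x ^ (θ * θ), by rw [← pow_mul]; rw [show θ * θ * 3 = 3 * θ * θ by ring]; exact hq x⟩

/-- the graph automorphism of `G₂(K)` -/
noncomputable def graphG (hq : ∀ x : K, x ^ (3 * θ * θ) = x) : ↥(chevG2.group K) ≃* ↥(chevG2.group K) :=
  Classical.choose (g2_exists_equiv K (perf K θ hq))

theorem graphG_xG (hq : ∀ x : K, x ^ (3 * θ * θ) = x) (r : ℕ) (hr : r < 12) (t : K) :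
    graphG K θ hq (xG chevG2 g2_mem K r t) = xG chevG2 g2_mem K (g2Data.bar r) (t ^ g2Data.lam r) :=
  Classical.choose_spec (g2_exists_equiv K (perf K θ hq)) r hr t

/-- `σ`: the graph automorphism followed by the field automorphism `φ` -/
noncomputable def sigma (hq : ∀ x : K, x ^ (3 * θ * θ) = x) : ↥(chevG2.group K) ≃* ↥(chevG2.group K) :=
  (graphG K θ hq).trans (fieldG chevG2 φ)

theorem sigma_xG (hφ : ∀ x, φ x = x ^ θ) (hq : ∀ x : K, x ^ (3 * θ * θ) = x) (r : ℕ) (hr : r < 12) (t : K) :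
    sigma K θ φ hq (xG chevG2 g2_mem K r t) =
      xG chevG2 g2_mem K (g2Data.bar r) ((t ^ g2Data.lam r) ^ θ) := by
  show fieldG chevG2 φ (graphG K θ hq (xG chevG2 g2_mem K r t)) = _
  rw [graphG_xG K θ hq r hr, fieldG_xG, hφ]

theorem sigma_wordG (hφ : ∀ x, φ x = x ^ θ) (hq : ∀ x : K, x ^ (3 * θ * θ) = x) (w : List (ℕ × K))
    (hw : ∀ e ∈ w, e.1 < 12) :
    sigma K θ φ hq (wordG chevG2 g2_mem K w) =
      wordG chevG2 g2_mem K (w.map fun e => (g2Data.bar e.1, (e.2 ^ g2Data.lam e.1) ^ θ)) := by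
  unfold wordG
  rw [map_list_prod, List.map_map, List.map_map]
  congr 1
  apply List.map_congr_left
  intro e he
  exact sigma_xG K θ φ hφ hq e.1 (hw e he) e.2

/-- the `σ`-fixed elements, as a subgroup of `GL` -/
noncomputable def fixGL (hq : ∀ x : K, x ^ (3 * θ * θ) = x) : Subgroup (GL chevG2.Idx K) :=
  (MonoidHom.eqLocus (sigma K θ φ hq).toMonoidHom (MonoidHom.id _)).map (chevG2.group K).subtype

theorem mem_fixGL (hq : ∀ x : K, x ^ (3 * θ * θ) = x) (g : GL chevG2.Idx K) :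
    g ∈ fixGL K θ φ hq ↔ ∃ hg : g ∈ chevG2.group K, sigma K θ φ hq ⟨g, hg⟩ = ⟨g, hg⟩ := by
  unfold fixGL
  rw [Subgroup.mem_map]
  constructor
  · rintro ⟨x, hx, rfl⟩
    exact ⟨x.2, hx⟩
  · rintro ⟨hg, h⟩
    exact ⟨⟨g, hg⟩, h, rfl⟩

theorem fixGL_le_group (hq : ∀ x : K, x ^ (3 * θ * θ) = x) : fixGL K θ φ hq ≤ chevG2.group K := by
  intro g hg
  obtain ⟨h, -⟩ := (mem_fixGL K θ φ hq g).mp hg
  exact h

theorem wordGL_mem_fixGL (hq : ∀ x : K, x ^ (3 * θ * θ) = x) (w : List (ℕ × K))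
    (h : sigma K θ φ hq (wordG chevG2 g2_mem K w) = wordG chevG2 g2_mem K w) :
    wordGL chevG2 g2_mem K w ∈ fixGL K θ φ hq := by
  rw [mem_fixGL]
  refine ⟨wordGL_mem_group chevG2 g2_mem K w, ?_⟩
  have e : (⟨wordGL chevG2 g2_mem K w, wordGL_mem_group chevG2 g2_mem K w⟩ : ↥(chevG2.group K)) =
      wordG chevG2 g2_mem K w := Subtype.ext (coe_wordG chevG2 g2_mem K w).symm
  rw [e, h]

end

end Cfsg.Agent.Lib.Helper11.Ree
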