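import Cfsg.Agent.Lib.Helper11.IsogF4
import Cfsg.Agent.Lib.Helper11.ReeSigma
import Cfsg.Agent.Lib.Helper7.ChevCanon2
import Cfsg.Agent.Lib.Helper7.ChevNorm

/-! The twisting automorphism `τ` of `F₄(F)`, `|F| = 2^(2m+1)`, as a map on `GL`
(helper11, ported from helper7's `G2Tw0`). -/

set_option autoImplicit false
set_option linter.unusedSectionVars false

namespace Cfsg.Agent.Lib.Helper11.F4T

open Cfsg Cfsg.Lie Matrix Cfsg.Agent.Lib.Helper7 Cfsg.Agent.Lib.Helper11 Cfsg.Agent.Lib.Helper11.Isog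

/-- the symmetry of the roots of `F₄` -/
def rho_F4 (r : ℕ) : ℕ := f4Data.bar r

/-- the exponents of the graph automorphism of `F₄` -/
def lam_F4 (r : ℕ) : ℕ := f4Data.lam r

/-- the exponents of the twisting automorphism -/
def eF4 (θ r : ℕ) : ℕ := θ * lam_F4 r

theorem rho_F4_lt : ∀ r < 48, rho_F4 r < 48 := by decide

theorem rho_F4_rho : ∀ r < 48, rho_F4 (rho_F4 r) = r := by decide

theorem lam_F4_mul : ∀ r < 48, lam_F4 r * lam_F4 (rho_F4 r) = 2 := by decide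

theorem lam_F4_neg : ∀ r < 48, lam_F4 (chevF4.neg r) = lam_F4 r := by decide

theorem rho_F4_neg : ∀ r < 48, rho_F4 (chevF4.neg r) = chevF4.neg (rho_F4 r) := by decide

theorem neg_F4_lt : ∀ r < 48, chevF4.neg r < 48 := by decide

set_option maxRecDepth 100000 in
theorem rho_F4_pos_aux : ∀ r < 48, chevF4.IsPosRoot r → chevF4.IsPosRoot (rho_F4 r) := by decide +kernel

theorem rho_F4_pos : ∀ r, chevF4.IsPosRoot r → chevF4.IsPosRoot (rho_F4 r) :=
  fun r hr => rho_F4_pos_aux r hr.1 hr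

set_option maxRecDepth 100000 in
theorem rho_F4_negRoot_aux : ∀ r < 48, chevF4.IsNegRoot r → chevF4.IsNegRoot (rho_F4 r) := by decide +kernel

theorem rho_F4_negRoot : ∀ r, chevF4.IsNegRoot r → chevF4.IsNegRoot (rho_F4 r) :=
  fun r hr => rho_F4_negRoot_aux r hr.1 hr

section
variable (F : Type*) [Field F]
variable (τ : ↥(chevF4.group F) ≃* ↥(chevF4.group F)) (θ : ℕ)

/-- the hypotheses on the twisting automorphism -/
structure TauData : Prop where
  map_x : ∀ r < 48, ∀ t : F,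
    τ (xG chevF4 f4_mem F r t) = xG chevF4 f4_mem F (rho_F4 r) (t ^ eF4 θ r)
  pow : ∀ t : F, t ^ (2 * θ * θ) = t
  add_pow : ∀ x y : F, (x + y) ^ θ = x ^ θ + y ^ θ
  two : (2 : F) = 0
  pos : 0 < θ

variable {F τ θ}

theorem TauData.inv (h : TauData F τ θ) (r : ℕ) (hr : r < 48) (t : F) :
    (t ^ eF4 θ r) ^ eF4 θ (rho_F4 r) = t := by
  rw [← pow_mul]
  have : eF4 θ r * eF4 θ (rho_F4 r) = 2 * θ * θ := by
    unfold eF4
    have := lam_F4_mul r hr
    calc θ * lam_F4 r * (θ * lam_F4 (rho_F4 r)) = (lam_F4 r * lam_F4 (rho_F4 r)) * θ * θ := by ring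
      _ = _ := by rw [this]
  rw [this, h.pow]

theorem TauData.inv' (h : TauData F τ θ) (r : ℕ) (hr : r < 48) (t : F) :
    (t ^ eF4 θ (rho_F4 r)) ^ eF4 θ r = t := by
  have := h.inv (rho_F4 r) (rho_F4_lt r hr) t
  rwa [rho_F4_rho r hr] at this

theorem TauData.neg_eq (h : TauData F τ θ) (t : F) : -t = t := by
  linear_combination (-t) * h.two

theorem eF4_neg (θ r : ℕ) (hr : r < 48) : eF4 θ (chevF4.neg r) = eF4 θ r := by
  unfold eF4
  rw [lam_F4_neg r hr]

variable (F τ)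

/-- the twisting automorphism as a map of `GL`, trivial outside the Chevalley group -/
noncomputable def tauGL (g : GL chevF4.Idx F) : GL chevF4.Idx F := by
  classical
  exact if h : g ∈ chevF4.group F then ((τ ⟨g, h⟩ : ↥(chevF4.group F)) : GL chevF4.Idx F) else 1

theorem tauGL_of_mem (g : GL chevF4.Idx F) (h : g ∈ chevF4.group F) :
    tauGL F τ g = ((τ ⟨g, h⟩ : ↥(chevF4.group F)) : GL chevF4.Idx F) := by
  unfold tauGL
  rw [dif_pos h]

theorem tauGL_mem (g : GL chevF4.Idx F) : tauGL F τ g ∈ chevF4.group F := by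
  by_cases h : g ∈ chevF4.group F
  · rw [tauGL_of_mem F τ g h]
    exact (τ ⟨g, h⟩).2
  · unfold tauGL
    rw [dif_neg h]
    exact Subgroup.one_mem _

theorem tauGL_one : tauGL F τ 1 = 1 := by
  rw [tauGL_of_mem F τ 1 (Subgroup.one_mem _)]
  have : (⟨1, Subgroup.one_mem _⟩ : ↥(chevF4.group F)) = 1 := rfl
  rw [this, map_one]
  rfl

theorem tauGL_mul (g g' : GL chevF4.Idx F) (h : g ∈ chevF4.group F) (h' : g' ∈ chevF4.group F) :
    tauGL F τ (g * g') = tauGL F τ g * tauGL F τ g' := by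
  rw [tauGL_of_mem F τ _ (Subgroup.mul_mem _ h h'), tauGL_of_mem F τ g h, tauGL_of_mem F τ g' h']
  have : (⟨g * g', Subgroup.mul_mem _ h h'⟩ : ↥(chevF4.group F)) = ⟨g, h⟩ * ⟨g', h'⟩ := rfl
  rw [this, map_mul]
  rfl

theorem tauGL_inv (g : GL chevF4.Idx F) (h : g ∈ chevF4.group F) :
    tauGL F τ g⁻¹ = (tauGL F τ g)⁻¹ := by
  rw [tauGL_of_mem F τ _ (Subgroup.inv_mem _ h), tauGL_of_mem F τ g h]
  have : (⟨g⁻¹, Subgroup.inv_mem _ h⟩ : ↥(chevF4.group F)) = ⟨g, h⟩⁻¹ := rfl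
  rw [this, map_inv]
  rfl

theorem tauGL_conj (g x : GL chevF4.Idx F) (h : g ∈ chevF4.group F) (hx : x ∈ chevF4.group F) :
    tauGL F τ (g * x * g⁻¹) = tauGL F τ g * tauGL F τ x * (tauGL F τ g)⁻¹ := by
  rw [tauGL_mul F τ _ _ (Subgroup.mul_mem _ h hx) (Subgroup.inv_mem _ h), tauGL_mul F τ _ _ h hx,
    tauGL_inv F τ g h]

theorem tauGL_inj (g g' : GL chevF4.Idx F) (h : g ∈ chevF4.group F) (h' : g' ∈ chevF4.group F)
    (he : tauGL F τ g = tauGL F τ g') : g = g' := by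
  rw [tauGL_of_mem F τ g h, tauGL_of_mem F τ g' h'] at he
  have := τ.injective (Subtype.ext he)
  exact congrArg Subtype.val this

variable {F τ}
variable (hτ : TauData F τ θ)
include hτ

theorem tauGL_xGL (r : ℕ) (hr : r < 48) (t : F) :
    tauGL F τ (xGL chevF4 f4_mem F r t) = xGL chevF4 f4_mem F (rho_F4 r) (t ^ eF4 θ r) := by
  rw [tauGL_of_mem F τ _ (xGL_mem_group chevF4 f4_mem F r t)]
  have := hτ.map_x r hr t
  unfold xG at this
  rw [this]

theorem tauGL_wordGL (w : List (ℕ × F)) (hw : ∀ p ∈ w, p.1 < 48) :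
    tauGL F τ (wordGL chevF4 f4_mem F w) =
      wordGL chevF4 f4_mem F (w.map fun p => (rho_F4 p.1, p.2 ^ eF4 θ p.1)) := by
  induction w with
  | nil =>
    have : wordGL chevF4 f4_mem F [] = 1 := by simp [wordGL]
    rw [List.map_nil, this, tauGL_one]
  | cons p w ih =>
    have h1 : wordGL chevF4 f4_mem F (p :: w) = xGL chevF4 f4_mem F p.1 p.2 * wordGL chevF4 f4_mem F w := by
      simp [wordGL]
    have h2 : ∀ (q : ℕ × F) (w' : List (ℕ × F)), wordGL chevF4 f4_mem F (q :: w') =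
        xGL chevF4 f4_mem F q.1 q.2 * wordGL chevF4 f4_mem F w' := by
      intro q w'; simp [wordGL]
    rw [h1, tauGL_mul F τ _ _ (xGL_mem_group chevF4 f4_mem F _ _) (wordGL_mem_group chevF4 f4_mem F w),
      tauGL_xGL hτ p.1 (hw p List.mem_cons_self) p.2, ih (fun q hq => hw q (List.mem_cons_of_mem _ hq)),
      List.map_cons, h2]

theorem tauGL_tauGL (g : GL chevF4.Idx F) (hg : g ∈ chevF4.group F) : tauGL F τ (tauGL F τ g) = g := by
  have h1 : MonoidHom.eqLocus (τ.toMonoidHom.comp τ.toMonoidHom) (MonoidHom.id _) = ⊤ := by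
    apply eq_top_of_fund chevF4 f4_mem F
    · intro j hj t
      have hs : chevF4.simple j < 48 := by
        have : j < 4 := hj
        interval_cases j <;> decide
      show τ (τ (xG chevF4 f4_mem F (chevF4.simple j) t)) = _
      rw [hτ.map_x _ hs t, hτ.map_x _ (rho_F4_lt _ hs), rho_F4_rho _ hs, hτ.inv _ hs]
      rfl
    · intro j hj t
      have hs : chevF4.neg (chevF4.simple j) < 48 := by
        have : j < 4 := hj
        interval_cases j <;> decide
      show τ (τ (xG chevF4 f4_mem F (chevF4.neg (chevF4.simple j)) t)) = _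
      rw [hτ.map_x _ hs t, hτ.map_x _ (rho_F4_lt _ hs), rho_F4_rho _ hs, hτ.inv _ hs]
      rfl
  rw [tauGL_of_mem F τ g hg, tauGL_of_mem F τ _ (τ ⟨g, hg⟩).2]
  have h2 : τ (τ ⟨g, hg⟩) = ⟨g, hg⟩ := by
    have : (⟨g, hg⟩ : ↥(chevF4.group F)) ∈
        MonoidHom.eqLocus (τ.toMonoidHom.comp τ.toMonoidHom) (MonoidHom.id _) := by rw [h1]; trivial
    exact this
  have h3 : (⟨((τ ⟨g, hg⟩ : ↥(chevF4.group F)) : GL chevF4.Idx F), (τ ⟨g, hg⟩).2⟩ : ↥(chevF4.group F)) =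
      τ ⟨g, hg⟩ := rfl
  rw [h3, h2]

/-- invariance of subgroups generated by sets which `τ` maps into the subgroup -/
theorem tauGL_closure (gens : Set (GL chevF4.Idx F)) (T : Subgroup (GL chevF4.Idx F))
    (h : ∀ g ∈ gens, g ∈ chevF4.group F ∧ tauGL F τ g ∈ T) :
    ∀ s ∈ Subgroup.closure gens, s ∈ chevF4.group F ∧ tauGL F τ s ∈ T := by
  intro s hs
  induction hs using Subgroup.closure_induction with
  | mem g hg => exact h g hg
  | one => exact ⟨Subgroup.one_mem _, by rw [tauGL_one]; exact Subgroup.one_mem _⟩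
  | mul g g' _ _ ih ih' =>
    exact ⟨Subgroup.mul_mem _ ih.1 ih'.1, by
      rw [tauGL_mul F τ _ _ ih.1 ih'.1]; exact Subgroup.mul_mem _ ih.2 ih'.2⟩
  | inv g _ ih =>
    exact ⟨Subgroup.inv_mem _ ih.1, by rw [tauGL_inv F τ _ ih.1]; exact Subgroup.inv_mem _ ih.2⟩

theorem tauGL_posUnipotent (u : GL chevF4.Idx F) (hu : u ∈ chevF4.posUnipotent F) :
    tauGL F τ u ∈ chevF4.posUnipotent F := by
  refine (tauGL_closure hτ _ _ ?_ u hu).2
  rintro g ⟨r, t, hr, hg⟩
  have hg' : g = xGL chevF4 f4_mem F r t := Units.ext (by rw [hg, coe_xGL])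
  rw [hg']
  refine ⟨xGL_mem_group chevF4 f4_mem F r t, ?_⟩
  rw [tauGL_xGL hτ r hr.1]
  exact xGL_pos_mem chevF4 f4_mem F _ (rho_F4_pos r hr) _

theorem tauGL_negUnipotent (u : GL chevF4.Idx F) (hu : u ∈ chevF4.negUnipotent F) :
    tauGL F τ u ∈ chevF4.negUnipotent F := by
  refine (tauGL_closure hτ _ _ ?_ u hu).2
  rintro g ⟨r, t, hr, hg⟩
  have hg' : g = xGL chevF4 f4_mem F r t := Units.ext (by rw [hg, coe_xGL])
  rw [hg']
  refine ⟨xGL_mem_group chevF4 f4_mem F r t, ?_⟩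
  rw [tauGL_xGL hτ r hr.1]
  exact xGL_neg_mem chevF4 f4_mem F _ (rho_F4_negRoot r hr) _

theorem tauGL_nGL (r : ℕ) (hr : r < 48) (t : F) :
    tauGL F τ (wordGL chevF4 f4_mem F (chevF4.nWord r t)) =
      wordGL chevF4 f4_mem F (chevF4.nWord (rho_F4 r) (t ^ eF4 θ r)) := by
  rw [tauGL_wordGL hτ]
  · unfold ChevalleyDatum.nWord
    simp only [List.map_cons, List.map_nil]
    rw [eF4_neg θ r hr, rho_F4_neg r hr, hτ.neg_eq, hτ.neg_eq, inv_pow]
  · intro p hp
    unfold ChevalleyDatum.nWord at hp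
    simp only [List.mem_cons, List.not_mem_nil, or_false] at hp
    rcases hp with rfl | rfl | rfl
    · exact hr
    · exact neg_F4_lt r hr
    · exact hr

theorem tauGL_hGL (r : ℕ) (hr : r < 48) (t : F) :
    tauGL F τ (wordGL chevF4 f4_mem F (chevF4.hWord r t)) =
      wordGL chevF4 f4_mem F (chevF4.hWord (rho_F4 r) (t ^ eF4 θ r)) := by
  unfold ChevalleyDatum.hWord
  rw [wordGL_append, wordGL_append, tauGL_mul F τ _ _ (wordGL_mem_group chevF4 f4_mem F _)
    (wordGL_mem_group chevF4 f4_mem F _), tauGL_nGL hτ r hr, tauGL_nGL hτ r hr,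
    hτ.neg_eq, one_pow]

theorem tauGL_diagonal (h : GL chevF4.Idx F) (hh : h ∈ chevF4.diagonalSubgroup F) :
    tauGL F τ h ∈ chevF4.diagonalSubgroup F := by
  refine (tauGL_closure hτ _ _ ?_ h hh).2
  rintro g ⟨r, t, hr, ht, hg⟩
  have hg' : g = wordGL chevF4 f4_mem F (chevF4.hWord r t) := Units.ext (by rw [hg, coe_wordGL]; rfl)
  rw [hg']
  refine ⟨wordGL_mem_group chevF4 f4_mem F _, ?_⟩
  rw [tauGL_hGL hτ r hr]
  exact hGL_mem_diagonalSubgroup chevF4 f4_mem F _ (rho_F4_lt r hr) _ (pow_ne_zero _ ht)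

theorem tauGL_monomial (n : GL chevF4.Idx F) (hn : n ∈ chevF4.monomialSubgroup F) :
    tauGL F τ n ∈ chevF4.monomialSubgroup F := by
  unfold ChevalleyDatum.monomialSubgroup at hn
  rw [← Subgroup.closure_eq (chevF4.diagonalSubgroup F), ← Subgroup.closure_union] at hn
  refine (tauGL_closure hτ _ _ ?_ n hn).2
  rintro g (hg | ⟨r, hr, hg⟩)
  · refine ⟨monomial_le_group chevF4 f4_mem F (Subgroup.mem_sup_left hg), ?_⟩
    exact Subgroup.mem_sup_left (tauGL_diagonal hτ g hg)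
  · have hg' : g = wordGL chevF4 f4_mem F (chevF4.nWord r 1) := Units.ext (by rw [hg, coe_wordGL]; rfl)
    rw [hg']
    refine ⟨wordGL_mem_group chevF4 f4_mem F _, ?_⟩
    rw [tauGL_nGL hτ r hr, one_pow]
    apply Subgroup.mem_sup_right
    apply Subgroup.subset_closure
    exact ⟨rho_F4 r, rho_F4_lt r hr, by rw [coe_wordGL]; rfl⟩

theorem tauGL_borel (b : GL chevF4.Idx F) (hb : b ∈ chevF4.borelSubgroup F) :
    tauGL F τ b ∈ chevF4.borelSubgroup F := by
  have hb' : b ∈ ((chevF4.borelSubgroup F : Subgroup (GL chevF4.Idx F)) : Set (GL chevF4.Idx F)) := hb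
  rw [borel_eq_mul chevF4 f4_mem F] at hb'
  obtain ⟨h, hh, u, hu, rfl⟩ := Set.mem_mul.mp hb'
  rw [tauGL_mul F τ _ _ (borel_le_group chevF4 f4_mem F (diagonal_le_borel chevF4 f4_mem F hh))
    (borel_le_group chevF4 f4_mem F (posUnipotent_le_borel chevF4 f4_mem F hu))]
  exact Subgroup.mul_mem _ (diagonal_le_borel chevF4 f4_mem F (tauGL_diagonal hτ h hh))
    (posUnipotent_le_borel chevF4 f4_mem F (tauGL_posUnipotent hτ u hu))

theorem tauGL_uMinus (n : GL chevF4.Idx F) (hn : n ∈ chevF4.group F) (u : GL chevF4.Idx F)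
    (hu : u ∈ uMinus chevF4 F n) : tauGL F τ u ∈ uMinus chevF4 F (tauGL F τ n) := by
  unfold uMinus at hu
  refine (tauGL_closure hτ _ _ ?_ u hu).2
  rintro g ⟨r, t, hr, hle, hg⟩
  have hg' : g = xGL chevF4 f4_mem F r t := Units.ext (by rw [hg, coe_xGL])
  rw [hg']
  refine ⟨xGL_mem_group chevF4 f4_mem F r t, ?_⟩
  rw [tauGL_xGL hτ r hr.1]
  apply Subgroup.subset_closure
  refine ⟨rho_F4 r, _, rho_F4_pos r hr, ?_, coe_xGL _ _ _ _ _⟩
  rw [map_conj_le_iff chevF4 f4_mem F] at hle ⊢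
  intro s
  have h1 := hle (s ^ eF4 θ (rho_F4 r))
  have h2 := tauGL_negUnipotent hτ _ h1
  rw [tauGL_conj F τ _ _ hn (xGL_mem_group chevF4 f4_mem F _ _), tauGL_xGL hτ r hr.1,
    hτ.inv' r hr.1] at h2
  exact h2

end

end Cfsg.Agent.Lib.Helper11.F4T
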