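import Cfsg.Agent.Lib.Helper11.F4WeylTab

/-! The fixed points of the twisting automorphism of `F₄`: stable classes of the Weyl group (helper11,
following helper7's `G2Tw1`). -/

set_option autoImplicit false
set_option maxRecDepth 100000

namespace Cfsg.Agent.Lib.Helper11.F4T

open Cfsg Cfsg.Lie Matrix Cfsg.Agent.Lib.Helper7 Cfsg.Agent.Lib.Helper11 Cfsg.Agent.Lib.Helper11.Isog

theorem getD_map_range' (f : ℕ → ℕ) (n s : ℕ) (hs : s < n) : ((List.range n).map f).getD s 0 = f s := by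
  simp [List.getD_eq_getElem?_getD, hs]

theorem permW_getD (L : List ℕ) (s : ℕ) (hs : s < 48) : (permW L).getD s 0 = reflWord chevF4 L s :=
  getD_map_range' _ _ _ hs

/-- an element of the Weyl group of `F₄` commuting with the symmetry `ρ` is one of the 16 alternating words in
`w_{J₁}`, `w_{J₂}` -/
theorem weylF4_comm_rho (L : List ℕ) (hL : ∀ i ∈ L, i < 4)
    (hcomm : ∀ s < 48, reflWord chevF4 L (rho_F4 s) = rho_F4 (reflWord chevF4 L s)) :
    ∃ w ∈ words16, ∀ s < 48, reflWord chevF4 L s = reflWord chevF4 (flatW w) s := by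
  have hE := weylEnum_of_chain chevF4 weylChain_F4 weylChainOKB_F4
  obtain ⟨e, he, hp⟩ := enum_word chevF4 _ _ _ _ hE L hL
  have hp' : nfPerm 48 weylChain_F4.levels e = permW L := hp
  have h1 := weylF4_comm_rho_aux e he (by
    intro s hs
    rw [hp', permW_getD _ _ (rho_F4_lt s hs), permW_getD _ _ hs]
    exact hcomm s hs)
  rw [hp'] at h1
  unfold perms16 at h1
  rw [List.mem_map] at h1
  obtain ⟨w, hw, hwe⟩ := h1
  refine ⟨w, hw, fun s hs => ?_⟩
  have := congrArg (fun l : List ℕ => l.getD s 0) hwe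
  simp only [permW_getD _ _ hs] at this
  exact this.symm

section
variable (F : Type*) [Field F]
variable (τ : ↥(chevF4.group F) ≃* ↥(chevF4.group F))

/-- the fixed points of the twisting automorphism -/
def fixTau : Subgroup (GL chevF4.Idx F) where
  carrier := {g | g ∈ chevF4.group F ∧ tauGL F τ g = g}
  one_mem' := ⟨Subgroup.one_mem _, tauGL_one F τ⟩
  mul_mem' := by
    rintro g g' ⟨h1, h2⟩ ⟨h1', h2'⟩
    exact ⟨Subgroup.mul_mem _ h1 h1', by rw [tauGL_mul F τ _ _ h1 h1', h2, h2']⟩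
  inv_mem' := by
    rintro g ⟨h1, h2⟩
    exact ⟨Subgroup.inv_mem _ h1, by rw [tauGL_inv F τ _ h1, h2]⟩

theorem mem_fixTau (g : GL chevF4.Idx F) :
    g ∈ fixTau F τ ↔ g ∈ chevF4.group F ∧ tauGL F τ g = g := Iff.rfl

theorem fixTau_le_group : fixTau F τ ≤ chevF4.group F := fun _ h => h.1

variable {F τ} {θ : ℕ} (hτ : TauData F τ θ)
include hτ

/-- the permutation of the roots induced by an element of `N` whose class in `W` is `τ`-stable commutes
with `ρ` -/
theorem actsAs_comm_rho_tau (n : GL chevF4.Idx F) (hn : n ∈ chevF4.monomialSubgroup F)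
    (hh : n⁻¹ * tauGL F τ n ∈ chevF4.diagonalSubgroup F) (f : ℕ → ℕ) (hf : ActsAs chevF4 f4_mem F n f)
    (s : ℕ) (hs : s < 48) : f (rho_F4 s) = rho_F4 (f s) := by
  have hnG := monomial_le_group chevF4 f4_mem F hn
  have hf' : ActsAs chevF4 f4_mem F (tauGL F τ n) (f ∘ id) := by
    have := ActsAs.mul chevF4 F hf (actsAs_diag chevF4 f4_mem F _ hh)
    have e : n * (n⁻¹ * tauGL F τ n) = tauGL F τ n := by group
    rwa [e] at this
  obtain ⟨hfs, c, hc, h1⟩ := hf s hs
  obtain ⟨hfs', c', hc', h1'⟩ := hf' (rho_F4 s) (rho_F4_lt s hs)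
  have e1 := congrArg (tauGL F τ) (h1 1)
  rw [tauGL_conj F τ _ _ hnG (xGL_mem_group chevF4 f4_mem F _ _), tauGL_xGL hτ s hs,
    tauGL_xGL hτ (f s) hfs, h1'] at e1
  have hfs'' : f (rho_F4 s) < 48 := hfs'
  refine xGL_root_inj chevF4 f4_mem F _ _ hfs'' (rho_F4_lt _ hfs) _ _ ?_ e1
  rw [one_pow, mul_one]
  exact hc'

/-- an element of `N` whose class in `W` is `τ`-stable acts on the roots as one of the 16 alternating words -/
theorem monomial_stable_cases (n : GL chevF4.Idx F) (hn : n ∈ chevF4.monomialSubgroup F)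
    (hh : n⁻¹ * tauGL F τ n ∈ chevF4.diagonalSubgroup F) :
    ∃ w ∈ words16, ActsAs chevF4 f4_mem F n (reflWord chevF4 (flatW w)) := by
  obtain ⟨L, hL, hact⟩ := exists_actsAs chevF4 f4_mem F n hn
  have hcomm := actsAs_comm_rho_tau hτ n hn hh _ hact
  obtain ⟨w, hw, hwe⟩ := weylF4_comm_rho L hL hcomm
  refine ⟨w, hw, fun s hs => ?_⟩
  obtain ⟨h1, c, hc, h2⟩ := hact s hs
  have hs' : s < 48 := hs
  rw [hwe s hs'] at h1 h2
  exact ⟨h1, c, hc, h2⟩

end

end Cfsg.Agent.Lib.Helper11.F4T
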