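import Cfsg.Agent.Lib.Helper11.F4Tw9
import Cfsg.Agent.Lib.Helper7.ChevTwistGen

/-! The torus of `²F₄`: diagonal elements of the twisted group, `|H ∩ ²F₄| = (q-1)²` (helper11). -/

set_option autoImplicit false
set_option maxRecDepth 100000

namespace Cfsg.Agent.Lib.Helper11.F4T

open Cfsg Cfsg.Lie Matrix Cfsg.Agent.Lib.Helper7 Cfsg.Agent.Lib.Helper11 Cfsg.Agent.Lib.Helper11.Isog

theorem mul3_comm {G : Type*} [Group G] (a₁ a₂ a₃ b₁ b₂ b₃ : G) (h21 : Commute a₂ b₁) (h31 : Commute a₃ b₁)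
    (h32 : Commute a₃ b₂) : (a₁ * a₂ * a₃) * (b₁ * b₂ * b₃) = (a₁ * b₁) * (a₂ * b₂) * (a₃ * b₃) := by
  have e1 : (a₂ * a₃) * b₁ = b₁ * (a₂ * a₃) := (h21.mul_left h31).eq
  have e2 : a₃ * b₂ = b₂ * a₃ := h32.eq
  calc (a₁ * a₂ * a₃) * (b₁ * b₂ * b₃) = a₁ * ((a₂ * a₃) * b₁) * b₂ * b₃ := by group
    _ = a₁ * (b₁ * (a₂ * a₃)) * b₂ * b₃ := by rw [e1]
    _ = a₁ * b₁ * a₂ * (a₃ * b₂) * b₃ := by group
    _ = a₁ * b₁ * a₂ * (b₂ * a₃) * b₃ := by rw [e2]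
    _ = _ := by group

theorem carR_F4_vals : carR chevF4 33 33 = 2 ∧ carR chevF4 24 33 = 0 ∧ carR chevF4 33 27 = -1 ∧
    carR chevF4 24 27 = 0 ∧ carR chevF4 33 37 = 0 ∧ carR chevF4 24 37 = -1 ∧ carR chevF4 33 20 = 1 ∧
    carR chevF4 24 20 = 0 := by decide +kernel

theorem nc_F4_pair : NC chevF4 33 24 ∧ NC chevF4 33 (chevF4.neg 24) ∧ NC chevF4 (chevF4.neg 33) 24 ∧
    NC chevF4 (chevF4.neg 33) (chevF4.neg 24) := by decide +kernel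

theorem wJ1_vals : reflWord chevF4 (wJ 1) 37 = 33 ∧ reflWord chevF4 (wJ 1) 20 = 27 := by decide +kernel

section
variable {F : Type*} [Field F]

/-- `h_r(c)` as an element of `GL` -/
noncomputable abbrev hG (r : ℕ) (c : F) : GL chevF4.Idx F := wordGL chevF4 f4_mem F (chevF4.hWord r c)

/-- `n_r(c)` as an element of `GL` -/
noncomputable abbrev nG (r : ℕ) (c : F) : GL chevF4.Idx F := wordGL chevF4 f4_mem F (chevF4.nWord r c)

/-- the element `h_{p₁}(s^θ) h_{p₄}(s)` -/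
noncomputable def hJ1 (θ : ℕ) (s : F) : GL chevF4.Idx F := hG 33 (s ^ θ) * hG 24 s

/-- its conjugate by `n_{J₂}` -/
noncomputable def hJ2 (θ : ℕ) (s : F) : GL chevF4.Idx F := nJ F 1 * hJ1 θ s * (nJ F 1)⁻¹

theorem hG_diag (r : ℕ) (hr : r < 48) (c : F) (hc : c ≠ 0) :
    ((hG r c : GL chevF4.Idx F) : Matrix chevF4.Idx chevF4.Idx F) =
      diagChar chevF4 F (fun s => c ^ carR chevF4 r s) := by
  rw [coe_wordGL]
  exact hMat_eq_diagChar chevF4 f4_mem F r hr c hc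

theorem hJ1_mem_diagonal (θ : ℕ) (s : F) (hs : s ≠ 0) : hJ1 θ s ∈ chevF4.diagonalSubgroup F :=
  Subgroup.mul_mem _ (hGL_mem_diagonalSubgroup chevF4 f4_mem F 33 (by decide) _ (pow_ne_zero _ hs))
    (hGL_mem_diagonalSubgroup chevF4 f4_mem F 24 (by decide) _ hs)

theorem hJ2_mem_diagonal (θ : ℕ) (s : F) (hs : s ≠ 0) : hJ2 θ s ∈ chevF4.diagonalSubgroup F :=
  conj_diagonal_mem _ _ (nJ_mem_monomial F 1) (hJ1_mem_diagonal θ s hs)

theorem ce_hJ1 (θ : ℕ) (s : F) (hs : s ≠ 0) (r : ℕ) (hr : r < 48) :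
    ce r (hJ1 θ s) = (s ^ θ) ^ carR chevF4 33 r * s ^ carR chevF4 24 r := by
  unfold hJ1
  rw [ce_mul _ _ (hGL_mem_diagonalSubgroup chevF4 f4_mem F 33 (by decide) _ (pow_ne_zero _ hs))
    (hGL_mem_diagonalSubgroup chevF4 f4_mem F 24 (by decide) _ hs) r hr,
    ce_diag _ _ (hG_diag 33 (by decide) _ (pow_ne_zero _ hs)) r hr,
    ce_diag _ _ (hG_diag 24 (by decide) _ hs) r hr]

theorem ce_hJ1_33 (θ : ℕ) (s : F) (hs : s ≠ 0) : ce 33 (hJ1 θ s) = (s ^ θ) ^ 2 := by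
  rw [ce_hJ1 θ s hs 33 (by decide), carR_F4_vals.1, carR_F4_vals.2.1]
  simp [zpow_ofNat]

theorem ce_hJ1_27 (θ : ℕ) (s : F) (hs : s ≠ 0) : ce 27 (hJ1 θ s) = (s ^ θ)⁻¹ := by
  rw [ce_hJ1 θ s hs 27 (by decide), carR_F4_vals.2.2.1, carR_F4_vals.2.2.2.1]
  simp

theorem ce_hJ2_33 (θ : ℕ) (s : F) (hs : s ≠ 0) : ce 33 (hJ2 θ s) = s⁻¹ := by
  have h := ce_conj (nJ F 1) _ (actsAs_nWordGL chevF4 f4_mem F _ (wJ_lt 1)) (nJ_mem_monomial F 1)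
    (hJ1 θ s) (hJ1_mem_diagonal θ s hs) 37 (by decide)
  rw [wJ1_vals.1] at h
  unfold hJ2
  rw [h, ce_hJ1 θ s hs 37 (by decide), carR_F4_vals.2.2.2.2.1, carR_F4_vals.2.2.2.2.2.1]
  simp

theorem ce_hJ2_27 (θ : ℕ) (s : F) (hs : s ≠ 0) : ce 27 (hJ2 θ s) = s ^ θ := by
  have h := ce_conj (nJ F 1) _ (actsAs_nWordGL chevF4 f4_mem F _ (wJ_lt 1)) (nJ_mem_monomial F 1)
    (hJ1 θ s) (hJ1_mem_diagonal θ s hs) 20 (by decide)
  rw [wJ1_vals.2] at h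
  unfold hJ2
  rw [h, ce_hJ1 θ s hs 20 (by decide), carR_F4_vals.2.2.2.2.2.2.1, carR_F4_vals.2.2.2.2.2.2.2]
  simp

variable (h2 : (2 : F) = 0)
include h2

/-- `n_{p₁}(s^θ) n_{p₄}(s)` lies in the twisted group -/
theorem nPair_mem_twistedF4 (θ : ℕ) (s : F) : nG 33 (s ^ θ) * nG 24 s ∈ twistedF4 F θ := by
  have hneg : ∀ x : F, -x = x := fun x => by linear_combination (-x) * h2
  have e : nG 33 (s ^ θ) * nG 24 s = pairU θ s * pairV θ s⁻¹ * pairU θ s := by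
    unfold nG
    rw [nGL_eq, nGL_eq, pairU_eq, pairV_eq, hneg, hneg]
    have n33 : chevF4.neg 33 = 14 := by decide
    have n24 : chevF4.neg 24 = 23 := by decide
    rw [n33, n24, inv_pow]
    have hc := nc_F4_pair
    rw [n33, n24] at hc
    exact mul3_comm _ _ _ _ _ _ (hc.2.2.1.commute chevF4 f4_mem F _ _) (hc.1.commute chevF4 f4_mem F _ _)
      (hc.2.1.commute chevF4 f4_mem F _ _)
  rw [e]
  exact Subgroup.mul_mem _ (Subgroup.mul_mem _ (pairU_mem_twistedF4 θ s) (pairV_mem_twistedF4 θ _))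
    (pairU_mem_twistedF4 θ s)

theorem hJ1_mem_twistedF4 (θ : ℕ) (s : F) : hJ1 θ s ∈ twistedF4 F θ := by
  have hneg : ∀ x : F, -x = x := fun x => by linear_combination (-x) * h2
  have e : hJ1 θ s = (nG 33 (s ^ θ) * nG 24 s) * (nG 33 (1 ^ θ) * nG 24 1) := by
    unfold hJ1 hG ChevalleyDatum.hWord
    rw [wordGL_append, wordGL_append, hneg 1, one_pow]
    have hc : Commute (nG 33 (1 : F)) (nG 24 s) :=
      rk1_commute chevF4 f4_mem F 33 24 nc_F4_pair.1 nc_F4_pair.2.1 nc_F4_pair.2.2.1 nc_F4_pair.2.2.2 _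
        (nGL_mem_rk1 chevF4 F f4_mem 33 1) _ (nGL_mem_rk1 chevF4 F f4_mem 24 s)
    have hc' := hc.eq
    calc nG 33 (s ^ θ) * nG 33 1 * (nG 24 s * nG 24 1)
        = nG 33 (s ^ θ) * (nG 33 1 * nG 24 s) * nG 24 1 := by group
      _ = nG 33 (s ^ θ) * (nG 24 s * nG 33 1) * nG 24 1 := by rw [hc']
      _ = _ := by group
  rw [e]
  exact Subgroup.mul_mem _ (nPair_mem_twistedF4 h2 θ s) (nPair_mem_twistedF4 h2 θ 1)

theorem hJ2_mem_twistedF4 (θ : ℕ) (hθ : 0 < θ) (s : F) : hJ2 θ s ∈ twistedF4 F θ := by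
  have hn := nJ_mem_twistedF4 F h2 θ hθ 1
  exact Subgroup.mul_mem _ (Subgroup.mul_mem _ hn (hJ1_mem_twistedF4 h2 θ s)) (Subgroup.inv_mem _ hn)

end

end Cfsg.Agent.Lib.Helper11.F4T
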