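import Cfsg.Agent.Lib.Helper11.F4Tw10

/-! The torus of `²F₄`: `|H ∩ ²F₄| = (q-1)²` and `H ∩ ²F₄ = H^τ` (helper11). -/

set_option autoImplicit false
set_option maxRecDepth 100000

namespace Cfsg.Agent.Lib.Helper11.F4T

open Cfsg Cfsg.Lie Matrix Cfsg.Agent.Lib.Helper7 Cfsg.Agent.Lib.Helper11 Cfsg.Agent.Lib.Helper11.Isog

section
variable {F : Type*} [Field F]

theorem ce_one (r : ℕ) : ce r (1 : GL chevF4.Idx F) = 1 := by
  unfold ce
  split_ifs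
  · rw [Units.val_one, Matrix.one_apply_eq]
  · rfl

theorem ce_inv (h : GL chevF4.Idx F) (hh : h ∈ chevF4.diagonalSubgroup F) (r : ℕ) (hr : r < 48) :
    ce r h⁻¹ = (ce r h)⁻¹ := by
  have := ce_mul h h⁻¹ hh (Subgroup.inv_mem _ hh) r hr
  rw [mul_inv_cancel, ce_one] at this
  exact eq_inv_of_mul_eq_one_right this.symm

variable {τ : ↥(chevF4.group F) ≃* ↥(chevF4.group F)} {θ : ℕ} (hτ : TauData F τ θ)
include hτ

theorem pow_theta_inj (x y : F) (h : x ^ θ = y ^ θ) : x = y := by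
  rw [← pw_two hτ x, ← pw_two hτ y, h]

/-- a fixed diagonal element is determined by its entries at `p₁`, `p₂` -/
theorem fixH_ext (h h' : GL chevF4.Idx F) (hh : h ∈ chevF4.diagonalSubgroup F ⊓ fixTau F τ)
    (hh' : h' ∈ chevF4.diagonalSubgroup F ⊓ fixTau F τ) (e33 : ce 33 h = ce 33 h')
    (e27 : ce 27 h = ce 27 h') : h = h' := by
  have hH := (Subgroup.mem_inf.mp hh).1
  have hH' := (Subgroup.mem_inf.mp hh').1
  have hk : h⁻¹ * h' ∈ chevF4.diagonalSubgroup F ⊓ fixTau F τ :=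
    Subgroup.mul_mem _ (Subgroup.inv_mem _ hh) hh'
  have h1 : ce 33 (h⁻¹ * h') = 1 := by
    rw [ce_mul _ _ (Subgroup.inv_mem _ hH) hH' 33 (by decide), ce_inv h hH 33 (by decide), e33]
    exact inv_mul_cancel₀ (ce_ne_zero h' hH' 33 (by decide))
  have h2 : ce 27 (h⁻¹ * h') = 1 := by
    rw [ce_mul _ _ (Subgroup.inv_mem _ hH) hH' 27 (by decide), ce_inv h hH 27 (by decide), e27]
    exact inv_mul_cancel₀ (ce_ne_zero h' hH' 27 (by decide))
  have := fixH_eq_one hτ _ hk h1 h2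
  exact inv_mul_eq_one.mp this

theorem hJ_mul_mem (s s' : F) (hs : s ≠ 0) (hs' : s' ≠ 0) :
    hJ1 θ s * hJ2 θ s' ∈ chevF4.diagonalSubgroup F ⊓ twistedF4 F θ :=
  Subgroup.mem_inf.mpr ⟨Subgroup.mul_mem _ (hJ1_mem_diagonal θ s hs) (hJ2_mem_diagonal θ s' hs'),
    Subgroup.mul_mem _ (hJ1_mem_twistedF4 hτ.two θ s) (hJ2_mem_twistedF4 hτ.two θ hτ.pos s')⟩

theorem ce33_hJ_mul (s s' : F) (hs : s ≠ 0) (hs' : s' ≠ 0) :
    ce 33 (hJ1 θ s * hJ2 θ s') = (s ^ θ) ^ 2 * s'⁻¹ := by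
  rw [ce_mul _ _ (hJ1_mem_diagonal θ s hs) (hJ2_mem_diagonal θ s' hs') 33 (by decide),
    ce_hJ1_33 θ s hs, ce_hJ2_33 θ s' hs']

theorem ce27_hJ_mul (s s' : F) (hs : s ≠ 0) (hs' : s' ≠ 0) :
    ce 27 (hJ1 θ s * hJ2 θ s') = (s ^ θ)⁻¹ * s' ^ θ := by
  rw [ce_mul _ _ (hJ1_mem_diagonal θ s hs) (hJ2_mem_diagonal θ s' hs') 27 (by decide),
    ce_hJ1_27 θ s hs, ce_hJ2_27 θ s' hs']

/-- the parametrisation of the torus is injective -/
theorem hJ_mul_inj (s s' t t' : F) (hs : s ≠ 0) (hs' : s' ≠ 0) (ht : t ≠ 0) (ht' : t' ≠ 0)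
    (h : hJ1 θ s * hJ2 θ s' = hJ1 θ t * hJ2 θ t') : s = t ∧ s' = t' := by
  have e1 : (s ^ θ) ^ 2 * s'⁻¹ = (t ^ θ) ^ 2 * t'⁻¹ := by
    rw [← ce33_hJ_mul hτ s s' hs hs', ← ce33_hJ_mul hτ t t' ht ht', h]
  have e2 : (s ^ θ)⁻¹ * s' ^ θ = (t ^ θ)⁻¹ * t' ^ θ := by
    rw [← ce27_hJ_mul hτ s s' hs hs', ← ce27_hJ_mul hτ t t' ht ht', h]
  -- `u = s / t`, `u' = s' / t'`
  have hsθ : s ^ θ ≠ 0 := pow_ne_zero _ hs
  have htθ : t ^ θ ≠ 0 := pow_ne_zero _ ht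
  have h2 : (s' / t') ^ θ = (s / t) ^ θ := by
    rw [div_pow, div_pow]
    field_simp
    field_simp at e2
    linear_combination e2
  have h3 : s' / t' = s / t := pow_theta_inj hτ _ _ h2
  have h1 : ((s / t) ^ θ) ^ 2 = s' / t' := by
    rw [div_pow, div_pow]
    field_simp
    field_simp at e1
    linear_combination e1
  rw [h3] at h1
  set u := s / t with hu
  have hu0 : u ≠ 0 := div_ne_zero hs ht
  have h4 : u ^ (θ * 2) = u := by rw [pow_mul]; exact h1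
  have h5 : u ^ 2 = u := by
    calc u ^ 2 = (u ^ (2 * θ * θ)) ^ 2 := by rw [hτ.pow]
      _ = (u ^ (θ * 2)) ^ (θ * 2) := by rw [← pow_mul, ← pow_mul]; congr 1; ring
      _ = u := by rw [h4, h4]
  have h6 : u = 1 := by
    have : u * (u - 1) = 0 := by linear_combination h5
    rcases mul_eq_zero.mp this with h | h
    · exact absurd h hu0
    · exact sub_eq_zero.mp h
  have hst : s = t := by
    have := h6
    rw [hu, div_eq_one_iff_eq ht] at this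
    exact this
  refine ⟨hst, ?_⟩
  rw [h6, div_eq_one_iff_eq ht'] at h3
  exact h3

variable [Fintype F]

theorem card_fixH_le : Nat.card ↥(chevF4.diagonalSubgroup F ⊓ fixTau F τ) ≤ Nat.card Fˣ ^ 2 := by
  classical
  let f : ↥(chevF4.diagonalSubgroup F ⊓ fixTau F τ) → Fˣ × Fˣ := fun h =>
    (Units.mk0 (ce 33 h.1) (ce_ne_zero h.1 (Subgroup.mem_inf.mp h.2).1 33 (by decide)),
      Units.mk0 (ce 27 h.1) (ce_ne_zero h.1 (Subgroup.mem_inf.mp h.2).1 27 (by decide)))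
  have hf : Function.Injective f := by
    rintro ⟨h, hh⟩ ⟨h', hh'⟩ e
    have e1 := congrArg (fun p : Fˣ × Fˣ => (p.1 : F)) e
    have e2 := congrArg (fun p : Fˣ × Fˣ => (p.2 : F)) e
    apply Subtype.ext
    exact fixH_ext hτ h h' hh hh' e1 e2
  have := Nat.card_le_card_of_injective f hf
  rwa [Nat.card_prod, ← pow_two] at this

theorem card_twH_ge : Nat.card Fˣ ^ 2 ≤ Nat.card ↥(chevF4.diagonalSubgroup F ⊓ twistedF4 F θ) := by
  classical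
  let g : Fˣ × Fˣ → ↥(chevF4.diagonalSubgroup F ⊓ twistedF4 F θ) := fun p =>
    ⟨hJ1 θ (p.1 : F) * hJ2 θ (p.2 : F), hJ_mul_mem hτ _ _ p.1.ne_zero p.2.ne_zero⟩
  have hg : Function.Injective g := by
    rintro ⟨s, s'⟩ ⟨t, t'⟩ e
    have e' : hJ1 θ (s : F) * hJ2 θ (s' : F) = hJ1 θ (t : F) * hJ2 θ (t' : F) := congrArg Subtype.val e
    obtain ⟨h1, h2⟩ := hJ_mul_inj hτ _ _ _ _ s.ne_zero s'.ne_zero t.ne_zero t'.ne_zero e'
    exact Prod.ext (Units.ext h1) (Units.ext h2)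
  have := Nat.card_le_card_of_injective g hg
  rwa [Nat.card_prod, ← pow_two] at this

theorem diag_inf_twistedF4_le : chevF4.diagonalSubgroup F ⊓ twistedF4 F θ ≤
    chevF4.diagonalSubgroup F ⊓ fixTau F τ := inf_le_inf_left _ (twistedF4_le_fixTau hτ)

/-- `|H ∩ ²F₄| = (q-1)²` -/
theorem card_diag_inf_twistedF4 :
    Nat.card ↥(chevF4.diagonalSubgroup F ⊓ twistedF4 F θ) = Nat.card Fˣ ^ 2 := by
  have h1 := card_twH_ge hτ
  have h2 := card_fixH_le hτ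
  have h3 : Nat.card ↥(chevF4.diagonalSubgroup F ⊓ twistedF4 F θ) ≤
      Nat.card ↥(chevF4.diagonalSubgroup F ⊓ fixTau F τ) :=
    Subgroup.card_le_of_le (diag_inf_twistedF4_le hτ)
  omega

/-- `H ∩ ²F₄ = H^τ` -/
theorem diag_inf_fixTau_eq : chevF4.diagonalSubgroup F ⊓ fixTau F τ =
    chevF4.diagonalSubgroup F ⊓ twistedF4 F θ := by
  have h1 := card_twH_ge hτ
  have h2 := card_fixH_le hτ
  symm
  apply Subgroup.eq_of_le_of_card_ge (diag_inf_twistedF4_le hτ)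
  omega

end

end Cfsg.Agent.Lib.Helper11.F4T
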