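import Cfsg.Agent.Lib.Helper11.F4Tw6

/-! The fixed points of the twisting automorphism of `F₄` in `U`: the chain of class subgroups, `U^τ ≤ ²F₄` and
`|U^τ| = q¹²` (helper11). -/

set_option autoImplicit false
set_option maxRecDepth 100000

namespace Cfsg.Agent.Lib.Helper11.F4T

open Cfsg Cfsg.Lie Matrix Cfsg.Agent.Lib.Helper7 Cfsg.Agent.Lib.Helper11 Cfsg.Agent.Lib.Helper11.Isog

/-- the roots `w_{pre}(Φ_J⁺)` -/
def blk (pre : List ℕ) (J : ℕ) : List ℕ := (clsJ J).map (reflWord chevF4 (flatW pre))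

/-- the roots of the blocks of a class word `L` after the prefix `pre` -/
def rootsL : List ℕ → List ℕ → List ℕ
  | _, [] => []
  | pre, J :: L => blk pre J ++ rootsL (pre ++ [J]) L

/-- the table check for the chain -/
def chainB : List ℕ → List ℕ → Bool
  | _, [] => true
  | pre, J :: L =>
      ((blk pre J).all fun r => decide (r < 48) && (blk pre J).contains (rho_F4 r)) &&
      ((blk pre J).all fun r =>
        decide (chevF4.IsNegRoot (reflWord chevF4 (flatW (pre ++ [J])).reverse r))) &&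
      ((rootsL (pre ++ [J]) L).all fun r => decide (r < 48) &&
        decide (chevF4.IsPosRoot (reflWord chevF4 (flatW (pre ++ [J])).reverse r))) &&
      chainB (pre ++ [J]) L

/-- the class word of the longest element -/
def W8 : List ℕ := [0, 1, 0, 1, 0, 1, 0, 1]

theorem chainB_W8 : chainB [] W8 = true := by decide +kernel

theorem closedLB_W8 : closedLB chevF4 (rootsL [] W8) = true := by decide +kernel

theorem rootsL_W8_pos : (∀ r ∈ rootsL [] W8, r ∈ chevF4.posRoots) ∧ (∀ r ∈ chevF4.posRoots, r ∈ rootsL [] W8) := by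
  decide +kernel

theorem clsJ_lt (J : ℕ) : ∀ r ∈ clsJ J, r < 48 := by
  unfold clsJ
  split_ifs <;> decide

theorem chainB_cons (pre : List ℕ) (J : ℕ) (L : List ℕ) (h : chainB pre (J :: L) = true) :
    (∀ r ∈ blk pre J, r < 48 ∧ rho_F4 r ∈ blk pre J) ∧
    (∀ r ∈ blk pre J, chevF4.IsNegRoot (reflWord chevF4 (flatW (pre ++ [J])).reverse r)) ∧
    (∀ r ∈ rootsL (pre ++ [J]) L, r < 48 ∧
      chevF4.IsPosRoot (reflWord chevF4 (flatW (pre ++ [J])).reverse r)) ∧
    chainB (pre ++ [J]) L = true := by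
  unfold chainB at h
  simp only [Bool.and_eq_true, List.all_eq_true, decide_eq_true_eq, List.contains_iff_mem] at h
  exact ⟨h.1.1.1, h.1.1.2, h.1.2, h.2⟩

theorem rootsL_stable : ∀ (L pre : List ℕ), chainB pre L = true →
    ∀ r ∈ rootsL pre L, r < 48 ∧ rho_F4 r ∈ rootsL pre L
  | [], _, _, r, hr => by simp [rootsL] at hr
  | J :: L, pre, h, r, hr => by
    obtain ⟨h1, -, -, h4⟩ := chainB_cons pre J L h
    have ih := rootsL_stable L (pre ++ [J]) h4
    show r < 48 ∧ rho_F4 r ∈ blk pre J ++ rootsL (pre ++ [J]) L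
    have hr' : r ∈ blk pre J ++ rootsL (pre ++ [J]) L := hr
    rcases List.mem_append.mp hr' with hr'' | hr''
    · exact ⟨(h1 r hr'').1, List.mem_append_left _ (h1 r hr'').2⟩
    · exact ⟨(ih r hr'').1, List.mem_append_right _ (ih r hr'').2⟩

section
variable {F : Type*} [Field F]
variable {τ : ↥(chevF4.group F) ≃* ↥(chevF4.group F)} {θ : ℕ} (hτ : TauData F τ θ)
include hτ

/-- conjugation by the fixed representative `n_{pre}` -/
theorem conj_mem_fix (l : List ℕ) (hl : ∀ r ∈ l, r < 48) (pre : List ℕ) (x : GL chevF4.Idx F)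
    (hx : x ∈ XL F l ⊓ fixTau F τ) :
    nW F pre * x * (nW F pre)⁻¹ ∈ XL F (l.map (reflWord chevF4 (flatW pre))) ⊓ fixTau F τ := by
  obtain ⟨h1, h2⟩ := Subgroup.mem_inf.mp hx
  refine Subgroup.mem_inf.mpr ⟨conj_closure_gensL chevF4 f4_mem F _ _ (actsAs_nW F pre) l hl x h1, ?_⟩
  exact Subgroup.mul_mem _ (Subgroup.mul_mem _ (nW_mem_fixTau hτ pre) h2)
    (Subgroup.inv_mem _ (nW_mem_fixTau hτ pre))

theorem conj_mem_fix' (l : List ℕ) (hl : ∀ r ∈ l, r < 48) (pre : List ℕ) (a : GL chevF4.Idx F)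
    (ha : a ∈ XL F (l.map (reflWord chevF4 (flatW pre))) ⊓ fixTau F τ) :
    (nW F pre)⁻¹ * a * nW F pre ∈ XL F l ⊓ fixTau F τ := by
  obtain ⟨h1, h2⟩ := Subgroup.mem_inf.mp ha
  have hl' : ∀ r ∈ l.map (reflWord chevF4 (flatW pre)), r < 48 := by
    intro r hr
    obtain ⟨s, hs, rfl⟩ := List.mem_map.mp hr
    exact reflWord_lt' chevF4 f4_mem _ (flatW_lt pre) s (hl s hs)
  have h3 := conj_closure_gensL chevF4 f4_mem F _ _ (actsAs_nW_inv F pre) _ hl' a h1
  rw [inv_inv, List.map_map] at h3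
  have e : l.map (reflWord chevF4 (flatW pre).reverse ∘ reflWord chevF4 (flatW pre)) = l := by
    conv_rhs => rw [← List.map_id l]
    apply List.map_congr_left
    intro r hr
    exact reflWord_rev_cancel' _ (flatW_lt pre) r (hl r hr)
  rw [e] at h3
  refine Subgroup.mem_inf.mpr ⟨h3, ?_⟩
  exact Subgroup.mul_mem _ (Subgroup.mul_mem _ (Subgroup.inv_mem _ (nW_mem_fixTau hτ pre)) h2)
    (nW_mem_fixTau hτ pre)

theorem card_conj_fix (l : List ℕ) (hl : ∀ r ∈ l, r < 48) (pre : List ℕ) :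
    Nat.card ↥(XL F (l.map (reflWord chevF4 (flatW pre))) ⊓ fixTau F τ) =
      Nat.card ↥(XL F l ⊓ fixTau F τ) := by
  have e : ↥(XL F l ⊓ fixTau F τ) ≃ ↥(XL F (l.map (reflWord chevF4 (flatW pre))) ⊓ fixTau F τ) :=
    { toFun := fun x => ⟨nW F pre * x.1 * (nW F pre)⁻¹, conj_mem_fix hτ l hl pre x.1 x.2⟩
      invFun := fun a => ⟨(nW F pre)⁻¹ * a.1 * nW F pre, conj_mem_fix' hτ l hl pre a.1 a.2⟩
      left_inv := by
        rintro ⟨x, hx⟩
        apply Subtype.ext
        show (nW F pre)⁻¹ * (nW F pre * x * (nW F pre)⁻¹) * nW F pre = x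
        group
      right_inv := by
        rintro ⟨a, ha⟩
        apply Subtype.ext
        show nW F pre * ((nW F pre)⁻¹ * a * nW F pre) * (nW F pre)⁻¹ = a
        group }
  exact (Nat.card_congr e).symm

/-- the step of the chain: the two parts have trivial intersection -/
theorem chain_disj (pre : List ℕ) (J : ℕ) (L : List ℕ) (h : chainB pre (J :: L) = true) :
    XL F (rootsL (pre ++ [J]) L) ⊓ XL F (blk pre J) = ⊥ := by
  obtain ⟨h1, h2, h3, -⟩ := chainB_cons pre J L h
  exact XL_inf_eq_bot _ _ (nW F (pre ++ [J]))⁻¹ _ (actsAs_nW_inv F (pre ++ [J])) h3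
    (fun r hr => ⟨(h1 r hr).1, h2 r hr⟩)

/-- the fixed points of the groups of the chain lie in the twisted group -/
theorem chain_le : ∀ (L pre : List ℕ), chainB pre L = true → closedLB chevF4 (rootsL pre L) = true →
    XL F (rootsL pre L) ⊓ fixTau F τ ≤ twistedF4 F θ
  | [], _, _, _ => by
    intro g hg
    have : gensL chevF4 F [] = ∅ := by ext g; simp [gensL]
    have hg1 := (Subgroup.mem_inf.mp hg).1
    show g ∈ twistedF4 F θ
    have h0 : g ∈ Subgroup.closure (gensL chevF4 F []) := hg1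
    rw [this, Subgroup.closure_empty, Subgroup.mem_bot] at h0
    rw [h0]; exact Subgroup.one_mem _
  | J :: L, pre, h, hcl => by
    obtain ⟨h1, h2, h3, h4⟩ := chainB_cons pre J L h
    have hcl' : closedLB chevF4 (rootsL (pre ++ [J]) L) = true := closedLB_append chevF4 _ _ hcl
    have ih := chain_le L (pre ++ [J]) h4 hcl'
    intro g hg
    have hdisj : XL F (blk pre J) ⊓ XL F (rootsL (pre ++ [J]) L) = ⊥ := by
      rw [inf_comm]; exact chain_disj hτ pre J L h
    obtain ⟨a, ha, b, hb, rfl⟩ := split_fix hτ (blk pre J) (rootsL (pre ++ [J]) L) hcl h1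
      (rootsL_stable L _ h4) hdisj g hg
    apply Subgroup.mul_mem _ _ (ih hb)
    have hx := conj_mem_fix' hτ (clsJ J) (clsJ_lt J) pre a ha
    have hx' := XJ_inf_fixTau_le hτ J hx
    have hm := nW_mem_twistedF4 F hτ.two θ hτ.pos pre
    have e : a = nW F pre * ((nW F pre)⁻¹ * a * nW F pre) * (nW F pre)⁻¹ := by group
    rw [e]
    exact Subgroup.mul_mem _ (Subgroup.mul_mem _ hm hx') (Subgroup.inv_mem _ hm)

/-- the number of fixed points of the groups of the chain -/
theorem chain_card : ∀ (L pre : List ℕ), chainB pre L = true → closedLB chevF4 (rootsL pre L) = true →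
    Nat.card ↥(XL F (rootsL pre L) ⊓ fixTau F τ) = (L.map fun J => Nat.card ↥(XJ F J ⊓ fixTau F τ)).prod
  | [], _, _, _ => by
    have : gensL chevF4 F [] = ∅ := by ext g; simp [gensL]
    have e : XL F (rootsL [] []) = ⊥ := by
      show Subgroup.closure (gensL chevF4 F []) = ⊥
      rw [this, Subgroup.closure_empty]
    show Nat.card ↥(XL F [] ⊓ fixTau F τ) = 1
    have e' : XL F [] ⊓ fixTau F τ = ⊥ := by
      have : XL F [] = ⊥ := e
      rw [this, bot_inf_eq]
    rw [e']
    exact Subgroup.card_bot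
  | J :: L, pre, h, hcl => by
    obtain ⟨h1, h2, h3, h4⟩ := chainB_cons pre J L h
    have hcl' : closedLB chevF4 (rootsL (pre ++ [J]) L) = true := closedLB_append chevF4 _ _ hcl
    have ih := chain_card L (pre ++ [J]) h4 hcl'
    have hdisj : XL F (blk pre J) ⊓ XL F (rootsL (pre ++ [J]) L) = ⊥ := by
      rw [inf_comm]; exact chain_disj hτ pre J L h
    have hc := card_split_fix hτ (blk pre J) (rootsL (pre ++ [J]) L) hcl h1
      (rootsL_stable L _ h4) hdisj
    show Nat.card ↥(XL F (blk pre J ++ rootsL (pre ++ [J]) L) ⊓ fixTau F τ) = _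
    rw [hc, ih, List.map_cons, List.prod_cons]
    congr 1
    exact card_conj_fix hτ (clsJ J) (clsJ_lt J) pre

omit hτ in
theorem posUnipotent_eq_XL : chevF4.posUnipotent F = XL F (rootsL [] W8) := by
  rw [posUnipotent_eq_closure_gensL]
  show Subgroup.closure (gensL chevF4 F chevF4.posRoots) = Subgroup.closure (gensL chevF4 F (rootsL [] W8))
  congr 1
  apply gensL_congr
  intro r
  exact ⟨fun h => rootsL_W8_pos.2 r h, fun h => rootsL_W8_pos.1 r h⟩

/-- the fixed points of `U` lie in the twisted group -/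
theorem posUnipotent_inf_fixTau_le : chevF4.posUnipotent F ⊓ fixTau F τ ≤ twistedF4 F θ := by
  rw [posUnipotent_eq_XL]
  exact chain_le hτ W8 [] chainB_W8 closedLB_W8

/-- `|U^τ| = q¹²` -/
theorem card_posUnipotent_inf_fixTau :
    Nat.card ↥(chevF4.posUnipotent F ⊓ fixTau F τ) = Nat.card F ^ 12 := by
  rw [posUnipotent_eq_XL, chain_card hτ W8 [] chainB_W8 closedLB_W8]
  have e1 := card_XJ_zero_inf_fixTau hτ
  have e2 := card_XJ_one_inf_fixTau hτ
  simp only [W8, List.map_cons, List.map_nil, List.prod_cons, List.prod_nil, e1, e2]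
  ring

end

end Cfsg.Agent.Lib.Helper11.F4T
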