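import Cfsg.Agent.Lib.Helper11.F4Tw11
import Cfsg.Agent.Lib.Helper11.F4Tw7

/-! `²F₄ = (F₄)^τ`, and the order of `B¹` (helper11). -/

set_option autoImplicit false
set_option maxRecDepth 100000

namespace Cfsg.Agent.Lib.Helper11.F4T

open Cfsg Cfsg.Lie Matrix Cfsg.Agent.Lib.Helper7 Cfsg.Agent.Lib.Helper11 Cfsg.Agent.Lib.Helper11.Isog

section
variable {F : Type*} [Field F] [Fintype F]
variable {τ : ↥(chevF4.group F) ≃* ↥(chevF4.group F)} {θ : ℕ} (hτ : TauData F τ θ)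
include hτ

theorem borel_inf_fixTau_le : chevF4.borelSubgroup F ⊓ fixTau F τ ≤ twistedF4 F θ := by
  intro b hb
  obtain ⟨h, hh, u, hu, rfl⟩ := fix_borel hτ b hb
  rw [diag_inf_fixTau_eq hτ] at hh
  exact Subgroup.mul_mem _ hh.2 (posUnipotent_inf_fixTau_le hτ hu)

/-- `²F₄(q)` is the group of fixed points of `τ` on `F₄(q)` -/
theorem fixTau_eq : fixTau F τ = twistedF4 F θ := by
  apply le_antisymm _ (twistedF4_le_fixTau hτ)
  intro g hg
  obtain ⟨w, _, b, hb, u, hu, rfl⟩ := fix_cases hτ g hg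
  have hu' : u ∈ chevF4.posUnipotent F ⊓ fixTau F τ :=
    Subgroup.mem_inf.mpr ⟨uMinus_le_posUnipotent chevF4 F _ (Subgroup.mem_inf.mp hu).1,
      (Subgroup.mem_inf.mp hu).2⟩
  exact Subgroup.mul_mem _ (Subgroup.mul_mem _ (borel_inf_fixTau_le hτ hb)
    (nW_mem_twistedF4 F hτ.two θ hτ.pos w)) (posUnipotent_inf_fixTau_le hτ hu')

end

end Cfsg.Agent.Lib.Helper11.F4T
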