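import Cfsg.Agent.Lib.Helper11.F4Tw12

/-! `²F₄`: the tables for the `(B,N)`-pair (helper11). -/

set_option autoImplicit false
set_option maxRecDepth 100000

namespace Cfsg.Agent.Lib.Helper11.F4T

open Cfsg Cfsg.Lie Matrix Cfsg.Agent.Lib.Helper7 Cfsg.Agent.Lib.Helper11 Cfsg.Agent.Lib.Helper11.Isog

/-- the positive roots outside the class `J`, in an order closed under the commutator formula -/
def restJ (J : ℕ) : List ℕ :=
  if J = 0 then [25, 28, 30, 27, 32, 37, 31, 40, 46, 35, 45, 39, 41, 44, 47, 29, 43, 38, 26, 36, 42, 34]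
  else [33, 24, 34, 42, 36, 26, 38, 43, 29, 47, 44, 41, 39, 45, 35, 46, 40, 31, 37, 32]

/-- the roots of the class `J`, in the order following `restJ` -/
def clsJr (J : ℕ) : List ℕ := if J = 0 then [24, 33] else [27, 30, 28, 25]

theorem tab_closed : ∀ J : Fin 2, closedLB chevF4 (restJ J ++ clsJr J) = true := by decide +kernel

theorem tab_pos : ∀ J : Fin 2, (∀ r ∈ restJ J ++ clsJr J, r ∈ chevF4.posRoots) ∧
    (∀ r ∈ chevF4.posRoots, r ∈ restJ J ++ clsJr J) := by decide +kernel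

theorem tab_cls : ∀ J : Fin 2, (∀ r ∈ clsJr J, r ∈ clsJ J) ∧ (∀ r ∈ clsJ J, r ∈ clsJr J) := by decide +kernel

theorem tab_rho : ∀ J : Fin 2, (∀ r ∈ restJ J, r < 48 ∧ rho_F4 r ∈ restJ J) ∧
    (∀ r ∈ clsJr J, r < 48 ∧ rho_F4 r ∈ clsJr J) := by decide +kernel

theorem tab_w : ∀ J : Fin 2,
    (∀ r ∈ restJ J, r < 48 ∧ chevF4.IsPosRoot (reflWord chevF4 (wJ J) r) ∧
      reflWord chevF4 (wJ J) r ∈ restJ J) ∧
    (∀ r ∈ clsJr J, r < 48 ∧ chevF4.IsNegRoot (reflWord chevF4 (wJ J) r)) := by decide +kernel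

theorem tab_ideal : ∀ J : Fin 2, ∀ r ∈ clsJ J, closedLB chevF4 (r :: restJ J) = true := by decide +kernel

theorem tab_sq : ∀ J : Fin 2, ∀ s ∈ List.range 48, reflWord chevF4 (wJ J) (reflWord chevF4 (wJ J) s) = s := by
  decide +kernel

theorem tab_T4 : ∀ J : Fin 2, ∀ w ∈ words16,
    (∀ r ∈ restJ J, chevF4.IsPosRoot (reflWord chevF4 (flatW w) r)) → w = [] ∨ w = [J.val] := by
  decide +kernel

theorem tab_um : ∀ J : Fin 2, ∀ r ∈ chevF4.posRoots, chevF4.IsNegRoot (reflWord chevF4 (wJ J) r) →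
    r ∈ clsJ J := by decide +kernel

theorem tab_dich : ∀ J : Fin 2, ∀ w ∈ words16,
    (∀ r ∈ clsJ J, chevF4.IsPosRoot (reflWord chevF4 (flatW w).reverse r)) ∨
    (∀ r ∈ clsJ J, chevF4.IsPosRoot (reflWord chevF4 (flatW (J.val :: w)).reverse r)) := by
  decide +kernel

theorem tab_inj : reflWord chevF4 (wJ 0) 33 ≠ reflWord chevF4 (wJ 1) 33 := by decide +kernel

end Cfsg.Agent.Lib.Helper11.F4T
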