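import Cfsg.Agent.Lib.Helper11.F4Tw13

/-! `²F₄`: the decomposition of `B¹` along a class and the rank one property (helper11). -/

set_option autoImplicit false
set_option maxRecDepth 100000

namespace Cfsg.Agent.Lib.Helper11.F4T

open Cfsg Cfsg.Lie Matrix Cfsg.Agent.Lib.Helper7 Cfsg.Agent.Lib.Helper11 Cfsg.Agent.Lib.Helper11.Isog

section
variable {F : Type*} [Field F]

theorem actsAs_nJ (J : ℕ) : ActsAs chevF4 f4_mem F (nJ F J) (reflWord chevF4 (wJ J)) :=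
  actsAs_nWordGL chevF4 f4_mem F (wJ J) (wJ_lt J)

theorem actsAs_nJ_inv (J : ℕ) : ActsAs chevF4 f4_mem F (nJ F J)⁻¹ (reflWord chevF4 (wJ J).reverse) :=
  actsAs_nWordGL_inv chevF4 f4_mem F (wJ J) (wJ_lt J)

theorem XL_clsJr (J : Fin 2) : XL F (clsJr J) = XJ F J := by
  unfold XJ
  show Subgroup.closure (gensL chevF4 F (clsJr J)) = Subgroup.closure (gensL chevF4 F (clsJ J))
  congr 1
  apply gensL_congr
  intro r
  exact ⟨(tab_cls J).1 r, (tab_cls J).2 r⟩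

theorem posUnipotent_eq_XL_J (J : Fin 2) : chevF4.posUnipotent F = XL F (restJ J ++ clsJr J) := by
  rw [posUnipotent_eq_closure_gensL]
  show Subgroup.closure (gensL chevF4 F chevF4.posRoots) =
    Subgroup.closure (gensL chevF4 F (restJ J ++ clsJr J))
  congr 1
  apply gensL_congr
  intro r
  exact ⟨(tab_pos J).2 r, (tab_pos J).1 r⟩

theorem restJ_pos (J : Fin 2) (r : ℕ) (hr : r ∈ restJ J) : chevF4.IsPosRoot r := by
  have h1 := (tab_pos J).1 r (List.mem_append_left _ hr)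
  unfold ChevalleyDatum.posRoots at h1
  rw [List.mem_filter] at h1
  exact of_decide_eq_true h1.2

theorem clsJ_pos (J : Fin 2) (r : ℕ) (hr : r ∈ clsJ J) : chevF4.IsPosRoot r := by
  have h1 := (tab_pos J).1 r (List.mem_append_right _ ((tab_cls J).2 r hr))
  unfold ChevalleyDatum.posRoots at h1
  rw [List.mem_filter] at h1
  exact of_decide_eq_true h1.2

theorem XL_restJ_le_pos (J : Fin 2) : XL F (restJ J) ≤ chevF4.posUnipotent F :=
  XL_le_pos _ (restJ_pos J)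

theorem XJ_le_pos (J : Fin 2) : XJ F J ≤ chevF4.posUnipotent F :=
  XL_le_pos _ (clsJ_pos J)

/-- the class subgroup and the rest of `U` have trivial intersection -/
theorem restJ_disj (J : Fin 2) : XL F (restJ J) ⊓ XL F (clsJr J) = ⊥ :=
  XL_inf_eq_bot _ _ (nJ F J) _ (actsAs_nJ J)
    (fun r hr => ⟨((tab_w J).1 r hr).1, ((tab_w J).1 r hr).2.1⟩)
    (fun r hr => ⟨((tab_w J).2 r hr).1, ((tab_w J).2 r hr).2⟩)

/-- an element of `N` permuting a list of roots normalises the group they generate -/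
theorem conj_XL_mem (n : GL chevF4.Idx F) (f : ℕ → ℕ) (hn : ActsAs chevF4 f4_mem F n f) (l : List ℕ)
    (hl : ∀ r ∈ l, r < 48 ∧ f r ∈ l) (y : GL chevF4.Idx F) (hy : y ∈ XL F l) :
    n * y * n⁻¹ ∈ XL F l := by
  have h1 := conj_closure_gensL chevF4 f4_mem F n f hn l (fun r hr => (hl r hr).1) y hy
  refine XL_mono _ _ ?_ h1
  intro r hr
  obtain ⟨s, hs, rfl⟩ := List.mem_map.mp hr
  exact (hl s hs).2

/-- `H` normalises `⟨X_r : r ∈ l⟩` -/
theorem conj_diag_XL_mem (h : GL chevF4.Idx F) (hh : h ∈ chevF4.diagonalSubgroup F) (l : List ℕ)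
    (hl : ∀ r ∈ l, r < 48) (y : GL chevF4.Idx F) (hy : y ∈ XL F l) : h * y * h⁻¹ ∈ XL F l :=
  conj_XL_mem h id (actsAs_diag chevF4 f4_mem F h hh) l (fun r hr => ⟨hl r hr, hr⟩) y hy

theorem restJ_lt (J : Fin 2) (r : ℕ) (hr : r ∈ restJ J) : r < 48 := ((tab_w J).1 r hr).1

/-- `n_J` normalises `U_J` -/
theorem conj_nJ_rest (J : Fin 2) (y : GL chevF4.Idx F) (hy : y ∈ XL F (restJ J)) :
    nJ F J * y * (nJ F J)⁻¹ ∈ XL F (restJ J) :=
  conj_XL_mem _ _ (actsAs_nJ J) _ (fun r hr => ⟨((tab_w J).1 r hr).1, ((tab_w J).1 r hr).2.2⟩) y hy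

theorem nJ_sq_mem_diag (J : Fin 2) : nJ F J * nJ F J ∈ chevF4.diagonalSubgroup F := by
  refine mem_diagonal_of_actsAs_id chevF4 f4_mem F _
    (Subgroup.mul_mem _ (nJ_mem_monomial F J) (nJ_mem_monomial F J)) _
    (ActsAs.mul chevF4 F (actsAs_nJ J) (actsAs_nJ J)) ?_
  intro s hs
  exact tab_sq J s (List.mem_range.mpr hs)

theorem conj_nJ_inv_rest (J : Fin 2) (y : GL chevF4.Idx F) (hy : y ∈ XL F (restJ J)) :
    (nJ F J)⁻¹ * y * nJ F J ∈ XL F (restJ J) := by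
  have h0 := nJ_sq_mem_diag (F := F) J
  have h1 := conj_nJ_rest J y hy
  have h2 := conj_diag_XL_mem _ (Subgroup.inv_mem _ h0) _ (restJ_lt J) _ h1
  have e : (nJ F J)⁻¹ * y * nJ F J =
      (nJ F J * nJ F J)⁻¹ * (nJ F J * y * (nJ F J)⁻¹) * (nJ F J * nJ F J)⁻¹⁻¹ := by group
  rw [e]; exact h2

/-- the class subgroup normalises `U_J` -/
theorem XJ_le_normalizer_rest (J : Fin 2) :
    XJ F J ≤ Subgroup.normalizer (XL F (restJ J) : Set (GL chevF4.Idx F)) := by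
  unfold XJ
  rw [Subgroup.closure_le]
  rintro x ⟨r, hr, t, hxm⟩
  have hx : x = xGL chevF4 f4_mem F r t := Units.ext (by rw [hxm, coe_xGL])
  rw [hx]
  apply mem_normalizer_closure
  · exact xGL_conj_gensL_closed chevF4 f4_mem F r (restJ J) (tab_ideal J r hr) t
  · intro y hy
    rw [xGL_inv]
    exact xGL_conj_gensL_closed chevF4 f4_mem F r (restJ J) (tab_ideal J r hr) (-t) y hy

theorem conj_XJ_rest (J : Fin 2) (x : GL chevF4.Idx F) (hx : x ∈ XJ F J) (y : GL chevF4.Idx F)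
    (hy : y ∈ XL F (restJ J)) : x * y * x⁻¹ ∈ XL F (restJ J) := by
  have := XJ_le_normalizer_rest J hx
  rw [Subgroup.mem_set_normalizer_iff] at this
  exact (this y).mp hy

/-- `U = U_J X_J` -/
theorem posUnipotent_split (J : Fin 2) (u : GL chevF4.Idx F) (hu : u ∈ chevF4.posUnipotent F) :
    ∃ a ∈ XL F (restJ J), ∃ x ∈ XJ F J, u = a * x := by
  rw [posUnipotent_eq_XL_J J] at hu
  obtain ⟨a, ha, x, hx, rfl⟩ := exists_mul_of_closed chevF4 f4_mem F _ _ (tab_closed J) u hu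
  have hx' : x ∈ XL F (clsJr J) := hx
  rw [XL_clsJr] at hx'
  exact ⟨a, ha, x, hx', rfl⟩

/-- `B` normalises `U_J` -/
theorem conj_borel_rest (J : Fin 2) (b : GL chevF4.Idx F) (hb : b ∈ chevF4.borelSubgroup F)
    (y : GL chevF4.Idx F) (hy : y ∈ XL F (restJ J)) : b * y * b⁻¹ ∈ XL F (restJ J) := by
  have hb' : b ∈ ((chevF4.borelSubgroup F : Subgroup (GL chevF4.Idx F)) : Set (GL chevF4.Idx F)) := hb
  rw [borel_eq_mul chevF4 f4_mem F] at hb'
  obtain ⟨h, hh, u, hu, rfl⟩ := Set.mem_mul.mp hb'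
  obtain ⟨a, ha, x, hx, rfl⟩ := posUnipotent_split J u hu
  have h1 := conj_XJ_rest J x hx y hy
  have h2 : a * (x * y * x⁻¹) * a⁻¹ ∈ XL F (restJ J) :=
    Subgroup.mul_mem _ (Subgroup.mul_mem _ ha h1) (Subgroup.inv_mem _ ha)
  have h3 := conj_diag_XL_mem h hh _ (restJ_lt J) _ h2
  have e : h * (a * x) * y * (h * (a * x))⁻¹ = h * (a * (x * y * x⁻¹) * a⁻¹) * h⁻¹ := by group
  rw [e]; exact h3

/-- a root subgroup sent into `U` by an element of `N` is sent to a positive root subgroup -/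
theorem pos_of_conj_mem_pos (n : GL chevF4.Idx F) (f : ℕ → ℕ) (hn : ActsAs chevF4 f4_mem F n f) (r : ℕ)
    (hr : r < 48) (h : n * xGL chevF4 f4_mem F r 1 * n⁻¹ ∈ chevF4.posUnipotent F) :
    chevF4.IsPosRoot (f r) := by
  obtain ⟨hfr, c, hc, h1⟩ := hn r hr
  rw [h1 1, mul_one] at h
  rcases posOrNeg_of_mem chevF4 f4_mem (f r) hfr with hp | hng
  · exact hp
  · exfalso
    have h2 : xGL chevF4 f4_mem F (f r) c ∈ chevF4.negUnipotent F :=
      Subgroup.subset_closure ⟨f r, c, hng, coe_xGL chevF4 f4_mem F _ _⟩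
    have h3 : xGL chevF4 f4_mem F (f r) c ∈ chevF4.posUnipotent F ⊓ chevF4.negUnipotent F :=
      Subgroup.mem_inf.mpr ⟨h, h2⟩
    rw [posUnipotent_inf_negUnipotent chevF4 f4_mem F, Subgroup.mem_bot,
      ← xGL_zero chevF4 f4_mem F (f r)] at h3
    exact hc (xGL_param_inj chevF4 f4_mem F _ hfr _ _ h3)

/-- a root subgroup sent into `V` by an element of `N` is sent to a negative root subgroup -/
theorem neg_of_conj_mem_neg (n : GL chevF4.Idx F) (f : ℕ → ℕ) (hn : ActsAs chevF4 f4_mem F n f) (r : ℕ)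
    (hr : r < 48) (h : n * xGL chevF4 f4_mem F r 1 * n⁻¹ ∈ chevF4.negUnipotent F) :
    chevF4.IsNegRoot (f r) := by
  obtain ⟨hfr, c, hc, h1⟩ := hn r hr
  rw [h1 1, mul_one] at h
  rcases posOrNeg_of_mem chevF4 f4_mem (f r) hfr with hp | hng
  · exfalso
    have h2 : xGL chevF4 f4_mem F (f r) c ∈ chevF4.posUnipotent F :=
      Subgroup.subset_closure ⟨f r, c, hp, coe_xGL chevF4 f4_mem F _ _⟩
    have h3 : xGL chevF4 f4_mem F (f r) c ∈ chevF4.posUnipotent F ⊓ chevF4.negUnipotent F :=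
      Subgroup.mem_inf.mpr ⟨h2, h⟩
    rw [posUnipotent_inf_negUnipotent chevF4 f4_mem F, Subgroup.mem_bot,
      ← xGL_zero chevF4 f4_mem F (f r)] at h3
    exact hc (xGL_param_inj chevF4 f4_mem F _ hfr _ _ h3)
  · exact hng

/-- `U_{n_J}⁻ ≤ X_J` -/
theorem uMinus_nJ_le (J : Fin 2) : uMinus chevF4 F (nJ F J) ≤ XJ F J := by
  unfold uMinus
  rw [Subgroup.closure_le]
  rintro x ⟨r, t, hr, hle, hxm⟩
  have hx : x = xGL chevF4 f4_mem F r t := Units.ext (by rw [hxm, coe_xGL])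
  rw [map_conj_le_iff chevF4 f4_mem F] at hle
  have hneg := neg_of_conj_mem_neg _ _ (actsAs_nJ (F := F) J) r hr.1 (hle 1)
  have hrp : r ∈ chevF4.posRoots := by
    unfold ChevalleyDatum.posRoots
    rw [List.mem_filter]
    exact ⟨List.mem_range.mpr hr.1, decide_eq_true hr⟩
  rw [hx]
  exact X_mem_XJ F J r (tab_um J r hrp hneg) t

end

section
variable {F : Type*} [Field F]
variable {τ : ↥(chevF4.group F) ≃* ↥(chevF4.group F)} {θ : ℕ} (hτ : TauData F τ θ)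
include hτ

/-- decomposition of `B¹` along the class `J` -/
theorem borel_decomp (J : Fin 2) (b : GL chevF4.Idx F) (hb : b ∈ chevF4.borelSubgroup F ⊓ fixTau F τ) :
    ∃ c ∈ chevF4.borelSubgroup F ⊓ fixTau F τ, ∃ x ∈ XJ F J ⊓ fixTau F τ,
      b = c * x ∧ nJ F J * c * (nJ F J)⁻¹ ∈ chevF4.borelSubgroup F ⊓ fixTau F τ := by
  obtain ⟨h, hh, u, hu, rfl⟩ := fix_borel hτ b hb
  have hu' : u ∈ XL F (restJ J ++ clsJr J) ⊓ fixTau F τ := by
    rw [← posUnipotent_eq_XL_J J]; exact hu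
  obtain ⟨a, ha, x, hx, rfl⟩ := split_fix hτ (restJ J) (clsJr J) (tab_closed J) (tab_rho J).1
    (tab_rho J).2 (restJ_disj J) u hu'
  rw [XL_clsJr] at hx
  obtain ⟨hh1, hh2⟩ := Subgroup.mem_inf.mp hh
  obtain ⟨ha1, ha2⟩ := Subgroup.mem_inf.mp ha
  have hnfix := nJ_mem_fixTau hτ J
  refine ⟨h * a, Subgroup.mem_inf.mpr ⟨?_, Subgroup.mul_mem _ hh2 ha2⟩, x, hx, by group, ?_⟩
  · exact Subgroup.mul_mem _ (diagonal_le_borel chevF4 f4_mem F hh1)
      (posUnipotent_le_borel chevF4 f4_mem F (XL_restJ_le_pos J ha1))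
  · refine Subgroup.mem_inf.mpr ⟨?_, Subgroup.mul_mem _ (Subgroup.mul_mem _ hnfix
      (Subgroup.mul_mem _ hh2 ha2)) (Subgroup.inv_mem _ hnfix)⟩
    have e : nJ F J * (h * a) * (nJ F J)⁻¹ =
        (nJ F J * h * (nJ F J)⁻¹) * (nJ F J * a * (nJ F J)⁻¹) := by group
    rw [e]
    exact Subgroup.mul_mem _
      (diagonal_le_borel chevF4 f4_mem F (conj_diagonal_mem _ _ (nJ_mem_monomial F J) hh1))
      (posUnipotent_le_borel chevF4 f4_mem F (XL_restJ_le_pos J (conj_nJ_rest J a ha1)))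

/-- the rank one property: `n_J x n_J⁻¹ ∈ B¹ n_J X_J¹` for `1 ≠ x ∈ X_J¹` -/
theorem rank_one (J : Fin 2) (x : GL chevF4.Idx F) (hx : x ∈ XJ F J ⊓ fixTau F τ) (hx1 : x ≠ 1) :
    ∃ b₁ ∈ chevF4.borelSubgroup F ⊓ fixTau F τ, ∃ x₂ ∈ XJ F J ⊓ fixTau F τ,
      nJ F J * x * (nJ F J)⁻¹ = b₁ * nJ F J * x₂ := by
  obtain ⟨hxX, hxfix⟩ := Subgroup.mem_inf.mp hx
  have hnfix := nJ_mem_fixTau hτ J
  have hgfix : nJ F J * x * (nJ F J)⁻¹ ∈ fixTau F τ :=
    Subgroup.mul_mem _ (Subgroup.mul_mem _ hnfix hxfix) (Subgroup.inv_mem _ hnfix)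
  obtain ⟨g, hg⟩ : ∃ g, g = nJ F J * x * (nJ F J)⁻¹ := ⟨_, rfl⟩
  rw [← hg] at hgfix ⊢
  -- `g` lies in `V` and is not trivial
  have hgV : g ∈ chevF4.negUnipotent F := by
    rw [hg]
    have h1 := conj_closure_gensL chevF4 f4_mem F _ _ (actsAs_nJ (F := F) J) (clsJr J)
      (fun r hr => ((tab_w J).2 r hr).1) x (by rw [← XL_clsJr] at hxX; exact hxX)
    refine XL_le_neg _ ?_ h1
    intro r hr
    obtain ⟨s, hs, rfl⟩ := List.mem_map.mp hr
    exact ((tab_w J).2 s hs).2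
  have hg1 : g ≠ 1 := by
    intro h
    apply hx1
    have e : x = (nJ F J)⁻¹ * (nJ F J * x * (nJ F J)⁻¹) * nJ F J := by group
    rw [e, ← hg, h]; group
  -- `g` normalises `U_J`
  have hgN : ∀ y ∈ XL F (restJ J), g * y * g⁻¹ ∈ XL F (restJ J) := by
    intro y hy
    have h1 := conj_nJ_inv_rest J y hy
    have h2 := conj_XJ_rest J x hxX _ h1
    have h3 := conj_nJ_rest J _ h2
    have e : g * y * g⁻¹ = nJ F J * (x * ((nJ F J)⁻¹ * y * nJ F J) * x⁻¹) * (nJ F J)⁻¹ := by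
      rw [hg]; group
    rw [e]; exact h3
  obtain ⟨w, hw, b, hb, u, hu, he⟩ := fix_cases hτ g hgfix
  obtain ⟨hbB, hbfix⟩ := Subgroup.mem_inf.mp hb
  obtain ⟨huU, hufix⟩ := Subgroup.mem_inf.mp hu
  have huP := uMinus_le_posUnipotent chevF4 F _ huU
  -- `n_w` maps `U_J` into `U`
  have hwN : ∀ y ∈ XL F (restJ J), nW F w * y * (nW F w)⁻¹ ∈ XL F (restJ J) := by
    intro y hy
    have h1 := conj_borel_rest J u⁻¹ (Subgroup.inv_mem _ (posUnipotent_le_borel chevF4 f4_mem F huP)) y hy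
    have h2 := hgN _ h1
    have h3 := conj_borel_rest J b⁻¹ (Subgroup.inv_mem _ hbB) _ h2
    have e : nW F w * y * (nW F w)⁻¹ = b⁻¹ * (g * (u⁻¹ * y * u⁻¹⁻¹) * g⁻¹) * b⁻¹⁻¹ := by
      rw [he]; group
    rw [e]; exact h3
  have hpos : ∀ r ∈ restJ J, chevF4.IsPosRoot (reflWord chevF4 (flatW w) r) := by
    intro r hr
    apply pos_of_conj_mem_pos _ _ (actsAs_nW F w) r (restJ_lt J r hr)
    apply XL_restJ_le_pos J
    apply hwN
    exact Subgroup.subset_closure ⟨r, hr, 1, coe_xGL chevF4 f4_mem F _ _⟩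
  rcases tab_T4 J w hw hpos with rfl | rfl
  · exfalso
    apply hg1
    have h1 : g ∈ chevF4.borelSubgroup F ⊓ chevF4.negUnipotent F := by
      refine Subgroup.mem_inf.mpr ⟨?_, hgV⟩
      rw [he, nW_nil, mul_one]
      exact Subgroup.mul_mem _ hbB (posUnipotent_le_borel chevF4 f4_mem F huP)
    rwa [borel_inf_negUnipotent chevF4 f4_mem F, Subgroup.mem_bot] at h1
  · have e1 : nW F [(J : ℕ)] = nJ F J := by rw [nW_cons, nW_nil, mul_one]
    rw [e1] at he huU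
    exact ⟨b, hb, u, Subgroup.mem_inf.mpr ⟨uMinus_nJ_le J huU, hufix⟩, he⟩

end

end Cfsg.Agent.Lib.Helper11.F4T
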