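import Cfsg.Agent.Lib.Helper11.F4Tw14
import Cfsg.Agent.Lib.Helper7.TwBN

/-! `²F₄`: the closure data of the `(B,N)`-pair (helper11). -/

set_option autoImplicit false
set_option maxRecDepth 100000

namespace Cfsg.Agent.Lib.Helper11.F4T

open Cfsg Cfsg.Lie Matrix Cfsg.Agent.Lib.Helper7 Cfsg.Agent.Lib.Helper11 Cfsg.Agent.Lib.Helper11.Isog

/-- equal permutations have equal inverses -/
theorem reflWord_rev_congr (A B : List ℕ) (hA : ∀ i ∈ A, i < chevF4.rank) (hB : ∀ i ∈ B, i < chevF4.rank)
    (h : ∀ s < 48, reflWord chevF4 A s = reflWord chevF4 B s) (s : ℕ) (hs : s < 48) :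
    reflWord chevF4 A.reverse s = reflWord chevF4 B.reverse s := by
  have hB' : ∀ i ∈ B.reverse, i < chevF4.rank := fun i hi => hB i (List.mem_reverse.mp hi)
  have ht : reflWord chevF4 B.reverse s < 48 := reflWord_lt' chevF4 f4_mem _ hB' s hs
  have h1 : reflWord chevF4 A (reflWord chevF4 B.reverse s) = s := by
    rw [h _ ht]; exact reflWord_rev_cancel B hB s hs
  have h2 := reflWord_rev_cancel' A hA _ ht
  rw [h1] at h2
  exact h2

theorem flatW_cons_congr (J : ℕ) (L w : List ℕ)
    (h : ∀ s < 48, reflWord chevF4 (flatW L) s = reflWord chevF4 (flatW w) s) (s : ℕ) (hs : s < 48) :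
    reflWord chevF4 (flatW (J :: L)) s = reflWord chevF4 (flatW (J :: w)) s := by
  rw [flatW_cons, flatW_cons, reflWord_append, reflWord_append]
  show reflWord chevF4 (wJ J) (reflWord chevF4 (flatW L) s) = reflWord chevF4 (wJ J) (reflWord chevF4 (flatW w) s)
  rw [h s hs]

section
variable {F : Type*} [Field F]

/-- the class representatives, indexed by `Fin 2` -/
noncomputable def sJ (F : Type*) [Field F] (J : Fin 2) : GL chevF4.Idx F := nJ F J

theorem twNW_eq (L : List (Fin 2)) : TwBN.nW (sJ F) L = nW F (L.map Fin.val) := by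
  induction L with
  | nil => rw [TwBN.nW_nil, List.map_nil, nW_nil]
  | cons J L ih => rw [TwBN.nW_cons, List.map_cons, nW_cons, ih]; rfl

variable {τ : ↥(chevF4.group F) ≃* ↥(chevF4.group F)} {θ : ℕ} (hτ : TauData F τ θ)
include hτ

/-- every class word acts on the roots as one of the 16 alternating words -/
theorem word_reduce (L : List ℕ) :
    ∃ w ∈ words16, ∀ s < 48, reflWord chevF4 (flatW L) s = reflWord chevF4 (flatW w) s := by
  have hfix := nW_mem_fixTau hτ L
  have hh : (nW F L)⁻¹ * tauGL F τ (nW F L) ∈ chevF4.diagonalSubgroup F := by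
    rw [nW_fix hτ, inv_mul_cancel]; exact Subgroup.one_mem _
  obtain ⟨w, hw, hact⟩ := monomial_stable_cases hτ (nW F L) (nW_mem_monomial F L) hh
  exact ⟨w, hw, fun s hs => ActsAs.unique chevF4 f4_mem F (actsAs_nW F L) hact s hs⟩

/-- conjugating `X_J¹` by the inverse of `n_L`, when the class is sent to positive roots -/
theorem conj_inv_mem_borel (J : Fin 2) (L : List ℕ)
    (hpos : ∀ r ∈ clsJ J, chevF4.IsPosRoot (reflWord chevF4 (flatW L).reverse r))
    (x : GL chevF4.Idx F) (hx : x ∈ XJ F J ⊓ fixTau F τ) :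
    (nW F L)⁻¹ * x * nW F L ∈ chevF4.borelSubgroup F ⊓ fixTau F τ := by
  obtain ⟨hxX, hxfix⟩ := Subgroup.mem_inf.mp hx
  have hnfix := nW_mem_fixTau hτ L
  refine Subgroup.mem_inf.mpr ⟨?_, Subgroup.mul_mem _ (Subgroup.mul_mem _ (Subgroup.inv_mem _ hnfix) hxfix)
    hnfix⟩
  have h1 := conj_closure_gensL chevF4 f4_mem F _ _ (actsAs_nW_inv F L) (clsJ J) (clsJ_lt J) x hxX
  rw [inv_inv] at h1
  apply posUnipotent_le_borel chevF4 f4_mem F
  refine XL_le_pos _ ?_ h1
  intro r hr
  obtain ⟨s, hs, rfl⟩ := List.mem_map.mp hr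
  exact hpos s hs

/-- the closure data of `²F₄` -/
theorem closureData : TwBN.ClosureData (chevF4.borelSubgroup F ⊓ fixTau F τ) (sJ F)
    (fun J : Fin 2 => XJ F J ⊓ fixTau F τ) where
  sq := by
    intro J
    have hnfix := nJ_mem_fixTau hτ J
    exact Subgroup.mem_inf.mpr ⟨diagonal_le_borel chevF4 f4_mem F (nJ_sq_mem_diag J),
      Subgroup.mul_mem _ hnfix hnfix⟩
  decomp := fun J b hb => borel_decomp hτ J b hb
  rank1 := fun J x hx hx1 => rank_one hτ J x hx hx1
  dich := by
    intro J L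
    obtain ⟨w, hw, hperm⟩ := word_reduce hτ (L.map Fin.val)
    rcases tab_dich J w hw with h | h
    · left
      intro x hx
      rw [twNW_eq]
      apply conj_inv_mem_borel hτ J _ _ x hx
      intro r hr
      have hr' := clsJ_lt J r hr
      rw [reflWord_rev_congr _ _ (flatW_lt _) (flatW_lt _) hperm r hr']
      exact h r hr
    · right
      intro x hx
      rw [twNW_eq, List.map_cons]
      apply conj_inv_mem_borel hτ J _ _ x hx
      intro r hr
      have hr' := clsJ_lt J r hr
      rw [reflWord_rev_congr _ _ (flatW_lt _) (flatW_lt _)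
        (flatW_cons_congr J _ w hperm) r hr']
      exact h r hr

end

end Cfsg.Agent.Lib.Helper11.F4T
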