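import Cfsg.Agent.Lib.Helper11.F4Tw15
import Cfsg.Agent.Lib.Helper7.ChevMono

/-! `²F₄`: the `(B,N)`-pair (helper11). -/

set_option autoImplicit false
set_option maxRecDepth 100000

namespace Cfsg.Agent.Lib.Helper11.F4T

open Cfsg Cfsg.Lie Matrix Cfsg.Agent.Lib.Helper7 Cfsg.Agent.Lib.Helper11 Cfsg.Agent.Lib.Helper11.Isog

section
variable {F : Type*} [Field F] [Fintype F]
variable {τ : ↥(chevF4.group F) ≃* ↥(chevF4.group F)} {θ : ℕ} (hτ : TauData F τ θ)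
include hτ

/-- the cells: `G¹ = ⋃ B¹ n_w B¹` -/
theorem fix_cells (g : GL chevF4.Idx F) (hg : g ∈ fixTau F τ) :
    ∃ w ∈ words16, ∃ b ∈ chevF4.borelSubgroup F ⊓ fixTau F τ, ∃ b' ∈ chevF4.borelSubgroup F ⊓ fixTau F τ,
      g = b * nW F w * b' := by
  obtain ⟨w, hw, b, hb, u, hu, rfl⟩ := fix_cases hτ g hg
  obtain ⟨hu1, hu2⟩ := Subgroup.mem_inf.mp hu
  exact ⟨w, hw, b, hb, u, Subgroup.mem_inf.mpr
    ⟨posUnipotent_le_borel chevF4 f4_mem F (uMinus_le_posUnipotent chevF4 F _ hu1), hu2⟩, rfl⟩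

/-- `N¹ = ⋃ n_w H¹` -/
theorem monomial_inf_fix (n : GL chevF4.Idx F) (hn : n ∈ chevF4.monomialSubgroup F ⊓ fixTau F τ) :
    ∃ w ∈ words16, (nW F w)⁻¹ * n ∈ chevF4.diagonalSubgroup F ⊓ fixTau F τ := by
  obtain ⟨hnN, hnfix⟩ := Subgroup.mem_inf.mp hn
  have hh : n⁻¹ * tauGL F τ n ∈ chevF4.diagonalSubgroup F := by
    rw [hnfix.2, inv_mul_cancel]; exact Subgroup.one_mem _
  obtain ⟨w, hw, hact⟩ := monomial_stable_cases hτ n hnN hh
  refine ⟨w, hw, Subgroup.mem_inf.mpr ⟨?_, Subgroup.mul_mem _ (Subgroup.inv_mem _ (nW_mem_fixTau hτ w)) hnfix⟩⟩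
  exact mem_diagonal_of_actsAs_id chevF4 f4_mem F _
    (Subgroup.mul_mem _ (Subgroup.inv_mem _ (nW_mem_monomial F w)) hnN) _
    (ActsAs.mul chevF4 F (actsAs_nW_inv F w) hact)
    (fun s hs => reflWord_rev_cancel' _ (flatW_lt w) s hs)

theorem exists_ne_one_XJ (J : Fin 2) : ∃ x ∈ XJ F J ⊓ fixTau F τ, x ≠ 1 := by
  by_contra hcon
  push Not at hcon
  have hbot : XJ F J ⊓ fixTau F τ = ⊥ := by
    rw [eq_bot_iff]
    intro x hx
    rw [Subgroup.mem_bot]
    exact hcon x hx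
  have hc : Nat.card ↥(XJ F J ⊓ fixTau F τ) = 1 := by rw [hbot]; exact Subgroup.card_bot
  have hF : 1 < Nat.card F := by
    rw [Nat.card_eq_fintype_card]; exact Fintype.one_lt_card
  fin_cases J
  · have := card_XJ_zero_inf_fixTau hτ
    have hc' : Nat.card ↥(XJ F 0 ⊓ fixTau F τ) = 1 := hc
    omega
  · have := card_XJ_one_inf_fixTau hτ
    have hc' : Nat.card ↥(XJ F 1 ⊓ fixTau F τ) = 1 := hc
    have h2 : 1 < Nat.card F ^ 2 := Nat.one_lt_pow (by norm_num) hF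
    omega

/-- the set of distinguished generators of the `(B,N)`-pair of `²F₄` -/
def f4S (F : Type*) [Field F] (θ : ℕ) : Set ↥(twistedF4 F θ) :=
  {s | ∃ J : Fin 2, (s : GL chevF4.Idx F) = sJ F J}

omit [Fintype F] in
theorem nW_sub_mem_closure (L : List ℕ) (h : nW F L ∈ twistedF4 F θ) :
    (⟨nW F L, h⟩ : ↥(twistedF4 F θ)) ∈ Subgroup.closure (f4S F θ) := by
  induction L with
  | nil =>
    have : (⟨nW F [], h⟩ : ↥(twistedF4 F θ)) = 1 := Subtype.ext (nW_nil F)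
    rw [this]; exact Subgroup.one_mem _
  | cons J L ih =>
    have h1 : nJ F J ∈ twistedF4 F θ := nJ_mem_twistedF4 F hτ.two θ hτ.pos J
    have h2 : nW F L ∈ twistedF4 F θ := nW_mem_twistedF4 F hτ.two θ hτ.pos L
    have e : (⟨nW F (J :: L), h⟩ : ↥(twistedF4 F θ)) = ⟨nJ F J, h1⟩ * ⟨nW F L, h2⟩ :=
      Subtype.ext (nW_cons F J L)
    rw [e]
    refine Subgroup.mul_mem _ (Subgroup.subset_closure ?_) (ih h2)
    by_cases hJ : J = 0
    · exact ⟨0, by subst hJ; rfl⟩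
    · refine ⟨1, ?_⟩
      show nJ F J = nJ F 1
      unfold nJ wJ
      rw [if_neg hJ, if_neg (show (1 : ℕ) ≠ 0 by decide)]

omit [Fintype F] hτ in
theorem exists_twNW (w : List ℕ) : ∃ L : List (Fin 2), TwBN.nW (sJ F) L = nW F w := by
  refine ⟨w.map fun J => if J = 0 then (0 : Fin 2) else 1, ?_⟩
  rw [twNW_eq]
  induction w with
  | nil => rfl
  | cons J w ih =>
    rw [List.map_cons, List.map_cons, nW_cons, nW_cons, ih]
    congr 1
    by_cases hJ : J = 0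
    · subst hJ; rfl
    · rw [if_neg hJ]
      show nJ F 1 = nJ F J
      unfold nJ wJ
      rw [if_neg hJ, if_neg (show (1 : ℕ) ≠ 0 by decide)]

/-- the `(B,N)`-pair of `²F₄`, with `B¹ = B ∩ G¹` and `N¹ = N ∩ G¹` -/
noncomputable def f4BNPair : Cfsg.BNPair ↥(twistedF4 F θ) where
  B := (chevF4.borelSubgroup F ⊓ twistedF4 F θ).subgroupOf (twistedF4 F θ)
  N := (chevF4.monomialSubgroup F ⊓ twistedF4 F θ).subgroupOf (twistedF4 F θ)
  S := f4S F θ
  sup_eq_top := by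
    rw [eq_top_iff]
    intro g _
    have hg : g.1 ∈ fixTau F τ := by rw [fixTau_eq hτ]; exact g.2
    obtain ⟨w, -, b, hb, b', hb', he⟩ := fix_cells hτ g.1 hg
    rw [fixTau_eq hτ] at hb hb'
    have hnG := nW_mem_twistedF4 F hτ.two θ hτ.pos w
    have e : g = ⟨b, (Subgroup.mem_inf.mp hb).2⟩ * ⟨nW F w, hnG⟩ * ⟨b', (Subgroup.mem_inf.mp hb').2⟩ :=
      Subtype.ext he
    rw [e]
    apply Subgroup.mul_mem
    · apply Subgroup.mul_mem
      · exact Subgroup.mem_sup_left (Subgroup.mem_subgroupOf.mpr hb)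
      · exact Subgroup.mem_sup_right (Subgroup.mem_subgroupOf.mpr
          (Subgroup.mem_inf.mpr ⟨nW_mem_monomial F w, hnG⟩))
    · exact Subgroup.mem_sup_left (Subgroup.mem_subgroupOf.mpr hb')
  conj_mem := by
    intro n hn t ht
    rw [Subgroup.mem_subgroupOf] at hn ⊢
    rw [Subgroup.mem_inf, Subgroup.mem_subgroupOf, Subgroup.mem_subgroupOf] at ht
    have htH : (t : GL chevF4.Idx F) ∈ chevF4.diagonalSubgroup F := by
      rw [← borel_inf_monomial chevF4 f4_mem F]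
      exact Subgroup.mem_inf.mpr ⟨(Subgroup.mem_inf.mp ht.1).1, (Subgroup.mem_inf.mp ht.2).1⟩
    exact Subgroup.mem_inf.mpr ⟨diagonal_le_borel chevF4 f4_mem F
      (conj_diagonal_mem _ _ (Subgroup.mem_inf.mp hn).1 htH), (n * t * n⁻¹).2⟩
  subset := by
    rintro s ⟨J, hs⟩
    show s ∈ (chevF4.monomialSubgroup F ⊓ twistedF4 F θ).subgroupOf (twistedF4 F θ)
    rw [Subgroup.mem_subgroupOf, Subgroup.mem_inf]
    refine ⟨?_, s.2⟩
    rw [hs]
    exact nJ_mem_monomial F J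
  sq_mem := by
    rintro s ⟨J, hs⟩
    rw [Subgroup.mem_subgroupOf]
    show (s : GL chevF4.Idx F) * (s : GL chevF4.Idx F) ∈ chevF4.borelSubgroup F ⊓ twistedF4 F θ
    rw [hs, ← fixTau_eq hτ]
    exact (closureData hτ).sq J
  inj := by
    rintro s ⟨J, hs⟩ s' ⟨J', hs'⟩ h
    rw [Subgroup.mem_subgroupOf] at h
    have h' : (s : GL chevF4.Idx F)⁻¹ * (s' : GL chevF4.Idx F) ∈ chevF4.borelSubgroup F ⊓ twistedF4 F θ := h
    rw [hs, hs'] at h'
    have hN : (sJ F J)⁻¹ * sJ F J' ∈ chevF4.monomialSubgroup F :=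
      Subgroup.mul_mem _ (Subgroup.inv_mem _ (nJ_mem_monomial F J)) (nJ_mem_monomial F J')
    have hH : (sJ F J)⁻¹ * sJ F J' ∈ chevF4.diagonalSubgroup F := by
      rw [← borel_inf_monomial chevF4 f4_mem F]
      exact Subgroup.mem_inf.mpr ⟨(Subgroup.mem_inf.mp h').1, hN⟩
    have h1 := actsAs_diag chevF4 f4_mem F _ hH
    have h2 := ActsAs.mul chevF4 F (actsAs_nJ_inv (F := F) J) (actsAs_nJ (F := F) J')
    have h3 := ActsAs.unique chevF4 f4_mem F h2 h1 33 (by decide)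
    have h4 : reflWord chevF4 (wJ J).reverse (reflWord chevF4 (wJ J') 33) = 33 := h3
    have h5 : reflWord chevF4 (wJ J') 33 = reflWord chevF4 (wJ J) 33 := by
      have := reflWord_rev_cancel (wJ J) (wJ_lt J) _
        (reflWord_lt' chevF4 f4_mem _ (wJ_lt J') 33 (by decide))
      rw [h4] at this
      exact this.symm
    have hJJ : J = J' := by
      fin_cases J <;> fin_cases J'
      · rfl
      · exact absurd h5.symm tab_inj
      · exact absurd h5 tab_inj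
      · rfl
    apply Subtype.ext
    rw [hs, hs', hJJ]
  closure_sup := by
    apply le_antisymm
    · apply sup_le
      · rw [Subgroup.closure_le]
        rintro s ⟨J, hs⟩
        show s ∈ (chevF4.monomialSubgroup F ⊓ twistedF4 F θ).subgroupOf (twistedF4 F θ)
        rw [Subgroup.mem_subgroupOf, Subgroup.mem_inf]
        refine ⟨?_, s.2⟩
        rw [hs]
        exact nJ_mem_monomial F J
      · exact inf_le_right
    · intro n hn
      rw [Subgroup.mem_subgroupOf] at hn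
      have hn' : n.1 ∈ chevF4.monomialSubgroup F ⊓ fixTau F τ := by rw [fixTau_eq hτ]; exact hn
      obtain ⟨w, -, hL⟩ := monomial_inf_fix hτ n.1 hn'
      rw [fixTau_eq hτ] at hL
      have hnG := nW_mem_twistedF4 F hτ.two θ hτ.pos w
      have e : n = ⟨nW F w, hnG⟩ * ⟨(nW F w)⁻¹ * n.1, (Subgroup.mem_inf.mp hL).2⟩ := by
        apply Subtype.ext
        show n.1 = nW F w * ((nW F w)⁻¹ * n.1)
        group
      rw [e]
      apply Subgroup.mul_mem
      · exact Subgroup.mem_sup_left (nW_sub_mem_closure hτ w hnG)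
      · apply Subgroup.mem_sup_right
        rw [Subgroup.mem_inf, Subgroup.mem_subgroupOf, Subgroup.mem_subgroupOf]
        have hH := (Subgroup.mem_inf.mp hL).1
        have hG1 := (Subgroup.mem_inf.mp hL).2
        have hle : chevF4.diagonalSubgroup F ≤ chevF4.monomialSubgroup F := by
          unfold ChevalleyDatum.monomialSubgroup; exact le_sup_left
        exact ⟨Subgroup.mem_inf.mpr ⟨diagonal_le_borel chevF4 f4_mem F hH, hG1⟩,
          Subgroup.mem_inf.mpr ⟨hle hH, hG1⟩⟩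
  mul_mem_union := by
    rintro s ⟨J, hs⟩ n hn b hb
    rw [Subgroup.mem_subgroupOf] at hn hb
    have hn' : n.1 ∈ chevF4.monomialSubgroup F ⊓ fixTau F τ := by rw [fixTau_eq hτ]; exact hn
    obtain ⟨w, -, hL⟩ := monomial_inf_fix hτ n.1 hn'
    obtain ⟨h, hh⟩ : ∃ h, h = (nW F w)⁻¹ * n.1 := ⟨_, rfl⟩
    rw [← hh] at hL
    obtain ⟨L, hLw⟩ := exists_twNW (F := F) w
    have hn_eq : n.1 = TwBN.nW (sJ F) L * h := by rw [hLw, hh]; group
    have hhB : h ∈ chevF4.borelSubgroup F ⊓ fixTau F τ :=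
      Subgroup.mem_inf.mpr ⟨diagonal_le_borel chevF4 f4_mem F (Subgroup.mem_inf.mp hL).1,
        (Subgroup.mem_inf.mp hL).2⟩
    have hcd := closureData hτ
    have hb' : b.1 ∈ chevF4.borelSubgroup F ⊓ fixTau F τ := by rw [fixTau_eq hτ]; exact hb
    have hBeq : chevF4.borelSubgroup F ⊓ fixTau F τ = chevF4.borelSubgroup F ⊓ twistedF4 F θ := by
      rw [fixTau_eq hτ]
    rcases TwBN.s_mul_cell hcd J L b.1 hb' with ⟨b₁, hb₁, b₂, hb₂, he⟩ | ⟨b₁, hb₁, b₂, hb₂, he⟩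
    · left
      rw [DoubleCoset.mem_doubleCoset]
      have hb₂' : h⁻¹ * b₂ * h ∈ chevF4.borelSubgroup F ⊓ fixTau F τ :=
        Subgroup.mul_mem _ (Subgroup.mul_mem _ (Subgroup.inv_mem _ hhB) hb₂) hhB
      rw [hBeq] at hb₁ hb₂'
      refine ⟨⟨b₁, (Subgroup.mem_inf.mp hb₁).2⟩, Subgroup.mem_subgroupOf.mpr hb₁,
        ⟨h⁻¹ * b₂ * h, (Subgroup.mem_inf.mp hb₂').2⟩, Subgroup.mem_subgroupOf.mpr hb₂', ?_⟩
      apply Subtype.ext
      show (s : GL chevF4.Idx F) * b.1 * n.1 = b₁ * ((s : GL chevF4.Idx F) * n.1) * (h⁻¹ * b₂ * h)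
      rw [hn_eq, hs]
      rw [TwBN.nW_cons] at he
      calc sJ F J * b.1 * (TwBN.nW (sJ F) L * h)
          = (sJ F J * b.1 * TwBN.nW (sJ F) L) * h := by group
        _ = (b₁ * (sJ F J * TwBN.nW (sJ F) L) * b₂) * h := by rw [he]
        _ = _ := by group
    · right
      rw [DoubleCoset.mem_doubleCoset]
      have hb₂' : h⁻¹ * b₂ * h ∈ chevF4.borelSubgroup F ⊓ fixTau F τ :=
        Subgroup.mul_mem _ (Subgroup.mul_mem _ (Subgroup.inv_mem _ hhB) hb₂) hhB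
      rw [hBeq] at hb₁ hb₂'
      refine ⟨⟨b₁, (Subgroup.mem_inf.mp hb₁).2⟩, Subgroup.mem_subgroupOf.mpr hb₁,
        ⟨h⁻¹ * b₂ * h, (Subgroup.mem_inf.mp hb₂').2⟩, Subgroup.mem_subgroupOf.mpr hb₂', ?_⟩
      apply Subtype.ext
      show (s : GL chevF4.Idx F) * b.1 * n.1 = b₁ * n.1 * (h⁻¹ * b₂ * h)
      rw [hn_eq, hs]
      calc sJ F J * b.1 * (TwBN.nW (sJ F) L * h)
          = (sJ F J * b.1 * TwBN.nW (sJ F) L) * h := by group
        _ = (b₁ * TwBN.nW (sJ F) L * b₂) * h := by rw [he]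
        _ = _ := by group
  conj_ne := by
    rintro s ⟨J, hs⟩ heq
    obtain ⟨x, hx, hx1⟩ := exists_ne_one_XJ hτ J
    obtain ⟨hxX, hxfix⟩ := Subgroup.mem_inf.mp hx
    have hxG : x ∈ twistedF4 F θ := by rw [← fixTau_eq hτ]; exact hxfix
    have hxU : x ∈ chevF4.posUnipotent F := XJ_le_pos J hxX
    have hxB : (⟨x, hxG⟩ : ↥(twistedF4 F θ)) ∈
        (((chevF4.borelSubgroup F ⊓ twistedF4 F θ).subgroupOf (twistedF4 F θ) :
          Subgroup ↥(twistedF4 F θ)) : Set ↥(twistedF4 F θ)) := by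
      show (⟨x, hxG⟩ : ↥(twistedF4 F θ)) ∈ (chevF4.borelSubgroup F ⊓ twistedF4 F θ).subgroupOf (twistedF4 F θ)
      rw [Subgroup.mem_subgroupOf]
      exact Subgroup.mem_inf.mpr ⟨posUnipotent_le_borel chevF4 f4_mem F hxU, hxG⟩
    have h1 : s * ⟨x, hxG⟩ * s ∈ (fun b : ↥(twistedF4 F θ) => s * b * s) ''
        (((chevF4.borelSubgroup F ⊓ twistedF4 F θ).subgroupOf (twistedF4 F θ) :
          Subgroup ↥(twistedF4 F θ)) : Set ↥(twistedF4 F θ)) := ⟨_, hxB, rfl⟩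
    rw [heq] at h1
    have h2 : s * ⟨x, hxG⟩ * s ∈ (chevF4.borelSubgroup F ⊓ twistedF4 F θ).subgroupOf (twistedF4 F θ) := h1
    rw [Subgroup.mem_subgroupOf] at h2
    have h3 : (s : GL chevF4.Idx F) * x * (s : GL chevF4.Idx F) ∈ chevF4.borelSubgroup F :=
      (Subgroup.mem_inf.mp h2).1
    rw [hs] at h3
    have hsq := (closureData hτ).sq J
    have h4 : sJ F J * x * (sJ F J)⁻¹ ∈ chevF4.borelSubgroup F := by
      have e : sJ F J * x * (sJ F J)⁻¹ = (sJ F J * x * sJ F J) * (sJ F J * sJ F J)⁻¹ := by group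
      rw [e]
      exact Subgroup.mul_mem _ h3 (Subgroup.inv_mem _ (Subgroup.mem_inf.mp hsq).1)
    have h5 : sJ F J * x * (sJ F J)⁻¹ ∈ chevF4.negUnipotent F := by
      have h1 := conj_closure_gensL chevF4 f4_mem F _ _ (actsAs_nJ (F := F) J) (clsJr J)
        (fun r hr => ((tab_w J).2 r hr).1) x (by rw [← XL_clsJr] at hxX; exact hxX)
      refine XL_le_neg _ ?_ h1
      intro r hr
      obtain ⟨s, hs, rfl⟩ := List.mem_map.mp hr
      exact ((tab_w J).2 s hs).2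
    have h6 : sJ F J * x * (sJ F J)⁻¹ ∈ chevF4.borelSubgroup F ⊓ chevF4.negUnipotent F :=
      Subgroup.mem_inf.mpr ⟨h4, h5⟩
    rw [borel_inf_negUnipotent chevF4 f4_mem F, Subgroup.mem_bot] at h6
    apply hx1
    have e : x = (sJ F J)⁻¹ * (sJ F J * x * (sJ F J)⁻¹) * sJ F J := by group
    rw [e, h6]; group

end

end Cfsg.Agent.Lib.Helper11.F4T
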