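import Cfsg.Agent.Lib.Helper11.F4Tw16

/-! `²F₄`: the normal core of `B¹` is trivial (helper11). -/

set_option autoImplicit false
set_option maxRecDepth 100000

namespace Cfsg.Agent.Lib.Helper11.F4T

open Cfsg Cfsg.Lie Matrix Cfsg.Agent.Lib.Helper7 Cfsg.Agent.Lib.Helper11 Cfsg.Agent.Lib.Helper11.Isog

theorem tab_long : ∀ r ∈ chevF4.posRoots,
    r < 48 ∧ chevF4.IsNegRoot (reflWord chevF4 (flatW W8).reverse r) := by decide +kernel

section
variable {F : Type*} [Field F]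

/-- `B ∩ n₀ B n₀⁻¹ ≤ H` -/
theorem mem_diag_of_conj_long (k : GL chevF4.Idx F) (hk : k ∈ chevF4.borelSubgroup F)
    (hk' : (nW F W8)⁻¹ * k * nW F W8 ∈ chevF4.borelSubgroup F) : k ∈ chevF4.diagonalSubgroup F := by
  have hk0 : k ∈ ((chevF4.borelSubgroup F : Subgroup (GL chevF4.Idx F)) : Set (GL chevF4.Idx F)) := hk
  rw [borel_eq_mul chevF4 f4_mem F] at hk0
  obtain ⟨h, hh, u, hu, rfl⟩ := Set.mem_mul.mp hk0
  have hu' : u ∈ Subgroup.closure (gensL chevF4 F chevF4.posRoots) := by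
    rw [← posUnipotent_eq_closure_gensL]; exact hu
  have h1 := conj_closure_gensL chevF4 f4_mem F _ _ (actsAs_nW_inv F W8) chevF4.posRoots
    (fun r hr => (tab_long r hr).1) u hu'
  rw [inv_inv] at h1
  have hV : (nW F W8)⁻¹ * u * nW F W8 ∈ chevF4.negUnipotent F := by
    refine XL_le_neg _ ?_ h1
    intro r hr
    obtain ⟨s, hs, rfl⟩ := List.mem_map.mp hr
    exact (tab_long s hs).2
  have hH : (nW F W8)⁻¹ * h * nW F W8 ∈ chevF4.diagonalSubgroup F := by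
    have := conj_diagonal_mem (nW F W8)⁻¹ h (Subgroup.inv_mem _ (nW_mem_monomial F W8)) hh
    rwa [inv_inv] at this
  have hB : (nW F W8)⁻¹ * u * nW F W8 ∈ chevF4.borelSubgroup F := by
    have e : (nW F W8)⁻¹ * u * nW F W8 =
        ((nW F W8)⁻¹ * h * nW F W8)⁻¹ * ((nW F W8)⁻¹ * (h * u) * nW F W8) := by group
    rw [e]
    exact Subgroup.mul_mem _ (Subgroup.inv_mem _ (diagonal_le_borel chevF4 f4_mem F hH)) hk'
  have h2 : (nW F W8)⁻¹ * u * nW F W8 ∈ chevF4.borelSubgroup F ⊓ chevF4.negUnipotent F :=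
    Subgroup.mem_inf.mpr ⟨hB, hV⟩
  rw [borel_inf_negUnipotent chevF4 f4_mem F, Subgroup.mem_bot] at h2
  have hu1 : u = 1 := by
    have e : u = nW F W8 * ((nW F W8)⁻¹ * u * nW F W8) * (nW F W8)⁻¹ := by group
    rw [e, h2]; group
  rw [hu1, mul_one]; exact hh

/-- conjugation of a root element by a diagonal element -/
theorem diag_conj_X (k : GL chevF4.Idx F) (χ : ℕ → F) (hχ : ChainChar chevF4 F χ)
    (hk : (k : Matrix chevF4.Idx chevF4.Idx F) = diagChar chevF4 F χ) (s : ℕ) (t : F) :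
    k * X F s t * k⁻¹ = X F s (χ s * t) := by
  rw [diagGL_xGL_comm chevF4 f4_mem F k χ hχ hk s t]; group

variable [Fintype F]
variable {τ : ↥(chevF4.group F) ≃* ↥(chevF4.group F)} {θ : ℕ} (hτ : TauData F τ θ)
include hτ

/-- the normal core of `B¹` in `²F₄` is trivial -/
theorem core_eq_bot :
    ((chevF4.borelSubgroup F ⊓ twistedF4 F θ).subgroupOf (twistedF4 F θ)).normalCore = ⊥ := by
  set K := ((chevF4.borelSubgroup F ⊓ twistedF4 F θ).subgroupOf (twistedF4 F θ)).normalCore with hK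
  have hB : ∀ k ∈ K, ∀ g : GL chevF4.Idx F, g ∈ twistedF4 F θ →
      g * (k : GL chevF4.Idx F) * g⁻¹ ∈ chevF4.borelSubgroup F := by
    intro k hk g hg
    have := hk ⟨g, hg⟩
    rw [Subgroup.mem_subgroupOf] at this
    exact (Subgroup.mem_inf.mp this).1
  have hKH : ∀ k ∈ K, ((k : ↥(twistedF4 F θ)) : GL chevF4.Idx F) ∈ chevF4.diagonalSubgroup F := by
    intro k hk
    have h1 := hB k hk 1 (one_mem _)
    rw [one_mul, inv_one, mul_one] at h1
    have hn := nW_mem_twistedF4 F hτ.two θ hτ.pos W8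
    have h2 := hB k hk (nW F W8)⁻¹ (inv_mem hn)
    rw [inv_inv] at h2
    exact mem_diag_of_conj_long _ h1 h2
  rw [Subgroup.eq_bot_iff_forall]
  intro k hk
  have hkH := hKH k hk
  obtain ⟨χ, hχ, hkm⟩ := mem_diagonalSubgroup_char chevF4 f4_mem F _ hkH
  -- `k` commutes with the elements of `U¹`
  have hcomm : ∀ x : GL chevF4.Idx F, x ∈ twistedF4 F θ → x ∈ chevF4.posUnipotent F →
      (k : GL chevF4.Idx F) * x * (k : GL chevF4.Idx F)⁻¹ ∈ chevF4.posUnipotent F →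
      (k : GL chevF4.Idx F) * x * (k : GL chevF4.Idx F)⁻¹ = x := by
    intro x hxG hxU hkx
    have h1 : (⟨x, hxG⟩ : ↥(twistedF4 F θ)) * k * (⟨x, hxG⟩ : ↥(twistedF4 F θ))⁻¹ ∈ K :=
      (inferInstance : K.Normal).conj_mem k hk ⟨x, hxG⟩
    have h2 := hKH _ h1
    have h3 : x * (k : GL chevF4.Idx F) * x⁻¹ ∈ chevF4.diagonalSubgroup F := h2
    have h4 : x * ((k : GL chevF4.Idx F) * x * (k : GL chevF4.Idx F)⁻¹)⁻¹ ∈
        chevF4.posUnipotent F ⊓ chevF4.diagonalSubgroup F := by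
      refine Subgroup.mem_inf.mpr ⟨Subgroup.mul_mem _ hxU (Subgroup.inv_mem _ hkx), ?_⟩
      have e : x * ((k : GL chevF4.Idx F) * x * (k : GL chevF4.Idx F)⁻¹)⁻¹ =
          (x * (k : GL chevF4.Idx F) * x⁻¹) * (k : GL chevF4.Idx F)⁻¹ := by group
      rw [e]
      exact Subgroup.mul_mem _ h3 (Subgroup.inv_mem _ hkH)
    rw [posUnipotent_inf_diagonalSubgroup chevF4 f4_mem F, Subgroup.mem_bot] at h4
    exact (mul_inv_eq_one.mp h4).symm
  have hXU : ∀ (r : ℕ) (t : F), chevF4.IsPosRoot r → X F r t ∈ chevF4.posUnipotent F :=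
    fun r t hr => Subgroup.subset_closure ⟨r, t, hr, coe_xGL chevF4 f4_mem F _ _⟩
  have hkfix : (k : GL chevF4.Idx F) ∈ chevF4.diagonalSubgroup F ⊓ fixTau F τ := by
    rw [fixTau_eq hτ]; exact Subgroup.mem_inf.mpr ⟨hkH, k.2⟩
  have h33 : ce 33 (k : GL chevF4.Idx F) = 1 := by
    rw [ce_diag _ _ hkm 33 (by decide)]
    have e : (k : GL chevF4.Idx F) * pairU θ (1 : F) * (k : GL chevF4.Idx F)⁻¹ =
        X F 33 (χ 33 * 1 ^ θ) * X F 24 (χ 24 * 1) := by
      rw [pairU_eq, ← diag_conj_X _ χ hχ hkm, ← diag_conj_X _ χ hχ hkm]; group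
    have h1 := hcomm (pairU θ 1) (pairU_mem_twistedF4 θ 1)
      (by rw [pairU_eq]; exact Subgroup.mul_mem _ (hXU 33 _ (by decide)) (hXU 24 _ (by decide)))
      (by rw [e]; exact Subgroup.mul_mem _ (hXU 33 _ (by decide)) (hXU 24 _ (by decide)))
    rw [e, pairU_eq] at h1
    have := (pair_inj F _ _ _ _ h1).1
    rwa [one_pow, mul_one] at this
  have h27 : ce 27 (k : GL chevF4.Idx F) = 1 := by
    rw [ce_diag _ _ hkm 27 (by decide)]
    have e : (k : GL chevF4.Idx F) * suzU θ (1 : F) 0 * (k : GL chevF4.Idx F)⁻¹ =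
        P4 (X F 27) (X F 25) (X F 28) (X F 30) (χ 27 * 1 ^ θ) (χ 25 * 1) (χ 28 * (1 ^ (θ + 1) + 0))
          (χ 30 * 0 ^ (2 * θ)) := by
      rw [suzU_eq]
      unfold P4
      rw [← diag_conj_X _ χ hχ hkm, ← diag_conj_X _ χ hχ hkm, ← diag_conj_X _ χ hχ hkm,
        ← diag_conj_X _ χ hχ hkm]
      group
    have hP : ∀ a b c d : F, P4 (X F 27) (X F 25) (X F 28) (X F 30) a b c d ∈ chevF4.posUnipotent F := by
      intro a b c d
      unfold P4
      exact Subgroup.mul_mem _ (Subgroup.mul_mem _ (hXU 27 _ (by decide)) (hXU 25 _ (by decide)))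
        (Subgroup.mul_mem _ (hXU 28 _ (by decide)) (hXU 30 _ (by decide)))
    have h1 := hcomm (suzU θ 1 0) (suzU_mem_twistedF4 θ 1 0) (by rw [suzU_eq]; exact hP _ _ _ _)
      (by rw [e]; exact hP _ _ _ _)
    rw [e, suzU_eq] at h1
    have := (P4_pos_inj F hτ.two _ _ _ _ _ _ _ _ h1).1
    rwa [one_pow, mul_one] at this
  apply Subtype.ext
  exact fixH_eq_one hτ _ hkfix h33 h27

end

end Cfsg.Agent.Lib.Helper11.F4T
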