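import Cfsg.Agent.Lib.Helper11.F4Tw17

/-! `²F₄(q)` is perfect for `q > 2` (helper11). -/

set_option autoImplicit false
set_option maxRecDepth 100000

namespace Cfsg.Agent.Lib.Helper11.F4T

open Cfsg Cfsg.Lie Matrix Cfsg.Agent.Lib.Helper7 Cfsg.Agent.Lib.Helper11 Cfsg.Agent.Lib.Helper11.Isog
open scoped commutatorElement

theorem carR_F4_28 : carR chevF4 33 28 = -1 ∧ carR chevF4 24 28 = -1 := by decide +kernel

theorem tab_long' : ∀ r ∈ [14, 23, 20, 22, 19, 17],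
    r < 48 ∧ chevF4.IsPosRoot (reflWord chevF4 (flatW W8).reverse r) := by decide +kernel

section
variable {F : Type*} [Field F]
variable {τ : ↥(chevF4.group F) ≃* ↥(chevF4.group F)} {θ : ℕ} (hτ : TauData F τ θ)
include hτ

/-- the fixed points of the groups of the chain lie in any subgroup containing the fixed points of the class
subgroups and normalised by the representatives -/
theorem chain_le_gen (T : Subgroup (GL chevF4.Idx F)) (hXJ : ∀ J, XJ F J ⊓ fixTau F τ ≤ T)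
    (hconj : ∀ (pre : List ℕ) (a : GL chevF4.Idx F), a ∈ T → nW F pre * a * (nW F pre)⁻¹ ∈ T) :
    ∀ (L pre : List ℕ), chainB pre L = true → closedLB chevF4 (rootsL pre L) = true →
    XL F (rootsL pre L) ⊓ fixTau F τ ≤ T
  | [], _, _, _ => by
    intro g hg
    have : gensL chevF4 F [] = ∅ := by ext g; simp [gensL]
    have hg1 := (Subgroup.mem_inf.mp hg).1
    have h0 : g ∈ Subgroup.closure (gensL chevF4 F []) := hg1
    rw [this, Subgroup.closure_empty, Subgroup.mem_bot] at h0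
    rw [h0]; exact Subgroup.one_mem _
  | J :: L, pre, h, hcl => by
    obtain ⟨h1, h2, h3, h4⟩ := chainB_cons pre J L h
    have hcl' : closedLB chevF4 (rootsL (pre ++ [J]) L) = true := closedLB_append chevF4 _ _ hcl
    have ih := chain_le_gen T hXJ hconj L (pre ++ [J]) h4 hcl'
    intro g hg
    have hdisj : XL F (blk pre J) ⊓ XL F (rootsL (pre ++ [J]) L) = ⊥ := by
      rw [inf_comm]; exact chain_disj hτ pre J L h
    obtain ⟨a, ha, b, hb, rfl⟩ := split_fix hτ (blk pre J) (rootsL (pre ++ [J]) L) hcl h1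
      (rootsL_stable L _ h4) hdisj g hg
    apply Subgroup.mul_mem _ _ (ih hb)
    have hx := conj_mem_fix' hτ (clsJ J) (clsJ_lt J) pre a ha
    have hx' := hXJ J hx
    have e : a = nW F pre * ((nW F pre)⁻¹ * a * nW F pre) * (nW F pre)⁻¹ := by group
    rw [e]
    exact hconj pre _ hx'

theorem posUnipotent_inf_fixTau_le_gen (T : Subgroup (GL chevF4.Idx F)) (hXJ : ∀ J, XJ F J ⊓ fixTau F τ ≤ T)
    (hconj : ∀ (pre : List ℕ) (a : GL chevF4.Idx F), a ∈ T → nW F pre * a * (nW F pre)⁻¹ ∈ T) :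
    chevF4.posUnipotent F ⊓ fixTau F τ ≤ T := by
  rw [posUnipotent_eq_XL]
  exact chain_le_gen hτ T hXJ hconj W8 [] chainB_W8 closedLB_W8

variable [Finite F]

/-- the commutators with a diagonal element with trivial centraliser in `X_J¹` fill `X_J¹` -/
theorem XJ_le_of_cent (T : Subgroup (GL chevF4.Idx F)) (h : GL chevF4.Idx F)
    (hh : h ∈ chevF4.diagonalSubgroup F ⊓ fixTau F τ) (J : ℕ)
    (hcent : ∀ z ∈ XJ F J ⊓ fixTau F τ, h * z * h⁻¹ = z → z = 1)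
    (hT : ∀ y ∈ XJ F J ⊓ fixTau F τ, h * y * h⁻¹ * y⁻¹ ∈ T) : XJ F J ⊓ fixTau F τ ≤ T := by
  obtain ⟨hH, hfix⟩ := Subgroup.mem_inf.mp hh
  have hmem : ∀ y ∈ XJ F J ⊓ fixTau F τ, h * y * h⁻¹ * y⁻¹ ∈ XJ F J ⊓ fixTau F τ := by
    intro y hy
    obtain ⟨hy1, hy2⟩ := Subgroup.mem_inf.mp hy
    refine Subgroup.mul_mem _ (Subgroup.mem_inf.mpr ⟨?_, ?_⟩) (Subgroup.inv_mem _ hy)
    · exact conj_diag_XL_mem h hH (clsJ J) (clsJ_lt J) y hy1
    · exact Subgroup.mul_mem _ (Subgroup.mul_mem _ hfix hy2) (Subgroup.inv_mem _ hfix)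
  let f : ↥(XJ F J ⊓ fixTau F τ) → ↥(XJ F J ⊓ fixTau F τ) :=
    fun y => ⟨h * y.1 * h⁻¹ * y.1⁻¹, hmem y.1 y.2⟩
  have hinj : Function.Injective f := by
    rintro ⟨y, hy⟩ ⟨y', hy'⟩ hyy
    have e : h * y * h⁻¹ * y⁻¹ = h * y' * h⁻¹ * y'⁻¹ := congrArg Subtype.val hyy
    have e1 : y * h⁻¹ * y⁻¹ = y' * h⁻¹ * y'⁻¹ := by
      have := congrArg (fun x => h⁻¹ * x) e
      simpa [mul_assoc] using this
    have e2 : (y'⁻¹ * y) * h⁻¹ = h⁻¹ * (y'⁻¹ * y) := by
      calc (y'⁻¹ * y) * h⁻¹ = y'⁻¹ * (y * h⁻¹ * y⁻¹) * y := by group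
        _ = y'⁻¹ * (y' * h⁻¹ * y'⁻¹) * y := by rw [e1]
        _ = h⁻¹ * (y'⁻¹ * y) := by group
    have hz : h * (y'⁻¹ * y) * h⁻¹ = y'⁻¹ * y := by
      calc h * (y'⁻¹ * y) * h⁻¹ = h * ((y'⁻¹ * y) * h⁻¹) := by group
        _ = h * (h⁻¹ * (y'⁻¹ * y)) := by rw [e2]
        _ = y'⁻¹ * y := by group
    have hz1 := hcent _ (Subgroup.mul_mem _ (Subgroup.inv_mem _ hy') hy) hz
    apply Subtype.ext
    show y = y'
    have : y = y' * (y'⁻¹ * y) := by group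
    rw [this, hz1, mul_one]
  have hsurj := Finite.surjective_of_injective hinj
  intro q hq
  obtain ⟨y, hy⟩ := hsurj ⟨q, hq⟩
  have : q = h * y.1 * h⁻¹ * y.1⁻¹ := (congrArg Subtype.val hy).symm
  rw [this]
  exact hT y.1 y.2

omit [Finite F] in
theorem sq_eq_one (x : F) (h : x ^ 2 = 1) : x = 1 := by
  have h2 := hτ.two
  have : (x - 1) ^ 2 = 0 := by linear_combination h - x * h2 + h2
  exact sub_eq_zero.mp (pow_eq_zero_iff (by norm_num) |>.mp this)

omit [Finite F] in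
theorem pow_theta_ne_one (s : F) (hs1 : s ≠ 1) : s ^ θ ≠ 1 := by
  intro h
  apply hs1
  apply pow_theta_inj hτ
  rw [h, one_pow]

omit [Finite F] in
theorem pow_theta_succ_ne_one (s : F) (hs0 : s ≠ 0) (hs1 : s ≠ 1) : s ^ θ * s ≠ 1 := by
  intro h
  have e1 : s ^ θ = s⁻¹ := eq_inv_of_mul_eq_one_left h
  have e2 := pw_two hτ s
  rw [e1, pow_mul, inv_pow, e1, inv_inv] at e2
  have : s * (s - 1) = 0 := by linear_combination e2
  rcases mul_eq_zero.mp this with h0 | h0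
  · exact hs0 h0
  · exact hs1 (sub_eq_zero.mp h0)

omit [Finite F] in
theorem hJ1_cent_zero (s : F) (hs0 : s ≠ 0) (hs1 : s ≠ 1) (z : GL chevF4.Idx F)
    (hz : z ∈ XJ F 0 ⊓ fixTau F τ) (hc : hJ1 θ s * z * (hJ1 θ s)⁻¹ = z) : z = 1 := by
  have hH := hJ1_mem_diagonal θ s hs0
  obtain ⟨χ, hχ, hkm⟩ := mem_diagonalSubgroup_char chevF4 f4_mem F _ hH
  have h33 := ce_hJ1_33 θ s hs0
  rw [ce_diag _ _ hkm 33 (by decide)] at h33
  obtain ⟨t, rfl⟩ := (XJ_zero_inf_fixTau hτ z).mp hz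
  have e : hJ1 θ s * pairU θ t * (hJ1 θ s)⁻¹ = X F 33 (χ 33 * t ^ θ) * X F 24 (χ 24 * t) := by
    rw [pairU_eq, ← diag_conj_X _ χ hχ hkm, ← diag_conj_X _ χ hχ hkm]; group
  rw [e, pairU_eq] at hc
  have h1 := (pair_inj F _ _ _ _ hc).1
  have hne : χ 33 ≠ 1 := by
    rw [h33]
    intro h
    exact pow_theta_ne_one hτ s hs1 (sq_eq_one hτ _ h)
  have ht : t ^ θ = 0 := by
    have : (χ 33 - 1) * t ^ θ = 0 := by linear_combination h1
    rcases mul_eq_zero.mp this with h0 | h0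
    · exact absurd (sub_eq_zero.mp h0) hne
    · exact h0
  have ht0 : t = 0 := (pow_eq_zero_iff hτ.pos.ne').mp ht
  rw [ht0, pairU_eq, zero_pow hτ.pos.ne']
  show xGL chevF4 f4_mem F 33 0 * xGL chevF4 f4_mem F 24 0 = 1
  rw [xGL_zero, xGL_zero, mul_one]

omit [Finite F] in
theorem hJ1_cent_one (s : F) (hs0 : s ≠ 0) (hs1 : s ≠ 1) (z : GL chevF4.Idx F)
    (hz : z ∈ XJ F 1 ⊓ fixTau F τ) (hc : hJ1 θ s * z * (hJ1 θ s)⁻¹ = z) : z = 1 := by
  have hH := hJ1_mem_diagonal θ s hs0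
  obtain ⟨χ, hχ, hkm⟩ := mem_diagonalSubgroup_char chevF4 f4_mem F _ hH
  have h27 := ce_hJ1_27 θ s hs0
  rw [ce_diag _ _ hkm 27 (by decide)] at h27
  have h28 := ce_hJ1 θ s hs0 28 (by decide)
  rw [ce_diag _ _ hkm 28 (by decide), carR_F4_28.1, carR_F4_28.2] at h28
  obtain ⟨t, u, rfl⟩ := (XJ_one_inf_fixTau hτ z).mp hz
  have e : hJ1 θ s * suzU θ t u * (hJ1 θ s)⁻¹ =
      P4 (X F 27) (X F 25) (X F 28) (X F 30) (χ 27 * t ^ θ) (χ 25 * t) (χ 28 * (t ^ (θ + 1) + u))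
        (χ 30 * u ^ (2 * θ)) := by
    rw [suzU_eq]
    unfold P4
    rw [← diag_conj_X _ χ hχ hkm, ← diag_conj_X _ χ hχ hkm, ← diag_conj_X _ χ hχ hkm,
      ← diag_conj_X _ χ hχ hkm]
    group
  rw [e, suzU_eq] at hc
  obtain ⟨h1, -, h3, -⟩ := P4_pos_inj F hτ.two _ _ _ _ _ _ _ _ hc
  have hsθ : s ^ θ ≠ 0 := pow_ne_zero _ hs0
  have hne27 : χ 27 ≠ 1 := by
    rw [h27]
    intro h
    apply pow_theta_ne_one hτ s hs1
    rw [← inv_inv (s ^ θ), h, inv_one]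
  have hne28 : χ 28 ≠ 1 := by
    rw [h28]
    intro h
    apply pow_theta_succ_ne_one hτ s hs0 hs1
    have e1 : (s ^ θ) ^ (-1 : ℤ) * s ^ (-1 : ℤ) = (s ^ θ * s)⁻¹ := by
      rw [_root_.zpow_neg_one, _root_.zpow_neg_one, mul_inv]
    rw [e1] at h
    rw [← inv_inv (s ^ θ * s), h, inv_one]
  have ht : t ^ θ = 0 := by
    have : (χ 27 - 1) * t ^ θ = 0 := by linear_combination h1
    rcases mul_eq_zero.mp this with h0 | h0
    · exact absurd (sub_eq_zero.mp h0) hne27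
    · exact h0
  have ht0 : t = 0 := (pow_eq_zero_iff hτ.pos.ne').mp ht
  rw [ht0, zero_pow (Nat.succ_ne_zero θ), zero_add] at h3
  have hu0 : u = 0 := by
    have : (χ 28 - 1) * u = 0 := by linear_combination h3
    rcases mul_eq_zero.mp this with h0 | h0
    · exact absurd (sub_eq_zero.mp h0) hne28
    · exact h0
  rw [ht0, hu0, suzU_eq, zero_pow hτ.pos.ne', zero_pow (Nat.succ_ne_zero θ), zero_add,
    zero_pow (by have := hτ.pos; omega)]
  unfold P4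
  show xGL chevF4 f4_mem F 27 0 * xGL chevF4 f4_mem F 25 0 *
    (xGL chevF4 f4_mem F 28 0 * xGL chevF4 f4_mem F 30 0) = 1
  rw [xGL_zero, xGL_zero, xGL_zero, xGL_zero, mul_one, mul_one]

end

section
variable {F : Type*} [Field F] [Fintype F]
variable {τ : ↥(chevF4.group F) ≃* ↥(chevF4.group F)} {θ : ℕ} (hτ : TauData F τ θ)
include hτ

/-- `²F₄(q)` is perfect for `q > 2` -/
theorem f4_perfect (hF : 2 < Fintype.card F) : commutator ↥(twistedF4 F θ) = ⊤ := by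
  classical
  -- an element of the field different from `0` and `1`
  obtain ⟨s, hs0, hs1⟩ : ∃ s : F, s ≠ 0 ∧ s ≠ 1 := by
    by_contra hcon
    push Not at hcon
    have hsub : (Finset.univ : Finset F) ⊆ {0, 1} := by
      intro x _
      by_cases hx : x = 0
      · simp [hx]
      · simp [hcon x hx]
    have := Finset.card_le_card hsub
    rw [Finset.card_univ] at this
    have h2 : ({0, 1} : Finset F).card ≤ 2 := Finset.card_le_two
    omega
  set G1 := twistedF4 F θ with hG1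
  obtain ⟨T, hTdef⟩ : ∃ T : Subgroup (GL chevF4.Idx F), T = (commutator ↥G1).map G1.subtype := ⟨_, rfl⟩
  have hcommT : ∀ a b : GL chevF4.Idx F, a ∈ G1 → b ∈ G1 → a * b * a⁻¹ * b⁻¹ ∈ T := by
    intro a b ha hb
    rw [hTdef]
    refine ⟨⁅(⟨a, ha⟩ : ↥G1), ⟨b, hb⟩⁆, ?_, rfl⟩
    rw [commutator_def]
    exact Subgroup.commutator_mem_commutator (Subgroup.mem_top _) (Subgroup.mem_top _)
  have hnormT : ∀ g : GL chevF4.Idx F, g ∈ G1 → ∀ a ∈ T, g * a * g⁻¹ ∈ T := by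
    intro g hg a ha
    rw [hTdef] at ha ⊢
    obtain ⟨c, hc, rfl⟩ := ha
    have hn : (commutator ↥G1).Normal := inferInstance
    exact ⟨(⟨g, hg⟩ : ↥G1) * c * (⟨g, hg⟩ : ↥G1)⁻¹, hn.conj_mem c hc _, rfl⟩
  have hhG : hJ1 θ s ∈ G1 := hJ1_mem_twistedF4 hτ.two θ s
  have hh : hJ1 θ s ∈ chevF4.diagonalSubgroup F ⊓ fixTau F τ := by
    rw [fixTau_eq hτ]
    exact Subgroup.mem_inf.mpr ⟨hJ1_mem_diagonal θ s hs0, hhG⟩
  have hXG : ∀ J, XJ F J ⊓ fixTau F τ ≤ G1 := fun J => XJ_inf_fixTau_le hτ J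
  have hXJ : ∀ J, XJ F J ⊓ fixTau F τ ≤ T := by
    intro J
    by_cases hJ : J = 0
    · subst hJ
      exact XJ_le_of_cent hτ T _ hh 0 (hJ1_cent_zero hτ s hs0 hs1)
        (fun y hy => hcommT _ _ hhG (hXG 0 hy))
    · have e : XJ F J = XJ F 1 := by
        unfold XJ clsJ
        rw [if_neg hJ, if_neg (show (1 : ℕ) ≠ 0 by decide)]
      rw [e]
      exact XJ_le_of_cent hτ T _ hh 1 (hJ1_cent_one hτ s hs0 hs1)
        (fun y hy => hcommT _ _ hhG (hXG 1 hy))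
  have hU : chevF4.posUnipotent F ⊓ fixTau F τ ≤ T :=
    posUnipotent_inf_fixTau_le_gen hτ T hXJ
      (fun pre a ha => hnormT _ (nW_mem_twistedF4 F hτ.two θ hτ.pos pre) a ha)
  -- the negative generators
  have hV : ∀ (l : List ℕ), (∀ r ∈ l, r ∈ [14, 23, 20, 22, 19, 17]) → ∀ v ∈ XL F l, v ∈ G1 → v ∈ T := by
    intro l hl v hv hvG
    have hn := nW_mem_twistedF4 F hτ.two θ hτ.pos W8
    have h1 := conj_closure_gensL chevF4 f4_mem F _ _ (actsAs_nW_inv F W8) l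
      (fun r hr => (tab_long' r (hl r hr)).1) v hv
    rw [inv_inv] at h1
    have h2 : (nW F W8)⁻¹ * v * nW F W8 ∈ chevF4.posUnipotent F ⊓ fixTau F τ := by
      refine Subgroup.mem_inf.mpr ⟨?_, ?_⟩
      · refine XL_le_pos _ ?_ h1
        intro r hr
        obtain ⟨s, hs, rfl⟩ := List.mem_map.mp hr
        exact (tab_long' s (hl s hs)).2
      · rw [fixTau_eq hτ]
        exact Subgroup.mul_mem _ (Subgroup.mul_mem _ (Subgroup.inv_mem _ hn) hvG) hn
    have h3 := hnormT _ hn _ (hU h2)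
    have e : nW F W8 * ((nW F W8)⁻¹ * v * nW F W8) * (nW F W8)⁻¹ = v := by group
    rwa [e] at h3
  have hXmem : ∀ (l : List ℕ) (r : ℕ) (t : F), r ∈ l → X F r t ∈ XL F l :=
    fun l r t hr => Subgroup.subset_closure ⟨r, hr, t, coe_xGL chevF4 f4_mem F _ _⟩
  have hle : G1 ≤ T := by
    rw [hG1]
    unfold twistedF4 ChevalleyDatum.genSubgroup
    rw [Subgroup.closure_le]
    rintro g ⟨w, hw, hg⟩
    rcases hw with ⟨t, hw | hw⟩ | ⟨t, u, hw | hw⟩
    · have : g = pairU θ t := Units.ext (by rw [hg, hw]; exact (coe_wordGL chevF4 f4_mem F _).symm)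
      rw [this]
      exact hXJ 0 ((XJ_zero_inf_fixTau hτ _).mpr ⟨t, rfl⟩)
    · have : g = pairV θ t := Units.ext (by rw [hg, hw]; exact (coe_wordGL chevF4 f4_mem F _).symm)
      rw [this]
      refine hV [14, 23] (by decide) _ ?_ (pairV_mem_twistedF4 θ t)
      rw [pairV_eq]
      exact Subgroup.mul_mem _ (hXmem _ 14 _ (by decide)) (hXmem _ 23 _ (by decide))
    · have : g = suzU θ t u := Units.ext (by rw [hg, hw]; exact (coe_wordGL chevF4 f4_mem F _).symm)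
      rw [this]
      exact hXJ 1 ((XJ_one_inf_fixTau hτ _).mpr ⟨t, u, rfl⟩)
    · have : g = suzV θ t u := Units.ext (by rw [hg, hw]; exact (coe_wordGL chevF4 f4_mem F _).symm)
      rw [this]
      refine hV [20, 22, 19, 17] (by decide) _ ?_ (suzV_mem_twistedF4 θ t u)
      rw [suzV_eq]
      unfold P4
      exact Subgroup.mul_mem _ (Subgroup.mul_mem _ (hXmem _ 20 _ (by decide)) (hXmem _ 22 _ (by decide)))
        (Subgroup.mul_mem _ (hXmem _ 19 _ (by decide)) (hXmem _ 17 _ (by decide)))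
  rw [eq_top_iff]
  intro g _
  have := hle g.2
  rw [hTdef] at this
  obtain ⟨c, hc, hcg⟩ := this
  have : c = g := Subtype.ext hcg
  rw [← this]; exact hc

end

end Cfsg.Agent.Lib.Helper11.F4T
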