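import Cfsg.Agent.Lib.Helper11.F4Tw18
import Cfsg.Agent.Lib.Helper7.ChevTwistSimple

/-! `²F₄(q)` is simple for `q > 2` (helper11). -/

set_option autoImplicit false
set_option maxRecDepth 100000

namespace Cfsg.Agent.Lib.Helper11.F4T

open Cfsg Cfsg.Lie Matrix Cfsg.Agent.Lib.Helper7 Cfsg.Agent.Lib.Helper11 Cfsg.Agent.Lib.Helper11.Isog

/-- the simple classes of `²F₄` as words in the fundamental reflections -/
def f4SimpIdx : List (List ℕ) := [[0, 3], [1, 2, 1, 2]]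

theorem f4SimpIdx_get (J : Fin f4SimpIdx.length) : f4SimpIdx.get J = wJ J.val := by
  fin_cases J <;> rfl

theorem f4SimpIdx_lt : ∀ J ∈ f4SimpIdx, ∀ i ∈ J, i < chevF4.rank := by decide

theorem f4_adj : ∀ a b : Fin f4SimpIdx.length, decide (a ≠ b) = true → ∃ r < chevF4.nroots,
    reflWord chevF4 (f4SimpIdx.get a) (reflWord chevF4 (f4SimpIdx.get b)
      (reflWord chevF4 (f4SimpIdx.get a).reverse (reflWord chevF4 (f4SimpIdx.get b).reverse r))) ≠ r := by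
  decide +kernel

theorem f4_conn : ∀ I : Finset (Fin f4SimpIdx.length), I.Nonempty → Iᶜ.Nonempty →
    ∃ a ∈ I, ∃ b ∈ Iᶜ, decide (a ≠ b) = true := by
  intro I ⟨a, ha⟩ ⟨b, hb⟩
  refine ⟨a, ha, b, hb, ?_⟩
  rw [decide_eq_true_eq]
  rintro rfl
  exact (Finset.mem_compl.mp hb) ha

section
variable {F : Type*} [Field F] [Fintype F]
variable {τ : ↥(chevF4.group F) ≃* ↥(chevF4.group F)} {θ : ℕ} (hτ : TauData F τ θ)
include hτ

theorem f4S_eq_twS : f4S F θ = twS chevF4 f4_mem F (twistedF4 F θ) f4SimpIdx := by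
  ext s
  constructor
  · rintro ⟨J, hs⟩
    refine ⟨J, ?_⟩
    rw [hs]
    exact congrArg (nWordGL chevF4 f4_mem F) (f4SimpIdx_get J).symm
  · rintro ⟨J, hs⟩
    refine ⟨J, ?_⟩
    rw [hs]
    exact congrArg (nWordGL chevF4 f4_mem F) (f4SimpIdx_get J)

/-- `²F₄(q)` is simple for `q > 2` -/
theorem f4_simple (hF : 2 < Fintype.card F) :
    IsSimpleGroup ↥(twistedF4 F θ) ∧ ¬ IsMulCommutative ↥(twistedF4 F θ) := by
  refine twisted_simple chevF4 f4_mem F (twistedF4 F θ) f4SimpIdx (f4BNPair hτ) rfl (f4S_eq_twS hτ) ?_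
    f4SimpIdx_lt (fun a b => decide (a ≠ b)) f4_adj f4_conn (by decide) (f4_perfect hτ hF) (core_eq_bot hτ)
  intro J
  show nWordGL chevF4 f4_mem F (f4SimpIdx.get J) ∈ twistedF4 F θ
  rw [f4SimpIdx_get]
  exact nJ_mem_twistedF4 F hτ.two θ hτ.pos J.val

end

end Cfsg.Agent.Lib.Helper11.F4T
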