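import Cfsg.Agent.Lib.Helper11.F4Tw1
import Cfsg.Agent.Lib.Helper11.F4B2
import Cfsg.Agent.Lib.Helper7.ChevUp
import Cfsg.Agent.Lib.Helper7.ChevTwist0
import Cfsg.Prelude.Def_LieTwisted

/-! The generators of `²F₄` are fixed by the twisting automorphism (helper11). -/

set_option autoImplicit false
set_option maxRecDepth 100000

namespace Cfsg.Agent.Lib.Helper11.F4T

open Cfsg Cfsg.Lie Matrix Cfsg.Agent.Lib.Helper7 Cfsg.Agent.Lib.Helper11 Cfsg.Agent.Lib.Helper11.Isog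

section
variable (F : Type*) [Field F]

/-- the root elements of `F₄` -/
noncomputable abbrev X (r : ℕ) (t : F) : GL chevF4.Idx F := xGL chevF4 f4_mem F r t

theorem commTerms_F4_B2 : chevF4.commTerms 27 25 = [(28, -1, 1, 1), (30, -1, 2, 1)] ∧
    chevF4.commTerms 27 28 = [(30, 2, 1, 1)] ∧ chevF4.commTerms 27 30 = [] ∧ chevF4.commTerms 25 28 = [] ∧
    chevF4.commTerms 25 30 = [] ∧ chevF4.commTerms 28 30 = [] ∧
    chevF4.commTerms 20 22 = [(19, 1, 1, 1), (17, -1, 2, 1)] ∧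
    chevF4.commTerms 20 19 = [(17, -2, 1, 1)] ∧ chevF4.commTerms 20 17 = [] ∧ chevF4.commTerms 22 19 = [] ∧
    chevF4.commTerms 22 17 = [] ∧ chevF4.commTerms 19 17 = [] ∧
    chevF4.commTerms 33 24 = [] ∧ chevF4.commTerms 14 23 = [] := by decide +kernel

theorem xGL_comm_of_single' (r s k : ℕ) (c : ℤ) (i j : ℕ) (hr : r < 48) (hs : s < 48) (hsr : s ≠ r)
    (hsn : s ≠ chevF4.neg r) (h : chevF4.commTerms r s = [(k, c, i, j)]) (hc : ((c : ℤ) : F) = 0)
    (a b : F) : Commute (X F r a) (X F s b) := by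
  have := comm_formula_GL chevF4 f4_mem F r s hr hs hsr hsn a b
  unfold ChevalleyDatum.commWord at this
  rw [h] at this
  simp only [List.map_cons, List.map_nil, wordGL, List.prod_cons, List.prod_nil, mul_one, hc, zero_mul,
    xGL_zero] at this
  exact this.symm

variable (h2 : (2 : F) = 0)
include h2

theorem b2Grp_pos : B2Grp (X F 27) (X F 25) (X F 28) (X F 30) where
  add_a := xGL_mul chevF4 f4_mem F 27
  add_b := xGL_mul chevF4 f4_mem F 25
  add_ab := xGL_mul chevF4 f4_mem F 28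
  add_aab := xGL_mul chevF4 f4_mem F 30
  c_a_ab := xGL_comm_of_single' F 27 28 30 2 1 1 (by decide) (by decide) (by decide) (by decide)
    commTerms_F4_B2.2.1 (by exact_mod_cast h2)
  c_a_aab := xGL_comm_of_nil chevF4 f4_mem F 27 30 (by decide) (by decide) (by decide) (by decide)
    commTerms_F4_B2.2.2.1
  c_b_ab := xGL_comm_of_nil chevF4 f4_mem F 25 28 (by decide) (by decide) (by decide) (by decide)
    commTerms_F4_B2.2.2.2.1
  c_b_aab := xGL_comm_of_nil chevF4 f4_mem F 25 30 (by decide) (by decide) (by decide) (by decide)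
    commTerms_F4_B2.2.2.2.2.1
  c_ab_aab := xGL_comm_of_nil chevF4 f4_mem F 28 30 (by decide) (by decide) (by decide) (by decide)
    commTerms_F4_B2.2.2.2.2.2.1
  rel := by
    intro t u
    have := comm_formula_GL chevF4 f4_mem F 27 25 (by decide) (by decide) (by decide) (by decide) t u
    unfold ChevalleyDatum.commWord at this
    rw [commTerms_F4_B2.1] at this
    rw [this]
    simp only [List.map_cons, List.map_nil, wordGL, List.prod_cons, List.prod_nil, mul_one]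
    have hn : ∀ x : F, -x = x := fun x => by linear_combination (-x) * h2
    congr 2
    · congr 1; push_cast; rw [hn 1, hn t]; ring
    · congr 1; push_cast; rw [hn 1, hn t]; ring

theorem b2Grp_neg : B2Grp (X F 20) (X F 22) (X F 19) (X F 17) where
  add_a := xGL_mul chevF4 f4_mem F 20
  add_b := xGL_mul chevF4 f4_mem F 22
  add_ab := xGL_mul chevF4 f4_mem F 19
  add_aab := xGL_mul chevF4 f4_mem F 17
  c_a_ab := xGL_comm_of_single' F 20 19 17 (-2) 1 1 (by decide) (by decide) (by decide) (by decide)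
    commTerms_F4_B2.2.2.2.2.2.2.2.1 (by push_cast; rw [h2, neg_zero])
  c_a_aab := xGL_comm_of_nil chevF4 f4_mem F 20 17 (by decide) (by decide) (by decide) (by decide)
    commTerms_F4_B2.2.2.2.2.2.2.2.2.1
  c_b_ab := xGL_comm_of_nil chevF4 f4_mem F 22 19 (by decide) (by decide) (by decide) (by decide)
    commTerms_F4_B2.2.2.2.2.2.2.2.2.2.1
  c_b_aab := xGL_comm_of_nil chevF4 f4_mem F 22 17 (by decide) (by decide) (by decide) (by decide)
    commTerms_F4_B2.2.2.2.2.2.2.2.2.2.2.1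
  c_ab_aab := xGL_comm_of_nil chevF4 f4_mem F 19 17 (by decide) (by decide) (by decide) (by decide)
    commTerms_F4_B2.2.2.2.2.2.2.2.2.2.2.2.1
  rel := by
    intro t u
    have := comm_formula_GL chevF4 f4_mem F 20 22 (by decide) (by decide) (by decide) (by decide) t u
    unfold ChevalleyDatum.commWord at this
    rw [commTerms_F4_B2.2.2.2.2.2.2.1] at this
    rw [this]
    simp only [List.map_cons, List.map_nil, wordGL, List.prod_cons, List.prod_nil, mul_one]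
    have hn : ∀ x : F, -x = x := fun x => by linear_combination (-x) * h2
    congr 2
    · congr 1; push_cast; rw [hn t]; ring
    · congr 1; push_cast; rw [hn 1, hn t]; ring

omit h2 in
theorem pair_comm_pos (s t : F) : Commute (X F 33 s) (X F 24 t) :=
  xGL_comm_of_nil chevF4 f4_mem F 33 24 (by decide) (by decide) (by decide) (by decide)
    commTerms_F4_B2.2.2.2.2.2.2.2.2.2.2.2.2.1 s t

omit h2 in
theorem pair_comm_neg (s t : F) : Commute (X F 14 s) (X F 23 t) :=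
  xGL_comm_of_nil chevF4 f4_mem F 14 23 (by decide) (by decide) (by decide) (by decide)
    commTerms_F4_B2.2.2.2.2.2.2.2.2.2.2.2.2.2 s t

end

section
variable {F : Type*} [Field F]

/-- the generators of `²F₄` -/
noncomputable def pairU (θ : ℕ) (t : F) : GL chevF4.Idx F :=
  wordGL chevF4 f4_mem F (f4PairWord θ f4p1 f4p4 t)

noncomputable def pairV (θ : ℕ) (t : F) : GL chevF4.Idx F :=
  wordGL chevF4 f4_mem F (f4PairWord θ f4m1 f4m4 t)

noncomputable def suzU (θ : ℕ) (t u : F) : GL chevF4.Idx F :=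
  wordGL chevF4 f4_mem F (b2ClassWord θ f4a f4b f4ab f4aab t u)

noncomputable def suzV (θ : ℕ) (t u : F) : GL chevF4.Idx F :=
  wordGL chevF4 f4_mem F (b2ClassWord θ f4ma f4mb f4mab f4maab t u)

theorem pairU_eq (θ : ℕ) (t : F) : pairU θ t = X F 33 (t ^ θ) * X F 24 t := by
  unfold pairU f4PairWord wordGL
  simp only [f4p1, f4p4, List.map_cons, List.map_nil, List.prod_cons, List.prod_nil, mul_one]

theorem pairV_eq (θ : ℕ) (t : F) : pairV θ t = X F 14 (t ^ θ) * X F 23 t := by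
  unfold pairV f4PairWord wordGL
  simp only [f4m1, f4m4, List.map_cons, List.map_nil, List.prod_cons, List.prod_nil, mul_one]

theorem suzU_eq (θ : ℕ) (t u : F) : suzU θ t u =
    P4 (X F 27) (X F 25) (X F 28) (X F 30) (t ^ θ) t (t ^ (θ + 1) + u) (u ^ (2 * θ)) := by
  unfold suzU b2ClassWord wordGL P4
  simp only [f4a, f4b, f4ab, f4aab, List.map_cons, List.map_nil, List.prod_cons, List.prod_nil, mul_one,
    mul_assoc]

theorem suzV_eq (θ : ℕ) (t u : F) : suzV θ t u =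
    P4 (X F 20) (X F 22) (X F 19) (X F 17) (t ^ θ) t (t ^ (θ + 1) + u) (u ^ (2 * θ)) := by
  unfold suzV b2ClassWord wordGL P4
  simp only [f4ma, f4mb, f4mab, f4maab, List.map_cons, List.map_nil, List.prod_cons, List.prod_nil, mul_one,
    mul_assoc]

theorem pairU_mem_twistedF4 (θ : ℕ) (t : F) : pairU θ t ∈ twistedF4 F θ := by
  apply Subgroup.subset_closure
  exact ⟨_, Or.inl ⟨t, Or.inl rfl⟩, coe_wordGL chevF4 f4_mem F _⟩

theorem pairV_mem_twistedF4 (θ : ℕ) (t : F) : pairV θ t ∈ twistedF4 F θ := by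
  apply Subgroup.subset_closure
  exact ⟨_, Or.inl ⟨t, Or.inr rfl⟩, coe_wordGL chevF4 f4_mem F _⟩

theorem suzU_mem_twistedF4 (θ : ℕ) (t u : F) : suzU θ t u ∈ twistedF4 F θ := by
  apply Subgroup.subset_closure
  exact ⟨_, Or.inr ⟨t, u, Or.inl rfl⟩, coe_wordGL chevF4 f4_mem F _⟩

theorem suzV_mem_twistedF4 (θ : ℕ) (t u : F) : suzV θ t u ∈ twistedF4 F θ := by
  apply Subgroup.subset_closure
  exact ⟨_, Or.inr ⟨t, u, Or.inr rfl⟩, coe_wordGL chevF4 f4_mem F _⟩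

variable {τ : ↥(chevF4.group F) ≃* ↥(chevF4.group F)} {θ : ℕ} (hτ : TauData F τ θ)
include hτ

theorem pw_two (t : F) : (t ^ θ) ^ (θ * 2) = t := by
  rw [← pow_mul]
  have : θ * (θ * 2) = 2 * θ * θ := by ring
  rw [this, hτ.pow]

theorem pw_two' (t : F) : (t ^ (θ * 2)) ^ θ = t := by
  rw [← pow_mul]
  have : θ * 2 * θ = 2 * θ * θ := by ring
  rw [this, hτ.pow]

theorem pw_two'' (t : F) : (t ^ (2 * θ)) ^ θ = t := by
  rw [← pow_mul]
  have : 2 * θ * θ = 2 * θ * θ := by ring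
  rw [hτ.pow]

theorem add_sq (x y : F) : (x + y) ^ 2 = x ^ 2 + y ^ 2 := by
  linear_combination (x * y) * hτ.two

theorem pw_add2 (x y : F) : (x + y) ^ (θ * 2) = x ^ (θ * 2) + y ^ (θ * 2) := by
  rw [pow_mul, pow_mul, pow_mul, hτ.add_pow, add_sq hτ]

theorem add_self' (x : F) : x + x = 0 := by linear_combination x * hτ.two

/-- the action of `τ` on the class of type `A₁ × A₁`, positive roots -/
theorem tauGL_pair_pos (s t : F) :
    tauGL F τ (X F 33 s * X F 24 t) = X F 33 (t ^ θ) * X F 24 (s ^ (θ * 2)) := by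
  rw [tauGL_mul F τ _ _ (xGL_mem_group _ _ _ _ _) (xGL_mem_group _ _ _ _ _),
    tauGL_xGL hτ 33 (by decide), tauGL_xGL hτ 24 (by decide)]
  have e1 : rho_F4 33 = 24 := rfl
  have e2 : rho_F4 24 = 33 := rfl
  have e3 : eF4 θ 33 = θ * 2 := rfl
  have e4 : eF4 θ 24 = θ * 1 := rfl
  rw [e1, e2, e3, e4, mul_one]
  exact ((pair_comm_pos F _ _).eq).symm

theorem tauGL_pair_neg (s t : F) :
    tauGL F τ (X F 14 s * X F 23 t) = X F 14 (t ^ θ) * X F 23 (s ^ (θ * 2)) := by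
  rw [tauGL_mul F τ _ _ (xGL_mem_group _ _ _ _ _) (xGL_mem_group _ _ _ _ _),
    tauGL_xGL hτ 14 (by decide), tauGL_xGL hτ 23 (by decide)]
  have e1 : rho_F4 14 = 23 := rfl
  have e2 : rho_F4 23 = 14 := rfl
  have e3 : eF4 θ 14 = θ * 2 := rfl
  have e4 : eF4 θ 23 = θ * 1 := rfl
  rw [e1, e2, e3, e4, mul_one]
  exact ((pair_comm_neg F _ _).eq).symm

theorem tauGL_pairU (t : F) : tauGL F τ (pairU θ t) = pairU θ t := by
  rw [pairU_eq, tauGL_pair_pos hτ, pw_two hτ]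

theorem tauGL_pairV (t : F) : tauGL F τ (pairV θ t) = pairV θ t := by
  rw [pairV_eq, tauGL_pair_neg hτ, pw_two hτ]

/-- the action of `τ` on the class of type `B₂`, positive roots -/
theorem tauGL_P4_pos (t₁ t₂ t₃ t₄ : F) :
    tauGL F τ (P4 (X F 27) (X F 25) (X F 28) (X F 30) t₁ t₂ t₃ t₄) =
      P4 (X F 27) (X F 25) (X F 28) (X F 30) (t₂ ^ θ) (t₁ ^ (θ * 2))
        (t₄ ^ θ + t₂ ^ θ * t₁ ^ (θ * 2)) (t₃ ^ (θ * 2) + (t₂ ^ θ) ^ 2 * t₁ ^ (θ * 2)) := by
  have hB := b2Grp_pos F hτ.two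
  have hG : ∀ r (t : F), X F r t ∈ chevF4.group F := fun r t => xGL_mem_group _ _ _ _ _
  unfold P4
  rw [tauGL_mul F τ _ _ (Subgroup.mul_mem _ (hG _ _) (hG _ _)) (Subgroup.mul_mem _ (hG _ _) (hG _ _)),
    tauGL_mul F τ _ _ (hG _ _) (hG _ _), tauGL_mul F τ _ _ (hG _ _) (hG _ _),
    tauGL_xGL hτ 27 (by decide), tauGL_xGL hτ 25 (by decide), tauGL_xGL hτ 28 (by decide),
    tauGL_xGL hτ 30 (by decide)]
  have e1 : rho_F4 27 = 25 := rfl
  have e2 : rho_F4 25 = 27 := rfl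
  have e3 : rho_F4 28 = 30 := rfl
  have e4 : rho_F4 30 = 28 := rfl
  have f1 : eF4 θ 27 = θ * 2 := rfl
  have f2 : eF4 θ 25 = θ * 1 := rfl
  have f3 : eF4 θ 28 = θ * 2 := rfl
  have f4 : eF4 θ 30 = θ * 1 := rfl
  rw [e1, e2, e3, e4, f1, f2, f3, f4, mul_one]
  have hc : xGL chevF4 f4_mem F 30 (t₃ ^ (θ * 2)) * xGL chevF4 f4_mem F 28 (t₄ ^ θ) =
      X F 28 (t₄ ^ θ) * X F 30 (t₃ ^ (θ * 2)) := ((hB.c_ab_aab _ _).eq).symm
  rw [hc]
  exact hB.P4_swap _ _ _ _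

theorem tauGL_P4_neg (t₁ t₂ t₃ t₄ : F) :
    tauGL F τ (P4 (X F 20) (X F 22) (X F 19) (X F 17) t₁ t₂ t₃ t₄) =
      P4 (X F 20) (X F 22) (X F 19) (X F 17) (t₂ ^ θ) (t₁ ^ (θ * 2))
        (t₄ ^ θ + t₂ ^ θ * t₁ ^ (θ * 2)) (t₃ ^ (θ * 2) + (t₂ ^ θ) ^ 2 * t₁ ^ (θ * 2)) := by
  have hB := b2Grp_neg F hτ.two
  have hG : ∀ r (t : F), X F r t ∈ chevF4.group F := fun r t => xGL_mem_group _ _ _ _ _
  unfold P4
  rw [tauGL_mul F τ _ _ (Subgroup.mul_mem _ (hG _ _) (hG _ _)) (Subgroup.mul_mem _ (hG _ _) (hG _ _)),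
    tauGL_mul F τ _ _ (hG _ _) (hG _ _), tauGL_mul F τ _ _ (hG _ _) (hG _ _),
    tauGL_xGL hτ 20 (by decide), tauGL_xGL hτ 22 (by decide), tauGL_xGL hτ 19 (by decide),
    tauGL_xGL hτ 17 (by decide)]
  have e1 : rho_F4 20 = 22 := rfl
  have e2 : rho_F4 22 = 20 := rfl
  have e3 : rho_F4 19 = 17 := rfl
  have e4 : rho_F4 17 = 19 := rfl
  have f1 : eF4 θ 20 = θ * 2 := rfl
  have f2 : eF4 θ 22 = θ * 1 := rfl
  have f3 : eF4 θ 19 = θ * 2 := rfl
  have f4 : eF4 θ 17 = θ * 1 := rfl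
  rw [e1, e2, e3, e4, f1, f2, f3, f4, mul_one]
  have hc : xGL chevF4 f4_mem F 17 (t₃ ^ (θ * 2)) * xGL chevF4 f4_mem F 19 (t₄ ^ θ) =
      X F 19 (t₄ ^ θ) * X F 17 (t₃ ^ (θ * 2)) := ((hB.c_ab_aab _ _).eq).symm
  rw [hc]
  exact hB.P4_swap _ _ _ _

/-- the parameters of a fixed product -/
theorem suz_params (t u : F) :
    (t : F) ^ θ = t ^ θ ∧ (t ^ θ) ^ (θ * 2) = t ∧
    (u ^ (2 * θ)) ^ θ + t ^ θ * (t ^ θ) ^ (θ * 2) = t ^ (θ + 1) + u ∧
    (t ^ (θ + 1) + u) ^ (θ * 2) + (t ^ θ) ^ 2 * (t ^ θ) ^ (θ * 2) = u ^ (2 * θ) := by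
  refine ⟨rfl, pw_two hτ t, ?_, ?_⟩
  · rw [pw_two hτ, pw_two'' hτ, pow_succ]; ring
  · rw [pw_add2 hτ, pw_two hτ]
    have e : (t ^ (θ + 1)) ^ (θ * 2) = (t ^ θ) ^ 2 * t := by
      calc (t ^ (θ + 1)) ^ (θ * 2) = t ^ (2 * θ * θ) * t ^ (θ * 2) := by
            rw [← pow_mul, ← pow_add]; congr 1; ring
        _ = _ := by rw [hτ.pow, pow_mul]; ring
    rw [e, mul_comm θ 2]
    linear_combination ((t ^ θ) ^ 2 * t) * hτ.two

theorem tauGL_suzU (t u : F) : tauGL F τ (suzU θ t u) = suzU θ t u := by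
  rw [suzU_eq, tauGL_P4_pos hτ]
  obtain ⟨-, h2, h3, h4⟩ := suz_params hτ t u
  rw [h3, h4, h2]

theorem tauGL_suzV (t u : F) : tauGL F τ (suzV θ t u) = suzV θ t u := by
  rw [suzV_eq, tauGL_P4_neg hτ]
  obtain ⟨-, h2, h3, h4⟩ := suz_params hτ t u
  rw [h3, h4, h2]

/-- the twisted group lies in the fixed points -/
theorem twistedF4_le_fixTau : twistedF4 F θ ≤ fixTau F τ := by
  unfold twistedF4 ChevalleyDatum.genSubgroup
  rw [Subgroup.closure_le]
  rintro g ⟨w, hw, hg⟩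
  rcases hw with ⟨t, hw | hw⟩ | ⟨t, u, hw | hw⟩
  · have : g = pairU θ t := Units.ext (by rw [hg, hw]; exact (coe_wordGL chevF4 f4_mem F _).symm)
    rw [this]
    exact ⟨wordGL_mem_group chevF4 f4_mem F _, tauGL_pairU hτ t⟩
  · have : g = pairV θ t := Units.ext (by rw [hg, hw]; exact (coe_wordGL chevF4 f4_mem F _).symm)
    rw [this]
    exact ⟨wordGL_mem_group chevF4 f4_mem F _, tauGL_pairV hτ t⟩
  · have : g = suzU θ t u := Units.ext (by rw [hg, hw]; exact (coe_wordGL chevF4 f4_mem F _).symm)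
    rw [this]
    exact ⟨wordGL_mem_group chevF4 f4_mem F _, tauGL_suzU hτ t u⟩
  · have : g = suzV θ t u := Units.ext (by rw [hg, hw]; exact (coe_wordGL chevF4 f4_mem F _).symm)
    rw [this]
    exact ⟨wordGL_mem_group chevF4 f4_mem F _, tauGL_suzV hτ t u⟩

end

end Cfsg.Agent.Lib.Helper11.F4T
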