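import Cfsg.Agent.Lib.Helper11.F4Tw19

/-! `²F₄`: the orders of `B¹` and of the cells `B¹ n_J B¹` (helper11). -/

set_option autoImplicit false
set_option maxRecDepth 100000

namespace Cfsg.Agent.Lib.Helper11.F4T

open Cfsg Cfsg.Lie Matrix Cfsg.Agent.Lib.Helper7 Cfsg.Agent.Lib.Helper11 Cfsg.Agent.Lib.Helper11.Isog

section
variable {F : Type*} [Field F] [Fintype F]
variable {τ : ↥(chevF4.group F) ≃* ↥(chevF4.group F)} {θ : ℕ} (hτ : TauData F τ θ)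
include hτ

/-- `|B^τ| = |H^τ| |U^τ|` -/
theorem card_borel_inf_fixTau : Nat.card ↥(chevF4.borelSubgroup F ⊓ fixTau F τ) =
    Nat.card ↥(chevF4.diagonalSubgroup F ⊓ fixTau F τ) * Nat.card ↥(chevF4.posUnipotent F ⊓ fixTau F τ) := by
  rw [← Nat.card_prod]
  symm
  apply Nat.card_congr
  refine Equiv.ofBijective (fun p => ⟨(p.1 : GL chevF4.Idx F) * (p.2 : GL chevF4.Idx F), ?_⟩) ⟨?_, ?_⟩
  · obtain ⟨h1, h2⟩ := Subgroup.mem_inf.mp p.1.2
    obtain ⟨u1, u2⟩ := Subgroup.mem_inf.mp p.2.2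
    exact Subgroup.mem_inf.mpr ⟨Subgroup.mul_mem _ (diagonal_le_borel chevF4 f4_mem F h1)
      (posUnipotent_le_borel chevF4 f4_mem F u1), Subgroup.mul_mem _ h2 u2⟩
  · rintro ⟨⟨h, hh⟩, ⟨u, hu⟩⟩ ⟨⟨h', hh'⟩, ⟨u', hu'⟩⟩ he
    have he' : h * u = h' * u' := congrArg Subtype.val he
    have e : h'⁻¹ * h = u' * u⁻¹ := by
      have : h = h' * u' * u⁻¹ := by rw [← he']; group
      rw [this]; group
    have hm : h'⁻¹ * h ∈ chevF4.posUnipotent F ⊓ chevF4.diagonalSubgroup F := by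
      refine Subgroup.mem_inf.mpr ⟨?_, Subgroup.mul_mem _ (Subgroup.inv_mem _ (Subgroup.mem_inf.mp hh').1)
        (Subgroup.mem_inf.mp hh).1⟩
      rw [e]
      exact Subgroup.mul_mem _ (Subgroup.mem_inf.mp hu').1 (Subgroup.inv_mem _ (Subgroup.mem_inf.mp hu).1)
    rw [posUnipotent_inf_diagonalSubgroup chevF4 f4_mem F, Subgroup.mem_bot] at hm
    have h1 : h = h' := (inv_mul_eq_one.mp hm).symm
    subst h1
    have h2 : u = u' := mul_left_cancel he'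
    subst h2
    rfl
  · rintro ⟨b, hb⟩
    obtain ⟨h, hh, u, hu, rfl⟩ := fix_borel hτ b hb
    exact ⟨(⟨h, hh⟩, ⟨u, hu⟩), rfl⟩

/-- `|B¹| = (q-1)² q¹²` -/
theorem card_borel_inf_twistedF4 : Nat.card ↥(chevF4.borelSubgroup F ⊓ twistedF4 F θ) =
    Nat.card Fˣ ^ 2 * Nat.card F ^ 12 := by
  rw [← fixTau_eq hτ, card_borel_inf_fixTau hτ, diag_inf_fixTau_eq hτ, card_diag_inf_twistedF4 hτ,
    card_posUnipotent_inf_fixTau hτ]

omit [Fintype F] in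
/-- conjugation by `n_J` maps the class subgroup into `V` -/
theorem conj_nJ_XJ_mem_neg (J : Fin 2) (x : GL chevF4.Idx F) (hx : x ∈ XJ F J) :
    sJ F J * x * (sJ F J)⁻¹ ∈ chevF4.negUnipotent F := by
  have h1 := conj_closure_gensL chevF4 f4_mem F _ _ (actsAs_nJ (F := F) J) (clsJr J)
    (fun r hr => ((tab_w J).2 r hr).1) x (by rw [← XL_clsJr] at hx; exact hx)
  refine XL_le_neg _ ?_ h1
  intro r hr
  obtain ⟨s, hs, rfl⟩ := List.mem_map.mp hr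
  exact ((tab_w J).2 s hs).2

/-- `|B¹ n_J B¹| = |B¹| |X_J¹|` -/
theorem card_cell_f4 (J : Fin 2) :
    Nat.card {g : GL chevF4.Idx F // ∃ b ∈ chevF4.borelSubgroup F ⊓ twistedF4 F θ,
      ∃ b' ∈ chevF4.borelSubgroup F ⊓ twistedF4 F θ, g = b * sJ F J * b'} =
    Nat.card ↥(chevF4.borelSubgroup F ⊓ twistedF4 F θ) * Nat.card ↥(XJ F J ⊓ fixTau F τ) := by
  rw [← Nat.card_prod]
  symm
  apply Nat.card_congr
  have hBeq : chevF4.borelSubgroup F ⊓ fixTau F τ = chevF4.borelSubgroup F ⊓ twistedF4 F θ := by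
    rw [fixTau_eq hτ]
  have hxB : ∀ x ∈ XJ F J ⊓ fixTau F τ, x ∈ chevF4.borelSubgroup F ⊓ twistedF4 F θ := by
    intro x hx
    rw [← hBeq]
    exact Subgroup.mem_inf.mpr ⟨posUnipotent_le_borel chevF4 f4_mem F (XJ_le_pos J (Subgroup.mem_inf.mp hx).1),
      (Subgroup.mem_inf.mp hx).2⟩
  refine Equiv.ofBijective (fun p => ⟨(p.1 : GL chevF4.Idx F) * sJ F J * (p.2 : GL chevF4.Idx F), ?_⟩)
    ⟨?_, ?_⟩
  · exact ⟨p.1.1, p.1.2, p.2.1, hxB _ p.2.2, rfl⟩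
  · rintro ⟨⟨b, hb⟩, ⟨x, hx⟩⟩ ⟨⟨b', hb'⟩, ⟨x', hx'⟩⟩ he
    have he' : b * sJ F J * x = b' * sJ F J * x' := congrArg Subtype.val he
    have e : sJ F J * (x * x'⁻¹) * (sJ F J)⁻¹ = b⁻¹ * b' := by
      have : b' = b * sJ F J * x * x'⁻¹ * (sJ F J)⁻¹ := by rw [he']; group
      rw [this]; group
    have hm : sJ F J * (x * x'⁻¹) * (sJ F J)⁻¹ ∈ chevF4.borelSubgroup F ⊓ chevF4.negUnipotent F := by
      rw [Subgroup.mem_inf]
      refine ⟨?_, conj_nJ_XJ_mem_neg hτ J _ (Subgroup.mul_mem _ (Subgroup.mem_inf.mp hx).1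
        (Subgroup.inv_mem _ (Subgroup.mem_inf.mp hx').1))⟩
      rw [e]
      exact Subgroup.mul_mem _ (Subgroup.inv_mem _ (Subgroup.mem_inf.mp hb).1) (Subgroup.mem_inf.mp hb').1
    rw [borel_inf_negUnipotent chevF4 f4_mem F, Subgroup.mem_bot] at hm
    have hx1 : x = x' := by
      have : x * x'⁻¹ = 1 := by
        have e3 : x * x'⁻¹ = (sJ F J)⁻¹ * (sJ F J * (x * x'⁻¹) * (sJ F J)⁻¹) * sJ F J := by group
        rw [e3, hm]; group
      exact mul_inv_eq_one.mp this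
    have hb1 : b = b' := by
      rw [hm] at e
      exact (inv_mul_eq_one.mp e.symm)
    subst hx1 hb1
    rfl
  · rintro ⟨g, b, hb, b', hb', rfl⟩
    rw [← hBeq] at hb'
    obtain ⟨c, hc, x, hx, rfl, hcc⟩ := borel_decomp hτ J b' hb'
    rw [hBeq] at hcc
    refine ⟨(⟨b * (sJ F J * c * (sJ F J)⁻¹), Subgroup.mul_mem _ hb hcc⟩, ⟨x, hx⟩), ?_⟩
    apply Subtype.ext
    show b * (sJ F J * c * (sJ F J)⁻¹) * sJ F J * x = b * sJ F J * (c * x)
    group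

end

end Cfsg.Agent.Lib.Helper11.F4T
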