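import Cfsg.Agent.Lib.Helper11.F4Tw2
import Cfsg.Agent.Lib.Helper11.F4NumJ2

/-! The fixed points of the twisting automorphism of `F₄`: fixed representatives of the stable classes of the
Weyl group, and the cells (helper11). -/

set_option autoImplicit false
set_option maxRecDepth 100000

namespace Cfsg.Agent.Lib.Helper11.F4T

open Cfsg Cfsg.Lie Matrix Cfsg.Agent.Lib.Helper7 Cfsg.Agent.Lib.Helper11 Cfsg.Agent.Lib.Helper11.Isog

theorem reflWord_rev_cancel (J : List ℕ) (hJ : ∀ i ∈ J, i < chevF4.rank) (s : ℕ) (hs : s < 48) :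
    reflWord chevF4 J (reflWord chevF4 J.reverse s) = s := by
  have h1 := ActsAs.mul chevF4 ℚ (actsAs_nWordGL chevF4 f4_mem ℚ J hJ) (actsAs_nWordGL_inv chevF4 f4_mem ℚ J hJ)
  rw [mul_inv_cancel] at h1
  have h2 := actsAs_diag chevF4 f4_mem ℚ 1 (Subgroup.one_mem _)
  exact ActsAs.unique chevF4 f4_mem ℚ h1 h2 s hs

theorem reflWord_rev_cancel' (J : List ℕ) (hJ : ∀ i ∈ J, i < chevF4.rank) (s : ℕ) (hs : s < 48) :
    reflWord chevF4 J.reverse (reflWord chevF4 J s) = s := by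
  have h1 := ActsAs.mul chevF4 ℚ (actsAs_nWordGL_inv chevF4 f4_mem ℚ J hJ) (actsAs_nWordGL chevF4 f4_mem ℚ J hJ)
  rw [inv_mul_cancel] at h1
  have h2 := actsAs_diag chevF4 f4_mem ℚ 1 (Subgroup.one_mem _)
  exact ActsAs.unique chevF4 f4_mem ℚ h1 h2 s hs

set_option maxRecDepth 1000000 in
theorem nJ1_tab : prodT chevF4 [33, 24, 14, 23, 33, 24] = prodT chevF4 [33, 14, 33, 24, 23, 24] := by
  decide +kernel

section
variable (F : Type*) [Field F]

/-- the representative of the class `J` -/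
noncomputable def nJ (J : ℕ) : GL chevF4.Idx F := nWordGL chevF4 f4_mem F (wJ J)

/-- the representative of a word in the classes -/
noncomputable def nW (L : List ℕ) : GL chevF4.Idx F := nWordGL chevF4 f4_mem F (flatW L)

theorem nW_nil : nW F [] = 1 := by simp [nW, flatW, nWordGL]

theorem nW_cons (J : ℕ) (L : List ℕ) : nW F (J :: L) = nJ F J * nW F L := by
  unfold nW nJ
  rw [flatW_cons, nWordGL_append]

theorem nW_append (L L' : List ℕ) : nW F (L ++ L') = nW F L * nW F L' := by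
  unfold nW
  rw [flatW_append, nWordGL_append]

theorem nW_mem_monomial (L : List ℕ) : nW F L ∈ chevF4.monomialSubgroup F :=
  nWordGL_mem_monomial chevF4 f4_mem F _ (flatW_lt L)

theorem nJ_mem_monomial (J : ℕ) : nJ F J ∈ chevF4.monomialSubgroup F :=
  nWordGL_mem_monomial chevF4 f4_mem F _ (wJ_lt J)

theorem actsAs_nW (L : List ℕ) : ActsAs chevF4 f4_mem F (nW F L) (reflWord chevF4 (flatW L)) :=
  actsAs_nWordGL chevF4 f4_mem F _ (flatW_lt L)

theorem actsAs_nW_inv (L : List ℕ) :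
    ActsAs chevF4 f4_mem F (nW F L)⁻¹ (reflWord chevF4 (flatW L).reverse) :=
  actsAs_nWordGL_inv chevF4 f4_mem F _ (flatW_lt L)

/-- words in root elements with parameter 1 -/
def ones (L : List ℕ) : List (ℕ × F) := L.map fun s => (s, (1 : F))

theorem ones_append (L L' : List ℕ) : ones F (L ++ L') = ones F L ++ ones F L' := by
  simp [ones]

theorem wordGL_ones_eq [CharP F 2] (r r' : ℕ) (L L' : List ℕ)
    (h : prodT chevF4 (r :: L) = prodT chevF4 (r' :: L')) :
    wordGL chevF4 f4_mem F (ones F (r :: L)) = wordGL chevF4 f4_mem F (ones F (r' :: L')) := by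
  apply Units.ext
  rw [coe_wordGL, coe_wordGL]
  unfold ones
  rw [wordMat_ones, wordMat_ones, h]

variable (h2 : (2 : F) = 0)
include h2

theorem neg_one_eq : (-1 : F) = 1 := by linear_combination (-1 : F) * h2

theorem nFund_eq_ones (i : ℕ) : nFund chevF4 f4_mem F i =
    wordGL chevF4 f4_mem F (ones F [chevF4.simple i, chevF4.neg (chevF4.simple i), chevF4.simple i]) := by
  unfold nFund ChevalleyDatum.nWord ones
  simp only [List.map_cons, List.map_nil, inv_one, neg_one_eq F h2]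

theorem nJ_zero_ones : nJ F 0 = wordGL chevF4 f4_mem F (ones F [33, 14, 33, 24, 23, 24]) := by
  unfold nJ wJ nWordGL
  simp only [if_true, List.map_cons, List.map_nil, List.prod_cons, List.prod_nil, mul_one,
    nFund_eq_ones F h2]
  rw [← wordGL_append, ← ones_append]
  rfl

theorem nJ_one_ones : nJ F 1 =
    wordGL chevF4 f4_mem F (ones F [27, 20, 27, 25, 22, 25, 27, 20, 27, 25, 22, 25]) := by
  unfold nJ wJ nWordGL
  simp only [if_neg (show (1 : ℕ) ≠ 0 by decide), List.map_cons, List.map_nil, List.prod_cons,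
    List.prod_nil, mul_one, nFund_eq_ones F h2]
  rw [← wordGL_append, ← wordGL_append, ← wordGL_append, ← ones_append, ← ones_append, ← ones_append]
  rfl

omit h2 in
theorem charP_of_two (h2 : (2 : F) = 0) : CharP F 2 := by
  have : ((2 : ℕ) : F) = 0 := by exact_mod_cast h2
  exact CharTwo.of_one_ne_zero_of_two_eq_zero one_ne_zero h2

omit h2 in
theorem pair_word_ones (θ : ℕ) :
    pairU θ (1 : F) * pairV θ 1 * pairU θ 1 = wordGL chevF4 f4_mem F (ones F [33, 24, 14, 23, 33, 24]) := by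
  unfold pairU pairV f4PairWord ones
  rw [← wordGL_append, ← wordGL_append]
  simp only [f4p1, f4p4, f4m1, f4m4, one_pow, List.map_cons, List.map_nil, List.cons_append, List.nil_append]

theorem suz_word_ones (θ : ℕ) (hθ : 0 < θ) :
    suzU θ (1 : F) 0 * suzV θ 0 1 * suzU θ 1 1 =
      wordGL chevF4 f4_mem F (ones F [27, 25, 28, 19, 17, 27, 25, 30]) := by
  have h11 : (1 : F) + 1 = 0 := by linear_combination h2
  have hz : (0 : F) ^ θ = 0 := zero_pow hθ.ne'
  have hz1 : (0 : F) ^ (θ + 1) = 0 := zero_pow (Nat.succ_ne_zero _)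
  have hz2 : (0 : F) ^ (2 * θ) = 0 := zero_pow (by omega)
  rw [suzU_eq, suzV_eq, suzU_eq]
  unfold P4 ones wordGL
  simp only [one_pow, hz, hz1, hz2, add_zero, zero_add, h11, xGL_zero, mul_one, one_mul, List.map_cons,
    List.map_nil, List.prod_cons, List.prod_nil, mul_assoc]

/-- the representatives lie in the twisted group -/
theorem nJ_mem_twistedF4 (θ : ℕ) (hθ : 0 < θ) (J : ℕ) : nJ F J ∈ twistedF4 F θ := by
  have := charP_of_two F h2
  by_cases hJ : J = 0
  · subst hJ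
    rw [nJ_zero_ones F h2, ← wordGL_ones_eq F _ _ _ _ nJ1_tab, ← pair_word_ones F θ]
    exact Subgroup.mul_mem _ (Subgroup.mul_mem _ (pairU_mem_twistedF4 θ 1) (pairV_mem_twistedF4 θ 1))
      (pairU_mem_twistedF4 θ 1)
  · have e : nJ F J = nJ F 1 := by
      unfold nJ wJ
      rw [if_neg hJ, if_neg (show (1 : ℕ) ≠ 0 by decide)]
    rw [e, nJ_one_ones F h2, ← wordGL_ones_eq F _ _ _ _ nJ2_tab, ← suz_word_ones F h2 θ hθ]
    exact Subgroup.mul_mem _ (Subgroup.mul_mem _ (suzU_mem_twistedF4 θ 1 0) (suzV_mem_twistedF4 θ 0 1))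
      (suzU_mem_twistedF4 θ 1 1)

theorem nW_mem_twistedF4 (θ : ℕ) (hθ : 0 < θ) (L : List ℕ) : nW F L ∈ twistedF4 F θ := by
  induction L with
  | nil => rw [nW_nil]; exact Subgroup.one_mem _
  | cons J L ih => rw [nW_cons]; exact Subgroup.mul_mem _ (nJ_mem_twistedF4 F h2 θ hθ J) ih

end

section
variable {F : Type*} [Field F]
variable {τ : ↥(chevF4.group F) ≃* ↥(chevF4.group F)} {θ : ℕ} (hτ : TauData F τ θ)
include hτ

theorem nJ_mem_fixTau (J : ℕ) : nJ F J ∈ fixTau F τ :=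
  twistedF4_le_fixTau hτ (nJ_mem_twistedF4 F hτ.two θ hτ.pos J)

theorem nW_mem_fixTau (L : List ℕ) : nW F L ∈ fixTau F τ :=
  twistedF4_le_fixTau hτ (nW_mem_twistedF4 F hτ.two θ hτ.pos L)

theorem nW_fix (L : List ℕ) : tauGL F τ (nW F L) = nW F L := (nW_mem_fixTau hτ L).2

theorem nW_mem_group (L : List ℕ) : nW F L ∈ chevF4.group F := (nW_mem_fixTau hτ L).1

omit hτ in
/-- `U_n⁻` depends only on the action of `n` on the roots -/
theorem uMinus_le_of_actsAs (n n' : GL chevF4.Idx F) (f : ℕ → ℕ) (hn : ActsAs chevF4 f4_mem F n f)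
    (hn' : ActsAs chevF4 f4_mem F n' f) : uMinus chevF4 F n ≤ uMinus chevF4 F n' := by
  unfold uMinus
  rw [Subgroup.closure_le]
  rintro x ⟨r, t, hr, hle, hxm⟩
  apply Subgroup.subset_closure
  refine ⟨r, t, hr, ?_, hxm⟩
  rw [map_conj_le_iff chevF4 f4_mem F] at hle ⊢
  obtain ⟨-, c, hc, h1⟩ := hn r hr.1
  obtain ⟨-, c', hc', h1'⟩ := hn' r hr.1
  intro s
  rw [h1']
  have := hle (c⁻¹ * (c' * s))
  rw [h1, ← mul_assoc, mul_inv_cancel₀ hc, one_mul] at this
  exact this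

omit hτ in
/-- conjugation by elements of `N` preserves `H` -/
theorem conj_diagonal_mem (n h : GL chevF4.Idx F) (hn : n ∈ chevF4.monomialSubgroup F)
    (hh : h ∈ chevF4.diagonalSubgroup F) : n * h * n⁻¹ ∈ chevF4.diagonalSubgroup F := by
  have := monomialSubgroup_le_normalizer_diagonal chevF4 f4_mem F hn
  rw [Subgroup.mem_normalizer_iff] at this
  exact (this h).mp hh

/-- the cells of the fixed points: a fixed element lies in some `B n_w U_w⁻`, with fixed components -/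
theorem fix_cases (g : GL chevF4.Idx F) (hg : g ∈ fixTau F τ) :
    ∃ w ∈ words16, ∃ b ∈ chevF4.borelSubgroup F ⊓ fixTau F τ,
      ∃ u ∈ uMinus chevF4 F (nW F w) ⊓ fixTau F τ, g = b * nW F w * u := by
  obtain ⟨hgG, hgτ⟩ := hg
  obtain ⟨b, hb, n, hn, u, hu, rfl⟩ := canon_exists chevF4 f4_mem F g hgG
  have hbG := borel_le_group chevF4 f4_mem F hb
  have hnG := monomial_le_group chevF4 f4_mem F hn
  have huU := uMinus_le_posUnipotent chevF4 F n hu
  have huG := borel_le_group chevF4 f4_mem F (posUnipotent_le_borel chevF4 f4_mem F huU)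
  have e1 : tauGL F τ (b * n * u) = tauGL F τ b * tauGL F τ n * tauGL F τ u := by
    rw [tauGL_mul F τ _ _ (Subgroup.mul_mem _ hbG hnG) huG, tauGL_mul F τ _ _ hbG hnG]
  rw [e1] at hgτ
  have h1 := (canon_unique chevF4 f4_mem F b (tauGL F τ b) n (tauGL F τ n) u (tauGL F τ u) hb
    (tauGL_borel hτ b hb) hn (tauGL_monomial hτ n hn) hu (tauGL_uMinus hτ n hnG u hu) hgτ.symm).1
  obtain ⟨w, hw, hact⟩ := monomial_stable_cases hτ n hn h1
  refine ⟨w, hw, ?_⟩
  -- `n = n_w h₁` with `h₁ ∈ H`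
  have hactw := actsAs_nW F w
  have hh : (nW F w)⁻¹ * n ∈ chevF4.diagonalSubgroup F :=
    mem_diagonal_of_actsAs_id chevF4 f4_mem F _
      (Subgroup.mul_mem _ (Subgroup.inv_mem _ (nW_mem_monomial F w)) hn) _
      (ActsAs.mul chevF4 F (actsAs_nW_inv F w) hact)
      (fun s hs => reflWord_rev_cancel' _ (flatW_lt w) s hs)
  obtain ⟨h₁, hh₁⟩ : ∃ h₁, h₁ = (nW F w)⁻¹ * n := ⟨_, rfl⟩
  rw [← hh₁] at hh
  have hnh : n = nW F w * h₁ := by rw [hh₁]; group
  have hb₁ : b * (nW F w * h₁ * (nW F w)⁻¹) ∈ chevF4.borelSubgroup F :=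
    Subgroup.mul_mem _ hb (diagonal_le_borel chevF4 f4_mem F
      (conj_diagonal_mem _ _ (nW_mem_monomial F w) hh))
  have hu₀ : u ∈ uMinus chevF4 F (nW F w) := uMinus_le_of_actsAs n (nW F w) _ hact hactw hu
  have e2 : b * n * u = b * (nW F w * h₁ * (nW F w)⁻¹) * nW F w * u := by
    rw [hnh]; group
  have hb₁G := borel_le_group chevF4 f4_mem F hb₁
  have hwG := nW_mem_group hτ w
  have e3 : tauGL F τ (b * (nW F w * h₁ * (nW F w)⁻¹) * nW F w * u) =
      tauGL F τ (b * (nW F w * h₁ * (nW F w)⁻¹)) * nW F w * tauGL F τ u := by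
    rw [tauGL_mul F τ _ _ (Subgroup.mul_mem _ hb₁G hwG) huG,
      tauGL_mul F τ _ _ hb₁G hwG, nW_fix hτ]
  have hfix : tauGL F τ (b * n * u) = b * n * u := by rw [e1]; exact hgτ
  rw [e2, e3] at hfix
  have hu₀' : tauGL F τ u ∈ uMinus chevF4 F (nW F w) := by
    have := tauGL_uMinus hτ (nW F w) hwG u hu₀
    rwa [nW_fix hτ] at this
  have h2 := (canon_unique chevF4 f4_mem F _ _ (nW F w) (nW F w) _ _ (tauGL_borel hτ _ hb₁) hb₁
    (nW_mem_monomial F w) (nW_mem_monomial F w) hu₀' hu₀ hfix).2 rfl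
  exact ⟨_, Subgroup.mem_inf.mpr ⟨hb₁, hb₁G, h2.1⟩, u, Subgroup.mem_inf.mpr ⟨hu₀, huG, h2.2⟩, e2⟩

/-- the components of a fixed element of `B = H U` are fixed -/
theorem fix_borel (b : GL chevF4.Idx F) (hb : b ∈ chevF4.borelSubgroup F ⊓ fixTau F τ) :
    ∃ h ∈ chevF4.diagonalSubgroup F ⊓ fixTau F τ, ∃ u ∈ chevF4.posUnipotent F ⊓ fixTau F τ,
      b = h * u := by
  obtain ⟨hbB, hbG, hbτ⟩ := Subgroup.mem_inf.mp hb
  have hb' : b ∈ ((chevF4.borelSubgroup F : Subgroup (GL chevF4.Idx F)) : Set (GL chevF4.Idx F)) := hbB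
  rw [borel_eq_mul chevF4 f4_mem F] at hb'
  obtain ⟨h, hh, u, hu, rfl⟩ := Set.mem_mul.mp hb'
  have hhG := borel_le_group chevF4 f4_mem F (diagonal_le_borel chevF4 f4_mem F hh)
  have huG := borel_le_group chevF4 f4_mem F (posUnipotent_le_borel chevF4 f4_mem F hu)
  rw [tauGL_mul F τ _ _ hhG huG] at hbτ
  have hh' := tauGL_diagonal hτ h hh
  have hu' := tauGL_posUnipotent hτ u hu
  have e : h⁻¹ * tauGL F τ h = u * (tauGL F τ u)⁻¹ := by
    have : tauGL F τ h = h * u * (tauGL F τ u)⁻¹ := by rw [← hbτ]; group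
    rw [this]; group
  have hmem : h⁻¹ * tauGL F τ h ∈ chevF4.posUnipotent F ⊓ chevF4.diagonalSubgroup F := by
    refine Subgroup.mem_inf.mpr ⟨?_, Subgroup.mul_mem _ (Subgroup.inv_mem _ hh) hh'⟩
    rw [e]
    exact Subgroup.mul_mem _ hu (Subgroup.inv_mem _ hu')
  rw [posUnipotent_inf_diagonalSubgroup chevF4 f4_mem F, Subgroup.mem_bot] at hmem
  have hτh : tauGL F τ h = h := by
    have := congrArg (fun x => h * x) hmem
    simpa using this
  have hτu : tauGL F τ u = u := by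
    rw [hτh] at hbτ
    exact mul_left_cancel hbτ
  exact ⟨h, Subgroup.mem_inf.mpr ⟨hh, hhG, hτh⟩, u, Subgroup.mem_inf.mpr ⟨hu, huG, hτu⟩, rfl⟩

end

end Cfsg.Agent.Lib.Helper11.F4T
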