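import Cfsg.Agent.Lib.Helper7.ChevOrdA
import Cfsg.Agent.Lib.Helper7.ChevUp

/-! Ordered products over a list of roots closed under the commutator formula, in any order in which each
root subgroup normalises the later ones (helper11, generalising helper7's `ChevOrd`). -/

set_option autoImplicit false

namespace Cfsg.Agent.Lib.Helper11.F4T

open Cfsg Cfsg.Lie Matrix Cfsg.Agent.Lib.Helper7

/-- the table check: the roots of the list are distinct, no two are opposite, and the commutator terms of each
root with a later one are later roots -/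
def closedLB (D : ChevalleyDatum) : List ℕ → Bool
  | [] => true
  | r :: l => decide (r < D.nroots) && !(l.contains r) && !(l.contains (D.neg r)) &&
      (l.all fun s => decide (s < D.nroots) && (D.commTerms r s).all fun c => l.contains c.1) &&
      closedLB D l

theorem closedLB_cons (D : ChevalleyDatum) (r : ℕ) (l : List ℕ) (h : closedLB D (r :: l) = true) :
    r < D.nroots ∧ r ∉ l ∧ D.neg r ∉ l ∧
      (∀ s ∈ l, s < D.nroots ∧ ∀ c ∈ D.commTerms r s, c.1 ∈ l) ∧ closedLB D l = true := by
  unfold closedLB at h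
  simp only [Bool.and_eq_true, decide_eq_true_eq, Bool.not_eq_true', List.all_eq_true,
    List.contains_iff_mem] at h
  obtain ⟨⟨⟨⟨h1, h2⟩, h3⟩, h4⟩, h5⟩ := h
  refine ⟨h1, ?_, ?_, ?_, h5⟩
  · intro hm
    have := List.contains_iff_mem.mpr hm
    rw [h2] at this
    exact Bool.false_ne_true this
  · intro hm
    have := List.contains_iff_mem.mpr hm
    rw [h3] at this
    exact Bool.false_ne_true this
  · intro s hs
    exact ⟨(h4 s hs).1, fun c hc => (h4 s hs).2 c hc⟩

theorem closedLB_append (D : ChevalleyDatum) : ∀ (l l' : List ℕ), closedLB D (l ++ l') = true →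
    closedLB D l' = true
  | [], _, h => h
  | r :: l, l', h => closedLB_append D l l' (closedLB_cons D r (l ++ l') h).2.2.2.2

section
variable (D : ChevalleyDatum) (hD : D ∈ [chevG2, chevB2, chevD4, chevF4, chevE6, chevE7, chevE8])
variable (F : Type*) [Field F]
include hD

/-- `X_r` normalises the subgroup generated by the later root subgroups -/
theorem xGL_conj_gensL_closed (r : ℕ) (l : List ℕ) (hl : closedLB D (r :: l) = true) (u : F) :
    ∀ y ∈ gensL D F l, xGL D hD F r u * y * (xGL D hD F r u)⁻¹ ∈ Subgroup.closure (gensL D F l) := by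
  obtain ⟨hr, hrl, hnl, hcl, -⟩ := closedLB_cons D r l hl
  rintro y ⟨s, hs, t, hym⟩
  have hy : y = xGL D hD F s t := Units.ext (by rw [hym, coe_xGL])
  rw [hy]
  have hsr : s ≠ r := fun h => hrl (h ▸ hs)
  have hsn : s ≠ D.neg r := fun h => hnl (h ▸ hs)
  rw [xGL_conj_xGL D hD F r s hr (hcl s hs).1 hsr hsn u t]
  apply Subgroup.mul_mem
  · apply Subgroup.subset_closure
    exact ⟨s, hs, t, coe_xGL D hD F _ _⟩
  · unfold wordGL
    apply Subgroup.list_prod_mem
    intro g hg
    rw [List.mem_map] at hg
    obtain ⟨p, hp, rfl⟩ := hg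
    unfold ChevalleyDatum.commWord at hp
    rw [List.mem_map] at hp
    obtain ⟨c, hc, rfl⟩ := hp
    apply Subgroup.subset_closure
    exact ⟨c.1, (hcl s hs).2 c hc, _, coe_xGL D hD F _ _⟩

/-- every element of `⟨X_r : r ∈ l⟩` is an ordered product -/
theorem exists_ordProd_closed : ∀ (l : List ℕ), closedLB D l = true →
    ∀ g ∈ Subgroup.closure (gensL D F l), ∃ t : ℕ → F, g = ordProd D hD F l t
  | [], _, g, hg => by
    have : gensL D F [] = ∅ := by
      ext g; simp [gensL]
    rw [this, Subgroup.closure_empty, Subgroup.mem_bot] at hg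
    exact ⟨fun _ => 0, by rw [hg, ordProd_nil]⟩
  | r :: l, hl, g, hg => by
    obtain ⟨hr, hrl, hnl, hcl, hl'⟩ := closedLB_cons D r l hl
    have ih := exists_ordProd_closed l hl'
    have hnorm : D.rootSubgroup F r ≤ Subgroup.normalizer (Subgroup.closure (gensL D F l) : Set (GL D.Idx F)) := by
      intro x hx
      obtain ⟨u, rfl⟩ := (mem_rootSubgroup_iff D hD F r x).mp hx
      apply mem_normalizer_closure
      · exact xGL_conj_gensL_closed D hD F r l hl u
      · intro y hy
        rw [xGL_inv]
        exact xGL_conj_gensL_closed D hD F r l hl (-u) y hy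
    rw [closure_gensL_cons D F r l] at hg
    have hg' : g ∈ ((D.rootSubgroup F r ⊔ Subgroup.closure (gensL D F l) : Subgroup (GL D.Idx F)) :
        Set (GL D.Idx F)) := hg
    rw [Subgroup.coe_mul_of_left_le_normalizer_right _ _ hnorm] at hg'
    obtain ⟨x, hx, k, hk, rfl⟩ := Set.mem_mul.mp hg'
    obtain ⟨u, rfl⟩ := (mem_rootSubgroup_iff D hD F r x).mp hx
    obtain ⟨t, rfl⟩ := ih k hk
    refine ⟨Function.update t r u, ?_⟩
    rw [ordProd_cons, Function.update_self]
    congr 1
    apply ordProd_congr
    intro s hs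
    rw [Function.update_of_ne]
    rintro rfl
    exact hrl hs

theorem ordProd_append (l l' : List ℕ) (t : ℕ → F) :
    ordProd D hD F (l ++ l') t = ordProd D hD F l t * ordProd D hD F l' t := by
  unfold ordProd
  rw [List.map_append, wordGL_append]

omit hD in
theorem gensL_mono (l l' : List ℕ) (h : ∀ r ∈ l, r ∈ l') : gensL D F l ⊆ gensL D F l' := by
  rintro g ⟨r, hr, t, hg⟩
  exact ⟨r, h r hr, t, hg⟩

/-- the product decomposition of the group of a closed list cut in two -/
theorem exists_mul_of_closed (l l' : List ℕ) (h : closedLB D (l ++ l') = true)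
    (g : GL D.Idx F) (hg : g ∈ Subgroup.closure (gensL D F (l ++ l'))) :
    ∃ a ∈ Subgroup.closure (gensL D F l), ∃ b ∈ Subgroup.closure (gensL D F l'), g = a * b := by
  obtain ⟨t, rfl⟩ := exists_ordProd_closed D hD F _ h g hg
  exact ⟨_, ordProd_mem D hD F l t, _, ordProd_mem D hD F l' t, ordProd_append D hD F l l' t⟩

end

end Cfsg.Agent.Lib.Helper11.F4T
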