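import Cfsg.Agent.Lib.Helper11.F4Tw3
import Cfsg.Agent.Lib.Helper11.F4Tw4
import Cfsg.Agent.Lib.Helper7.ChevOrd3

/-! The fixed points of the twisting automorphism of `F₄` in the class subgroups `X_J` (helper11). -/

set_option autoImplicit false
set_option maxRecDepth 100000

namespace Cfsg.Agent.Lib.Helper11.F4T

open Cfsg Cfsg.Lie Matrix Cfsg.Agent.Lib.Helper7 Cfsg.Agent.Lib.Helper11 Cfsg.Agent.Lib.Helper11.Isog

/-- the positive roots of the class `J`, in convex order -/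
def clsJ (J : ℕ) : List ℕ := if J = 0 then [33, 24] else [27, 30, 28, 25]

theorem posRoots_F4 : chevF4.posRoots = [24, 25, 26, 27, 28, 29, 30, 31, 32, 33, 34, 35, 36, 37, 38, 39, 40,
    41, 42, 43, 44, 45, 46, 47] := by decide +kernel

section
variable (F : Type*) [Field F]

/-- the class subgroup `X_J = ⟨X_r : r ∈ Φ_J⁺⟩` -/
def XJ (J : ℕ) : Subgroup (GL chevF4.Idx F) := Subgroup.closure (gensL chevF4 F (clsJ J))

/-- parameters supported on the roots of `J₂` -/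
def t4 (c₂₅ c₂₇ c₂₈ c₃₀ : F) : ℕ → F := fun r =>
  if r = 25 then c₂₅ else if r = 27 then c₂₇ else if r = 28 then c₂₈ else if r = 30 then c₃₀ else 0

/-- parameters supported on the roots of `J₁` -/
def t2 (c₂₄ c₃₃ : F) : ℕ → F := fun r => if r = 24 then c₂₄ else if r = 33 then c₃₃ else 0

theorem ordProd_t4 (a b c d : F) : ordProd chevF4 f4_mem F chevF4.posRoots (t4 F a b c d) =
    X F 25 a * X F 27 b * (X F 28 c * X F 30 d) := by
  rw [posRoots_F4]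
  unfold ordProd wordGL t4
  simp [xGL_zero, mul_assoc]

theorem ordProd_t2 (a b : F) : ordProd chevF4 f4_mem F chevF4.posRoots (t2 F a b) =
    X F 24 a * X F 33 b := by
  rw [posRoots_F4]
  unfold ordProd wordGL t2
  simp [xGL_zero]

theorem ordProd_posRoots_inj (t u : ℕ → F)
    (h : ordProd chevF4 f4_mem F chevF4.posRoots t = ordProd chevF4 f4_mem F chevF4.posRoots u) :
    ∀ r ∈ chevF4.posRoots, t r = u r := by
  obtain ⟨w, hO⟩ := exists_ordW chevF4 f4_mem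
  exact ordProd_inj chevF4 f4_mem F _ (chainAdd_linF chevF4 f4_mem w) hO _ (goodL_posRoots chevF4) t u h

theorem pair_inj (s t s' t' : F) (h : X F 33 s * X F 24 t = X F 33 s' * X F 24 t') : s = s' ∧ t = t' := by
  have e : ∀ a b : F, X F 33 a * X F 24 b = ordProd chevF4 f4_mem F chevF4.posRoots (t2 F b a) := by
    intro a b
    rw [ordProd_t2, (pair_comm_pos F a b).eq]
  rw [e, e] at h
  have h1 := ordProd_posRoots_inj F _ _ h
  have h24 := h1 24 (by rw [posRoots_F4]; decide)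
  have h33 := h1 33 (by rw [posRoots_F4]; decide)
  simp only [t2] at h24 h33
  norm_num at h24 h33
  exact ⟨h33, h24⟩

variable (h2 : (2 : F) = 0)
include h2

theorem P4_pos_eq_ordProd (t₁ t₂ t₃ t₄ : F) : P4 (X F 27) (X F 25) (X F 28) (X F 30) t₁ t₂ t₃ t₄ =
    ordProd chevF4 f4_mem F chevF4.posRoots (t4 F t₂ t₁ (t₃ + t₁ * t₂) (t₄ + t₁ ^ 2 * t₂)) := by
  rw [ordProd_t4, (b2Grp_pos F h2).P4_swap]
  congr 1
  · linear_combination (-(t₁ * t₂)) * h2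
  · linear_combination (-(t₁ ^ 2 * t₂)) * h2

theorem P4_pos_inj (t₁ t₂ t₃ t₄ s₁ s₂ s₃ s₄ : F)
    (h : P4 (X F 27) (X F 25) (X F 28) (X F 30) t₁ t₂ t₃ t₄ =
      P4 (X F 27) (X F 25) (X F 28) (X F 30) s₁ s₂ s₃ s₄) :
    t₁ = s₁ ∧ t₂ = s₂ ∧ t₃ = s₃ ∧ t₄ = s₄ := by
  rw [P4_pos_eq_ordProd F h2, P4_pos_eq_ordProd F h2] at h
  have h1 := ordProd_posRoots_inj F _ _ h
  have h25 := h1 25 (by rw [posRoots_F4]; decide)
  have h27 := h1 27 (by rw [posRoots_F4]; decide)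
  have h28 := h1 28 (by rw [posRoots_F4]; decide)
  have h30 := h1 30 (by rw [posRoots_F4]; decide)
  simp only [t4] at h25 h27 h28 h30
  norm_num at h25 h27 h28 h30
  subst h25 h27
  exact ⟨rfl, rfl, add_right_cancel h28, add_right_cancel h30⟩

/-- the elements of `X_{J₂}` are the products `P4` -/
theorem mem_XJ_one (g : GL chevF4.Idx F) (hg : g ∈ XJ F 1) :
    ∃ t₁ t₂ t₃ t₄, g = P4 (X F 27) (X F 25) (X F 28) (X F 30) t₁ t₂ t₃ t₄ := by
  have hB := b2Grp_pos F h2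
  have hle : XJ F 1 ≤ hB.sub h2 := by
    unfold XJ
    rw [Subgroup.closure_le]
    rintro x ⟨r, hr, t, hxm⟩
    have hx : x = X F r t := Units.ext (by rw [hxm, coe_xGL])
    rw [hx]
    have hr' : r = 27 ∨ r = 30 ∨ r = 28 ∨ r = 25 := by
      unfold clsJ at hr
      simpa using hr
    rcases hr' with rfl | rfl | rfl | rfl
    · exact ⟨t, 0, 0, 0, (hB.P4_a t).symm⟩
    · exact ⟨0, 0, 0, t, (hB.P4_aab t).symm⟩
    · exact ⟨0, 0, t, 0, (hB.P4_ab t).symm⟩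
    · exact ⟨0, t, 0, 0, (hB.P4_b t).symm⟩
  exact hle hg

omit h2 in
theorem X_mem_XJ (J r : ℕ) (hr : r ∈ clsJ J) (t : F) : X F r t ∈ XJ F J :=
  Subgroup.subset_closure ⟨r, hr, t, coe_xGL chevF4 f4_mem F _ _⟩

omit h2 in
theorem P4_mem_XJ (t₁ t₂ t₃ t₄ : F) : P4 (X F 27) (X F 25) (X F 28) (X F 30) t₁ t₂ t₃ t₄ ∈ XJ F 1 := by
  unfold P4
  exact Subgroup.mul_mem _ (Subgroup.mul_mem _ (X_mem_XJ F 1 27 (by decide) _) (X_mem_XJ F 1 25 (by decide) _))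
    (Subgroup.mul_mem _ (X_mem_XJ F 1 28 (by decide) _) (X_mem_XJ F 1 30 (by decide) _))

omit h2 in
/-- the elements of `X_{J₁}` -/
theorem mem_XJ_zero (g : GL chevF4.Idx F) (hg : g ∈ XJ F 0) : ∃ s t, g = X F 33 s * X F 24 t := by
  have hc : ∀ r ∈ clsJ 0, ∀ s ∈ clsJ 0, ∀ a b : F, Commute (X F r a) (X F s b) := by
    intro r hr s hs a b
    have hr' : r = 33 ∨ r = 24 := by unfold clsJ at hr; simpa using hr
    have hs' : s = 33 ∨ s = 24 := by unfold clsJ at hs; simpa using hs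
    rcases hr' with rfl | rfl <;> rcases hs' with rfl | rfl
    · show Commute (X F 33 a) (X F 33 b)
      unfold Commute SemiconjBy
      rw [xGL_mul, xGL_mul, add_comm]
    · exact pair_comm_pos F a b
    · exact (pair_comm_pos F b a).symm
    · show Commute (X F 24 a) (X F 24 b)
      unfold Commute SemiconjBy
      rw [xGL_mul, xGL_mul, add_comm]
  obtain ⟨t, ht⟩ := mem_closure_gensL_comm chevF4 f4_mem F (clsJ 0) (by decide) hc g hg
  refine ⟨t 33, t 24, ?_⟩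
  rw [ht]
  unfold clsJ
  simp [ordProd_cons, ordProd_nil]

end

section
variable {F : Type*} [Field F]
variable {τ : ↥(chevF4.group F) ≃* ↥(chevF4.group F)} {θ : ℕ} (hτ : TauData F τ θ)
include hτ

/-- the fixed points in `X_{J₁}` -/
theorem XJ_zero_inf_fixTau (g : GL chevF4.Idx F) : g ∈ XJ F 0 ⊓ fixTau F τ ↔ ∃ t : F, g = pairU θ t := by
  constructor
  · intro hg
    obtain ⟨hX, -, hfix⟩ := Subgroup.mem_inf.mp hg
    obtain ⟨s, t, rfl⟩ := mem_XJ_zero F g hX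
    rw [tauGL_pair_pos hτ] at hfix
    obtain ⟨h1, -⟩ := pair_inj F _ _ _ _ hfix
    exact ⟨t, by rw [pairU_eq, h1]⟩
  · rintro ⟨t, rfl⟩
    refine Subgroup.mem_inf.mpr ⟨?_, wordGL_mem_group chevF4 f4_mem F _, tauGL_pairU hτ t⟩
    rw [pairU_eq]
    exact Subgroup.mul_mem _ (X_mem_XJ F 0 33 (by decide) _) (X_mem_XJ F 0 24 (by decide) _)

/-- the fixed points in `X_{J₂}` -/
theorem XJ_one_inf_fixTau (g : GL chevF4.Idx F) :
    g ∈ XJ F 1 ⊓ fixTau F τ ↔ ∃ t u : F, g = suzU θ t u := by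
  constructor
  · intro hg
    obtain ⟨hX, -, hfix⟩ := Subgroup.mem_inf.mp hg
    obtain ⟨t₁, t₂, t₃, t₄, rfl⟩ := mem_XJ_one F hτ.two g hX
    rw [tauGL_P4_pos hτ] at hfix
    obtain ⟨h1, h2, h3, h4⟩ := P4_pos_inj F hτ.two _ _ _ _ _ _ _ _ hfix
    refine ⟨t₂, t₄ ^ θ, ?_⟩
    rw [suzU_eq]
    have e3 : t₂ ^ (θ + 1) + t₄ ^ θ = t₃ := by
      rw [← h3, ← h1]
      have : t₂ ^ θ * (t₂ ^ θ) ^ (θ * 2) = t₂ ^ (θ + 1) := by rw [pw_two hτ, pow_succ]
      rw [this]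
      exact add_comm _ _
    have e4 : (t₄ ^ θ) ^ (2 * θ) = t₄ := by
      rw [← pow_mul]
      have : θ * (2 * θ) = 2 * θ * θ := by ring
      rw [this, hτ.pow]
    rw [h1, e3, e4]
  · rintro ⟨t, u, rfl⟩
    refine Subgroup.mem_inf.mpr ⟨?_, wordGL_mem_group chevF4 f4_mem F _, tauGL_suzU hτ t u⟩
    rw [suzU_eq]
    exact P4_mem_XJ F _ _ _ _

omit hτ in
theorem pairU_inj (θ : ℕ) (t t' : F) (h : pairU θ t = pairU θ t') : t = t' := by
  rw [pairU_eq, pairU_eq] at h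
  exact (pair_inj F _ _ _ _ h).2

theorem suzU_inj (t u t' u' : F) (h : suzU θ t u = suzU θ t' u') : t = t' ∧ u = u' := by
  rw [suzU_eq, suzU_eq] at h
  obtain ⟨-, h2, h3, -⟩ := P4_pos_inj F hτ.two _ _ _ _ _ _ _ _ h
  refine ⟨h2, ?_⟩
  rw [h2] at h3
  exact add_left_cancel h3

/-- the fixed points of the class subgroups lie in the twisted group -/
theorem XJ_inf_fixTau_le (J : ℕ) : XJ F J ⊓ fixTau F τ ≤ twistedF4 F θ := by
  intro g hg
  by_cases hJ : J = 0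
  · subst hJ
    obtain ⟨t, rfl⟩ := (XJ_zero_inf_fixTau hτ g).mp hg
    exact pairU_mem_twistedF4 θ t
  · have e : XJ F J = XJ F 1 := by
      unfold XJ clsJ
      rw [if_neg hJ, if_neg (show (1 : ℕ) ≠ 0 by decide)]
    rw [e] at hg
    obtain ⟨t, u, rfl⟩ := (XJ_one_inf_fixTau hτ g).mp hg
    exact suzU_mem_twistedF4 θ t u

theorem card_XJ_zero_inf_fixTau : Nat.card ↥(XJ F 0 ⊓ fixTau F τ) = Nat.card F := by
  have e : F ≃ ↥(XJ F 0 ⊓ fixTau F τ) :=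
    Equiv.ofBijective (fun t => ⟨pairU θ t, (XJ_zero_inf_fixTau hτ _).mpr ⟨t, rfl⟩⟩) ⟨by
      intro t t' h
      exact pairU_inj θ t t' (congrArg Subtype.val h), by
      rintro ⟨g, hg⟩
      obtain ⟨t, rfl⟩ := (XJ_zero_inf_fixTau hτ g).mp hg
      exact ⟨t, rfl⟩⟩
  rw [← Nat.card_congr e]

theorem card_XJ_one_inf_fixTau : Nat.card ↥(XJ F 1 ⊓ fixTau F τ) = Nat.card F ^ 2 := by
  have e : (F × F) ≃ ↥(XJ F 1 ⊓ fixTau F τ) :=
    Equiv.ofBijective (fun p => ⟨suzU θ p.1 p.2, (XJ_one_inf_fixTau hτ _).mpr ⟨_, _, rfl⟩⟩) ⟨by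
      rintro ⟨t, u⟩ ⟨t', u'⟩ h
      obtain ⟨h1, h2⟩ := suzU_inj hτ _ _ _ _ (congrArg Subtype.val h)
      simp only at h1 h2
      rw [h1, h2], by
      rintro ⟨g, hg⟩
      obtain ⟨t, u, rfl⟩ := (XJ_one_inf_fixTau hτ g).mp hg
      exact ⟨(t, u), rfl⟩⟩
  rw [← Nat.card_congr e, Nat.card_prod]
  ring

end

end Cfsg.Agent.Lib.Helper11.F4T
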