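import Cfsg.Agent.Lib.Helper11.F4Tw5

/-! The fixed points of the twisting automorphism of `F₄` in `U`: splitting along a chain of class
subgroups (helper11). -/

set_option autoImplicit false
set_option maxRecDepth 100000

namespace Cfsg.Agent.Lib.Helper11.F4T

open Cfsg Cfsg.Lie Matrix Cfsg.Agent.Lib.Helper7 Cfsg.Agent.Lib.Helper11 Cfsg.Agent.Lib.Helper11.Isog

section
variable {F : Type*} [Field F]

/-- the subgroup generated by the root subgroups of a list of roots -/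
abbrev XL (F : Type*) [Field F] (l : List ℕ) : Subgroup (GL chevF4.Idx F) :=
  Subgroup.closure (gensL chevF4 F l)

theorem XL_le_pos (l : List ℕ) (h : ∀ r ∈ l, chevF4.IsPosRoot r) : XL F l ≤ chevF4.posUnipotent F := by
  rw [Subgroup.closure_le]
  rintro g ⟨r, hr, t, hg⟩
  exact Subgroup.subset_closure ⟨r, t, h r hr, hg⟩

theorem XL_le_neg (l : List ℕ) (h : ∀ r ∈ l, chevF4.IsNegRoot r) : XL F l ≤ chevF4.negUnipotent F := by
  rw [Subgroup.closure_le]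
  rintro g ⟨r, hr, t, hg⟩
  exact Subgroup.subset_closure ⟨r, t, h r hr, hg⟩

theorem XL_mono (l l' : List ℕ) (h : ∀ r ∈ l, r ∈ l') : XL F l ≤ XL F l' :=
  Subgroup.closure_mono (gensL_mono chevF4 F l l' h)

/-- two lists of roots sent by an element of `N` to positive, respectively negative, roots generate
subgroups with trivial intersection -/
theorem XL_inf_eq_bot (lA lB : List ℕ) (n : GL chevF4.Idx F) (f : ℕ → ℕ)
    (hn : ActsAs chevF4 f4_mem F n f) (hA : ∀ r ∈ lA, r < 48 ∧ chevF4.IsPosRoot (f r))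
    (hB : ∀ r ∈ lB, r < 48 ∧ chevF4.IsNegRoot (f r)) : XL F lA ⊓ XL F lB = ⊥ := by
  rw [eq_bot_iff]
  intro x hx
  obtain ⟨hxA, hxB⟩ := Subgroup.mem_inf.mp hx
  have h1 := conj_closure_gensL chevF4 f4_mem F n f hn lA (fun r hr => (hA r hr).1) x hxA
  have h2 := conj_closure_gensL chevF4 f4_mem F n f hn lB (fun r hr => (hB r hr).1) x hxB
  have h1' : n * x * n⁻¹ ∈ chevF4.posUnipotent F := by
    refine XL_le_pos _ ?_ h1
    intro r hr
    obtain ⟨s, hs, rfl⟩ := List.mem_map.mp hr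
    exact (hA s hs).2
  have h2' : n * x * n⁻¹ ∈ chevF4.negUnipotent F := by
    refine XL_le_neg _ ?_ h2
    intro r hr
    obtain ⟨s, hs, rfl⟩ := List.mem_map.mp hr
    exact (hB s hs).2
  have h3 : n * x * n⁻¹ ∈ chevF4.posUnipotent F ⊓ chevF4.negUnipotent F := Subgroup.mem_inf.mpr ⟨h1', h2'⟩
  rw [posUnipotent_inf_negUnipotent chevF4 f4_mem F, Subgroup.mem_bot] at h3
  rw [Subgroup.mem_bot]
  have : x = n⁻¹ * (n * x * n⁻¹) * n := by group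
  rw [this, h3]; group

variable {τ : ↥(chevF4.group F) ≃* ↥(chevF4.group F)} {θ : ℕ} (hτ : TauData F τ θ)
include hτ

/-- a `ρ`-stable list of roots generates a `τ`-stable subgroup -/
theorem tauGL_XL (l : List ℕ) (hl : ∀ r ∈ l, r < 48 ∧ rho_F4 r ∈ l) (g : GL chevF4.Idx F)
    (hg : g ∈ XL F l) : g ∈ chevF4.group F ∧ tauGL F τ g ∈ XL F l := by
  refine tauGL_closure hτ _ _ ?_ g hg
  rintro x ⟨r, hr, t, hxm⟩
  have hx : x = X F r t := Units.ext (by rw [hxm, coe_xGL])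
  rw [hx]
  refine ⟨xGL_mem_group chevF4 f4_mem F r t, ?_⟩
  rw [tauGL_xGL hτ r (hl r hr).1]
  exact Subgroup.subset_closure ⟨_, (hl r hr).2, _, coe_xGL chevF4 f4_mem F _ _⟩

/-- splitting the fixed points of `⟨X_r : r ∈ lA ++ lB⟩` -/
theorem split_fix (lA lB : List ℕ) (hcl : closedLB chevF4 (lA ++ lB) = true)
    (hρA : ∀ r ∈ lA, r < 48 ∧ rho_F4 r ∈ lA) (hρB : ∀ r ∈ lB, r < 48 ∧ rho_F4 r ∈ lB)
    (hdisj : XL F lA ⊓ XL F lB = ⊥) (g : GL chevF4.Idx F) (hg : g ∈ XL F (lA ++ lB) ⊓ fixTau F τ) :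
    ∃ a ∈ XL F lA ⊓ fixTau F τ, ∃ b ∈ XL F lB ⊓ fixTau F τ, g = a * b := by
  obtain ⟨hgX, hgG, hgτ⟩ := Subgroup.mem_inf.mp hg
  obtain ⟨a, ha, b, hb, rfl⟩ := exists_mul_of_closed chevF4 f4_mem F lA lB hcl g hgX
  obtain ⟨haG, haτ⟩ := tauGL_XL hτ lA hρA a ha
  obtain ⟨hbG, hbτ⟩ := tauGL_XL hτ lB hρB b hb
  rw [tauGL_mul F τ _ _ haG hbG] at hgτ
  have e : a⁻¹ * tauGL F τ a = b * (tauGL F τ b)⁻¹ := by
    have : tauGL F τ a = a * b * (tauGL F τ b)⁻¹ := by rw [← hgτ]; group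
    rw [this]; group
  have hmem : a⁻¹ * tauGL F τ a ∈ XL F lA ⊓ XL F lB := by
    refine Subgroup.mem_inf.mpr ⟨Subgroup.mul_mem _ (Subgroup.inv_mem _ ha) haτ, ?_⟩
    rw [e]
    exact Subgroup.mul_mem _ hb (Subgroup.inv_mem _ hbτ)
  rw [hdisj, Subgroup.mem_bot] at hmem
  have hfa : tauGL F τ a = a := by
    have := congrArg (fun x => a * x) hmem
    simpa using this
  have hfb : tauGL F τ b = b := by
    rw [hfa] at hgτ
    exact mul_left_cancel hgτ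
  exact ⟨a, Subgroup.mem_inf.mpr ⟨ha, haG, hfa⟩, b, Subgroup.mem_inf.mpr ⟨hb, hbG, hfb⟩, rfl⟩

omit hτ in
/-- uniqueness of the splitting -/
theorem split_unique (lA lB : List ℕ) (hdisj : XL F lA ⊓ XL F lB = ⊥) (a a' b b' : GL chevF4.Idx F)
    (ha : a ∈ XL F lA) (ha' : a' ∈ XL F lA) (hb : b ∈ XL F lB) (hb' : b' ∈ XL F lB)
    (h : a * b = a' * b') : a = a' ∧ b = b' := by
  have e : a'⁻¹ * a = b' * b⁻¹ := by
    have : a = a' * b' * b⁻¹ := by rw [← h]; group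
    rw [this]; group
  have hmem : a'⁻¹ * a ∈ XL F lA ⊓ XL F lB := by
    refine Subgroup.mem_inf.mpr ⟨Subgroup.mul_mem _ (Subgroup.inv_mem _ ha') ha, ?_⟩
    rw [e]
    exact Subgroup.mul_mem _ hb' (Subgroup.inv_mem _ hb)
  rw [hdisj, Subgroup.mem_bot] at hmem
  have haa : a = a' := by
    have := congrArg (fun x => a' * x) hmem
    simpa using this
  refine ⟨haa, ?_⟩
  rw [haa] at h
  exact mul_left_cancel h

/-- the number of fixed points of a split group -/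
theorem card_split_fix (lA lB : List ℕ) (hcl : closedLB chevF4 (lA ++ lB) = true)
    (hρA : ∀ r ∈ lA, r < 48 ∧ rho_F4 r ∈ lA) (hρB : ∀ r ∈ lB, r < 48 ∧ rho_F4 r ∈ lB)
    (hdisj : XL F lA ⊓ XL F lB = ⊥) :
    Nat.card ↥(XL F (lA ++ lB) ⊓ fixTau F τ) =
      Nat.card ↥(XL F lA ⊓ fixTau F τ) * Nat.card ↥(XL F lB ⊓ fixTau F τ) := by
  have hmemAB : ∀ (a b : GL chevF4.Idx F), a ∈ XL F lA ⊓ fixTau F τ → b ∈ XL F lB ⊓ fixTau F τ →
      a * b ∈ XL F (lA ++ lB) ⊓ fixTau F τ := by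
    intro a b ha hb
    obtain ⟨ha1, ha2⟩ := Subgroup.mem_inf.mp ha
    obtain ⟨hb1, hb2⟩ := Subgroup.mem_inf.mp hb
    refine Subgroup.mem_inf.mpr ⟨?_, Subgroup.mul_mem _ ha2 hb2⟩
    exact Subgroup.mul_mem _ (XL_mono lA _ (fun r hr => List.mem_append_left _ hr) ha1)
      (XL_mono lB _ (fun r hr => List.mem_append_right _ hr) hb1)
  have e : (↥(XL F lA ⊓ fixTau F τ) × ↥(XL F lB ⊓ fixTau F τ)) ≃ ↥(XL F (lA ++ lB) ⊓ fixTau F τ) :=
    Equiv.ofBijective (fun p => ⟨p.1.1 * p.2.1, hmemAB _ _ p.1.2 p.2.2⟩) ⟨by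
      rintro ⟨⟨a, ha⟩, ⟨b, hb⟩⟩ ⟨⟨a', ha'⟩, ⟨b', hb'⟩⟩ h
      have h' : a * b = a' * b' := congrArg Subtype.val h
      obtain ⟨h1, h2⟩ := split_unique lA lB hdisj a a' b b' (Subgroup.mem_inf.mp ha).1
        (Subgroup.mem_inf.mp ha').1 (Subgroup.mem_inf.mp hb).1 (Subgroup.mem_inf.mp hb').1 h'
      subst h1 h2
      rfl, by
      rintro ⟨g, hg⟩
      obtain ⟨a, ha, b, hb, rfl⟩ := split_fix hτ lA lB hcl hρA hρB hdisj g hg
      exact ⟨(⟨a, ha⟩, ⟨b, hb⟩), rfl⟩⟩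
  rw [← Nat.card_congr e, Nat.card_prod]

end

end Cfsg.Agent.Lib.Helper11.F4T
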