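import Cfsg.Agent.Lib.Helper11.F4Tw3
import Cfsg.Agent.Lib.Helper7.ChevHCardTab
import Cfsg.Agent.Lib.Helper7.ChevLongCent

/-! The torus of `²F₄`: fixed diagonal elements are determined by two diagonal entries (helper11, following
helper7's `G2Tw6`). -/

set_option autoImplicit false
set_option maxRecDepth 100000

namespace Cfsg.Agent.Lib.Helper11.F4T

open Cfsg Cfsg.Lie Matrix Cfsg.Agent.Lib.Helper7 Cfsg.Agent.Lib.Helper11 Cfsg.Agent.Lib.Helper11.Isog

section
variable {F : Type*} [Field F]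

/-- a diagonal element whose character is trivial on the fundamental roots is trivial -/
theorem diag_eq_one_of_simple (k : GL chevF4.Idx F) (hk : k ∈ chevF4.diagonalSubgroup F) (χ : ℕ → F)
    (hkm : (k : Matrix chevF4.Idx chevF4.Idx F) = diagChar chevF4 F χ)
    (h1 : ∀ i < chevF4.rank, χ (chevF4.simple i) = 1) : k = 1 := by
  obtain ⟨c, hc⟩ := hOf_surj chevF4 f4_mem F k hk
  have hm := coe_hOf chevF4 f4_mem F c
  rw [hc, hkm] at hm
  have hz : ∀ i : Fin chevF4.rank, zact (cartanA chevF4) c i = 1 := by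
    intro i
    have hi := (fundFacts_of_mem chevF4 f4_mem i.val i.isLt).hp
    have h2 := congrFun (Matrix.diagonal_injective hm) (Sum.inr ⟨chevF4.simple i, hi⟩)
    simp only [Sum.elim_inr] at h2
    rw [← unitChar_simple chevF4 F c i]
    apply Units.ext
    rw [← h2, h1 i.val i.isLt]
    rfl
  apply Units.ext
  rw [← hc, coe_hOf chevF4 f4_mem F c]
  show diagChar chevF4 F _ = 1
  unfold diagChar
  rw [← Matrix.diagonal_one]
  congr 1
  funext x
  rcases x with j | s
  · rfl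
  · simp only [Sum.elim_inr]
    rw [unitChar_root chevF4 F hcA_F4 hcR_F4 rootCoefOKB_F4 c s.val s.isLt]
    simp [hz]

/-- the diagonal entry at the root vector `e_r` -/
def ce (r : ℕ) (g : GL chevF4.Idx F) : F :=
  if hr : r < chevF4.nroots then (g : Matrix chevF4.Idx chevF4.Idx F) (Sum.inr ⟨r, hr⟩) (Sum.inr ⟨r, hr⟩)
  else 1

theorem ce_diag (h : GL chevF4.Idx F) (χ : ℕ → F)
    (hh : (h : Matrix chevF4.Idx chevF4.Idx F) = diagChar chevF4 F χ) (r : ℕ) (hr : r < 48) :
    ce r h = χ r := by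
  unfold ce
  rw [dif_pos (show r < chevF4.nroots from hr), hh]
  unfold diagChar
  rw [Matrix.diagonal_apply_eq]
  rfl

theorem ce_mul (h h' : GL chevF4.Idx F) (hh : h ∈ chevF4.diagonalSubgroup F)
    (hh' : h' ∈ chevF4.diagonalSubgroup F) (r : ℕ) (hr : r < 48) : ce r (h * h') = ce r h * ce r h' := by
  obtain ⟨χ, hχ, e⟩ := mem_diagonalSubgroup_char chevF4 f4_mem F h hh
  obtain ⟨ψ, hψ, e'⟩ := mem_diagonalSubgroup_char chevF4 f4_mem F h' hh'
  have : ((h * h' : GL chevF4.Idx F) : Matrix chevF4.Idx chevF4.Idx F) =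
      diagChar chevF4 F (fun s => χ s * ψ s) := by
    rw [Units.val_mul, e, e', diagChar_mul]
  rw [ce_diag _ _ this r hr, ce_diag _ _ e r hr, ce_diag _ _ e' r hr]

theorem ce_ne_zero (h : GL chevF4.Idx F) (hh : h ∈ chevF4.diagonalSubgroup F) (r : ℕ) (hr : r < 48) :
    ce r h ≠ 0 := by
  obtain ⟨χ, hχ, e⟩ := mem_diagonalSubgroup_char chevF4 f4_mem F h hh
  rw [ce_diag _ _ e r hr]
  exact hχ.ne0 r hr

/-- the conjugate by an element of `N` of a diagonal element: the entries are permuted -/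
theorem ce_conj (n : GL chevF4.Idx F) (f : ℕ → ℕ) (hn : ActsAs chevF4 f4_mem F n f)
    (hnN : n ∈ chevF4.monomialSubgroup F) (h : GL chevF4.Idx F) (hh : h ∈ chevF4.diagonalSubgroup F)
    (r : ℕ) (hr : r < 48) : ce (f r) (n * h * n⁻¹) = ce r h := by
  have hh' : n * h * n⁻¹ ∈ chevF4.diagonalSubgroup F := conj_diagonal_mem n h hnN hh
  obtain ⟨χ, hχ, e⟩ := mem_diagonalSubgroup_char chevF4 f4_mem F h hh
  obtain ⟨ψ, hψ, e'⟩ := mem_diagonalSubgroup_char chevF4 f4_mem F _ hh'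
  obtain ⟨hfr, c, hc, hact⟩ := hn r hr
  have hfr' : f r < 48 := hfr
  rw [ce_diag _ _ e' (f r) hfr', ce_diag _ _ e r hr]
  -- compare the two actions on `x_{f r}(c)`
  have h1 := diagGL_xGL_comm chevF4 f4_mem F _ ψ hψ e' (f r) (c * 1)
  have h2 : n * h * n⁻¹ * xGL chevF4 f4_mem F (f r) (c * 1) =
      xGL chevF4 f4_mem F (f r) (c * (χ r * 1)) * (n * h * n⁻¹) := by
    rw [← hact 1, ← hact (χ r * 1)]
    have h3 := diagGL_xGL_comm chevF4 f4_mem F h χ hχ e r 1
    calc n * h * n⁻¹ * (n * xGL chevF4 f4_mem F r 1 * n⁻¹)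
        = n * (h * xGL chevF4 f4_mem F r 1) * n⁻¹ := by group
      _ = n * (xGL chevF4 f4_mem F r (χ r * 1) * h) * n⁻¹ := by rw [h3]
      _ = _ := by group
  rw [h1] at h2
  have h4 := xGL_param_inj chevF4 f4_mem F (f r) hfr _ _ (mul_right_cancel h2)
  have : ψ (f r) * c = χ r * c := by
    have : ψ (f r) * (c * 1) = c * (χ r * 1) := h4
    linear_combination this
  exact mul_right_cancel₀ hc this

variable {τ : ↥(chevF4.group F) ≃* ↥(chevF4.group F)} {θ : ℕ} (hτ : TauData F τ θ)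
include hτ

/-- the character of a fixed diagonal element is compatible with the twist -/
theorem char_fix (h : GL chevF4.Idx F) (hh : h ∈ chevF4.diagonalSubgroup F ⊓ fixTau F τ)
    (χ : ℕ → F) (hχ : ChainChar chevF4 F χ)
    (e : (h : Matrix chevF4.Idx chevF4.Idx F) = diagChar chevF4 F χ) (r : ℕ) (hr : r < 48) :
    χ (rho_F4 r) = χ r ^ eF4 θ r := by
  obtain ⟨hH, hG, hfix⟩ := Subgroup.mem_inf.mp hh
  have h1 := diagGL_xGL_comm chevF4 f4_mem F h χ hχ e r 1
  have hxG : ∀ t : F, xGL chevF4 f4_mem F r t ∈ chevF4.group F := fun t =>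
    xGL_mem_group chevF4 f4_mem F r t
  have h2 := congrArg (tauGL F τ) h1
  rw [tauGL_mul F τ _ _ hG (hxG _), tauGL_mul F τ _ _ (hxG _) hG, hfix, tauGL_xGL hτ r hr,
    tauGL_xGL hτ r hr, diagGL_xGL_comm chevF4 f4_mem F h χ hχ e (rho_F4 r)] at h2
  have h3 := xGL_param_inj chevF4 f4_mem F (rho_F4 r) (rho_F4_lt r hr) _ _ (mul_right_cancel h2)
  rw [one_pow, mul_one, mul_one] at h3
  exact h3

/-- a fixed diagonal element with trivial entries at `p₁` and `p₂` is trivial -/
theorem fixH_eq_one (h : GL chevF4.Idx F) (hh : h ∈ chevF4.diagonalSubgroup F ⊓ fixTau F τ)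
    (h33 : ce 33 h = 1) (h27 : ce 27 h = 1) : h = 1 := by
  obtain ⟨χ, hχ, e⟩ := mem_diagonalSubgroup_char chevF4 f4_mem F h (Subgroup.mem_inf.mp hh).1
  rw [ce_diag _ _ e 33 (by decide)] at h33
  rw [ce_diag _ _ e 27 (by decide)] at h27
  have c24 : χ 24 = 1 := by
    have := char_fix hτ h hh χ hχ e 33 (by decide)
    rw [h33, one_pow] at this
    exact this
  have c25 : χ 25 = 1 := by
    have := char_fix hτ h hh χ hχ e 27 (by decide)
    rw [h27, one_pow] at this
    exact this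
  apply diag_eq_one_of_simple h (Subgroup.mem_inf.mp hh).1 χ e
  intro i hi
  have hi' : i < 4 := hi
  interval_cases i
  · exact h33
  · exact h27
  · exact c25
  · exact c24

end

end Cfsg.Agent.Lib.Helper11.F4T
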