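import Cfsg.Agent.Lib.Helper11.F4Tw0
import Cfsg.Agent.Lib.Helper7.ChevWeylChainF4
import Cfsg.Agent.Lib.Helper7.ChevWeylChain2
import Cfsg.Agent.Lib.Helper7.ChevWeylEnum
import Cfsg.Agent.Lib.Helper7.ChevTwistRank1

/-! The `ρ`-stable part of the Weyl group of `F₄` is dihedral of order 16: the table check (helper11). -/

set_option autoImplicit false
set_option maxRecDepth 100000

namespace Cfsg.Agent.Lib.Helper11.F4T

open Cfsg Cfsg.Lie Matrix Cfsg.Agent.Lib.Helper7

/-- the two class words: `w_{J₁} = s₁ s₄`, `w_{J₂} = (s₂ s₃)²` -/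
def wJ (J : ℕ) : List ℕ := if J = 0 then [0, 3] else [1, 2, 1, 2]

/-- the word in the fundamental reflections of a word in the classes -/
def flatW (L : List ℕ) : List ℕ := L.flatMap wJ

/-- the permutation of the roots of a word in the fundamental reflections, as a list -/
def permW (L : List ℕ) : List ℕ := (List.range 48).map (reflWord chevF4 L)

/-- the alternating word of length `k` starting with `J` -/
def altW (J : ℕ) : ℕ → List ℕ
  | 0 => []
  | k + 1 => J :: altW (1 - J) k

/-- the 16 reduced words of the dihedral group -/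
def words16 : List (List ℕ) := (List.range 9).map (altW 0) ++ (List.range' 1 7).map (altW 1)

/-- their permutations -/
def perms16 : List (List ℕ) := words16.map fun L => permW (flatW L)

theorem wJ_lt (J : ℕ) : ∀ i ∈ wJ J, i < chevF4.rank := by
  unfold wJ
  split_ifs <;> decide

theorem flatW_lt (L : List ℕ) : ∀ i ∈ flatW L, i < chevF4.rank := by
  intro i hi
  unfold flatW at hi
  rw [List.mem_flatMap] at hi
  obtain ⟨J, -, hJ⟩ := hi
  exact wJ_lt J i hJ

theorem flatW_cons (J : ℕ) (L : List ℕ) : flatW (J :: L) = wJ J ++ flatW L := by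
  simp [flatW]

theorem flatW_nil : flatW [] = [] := rfl

theorem flatW_append (L L' : List ℕ) : flatW (L ++ L') = flatW L ++ flatW L' := by
  simp [flatW]

/-- the normal forms as a list -/
def nfList : List ChainLevel → List (List ℕ)
  | [] => [[]]
  | L :: Ls => (List.range L.elems.length).flatMap fun e => (nfList Ls).map fun es => e :: es

theorem mem_nfList : ∀ (Ls : List ChainLevel) (es : List ℕ), IsNF Ls es → es ∈ nfList Ls
  | [], es, h => by
    have : es = [] := h
    rw [this]; exact List.mem_singleton.mpr rfl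
  | L :: Ls, [], h => absurd h (by simp [IsNF])
  | L :: Ls, e :: es, h => by
    have h' : e < L.elems.length ∧ IsNF Ls es := h
    show e :: es ∈ (List.range L.elems.length).flatMap fun e => (nfList Ls).map fun es => e :: es
    rw [List.mem_flatMap]
    exact ⟨e, List.mem_range.mpr h'.1, List.mem_map.mpr ⟨es, mem_nfList Ls es h'.2, rfl⟩⟩

/-- the check for one normal form -/
def rhoChk (e : List ℕ) : Bool :=
  !(([24, 25, 27, 33] : List ℕ).all fun s => (nfPerm 48 weylChain_F4.levels e).getD (rho_F4 s) 0 ==
      rho_F4 ((nfPerm 48 weylChain_F4.levels e).getD s 0)) ||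
    perms16.contains (nfPerm 48 weylChain_F4.levels e)

theorem rhoChk_all : (nfList weylChain_F4.levels).all rhoChk = true := by decide +kernel

theorem weylF4_comm_rho_aux (e : List ℕ) (he : e ∈ nfFin weylChain_F4.levels)
    (h : ∀ s < 48, (nfPerm 48 weylChain_F4.levels e).getD (rho_F4 s) 0 =
        rho_F4 ((nfPerm 48 weylChain_F4.levels e).getD s 0)) :
    nfPerm 48 weylChain_F4.levels e ∈ perms16 := by
  have h1 := List.all_eq_true.mp rhoChk_all e (mem_nfList _ _ ((mem_nfFin _ _).mp he))
  unfold rhoChk at h1
  rw [Bool.or_eq_true] at h1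
  rcases h1 with h1 | h1
  · exfalso
    rw [Bool.not_eq_true', ← Bool.not_eq_true, List.all_eq_true] at h1
    apply h1
    intro s hs
    rw [beq_iff_eq]
    exact h s (by revert hs; revert s; decide)
  · exact List.contains_iff_mem.mp h1

end Cfsg.Agent.Lib.Helper11.F4T
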