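import Mathlib
import Cfsg.Prelude.Def_GeometricClasses
import Cfsg.Agent.Lib.Helper20.AschDefs
import Cfsg.Agent.Lib.Helper20.FCDefs

/-!
FORM-CLIFFORD block (helper20's market), leaf (B5) `caseB_pair` (helper11): PAIRING of the components of a Clifford
decomposition under a fixed-point-free duality `τ`.
-/

set_option autoImplicit false
set_option linter.unusedSectionVars false
set_option linter.unusedVariables false

namespace Cfsg.Agent.Lib.Helper11.FCLeaf
open Matrix Cfsg.Geo Cfsg.Agent.Lib.Helper20.Asch Cfsg.Agent.Lib.Helper20.FC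

/-! ### combinatorics of a fixed-point-free involution of `Fin t` -/

section comb

variable {t : ℕ} (τ : Fin t → Fin t)

/-- the lower elements of the pairs `{i, τ i}` -/
abbrev PLow : Type := {i : Fin t // i < τ i}

/-- the number of pairs -/
def pcard : ℕ := Fintype.card (PLow τ)

/-- enumeration of the pairs -/
noncomputable def penum : PLow τ ≃ Fin (pcard τ) := Fintype.equivFin _

/-- the lower element of the `k`-th pair -/
noncomputable def prep (k : Fin (pcard τ)) : Fin t := ((penum τ).symm k).1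

theorem prep_lt (k : Fin (pcard τ)) : prep τ k < τ (prep τ k) := ((penum τ).symm k).2

variable (hinv : ∀ i, τ (τ i) = i) (hfp : ∀ i, τ i ≠ i)

include hinv hfp in
theorem tau_lt_of_not_lt (i : Fin t) (h : ¬ i < τ i) : τ i < τ (τ i) := by
  rw [hinv]
  exact lt_of_le_of_ne (not_lt.1 h) (hfp i)

/-- the index of the pair of `i` -/
noncomputable def pidx (i : Fin t) : Fin (pcard τ) :=
  if h : i < τ i then penum τ ⟨i, h⟩ else penum τ ⟨τ i, tau_lt_of_not_lt τ hinv hfp i h⟩

theorem pidx_prep (k : Fin (pcard τ)) : pidx τ hinv hfp (prep τ k) = k := by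
  unfold pidx
  rw [dif_pos (prep_lt τ k)]
  have h : (⟨prep τ k, prep_lt τ k⟩ : PLow τ) = (penum τ).symm k := Subtype.ext rfl
  rw [h, Equiv.apply_symm_apply]

theorem prep_pidx (i : Fin t) : prep τ (pidx τ hinv hfp i) = i ∨ prep τ (pidx τ hinv hfp i) = τ i := by
  unfold pidx prep
  split_ifs with h
  · left; simp
  · right; simp

theorem pidx_tau (i : Fin t) : pidx τ hinv hfp (τ i) = pidx τ hinv hfp i := by
  unfold pidx
  by_cases h : i < τ i
  · have h' : ¬ τ i < τ (τ i) := by rw [hinv]; exact not_lt.2 h.le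
    rw [dif_pos h, dif_neg h']
    congr 1
    exact Subtype.ext (hinv i)
  · have h' : τ i < τ (τ i) := tau_lt_of_not_lt τ hinv hfp i h
    rw [dif_neg h, dif_pos h']

theorem pidx_eq (i j : Fin t) (h : pidx τ hinv hfp i = pidx τ hinv hfp j) : j = i ∨ j = τ i := by
  have hτinj : Function.Injective τ := fun a b hab => by rw [← hinv a, hab, hinv]
  rcases prep_pidx τ hinv hfp i with h1 | h1 <;> rcases prep_pidx τ hinv hfp j with h2 | h2 <;>
    rw [h] at h1
  · left; rw [← h2, h1]
  · right; rw [← h1, h2, hinv]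
  · right; rw [← h1, h2]
  · left; exact hτinj (by rw [← h2, h1])

include hinv hfp in
theorem le_two_mul_pcard : t ≤ 2 * pcard τ := by
  classical
  have hinj : Function.Injective (fun i : Fin t => (pidx τ hinv hfp i, decide (i < τ i))) := by
    intro i j hij
    simp only [Prod.mk.injEq, decide_eq_decide] at hij
    obtain ⟨h1, h2⟩ := hij
    rcases pidx_eq τ hinv hfp i j h1 with h | h
    · exact h.symm
    · exfalso
      rw [h, hinv] at h2
      by_cases hi : i < τ i
      · exact absurd (h2.1 hi) (not_lt.2 hi.le)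
      · exact hi (h2.2 (lt_of_le_of_ne (not_lt.1 hi) (hfp i)))
  have := Fintype.card_le_of_injective _ hinj
  simpa [mul_comm] using this

end comb

/-! ### orthogonality lemmas -/

section orth

variable {F : Type*} [Field F] {n : ℕ} {σ : F →+* F} {f : (Fin n → F) → (Fin n → F) → F}

theorem orth_sup_left (hf : RSForm σ f) {A B C : Submodule F (Fin n → F)} (hA : AreOrthogonalFor f A C)
    (hB : AreOrthogonalFor f B C) : AreOrthogonalFor f (A ⊔ B) C := by
  intro u hu v hv
  obtain ⟨a, ha, b, hb, rfl⟩ := Submodule.mem_sup.1 hu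
  rw [hf.add_left, hA a ha v hv, hB b hb v hv, add_zero]

theorem orth_sup_right (hf : RSForm σ f) {A B C : Submodule F (Fin n → F)} (hA : AreOrthogonalFor f C A)
    (hB : AreOrthogonalFor f C B) : AreOrthogonalFor f C (A ⊔ B) := by
  intro u hu v hv
  obtain ⟨a, ha, b, hb, rfl⟩ := Submodule.mem_sup.1 hv
  rw [hf.add_right, hA u hu a ha, hB u hu b hb, add_zero]

theorem orth_iSup_right (hf : RSForm σ f) {κ : Sort*} {A : Submodule F (Fin n → F)}
    {C : κ → Submodule F (Fin n → F)} (h : ∀ k, AreOrthogonalFor f A (C k)) :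
    AreOrthogonalFor f A (⨆ k, C k) := by
  intro u hu v hv
  refine Submodule.iSup_induction C (motive := fun v => f u v = 0) hv (fun k x hx => h k u hu x hx)
    (hf.zero_right u) (fun x y hx hy => by rw [hf.add_right, hx, hy, add_zero])

/-- (B3), local copy: a subspace with an orthogonal supplement is non-degenerate -/
theorem nondegOn_of_compl_aux (hf : RSForm σ f) {W W' : Submodule F (Fin n → F)} (hsup : W ⊔ W' = ⊤)
    (horth : AreOrthogonalFor f W W') : IsNondegenerateOn f W := by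
  intro w hw hw0
  obtain ⟨⟨x, hx⟩, ⟨x', hx'⟩⟩ := hf.nondeg w hw0
  constructor
  · have hxm : x ∈ W ⊔ W' := by rw [hsup]; trivial
    obtain ⟨a, ha, b, hb, rfl⟩ := Submodule.mem_sup.1 hxm
    refine ⟨a, ha, ?_⟩
    rw [hf.add_left, hf.refl _ _ (horth w hw b hb), add_zero] at hx
    exact hx
  · have hxm : x' ∈ W ⊔ W' := by rw [hsup]; trivial
    obtain ⟨a, ha, b, hb, rfl⟩ := Submodule.mem_sup.1 hxm
    refine ⟨a, ha, ?_⟩
    rw [hf.add_right, horth w hw b hb, add_zero] at hx'
    exact hx'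

end orth

/-! ### (B5) -/

section main

variable {F : Type*} [Field F] [Fintype F] {n : ℕ}

/-- (B5) case B with more than two components: PAIRING. -/
theorem caseB_pair {σ : F →+* F} {f : (Fin n → F) → (Fin n → F) → F} (hf : RSForm σ f)
    {Y : Subgroup (GL (Fin n) F)} (hiso : Isoms Y f) {t m : ℕ}
    {D : Fin t → Submodule F (Fin n → F)} (hD : IsMDecomposition m D)
    (hstab : Y ≤ decompositionStabilizer D)
    (htr : ∀ i j, ∃ y ∈ Y, (D i).map (Matrix.toLin' (y : Matrix (Fin n) (Fin n) F)) = D j)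
    (τ : Fin t → Fin t) (hinv : ∀ i, τ (τ i) = i) (hfp : ∀ i, τ i ≠ i)
    (horth : ∀ i j, j ≠ τ i → AreOrthogonalFor f (D i) (D j))
    (hcompat : ∀ y ∈ Y, ∀ ρ : Equiv.Perm (Fin t),
      (∀ i, (D i).map (Matrix.toLin' (y : Matrix (Fin n) (Fin n) F)) = D (ρ i)) → ∀ i, ρ (τ i) = τ (ρ i))
    (ht : t ≠ 2) : OutA f Y := by
  classical
  have hDne : ∀ i, D i ≠ ⊥ := by
    intro i h
    have h1 := hD.finrank_eq i
    rw [h, finrank_bot] at h1
    exact absurd h1.symm (Nat.pos_iff_ne_zero.1 hD.pos)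
  have hDinj : Function.Injective D := hD.indep.injective hDne
  obtain ⟨D', hD'def⟩ : ∃ D' : Fin (pcard τ) → Submodule F (Fin n → F),
      ∀ k, D' k = D (prep τ k) ⊔ D (τ (prep τ k)) := ⟨_, fun k => rfl⟩
  have hD'pi : ∀ i, D' (pidx τ hinv hfp i) = D i ⊔ D (τ i) := by
    intro i
    rw [hD'def]
    rcases prep_pidx τ hinv hfp i with h | h
    · rw [h]
    · rw [h, hinv, sup_comm]
  have hne_idx : ∀ k l : Fin (pcard τ), k ≠ l → ∀ a b : Fin t, pidx τ hinv hfp a = k →
      pidx τ hinv hfp b = l → b ≠ τ a := by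
    intro k l hkl a b ha hb hba
    apply hkl
    rw [← ha, ← hb, hba, pidx_tau]
  have horth' : ∀ k l, k ≠ l → AreOrthogonalFor f (D' k) (D' l) := by
    intro k l hkl
    have hk1 : pidx τ hinv hfp (prep τ k) = k := pidx_prep τ hinv hfp k
    have hk2 : pidx τ hinv hfp (τ (prep τ k)) = k := by rw [pidx_tau, pidx_prep]
    have hl1 : pidx τ hinv hfp (prep τ l) = l := pidx_prep τ hinv hfp l
    have hl2 : pidx τ hinv hfp (τ (prep τ l)) = l := by rw [pidx_tau, pidx_prep]
    rw [hD'def, hD'def]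
    exact orth_sup_left hf
      (orth_sup_right hf (horth _ _ (hne_idx k l hkl _ _ hk1 hl1)) (horth _ _ (hne_idx k l hkl _ _ hk1 hl2)))
      (orth_sup_right hf (horth _ _ (hne_idx k l hkl _ _ hk2 hl1)) (horth _ _ (hne_idx k l hkl _ _ hk2 hl2)))
  have hsupD' : iSup D' = ⊤ := by
    rw [eq_top_iff, ← hD.iSup_eq_top]
    apply iSup_le
    intro i
    have h1 : D i ≤ D' (pidx τ hinv hfp i) := by rw [hD'pi]; exact le_sup_left
    exact le_trans h1 (le_iSup D' _)
  have hcompl : ∀ k, D' k ⊔ (⨆ l, ⨆ (_ : l ≠ k), D' l) = ⊤ := by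
    intro k
    rw [eq_top_iff, ← hsupD']
    apply iSup_le
    intro l
    by_cases hlk : l = k
    · rw [hlk]; exact le_sup_left
    · exact le_trans (le_iSup₂ (f := fun l (_ : l ≠ k) => D' l) l hlk) le_sup_right
  have horthc : ∀ k, AreOrthogonalFor f (D' k) (⨆ l, ⨆ (_ : l ≠ k), D' l) := by
    intro k
    exact orth_iSup_right hf (fun l => orth_iSup_right hf (fun hl => horth' k l (Ne.symm hl)))
  have hnd : ∀ k, IsNondegenerateOn f (D' k) := fun k => nondegOn_of_compl_aux hf (hcompl k) (horthc k)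
  have hindep : iSupIndep D' := by
    intro k
    rw [Submodule.disjoint_def]
    intro x hx hx'
    by_contra hx0
    obtain ⟨⟨u, hu, hux⟩, _⟩ := hnd k x hx hx0
    exact hux (horthc k u hu x hx')
  have hfr : ∀ k, Module.finrank F (D' k) = 2 * m := by
    intro k
    have hdisj : D (prep τ k) ⊓ D (τ (prep τ k)) = ⊥ := by
      have hne : prep τ k ≠ τ (prep τ k) := fun h => hfp (prep τ k) h.symm
      exact disjoint_iff.1 (hD.indep.pairwiseDisjoint hne)
    have h := Submodule.finrank_sup_add_finrank_inf_eq (D (prep τ k)) (D (τ (prep τ k)))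
    rw [hdisj, finrank_bot, add_zero, hD.finrank_eq, hD.finrank_eq] at h
    rw [hD'def]
    omega
  have htwo : 2 ≤ pcard τ := by
    have h1 := le_two_mul_pcard τ hinv hfp
    have h2 := hD.two_le
    omega
  have hmap : ∀ y ∈ Y, ∀ ρ : Equiv.Perm (Fin t),
      (∀ i, (D i).map (Matrix.toLin' (y : Matrix (Fin n) (Fin n) F)) = D (ρ i)) →
      ∀ k, (D' k).map (Matrix.toLin' (y : Matrix (Fin n) (Fin n) F)) = D' (pidx τ hinv hfp (ρ (prep τ k))) := by
    intro y hy ρ hρ k
    rw [hD'def, Submodule.map_sup, hρ, hρ, hcompat y hy ρ hρ, hD'pi]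
  have hstab' : Y ≤ decompositionStabilizer D' := by
    intro y hy
    obtain ⟨ρ, hρ⟩ := hstab hy
    have hinj : Function.Injective (fun k => pidx τ hinv hfp (ρ (prep τ k))) := by
      intro k l hkl
      rcases pidx_eq τ hinv hfp _ _ hkl with h | h
      · have h' := ρ.injective h
        rw [← pidx_prep τ hinv hfp k, ← pidx_prep τ hinv hfp l, h']
      · rw [← hcompat y hy ρ hρ] at h
        have h' := ρ.injective h
        rw [← pidx_prep τ hinv hfp k, ← pidx_prep τ hinv hfp l, h', pidx_tau]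
    refine ⟨Equiv.ofBijective _ (Finite.injective_iff_bijective.1 hinj), fun k => ?_⟩
    rw [Equiv.ofBijective_apply]
    exact hmap y hy ρ hρ k
  have htr' : ∀ k l, ∃ y ∈ Y, (D' k).map (Matrix.toLin' (y : Matrix (Fin n) (Fin n) F)) = D' l := by
    intro k l
    obtain ⟨y, hy, hyk⟩ := htr (prep τ k) (prep τ l)
    obtain ⟨ρ, hρ⟩ := hstab hy
    refine ⟨y, hy, ?_⟩
    have h1 : ρ (prep τ k) = prep τ l := hDinj (by rw [← hρ, hyk])
    rw [hmap y hy ρ hρ k, h1, pidx_prep]
  have hpos : 0 < 2 * m := by have := hD.pos; omega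
  exact ⟨pcard τ, 2 * m, D', ⟨⟨htwo, hpos, hfr, hindep, hsupD'⟩, hnd, horth'⟩, hstab', htr'⟩

end main

end Cfsg.Agent.Lib.Helper11.FCLeaf
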