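import Mathlib
import Cfsg.Prelude.Def_GeometricClasses
import Cfsg.Agent.Lib.Helper20.AschDefs
import Cfsg.Agent.Lib.Helper20.FCDefs
import Cfsg.Agent.Lib.Helper11.FCCaseB

/-!
FORM-CLIFFORD block (helper20's market), leaf (C3) `reducible_cases` (helper11): the reducible case, via the
perpendicular space of a minimal invariant subspace.
-/

set_option autoImplicit false
set_option linter.unusedSectionVars false
set_option linter.unusedVariables false

namespace Cfsg.Agent.Lib.Helper11.FCLeaf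
open Matrix Cfsg.Geo Cfsg.Agent.Lib.Helper20.Asch Cfsg.Agent.Lib.Helper20.FC

section aux

variable {F : Type*} [Field F] {n : ℕ} {σ : F →+* F} {f : (Fin n → F) → (Fin n → F) → F}

/-- the (left) perpendicular space of `W` -/
def perpL (hf : RSForm σ f) (W : Submodule F (Fin n → F)) : Submodule F (Fin n → F) where
  carrier := {u | ∀ w ∈ W, f u w = 0}
  add_mem' := by
    intro a b ha hb w hw
    rw [hf.add_left, ha w hw, hb w hw, add_zero]
  zero_mem' := fun w _ => hf.zero_left w
  smul_mem' := by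
    intro c a ha w hw
    rw [hf.smul_left, ha w hw, mul_zero]

theorem mem_perpL (hf : RSForm σ f) (W : Submodule F (Fin n → F)) (u : Fin n → F) :
    u ∈ perpL hf W ↔ ∀ w ∈ W, f u w = 0 := Iff.rfl

theorem perpL_orth (hf : RSForm σ f) (W : Submodule F (Fin n → F)) : AreOrthogonalFor f (perpL hf W) W :=
  fun u hu w hw => hu w hw

theorem orth_perpL (hf : RSForm σ f) (W : Submodule F (Fin n → F)) : AreOrthogonalFor f W (perpL hf W) :=
  hf.orth_symm (perpL_orth hf W)

/-- the functional `u ↦ f u w` -/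
def lfun (hf : RSForm σ f) (w : Fin n → F) : (Fin n → F) →ₗ[F] F where
  toFun := fun u => f u w
  map_add' := fun x y => hf.add_left x y w
  map_smul' := fun c x => by rw [hf.smul_left]; rfl

/-- `n ≤ finrank W + finrank (perp W)` -/
theorem le_finrank_add_perpL (hf : RSForm σ f) (W : Submodule F (Fin n → F)) :
    n ≤ Module.finrank F W + Module.finrank F (perpL hf W) := by
  classical
  set k := Module.finrank F W with hk
  let b : Module.Basis (Fin k) F W := Module.finBasis F W
  let Φ : (Fin n → F) →ₗ[F] (Fin k → F) := LinearMap.pi (fun i => lfun hf (b i : Fin n → F))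
  have hker : LinearMap.ker Φ ≤ perpL hf W := by
    intro u hu w hw
    have hu' : ∀ i, f u (b i : Fin n → F) = 0 := by
      intro i
      have := congrFun (LinearMap.mem_ker.1 hu) i
      exact this
    have hw' : w = ∑ i, (b.repr ⟨w, hw⟩ i) • (b i : Fin n → F) := by
      have h := b.sum_repr ⟨w, hw⟩
      have h' := congrArg (Submodule.subtype W) h
      rw [map_sum] at h'
      simpa using h'.symm
    rw [hw', hf.sum_right]
    apply Finset.sum_eq_zero
    intro i _
    rw [hf.smul_right, hu' i, mul_zero]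
  have h1 := LinearMap.finrank_range_add_finrank_ker Φ
  rw [Module.finrank_fin_fun] at h1
  have h2 : Module.finrank F (LinearMap.range Φ) ≤ k := by
    have := Submodule.finrank_le (LinearMap.range Φ)
    rwa [Module.finrank_fin_fun] at this
  have h3 : Module.finrank F (LinearMap.ker Φ) ≤ Module.finrank F (perpL hf W) :=
    Submodule.finrank_mono hker
  omega

/-! ### invariant subspaces -/

/-- `Y`-invariance of a subspace -/
def YInv (Y : Subgroup (GL (Fin n) F)) (U : Submodule F (Fin n → F)) : Prop :=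
  ∀ y ∈ Y, ∀ v ∈ U, (y : Matrix (Fin n) (Fin n) F) *ᵥ v ∈ U

theorem yinv_iff_mem {Y : Subgroup (GL (Fin n) F)} {U : Submodule F (Fin n → F)} (hU : YInv Y U)
    {y : GL (Fin n) F} (hy : y ∈ Y) (v : Fin n → F) :
    v ∈ U ↔ (y : Matrix (Fin n) (Fin n) F) *ᵥ v ∈ U := by
  constructor
  · exact hU y hy v
  · intro h
    have := hU y⁻¹ (Y.inv_mem hy) _ h
    rwa [Matrix.mulVec_mulVec, ← Units.val_mul, inv_mul_cancel, Units.val_one, Matrix.one_mulVec] at this

theorem le_subspaceStabilizer_of_yinv {Y : Subgroup (GL (Fin n) F)} {U : Submodule F (Fin n → F)}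
    (hU : YInv Y U) : Y ≤ subspaceStabilizer U :=
  fun y hy v => yinv_iff_mem hU hy v

theorem map_eq_of_yinv {Y : Subgroup (GL (Fin n) F)} {U : Submodule F (Fin n → F)} (hU : YInv Y U)
    {y : GL (Fin n) F} (hy : y ∈ Y) : U.map (Matrix.toLin' (y : Matrix (Fin n) (Fin n) F)) = U := by
  apply le_antisymm
  · rintro _ ⟨v, hv, rfl⟩
    rw [Matrix.toLin'_apply]
    exact hU y hy v hv
  · intro v hv
    refine ⟨((y⁻¹ : GL (Fin n) F) : Matrix (Fin n) (Fin n) F) *ᵥ v, hU y⁻¹ (Y.inv_mem hy) v hv, ?_⟩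
    rw [Matrix.toLin'_apply, Matrix.mulVec_mulVec, ← Units.val_mul, mul_inv_cancel, Units.val_one,
      Matrix.one_mulVec]

theorem yinv_perpL (hf : RSForm σ f) {Y : Subgroup (GL (Fin n) F)} (hiso : Isoms Y f)
    {W : Submodule F (Fin n → F)} (hW : YInv Y W) : YInv Y (perpL hf W) := by
  intro y hy u hu w hw
  have hw' : ((y⁻¹ : GL (Fin n) F) : Matrix (Fin n) (Fin n) F) *ᵥ w ∈ W := hW y⁻¹ (Y.inv_mem hy) w hw
  have h := hiso y hy u (((y⁻¹ : GL (Fin n) F) : Matrix (Fin n) (Fin n) F) *ᵥ w)
  rw [Matrix.mulVec_mulVec, ← Units.val_mul, mul_inv_cancel, Units.val_one, Matrix.one_mulVec] at h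
  rw [h]
  exact hu _ hw'

theorem yinv_inf {Y : Subgroup (GL (Fin n) F)} {U U' : Submodule F (Fin n → F)} (hU : YInv Y U)
    (hU' : YInv Y U') : YInv Y (U ⊓ U') :=
  fun y hy v hv => ⟨hU y hy v hv.1, hU' y hy v hv.2⟩

end aux

/-! ### (C3) -/

section main

variable {F : Type*} [Field F] [Fintype F] {n : ℕ}

/-- (B3) `nondegOn_of_compl` in the exact form of the market (re-export of `nondegOn_of_compl_aux`) -/
theorem nondegOn_of_compl {σ : F →+* F} {f : (Fin n → F) → (Fin n → F) → F} (hf : RSForm σ f)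
    {W W' : Submodule F (Fin n → F)} (hsup : W ⊔ W' = ⊤) (horth : AreOrthogonalFor f W W') :
    IsNondegenerateOn f W := nondegOn_of_compl_aux hf hsup horth

/-- (C3) REDUCIBLE CASE (generic). -/
theorem reducible_cases {σ : F →+* F} {f : (Fin n → F) → (Fin n → F) → F} (hf : RSForm σ f)
    {Y : Subgroup (GL (Fin n) F)} (hiso : Isoms Y f) (hred : ¬ Irr Y) :
    (∃ W : Submodule F (Fin n → F), W ≠ ⊥ ∧ IsTotallySingularFor f W ∧ Y ≤ subspaceStabilizer W) ∨
    (∃ W : Submodule F (Fin n → F), W ≠ ⊥ ∧ IsNondegenerateOn f W ∧ 2 * Module.finrank F W < n ∧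
      Y ≤ subspaceStabilizer W) ∨
    (∃ (k : ℕ) (D : Fin 2 → Submodule F (Fin n → F)), IsNondegenerateMDecomposition f k D ∧
      Y ≤ decompositionStabilizer D) := by
  classical
  have hex : ∃ W : Submodule F (Fin n → F), W ≠ ⊥ ∧ W ≠ ⊤ ∧ YInv Y W := by
    unfold Irr ActsIrreducibly at hred
    push Not at hred
    obtain ⟨W, hW, h0, h1⟩ := hred
    refine ⟨W, h0, h1, fun y hy v hv => ?_⟩
    have h := hW (y : Matrix (Fin n) (Fin n) F) ⟨y, hy, rfl⟩
    exact h ⟨v, hv, by rw [Matrix.toLin'_apply]⟩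
  obtain ⟨W, ⟨hW0, hW1, hWinv⟩, hmin⟩ := WellFounded.has_min
    (measure (fun W : Submodule F (Fin n → F) => Module.finrank F W)).wf
    {W | W ≠ ⊥ ∧ W ≠ ⊤ ∧ YInv Y W} hex
  have hminimal : ∀ U : Submodule F (Fin n → F), U ≤ W → YInv Y U → U = ⊥ ∨ U = W := by
    intro U hUW hU
    by_cases hU0 : U = ⊥
    · exact Or.inl hU0
    · right
      have hU1 : U ≠ ⊤ := fun h => hW1 (top_le_iff.1 (h ▸ hUW))
      have h := hmin U ⟨hU0, hU1, hU⟩
      exact Submodule.eq_of_le_of_finrank_le hUW (not_lt.1 h)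
  have hPinv := yinv_perpL hf hiso hWinv
  rcases hminimal (W ⊓ perpL hf W) inf_le_left (yinv_inf hWinv hPinv) with h | h
  · -- `W ⊓ perp W = ⊥`
    have h1 := le_finrank_add_perpL hf W
    have h2 := Submodule.finrank_sup_add_finrank_inf_eq W (perpL hf W)
    rw [h, finrank_bot, add_zero] at h2
    have h3 : Module.finrank F (W ⊔ perpL hf W : Submodule F (Fin n → F)) ≤ n := by
      have := Submodule.finrank_le (W ⊔ perpL hf W)
      rwa [Module.finrank_fin_fun] at this
    have hsup : W ⊔ perpL hf W = ⊤ := by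
      apply Submodule.eq_top_of_finrank_eq
      rw [Module.finrank_fin_fun]
      omega
    have hsum : Module.finrank F W + Module.finrank F (perpL hf W) = n := by omega
    have hWnd : IsNondegenerateOn f W := nondegOn_of_compl_aux hf hsup (orth_perpL hf W)
    have hPnd : IsNondegenerateOn f (perpL hf W) :=
      nondegOn_of_compl_aux hf (by rw [sup_comm]; exact hsup) (perpL_orth hf W)
    have hWlt : Module.finrank F W < n := by
      have := Submodule.finrank_lt hW1
      rwa [Module.finrank_fin_fun] at this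
    have hWpos : 0 < Module.finrank F W := by
      rw [Module.finrank_pos_iff, Submodule.nontrivial_iff_ne_bot]
      exact hW0
    rcases lt_trichotomy (2 * Module.finrank F W) n with hlt | heq | hgt
    · exact Or.inr (Or.inl ⟨W, hW0, hWnd, hlt, le_subspaceStabilizer_of_yinv hWinv⟩)
    · refine Or.inr (Or.inr ⟨Module.finrank F W, ![W, perpL hf W], ⟨⟨le_refl 2, hWpos, ?_, ?_, ?_⟩, ?_, ?_⟩, ?_⟩)
      · rw [Fin.forall_fin_two]
        refine ⟨rfl, ?_⟩
        show Module.finrank F (perpL hf W) = Module.finrank F W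
        omega
      · rw [iSupIndep_pair (i := (0 : Fin 2)) (j := 1) (by decide) (by decide)]
        exact disjoint_iff.2 h
      · rw [eq_top_iff, ← hsup]
        exact sup_le (le_iSup ![W, perpL hf W] 0) (le_iSup ![W, perpL hf W] 1)
      · rw [Fin.forall_fin_two]
        exact ⟨hWnd, hPnd⟩
      · rw [Fin.forall_fin_two]
        refine ⟨?_, ?_⟩ <;> rw [Fin.forall_fin_two]
        · exact ⟨fun h => absurd rfl h, fun _ => orth_perpL hf W⟩
        · exact ⟨fun _ => perpL_orth hf W, fun h => absurd rfl h⟩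
      · intro y hy
        refine ⟨1, ?_⟩
        rw [Fin.forall_fin_two]
        exact ⟨map_eq_of_yinv hWinv hy, map_eq_of_yinv hPinv hy⟩
    · have hP0 : perpL hf W ≠ ⊥ := by
        intro h0
        rw [h0, finrank_bot] at hsum
        omega
      exact Or.inr (Or.inl ⟨perpL hf W, hP0, hPnd, by omega, le_subspaceStabilizer_of_yinv hPinv⟩)
  · -- `W ≤ perp W`
    left
    refine ⟨W, hW0, fun u hu v hv => ?_, le_subspaceStabilizer_of_yinv hWinv⟩
    have hu' : u ∈ perpL hf W := (inf_eq_left.1 h) hu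
    exact hu' v hv

end main

end Cfsg.Agent.Lib.Helper11.FCLeaf
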