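import Mathlib
import Cfsg.Agent.Lib.Helper29.FrDefs
import Cfsg.Agent.Lib.Helper29.FrStdDefs

/-!
S5696 part 2 (helper29's market), the transport block: R0 (`card_eq_of_decomp`), R1 (`exists_frame`),
R2 (`exists_P`).
-/

set_option autoImplicit false
set_option linter.unusedSectionVars false
set_option linter.unusedVariables false

namespace Cfsg.Agent.Lib.Helper11.Fr2Leaf
open Matrix Cfsg.Agent.Lib.Helper11.Mono Cfsg.Agent.Lib.Helper15.MonoLeaf Cfsg.Agent.Lib.Helper2.MonoLeaf
  Cfsg.Agent.Lib.Helper29.Fr Cfsg.Agent.Lib.Helper29.FrStd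

variable {F : Type*} [Field F] [Fintype F] {ι : Type} [Fintype ι] [DecidableEq ι]

omit [Fintype F] in
/-- a line of a decomposition into lines has a generator -/
lemma fr2_exists_gen {n t : ℕ} (D : Fin t → Submodule F (Fin n → F))
    (hD : Cfsg.Geo.IsMDecomposition 1 D) (i : Fin t) :
    ∃ x : Fin n → F, x ≠ 0 ∧ D i = Submodule.span F {x} := by
  have h1 := hD.finrank_eq i
  obtain ⟨v, hv0, hv⟩ := finrank_eq_one_iff'.mp h1
  refine ⟨v, fun h => hv0 (Subtype.ext h), ?_⟩
  apply le_antisymm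
  · intro w hw
    obtain ⟨c, hc⟩ := hv ⟨w, hw⟩
    rw [Submodule.mem_span_singleton]
    exact ⟨c, by simpa using congrArg Subtype.val hc⟩
  · rw [Submodule.span_singleton_le_iff_mem]
    exact v.2

omit [Fintype F] in
/-- generators of the lines of a decomposition form a basis -/
lemma fr2_basis {n t : ℕ} (D : Fin t → Submodule F (Fin n → F))
    (hD : Cfsg.Geo.IsMDecomposition 1 D) (x : Fin t → Fin n → F) (hx0 : ∀ i, x i ≠ 0)
    (hxD : ∀ i, D i = Submodule.span F {x i}) :
    LinearIndependent F x ∧ ⊤ ≤ Submodule.span F (Set.range x) := by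
  constructor
  · exact hD.indep.linearIndependent D
      (fun i => by rw [hxD i]; exact Submodule.mem_span_singleton_self _) hx0
  · rw [Submodule.span_range_eq_iSup, ← hD.iSup_eq_top]
    exact le_of_eq (iSup_congr fun i => hxD i)

/-- R0 -/
theorem card_eq_of_decomp {n t : ℕ} (D : Fin t → Submodule F (Fin n → F))
    (hD : Cfsg.Geo.IsMDecomposition 1 D) : t = n := by
  choose x hx0 hxD using fr2_exists_gen D hD
  obtain ⟨hli, hsp⟩ := fr2_basis D hD x hx0 hxD
  have h1 := Module.finrank_eq_card_basis (Module.Basis.mk hli hsp)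
  rw [Module.finrank_fin_fun, Fintype.card_fin] at h1
  exact h1.symm

/-- R1 -/
theorem exists_frame {n t : ℕ} (Qf : QuadraticForm F (Fin n → F))
    (D : Fin t → Submodule F (Fin n → F))
    (hD : Cfsg.Geo.IsOrthogonalMDecomposition ⇑Qf 1 D) :
    ∃ (c : F) (x : Fin t → Fin n → F), c ≠ 0 ∧ (∀ i, Qf (x i) = c) ∧
      (∀ i, D i = Submodule.span F {x i}) ∧
      ∀ i j, i ≠ j → QuadraticMap.polar Qf (x i) (x j) = 0 := by
  have hdec := hD.decomp.decomp
  have ht : 0 < t := by
    have := hdec.two_le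
    omega
  obtain ⟨v₀, hv₀0, hv₀D⟩ := fr2_exists_gen D hdec ⟨0, ht⟩
  have hv₀mem : v₀ ∈ D ⟨0, ht⟩ := by
    rw [hv₀D]
    exact Submodule.mem_span_singleton_self _
  have hc : Qf v₀ ≠ 0 := by
    obtain ⟨⟨y, hyD, hy⟩, -⟩ := hD.decomp.nondegenerate ⟨0, ht⟩ v₀ hv₀mem hv₀0
    rw [hv₀D, Submodule.mem_span_singleton] at hyD
    obtain ⟨a, rfl⟩ := hyD
    intro h0
    apply hy
    rw [QuadraticMap.polar_smul_left, QuadraticMap.polar_self, h0, smul_zero, smul_zero]
  have hex : ∀ i, ∃ x : Fin n → F, x ∈ D i ∧ Qf x = Qf v₀ := by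
    intro i
    obtain ⟨e, he⟩ := hD.isometric ⟨0, ht⟩ i
    exact ⟨(e ⟨v₀, hv₀mem⟩ : Fin n → F), (e ⟨v₀, hv₀mem⟩).2, he ⟨v₀, hv₀mem⟩⟩
  choose x hxmem hxQ using hex
  have hx0 : ∀ i, x i ≠ 0 := by
    intro i h0
    have h1 := hxQ i
    rw [h0, QuadraticMap.map_zero] at h1
    exact hc h1.symm
  refine ⟨Qf v₀, x, hc, hxQ, ?_, ?_⟩
  · intro i
    obtain ⟨v, hv0, hvD⟩ := fr2_exists_gen D hdec i
    have h1 := hxmem i
    rw [hvD, Submodule.mem_span_singleton] at h1
    obtain ⟨a, ha⟩ := h1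
    have ha0 : a ≠ 0 := by
      intro h0
      rw [h0, zero_smul] at ha
      exact hx0 i ha.symm
    rw [hvD, ← ha]
    exact (Submodule.span_singleton_smul_eq (IsUnit.mk0 a ha0) v).symm
  · intro i j hij
    exact hD.decomp.orthogonal i j hij (x i) (hxmem i) (x j) (hxmem j)

omit [Fintype F] in
/-- a quadratic form is additive on pairwise orthogonal families -/
lemma fr2_map_sum_of_orth {V : Type*} [AddCommGroup V] [Module F V] (Q : QuadraticForm F V)
    {κ : Type*} [DecidableEq κ] (s : Finset κ) (y : κ → V)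
    (h : ∀ i ∈ s, ∀ j ∈ s, i ≠ j → QuadraticMap.polar Q (y i) (y j) = 0) :
    Q (∑ i ∈ s, y i) = ∑ i ∈ s, Q (y i) := by
  induction s using Finset.induction_on with
  | empty => simp
  | insert a s ha ih =>
    rw [Finset.sum_insert ha, Finset.sum_insert ha]
    have h1 : QuadraticMap.polar Q (y a) (∑ i ∈ s, y i) = 0 := by
      have h2 : QuadraticMap.polar Q (y a) (∑ i ∈ s, y i) =
          ∑ i ∈ s, QuadraticMap.polar Q (y a) (y i) :=
        map_sum (QuadraticMap.polarBilin Q (y a)) y s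
      rw [h2]
      apply Finset.sum_eq_zero
      intro i hi
      exact h a (Finset.mem_insert_self a s) i (Finset.mem_insert_of_mem hi)
        (fun hai => ha (hai ▸ hi))
    have h3 : Q (y a + ∑ i ∈ s, y i) = Q (y a) + Q (∑ i ∈ s, y i) +
        QuadraticMap.polar Q (y a) (∑ i ∈ s, y i) := by
      unfold QuadraticMap.polar
      abel
    rw [h3, h1, add_zero, ih (fun i hi j hj hij =>
      h i (Finset.mem_insert_of_mem hi) j (Finset.mem_insert_of_mem hj) hij)]

/-- R2 -/
theorem exists_P {n : ℕ} (Qf : QuadraticForm F (Fin n → F)) (D : Fin n → Submodule F (Fin n → F))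
    (hD : Cfsg.Geo.IsOrthogonalMDecomposition ⇑Qf 1 D) (c : F) (x : Fin n → Fin n → F)
    (hx : ∀ i, Qf (x i) = c)
    (hxD : ∀ i, D i = Submodule.span F {x i})
    (horth : ∀ i j, i ≠ j → QuadraticMap.polar Qf (x i) (x j) = 0) :
    ∃ P : GL (Fin n) F, (∀ j, (P : Matrix (Fin n) (Fin n) F) *ᵥ (Pi.single j (1 : F)) = x j) ∧
      Qf.comp (Matrix.toLin' (P : Matrix (Fin n) (Fin n) F)) = stdQ (Fin n) F c := by
  have hdec := hD.decomp.decomp
  have hx0 : ∀ i, x i ≠ 0 := by
    intro i h0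
    have h1 := hdec.finrank_eq i
    rw [hxD i, h0, Submodule.span_zero_singleton, finrank_bot] at h1
    exact zero_ne_one h1
  obtain ⟨hli, hsp⟩ := fr2_basis D hdec x hx0 hxD
  let b : Module.Basis (Fin n) F (Fin n → F) := Module.Basis.mk hli hsp
  have hb : ∀ i, b i = x i := fun i => Module.Basis.mk_apply hli hsp i
  let φ : (Fin n → F) ≃ₗ[F] (Fin n → F) := b.equivFun.symm
  have hφ : ∀ v, φ v = ∑ i, v i • x i := by
    intro v
    change b.equivFun.symm v = _
    rw [Module.Basis.equivFun_symm_apply]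
    exact Finset.sum_congr rfl fun i _ => by rw [hb]
  let P : GL (Fin n) F :=
    ⟨LinearMap.toMatrix' (φ : (Fin n → F) →ₗ[F] (Fin n → F)),
      LinearMap.toMatrix' (φ.symm : (Fin n → F) →ₗ[F] (Fin n → F)),
      by rw [← LinearMap.toMatrix'_comp]; simp,
      by rw [← LinearMap.toMatrix'_comp]; simp⟩
  have hPv : ∀ v, (P : Matrix (Fin n) (Fin n) F) *ᵥ v = ∑ i, v i • x i := by
    intro v
    change LinearMap.toMatrix' (φ : (Fin n → F) →ₗ[F] (Fin n → F)) *ᵥ v = _
    rw [LinearMap.toMatrix'_mulVec]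
    exact hφ v
  refine ⟨P, ?_, ?_⟩
  · intro j
    rw [hPv, Finset.sum_eq_single j]
    · rw [Pi.single_eq_same, one_smul]
    · intro i _ hij
      rw [Pi.single_eq_of_ne hij, zero_smul]
    · intro h
      exact absurd (Finset.mem_univ j) h
  · ext v
    rw [QuadraticMap.comp_apply, Matrix.toLin'_apply, hPv, stdQ_apply,
      fr2_map_sum_of_orth Qf Finset.univ (fun i => v i • x i), Finset.mul_sum]
    · apply Finset.sum_congr rfl
      intro i _
      rw [QuadraticMap.map_smul, hx i, smul_eq_mul]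
      ring
    · intro i _ j _ hij
      rw [QuadraticMap.polar_smul_left, QuadraticMap.polar_smul_right, horth i j hij, smul_zero,
        smul_zero]

end Cfsg.Agent.Lib.Helper11.Fr2Leaf
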