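import Mathlib
import Cfsg.Agent.Lib.Helper29.FrDefs
import Cfsg.Agent.Lib.Helper29.FrStdDefs
import Cfsg.Agent.Lib.Helper11.Fr2R
import Cfsg.Agent.Lib.Helper11.UTrans

/-!
S5679 / S5696 (helper29's market), the transport block for an ARBITRARY index type `ι`:
R0g (`card_eq_of_decomp_gen`), R1g (`exists_frame_gen`), R2g (`exists_P_gen`),
R3g (`conj_mem_stab_gen`), R4g (`isMono_of_conj_mem_stab_gen`).
-/

set_option autoImplicit false
set_option linter.unusedSectionVars false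
set_option linter.unusedVariables false

namespace Cfsg.Agent.Lib.Helper11.Fr2Leaf
open Matrix Cfsg.Agent.Lib.Helper11.Mono Cfsg.Agent.Lib.Helper15.MonoLeaf Cfsg.Agent.Lib.Helper2.MonoLeaf
  Cfsg.Agent.Lib.Helper29.Fr Cfsg.Agent.Lib.Helper29.FrStd

variable {F : Type*} [Field F] [Fintype F] {ι : Type} [Fintype ι] [DecidableEq ι]

omit [Fintype F] in
/-- a line of a decomposition into lines has a generator -/
lemma fr2g_exists_gen {t : ℕ} (D : Fin t → Submodule F (ι → F))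
    (hD : Cfsg.Geo.IsMDecomposition 1 D) (i : Fin t) :
    ∃ x : ι → F, x ≠ 0 ∧ D i = Submodule.span F {x} := by
  have h1 := hD.finrank_eq i
  obtain ⟨v, hv0, hv⟩ := finrank_eq_one_iff'.mp h1
  refine ⟨v, fun h => hv0 (Subtype.ext h), ?_⟩
  apply le_antisymm
  · intro w hw
    obtain ⟨c, hc⟩ := hv ⟨w, hw⟩
    rw [Submodule.mem_span_singleton]
    exact ⟨c, by simpa using congrArg Subtype.val hc⟩
  · rw [Submodule.span_singleton_le_iff_mem]
    exact v.2

omit [Fintype F] in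
/-- generators of the lines of a decomposition form a basis -/
lemma fr2g_basis {t : ℕ} (D : Fin t → Submodule F (ι → F))
    (hD : Cfsg.Geo.IsMDecomposition 1 D) (x : Fin t → ι → F) (hx0 : ∀ i, x i ≠ 0)
    (hxD : ∀ i, D i = Submodule.span F {x i}) :
    LinearIndependent F x ∧ ⊤ ≤ Submodule.span F (Set.range x) := by
  constructor
  · exact hD.indep.linearIndependent D
      (fun i => by rw [hxD i]; exact Submodule.mem_span_singleton_self _) hx0
  · rw [Submodule.span_range_eq_iSup, ← hD.iSup_eq_top]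
    exact le_of_eq (iSup_congr fun i => hxD i)

/-- R0g -/
theorem card_eq_of_decomp_gen {t : ℕ} (D : Fin t → Submodule F (ι → F))
    (hD : Cfsg.Geo.IsMDecomposition 1 D) :
    t = Fintype.card ι := by
  choose x hx0 hxD using fr2g_exists_gen D hD
  obtain ⟨hli, hsp⟩ := fr2g_basis D hD x hx0 hxD
  have h1 := Module.finrank_eq_card_basis (Module.Basis.mk hli hsp)
  rw [Module.finrank_fintype_fun_eq_card, Fintype.card_fin] at h1
  exact h1.symm

/-- R1g -/
theorem exists_frame_gen {t : ℕ} (Qf : QuadraticForm F (ι → F)) (D : Fin t → Submodule F (ι → F))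
    (hD : Cfsg.Geo.IsOrthogonalMDecomposition ⇑Qf 1 D) :
    ∃ (c : F) (x : Fin t → ι → F), c ≠ 0 ∧ (∀ i, Qf (x i) = c) ∧ (∀ i, D i = Submodule.span F {x i}) ∧
      ∀ i j, i ≠ j → QuadraticMap.polar Qf (x i) (x j) = 0 := by
  have hdec := hD.decomp.decomp
  have ht : 0 < t := by
    have := hdec.two_le
    omega
  obtain ⟨v₀, hv₀0, hv₀D⟩ := fr2g_exists_gen D hdec ⟨0, ht⟩
  have hv₀mem : v₀ ∈ D ⟨0, ht⟩ := by
    rw [hv₀D]
    exact Submodule.mem_span_singleton_self _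
  have hc : Qf v₀ ≠ 0 := by
    obtain ⟨⟨y, hyD, hy⟩, -⟩ := hD.decomp.nondegenerate ⟨0, ht⟩ v₀ hv₀mem hv₀0
    rw [hv₀D, Submodule.mem_span_singleton] at hyD
    obtain ⟨a, rfl⟩ := hyD
    intro h0
    apply hy
    rw [QuadraticMap.polar_smul_left, QuadraticMap.polar_self, h0, smul_zero, smul_zero]
  have hex : ∀ i, ∃ x : ι → F, x ∈ D i ∧ Qf x = Qf v₀ := by
    intro i
    obtain ⟨e, he⟩ := hD.isometric ⟨0, ht⟩ i
    exact ⟨(e ⟨v₀, hv₀mem⟩ : ι → F), (e ⟨v₀, hv₀mem⟩).2, he ⟨v₀, hv₀mem⟩⟩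
  choose x hxmem hxQ using hex
  have hx0 : ∀ i, x i ≠ 0 := by
    intro i h0
    have h1 := hxQ i
    rw [h0, QuadraticMap.map_zero] at h1
    exact hc h1.symm
  refine ⟨Qf v₀, x, hc, hxQ, ?_, ?_⟩
  · intro i
    obtain ⟨v, hv0, hvD⟩ := fr2g_exists_gen D hdec i
    have h1 := hxmem i
    rw [hvD, Submodule.mem_span_singleton] at h1
    obtain ⟨a, ha⟩ := h1
    have ha0 : a ≠ 0 := by
      intro h0
      rw [h0, zero_smul] at ha
      exact hx0 i ha.symm
    rw [hvD, ← ha]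
    exact (Submodule.span_singleton_smul_eq (IsUnit.mk0 a ha0) v).symm
  · intro i j hij
    exact hD.decomp.orthogonal i j hij (x i) (hxmem i) (x j) (hxmem j)

/-- R2g: `P` has the frame vector `x i` as its column `e i` -/
theorem exists_P_gen {t : ℕ} (Qf : QuadraticForm F (ι → F)) (D : Fin t → Submodule F (ι → F))
    (hD : Cfsg.Geo.IsOrthogonalMDecomposition ⇑Qf 1 D) (c : F) (x : Fin t → ι → F) (hx : ∀ i, Qf (x i) = c)
    (hxD : ∀ i, D i = Submodule.span F {x i})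
    (horth : ∀ i j, i ≠ j → QuadraticMap.polar Qf (x i) (x j) = 0) (e : Fin t ≃ ι) :
    ∃ P : GL ι F, (∀ i, (P : Matrix ι ι F) *ᵥ (Pi.single (e i) (1 : F)) = x i) ∧
      Qf.comp (Matrix.toLin' (P : Matrix ι ι F)) = stdQ ι F c := by
  have hdec := hD.decomp.decomp
  have hx0 : ∀ i, x i ≠ 0 := by
    intro i h0
    have h1 := hdec.finrank_eq i
    rw [hxD i, h0, Submodule.span_zero_singleton, finrank_bot] at h1
    exact zero_ne_one h1
  obtain ⟨hli, hsp⟩ := fr2g_basis D hdec x hx0 hxD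
  let b : Module.Basis ι F (ι → F) := (Module.Basis.mk hli hsp).reindex e
  have hb : ∀ k, b k = x (e.symm k) := by
    intro k
    change ((Module.Basis.mk hli hsp).reindex e) k = _
    rw [Module.Basis.reindex_apply, Module.Basis.mk_apply]
  let φ : (ι → F) ≃ₗ[F] (ι → F) := b.equivFun.symm
  have hφ : ∀ v, φ v = ∑ k, v k • x (e.symm k) := by
    intro v
    change b.equivFun.symm v = _
    rw [Module.Basis.equivFun_symm_apply]
    exact Finset.sum_congr rfl fun k _ => by rw [hb]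
  let P : GL ι F :=
    ⟨LinearMap.toMatrix' (φ : (ι → F) →ₗ[F] (ι → F)),
      LinearMap.toMatrix' (φ.symm : (ι → F) →ₗ[F] (ι → F)),
      by rw [← LinearMap.toMatrix'_comp]; simp,
      by rw [← LinearMap.toMatrix'_comp]; simp⟩
  have hPv : ∀ v, (P : Matrix ι ι F) *ᵥ v = ∑ k, v k • x (e.symm k) := by
    intro v
    change LinearMap.toMatrix' (φ : (ι → F) →ₗ[F] (ι → F)) *ᵥ v = _
    rw [LinearMap.toMatrix'_mulVec]
    exact hφ v
  refine ⟨P, ?_, ?_⟩
  · intro i
    rw [hPv, Finset.sum_eq_single (e i)]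
    · rw [Pi.single_eq_same, one_smul, Equiv.symm_apply_apply]
    · intro k _ hk
      rw [Pi.single_eq_of_ne hk, zero_smul]
    · intro h
      exact absurd (Finset.mem_univ _) h
  · ext v
    rw [QuadraticMap.comp_apply, Matrix.toLin'_apply, hPv, stdQ_apply,
      fr2_map_sum_of_orth Qf Finset.univ (fun k => v k • x (e.symm k)), Finset.mul_sum]
    · apply Finset.sum_congr rfl
      intro k _
      rw [QuadraticMap.map_smul, hx, smul_eq_mul]
      ring
    · intro k _ k' _ hkk'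
      rw [QuadraticMap.polar_smul_left, QuadraticMap.polar_smul_right,
        horth _ _ (fun h => hkk' (e.symm.injective h)), smul_zero, smul_zero]

/-- R3g: `Mono.conj_mem_stab` for `ι` -/
theorem conj_mem_stab_gen {t : ℕ} (D : Fin t → Submodule F (ι → F)) (e : Fin t ≃ ι) (P : GL ι F)
    (hP : ∀ i, D i = Submodule.span F {(P : Matrix ι ι F) *ᵥ (Pi.single (e i) (1 : F))})
    (h : GL ι F) (hmono : IsMono (h : Matrix ι ι F)) :
    P * h * P⁻¹ ∈ Cfsg.Geo.decompositionStabilizer D := by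
  obtain ⟨σ, hσ⟩ := exists_perm_of_isMono h hmono
  refine ⟨(e.trans σ).trans e.symm, fun i => ?_⟩
  rw [hP i, hP _, Submodule.map_span, Set.image_singleton, Matrix.toLin'_apply]
  have e0 : e (((e.trans σ).trans e.symm) i) = σ (e i) := by
    simp
  rw [e0]
  have e1 : ((P * h * P⁻¹ : GL ι F) : Matrix ι ι F) *ᵥ
      ((P : Matrix ι ι F) *ᵥ (Pi.single (e i) (1 : F))) =
      (h : Matrix ι ι F) (σ (e i)) (e i) •
        ((P : Matrix ι ι F) *ᵥ (Pi.single (σ (e i)) (1 : F))) := by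
    rw [Units.val_mul, Units.val_mul, ← Matrix.mulVec_mulVec, ← Matrix.mulVec_mulVec,
      inv_mulVec_mulVec, mulVec_single_of_colAt (hσ (e i)), Matrix.mulVec_smul]
  rw [e1]
  exact Submodule.span_singleton_smul_eq
    (IsUnit.mk0 _ (entry_ne_zero_of_colAt h (hσ (e i)))) _

/-- R4g: `UTr.isMono_of_conj_mem_stab` for `ι` -/
theorem isMono_of_conj_mem_stab_gen {t : ℕ} (D : Fin t → Submodule F (ι → F)) (e : Fin t ≃ ι) (P : GL ι F)
    (hP : ∀ i, D i = Submodule.span F {(P : Matrix ι ι F) *ᵥ (Pi.single (e i) (1 : F))})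
    (h : GL ι F) (hmem : P * h * P⁻¹ ∈ Cfsg.Geo.decompositionStabilizer D) :
    IsMono (h : Matrix ι ι F) := by
  obtain ⟨τ, hτ⟩ := hmem
  intro k
  refine ⟨e (τ (e.symm k)), ?_⟩
  have h1 : ((P * h * P⁻¹ : GL ι F) : Matrix ι ι F) *ᵥ
      ((P : Matrix ι ι F) *ᵥ (Pi.single k (1 : F))) ∈ D (τ (e.symm k)) := by
    rw [← hτ (e.symm k)]
    refine ⟨(P : Matrix ι ι F) *ᵥ (Pi.single k (1 : F)), ?_, ?_⟩
    · rw [hP (e.symm k), Equiv.apply_symm_apply]
      exact Submodule.mem_span_singleton_self _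
    · rw [Matrix.toLin'_apply]
  rw [hP (τ (e.symm k)), Submodule.mem_span_singleton] at h1
  obtain ⟨a, ha⟩ := h1
  have h2 : ((P * h * P⁻¹ : GL ι F) : Matrix ι ι F) *ᵥ
      ((P : Matrix ι ι F) *ᵥ (Pi.single k (1 : F))) =
      (P : Matrix ι ι F) *ᵥ ((h : Matrix ι ι F) *ᵥ (Pi.single k (1 : F))) := by
    rw [Units.val_mul, Units.val_mul, ← Matrix.mulVec_mulVec, ← Matrix.mulVec_mulVec,
      inv_mulVec_mulVec]
  rw [h2, ← Matrix.mulVec_smul] at ha
  have h3 := mulVec_inj P ha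
  exact colAt_of_mulVec_single h3.symm

end Cfsg.Agent.Lib.Helper11.Fr2Leaf
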