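import Mathlib
import Cfsg.Agent.Lib.Helper29.FrDefs

/-!
S5696 (helper29's market), leaf FS: a non-monomial element of `L` (orthogonal matrices, 3-cycles,
world (W), sign dichotomy) cannot have a column of weight 2.
-/

set_option autoImplicit false
set_option linter.unusedSectionVars false
set_option linter.unusedVariables false

namespace Cfsg.Agent.Lib.Helper11.FrLeaf
open Matrix Cfsg.Agent.Lib.Helper11.Mono Cfsg.Agent.Lib.Helper15.MonoLeaf Cfsg.Agent.Lib.Helper2.MonoLeaf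
  Cfsg.Agent.Lib.Helper29.Fr

variable {F : Type*} [Field F] [Fintype F] {ι : Type} [Fintype ι] [DecidableEq ι]

omit [Fintype F] [Fintype ι] [DecidableEq ι] in
/-- `α² (x x' + y y') = y y'` for two vectors orthogonal to `(α, β)`, `α² + β² = 1` -/
lemma frs_e {α β : F} (hn : α ^ 2 + β ^ 2 = 1) (xi yi xj yj : F) (hi : α * xi + β * yi = 0)
    (hj : α * xj + β * yj = 0) : α ^ 2 * (xi * xj + yi * yj) = yi * yj := by
  linear_combination (α * xj) * hi - (β * yi) * hj + (yi * yj) * hn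

omit [Fintype F] [Fintype ι] [DecidableEq ι] in
/-- three pairwise orthogonal unit vectors cannot lie in a plane -/
lemma frs_three {α β x1 y1 x2 y2 x3 y3 μ1 μ2 μ3 : F}
    (hα : α ≠ 0) (hn : α ^ 2 + β ^ 2 = 1)
    (h1 : α * x1 + β * y1 = 0) (h2 : α * x2 + β * y2 = 0) (h3 : α * x3 + β * y3 = 0)
    (o12 : x1 * x2 + y1 * y2 + μ1 * μ2 = 0) (o13 : x1 * x3 + y1 * y3 + μ1 * μ3 = 0)
    (o23 : x2 * x3 + y2 * y3 + μ2 * μ3 = 0) (n1 : x1 * x1 + y1 * y1 + μ1 * μ1 = 1)
    (hy2 : y2 ≠ 0) (hy3 : y3 ≠ 0) : False := by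
  have a12 : α ^ 2 * (μ1 * μ2) = -(y1 * y2) := by
    linear_combination (α ^ 2) * o12 - frs_e hn x1 y1 x2 y2 h1 h2
  have a13 : α ^ 2 * (μ1 * μ3) = -(y1 * y3) := by
    linear_combination (α ^ 2) * o13 - frs_e hn x1 y1 x3 y3 h1 h3
  have a23 : α ^ 2 * (μ2 * μ3) = -(y2 * y3) := by
    linear_combination (α ^ 2) * o23 - frs_e hn x2 y2 x3 y3 h2 h3
  have a11 : α ^ 2 * (μ1 * μ1) = α ^ 2 - y1 * y1 := by
    linear_combination (α ^ 2) * n1 - frs_e hn x1 y1 x1 y1 h1 h1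
  have key : (α ^ 2 * (μ1 * μ2)) * (α ^ 2 * (μ1 * μ3)) =
      (α ^ 2 * (μ1 * μ1)) * (α ^ 2 * (μ2 * μ3)) := by ring
  rw [a12, a13, a11, a23] at key
  have h0 : α ^ 2 * (y2 * y3) = 0 := by linear_combination key
  rcases mul_eq_zero.mp h0 with h | h
  · exact hα ((pow_eq_zero_iff (two_ne_zero)).mp h)
  · rcases mul_eq_zero.mp h with h | h
    · exact hy2 h
    · exact hy3 h

omit [Fintype F] in
lemma frs_sum_split (a b : ι) (hab : a ≠ b) (f : ι → F) :
    ∑ c, f c = f a + f b + ∑ c ∈ (Finset.univ.erase a).erase b, f c := by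
  rw [← Finset.add_sum_erase Finset.univ f (Finset.mem_univ a),
    ← Finset.add_sum_erase (Finset.univ.erase a) f
      (Finset.mem_erase.mpr ⟨hab.symm, Finset.mem_univ b⟩)]
  ring

/-- FS: kill of a weight-2 column. -/
theorem false_of_weight_two (h9 : 9 ≤ Fintype.card ι) (L : Subgroup (GL ι F)) (hO : IsOrth L)
    (hC : HasThreeCycles L) (hW : WorldW L) (hE : SignDich L)
    (B : GL ι F) (hB : B ∈ L) (hnm : ¬ IsMono (B : Matrix ι ι F)) (j : ι)
    (hw : (suppCol (B : Matrix ι ι F) j).card = 2) : False := by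
  classical
  obtain ⟨a, b, hab, hsupp⟩ := Finset.card_eq_two.mp hw
  set Bm : Matrix ι ι F := (B : Matrix ι ι F) with hBm
  have hcol : ∀ m m', ∑ c, Bm c m * Bm c m' = if m = m' then 1 else 0 :=
    fun m m' => hO.col_dot hB m m'
  have hrow : ∀ x z, ∑ l, Bm x l * Bm z l = if x = z then 1 else 0 := by
    have h1 : Bm * Bmᵀ = 1 := mul_eq_one_comm.mp (hO B hB)
    intro x z
    have := congrFun (congrFun h1 x) z
    rw [Matrix.mul_apply, Matrix.one_apply] at this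
    simpa [Matrix.transpose_apply] using this
  have hα : Bm a j ≠ 0 := (mem_suppCol Bm j a).mp (by rw [hsupp]; simp)
  have hβ : Bm b j ≠ 0 := (mem_suppCol Bm j b).mp (by rw [hsupp]; simp)
  have hzero : ∀ c, c ≠ a → c ≠ b → Bm c j = 0 := by
    intro c hca hcb
    by_contra h
    have h1 := (mem_suppCol Bm j c).mpr h
    rw [hsupp, Finset.mem_insert, Finset.mem_singleton] at h1
    rcases h1 with h1 | h1
    · exact hca h1
    · exact hcb h1
  have hZmem : ∀ c, c ∈ zerosCol Bm j ↔ (c ≠ a ∧ c ≠ b) := by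
    intro c
    rw [mem_zerosCol]
    constructor
    · intro h
      exact ⟨fun h' => hα (h' ▸ h), fun h' => hβ (h' ▸ h)⟩
    · rintro ⟨h1, h2⟩
      exact hzero c h1 h2
  have hZcard : 7 ≤ (zerosCol Bm j).card := by
    have := card_zerosCol_add_card_suppCol Bm j
    omega
  have hnorm : Bm a j ^ 2 + Bm b j ^ 2 = 1 := by
    have h1 := hcol j j
    rw [if_pos rfl, Fintype.sum_eq_add a b hab
      (fun c hc => by rw [hzero c hc.1 hc.2, zero_mul])] at h1
    rw [← h1]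
    ring
  have hperp : ∀ m, m ≠ j → Bm a j * Bm a m + Bm b j * Bm b m = 0 := by
    intro m hm
    have h1 := hcol j m
    rw [if_neg (Ne.symm hm), Fintype.sum_eq_add a b hab
      (fun c hc => by rw [hzero c hc.1 hc.2, zero_mul])] at h1
    exact h1
  have hSD := hE B hB hnm j (by omega : 5 ≤ (zerosCol Bm j).card)
  -- columns meeting `{a, b}`
  have huniq : ∀ m, m ≠ j → ¬ (Bm a m = 0 ∧ Bm b m = 0) → ∀ c c', c ≠ a → c ≠ b → c' ≠ a →
      c' ≠ b → Bm c m ≠ 0 → Bm c' m ≠ 0 → c = c' := by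
    intro m hm hT c c' hca hcb hc'a hc'b hc hc'
    rcases hSD m hm with h | ⟨h, -⟩
    · exact Finset.card_le_one.mp h c
        (Finset.mem_inter.mpr ⟨(hZmem c).mpr ⟨hca, hcb⟩, (mem_suppCol Bm m c).mpr hc⟩) c'
        (Finset.mem_inter.mpr ⟨(hZmem c').mpr ⟨hc'a, hc'b⟩, (mem_suppCol Bm m c').mpr hc'⟩)
    · exfalso
      apply hT
      constructor
      · by_contra h1
        have h2 := h ((mem_suppCol Bm m a).mpr h1)
        exact ((hZmem a).mp h2).1 rfl
      · by_contra h1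
        have h2 := h ((mem_suppCol Bm m b).mpr h1)
        exact ((hZmem b).mp h2).2 rfl
  -- columns missing `{a, b}`
  have hU : ∀ m, m ≠ j → Bm a m = 0 → Bm b m = 0 → (suppCol Bm m).card ≤ 2 := by
    intro m hm h1 h2
    rcases hSD m hm with h | ⟨-, h⟩
    · exfalso
      apply hnm
      apply hW B hB
      obtain ⟨i, hi⟩ : ∃ i, Bm i m ≠ 0 := by
        by_contra hno
        push Not at hno
        exact col_ne_zero B m (funext fun i => hno i)
      refine ⟨m, i, fun k hk => ?_⟩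
      by_contra hk0
      have hka : k ≠ a := fun h' => hk0 (h' ▸ h1)
      have hkb : k ≠ b := fun h' => hk0 (h' ▸ h2)
      have hia : i ≠ a := fun h' => hi (h' ▸ h1)
      have hib : i ≠ b := fun h' => hi (h' ▸ h2)
      exact hk (Finset.card_le_one.mp h k
        (Finset.mem_inter.mpr ⟨(hZmem k).mpr ⟨hka, hkb⟩, (mem_suppCol Bm m k).mpr hk0⟩) i
        (Finset.mem_inter.mpr ⟨(hZmem i).mpr ⟨hia, hib⟩, (mem_suppCol Bm m i).mpr hi⟩))
    · exact h
  -- the second coordinate of a column meeting `{a, b}` is non-zero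
  have hyne : ∀ m, m ≠ j → ¬ (Bm a m = 0 ∧ Bm b m = 0) → Bm b m ≠ 0 := by
    intro m hm hT h0
    apply hT
    refine ⟨?_, h0⟩
    have h1 := hperp m hm
    rw [h0, mul_zero, add_zero] at h1
    exact (mul_eq_zero.mp h1).resolve_left hα
  have hZsum : ∀ m m' k, m ≠ j → ¬ (Bm a m = 0 ∧ Bm b m = 0) → k ≠ a → k ≠ b → Bm k m ≠ 0 →
      ∑ c ∈ (Finset.univ.erase a).erase b, Bm c m * Bm c m' = Bm k m * Bm k m' := by
    intro m m' k hm hT hka hkb hk
    apply Finset.sum_eq_single k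
    · intro c hc hck
      have hcb : c ≠ b := (Finset.mem_erase.mp hc).1
      have hca : c ≠ a := (Finset.mem_erase.mp (Finset.mem_erase.mp hc).2).1
      by_cases h : Bm c m = 0
      · rw [h, zero_mul]
      · exact absurd (huniq m hm hT c k hca hcb hka hkb h hk) hck
    · intro h
      exfalso
      apply h
      exact Finset.mem_erase.mpr ⟨hkb, Finset.mem_erase.mpr ⟨hka, Finset.mem_univ k⟩⟩
  have hpair : ∀ m m', m ≠ j → m' ≠ j → ¬ (Bm a m = 0 ∧ Bm b m = 0) →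
      ¬ (Bm a m' = 0 ∧ Bm b m' = 0) → m ≠ m' →
      ∃ k, k ≠ a ∧ k ≠ b ∧ Bm k m ≠ 0 ∧ Bm k m' ≠ 0 ∧
        Bm a m * Bm a m' + Bm b m * Bm b m' + Bm k m * Bm k m' = 0 := by
    intro m m' hm hm' hT hT' hmm'
    have h0 := hcol m m'
    rw [if_neg hmm', frs_sum_split a b hab] at h0
    have hne : ∑ c ∈ (Finset.univ.erase a).erase b, Bm c m * Bm c m' ≠ 0 := by
      intro hz
      rw [hz, add_zero] at h0
      have h1 := frs_e hnorm _ _ _ _ (hperp m hm) (hperp m' hm')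
      rw [h0, mul_zero] at h1
      rcases mul_eq_zero.mp h1.symm with h | h
      · exact hyne m hm hT h
      · exact hyne m' hm' hT' h
    obtain ⟨k, hk, hkne⟩ := Finset.exists_ne_zero_of_sum_ne_zero hne
    have hkb : k ≠ b := (Finset.mem_erase.mp hk).1
    have hka : k ≠ a := (Finset.mem_erase.mp (Finset.mem_erase.mp hk).2).1
    have hk1 : Bm k m ≠ 0 := left_ne_zero_of_mul hkne
    have hk2 : Bm k m' ≠ 0 := right_ne_zero_of_mul hkne
    refine ⟨k, hka, hkb, hk1, hk2, ?_⟩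
    rw [hZsum m m' k hm hT hka hkb hk1] at h0
    exact h0
  have hTcard : ((Finset.univ.erase j).filter (fun m => ¬ (Bm a m = 0 ∧ Bm b m = 0))).card ≤ 2 := by
    by_contra hlt
    obtain ⟨m1, m2, m3, hm1, hm2, hm3, h12, h13, h23⟩ := Finset.two_lt_card_iff.mp (not_le.mp hlt)
    rw [Finset.mem_filter, Finset.mem_erase] at hm1 hm2 hm3
    obtain ⟨⟨hm1j, -⟩, hT1⟩ := hm1
    obtain ⟨⟨hm2j, -⟩, hT2⟩ := hm2
    obtain ⟨⟨hm3j, -⟩, hT3⟩ := hm3
    obtain ⟨k, hka, hkb, hk1, hk2, o12⟩ := hpair m1 m2 hm1j hm2j hT1 hT2 h12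
    obtain ⟨k', hk'a, hk'b, hk'1, hk'3, o13⟩ := hpair m1 m3 hm1j hm3j hT1 hT3 h13
    obtain ⟨k'', hk''a, hk''b, hk''2, hk''3, o23⟩ := hpair m2 m3 hm2j hm3j hT2 hT3 h23
    have e1 : k' = k := huniq m1 hm1j hT1 k' k hk'a hk'b hka hkb hk'1 hk1
    have e2 : k'' = k := huniq m2 hm2j hT2 k'' k hk''a hk''b hka hkb hk''2 hk2
    rw [e1] at o13
    rw [e2] at o23
    have n1 := hcol m1 m1
    rw [if_pos rfl, frs_sum_split a b hab, hZsum m1 m1 k hm1j hT1 hka hkb hk1] at n1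
    exact frs_three hα hnorm (hperp m1 hm1j) (hperp m2 hm2j) (hperp m3 hm3j) o12 o13 o23 n1
      (hyne m2 hm2j hT2) (hyne m3 hm3j hT3)
  -- two columns supported in `Z`
  have hUcard : 1 < ((Finset.univ.erase j).filter (fun m => Bm a m = 0 ∧ Bm b m = 0)).card := by
    have h1 := Finset.card_filter_add_card_filter_not (s := Finset.univ.erase j)
      (fun m => Bm a m = 0 ∧ Bm b m = 0)
    rw [Finset.card_erase_of_mem (Finset.mem_univ j), Finset.card_univ] at h1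
    omega
  obtain ⟨j₂, hj₂, j₃, hj₃, hj₂₃⟩ := Finset.one_lt_card.mp hUcard
  rw [Finset.mem_filter, Finset.mem_erase] at hj₂ hj₃
  obtain ⟨⟨hj₂j, -⟩, hj₂a, hj₂b⟩ := hj₂
  obtain ⟨⟨hj₃j, -⟩, hj₃a, hj₃b⟩ := hj₃
  have hS₂ := hU j₂ hj₂j hj₂a hj₂b
  have hS₃ := hU j₃ hj₃j hj₃a hj₃b
  -- a row of `Z` outside the supports
  obtain ⟨r, hr⟩ : (zerosCol Bm j \ (suppCol Bm j₂ ∪ suppCol Bm j₃)).Nonempty := by
    apply Finset.card_pos.mp
    have h1 := Finset.le_card_sdiff (suppCol Bm j₂ ∪ suppCol Bm j₃) (zerosCol Bm j)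
    have h2 := Finset.card_union_le (suppCol Bm j₂) (suppCol Bm j₃)
    omega
  rw [Finset.mem_sdiff, Finset.mem_union, not_or] at hr
  obtain ⟨hrZ, hr₂, hr₃⟩ := hr
  have hrj : Bm r j = 0 := (mem_zerosCol Bm j r).mp hrZ
  have hrj₂ : Bm r j₂ = 0 := by
    by_contra h
    exact hr₂ ((mem_suppCol Bm j₂ r).mpr h)
  have hrj₃ : Bm r j₃ = 0 := by
    by_contra h
    exact hr₃ ((mem_suppCol Bm j₃ r).mpr h)
  -- the 3-cycle
  let σ : Equiv.Perm ι := Equiv.swap j j₂ * Equiv.swap j j₃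
  have hσ3 : σ.IsThreeCycle :=
    Equiv.Perm.isThreeCycle_swap_mul_swap_same (Ne.symm hj₂j) (Ne.symm hj₃j) hj₂₃
  have hσj₂ : σ.symm j = j₂ := by
    rw [Equiv.symm_apply_eq]
    change j = Equiv.swap j j₂ (Equiv.swap j j₃ j₂)
    rw [Equiv.swap_apply_of_ne_of_ne hj₂j hj₂₃, Equiv.swap_apply_right]
  have hσfix : ∀ m, m ≠ j → m ≠ j₂ → m ≠ j₃ → σ.symm m = m := by
    intro m h1 h2 h3
    rw [Equiv.symm_apply_eq]
    change m = Equiv.swap j j₂ (Equiv.swap j j₃ m)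
    rw [Equiv.swap_apply_of_ne_of_ne h1 h3, Equiv.swap_apply_of_ne_of_ne h1 h2]
  let y : GL ι F := B * pmGL σ * B⁻¹
  have hyL : y ∈ L := L.mul_mem (L.mul_mem hB (hC σ hσ3)) (L.inv_mem hB)
  have hy_entry : ∀ x z, (y : Matrix ι ι F) x z = ∑ m, Bm x (σ.symm m) * Bm z m := by
    intro x z
    change ((B * pmGL σ * B⁻¹ : GL ι F) : Matrix ι ι F) x z = _
    rw [Units.val_mul, Units.val_mul, pmGL_val, Matrix.mul_apply]
    apply Finset.sum_congr rfl
    intro m _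
    rw [hO.inv_apply hB m z]
    congr 1
    change (Bm * (σ.toPEquiv.toMatrix : Matrix ι ι F)) x m = _
    rw [PEquiv.mul_toMatrix_toPEquiv, Matrix.submatrix_apply, id]
  -- column `r` of `y` is `e_r`
  have hy_r : ∀ x, (y : Matrix ι ι F) x r = if x = r then 1 else 0 := by
    intro x
    rw [hy_entry, ← hrow x r]
    apply Finset.sum_congr rfl
    intro m _
    by_cases h1 : m = j
    · rw [h1, hrj, mul_zero, mul_zero]
    by_cases h2 : m = j₂
    · rw [h2, hrj₂, mul_zero, mul_zero]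
    by_cases h3 : m = j₃
    · rw [h3, hrj₃, mul_zero, mul_zero]
    rw [hσfix m h1 h2 h3]
  have hymono : IsMono (y : Matrix ι ι F) := by
    apply hW y hyL
    refine ⟨r, r, fun k hk => ?_⟩
    rw [hy_r, if_neg hk]
  -- column `a` of `y`
  have hy_a : ∀ x, (y : Matrix ι ι F) x a =
      (if x = a then 1 else 0) + (Bm x j₂ - Bm x j) * Bm a j := by
    intro x
    rw [hy_entry, ← hrow x a, ← sub_eq_iff_eq_add', ← Finset.sum_sub_distrib]
    rw [Finset.sum_eq_single j]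
    · rw [hσj₂]
      ring
    · intro m _ hmj
      by_cases h2 : m = j₂
      · rw [h2, hj₂a, mul_zero, mul_zero, sub_zero]
      by_cases h3 : m = j₃
      · rw [h3, hj₃a, mul_zero, mul_zero, sub_zero]
      rw [hσfix m hmj h2 h3, sub_self]
    · intro h
      exact absurd (Finset.mem_univ j) h
  have hyb : (y : Matrix ι ι F) b a ≠ 0 := by
    rw [hy_a, if_neg hab.symm, zero_add, hj₂b, zero_sub]
    exact mul_ne_zero (neg_ne_zero.mpr hβ) hα
  obtain ⟨c, hc⟩ : ∃ c, Bm c j₂ ≠ 0 := by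
    by_contra hno
    push Not at hno
    exact col_ne_zero B j₂ (funext fun i => hno i)
  have hca : c ≠ a := fun h => hc (h ▸ hj₂a)
  have hcb : c ≠ b := fun h => hc (h ▸ hj₂b)
  have hyc : (y : Matrix ι ι F) c a ≠ 0 := by
    rw [hy_a, if_neg hca, zero_add, hzero c hca hcb, sub_zero]
    exact mul_ne_zero hc hα
  obtain ⟨i, hi⟩ := hymono a
  by_cases h : i = b
  · exact hyc (hi c (by rw [h]; exact hcb))
  · exact hyb (hi b (Ne.symm h))

end Cfsg.Agent.Lib.Helper11.FrLeaf
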