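import Mathlib
import Cfsg.Agent.S0003

/-!
Helper lemmas (helper11) for S3999 (groups with the order type of a Frobenius group).
Part A: generic group theory:
* `exists_orderEquiv`: equal order types give an order-preserving bijection,
* `exists_orderOf_fifteen_of_card`: a group of order `15` has an element of order `15`,
* `exists_orderOf_fifteen_of_solvable`: a solvable group of order `15 t`, `(t, 15) = 1`,
  has an element of order `15` (Hall),
* `sl25_orderOf_ne_fifteen`: `SL₂(5)` has no element of order `15`.
-/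

set_option autoImplicit false

namespace Cfsg.Agent.Lib.Helper11.FrobOT

universe u v

/-- Equal order types give an order preserving bijection. -/
theorem exists_orderEquiv {F : Type u} {G : Type v} [Group F] [Finite F] [Group G] [Finite G]
    (hT : ∀ m : ℕ, Nat.card {g : F // orderOf g = m} = Nat.card {h : G // orderOf h = m}) :
    ∃ e : F ≃ G, ∀ x : F, orderOf (e x) = orderOf x := by
  classical
  have hem : ∀ m : ℕ, Nonempty ({g : F // orderOf g = m} ≃ {h : G // orderOf h = m}) :=
    fun m => Finite.card_eq.mp (hT m)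
  let em : ∀ m : ℕ, {g : F // orderOf g = m} ≃ {h : G // orderOf h = m} := fun m => (hem m).some
  refine ⟨(Equiv.sigmaFiberEquiv (orderOf : F → ℕ)).symm.trans
    ((Equiv.sigmaCongrRight em).trans (Equiv.sigmaFiberEquiv (orderOf : G → ℕ))), ?_⟩
  intro x
  have : ((Equiv.sigmaFiberEquiv (orderOf : F → ℕ)).symm.trans
    ((Equiv.sigmaCongrRight em).trans (Equiv.sigmaFiberEquiv (orderOf : G → ℕ)))) x
      = ((em (orderOf x)) ⟨x, rfl⟩ : G) := rfl
  rw [this]
  exact ((em (orderOf x)) ⟨x, rfl⟩).2

/-- A group of order `15` has an element of order `15`. -/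
theorem exists_orderOf_fifteen_of_card {L : Type u} [Group L] [Finite L] (hL : Nat.card L = 15) :
    ∃ x : L, orderOf x = 15 := by
  classical
  haveI h3 : Fact (Nat.Prime 3) := ⟨by norm_num⟩
  haveI h5 : Fact (Nat.Prime 5) := ⟨by norm_num⟩
  -- Sylow subgroups
  let P3 : Sylow 3 L := default
  let P5 : Sylow 5 L := default
  have hc3 : Nat.card (P3 : Subgroup L) = 3 := by
    rw [Sylow.card_eq_multiplicity, hL]
    have h : (15 : ℕ).factorization 3 = 1 := by
      rw [Nat.factorization_def _ (by norm_num)]
      have : (15 : ℕ) = 3 ^ 1 * 5 := by norm_num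
      rw [this, padicValNat.mul (by norm_num) (by norm_num), padicValNat.prime_pow,
        padicValNat.eq_zero_of_not_dvd (by norm_num)]
    rw [h]; norm_num
  have hc5 : Nat.card (P5 : Subgroup L) = 5 := by
    rw [Sylow.card_eq_multiplicity, hL]
    have h : (15 : ℕ).factorization 5 = 1 := by
      rw [Nat.factorization_def _ (by norm_num)]
      have : (15 : ℕ) = 5 ^ 1 * 3 := by norm_num
      rw [this, padicValNat.mul (by norm_num) (by norm_num), padicValNat.prime_pow,
        padicValNat.eq_zero_of_not_dvd (by norm_num)]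
    rw [h]; norm_num
  have hi3 : (P3 : Subgroup L).index = 5 := by
    have := (P3 : Subgroup L).card_mul_index
    rw [hc3, hL] at this
    omega
  have hi5 : (P5 : Subgroup L).index = 3 := by
    have := (P5 : Subgroup L).card_mul_index
    rw [hc5, hL] at this
    omega
  have hn3 : Nat.card (Sylow 3 L) = 1 := by
    have h1 := card_sylow_modEq_one 3 L
    have h2 := Sylow.card_dvd_index P3
    rw [hi3] at h2
    have h3' : Nat.card (Sylow 3 L) = 1 ∨ Nat.card (Sylow 3 L) = 5 :=
      (Nat.dvd_prime (by norm_num)).mp h2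
    rcases h3' with h | h
    · exact h
    · rw [h] at h1; exact absurd h1 (by decide)
  have hn5 : Nat.card (Sylow 5 L) = 1 := by
    have h1 := card_sylow_modEq_one 5 L
    have h2 := Sylow.card_dvd_index P5
    rw [hi5] at h2
    have h3' : Nat.card (Sylow 5 L) = 1 ∨ Nat.card (Sylow 5 L) = 3 :=
      (Nat.dvd_prime (by norm_num)).mp h2
    rcases h3' with h | h
    · exact h
    · rw [h] at h1; exact absurd h1 (by decide)
  have : Subsingleton (Sylow 3 L) := (Nat.card_eq_one_iff_unique.mp hn3).1
  have : Subsingleton (Sylow 5 L) := (Nat.card_eq_one_iff_unique.mp hn5).1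
  have hN3 : (P3 : Subgroup L).Normal := Sylow.normal_of_subsingleton P3
  have hN5 : (P5 : Subgroup L).Normal := Sylow.normal_of_subsingleton P5
  have hdisj : Disjoint (P3 : Subgroup L) (P5 : Subgroup L) := by
    apply Subgroup.disjoint_of_coprime_natCard
    rw [hc3, hc5]; norm_num
  -- elements of orders 3 and 5
  obtain ⟨x, hx⟩ := exists_prime_orderOf_dvd_card' (G := (P3 : Subgroup L)) 3 (by rw [hc3])
  obtain ⟨y, hy⟩ := exists_prime_orderOf_dvd_card' (G := (P5 : Subgroup L)) 5 (by rw [hc5])
  have hx' : orderOf (x : L) = 3 := by rw [Subgroup.orderOf_coe]; exact hx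
  have hy' : orderOf (y : L) = 5 := by rw [Subgroup.orderOf_coe]; exact hy
  have hcomm : Commute (x : L) (y : L) :=
    Subgroup.commute_of_normal_of_disjoint _ _ hN3 hN5 hdisj _ _ x.2 y.2
  refine ⟨(x : L) * (y : L), ?_⟩
  rw [hcomm.orderOf_mul_eq_mul_orderOf_of_coprime (by rw [hx', hy']; norm_num), hx', hy']

/-- A solvable group of order `15 * t` with `t` prime to `15` has an element of order `15`. -/
theorem exists_orderOf_fifteen_of_solvable {X : Type u} [Group X] [Finite X]
    (hs : Group.IsSolvable X) (t : ℕ) (hX : Nat.card X = 15 * t) (ht : Nat.Coprime 15 t) :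
    ∃ x : X, orderOf x = 15 := by
  haveI := hs
  obtain ⟨H, hH⟩ := Cfsg.Agent.S0003.result (G := X) 15 t hX ht
  obtain ⟨x, hx⟩ := exists_orderOf_fifteen_of_card (L := H) hH
  exact ⟨(x : X), by rw [Subgroup.orderOf_coe]; exact hx⟩

end Cfsg.Agent.Lib.Helper11.FrobOT
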