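import Mathlib

/-!
Helper lemmas (helper11) for S3999. Part B: `SL₂(5)` has no element of order `15`
(brute force over the `625` matrices over `ZMod 5`).
-/

set_option autoImplicit false

namespace Cfsg.Agent.Lib.Helper11.FrobOT

/-- `2 × 2` matrices over `ZMod 5` as quadruples. -/
abbrev Q5 : Type := ZMod 5 × ZMod 5 × ZMod 5 × ZMod 5

/-- matrix multiplication on quadruples -/
def qmul (x y : Q5) : Q5 :=
  (x.1 * y.1 + x.2.1 * y.2.2.1, x.1 * y.2.1 + x.2.1 * y.2.2.2,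
    x.2.2.1 * y.1 + x.2.2.2 * y.2.2.1, x.2.2.1 * y.2.1 + x.2.2.2 * y.2.2.2)

/-- the identity quadruple -/
def qone : Q5 := (1, 0, 0, 1)

/-- third power -/
def qpow3 (x : Q5) : Q5 := qmul x (qmul x x)

/-- fifth power -/
def qpow5 (x : Q5) : Q5 := qmul x (qmul x (qpow3 x))

/-- fifteenth power -/
def qpow15 (x : Q5) : Q5 := qpow3 (qpow5 x)

set_option maxRecDepth 100000 in
theorem qpow15_cases : ∀ x : Q5, qpow15 x = qone → qpow5 x = qone ∨ qpow3 x = qone := by
  decide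

/-- quadruple of a matrix -/
def toQ (A : Matrix (Fin 2) (Fin 2) (ZMod 5)) : Q5 := (A 0 0, A 0 1, A 1 0, A 1 1)

theorem toQ_mul (A B : Matrix (Fin 2) (Fin 2) (ZMod 5)) : toQ (A * B) = qmul (toQ A) (toQ B) := by
  simp [toQ, qmul, Matrix.mul_apply, Fin.sum_univ_two]

theorem toQ_one : toQ 1 = qone := by
  simp [toQ, qone]

theorem toQ_injective : Function.Injective toQ := by
  intro A B h
  simp only [toQ, Prod.mk.injEq] at h
  ext i j
  fin_cases i <;> fin_cases j <;> simp [h.1, h.2.1, h.2.2.1, h.2.2.2]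

theorem toQ_pow3 (A : Matrix (Fin 2) (Fin 2) (ZMod 5)) : toQ (A ^ 3) = qpow3 (toQ A) := by
  rw [pow_succ', pow_succ', pow_one, toQ_mul, toQ_mul, qpow3]

theorem toQ_pow5 (A : Matrix (Fin 2) (Fin 2) (ZMod 5)) : toQ (A ^ 5) = qpow5 (toQ A) := by
  have h : A ^ 5 = A * (A * A ^ 3) := by rw [← pow_succ', ← pow_succ']
  rw [h, toQ_mul, toQ_mul, toQ_pow3, qpow5]

theorem toQ_pow15 (A : Matrix (Fin 2) (Fin 2) (ZMod 5)) : toQ (A ^ 15) = qpow15 (toQ A) := by
  have h : A ^ 15 = (A ^ 5) ^ 3 := by rw [← pow_mul]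
  rw [h, toQ_pow3, toQ_pow5, qpow15]

/-- A `2 × 2` matrix over `ZMod 5` with `A ^ 15 = 1` has `A ^ 5 = 1` or `A ^ 3 = 1`. -/
theorem matrix_pow15_cases (A : Matrix (Fin 2) (Fin 2) (ZMod 5)) (h : A ^ 15 = 1) :
    A ^ 5 = 1 ∨ A ^ 3 = 1 := by
  have h1 : qpow15 (toQ A) = qone := by rw [← toQ_pow15, h, toQ_one]
  rcases qpow15_cases _ h1 with h2 | h2
  · left
    apply toQ_injective
    rw [toQ_pow5, h2, toQ_one]
  · right
    apply toQ_injective
    rw [toQ_pow3, h2, toQ_one]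

/-- `SL₂(5)` has no element of order `15`. -/
theorem sl25_orderOf_ne_fifteen (A : Matrix.SpecialLinearGroup (Fin 2) (ZMod 5)) :
    orderOf A ≠ 15 := by
  intro h
  have h15 : A ^ 15 = 1 := by rw [← h]; exact pow_orderOf_eq_one A
  have h15' : (A : Matrix (Fin 2) (Fin 2) (ZMod 5)) ^ 15 = 1 := by
    have := congrArg (fun B : Matrix.SpecialLinearGroup (Fin 2) (ZMod 5) =>
      (B : Matrix (Fin 2) (Fin 2) (ZMod 5))) h15
    simpa using this
  rcases matrix_pow15_cases _ h15' with h5 | h3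
  · have : A ^ 5 = 1 := by
      apply Subtype.ext
      simpa using h5
    have hd := orderOf_dvd_of_pow_eq_one this
    rw [h] at hd
    norm_num at hd
  · have : A ^ 3 = 1 := by
      apply Subtype.ext
      simpa using h3
    have hd := orderOf_dvd_of_pow_eq_one this
    rw [h] at hd
    norm_num at hd

end Cfsg.Agent.Lib.Helper11.FrobOT
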