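import Mathlib
import Cfsg.Prelude.Def_Solvable
import Cfsg.Agent.S0034
import Cfsg.Agent.S0035
import Cfsg.Agent.S0042

/-!
Helper lemmas (helper11) for S3999. Part C: basic data of a finite Frobenius group
(`FD`): kernel `K` (normal, nilpotent), complement `C`, coprime orders, every element lies in `K`
or in a conjugate of `C`.
-/

set_option autoImplicit false
open scoped Pointwise

namespace Cfsg.Agent.Lib.Helper11.FrobOT

universe u v

theorem orderOf_conj_eq {G : Type u} [Group G] (g x : G) : orderOf (g * x * g⁻¹) = orderOf x := by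
  have := (MulAut.conj g).orderOf_eq x
  rwa [MulAut.conj_apply] at this

theorem orderOf_conj_eq' {G : Type u} [Group G] (g x : G) : orderOf (g⁻¹ * x * g) = orderOf x := by
  have := orderOf_conj_eq g⁻¹ x
  rwa [inv_inv] at this

/-- The data of a Frobenius group. -/
structure FD (F : Type u) [Group F] where
  /-- complement -/
  C : Subgroup F
  /-- kernel -/
  K : Subgroup F
  hC : Cfsg.IsFrobeniusComplement C
  hK : (K : Set F) = Cfsg.frobeniusKernel C
  hKn : K.Normal
  hcompl : Subgroup.IsComplement' K C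
  hnil : Group.IsNilpotent K
  hcop : (Nat.card K).Coprime (Nat.card C)

theorem exists_FD_of {F : Type u} [Group F] [Finite F]
    (C : Subgroup F) (hC : Cfsg.IsFrobeniusComplement C) : ∃ D : FD F, D.C = C := by
  obtain ⟨K, hK, hKn, hcompl⟩ := Cfsg.Agent.S0035.result C hC
  obtain ⟨K', hK', -, hnil⟩ := Cfsg.Agent.S0042.result C hC
  have hKK' : K' = K := SetLike.coe_injective (hK'.trans hK.symm)
  rw [hKK'] at hnil
  obtain ⟨h1, h2⟩ := Cfsg.Agent.S0034.result C hC
  have hcardK : Nat.card K = C.index := by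
    rw [← h1]
    exact Nat.card_congr (Equiv.setCongr hK)
  have hcop : (Nat.card K).Coprime (Nat.card C) := by
    rw [hcardK]
    have h3 : C.index ≡ 1 [MOD Nat.card C] := h2
    have := h3.gcd_eq
    rw [Nat.gcd_one_left] at this
    exact this
  exact ⟨⟨C, K, hC, hK, hKn, hcompl, hnil, hcop⟩, rfl⟩

variable {F : Type u} [Group F]

theorem FD.card_eq [Finite F] (D : FD F) : Nat.card F = Nat.card D.K * Nat.card D.C :=
  D.hcompl.card_mul.symm

theorem FD.C_ne_bot (D : FD F) : D.C ≠ ⊥ := D.hC.1

theorem FD.K_ne_bot [Finite F] (D : FD F) : D.K ≠ ⊥ := by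
  intro h
  apply D.hC.2.1
  have h1 := D.card_eq
  rw [h, Subgroup.card_bot, one_mul] at h1
  exact Subgroup.eq_top_of_card_eq _ h1.symm

theorem FD.one_lt_card_C [Finite F] (D : FD F) : 1 < Nat.card D.C :=
  (Subgroup.one_lt_card_iff_ne_bot D.C).mpr D.C_ne_bot

theorem FD.one_lt_card_K [Finite F] (D : FD F) : 1 < Nat.card D.K :=
  (Subgroup.one_lt_card_iff_ne_bot D.K).mpr D.K_ne_bot

/-- every element lies in the kernel or in a conjugate of the complement -/
theorem FD.mem_or (D : FD F) (x : F) : x ∈ D.K ∨ ∃ g : F, g⁻¹ * x * g ∈ D.C := by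
  by_cases hx : x ∈ D.K
  · exact Or.inl hx
  · right
    have hx' : x ∉ Cfsg.frobeniusKernel D.C := by
      rw [← D.hK]; exact hx
    simp only [Cfsg.frobeniusKernel, Set.mem_ofPred_eq, not_or, not_forall, not_not] at hx'
    obtain ⟨g, hg⟩ := hx'.2
    refine ⟨g, ?_⟩
    rw [Subgroup.mem_pointwise_smul_iff_inv_smul_mem, MulAut.smul_def, MulAut.conj_inv_apply] at hg
    exact hg

theorem FD.orderOf_dvd [Finite F] (D : FD F) (x : F) :
    orderOf x ∣ Nat.card D.K ∨ orderOf x ∣ Nat.card D.C := by
  rcases D.mem_or x with h | ⟨g, hg⟩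
  · exact Or.inl (Subgroup.orderOf_dvd_natCard _ h)
  · right
    rw [← orderOf_conj_eq' g x]
    exact Subgroup.orderOf_dvd_natCard _ hg

theorem FD.mem_K_of_orderOf_dvd [Finite F] (D : FD F) {x : F} (hx : orderOf x ∣ Nat.card D.K) :
    x ∈ D.K := by
  rcases D.mem_or x with h | ⟨g, hg⟩
  · exact h
  · have h1 : orderOf x ∣ Nat.card D.C := by
      rw [← orderOf_conj_eq' g x]
      exact Subgroup.orderOf_dvd_natCard _ hg
    have h2 : orderOf x = 1 := Nat.eq_one_of_dvd_coprimes D.hcop hx h1
    rw [orderOf_eq_one_iff] at h2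
    rw [h2]; exact D.K.one_mem

/-- a Frobenius group is solvable iff its complement is -/
theorem FD.isSolvable_iff (D : FD F) : Group.IsSolvable F ↔ Group.IsSolvable D.C := by
  have := D.hKn
  constructor
  · intro h
    exact Group.isSolvable_of_isSolvable_injective (f := D.C.subtype) D.C.subtype_injective
  · intro h
    have : Group.IsSolvable D.K := by
      have := D.hnil
      infer_instance
    have e : F ⧸ D.K ≃* D.C := by
      have := D.hcompl.symm
      exact Subgroup.IsComplement'.QuotientMulEquiv this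
    have : Group.IsSolvable (F ⧸ D.K) :=
      Group.isSolvable_of_isSolvable_injective (f := e.toMonoidHom) e.injective
    refine Group.isSolvable_of_ker_le_range D.K.subtype (QuotientGroup.mk' D.K) ?_
    rw [QuotientGroup.ker_mk', Subgroup.range_subtype]

end Cfsg.Agent.Lib.Helper11.FrobOT
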