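import Mathlib
import Cfsg.Agent.Lib.Helper11.FrobOTC
import Cfsg.Agent.S0039

/-!
Helper lemmas (helper11) for S3999. Part D: a group with the order type of a Frobenius group is a
Frobenius group with complement of the same order.
-/

set_option autoImplicit false
open scoped Pointwise

namespace Cfsg.Agent.Lib.Helper11.FrobOT

universe u v

/-- number of `p`-elements of a Frobenius group, `p` dividing the order of the kernel -/
theorem FD.card_pElements_le {F : Type u} [Group F] [Finite F] (D : FD F) (p : ℕ)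
    [hp : Fact p.Prime] (hpK : p ∣ Nat.card D.K) :
    Nat.card {x : F // ∃ k : ℕ, orderOf x = p ^ k} ≤ p ^ (Nat.card F).factorization p := by
  classical
  have hnil := D.hnil
  have hnorm : ∀ (q : ℕ) (_ : Fact q.Prime) (P : Sylow q D.K), (P : Subgroup D.K).Normal :=
    ((Group.isNilpotent_of_finite_tfae (G := D.K)).out 0 3).mp hnil
  let Pk : Sylow p D.K := default
  have hPn : (Pk : Subgroup D.K).Normal := hnorm p hp Pk
  haveI : Unique (Sylow p D.K) := Sylow.unique_of_normal Pk hPn
  have hpC : ¬ p ∣ Nat.card D.C := by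
    intro h
    have := Nat.eq_one_of_dvd_coprimes D.hcop hpK h
    exact hp.out.one_lt.ne' this
  have hsub : {x : F | ∃ k : ℕ, orderOf x = p ^ k} ⊆
      ((Pk : Subgroup D.K).map D.K.subtype : Set F) := by
    rintro x ⟨k, hk⟩
    have hxK : x ∈ D.K := by
      rcases D.orderOf_dvd x with h | h
      · exact D.mem_K_of_orderOf_dvd h
      · have hc : (orderOf x).Coprime (Nat.card D.C) := by
          rw [hk]
          exact Nat.Coprime.pow_left _ ((Nat.Prime.coprime_iff_not_dvd hp.out).mpr hpC)
        have h1 := hc.eq_one_of_dvd h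
        rw [orderOf_eq_one_iff] at h1
        rw [h1]; exact D.K.one_mem
    have hpg : IsPGroup p (Subgroup.zpowers (⟨x, hxK⟩ : D.K)) := by
      apply IsPGroup.of_card (n := k)
      rw [Nat.card_zpowers, ← hk]
      exact Subgroup.orderOf_mk x hxK
    obtain ⟨Q, hQ⟩ := hpg.exists_le_sylow
    have hQP : Q = Pk := Subsingleton.elim _ _
    rw [hQP] at hQ
    exact ⟨⟨x, hxK⟩, hQ (Subgroup.mem_zpowers _), rfl⟩
  have h1 : Nat.card {x : F // ∃ k : ℕ, orderOf x = p ^ k} ≤
      Nat.card ((Pk : Subgroup D.K).map D.K.subtype) := by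
    have := Set.ncard_le_ncard hsub (Set.toFinite _)
    rw [← Nat.card_coe_set_eq, ← Nat.card_coe_set_eq] at this
    exact this
  rw [Subgroup.card_map_of_injective D.K.subtype_injective, Sylow.card_eq_multiplicity] at h1
  refine h1.trans (Nat.pow_le_pow_right hp.out.pos ?_)
  have hdvd : Nat.card D.K ∣ Nat.card F := Subgroup.card_subgroup_dvd_card D.K
  exact (Nat.factorization_le_iff_dvd Nat.card_pos.ne' Nat.card_pos.ne').mpr hdvd p

/-- If the number of `p`-elements of `G` is at most the order of a Sylow `p`-subgroup, the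
Sylow `p`-subgroup is normal. -/
theorem normal_sylow_of_card_le {G : Type u} [Group G] [Finite G] (p : ℕ) [hp : Fact p.Prime]
    (h : Nat.card {y : G // ∃ k : ℕ, orderOf y = p ^ k} ≤ p ^ (Nat.card G).factorization p)
    (P : Sylow p G) : (P : Subgroup G).Normal := by
  classical
  have hsub : ((P : Subgroup G) : Set G) ⊆ {y : G | ∃ k : ℕ, orderOf y = p ^ k} := by
    intro y hy
    obtain ⟨k, hk⟩ := (IsPGroup.iff_orderOf.mp P.isPGroup') ⟨y, hy⟩
    refine ⟨k, ?_⟩
    rw [← hk]
    exact (Subgroup.orderOf_mk y hy).symm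
  have hcard : Set.ncard {y : G | ∃ k : ℕ, orderOf y = p ^ k} ≤
      Set.ncard ((P : Subgroup G) : Set G) := by
    rw [← Nat.card_coe_set_eq, ← Nat.card_coe_set_eq]
    refine h.trans (le_of_eq ?_)
    exact (Sylow.card_eq_multiplicity P).symm
  have heq := Set.eq_of_subset_of_ncard_le hsub hcard (Set.toFinite _)
  refine ⟨fun y hy g => ?_⟩
  have hy' : y ∈ {y : G | ∃ k : ℕ, orderOf y = p ^ k} := hsub hy
  obtain ⟨k, hk⟩ := hy'
  have : g * y * g⁻¹ ∈ {y : G | ∃ k : ℕ, orderOf y = p ^ k} := ⟨k, by rw [orderOf_conj_eq, hk]⟩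
  rw [← heq] at this
  exact this

theorem card_sup_dvd {X : Type u} [Group X] (H K : Subgroup X) [K.Normal] :
    Nat.card ↥(H ⊔ K) ∣ Nat.card ↥H * Nat.card ↥K := by
  have h := Subgroup.relIndex_mul_relIndex ⊥ K (H ⊔ K) bot_le le_sup_right
  rw [Subgroup.relIndex_bot_left, Subgroup.relIndex_bot_left, Subgroup.relIndex_sup_right] at h
  rw [← h, mul_comm]
  exact Nat.mul_dvd_mul (Subgroup.relIndex_dvd_card K H) dvd_rfl

/-- Normal Sylow subgroups for all primes dividing `n` give a normal subgroup of order `n`. -/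
theorem exists_normal_of_normal_sylows {G : Type u} [Group G] [Finite G] (n : ℕ) (hn : n ≠ 0)
    (h : ∀ p : ℕ, p.Prime → p ∣ n →
      ∃ P : Subgroup G, P.Normal ∧ Nat.card P = p ^ n.factorization p) :
    ∃ N : Subgroup G, N.Normal ∧ Nat.card N = n := by
  classical
  have key : ∀ s : Finset ℕ, s ⊆ n.primeFactors →
      ∃ N : Subgroup G, N.Normal ∧ Nat.card N = ∏ p ∈ s, p ^ n.factorization p := by
    intro s
    induction s using Finset.induction_on with
    | empty =>
      intro _
      exact ⟨⊥, inferInstance, by simp⟩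
    | insert a s ha ih =>
      intro hs
      obtain ⟨N, hN, hNc⟩ := ih (fun x hx => hs (Finset.mem_insert_of_mem hx))
      have ha' : a ∈ n.primeFactors := hs (Finset.mem_insert_self a s)
      have hap : a.Prime := Nat.prime_of_mem_primeFactors ha'
      obtain ⟨P, hP, hPc⟩ := h a hap (Nat.dvd_of_mem_primeFactors ha')
      have := hN
      have := hP
      refine ⟨N ⊔ P, inferInstance, ?_⟩
      rw [Finset.prod_insert ha, ← hNc, ← hPc, mul_comm]
      have hcop : (Nat.card N).Coprime (Nat.card P) := by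
        rw [hNc, hPc]
        apply Nat.Coprime.prod_left
        intro q hq
        have hqp : q.Prime := Nat.prime_of_mem_primeFactors (hs (Finset.mem_insert_of_mem hq))
        have hne : q ≠ a := fun h => ha (h ▸ hq)
        exact Nat.Coprime.pow _ _ ((Nat.coprime_primes hqp hap).mpr hne)
      apply Nat.dvd_antisymm
      · exact card_sup_dvd N P
      · exact hcop.mul_dvd_of_dvd_of_dvd (Subgroup.card_dvd_of_le le_sup_left)
          (Subgroup.card_dvd_of_le le_sup_right)
  obtain ⟨N, hN, hNc⟩ := key n.primeFactors (Finset.Subset.refl _)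
  refine ⟨N, hN, ?_⟩
  rw [hNc]
  have := Nat.prod_factorization_pow_eq_self hn
  rw [Finsupp.prod, Nat.support_factorization] at this
  exact this

end Cfsg.Agent.Lib.Helper11.FrobOT
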