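import Mathlib
import Cfsg.Agent.Lib.Helper11.FrobOTD

/-!
Helper lemmas (helper11) for S3999. Part E: a group `G` with an order preserving bijection from a
Frobenius group `F` is a Frobenius group whose complement has the same order; transfer of elements of
order `15` between the complements.
-/

set_option autoImplicit false
open scoped Pointwise

namespace Cfsg.Agent.Lib.Helper11.FrobOT

universe u v

theorem exists_FD_of_orderEquiv {F : Type u} {G : Type v} [Group F] [Finite F] [Group G] [Finite G]
    (D : FD F) (e : F ≃ G) (he : ∀ x, orderOf (e x) = orderOf x) :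
    ∃ D' : FD G, Nat.card D'.C = Nat.card D.C := by
  classical
  obtain ⟨n, hn⟩ : ∃ n, n = Nat.card D.K := ⟨_, rfl⟩
  obtain ⟨m, hm⟩ : ∃ m, m = Nat.card D.C := ⟨_, rfl⟩
  have hcop : n.Coprime m := by rw [hn, hm]; exact D.hcop
  have hcardF : Nat.card F = n * m := by rw [hn, hm]; exact D.card_eq
  have hcardG : Nat.card G = n * m := by rw [← hcardF]; exact (Nat.card_congr e).symm
  have he' : ∀ y : G, orderOf (e.symm y) = orderOf y := fun y => by
    have := he (e.symm y)
    rw [e.apply_symm_apply] at this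
    exact this.symm
  have hdvd : ∀ y : G, orderOf y ∣ n ∨ orderOf y ∣ m := fun y => by
    rw [← he' y, hn, hm]
    exact D.orderOf_dvd _
  have hn1 : 1 < n := by rw [hn]; exact D.one_lt_card_K
  have hm1 : 1 < m := by rw [hm]; exact D.one_lt_card_C
  -- normal Sylows
  have hsyl : ∀ p : ℕ, p.Prime → p ∣ n →
      ∃ P : Subgroup G, P.Normal ∧ Nat.card P = p ^ n.factorization p := by
    intro p hp hpn
    haveI : Fact p.Prime := ⟨hp⟩
    have hcount : Nat.card {y : G // ∃ k : ℕ, orderOf y = p ^ k} ≤
        p ^ (Nat.card G).factorization p := by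
      have h1 := D.card_pElements_le p (hn ▸ hpn)
      rw [hcardF, ← hcardG] at h1
      refine le_trans (le_of_eq ?_) h1
      exact (Nat.card_congr (e.subtypeEquiv (fun x => by rw [he x]))).symm
    let P : Sylow p G := default
    refine ⟨P, normal_sylow_of_card_le p hcount P, ?_⟩
    rw [Sylow.card_eq_multiplicity, hcardG]
    congr 1
    have hpm : ¬ p ∣ m := fun h => hp.one_lt.ne' (Nat.eq_one_of_dvd_coprimes hcop hpn h)
    rw [Nat.factorization_mul (by omega) (by omega)]
    simp [Nat.factorization_eq_zero_of_not_dvd hpm]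
  obtain ⟨N, hNn, hNc⟩ := exists_normal_of_normal_sylows (G := G) n (by omega) hsyl
  have hNi : N.index = m := by
    have := N.card_mul_index
    rw [hNc, hcardG] at this
    exact Nat.eq_of_mul_eq_mul_left (by omega) this
  obtain ⟨H, hH⟩ := Subgroup.exists_right_complement'_of_coprime (N := N)
    (by rw [hNc, hNi]; exact hcop)
  have hHc : Nat.card H = m := by
    have := hH.card_mul
    rw [hNc, hcardG] at this
    exact Nat.eq_of_mul_eq_mul_left (by omega) this
  have hN1 : N ≠ ⊥ := by
    rw [← Subgroup.one_lt_card_iff_ne_bot, hNc]; exact hn1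
  have hH1 : H ≠ ⊥ := by
    rw [← Subgroup.one_lt_card_iff_ne_bot, hHc]; exact hm1
  have hfrob : Cfsg.IsFrobeniusComplement H := by
    rw [Cfsg.Agent.S0039.result N H hH hN1 hH1]
    intro h hh hne
    rw [Subgroup.eq_bot_iff_forall]
    intro x hx
    obtain ⟨hxN, hxc⟩ := Subgroup.mem_inf.mp hx
    by_contra hx1
    have hcomm : Commute x h := by
      rw [Subgroup.mem_centralizer_singleton_iff] at hxc
      exact hxc
    have hox : orderOf x ∣ n := hNc ▸ Subgroup.orderOf_dvd_natCard _ hxN
    have hoh : orderOf h ∣ m := hHc ▸ Subgroup.orderOf_dvd_natCard _ hh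
    have hcop' : (orderOf x).Coprime (orderOf h) :=
      Nat.Coprime.coprime_dvd_left hox (Nat.Coprime.coprime_dvd_right hoh hcop)
    have hmul := hcomm.orderOf_mul_eq_mul_orderOf_of_coprime hcop'
    have hx2 : orderOf x ≠ 1 := by rwa [Ne, orderOf_eq_one_iff]
    have hh2 : orderOf h ≠ 1 := by rwa [Ne, orderOf_eq_one_iff]
    rcases hdvd (x * h) with hd | hd
    · rw [hmul] at hd
      have : orderOf h ∣ n := (dvd_mul_left _ _).trans hd
      exact hh2 (Nat.eq_one_of_dvd_coprimes hcop this hoh)
    · rw [hmul] at hd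
      have : orderOf x ∣ m := (dvd_mul_right _ _).trans hd
      exact hx2 (Nat.eq_one_of_dvd_coprimes hcop hox this)
  obtain ⟨D', hD'⟩ := exists_FD_of H hfrob
  exact ⟨D', by rw [hD', hHc, hm]⟩

/-- transfer of elements of order `15` between complements -/
theorem FD.exists_fifteen_transfer {F : Type u} {G : Type v} [Group F] [Finite F] [Group G]
    [Finite G] (D : FD F) (D' : FD G) (e : F ≃ G) (he : ∀ x, orderOf (e x) = orderOf x)
    (hc : Nat.card D'.C = Nat.card D.C) (h : ∃ y ∈ D'.C, orderOf y = 15) :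
    ∃ x ∈ D.C, orderOf x = 15 := by
  obtain ⟨y, hy, hy15⟩ := h
  have h15 : 15 ∣ Nat.card D.C := by
    rw [← hc, ← hy15]; exact Subgroup.orderOf_dvd_natCard _ hy
  have hx15 : orderOf (e.symm y) = 15 := by
    have := he (e.symm y)
    rw [e.apply_symm_apply] at this
    rw [← this, hy15]
  rcases D.mem_or (e.symm y) with hK | ⟨g, hg⟩
  · exfalso
    have h1 : 15 ∣ Nat.card D.K := hx15 ▸ Subgroup.orderOf_dvd_natCard _ hK
    have := Nat.eq_one_of_dvd_coprimes D.hcop h1 h15
    omega
  · exact ⟨_, hg, by rw [orderOf_conj_eq', hx15]⟩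

end Cfsg.Agent.Lib.Helper11.FrobOT
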