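import Mathlib
import Cfsg.Agent.Lib.Helper11.FrobOTB
import Cfsg.Agent.Lib.Helper11.FrobOTC
import Cfsg.Agent.Lib.Helper22.FrobRing
import Cfsg.Agent.Lib.Helper13.SL2FiveCover
import Cfsg.Agent.S3359

/-!
Helper lemmas (helper11) for S3999. Part F: a non-solvable Frobenius complement has order
`15 t` with `(t, 15) = 1` and no element of order `15`.
-/

set_option autoImplicit false
open scoped Pointwise

namespace Cfsg.Agent.Lib.Helper11.FrobOT

universe u

/-- the `∃ (L : Type)` form of being a Frobenius complement -/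
theorem FD.isFC {F : Type u} [Group F] [Finite F] (D : FD F) :
    ∃ (L : Type) (_ : Group L) (_ : Finite L) (H : Subgroup L),
      Cfsg.IsFrobeniusComplement H ∧ Nonempty (D.C ≃* H) := by
  let e : Shrink.{0} F ≃* F := Shrink.mulEquiv
  refine ⟨Shrink.{0} F, inferInstance, Finite.of_equiv _ e.symm.toEquiv,
    D.C.comap e.toMonoidHom, Cfsg.Agent.Lib.Helper22.isFrobeniusComplement_comap_equiv e _ D.hC,
    ⟨?_⟩⟩
  exact (e.symm.subgroupMap D.C).trans
    (MulEquiv.subgroupCongr (Subgroup.comap_equiv_eq_map_symm e D.C).symm)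

/-- structure of a group with a subgroup `SL₂(5) × M` of index at most `2` -/
theorem no_fifteen_of_structure {X : Type u} [Group X] [Finite X]
    (G₀ : Subgroup X) (hG₀ : G₀.Normal) (hidx : G₀.index = 1 ∨ G₀.index = 2)
    (S M : Subgroup X) (hSM : S ⊔ M = G₀) (hdisj : S ⊓ M = ⊥)
    (hcomm : ∀ s ∈ S, ∀ x ∈ M, s * x = x * s)
    (φ : S ≃* Matrix.SpecialLinearGroup (Fin 2) (ZMod 5)) (hM : (Nat.card M).Coprime 30) :
    (∀ x : X, orderOf x ≠ 15) ∧ ∃ t, Nat.card X = 15 * t ∧ Nat.Coprime 15 t := by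
  classical
  have hS : Nat.card S = 120 := by
    rw [Nat.card_congr φ.toEquiv]
    exact Cfsg.Agent.Lib.Helper13.card_SL2_five
  have hM120 : (Nat.card M).Coprime 120 := by
    have h1 : (Nat.card M).Coprime (30 ^ 3) := Nat.Coprime.pow_right 3 hM
    exact Nat.Coprime.coprime_dvd_right (by norm_num) h1
  -- the product map
  have hc : ∀ (s : S) (μ : M), Commute (S.subtype s) (M.subtype μ) :=
    fun s μ => hcomm s s.2 μ μ.2
  let ψ : S × M →* X := MonoidHom.noncommCoprod S.subtype M.subtype hc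
  have hψinj : Function.Injective ψ := by
    rw [MonoidHom.noncommCoprod_injective]
    refine ⟨S.subtype_injective, M.subtype_injective, ?_⟩
    rw [Subgroup.range_subtype, Subgroup.range_subtype, disjoint_iff]
    exact hdisj
  have hψrange : ψ.range = G₀ := by
    rw [MonoidHom.noncommCoprod_range, Subgroup.range_subtype, Subgroup.range_subtype]
    exact hSM
  have hG₀card : Nat.card G₀ = 120 * Nat.card M := by
    rw [← hψrange, ← Nat.card_congr (MonoidHom.ofInjective hψinj).toEquiv, Nat.card_prod, hS]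
  constructor
  · intro x hx
    -- x lies in G₀
    haveI := hG₀
    have hx2 : x ^ 2 ∈ G₀ := by
      rw [← QuotientGroup.eq_one_iff, QuotientGroup.mk_pow]
      have h1 : orderOf (QuotientGroup.mk x : X ⧸ G₀) ∣ Nat.card (X ⧸ G₀) := orderOf_dvd_natCard _
      have h2 : Nat.card (X ⧸ G₀) = G₀.index := rfl
      rw [h2] at h1
      apply orderOf_dvd_iff_pow_eq_one.mp
      rcases hidx with h | h
      · rw [h] at h1; exact h1.trans (by norm_num)
      · rw [h] at h1; exact h1
    have hx16 : x = (x ^ 2) ^ 8 := by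
      rw [← pow_mul]
      have : x ^ 15 = 1 := by rw [← hx]; exact pow_orderOf_eq_one x
      calc x = x ^ 15 * x := by rw [this, one_mul]
        _ = x ^ (2 * 8) := by rw [← pow_succ]
    have hxG₀ : x ∈ G₀ := by
      rw [hx16]; exact G₀.pow_mem hx2 8
    rw [← hψrange] at hxG₀
    obtain ⟨⟨s, μ⟩, hsμ⟩ := hxG₀
    have hsμ' : (s : X) * (μ : X) = x := by
      rw [← hsμ]; rfl
    have hos : orderOf (s : X) ∣ 120 := by
      rw [← hS, Subgroup.orderOf_coe]; exact orderOf_dvd_natCard s
    have hoμ : orderOf (μ : X) ∣ Nat.card M := by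
      rw [Subgroup.orderOf_coe]; exact orderOf_dvd_natCard μ
    have hcop : (orderOf (s : X)).Coprime (orderOf (μ : X)) :=
      Nat.Coprime.coprime_dvd_left hos (Nat.Coprime.coprime_dvd_right hoμ hM120.symm)
    have hmul := (hc s μ).orderOf_mul_eq_mul_orderOf_of_coprime hcop
    simp only [Subgroup.coe_subtype] at hmul
    rw [hsμ', hx] at hmul
    have hμ1 : orderOf (μ : X) = 1 := by
      have h1 : orderOf (μ : X) ∣ 30 := (Dvd.intro_left _ hmul.symm).trans (by norm_num)
      exact Nat.eq_one_of_dvd_coprimes hM hoμ h1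
    rw [hμ1, mul_one] at hmul
    have h15 : orderOf (φ s) = 15 := by
      rw [MulEquiv.orderOf_eq, ← Subgroup.orderOf_coe, ← hmul]
    exact sl25_orderOf_ne_fifteen _ h15
  · have hcard : Nat.card X = G₀.index * (120 * Nat.card M) := by
      rw [← hG₀card, mul_comm]; exact (G₀.card_mul_index).symm
    have hM15 : Nat.Coprime 15 (Nat.card M) :=
      (Nat.Coprime.coprime_dvd_right (by norm_num : 15 ∣ 30) hM).symm
    rcases hidx with h | h
    · refine ⟨8 * Nat.card M, by rw [hcard, h]; ring, ?_⟩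
      exact Nat.Coprime.mul_right (by norm_num) hM15
    · refine ⟨16 * Nat.card M, by rw [hcard, h]; ring, ?_⟩
      exact Nat.Coprime.mul_right (by norm_num) hM15

/-- a non-solvable Frobenius complement has order `15 t`, `(t, 15) = 1`, and no element of
order `15` -/
theorem FD.nonsolvable_complement {F : Type u} [Group F] [Finite F] (D : FD F)
    (hns : ¬ Group.IsSolvable D.C) :
    (∀ x ∈ D.C, orderOf x ≠ 15) ∧ ∃ t, Nat.card D.C = 15 * t ∧ Nat.Coprime 15 t := by
  obtain ⟨G₀, hG₀, hidx, S, M, hSM, hdisj, hcomm, ⟨φ⟩, -, hM⟩ :=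
    Cfsg.Agent.S3359.result (G := D.C) hns D.isFC
  obtain ⟨h1, h2⟩ := no_fifteen_of_structure G₀ hG₀ hidx S M hSM hdisj hcomm φ hM
  refine ⟨fun x hx h15 => ?_, h2⟩
  apply h1 ⟨x, hx⟩
  rw [← h15]
  exact Subgroup.orderOf_mk x hx

end Cfsg.Agent.Lib.Helper11.FrobOT
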