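import Mathlib
import Cfsg.Prelude.Def_G2

/-!
# Split octonions as the Cayley–Dickson double of `M₂(F)` (helper11)

`pairEquiv : (Fin 8 → F) ≃ₗ[F] M₂(F) × M₂(F)` transports Zorn's vector-matrix product to
`cdMul (a,b) (c,d) = (a c + adj(d) b, d a + b adj(c))`.
-/

set_option autoImplicit false
open Matrix

namespace Cfsg.Agent.Lib.Helper11.G2Oct

variable {F : Type*} [Field F]

abbrev M2 (F : Type*) := Matrix (Fin 2) (Fin 2) F

/-- the Cayley–Dickson product on pairs of 2×2 matrices -/
def cdMul (X Y : M2 F × M2 F) : M2 F × M2 F :=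
  (X.1 * Y.1 + adjugate Y.2 * X.2, Y.2 * X.1 + X.2 * adjugate Y.1)

/-- Zorn coordinates to pairs. -/
def toPair (x : Fin 8 → F) : M2 F × M2 F :=
  (!![x 0, x 1; x 4, x 7], !![x 2, x 6; -x 3, x 5])

/-- pairs to Zorn coordinates. -/
def ofPair (p : M2 F × M2 F) : Fin 8 → F :=
  ![p.1 0 0, p.1 0 1, p.2 0 0, -p.2 1 0, p.1 1 0, p.2 1 1, p.2 0 1, p.1 1 1]

theorem ofPair_toPair (x : Fin 8 → F) : ofPair (toPair x) = x := by
  funext i
  fin_cases i <;> simp [ofPair, toPair]

theorem toPair_ofPair (p : M2 F × M2 F) : toPair (ofPair p) = p := by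
  rcases p with ⟨a, b⟩
  refine Prod.ext ?_ ?_
  · ext i j
    fin_cases i <;> fin_cases j <;> simp [ofPair, toPair]
  · ext i j
    fin_cases i <;> fin_cases j <;> simp [ofPair, toPair]

/-- the linear identification of Zorn's coordinate space with pairs of matrices -/
def pairEquiv : (Fin 8 → F) ≃ₗ[F] M2 F × M2 F where
  toFun := toPair
  invFun := ofPair
  left_inv := ofPair_toPair
  right_inv := toPair_ofPair
  map_add' x y := by
    refine Prod.ext ?_ ?_
    · ext i j
      fin_cases i <;> fin_cases j <;> simp [toPair]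
    · ext i j
      fin_cases i <;> fin_cases j <;> simp [toPair] <;> ring
  map_smul' r x := by
    refine Prod.ext ?_ ?_
    · ext i j
      fin_cases i <;> fin_cases j <;> simp [toPair]
    · ext i j
      fin_cases i <;> fin_cases j <;> simp [toPair]

@[simp] theorem pairEquiv_apply (x : Fin 8 → F) : pairEquiv x = toPair x := rfl
@[simp] theorem pairEquiv_symm_apply (p : M2 F × M2 F) : pairEquiv.symm p = ofPair p := rfl

theorem toPair_zornMul (x y : Fin 8 → F) :
    toPair (Cfsg.Lie.zornMul x y) = cdMul (toPair x) (toPair y) := by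
  refine Prod.ext ?_ ?_
  · ext i j
    fin_cases i <;> fin_cases j <;>
      simp [toPair, cdMul, Cfsg.Lie.zornMul, Cfsg.Lie.dot3, Cfsg.Lie.cross3,
        Matrix.adjugate_fin_two] <;> ring
  · ext i j
    fin_cases i <;> fin_cases j <;>
      simp [toPair, cdMul, Cfsg.Lie.zornMul, Cfsg.Lie.dot3, Cfsg.Lie.cross3,
        Matrix.adjugate_fin_two] <;> ring

end Cfsg.Agent.Lib.Helper11.G2Oct
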