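import Cfsg.Agent.Lib.Helper11.G2OctA

/-!
# `G₂(F)` as the automorphism group of the Cayley–Dickson algebra on `M₂(F) × M₂(F)` (helper11)
-/

set_option autoImplicit false
open Matrix

namespace Cfsg.Agent.Lib.Helper11.G2Oct

variable {F : Type*} [Field F]

/-- the type of linear automorphisms of the space of pairs -/
abbrev PairAut (F : Type*) [Field F] := (M2 F × M2 F) ≃ₗ[F] (M2 F × M2 F)

/-- automorphisms of the Cayley–Dickson algebra -/
def cdAut (F : Type*) [Field F] : Subgroup (PairAut F) where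
  carrier := {e | ∀ X Y, e (cdMul X Y) = cdMul (e X) (e Y)}
  mul_mem' {e f} he hf := by
    intro X Y
    rw [LinearEquiv.mul_apply, hf, he]
    rfl
  one_mem' := by
    intro X Y
    rfl
  inv_mem' {e} he := by
    intro X Y
    have h := he (e⁻¹ X) (e⁻¹ Y)
    have h1 : ∀ Z, e (e⁻¹ Z) = Z := fun Z => LinearEquiv.apply_symm_apply e Z
    rw [h1, h1] at h
    rw [← h]
    exact LinearEquiv.symm_apply_apply e _

theorem mem_cdAut (e : PairAut F) :
    e ∈ cdAut F ↔ ∀ X Y, e (cdMul X Y) = cdMul (e X) (e Y) := Iff.rfl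

/-- `GL₈(F)` is the group of linear automorphisms of the space of pairs -/
noncomputable def glEquiv (F : Type*) [Field F] : GL (Fin 8) F ≃* PairAut F :=
  (Matrix.GeneralLinearGroup.toLin.trans
    (LinearMap.GeneralLinearGroup.congrLinearEquiv (pairEquiv (F := F)))).trans
    (LinearMap.GeneralLinearGroup.generalLinearEquiv F (M2 F × M2 F))

theorem glEquiv_apply (g : GL (Fin 8) F) (X : M2 F × M2 F) :
    glEquiv F g X = toPair ((g : Matrix (Fin 8) (Fin 8) F) *ᵥ ofPair X) := by
  rfl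

theorem mem_G2_iff (g : GL (Fin 8) F) : g ∈ Cfsg.Lie.G2 F ↔ glEquiv F g ∈ cdAut F := by
  constructor
  · intro hg X Y
    rw [glEquiv_apply, glEquiv_apply, glEquiv_apply]
    have h := hg (ofPair X) (ofPair Y)
    have h1 : ofPair (cdMul X Y) = Cfsg.Lie.zornMul (ofPair X) (ofPair Y) := by
      have h2 := toPair_zornMul (ofPair X) (ofPair Y)
      rw [toPair_ofPair, toPair_ofPair] at h2
      rw [← h2, ofPair_toPair]
    rw [h1]
    have h3 : (Units.coeHom (Matrix (Fin 8) (Fin 8) F) g) = (g : Matrix (Fin 8) (Fin 8) F) := rfl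
    rw [h3] at h
    rw [h, toPair_zornMul]
  · intro hg x y
    have h := hg (toPair x) (toPair y)
    rw [glEquiv_apply, glEquiv_apply, glEquiv_apply, ← toPair_zornMul, ofPair_toPair,
      ofPair_toPair, ofPair_toPair, ← toPair_zornMul] at h
    have h3 : (Units.coeHom (Matrix (Fin 8) (Fin 8) F) g) = (g : Matrix (Fin 8) (Fin 8) F) := rfl
    rw [h3]
    have := congrArg ofPair h
    rwa [ofPair_toPair, ofPair_toPair] at this

theorem map_G2 : (Cfsg.Lie.G2 F).map (glEquiv F).toMonoidHom = cdAut F := by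
  ext e
  constructor
  · rintro ⟨g, hg, rfl⟩
    exact (mem_G2_iff g).mp hg
  · intro he
    refine ⟨(glEquiv F).symm e, ?_, ?_⟩
    · rw [SetLike.mem_coe, mem_G2_iff, MulEquiv.apply_symm_apply]
      exact he
    · exact MulEquiv.apply_symm_apply _ _

/-- `G₂(F) ≃* Aut` of the Cayley–Dickson algebra -/
noncomputable def g2Equiv (F : Type*) [Field F] : ↥(Cfsg.Lie.G2 F) ≃* ↥(cdAut F) :=
  ((glEquiv F).subgroupMap (Cfsg.Lie.G2 F)).trans (MulEquiv.subgroupCongr map_G2)

end Cfsg.Agent.Lib.Helper11.G2Oct
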