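import Cfsg.Agent.Lib.Helper11.G2OctB

/-!
# The automorphisms `Ψ(c,p) : (a,b) ↦ (c a c⁻¹, p c b c⁻¹)` of the Cayley–Dickson algebra (helper11)
-/

set_option autoImplicit false
open Matrix

namespace Cfsg.Agent.Lib.Helper11.G2Oct

variable {F : Type*} [Field F]

theorem adjugate_conj (u v x : M2 F) (h : u * v = 1) :
    adjugate (u * x * v) = u * adjugate x * v := by
  have h' : v * u = 1 := mul_eq_one_comm.mp h
  have hdet : u.det * v.det = 1 := by rw [← Matrix.det_mul, h, Matrix.det_one]
  have hv : adjugate v = v.det • u := by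
    calc adjugate v = adjugate v * (v * u) := by rw [h', mul_one]
      _ = (adjugate v * v) * u := by rw [mul_assoc]
      _ = v.det • u := by rw [Matrix.adjugate_mul, Matrix.smul_mul, one_mul]
  have hu : adjugate u = u.det • v := by
    calc adjugate u = adjugate u * (u * v) := by rw [h, mul_one]
      _ = (adjugate u * u) * v := by rw [mul_assoc]
      _ = u.det • v := by rw [Matrix.adjugate_mul, Matrix.smul_mul, one_mul]
  rw [Matrix.adjugate_mul_distrib, Matrix.adjugate_mul_distrib, hv, hu]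
  simp only [Matrix.smul_mul, Matrix.mul_smul, smul_smul]
  rw [hdet, one_smul, mul_assoc]

/-- the underlying function of `Ψ(c,p)` for matrices `c, c', p` -/
def psiFun (c c' p : M2 F) (X : M2 F × M2 F) : M2 F × M2 F :=
  (c * X.1 * c', p * c * X.2 * c')

theorem psiFun_comp (c c' p d d' r : M2 F) (hc : c' * c = 1) (X : M2 F × M2 F) :
    psiFun c c' p (psiFun d d' r X) = psiFun (c * d) (d' * c') (p * (c * r * c')) X := by
  unfold psiFun
  refine Prod.ext ?_ ?_
  · simp only [mul_assoc]
  · simp only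
    calc p * c * (r * d * X.2 * d') * c' = p * c * r * d * X.2 * d' * c' := by
          simp only [mul_assoc]
      _ = p * c * r * (c' * c) * d * X.2 * d' * c' := by rw [hc, mul_one]
      _ = p * (c * r * c') * (c * d) * X.2 * (d' * c') := by simp only [mul_assoc]

theorem psiFun_cdMul (c c' p : M2 F) (hc : c * c' = 1) (hp : p.det = 1) (X Y : M2 F × M2 F) :
    psiFun c c' p (cdMul X Y) = cdMul (psiFun c c' p X) (psiFun c c' p Y) := by
  have hc' : c' * c = 1 := mul_eq_one_comm.mp hc
  have hadjp : adjugate p * p = 1 := by rw [Matrix.adjugate_mul, hp, one_smul]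
  unfold psiFun cdMul
  refine Prod.ext ?_ ?_
  · simp only
    have e1 : adjugate (p * c * Y.2 * c') = c * adjugate Y.2 * c' * adjugate p := by
      rw [show p * c * Y.2 * c' = p * (c * Y.2 * c') by simp only [mul_assoc],
        Matrix.adjugate_mul_distrib, adjugate_conj c c' Y.2 hc]
    rw [e1]
    calc c * (X.1 * Y.1 + adjugate Y.2 * X.2) * c'
        = c * X.1 * Y.1 * c' + c * adjugate Y.2 * X.2 * c' := by
          rw [mul_add, add_mul]; simp only [mul_assoc]
      _ = c * X.1 * (c' * c) * Y.1 * c' + c * adjugate Y.2 * (c' * (adjugate p * p) * c) * X.2 * c' := by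
          rw [hadjp, mul_one, hc', mul_one, mul_one]
      _ = c * X.1 * c' * (c * Y.1 * c') + c * adjugate Y.2 * c' * adjugate p * (p * c * X.2 * c') := by
          simp only [mul_assoc]
  · simp only
    rw [adjugate_conj c c' Y.1 hc]
    calc p * c * (Y.2 * X.1 + X.2 * adjugate Y.1) * c'
        = p * c * Y.2 * X.1 * c' + p * c * X.2 * adjugate Y.1 * c' := by
          rw [mul_add, add_mul]; simp only [mul_assoc]
      _ = p * c * Y.2 * (c' * c) * X.1 * c' + p * c * X.2 * (c' * c) * adjugate Y.1 * c' := by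
          rw [hc', mul_one, mul_one]
      _ = p * c * Y.2 * c' * (c * X.1 * c') + p * c * X.2 * c' * (c * adjugate Y.1 * c') := by
          simp only [mul_assoc]


theorem psiFun_one (X : M2 F × M2 F) : psiFun (1 : M2 F) 1 1 X = X := by
  unfold psiFun
  simp

/-- `Ψ(c,p)` as a linear automorphism, from matrices with explicit inverses -/
def psiEquiv (c c' p p' : M2 F) (hc : c * c' = 1) (hp : p * p' = 1) : PairAut F where
  toFun := psiFun c c' p
  invFun := psiFun c' c (c' * p' * c)
  map_add' X Y := by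
    unfold psiFun
    refine Prod.ext ?_ ?_
    · simp [mul_add, add_mul]
    · simp [mul_add, add_mul]
  map_smul' r X := by
    unfold psiFun
    refine Prod.ext ?_ ?_
    · simp
    · simp
  left_inv X := by
    have hc' : c' * c = 1 := mul_eq_one_comm.mp hc
    have hp' : p' * p = 1 := mul_eq_one_comm.mp hp
    rw [psiFun_comp c' c (c' * p' * c) c c' p hc]
    have e1 : c' * c = 1 := hc'
    have e2 : c' * p' * c * (c' * p * c) = 1 := by
      calc c' * p' * c * (c' * p * c) = c' * p' * (c * c') * p * c := by simp only [mul_assoc]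
        _ = c' * (p' * p) * c := by rw [hc, mul_one]; simp only [mul_assoc]
        _ = 1 := by rw [hp', mul_one, hc']
    rw [e1, e2]
    exact psiFun_one X
  right_inv X := by
    have hc' : c' * c = 1 := mul_eq_one_comm.mp hc
    rw [psiFun_comp c c' p c' c (c' * p' * c) hc']
    have e2 : p * (c * (c' * p' * c) * c') = 1 := by
      calc p * (c * (c' * p' * c) * c') = p * ((c * c') * p' * (c * c')) := by
            simp only [mul_assoc]
        _ = 1 := by rw [hc, one_mul, mul_one, hp]
    rw [hc, e2]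
    exact psiFun_one X

@[simp] theorem psiEquiv_apply (c c' p p' : M2 F) (hc : c * c' = 1) (hp : p * p' = 1)
    (X : M2 F × M2 F) : psiEquiv c c' p p' hc hp X = (c * X.1 * c', p * c * X.2 * c') := rfl

theorem psiEquiv_mem (c c' p p' : M2 F) (hc : c * c' = 1) (hp : p * p' = 1) (hdet : p.det = 1) :
    psiEquiv c c' p p' hc hp ∈ cdAut F := by
  intro X Y
  exact psiFun_cdMul c c' p hc hdet X Y

/-- `Ψ(c,p)` for `c ∈ GL₂(F)`, `p ∈ SL₂(F)` -/
def psi (c : GL (Fin 2) F) (p : Matrix.SpecialLinearGroup (Fin 2) F) : ↥(cdAut F) :=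
  ⟨psiEquiv (c : M2 F) ((c⁻¹ : GL (Fin 2) F) : M2 F) (p : M2 F)
      ((p⁻¹ : Matrix.SpecialLinearGroup (Fin 2) F) : M2 F)
      (by rw [← Units.val_mul, mul_inv_cancel]; rfl)
      (by rw [← Matrix.SpecialLinearGroup.coe_mul, mul_inv_cancel]; rfl),
    psiEquiv_mem _ _ _ _ _ _ p.2⟩

theorem psi_apply (c : GL (Fin 2) F) (p : Matrix.SpecialLinearGroup (Fin 2) F) (X : M2 F × M2 F) :
    (psi c p : PairAut F) X =
      ((c : M2 F) * X.1 * ((c⁻¹ : GL (Fin 2) F) : M2 F),
        (p : M2 F) * (c : M2 F) * X.2 * ((c⁻¹ : GL (Fin 2) F) : M2 F)) := rfl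

theorem cdAut_ext {e f : ↥(cdAut F)} (h : ∀ X, (e : PairAut F) X = (f : PairAut F) X) : e = f := by
  apply Subtype.ext
  exact LinearEquiv.ext h

/-- conjugation action of `GL₂` on `SL₂` -/
def conjSL (c : GL (Fin 2) F) (p : Matrix.SpecialLinearGroup (Fin 2) F) :
    Matrix.SpecialLinearGroup (Fin 2) F :=
  ⟨(c : M2 F) * (p : M2 F) * ((c⁻¹ : GL (Fin 2) F) : M2 F), by
    rw [Matrix.det_mul, Matrix.det_mul, p.2, mul_one, ← Matrix.det_mul, ← Units.val_mul,
      mul_inv_cancel]
    exact Matrix.det_one⟩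

theorem psi_mul (c d : GL (Fin 2) F) (p r : Matrix.SpecialLinearGroup (Fin 2) F) :
    psi c p * psi d r = psi (c * d) (p * conjSL c r) := by
  apply cdAut_ext
  intro X
  have hc : ((c⁻¹ : GL (Fin 2) F) : M2 F) * (c : M2 F) = 1 := by
    rw [← Units.val_mul, inv_mul_cancel]; rfl
  rw [Subgroup.coe_mul, LinearEquiv.mul_apply, psi_apply, psi_apply, psi_apply]
  have h := psiFun_comp (c : M2 F) ((c⁻¹ : GL (Fin 2) F) : M2 F) (p : M2 F) (d : M2 F)
    ((d⁻¹ : GL (Fin 2) F) : M2 F) (r : M2 F) hc X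
  unfold psiFun at h
  rw [h]
  rw [_root_.mul_inv_rev, Units.val_mul, Units.val_mul, Matrix.SpecialLinearGroup.coe_mul]
  rfl

end Cfsg.Agent.Lib.Helper11.G2Oct
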