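import Cfsg.Agent.Lib.Helper11.G2OctC

/-!
# Skolem–Noether for `M₂(F)` (by hand) (helper11)
-/

set_option autoImplicit false
open Matrix

namespace Cfsg.Agent.Lib.Helper11.G2Oct

variable {F : Type*} [Field F]

def E11 : M2 F := !![1, 0; 0, 0]
def E12 : M2 F := !![0, 1; 0, 0]
def E21 : M2 F := !![0, 0; 1, 0]
def E22 : M2 F := !![0, 0; 0, 1]

theorem mul_E11 (a : M2 F) : a * E11 = a 0 0 • E11 + a 1 0 • E21 := by
  ext i j
  fin_cases i <;> fin_cases j <;> simp [E11, E21, Matrix.mul_apply, Fin.sum_univ_two]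

theorem mul_E21 (a : M2 F) : a * E21 = a 0 1 • E11 + a 1 1 • E21 := by
  ext i j
  fin_cases i <;> fin_cases j <;> simp [E11, E21, Matrix.mul_apply, Fin.sum_univ_two]

theorem E11_mul (a : M2 F) : E11 * a = a 0 0 • E11 + a 0 1 • E12 := by
  ext i j
  fin_cases i <;> fin_cases j <;> simp [E11, E12, Matrix.mul_apply, Fin.sum_univ_two]

theorem E12_mul (a : M2 F) : E12 * a = a 1 0 • E11 + a 1 1 • E12 := by
  ext i j
  fin_cases i <;> fin_cases j <;> simp [E11, E12, Matrix.mul_apply, Fin.sum_univ_two]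

/-- the intertwiner attached to a matrix `W` -/
def twine (σ : M2 F →ₗ[F] M2 F) (W : M2 F) : M2 F :=
  σ E11 * W * E11 + σ E21 * W * E12

theorem twine_spec (σ : M2 F →ₗ[F] M2 F) (hmul : ∀ a b, σ (a * b) = σ a * σ b) (W a : M2 F) :
    σ a * twine σ W = twine σ W * a := by
  unfold twine
  rw [mul_add, add_mul]
  have h1 : σ a * (σ E11 * W * E11) = (a 0 0 • σ E11 + a 1 0 • σ E21) * W * E11 := by
    rw [← mul_assoc, ← mul_assoc, ← hmul, mul_E11 a, map_add, map_smul, map_smul]
  have h2 : σ a * (σ E21 * W * E12) = (a 0 1 • σ E11 + a 1 1 • σ E21) * W * E12 := by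
    rw [← mul_assoc, ← mul_assoc, ← hmul, mul_E21 a, map_add, map_smul, map_smul]
  have h3 : σ E11 * W * E11 * a = σ E11 * W * (a 0 0 • E11 + a 0 1 • E12) := by
    rw [mul_assoc, E11_mul a]
  have h4 : σ E21 * W * E12 * a = σ E21 * W * (a 1 0 • E11 + a 1 1 • E12) := by
    rw [mul_assoc, E12_mul a]
  rw [h1, h2, h3, h4]
  simp only [add_mul, mul_add, Matrix.smul_mul, Matrix.mul_smul]
  abel

theorem exists_mulVec_eq (x : Fin 2 → F) (hx : x ≠ 0) (y : Fin 2 → F) :
    ∃ a : M2 F, a *ᵥ x = y := by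
  have : ∃ i, x i ≠ 0 := by
    by_contra h
    push Not at h
    exact hx (funext h)
  obtain ⟨i, hi⟩ := this
  refine ⟨Matrix.vecMulVec y (Pi.single i (x i)⁻¹), ?_⟩
  rw [Matrix.vecMulVec_mulVec]
  rw [dotProduct_comm, dotProduct_single, mul_inv_cancel₀ hi]
  simp

theorem isUnit_of_twine (σ : M2 F →ₗ[F] M2 F) (c : M2 F) (hc0 : c ≠ 0)
    (hc : ∀ a, σ a * c = c * a) : IsUnit c.det := by
  by_contra hdet
  rw [isUnit_iff_ne_zero, not_not] at hdet
  obtain ⟨x, hx, hcx⟩ := (Matrix.exists_mulVec_eq_zero_iff).mpr hdet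
  apply hc0
  have hall : ∀ y : Fin 2 → F, c *ᵥ y = 0 := by
    intro y
    obtain ⟨a, rfl⟩ := exists_mulVec_eq x hx y
    rw [Matrix.mulVec_mulVec, ← hc a, ← Matrix.mulVec_mulVec, hcx, Matrix.mulVec_zero]
  ext i j
  have := congrFun (hall (Pi.single j 1)) i
  simpa using this

/-- Skolem–Noether for `M₂(F)` -/
theorem skolem_noether (σ : M2 F →ₗ[F] M2 F) (hmul : ∀ a b, σ (a * b) = σ a * σ b)
    (hinj : Function.Injective σ) :
    ∃ c : GL (Fin 2) F, ∀ a, σ a = (c : M2 F) * a * ((c⁻¹ : GL (Fin 2) F) : M2 F) := by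
  have hE : σ E11 ≠ 0 := by
    intro h
    have h0 : (E11 : M2 F) = 0 := hinj (by rw [h, map_zero])
    have := congrFun (congrFun h0 0) 0
    simp [E11] at this
  have hW : ∃ W : M2 F, twine σ W ≠ 0 := by
    by_contra hno
    push Not at hno
    apply hE
    have h1 := hno E11
    have h2 := hno E21
    have k1 : σ E11 * E11 = 0 := by
      have := congrArg (fun m => m * (E11 : M2 F)) h1
      simp only [twine, add_mul, zero_mul] at this
      have e1 : (E11 : M2 F) * E11 = E11 := by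
        ext i j; fin_cases i <;> fin_cases j <;> simp [E11]
      have e2 : (E12 : M2 F) * E11 = 0 := by
        ext i j; fin_cases i <;> fin_cases j <;> simp [E11, E12]
      rw [mul_assoc, mul_assoc, e1, mul_assoc (σ E21 * E11), e2, mul_zero, add_zero, e1] at this
      exact this
    have k2 : σ E11 * E21 = 0 := by
      have := congrArg (fun m => m * (E11 : M2 F)) h2
      simp only [twine, add_mul, zero_mul] at this
      have e1 : (E11 : M2 F) * E11 = E11 := by
        ext i j; fin_cases i <;> fin_cases j <;> simp [E11]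
      have e2 : (E12 : M2 F) * E11 = 0 := by
        ext i j; fin_cases i <;> fin_cases j <;> simp [E11, E12]
      have e3 : (E21 : M2 F) * E11 = E21 := by
        ext i j; fin_cases i <;> fin_cases j <;> simp [E11, E21]
      rw [mul_assoc (σ E21 * E21), e2, mul_zero, add_zero, mul_assoc, e1, mul_assoc, e3] at this
      exact this
    generalize σ E11 = m at k1 k2
    ext i j
    have a1 := congrFun (congrFun k1 i) 0
    have a2 := congrFun (congrFun k2 i) 0
    simp [E11, Matrix.mul_apply, Fin.sum_univ_two] at a1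
    simp [E21, Matrix.mul_apply, Fin.sum_univ_two] at a2
    fin_cases j
    · simpa using a1
    · simpa using a2
  obtain ⟨W, hW⟩ := hW
  have hc := twine_spec σ hmul W
  have hu := isUnit_of_twine σ (twine σ W) hW hc
  refine ⟨Matrix.GeneralLinearGroup.mk'' (twine σ W) hu, ?_⟩
  intro a
  set g : GL (Fin 2) F := Matrix.GeneralLinearGroup.mk'' (twine σ W) hu with hg
  have h1 : (g : M2 F) = twine σ W := rfl
  have h2 : (g : M2 F) * ((g⁻¹ : GL (Fin 2) F) : M2 F) = 1 := by
    rw [← Units.val_mul, mul_inv_cancel]; rfl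
  have h3 : σ a * (g : M2 F) = (g : M2 F) * a := by rw [h1]; exact hc a
  rw [← h3, mul_assoc, h2, mul_one]

end Cfsg.Agent.Lib.Helper11.G2Oct
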