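import Cfsg.Agent.Lib.Helper11.G2OctD

/-!
# The centraliser of the involution `t : (a,b) ↦ (a,-b)` in `Aut` of the Cayley–Dickson algebra
(helper11)
-/

set_option autoImplicit false
open Matrix

namespace Cfsg.Agent.Lib.Helper11.G2Oct

variable {F : Type*} [Field F]

/-- the involution `t = Ψ(1,-1)` -/
def tEl (F : Type*) [Field F] : ↥(cdAut F) := psi 1 (-1)

theorem tEl_apply (X : M2 F × M2 F) : ((tEl F : ↥(cdAut F)) : PairAut F) X = (X.1, -X.2) := by
  unfold tEl
  rw [psi_apply]
  simp

theorem exists_psi_of_commute (h2 : (2 : F) ≠ 0) (e : ↥(cdAut F))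
    (hcomm : e * tEl F = tEl F * e) : ∃ c p, e = psi c p := by
  obtain ⟨E, he⟩ := e
  have hE : ∀ X Y, E (cdMul X Y) = cdMul (E X) (E Y) := he
  have hc : ∀ X, E ((X.1, -X.2)) = ((E X).1, -(E X).2) := by
    intro X
    have h := congrArg (fun g : ↥(cdAut F) => (g : PairAut F) X) hcomm
    simp only [Subgroup.coe_mul, LinearEquiv.mul_apply, tEl_apply] at h
    exact h
  have half : ∀ m : M2 F, m = -m → m = 0 := by
    intro m hm
    have h3 : (2 : F) • m = 0 := by
      rw [two_smul]
      nth_rewrite 2 [hm]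
      exact add_neg_cancel m
    rcases smul_eq_zero.mp h3 with h | h
    · exact absurd h h2
    · exact h
  have c1 : ∀ a : M2 F, (E (a, 0)).2 = 0 := by
    intro a
    have h := hc (a, 0)
    simp only [neg_zero] at h
    have := congrArg Prod.snd h
    simp only at this
    exact half _ this
  have c2 : ∀ b : M2 F, (E (0, b)).1 = 0 := by
    intro b
    have h := hc (0, b)
    have h' : E ((0 : M2 F), -b) = -E (0, b) := by
      rw [← map_neg]
      congr 1
      simp
    simp only at h
    rw [h'] at h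
    have := congrArg Prod.fst h
    simp only [Prod.fst_neg] at this
    exact half _ this.symm
  -- the two components
  let σ : M2 F →ₗ[F] M2 F :=
    (LinearMap.fst F (M2 F) (M2 F)).comp ((E : (M2 F × M2 F) →ₗ[F] (M2 F × M2 F)).comp
      (LinearMap.inl F (M2 F) (M2 F)))
  let τ : M2 F →ₗ[F] M2 F :=
    (LinearMap.snd F (M2 F) (M2 F)).comp ((E : (M2 F × M2 F) →ₗ[F] (M2 F × M2 F)).comp
      (LinearMap.inr F (M2 F) (M2 F)))
  have hσ : ∀ a, E (a, 0) = (σ a, 0) := by
    intro a
    refine Prod.ext rfl ?_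
    exact c1 a
  have hτ : ∀ b, E (0, b) = (0, τ b) := by
    intro b
    refine Prod.ext ?_ rfl
    exact c2 b
  have hEab : ∀ a b, E (a, b) = (σ a, τ b) := by
    intro a b
    have : ((a, b) : M2 F × M2 F) = (a, 0) + (0, b) := by simp
    rw [this, map_add, hσ, hτ]
    simp
  have hmul : ∀ a b, σ (a * b) = σ a * σ b := by
    intro a b
    have h := hE (a, 0) (b, 0)
    rw [hσ a, hσ b] at h
    have h1 : cdMul ((a, 0) : M2 F × M2 F) (b, 0) = (a * b, 0) := by
      unfold cdMul
      simp
    have h3 : cdMul ((σ a, 0) : M2 F × M2 F) (σ b, 0) = (σ a * σ b, 0) := by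
      unfold cdMul
      simp
    rw [h1, hσ, h3] at h
    exact congrArg Prod.fst h
  have hinj : Function.Injective σ := by
    intro a b hab
    have h1 : E (a, 0) = E (b, 0) := by rw [hσ, hσ, hab]
    have := E.injective h1
    exact congrArg Prod.fst this
  obtain ⟨c, hcσ⟩ := skolem_noether σ hmul hinj
  have hcc : (c : M2 F) * ((c⁻¹ : GL (Fin 2) F) : M2 F) = 1 := by
    rw [← Units.val_mul, mul_inv_cancel]; rfl
  have hσ1 : σ 1 = 1 := by rw [hcσ, mul_one, hcc]
  have hτmul : ∀ d a, τ (d * a) = τ d * σ a := by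
    intro d a
    have h := hE (a, 0) (0, d)
    have h1 : cdMul ((a, 0) : M2 F × M2 F) (0, d) = (0, d * a) := by
      unfold cdMul
      simp
    have h3 : cdMul ((σ a, 0) : M2 F × M2 F) (0, τ d) = (0, τ d * σ a) := by
      unfold cdMul
      simp
    rw [h1, hσ, hτ, hτ, h3] at h
    exact congrArg Prod.snd h
  have hdet : (τ 1).det = 1 := by
    have h := hE (0, 1) (0, 1)
    have h1 : cdMul ((0, 1) : M2 F × M2 F) (0, 1) = (1, 0) := by
      unfold cdMul
      simp
    have h3 : cdMul ((0, τ 1) : M2 F × M2 F) (0, τ 1) = (adjugate (τ 1) * τ 1, 0) := by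
      unfold cdMul
      simp
    rw [h1, hσ, hτ, h3, hσ1] at h
    have h4 := congrArg Prod.fst h
    simp only at h4
    rw [Matrix.adjugate_mul] at h4
    have h5 := congrFun (congrFun h4 0) 0
    simp at h5
    exact h5.symm
  refine ⟨c, (⟨τ 1, hdet⟩ : Matrix.SpecialLinearGroup (Fin 2) F), ?_⟩
  apply cdAut_ext
  intro X
  rw [psi_apply (c := c) (p := (⟨τ 1, hdet⟩ : Matrix.SpecialLinearGroup (Fin 2) F))]
  change E X = _
  rcases X with ⟨a, b⟩
  rw [hEab]
  refine Prod.ext ?_ ?_
  · exact hcσ a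
  · simp only
    have : τ b = τ 1 * σ b := by
      have := hτmul 1 b
      rwa [one_mul] at this
    rw [this, hcσ]
    simp only [mul_assoc]

end Cfsg.Agent.Lib.Helper11.G2Oct
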