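import Mathlib
import Cfsg.Agent.Lib.Helper16.SylAb
import Cfsg.Agent.Lib.Helper16.SylAb2

/-!
# Abstract 2-local lemmas for the `E2` property (helper11)

`E2_of_local`: if `L ≥ C_G(t)` has `E2`, and some Sylow 2-subgroup of `L` has `t` as the only
involution of its centre, then `G` has `E2`.
-/

set_option autoImplicit false

namespace Cfsg.Agent.Lib.Helper11.G2Oct

open Cfsg.Agent.Lib.Helper16.SylAb
open Subgroup

variable {G : Type*} [Group G]

/-- A maximal `p`-subgroup `S` of `L` with `N_G(S) ≤ L` is a Sylow `p`-subgroup of `G`.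
(as in helper9's `BGNonab.exists_sylow_eq_of_normalizer_le`; restated here to keep imports
light) -/
theorem sylow_eq_of_normalizer_le [Finite G] {p : ℕ} [Fact p.Prime] {S L : Subgroup G}
    (hS : IsPGroup p S) (hSL : S ≤ L)
    (hmax : ∀ T : Subgroup G, IsPGroup p T → T ≤ L → S ≤ T → T = S)
    (hN : normalizer (S : Set G) ≤ L) : ∃ T : Sylow p G, (T : Subgroup G) = S := by
  obtain ⟨T, hST⟩ := hS.exists_le_sylow
  refine ⟨T, ?_⟩
  by_contra hne
  haveI : Group.IsNilpotent ↥(T : Subgroup G) := T.isPGroup'.isNilpotent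
  have hnc := normalizerCondition_of_isNilpotent (G := ↥(T : Subgroup G))
  have hlt' : S.subgroupOf T < ⊤ := by
    rw [lt_top_iff_ne_top]
    intro h
    rw [Subgroup.subgroupOf_eq_top] at h
    exact hne (le_antisymm h hST)
  have h1 := hnc (S.subgroupOf T) hlt'
  set N₀ : Subgroup ↥(T : Subgroup G) :=
    normalizer ((S.subgroupOf T : Subgroup ↥(T : Subgroup G)) : Set ↥(T : Subgroup G)) with hN₀
  set N₁ : Subgroup G := N₀.map (T : Subgroup G).subtype with hN₁
  have hN₁p : IsPGroup p N₁ :=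
    (T.isPGroup'.to_subgroup N₀).map _
  have hSN₁ : S ≤ N₁ := by
    intro s hs
    exact ⟨⟨s, hST hs⟩, Subgroup.le_normalizer (mem_subgroupOf.mpr hs), rfl⟩
  have hN₁L : N₁ ≤ L := by
    rintro x ⟨t, ht, rfl⟩
    apply hN
    rw [Subgroup.mem_normalizer_iff]
    intro s
    have ht' := Subgroup.mem_normalizer_iff.mp ht
    constructor
    · intro hs
      have := (ht' ⟨s, hST hs⟩).mp (mem_subgroupOf.mpr hs)
      exact mem_subgroupOf.mp this
    · intro hs
      have hsT : s ∈ (T : Subgroup G) := by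
        have h2 : (t : G)⁻¹ * ((t : G) * s * (t : G)⁻¹) * (t : G) = s := by group
        rw [← h2]
        exact (T : Subgroup G).mul_mem ((T : Subgroup G).mul_mem ((T : Subgroup G).inv_mem t.2)
          (hST hs)) t.2
      have := (ht' ⟨s, hsT⟩).mpr (mem_subgroupOf.mpr hs)
      exact mem_subgroupOf.mp this
  have hN₁S := hmax N₁ hN₁p hN₁L hSN₁
  apply h1.ne
  apply le_antisymm (Subgroup.le_normalizer)
  intro t ht
  rw [mem_subgroupOf]
  rw [← hN₁S]
  exact ⟨t, ht, rfl⟩

/-- `E2` passes to surjective images. -/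
theorem E2_of_surjective {A B : Type*} [Group A] [Group B] [Finite A] (f : A →* B)
    (hf : Function.Surjective f) (hA : E2 A) : E2 B := by
  haveI : Finite B := Finite.of_surjective f hf
  obtain ⟨P⟩ : Nonempty (Sylow 2 A) := inferInstance
  refine E2_of_sylow (P.mapSurjective hf) ?_
  rw [Sylow.coe_mapSurjective]
  exact (hA P).map f

/-- the 2-local criterion -/
theorem E2_of_local [Finite G] (t : G) (ht1 : t ≠ 1) (htt : t * t = 1)
    (L : Subgroup G) (hL : E2 ↥L)
    (hcent : ∀ g : G, g * t = t * g → g ∈ L)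
    (htc : ∀ x ∈ L, x * t = t * x)
    (S0 : Sylow 2 ↥L)
    (hZ : ∀ z : ↥L, z ∈ S0 → (∀ x ∈ S0, x * z = z * x) → z * z = 1 → z = 1 ∨ (z : G) = t) :
    E2 G := by
  set S : Subgroup G := (S0 : Subgroup ↥L).map L.subtype with hSdef
  have hS2 : IsPGroup 2 S := S0.isPGroup'.map _
  have hSL : S ≤ L := Subgroup.map_subtype_le _
  have hmem : ∀ x : G, x ∈ S ↔ ∃ h : x ∈ L, (⟨x, h⟩ : ↥L) ∈ S0 := by
    intro x
    constructor
    · rintro ⟨y, hy, rfl⟩
      exact ⟨y.2, hy⟩
    · rintro ⟨h, hx⟩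
      exact ⟨⟨x, h⟩, hx, rfl⟩
  have hmax : ∀ T : Subgroup G, IsPGroup 2 T → T ≤ L → S ≤ T → T = S := by
    intro T hT hTL hST
    have h1 : IsPGroup 2 (T.subgroupOf L) := hT.comap_subtype
    have h2 : (S0 : Subgroup ↥L) ≤ T.subgroupOf L := by
      intro x hx
      rw [Subgroup.mem_subgroupOf]
      exact hST ⟨x, hx, rfl⟩
    have h3 := S0.is_maximal' h1 h2
    rw [hSdef, ← h3, Subgroup.subgroupOf_map_subtype]
    exact (inf_eq_left.mpr hTL).symm
  have hN : normalizer (S : Set G) ≤ L := by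
    intro g hg
    apply hcent
    have hg' := Subgroup.mem_normalizer_iff.mp hg
    -- `t ∈ S`?  we do not know; use the conjugate of `t` only if `t ∈ S`
    by_cases htS : t ∈ S
    · have hz : g * t * g⁻¹ ∈ S := (hg' t).mp htS
      obtain ⟨hzL, hz0⟩ := (hmem _).mp hz
      have hcen : ∀ x ∈ S0, x * (⟨g * t * g⁻¹, hzL⟩ : ↥L) = ⟨g * t * g⁻¹, hzL⟩ * x := by
        intro x hx
        apply Subtype.ext
        rw [Subgroup.coe_mul, Subgroup.coe_mul]
        change (x : G) * (g * t * g⁻¹) = g * t * g⁻¹ * (x : G)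
        have hxS : (x : G) ∈ S := ⟨x, hx, rfl⟩
        have hy : g⁻¹ * (x : G) * g ∈ S := by
          rw [hg' (g⁻¹ * (x : G) * g)]
          have e : g * (g⁻¹ * (x : G) * g) * g⁻¹ = (x : G) := by group
          rw [e]
          exact hxS
        have hyt := htc _ (hSL hy)
        calc (x : G) * (g * t * g⁻¹) = g * ((g⁻¹ * (x : G) * g) * t) * g⁻¹ := by group
          _ = g * (t * (g⁻¹ * (x : G) * g)) * g⁻¹ := by rw [hyt]
          _ = g * t * g⁻¹ * (x : G) := by group
      have hsq : (⟨g * t * g⁻¹, hzL⟩ : ↥L) * ⟨g * t * g⁻¹, hzL⟩ = 1 := by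
        apply Subtype.ext
        rw [Subgroup.coe_mul]
        change g * t * g⁻¹ * (g * t * g⁻¹) = 1
        calc g * t * g⁻¹ * (g * t * g⁻¹) = g * (t * t) * g⁻¹ := by group
          _ = 1 := by rw [htt]; group
      rcases hZ _ hz0 hcen hsq with h | h
      · exfalso
        apply ht1
        have h' : g * t * g⁻¹ = 1 := congrArg Subtype.val h
        calc t = g⁻¹ * (g * t * g⁻¹) * g := by group
          _ = 1 := by rw [h']; group
      · have h' : g * t * g⁻¹ = t := h
        calc g * t = (g * t * g⁻¹) * g := by group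
          _ = t * g := by rw [h']
    · exfalso
      apply htS
      -- `t` is a central element of `L` of order 2, hence lies in every Sylow 2-subgroup
      have htL : t ∈ L := hcent t rfl
      have hp : IsPGroup 2 (Subgroup.zpowers (⟨t, htL⟩ : ↥L)) := by
        apply IsPGroup.of_card (n := 1)
        rw [Nat.card_zpowers, pow_one]
        apply orderOf_eq_prime
        · apply Subtype.ext
          rw [pow_two]
          exact htt
        · intro h
          exact ht1 (congrArg Subtype.val h)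
      obtain ⟨P', hP'⟩ := hp.exists_le_sylow
      obtain ⟨u, hu⟩ := MulAction.exists_smul_eq ↥L P' S0
      have h1 : (⟨t, htL⟩ : ↥L) ∈ P' := hP' (Subgroup.mem_zpowers _)
      have h2 : u * (⟨t, htL⟩ : ↥L) * u⁻¹ ∈ S0 := by
        have h4 : u * (⟨t, htL⟩ : ↥L) * u⁻¹ ∈ ((u • P' : Sylow 2 ↥L) : Subgroup ↥L) := by
          rw [Sylow.coe_subgroup_smul]
          exact Subgroup.smul_mem_pointwise_smul _ (MulAut.conj u) _ h1
        rw [hu] at h4
        exact h4
      have h3 : u * (⟨t, htL⟩ : ↥L) * u⁻¹ = ⟨t, htL⟩ := by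
        apply Subtype.ext
        rw [Subgroup.coe_mul, Subgroup.coe_mul]
        change (u : G) * t * ((u⁻¹ : ↥L) : G) = t
        rw [htc _ u.2, Subgroup.coe_inv]
        group
      rw [h3] at h2
      exact ⟨⟨t, htL⟩, h2, rfl⟩
  obtain ⟨T, hT⟩ := sylow_eq_of_normalizer_le hS2 hSL hmax hN
  apply E2_of_sylow T
  rw [hT]
  exact (hL S0).map L.subtype

end Cfsg.Agent.Lib.Helper11.G2Oct
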