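import Mathlib
import Cfsg.Agent.Lib.Helper2.SL2Quat

/-!
# A quaternion pair in a 2-subgroup of `SL₂(F)` and its commutant (helper11)
-/

set_option autoImplicit false
open Matrix

namespace Cfsg.Agent.Lib.Helper11.G2Oct

variable {F : Type*} [Field F]

/-- polarised Cayley–Hamilton for `2 × 2` matrices -/
theorem polar_ch (X Y : Matrix (Fin 2) (Fin 2) F) :
    X * Y + Y * X = X.trace • Y + Y.trace • X + ((X * Y).trace - X.trace * Y.trace) • 1 := by
  ext i j
  fin_cases i <;> fin_cases j <;>
    simp [Matrix.mul_apply, Fin.sum_univ_two, Matrix.trace_fin_two] <;> ring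

/-- a matrix commuting with an anticommuting pair `A, B` (`A² = -1`, `B` invertible) is scalar -/
theorem scalar_of_commute_quat (h2 : (2 : F) ≠ 0) (A B B' m : Matrix (Fin 2) (Fin 2) F)
    (hA : A * A = -1) (hBB' : B * B' = 1) (hAB : B * A = -(A * B))
    (hmA : m * A = A * m) (hmB : m * B = B * m) :
    m = (m.trace / 2) • (1 : Matrix (Fin 2) (Fin 2) F) := by
  have hB'B : B' * B = 1 := mul_eq_one_comm.mp hBB'
  -- trace of `A` vanishes
  have htrA : A.trace = 0 := by
    have h1 : A = -(B' * (A * B)) := by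
      calc A = B' * B * A := by rw [hB'B, one_mul]
        _ = B' * (B * A) := by rw [mul_assoc]
        _ = -(B' * (A * B)) := by rw [hAB, mul_neg]
    have h3 : (B' * (A * B)).trace = A.trace := by
      rw [Matrix.trace_mul_comm, mul_assoc, hBB', mul_one]
    have h4 : A.trace = -A.trace := by
      conv_lhs => rw [h1]
      rw [Matrix.trace_neg, h3]
    have h5 : (2 : F) * A.trace = 0 := by
      rw [two_mul]
      nth_rewrite 2 [h4]
      exact add_neg_cancel _
    rcases mul_eq_zero.mp h5 with h | h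
    · exact absurd h h2
    · exact h
  -- `2 m A = tr(m) A + tr(mA) 1`
  have h1 := polar_ch m A
  rw [htrA, zero_smul, add_zero, mul_zero, sub_zero, ← hmA] at h1
  -- multiply by `-A` on the right
  have h6 : m + m = m.trace • (1 : Matrix (Fin 2) (Fin 2) F) - (m * A).trace • A := by
    have e1 : (m * A + m * A) * (-A) = m + m := by
      calc (m * A + m * A) * (-A) = -(m * (A * A) + m * (A * A)) := by
            rw [mul_neg, add_mul, mul_assoc]
        _ = m + m := by rw [hA, mul_neg, mul_one]; abel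
    have e2 : (m.trace • A + (m * A).trace • (1 : Matrix (Fin 2) (Fin 2) F)) * (-A) =
        m.trace • (1 : Matrix (Fin 2) (Fin 2) F) - (m * A).trace • A := by
      rw [mul_neg, add_mul, Matrix.smul_mul, Matrix.smul_mul, hA, one_mul, smul_neg]
      abel
    rw [← e1, h1, e2]
  -- commuting with `B` kills the `A`-component
  have h8 : (m * A).trace = 0 := by
    have h9 : (m + m) * B = B * (m + m) := by
      rw [add_mul, mul_add, hmB]
    rw [h6, sub_mul, mul_sub, Matrix.smul_mul, Matrix.smul_mul, Matrix.mul_smul, Matrix.mul_smul,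
      one_mul, mul_one, hAB, smul_neg, sub_neg_eq_add] at h9
    have h10 : ((m * A).trace * 2) • (A * B) = 0 := by
      have : (m * A).trace • (A * B) + (m * A).trace • (A * B) = 0 := by
        have e := sub_eq_zero.mpr h9.symm
        rw [← e]
        abel
      rw [mul_two, add_smul]
      exact this
    have e3 : (-A) * (A * B) * B' = 1 := by
      calc (-A) * (A * B) * B' = -(A * A) * (B * B') := by simp only [neg_mul, mul_assoc]
        _ = 1 := by rw [hA, neg_neg, hBB', one_mul]
    have h11 : ((m * A).trace * 2) • (1 : Matrix (Fin 2) (Fin 2) F) = 0 := by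
      rw [← e3]
      calc ((m * A).trace * 2) • ((-A) * (A * B) * B')
          = (-A) * (((m * A).trace * 2) • (A * B)) * B' := by
            rw [Matrix.mul_smul, Matrix.smul_mul]
        _ = 0 := by rw [h10, mul_zero, zero_mul]
    have h12 := congrFun (congrFun h11 0) 0
    simp at h12
    rcases h12 with h | h
    · exact h
    · exact absurd h h2
  rw [h8, zero_smul, sub_zero] at h6
  have h13 : (2 : F) • m = m.trace • (1 : Matrix (Fin 2) (Fin 2) F) := by
    rw [two_smul]; exact h6
  calc m = ((2 : F)⁻¹ * 2) • m := by rw [inv_mul_cancel₀ h2, one_smul]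
    _ = (2 : F)⁻¹ • ((2 : F) • m) := by rw [mul_smul]
    _ = (m.trace / 2) • (1 : Matrix (Fin 2) (Fin 2) F) := by
        rw [h13, smul_smul, div_eq_inv_mul]

/-- a 2-subgroup of `SL₂(F)` containing a quaternion pair -/
theorem exists_quat_pair [Fintype F] (hodd : Odd (Fintype.card F)) (h2 : (2 : F) ≠ 0) :
    ∃ (Q : Subgroup (Matrix.SpecialLinearGroup (Fin 2) F))
      (α β : Matrix.SpecialLinearGroup (Fin 2) F),
      IsPGroup 2 Q ∧ α ∈ Q ∧ β ∈ Q ∧ α * α = -1 ∧ α * β * α = β := by
  obtain ⟨k, H, hk, ⟨e⟩, hcard⟩ := Cfsg.Agent.Lib.Helper2.sl2_exists_sylow_quaternion hodd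
  have hP : IsPGroup 2 H := IsPGroup.of_card hcard
  set m : ZMod (2 * 2 ^ k) := ((2 ^ (k - 1) : ℕ) : ZMod (2 * 2 ^ k)) with hm
  have hmm : m + m = ((2 ^ k : ℕ) : ZMod (2 * 2 ^ k)) := by
    rw [hm, ← Nat.cast_add]
    congr 1
    obtain ⟨j, rfl⟩ : ∃ j, k = j + 1 := ⟨k - 1, by omega⟩
    rw [Nat.add_sub_cancel, pow_succ]
    ring
  have h4m : m + m + (m + m) = 0 := by
    rw [hmm, ← Nat.cast_add, ← two_mul]
    exact ZMod.natCast_self _
  have hne0 : m + m ≠ 0 := by
    rw [hmm]
    intro h
    rw [ZMod.natCast_eq_zero_iff] at h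
    have h1 := Nat.le_of_dvd (by positivity) h
    have : 0 < 2 ^ k := by positivity
    omega
  set a0 : ↥H := e.symm (QuaternionGroup.a m) with ha0
  set b0 : ↥H := e.symm (QuaternionGroup.xa 0) with hb0
  refine ⟨H, (a0 : Matrix.SpecialLinearGroup (Fin 2) F),
    (b0 : Matrix.SpecialLinearGroup (Fin 2) F), hP, a0.2, b0.2, ?_, ?_⟩
  · have h1 : a0 * a0 = e.symm (QuaternionGroup.a (m + m)) := by
      rw [ha0, ← map_mul, QuaternionGroup.a_mul_a]
    have h3 : (a0 * a0) * (a0 * a0) = 1 := by
      rw [h1, ← map_mul, QuaternionGroup.a_mul_a, h4m, ← QuaternionGroup.one_def, map_one]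
    have h5 : a0 * a0 ≠ 1 := by
      rw [h1]
      intro h
      have h6 := congrArg e h
      rw [MulEquiv.apply_symm_apply, map_one, QuaternionGroup.one_def] at h6
      exact hne0 (QuaternionGroup.a.inj h6)
    apply Cfsg.Agent.Lib.Helper2.sl2_eq_neg_one_of_mul_self h2
    · have := congrArg (Subtype.val) h3
      simpa using this
    · intro h
      apply h5
      apply Subtype.ext
      simpa using h
  · have h1 : a0 * b0 * a0 = b0 := by
      rw [ha0, hb0, ← map_mul, ← map_mul, QuaternionGroup.a_mul_xa, QuaternionGroup.xa_mul_a]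
      congr 2
      ring
    have := congrArg (Subtype.val) h1
    simpa using this

end Cfsg.Agent.Lib.Helper11.G2Oct
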