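import Cfsg.Agent.Lib.Helper11.G2OctE

/-!
# The two `SL₂` factors of the centraliser of `t` in `Aut` of the Cayley–Dickson algebra
(helper11)

`kap x : (a,b) ↦ (a, x b)` and `kap' y : (a,b) ↦ (y a y⁻¹, b y⁻¹)`.
-/

set_option autoImplicit false
open Matrix

namespace Cfsg.Agent.Lib.Helper11.G2Oct

variable {F : Type*} [Field F]

theorem sl_mul_inv (x : Matrix.SpecialLinearGroup (Fin 2) F) :
    (x : M2 F) * ((x⁻¹ : Matrix.SpecialLinearGroup (Fin 2) F) : M2 F) = 1 := by
  rw [← Matrix.SpecialLinearGroup.coe_mul, mul_inv_cancel]; rfl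

theorem sl_inv_mul (x : Matrix.SpecialLinearGroup (Fin 2) F) :
    ((x⁻¹ : Matrix.SpecialLinearGroup (Fin 2) F) : M2 F) * (x : M2 F) = 1 := by
  rw [← Matrix.SpecialLinearGroup.coe_mul, inv_mul_cancel]; rfl

theorem gl_mul_inv (c : GL (Fin 2) F) :
    (c : M2 F) * ((c⁻¹ : GL (Fin 2) F) : M2 F) = 1 := by
  rw [← Units.val_mul, mul_inv_cancel]; rfl

theorem gl_inv_mul (c : GL (Fin 2) F) :
    ((c⁻¹ : GL (Fin 2) F) : M2 F) * (c : M2 F) = 1 := by
  rw [← Units.val_mul, inv_mul_cancel]; rfl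

theorem right_inv_unique {a b b' : M2 F} (h : a * b = 1) (h' : a * b' = 1) : b = b' := by
  have h1 : b * a = 1 := mul_eq_one_comm.mp h
  calc b = b * (a * b') := by rw [h', mul_one]
    _ = (b * a) * b' := by rw [mul_assoc]
    _ = b' := by rw [h1, one_mul]

/-- `κ x = Ψ(1,x)` -/
def kap : Matrix.SpecialLinearGroup (Fin 2) F →* ↥(cdAut F) where
  toFun x := psi 1 x
  map_one' := by
    apply cdAut_ext
    intro X
    rw [psi_apply]
    simp
  map_mul' x y := by
    apply cdAut_ext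
    intro X
    rw [Subgroup.coe_mul, LinearEquiv.mul_apply, psi_apply, psi_apply, psi_apply]
    simp [mul_assoc]

theorem kap_apply (x : Matrix.SpecialLinearGroup (Fin 2) F) (X : M2 F × M2 F) :
    ((kap x : ↥(cdAut F)) : PairAut F) X = (X.1, (x : M2 F) * X.2) := by
  change ((psi 1 x : ↥(cdAut F)) : PairAut F) X = _
  rw [psi_apply]
  simp

theorem kap_eq_psi (x : Matrix.SpecialLinearGroup (Fin 2) F) : kap x = psi 1 x := rfl

/-- the underlying function of `κ'` -/
def kapFun' (y : Matrix.SpecialLinearGroup (Fin 2) F) : ↥(cdAut F) :=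
  psi (Matrix.SpecialLinearGroup.toGL y) y⁻¹

theorem kapFun'_apply (y : Matrix.SpecialLinearGroup (Fin 2) F) (X : M2 F × M2 F) :
    ((kapFun' y : ↥(cdAut F)) : PairAut F) X =
      ((y : M2 F) * X.1 * ((y⁻¹ : Matrix.SpecialLinearGroup (Fin 2) F) : M2 F),
        X.2 * ((y⁻¹ : Matrix.SpecialLinearGroup (Fin 2) F) : M2 F)) := by
  unfold kapFun'
  rw [psi_apply]
  have e1 : ((Matrix.SpecialLinearGroup.toGL y : GL (Fin 2) F) : M2 F) = (y : M2 F) := rfl
  have e2 : (((Matrix.SpecialLinearGroup.toGL y)⁻¹ : GL (Fin 2) F) : M2 F) =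
      ((y⁻¹ : Matrix.SpecialLinearGroup (Fin 2) F) : M2 F) := rfl
  rw [e1, e2, sl_inv_mul, one_mul]

/-- `κ' y = Ψ(y, y⁻¹)` -/
def kap' : Matrix.SpecialLinearGroup (Fin 2) F →* ↥(cdAut F) where
  toFun y := kapFun' y
  map_one' := by
    apply cdAut_ext
    intro X
    rw [kapFun'_apply]
    simp
  map_mul' x y := by
    apply cdAut_ext
    intro X
    rw [Subgroup.coe_mul, LinearEquiv.mul_apply, kapFun'_apply, kapFun'_apply, kapFun'_apply]
    simp only [_root_.mul_inv_rev, Matrix.SpecialLinearGroup.coe_mul, mul_assoc]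

theorem kap'_apply (y : Matrix.SpecialLinearGroup (Fin 2) F) (X : M2 F × M2 F) :
    ((kap' y : ↥(cdAut F)) : PairAut F) X =
      ((y : M2 F) * X.1 * ((y⁻¹ : Matrix.SpecialLinearGroup (Fin 2) F) : M2 F),
        X.2 * ((y⁻¹ : Matrix.SpecialLinearGroup (Fin 2) F) : M2 F)) :=
  kapFun'_apply y X

theorem kap'_eq_psi (y : Matrix.SpecialLinearGroup (Fin 2) F) :
    kap' y = psi (Matrix.SpecialLinearGroup.toGL y) y⁻¹ := rfl

theorem kap_comm (x y : Matrix.SpecialLinearGroup (Fin 2) F) :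
    Commute (kap x : ↥(cdAut F)) (kap' y) := by
  apply cdAut_ext
  intro X
  rw [Subgroup.coe_mul, Subgroup.coe_mul, LinearEquiv.mul_apply, LinearEquiv.mul_apply,
    kap_apply, kap'_apply, kap_apply, kap'_apply]
  simp only [mul_assoc]

theorem kap_injective : Function.Injective (kap (F := F)) := by
  intro x y h
  have h1 := congrArg (fun e : ↥(cdAut F) => ((e : PairAut F) ((0 : M2 F), (1 : M2 F))).2) h
  simp only [kap_apply, mul_one] at h1
  exact Subtype.ext h1

theorem kap'_injective : Function.Injective (kap' (F := F)) := by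
  intro x y h
  have h1 := congrArg (fun e : ↥(cdAut F) => ((e : PairAut F) ((0 : M2 F), (1 : M2 F))).2) h
  simp only [kap'_apply, one_mul] at h1
  have h2 : x⁻¹ = y⁻¹ := Subtype.ext h1
  exact inv_injective h2

theorem kap_neg_one : kap (-1 : Matrix.SpecialLinearGroup (Fin 2) F) = tEl F := rfl

theorem kap'_neg_one : kap' (-1 : Matrix.SpecialLinearGroup (Fin 2) F) = tEl F := by
  apply cdAut_ext
  intro X
  rw [kap'_apply, tEl_apply]
  have e : ((-1 : Matrix.SpecialLinearGroup (Fin 2) F)⁻¹ : Matrix.SpecialLinearGroup (Fin 2) F) =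
      -1 := by
    rw [inv_eq_iff_eq_inv, eq_comm, inv_eq_iff_eq_inv]
    apply eq_inv_of_mul_eq_one_left
    apply Subtype.ext
    simp
  rw [e]
  simp

theorem tEl_mul_self : tEl F * tEl F = 1 := by
  apply cdAut_ext
  intro X
  rw [Subgroup.coe_mul, LinearEquiv.mul_apply, tEl_apply, tEl_apply]
  simp

theorem tEl_ne_one (h2 : (2 : F) ≠ 0) : tEl F ≠ 1 := by
  intro h
  have h1 := congrArg (fun e : ↥(cdAut F) => (((e : PairAut F) ((0 : M2 F), (1 : M2 F))).2) 0 0) h
  simp only [tEl_apply] at h1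
  have h3 : (-(1 : M2 F)) 0 0 = (1 : M2 F) 0 0 := h1
  simp only [Matrix.neg_apply, Matrix.one_apply_eq] at h3
  apply h2
  have : (1 : F) + 1 = 0 := by
    nth_rewrite 1 [← h3]
    exact neg_add_cancel 1
  rw [← this]
  norm_num

/-- every `Ψ(c,p)` commutes with `t` -/
theorem psi_comm_tEl (c : GL (Fin 2) F) (p : Matrix.SpecialLinearGroup (Fin 2) F) :
    psi c p * tEl F = tEl F * psi c p := by
  apply cdAut_ext
  intro X
  rw [Subgroup.coe_mul, Subgroup.coe_mul, LinearEquiv.mul_apply, LinearEquiv.mul_apply,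
    tEl_apply, psi_apply, psi_apply, tEl_apply]
  simp

end Cfsg.Agent.Lib.Helper11.G2Oct
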