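import Cfsg.Agent.Lib.Helper11.G2OctH

/-!
# The subgroup `(SL₂ ∘ SL₂).2` of `Aut` of the Cayley–Dickson algebra (helper11)
-/

set_option autoImplicit false
open Matrix

namespace Cfsg.Agent.Lib.Helper11.G2Oct

variable {F : Type*} [Field F]

/-- the matrix `[[0,-n],[1,0]]` as an element of `GL₂` -/
def c0 (n : F) (hn : n ≠ 0) : GL (Fin 2) F :=
  ⟨!![0, -n; 1, 0], !![0, 1; -n⁻¹, 0],
    by ext i j; fin_cases i <;> fin_cases j <;> simp [hn],
    by ext i j; fin_cases i <;> fin_cases j <;> simp [hn]⟩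

theorem c0_val (n : F) (hn : n ≠ 0) : ((c0 n hn : GL (Fin 2) F) : M2 F) = !![0, -n; 1, 0] := rfl

theorem c0_inv_val (n : F) (hn : n ≠ 0) :
    (((c0 n hn)⁻¹ : GL (Fin 2) F) : M2 F) = !![0, 1; -n⁻¹, 0] := rfl

theorem c0_det (n : F) (hn : n ≠ 0) : ((c0 n hn : GL (Fin 2) F) : M2 F).det = n := by
  rw [c0_val, Matrix.det_fin_two_of]
  ring

theorem c0_mul_self (n : F) (hn : n ≠ 0) :
    ((c0 n hn : GL (Fin 2) F) : M2 F) * ((c0 n hn : GL (Fin 2) F) : M2 F) = (-n) • (1 : M2 F) := by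
  rw [c0_val]
  ext i j
  fin_cases i <;> fin_cases j <;> simp

theorem c0_inv_mul_self (n : F) (hn : n ≠ 0) :
    (((c0 n hn)⁻¹ : GL (Fin 2) F) : M2 F) * (((c0 n hn)⁻¹ : GL (Fin 2) F) : M2 F) =
      (-n⁻¹) • (1 : M2 F) := by
  rw [c0_inv_val]
  ext i j
  fin_cases i <;> fin_cases j <;> simp

/-- the involution `s = Ψ(c₀,1)` -/
def sEl (n : F) (hn : n ≠ 0) : ↥(cdAut F) := psi (c0 n hn) 1

theorem sEl_apply (n : F) (hn : n ≠ 0) (X : M2 F × M2 F) :
    ((sEl n hn : ↥(cdAut F)) : PairAut F) X =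
      (((c0 n hn : GL (Fin 2) F) : M2 F) * X.1 * (((c0 n hn)⁻¹ : GL (Fin 2) F) : M2 F),
        ((c0 n hn : GL (Fin 2) F) : M2 F) * X.2 * (((c0 n hn)⁻¹ : GL (Fin 2) F) : M2 F)) := by
  unfold sEl
  rw [psi_apply]
  simp

theorem sEl_mul_self (n : F) (hn : n ≠ 0) : sEl n hn * sEl n hn = 1 := by
  apply cdAut_ext
  intro X
  rw [Subgroup.coe_mul, LinearEquiv.mul_apply, sEl_apply, sEl_apply]
  have key : ∀ Z : M2 F, ((c0 n hn : GL (Fin 2) F) : M2 F) *
      (((c0 n hn : GL (Fin 2) F) : M2 F) * Z * (((c0 n hn)⁻¹ : GL (Fin 2) F) : M2 F)) *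
      (((c0 n hn)⁻¹ : GL (Fin 2) F) : M2 F) = Z := by
    intro Z
    calc ((c0 n hn : GL (Fin 2) F) : M2 F) *
      (((c0 n hn : GL (Fin 2) F) : M2 F) * Z * (((c0 n hn)⁻¹ : GL (Fin 2) F) : M2 F)) *
      (((c0 n hn)⁻¹ : GL (Fin 2) F) : M2 F)
        = (((c0 n hn : GL (Fin 2) F) : M2 F) * ((c0 n hn : GL (Fin 2) F) : M2 F)) * Z *
          ((((c0 n hn)⁻¹ : GL (Fin 2) F) : M2 F) * (((c0 n hn)⁻¹ : GL (Fin 2) F) : M2 F)) := by
          simp only [mul_assoc]
      _ = Z := by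
          rw [c0_mul_self, c0_inv_mul_self, Matrix.smul_mul, Matrix.mul_smul, one_mul, mul_one,
            smul_smul]
          have : (-n⁻¹) * (-n) = 1 := by
            rw [neg_mul_neg, inv_mul_cancel₀ hn]
          rw [this, one_smul]
  simp only
  rw [key, key]
  rfl

theorem sEl_inv (n : F) (hn : n ≠ 0) : (sEl n hn)⁻¹ = sEl n hn :=
  inv_eq_of_mul_eq_one_left (sEl_mul_self n hn)

/-- the central product of the two `SL₂` factors -/
def phi (F : Type*) [Field F] :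
    Matrix.SpecialLinearGroup (Fin 2) F × Matrix.SpecialLinearGroup (Fin 2) F →* ↥(cdAut F) :=
  (kap (F := F)).noncommCoprod kap' kap_comm

theorem phi_apply (x y : Matrix.SpecialLinearGroup (Fin 2) F) :
    phi F (x, y) = kap x * kap' y := rfl

/-- the subgroup `SL₂ ∘ SL₂` -/
def Nsub (F : Type*) [Field F] : Subgroup ↥(cdAut F) := (phi F).range

theorem gl_det_ne_zero (c : GL (Fin 2) F) : (c : M2 F).det ≠ 0 := by
  intro h
  have h1 := congrArg Matrix.det (gl_mul_inv c)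
  rw [Matrix.det_mul, h, zero_mul, Matrix.det_one] at h1
  exact zero_ne_one h1

theorem psi_mem_Nsub (c : GL (Fin 2) F) (p : Matrix.SpecialLinearGroup (Fin 2) F)
    (hsq : IsSquare (c : M2 F).det) : psi c p ∈ Nsub F := by
  obtain ⟨l, hl⟩ := hsq
  have hl0 : l ≠ 0 := by
    intro h
    rw [h, mul_zero] at hl
    exact gl_det_ne_zero c hl
  have hdet : (l⁻¹ • (c : M2 F)).det = 1 := by
    rw [Matrix.det_smul, Fintype.card_fin, hl]
    field_simp
  set c1 : Matrix.SpecialLinearGroup (Fin 2) F := ⟨l⁻¹ • (c : M2 F), hdet⟩ with hc1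
  have hc1v : (c1 : M2 F) = l⁻¹ • (c : M2 F) := rfl
  have hc1i : ((c1⁻¹ : Matrix.SpecialLinearGroup (Fin 2) F) : M2 F) =
      l • ((c⁻¹ : GL (Fin 2) F) : M2 F) := by
    apply right_inv_unique (sl_mul_inv c1)
    rw [hc1v, Matrix.smul_mul, Matrix.mul_smul, smul_smul, gl_mul_inv, inv_mul_cancel₀ hl0,
      one_smul]
  have key : psi c p = kap (p * c1) * kap' c1 := by
    apply cdAut_ext
    intro X
    rw [Subgroup.coe_mul, LinearEquiv.mul_apply, kap_apply, kap'_apply, psi_apply, hc1i,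
      Matrix.SpecialLinearGroup.coe_mul, hc1v]
    refine Prod.ext ?_ ?_
    · simp only [Matrix.smul_mul, Matrix.mul_smul, smul_smul]
      rw [mul_inv_cancel₀ hl0, one_smul]
    · simp only [Matrix.smul_mul, Matrix.mul_smul, smul_smul]
      rw [mul_inv_cancel₀ hl0, one_smul]
      simp only [mul_assoc]
  rw [key]
  exact ⟨(p * c1, c1), rfl⟩

theorem exists_psi_of_mem_Nsub {e : ↥(cdAut F)} (he : e ∈ Nsub F) :
    ∃ (c : GL (Fin 2) F) (p : Matrix.SpecialLinearGroup (Fin 2) F),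
      IsSquare (c : M2 F).det ∧ e = psi c p := by
  obtain ⟨⟨x, y⟩, rfl⟩ := he
  refine ⟨1 * Matrix.SpecialLinearGroup.toGL y, x * conjSL 1 y⁻¹, ?_, ?_⟩
  · rw [one_mul]
    have : ((Matrix.SpecialLinearGroup.toGL y : GL (Fin 2) F) : M2 F) = (y : M2 F) := rfl
    rw [this, y.2]
    exact ⟨1, (one_mul 1).symm⟩
  · rw [phi_apply, kap_eq_psi, kap'_eq_psi, psi_mul]

/-- two presentations `Ψ(c,p) = Ψ(c',p')` have proportional `c, c'` -/
theorem psi_eq_psi {c c' : GL (Fin 2) F} {p p' : Matrix.SpecialLinearGroup (Fin 2) F}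
    (h : psi c p = psi c' p') : ∃ μ : F, (c : M2 F) = μ • (c' : M2 F) := by
  have h1 : ∀ a : M2 F, (c : M2 F) * a * ((c⁻¹ : GL (Fin 2) F) : M2 F) =
      (c' : M2 F) * a * ((c'⁻¹ : GL (Fin 2) F) : M2 F) := by
    intro a
    have := congrArg (fun e : ↥(cdAut F) => ((e : PairAut F) (a, (0 : M2 F))).1) h
    simpa only [psi_apply] using this
  set m : M2 F := ((c'⁻¹ : GL (Fin 2) F) : M2 F) * (c : M2 F) with hm
  have hcomm : ∀ a : M2 F, m * a = a * m := by
    intro a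
    calc m * a = ((c'⁻¹ : GL (Fin 2) F) : M2 F) *
          ((c : M2 F) * a * ((c⁻¹ : GL (Fin 2) F) : M2 F)) * (c : M2 F) := by
          rw [hm]
          simp only [mul_assoc]
          rw [gl_inv_mul, mul_one]
      _ = ((c'⁻¹ : GL (Fin 2) F) : M2 F) *
          ((c' : M2 F) * a * ((c'⁻¹ : GL (Fin 2) F) : M2 F)) * (c : M2 F) := by rw [h1]
      _ = a * m := by
          rw [hm]
          simp only [← mul_assoc]
          rw [gl_inv_mul, one_mul]
  obtain ⟨μ, hμ⟩ := Matrix.mem_range_scalar_iff_commute_single'.mpr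
    (fun i j => (hcomm (Matrix.single i j 1)).symm)
  refine ⟨μ, ?_⟩
  have hm2 : m = μ • (1 : M2 F) := by
    rw [← hμ]
    ext i j
    simp [Matrix.scalar_apply, Matrix.diagonal_apply, Matrix.one_apply]
  calc (c : M2 F) = (c' : M2 F) * m := by
        rw [hm, ← mul_assoc, gl_mul_inv, one_mul]
    _ = μ • (c' : M2 F) := by rw [hm2, Matrix.mul_smul, mul_one]

theorem sEl_not_mem_Nsub (n : F) (hn : n ≠ 0) (hns : ¬ IsSquare n) : sEl n hn ∉ Nsub F := by
  intro h
  obtain ⟨c, p, ⟨l, hl⟩, he⟩ := exists_psi_of_mem_Nsub h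
  obtain ⟨μ, hμ⟩ := psi_eq_psi (c := c0 n hn) (p := 1) he
  apply hns
  refine ⟨μ * l, ?_⟩
  have := congrArg Matrix.det hμ
  rw [c0_det, Matrix.det_smul, Fintype.card_fin, hl] at this
  rw [this]
  ring

theorem sEl_mem_normalizer (n : F) (hn : n ≠ 0) :
    sEl n hn ∈ Subgroup.normalizer ((Nsub F : Subgroup ↥(cdAut F)) : Set ↥(cdAut F)) := by
  have key : ∀ e ∈ Nsub F, sEl n hn * e * sEl n hn ∈ Nsub F := by
    intro e he
    obtain ⟨c, p, hsq, rfl⟩ := exists_psi_of_mem_Nsub he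
    unfold sEl
    rw [psi_mul, psi_mul]
    apply psi_mem_Nsub
    rw [Units.val_mul, Units.val_mul, Matrix.det_mul, Matrix.det_mul, c0_det]
    obtain ⟨l, hl⟩ := hsq
    exact ⟨n * l, by rw [hl]; ring⟩
  rw [Subgroup.mem_normalizer_iff]
  intro e
  constructor
  · intro he
    rw [sEl_inv]
    exact key e he
  · intro he
    rw [sEl_inv] at he
    have h1 := key _ he
    have h2 : sEl n hn * (sEl n hn * e * sEl n hn) * sEl n hn = e := by
      calc sEl n hn * (sEl n hn * e * sEl n hn) * sEl n hn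
          = (sEl n hn * sEl n hn) * e * (sEl n hn * sEl n hn) := by simp only [mul_assoc]
        _ = e := by rw [sEl_mul_self, one_mul, mul_one]
    rwa [h2] at h1

/-- the subgroup `(SL₂ ∘ SL₂).2`, which is the centraliser of `t` -/
def Lsub (n : F) (hn : n ≠ 0) : Subgroup ↥(cdAut F) :=
  Subgroup.zpowers (sEl n hn) ⊔ Nsub F

theorem mem_zpowers_sEl {n : F} {hn : n ≠ 0} {e : ↥(cdAut F)}
    (he : e ∈ Subgroup.zpowers (sEl n hn)) : e = 1 ∨ e = sEl n hn := by
  obtain ⟨k, rfl⟩ := he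
  rcases Int.even_or_odd' k with ⟨j, rfl | rfl⟩
  · left
    change sEl n hn ^ (2 * j) = 1
    rw [_root_.zpow_mul, zpow_two, sEl_mul_self, _root_.one_zpow]
  · right
    change sEl n hn ^ (2 * j + 1) = sEl n hn
    rw [_root_.zpow_add, _root_.zpow_mul, zpow_two, sEl_mul_self, _root_.one_zpow, one_mul, zpow_one]

theorem Nsub_inf_zpowers (n : F) (hn : n ≠ 0) (hns : ¬ IsSquare n) :
    Nsub F ⊓ Subgroup.zpowers (sEl n hn) = ⊥ := by
  rw [eq_bot_iff]
  rintro e ⟨h1, h2⟩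
  rcases mem_zpowers_sEl h2 with h | h
  · rw [Subgroup.mem_bot]; exact h
  · exfalso
    rw [h] at h1
    exact sEl_not_mem_Nsub n hn hns h1

theorem psi_mem_Lsub_of_isSquare_mul (n : F) (hn : n ≠ 0) (c : GL (Fin 2) F)
    (p : Matrix.SpecialLinearGroup (Fin 2) F)
    (h : IsSquare (c : M2 F).det ∨ IsSquare (n * (c : M2 F).det)) : psi c p ∈ Lsub n hn := by
  rcases h with h | h
  · exact (le_sup_right : Nsub F ≤ Lsub n hn) (psi_mem_Nsub c p h)
  · have h1 : sEl n hn * psi c p ∈ Nsub F := by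
      unfold sEl
      rw [psi_mul]
      apply psi_mem_Nsub
      rw [Units.val_mul, Matrix.det_mul, c0_det]
      exact h
    have h2 : psi c p = sEl n hn * (sEl n hn * psi c p) := by
      rw [← mul_assoc, sEl_mul_self, one_mul]
    rw [h2]
    exact mul_mem ((le_sup_left : Subgroup.zpowers (sEl n hn) ≤ Lsub n hn)
      (Subgroup.mem_zpowers _)) ((le_sup_right : Nsub F ≤ Lsub n hn) h1)

theorem Lsub_comm_tEl (n : F) (hn : n ≠ 0) {e : ↥(cdAut F)} (he : e ∈ Lsub n hn) :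
    e * tEl F = tEl F * e := by
  have hle : Lsub n hn ≤ Subgroup.centralizer {tEl F} := by
    apply sup_le
    · rw [Subgroup.zpowers_le, Subgroup.mem_centralizer_iff]
      intro h hh
      rw [Set.mem_singleton_iff] at hh
      rw [hh]
      exact (psi_comm_tEl _ _).symm
    · rintro e he
      obtain ⟨c, p, _, rfl⟩ := exists_psi_of_mem_Nsub he
      rw [Subgroup.mem_centralizer_iff]
      intro h hh
      rw [Set.mem_singleton_iff] at hh
      rw [hh]
      exact (psi_comm_tEl _ _).symm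
  have := Subgroup.mem_centralizer_iff.mp (hle he) (tEl F) rfl
  exact this.symm

end Cfsg.Agent.Lib.Helper11.G2Oct
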