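import Cfsg.Agent.Lib.Helper11.G2OctI
import Cfsg.Agent.Lib.Helper11.G2OctF
import Cfsg.Agent.Lib.Helper11.G2OctG
import Cfsg.Agent.Lib.Helper16.SylAb5

/-!
# Sylow 2-subgroups of `G₂(q)`, `q` odd, have elementary abelian abelianisation (helper11)
-/

set_option autoImplicit false
open Matrix

namespace Cfsg.Agent.Lib.Helper11.G2Oct

open Cfsg.Agent.Lib.Helper16.SylAb

variable {F : Type*} [Field F] [Fintype F]

theorem finite_G2 : Finite ↥(Cfsg.Lie.G2 F) := by
  classical
  infer_instance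

theorem finite_cdAut : Finite ↥(cdAut F) := by
  haveI := finite_G2 (F := F)
  exact Finite.of_equiv _ (g2Equiv F).toEquiv

theorem ringChar_ne_two_of_odd (hodd : Odd (Fintype.card F)) : ringChar F ≠ 2 := by
  intro h
  have h2q := FiniteField.even_card_of_char_two h
  rcases hodd with ⟨k, hk⟩
  omega

theorem two_ne_zero_of_odd (hodd : Odd (Fintype.card F)) : (2 : F) ≠ 0 :=
  Ring.two_ne_zero (ringChar_ne_two_of_odd hodd)

theorem isSquare_or_isSquare_mul {n : F} (hns : ¬ IsSquare n) (a : F) (ha : a ≠ 0) :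
    IsSquare a ∨ IsSquare (n * a) := by
  classical
  by_cases h : IsSquare a
  · exact Or.inl h
  · right
    have hn : n ≠ 0 := by
      rintro rfl
      exact hns ⟨0, by simp⟩
    have h1 : quadraticChar F n = -1 := quadraticChar_neg_one_iff_not_isSquare.mpr hns
    have h2 : quadraticChar F a = -1 := quadraticChar_neg_one_iff_not_isSquare.mpr h
    have h3 : quadraticChar F (n * a) = 1 := by
      rw [map_mul, h1, h2]
      norm_num
    exact (quadraticChar_one_iff_isSquare (mul_ne_zero hn ha)).mp h3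

theorem E2_Nsub (hodd : Odd (Fintype.card F)) : E2 ↥(Nsub F) := by
  have h := E2_prod (E2_SL2 hodd) (E2_SL2 hodd)
  exact E2_of_surjective (phi F).rangeRestrict (phi F).rangeRestrict_surjective h

theorem E2_Lsub (hodd : Odd (Fintype.card F)) (n : F) (hn : n ≠ 0) (hns : ¬ IsSquare n) :
    E2 ↥(Lsub n hn) := by
  haveI := finite_cdAut (F := F)
  unfold Lsub
  apply E2_sup_of_normalizer (Nsub F) (Subgroup.zpowers (sEl n hn))
  · rw [Subgroup.zpowers_le]
    exact sEl_mem_normalizer n hn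
  · exact Nsub_inf_zpowers n hn hns
  · exact E2_Nsub hodd
  · apply E2_of_sq_eq_one
    rintro ⟨x, hx⟩
    apply Subtype.ext
    rcases mem_zpowers_sEl hx with rfl | rfl
    · simp
    · change (sEl n hn) ^ 2 = 1
      rw [pow_two]
      exact sEl_mul_self n hn

theorem mem_Lsub_of_comm (hodd : Odd (Fintype.card F)) (n : F) (hn : n ≠ 0) (hns : ¬ IsSquare n)
    (g : ↥(cdAut F)) (hg : g * tEl F = tEl F * g) : g ∈ Lsub n hn := by
  obtain ⟨c, p, rfl⟩ := exists_psi_of_commute (two_ne_zero_of_odd hodd) g hg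
  exact psi_mem_Lsub_of_isSquare_mul n hn c p
    (isSquare_or_isSquare_mul hns _ (gl_det_ne_zero c))

/-- matrix form of the commutation of `Ψ(c,p)` with `κ α` -/
theorem comm_kap_matrix (c : GL (Fin 2) F) (p α : Matrix.SpecialLinearGroup (Fin 2) F)
    (h : kap α * psi c p = psi c p * kap α) :
    ((p : M2 F) * (c : M2 F)) * (α : M2 F) = (α : M2 F) * ((p : M2 F) * (c : M2 F)) := by
  have h1 := congrArg (fun e : ↥(cdAut F) => ((e : PairAut F) ((0 : M2 F), (1 : M2 F))).2) h
  simp only [Subgroup.coe_mul, LinearEquiv.mul_apply, kap_apply, psi_apply, mul_one] at h1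
  -- h1 : α * (p * c * c⁻¹) = p * c * α * c⁻¹
  have h2 := congrArg (fun Z : M2 F => Z * (c : M2 F)) h1
  simp only [mul_assoc, gl_inv_mul, mul_one] at h2
  rw [mul_assoc]
  exact h2.symm

theorem exists_sylow_center (hodd : Odd (Fintype.card F)) (n : F) (hn : n ≠ 0) :
    ∃ S0 : Sylow 2 ↥(Lsub n hn), ∀ z : ↥(Lsub n hn), z ∈ S0 → (∀ x ∈ S0, x * z = z * x) →
      z * z = 1 → z = 1 ∨ (z : ↥(cdAut F)) = tEl F := by
  have h2 : (2 : F) ≠ 0 := two_ne_zero_of_odd hodd
  obtain ⟨Q, α, β, hQ, hα, hβ, hαα, hαβ⟩ := exists_quat_pair hodd h2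
  have hkL : ∀ x : Matrix.SpecialLinearGroup (Fin 2) F, kap x ∈ Lsub n hn := by
    intro x
    apply (le_sup_right : Nsub F ≤ Lsub n hn)
    exact ⟨(x, 1), by rw [phi_apply, map_one, mul_one]⟩
  set κL : Matrix.SpecialLinearGroup (Fin 2) F →* ↥(Lsub n hn) :=
    (kap (F := F)).codRestrict (Lsub n hn) hkL with hκL
  have hD : IsPGroup 2 (Q.map κL) := hQ.map _
  obtain ⟨S0, hS0⟩ := hD.exists_le_sylow
  refine ⟨S0, ?_⟩
  intro z hz hcen hzz
  have hzt : (z : ↥(cdAut F)) * tEl F = tEl F * (z : ↥(cdAut F)) := Lsub_comm_tEl n hn z.2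
  obtain ⟨c, p, hzp⟩ := exists_psi_of_commute h2 (z : ↥(cdAut F)) hzt
  have hcα : kap α * psi c p = psi c p * kap α := by
    have := hcen (κL α) (hS0 ⟨α, hα, rfl⟩)
    have h3 := congrArg Subtype.val this
    rw [Subgroup.coe_mul, Subgroup.coe_mul, hzp] at h3
    exact h3
  have hcβ : kap β * psi c p = psi c p * kap β := by
    have := hcen (κL β) (hS0 ⟨β, hβ, rfl⟩)
    have h3 := congrArg Subtype.val this
    rw [Subgroup.coe_mul, Subgroup.coe_mul, hzp] at h3
    exact h3
  set m : M2 F := (p : M2 F) * (c : M2 F) with hm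
  have hmA := comm_kap_matrix c p α hcα
  have hmB := comm_kap_matrix c p β hcβ
  have hA : (α : M2 F) * (α : M2 F) = -1 := by
    have := congrArg Subtype.val hαα
    simpa using this
  have hABA : (α : M2 F) * (β : M2 F) * (α : M2 F) = (β : M2 F) := by
    have := congrArg Subtype.val hαβ
    simpa using this
  have hAB : (β : M2 F) * (α : M2 F) = -((α : M2 F) * (β : M2 F)) := by
    have h3 : (α : M2 F) * ((α : M2 F) * (β : M2 F) * (α : M2 F)) = (α : M2 F) * (β : M2 F) := by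
      rw [hABA]
    have h4 : (α : M2 F) * ((α : M2 F) * (β : M2 F) * (α : M2 F)) =
        -((β : M2 F) * (α : M2 F)) := by
      calc (α : M2 F) * ((α : M2 F) * (β : M2 F) * (α : M2 F))
          = ((α : M2 F) * (α : M2 F)) * (β : M2 F) * (α : M2 F) := by simp only [mul_assoc]
        _ = -((β : M2 F) * (α : M2 F)) := by rw [hA, neg_mul, neg_mul, one_mul]
    rw [h4] at h3
    rw [← h3, neg_neg]
  have hsc := scalar_of_commute_quat h2 (α : M2 F) (β : M2 F)
    ((β⁻¹ : Matrix.SpecialLinearGroup (Fin 2) F) : M2 F) m hA (sl_mul_inv β) hAB hmA hmB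
  set μ : F := m.trace / 2 with hμ
  have hμ0 : μ ≠ 0 := by
    intro h0
    have h3 := congrArg Matrix.det hsc
    rw [h0, zero_smul, Matrix.det_zero, hm, Matrix.det_mul, p.2, one_mul] at h3
    exact gl_det_ne_zero c h3
  -- `c = μ p⁻¹`, `c⁻¹ = μ⁻¹ p`
  have hcv : (c : M2 F) = μ • ((p⁻¹ : Matrix.SpecialLinearGroup (Fin 2) F) : M2 F) := by
    calc (c : M2 F) = ((p⁻¹ : Matrix.SpecialLinearGroup (Fin 2) F) : M2 F) * m := by
          rw [hm, ← mul_assoc, sl_inv_mul, one_mul]
      _ = μ • ((p⁻¹ : Matrix.SpecialLinearGroup (Fin 2) F) : M2 F) := by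
          rw [hsc, Matrix.mul_smul, mul_one]
  have hci : ((c⁻¹ : GL (Fin 2) F) : M2 F) = μ⁻¹ • (p : M2 F) := by
    apply right_inv_unique (gl_mul_inv c)
    rw [hcv, Matrix.smul_mul, Matrix.mul_smul, smul_smul, sl_inv_mul, mul_inv_cancel₀ hμ0,
      one_smul]
  have hzk : (z : ↥(cdAut F)) = kap' p⁻¹ := by
    rw [hzp]
    apply cdAut_ext
    intro X
    rw [psi_apply, kap'_apply, inv_inv, hci]
    refine Prod.ext ?_ ?_
    · simp only
      rw [hcv]
      simp only [Matrix.smul_mul, Matrix.mul_smul, smul_smul]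
      rw [inv_mul_cancel₀ hμ0, one_smul]
    · simp only
      rw [← hm, hsc]
      simp only [Matrix.smul_mul, Matrix.mul_smul, smul_smul, one_mul]
      rw [inv_mul_cancel₀ hμ0, one_smul]
  have hpp : p⁻¹ * p⁻¹ = 1 := by
    apply kap'_injective (F := F)
    rw [map_mul, map_one, ← hzk]
    have := congrArg Subtype.val hzz
    rw [Subgroup.coe_mul] at this
    exact this
  by_cases hp1 : p⁻¹ = 1
  · left
    apply Subtype.ext
    rw [hzk, hp1, map_one]
    rfl
  · right
    have := Cfsg.Agent.Lib.Helper2.sl2_eq_neg_one_of_mul_self h2 p⁻¹ hpp hp1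
    rw [hzk, this, kap'_neg_one]

theorem E2_cdAut (hodd : Odd (Fintype.card F)) : E2 ↥(cdAut F) := by
  haveI := finite_cdAut (F := F)
  obtain ⟨n, hns⟩ := FiniteField.exists_nonsquare (ringChar_ne_two_of_odd hodd)
  have hn : n ≠ 0 := by
    rintro rfl
    exact hns ⟨0, by simp⟩
  obtain ⟨S0, hS0⟩ := exists_sylow_center hodd n hn
  exact E2_of_local (tEl F) (tEl_ne_one (two_ne_zero_of_odd hodd)) tEl_mul_self (Lsub n hn)
    (E2_Lsub hodd n hn hns) (mem_Lsub_of_comm hodd n hn hns)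
    (fun x hx => Lsub_comm_tEl n hn hx) S0 hS0

theorem E2_G2 (hodd : Odd (Fintype.card F)) : E2 ↥(Cfsg.Lie.G2 F) := by
  haveI := finite_G2 (F := F)
  exact E2_of_mulEquiv (g2Equiv F).symm (E2_cdAut hodd)

end Cfsg.Agent.Lib.Helper11.G2Oct
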