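import Cfsg.Agent.Lib.Helper7.ChevUp
import Cfsg.Agent.Lib.Helper8.StSLL

/-!
helper11 (S2371): the homomorphism `SL₃(K) → G₂(K)` onto the long-root `A₂` subsystem subgroup, obtained from
helper8's Steinberg presentation of `SL₃` and helper7's commutator formula.
Long roots of `chevG2`: `6 = b`, `10 = 3a+b`, `11 = 3a+2b`, `5, 1, 0` their negatives; `e₁ - e₂ = 6`,
`e₂ - e₃ = 10`.
-/

set_option autoImplicit false

namespace Cfsg.Agent.Lib.Helper11.G2Tor

open Cfsg Cfsg.Lie Matrix Cfsg.Agent.Lib.Helper7 Cfsg.Agent.Lib.Helper8.StSL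

theorem hG2 : chevG2 ∈ [chevG2, chevB2, chevD4, chevF4, chevE6, chevE7, chevE8] := by simp

section generic
variable (D : ChevalleyDatum) (hD : D ∈ [chevG2, chevB2, chevD4, chevF4, chevE6, chevE7, chevE8])
variable (K : Type*) [Field K]

/-- root elements whose roots have no sum commute -/
theorem comm_of_nil (r s : ℕ) (hr : r < D.nroots) (hs : s < D.nroots) (hsr : s ≠ r)
    (hsn : s ≠ D.neg r) (h : D.commTerms r s = []) (a b : K) :
    Commute (xGL D hD K r a) (xGL D hD K s b) := by
  have := comm_formula_GL D hD K r s hr hs hsr hsn a b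
  unfold ChevalleyDatum.commWord at this
  rw [h] at this
  simp only [List.map_nil, wordGL, List.prod_nil, mul_one] at this
  exact this.symm

/-- the commutator of two root elements whose roots have exactly one positive combination, with constant `1` -/
theorem rel_of_single (q s c : ℕ) (hq : q < D.nroots) (hs : s < D.nroots) (hsq : s ≠ q)
    (hsn : s ≠ D.neg q) (h : D.commTerms q s = [(c, 1, 1, 1)])
    (hc : ∀ a b : K, Commute (xGL D hD K s a) (xGL D hD K c b)) (u t : K) :
    xGL D hD K q u * xGL D hD K s t * (xGL D hD K q u)⁻¹ * (xGL D hD K s t)⁻¹ =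
      xGL D hD K c (u * t) := by
  rw [xGL_conj_xGL D hD K q s hq hs hsq hsn u t]
  unfold ChevalleyDatum.commWord
  rw [h]
  simp only [List.map_cons, List.map_nil, wordGL, List.prod_cons, List.prod_nil, mul_one, pow_one,
    neg_neg, Int.cast_one, one_mul]
  rw [(hc t (u * t)).eq, mul_assoc, mul_inv_cancel, mul_one]

end generic

/-- the long root `e_i - e_j` of `G₂` -/
def lr : Fin 3 → Fin 3 → ℕ
  | 0, 1 => 6
  | 1, 2 => 10
  | 0, 2 => 11
  | 1, 0 => 5
  | 2, 1 => 1
  | 2, 0 => 0
  | _, _ => 0

theorem g2_nroots : chevG2.nroots = 12 := rfl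

theorem lr_lt (i j : Fin 3) : lr i j < chevG2.nroots := by
  rw [g2_nroots]; fin_cases i <;> fin_cases j <;> simp [lr]

variable (K : Type*) [Field K]

/-- same-root elements commute -/
theorem xGL_self_comm (r : ℕ) (a b : K) : Commute (xGL chevG2 hG2 K r a) (xGL chevG2 hG2 K r b) := by
  show _ * _ = _ * _
  rw [xGL_mul, xGL_mul, add_comm]

theorem lr_comm (i j k l : Fin 3) (hij : i ≠ j) (hkl : k ≠ l) (hil : i ≠ l) (hjk : j ≠ k) (t u : K) :
    Commute (xGL chevG2 hG2 K (lr i j) t) (xGL chevG2 hG2 K (lr k l) u) := by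
  fin_cases i <;> fin_cases j <;> fin_cases k <;> fin_cases l <;>
    first
    | exact absurd rfl hij
    | exact absurd rfl hkl
    | exact absurd rfl hil
    | exact absurd rfl hjk
    | exact xGL_self_comm K _ t u
    | exact comm_of_nil chevG2 hG2 K _ _ (by decide) (by decide) (by decide) (by decide) (by decide) t u

theorem lr_rel (i j l : Fin 3) (hij : i ≠ j) (hjl : j ≠ l) (hil : i ≠ l) (t u : K) :
    xGL chevG2 hG2 K (lr i j) t * xGL chevG2 hG2 K (lr j l) u * (xGL chevG2 hG2 K (lr i j) t)⁻¹ *
      (xGL chevG2 hG2 K (lr j l) u)⁻¹ = xGL chevG2 hG2 K (lr i l) (t * u) := by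
  fin_cases i <;> fin_cases j <;> fin_cases l <;>
    first
    | exact absurd rfl hij
    | exact absurd rfl hjl
    | exact absurd rfl hil
    | exact rel_of_single chevG2 hG2 K _ _ _ (by decide) (by decide) (by decide) (by decide) (by decide)
        (fun a b => comm_of_nil chevG2 hG2 K _ _ (by decide) (by decide) (by decide) (by decide) (by decide) a b)
        t u

/-- the Steinberg relations of `SL₃` hold for the long root elements of `G₂` -/
noncomputable def g2StRel : StRel (Fin 3) K (GL chevG2.Idx K) where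
  x i j t := xGL chevG2 hG2 K (lr i j) t
  add i j _ t u := xGL_mul chevG2 hG2 K _ t u
  comm i j k l hij hkl hil hjk t u := lr_comm K i j k l hij hkl hil hjk t u
  rel i j l hij hjl hil t u := lr_rel K i j l hij hjl hil t u

end Cfsg.Agent.Lib.Helper11.G2Tor
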