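import Cfsg.Agent.Lib.Helper7.ChevBasic
import Mathlib

/-! Entries of the root elements `x_r(t)` of a Chevalley datum as explicit integer polynomials in `t`, and a
decidable test for equality of such polynomials modulo a prime (helper11). -/

set_option autoImplicit false
set_option linter.unusedSectionVars false

namespace Cfsg.Agent.Lib.Helper11.Isog

open Cfsg Cfsg.Lie Matrix

/-- evaluate a list of terms `(exponent, coefficient)` at `t` -/
def evalTerms {F : Type*} [Field F] (l : List (ℕ × ℤ)) (t : F) : F :=
  (l.map fun km => ((km.2 : ℤ) : F) * t ^ km.1).sum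

theorem evalTerms_nil {F : Type*} [Field F] (t : F) : evalTerms [] t = 0 := rfl

theorem evalTerms_cons {F : Type*} [Field F] (x : ℕ × ℤ) (l : List (ℕ × ℤ)) (t : F) :
    evalTerms (x :: l) t = ((x.2 : ℤ) : F) * t ^ x.1 + evalTerms l t := by
  simp [evalTerms]

theorem evalTerms_append {F : Type*} [Field F] (l₁ l₂ : List (ℕ × ℤ)) (t : F) :
    evalTerms (l₁ ++ l₂) t = evalTerms l₁ t + evalTerms l₂ t := by
  simp [evalTerms]

/-- the terms of the `(row, col)` entry of `x_r(t)` -/
def entryTerms (D : ChevalleyDatum) (r : Fin D.nroots) (row col : D.Idx) : List (ℕ × ℤ) :=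
  match col with
  | Sum.inl i =>
    (match row with
     | Sum.inl i' => if i' = i then [(0, 1)] else []
     | Sum.inr u => if u = r then [(1, - ((D.cartanSR.getD i.val #[]).getD r.val 0))] else [])
  | Sum.inr s =>
    if s = r then (match row with | Sum.inr u => if u = r then [(0, 1)] else [] | Sum.inl _ => [])
    else if s.val = D.negIdx.getD r.val 0 then
      (match row with
       | Sum.inl i => [(1, (D.coroot.getD r.val #[]).getD i.val 0)]
       | Sum.inr u => if u = s then [(0, 1)] else if u = r then [(2, -1)] else [])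
    else
      (match row with
       | Sum.inl _ => []
       | Sum.inr u => (if u = s then [(0, 1)] else []) ++ D.chainCoeff r.val s.val u.val)

theorem xMat_eq_eval (D : ChevalleyDatum) (F : Type*) [Field F] (r : Fin D.nroots) (t : F)
    (row col : D.Idx) : D.xMat F r t row col = evalTerms (entryTerms D r row col) t := by
  unfold ChevalleyDatum.xMat entryTerms
  rcases col with i | s
  · rcases row with i' | u
    · simp only [Matrix.of_apply]
      split_ifs <;> simp [evalTerms]
    · simp only [Matrix.of_apply]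
      split_ifs <;> simp [evalTerms]
  · rcases row with i' | u
    · simp only [Matrix.of_apply]
      split_ifs <;> simp [evalTerms]
    · simp only [Matrix.of_apply]
      split_ifs <;> simp [evalTerms]

/-- the terms of the `(row, col)` entry of `D.x F r t` (root given by a natural number) -/
def entryTermsN (D : ChevalleyDatum) (r : ℕ) (row col : D.Idx) : List (ℕ × ℤ) :=
  if h : r < D.nroots then entryTerms D ⟨r, h⟩ row col else if row = col then [(0, 1)] else []

theorem x_eq_eval (D : ChevalleyDatum) (F : Type*) [Field F] (r : ℕ) (t : F) (row col : D.Idx) :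
    D.x F r t row col = evalTerms (entryTermsN D r row col) t := by
  unfold ChevalleyDatum.x entryTermsN
  by_cases h : r < D.nroots
  · rw [dif_pos h, dif_pos h]; exact xMat_eq_eval D F ⟨r, h⟩ t row col
  · rw [dif_neg h, dif_neg h]
    by_cases h' : row = col
    · subst h'; simp [evalTerms]
    · simp [h', evalTerms, Matrix.one_apply_ne h']

/-- coefficient of `t^k` -/
def coeffAt (l : List (ℕ × ℤ)) (k : ℕ) : ℤ := ((l.filter fun x => x.1 = k).map Prod.snd).sum

theorem coeffAt_nil (k : ℕ) : coeffAt [] k = 0 := rfl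

theorem coeffAt_cons (x : ℕ × ℤ) (l : List (ℕ × ℤ)) (k : ℕ) :
    coeffAt (x :: l) k = (if x.1 = k then x.2 else 0) + coeffAt l k := by
  unfold coeffAt
  by_cases h : x.1 = k <;> simp [h]

theorem evalTerms_eq_sum {F : Type*} [Field F] (l : List (ℕ × ℤ)) (B : ℕ) (hB : ∀ x ∈ l, x.1 < B) (t : F) :
    evalTerms l t = ∑ k ∈ Finset.range B, ((coeffAt l k : ℤ) : F) * t ^ k := by
  induction l with
  | nil => simp [evalTerms_nil, coeffAt_nil]
  | cons x l ih =>
    rw [evalTerms_cons, ih (fun y hy => hB y (List.mem_cons_of_mem _ hy))]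
    simp_rw [coeffAt_cons]
    push_cast
    simp_rw [add_mul]
    rw [Finset.sum_add_distrib]
    congr 1
    have hx : x.1 ∈ Finset.range B := Finset.mem_range.mpr (hB x List.mem_cons_self)
    rw [Finset.sum_eq_single_of_mem x.1 hx]
    · simp
    · intro b _ hb
      have : ¬ x.1 = b := fun h => hb h.symm
      simp [this]

/-- decidable test: the two term lists define the same polynomial modulo `p` (degrees below `B`) -/
def polyEqMod (p B : ℕ) (l₁ l₂ : List (ℕ × ℤ)) : Bool :=
  l₁.all (fun x => decide (x.1 < B)) && l₂.all (fun x => decide (x.1 < B)) &&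
    (List.range B).all (fun k => (coeffAt l₁ k - coeffAt l₂ k) % (p : ℤ) == 0)

theorem eval_eq_of_polyEqMod {F : Type*} [Field F] (p : ℕ) [CharP F p] (B : ℕ) (l₁ l₂ : List (ℕ × ℤ))
    (h : polyEqMod p B l₁ l₂ = true) (t : F) : evalTerms l₁ t = evalTerms l₂ t := by
  unfold polyEqMod at h
  simp only [Bool.and_eq_true, List.all_eq_true, decide_eq_true_eq, List.mem_range, beq_iff_eq] at h
  obtain ⟨⟨h1, h2⟩, h3⟩ := h
  rw [evalTerms_eq_sum l₁ B h1, evalTerms_eq_sum l₂ B h2]
  apply Finset.sum_congr rfl
  intro k hk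
  have hk' := h3 k (Finset.mem_range.mp hk)
  have hd : (p : ℤ) ∣ coeffAt l₁ k - coeffAt l₂ k := Int.dvd_of_emod_eq_zero hk'
  have h0 : ((coeffAt l₁ k - coeffAt l₂ k : ℤ) : F) = 0 := (CharP.intCast_eq_zero_iff F p _).mpr hd
  have h4 : ((coeffAt l₁ k : ℤ) : F) = ((coeffAt l₂ k : ℤ) : F) := by
    push_cast at h0
    exact sub_eq_zero.mp h0
  rw [h4]

/-- substitute `t ↦ t^m` -/
def substTerms (m : ℕ) (l : List (ℕ × ℤ)) : List (ℕ × ℤ) := l.map fun x => (m * x.1, x.2)

theorem evalTerms_subst {F : Type*} [Field F] (m : ℕ) (l : List (ℕ × ℤ)) (t : F) :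
    evalTerms (substTerms m l) t = evalTerms l (t ^ m) := by
  unfold evalTerms substTerms
  rw [List.map_map]
  congr 1
  apply List.map_congr_left
  intro x _
  simp [pow_mul]

end Cfsg.Agent.Lib.Helper11.Isog
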