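import Cfsg.Agent.Lib.Helper11.G2TorA
import Cfsg.Agent.Lib.Helper11.IsogPoly
import Cfsg.Agent.Lib.Helper2.SLGen
import Cfsg.Agent.Lib.Lead.ChevFixA

/-!
helper11 (S2371): the homomorphism `phi : SL₃(K) → G₂(K)`; the short root vectors `e₈, e₇, e₂` span a copy of the
natural module of `SL₃`; compatibility with base change.
-/

set_option autoImplicit false

namespace Cfsg.Agent.Lib.Helper11.G2Tor

open Cfsg Cfsg.Lie Matrix Cfsg.Agent.Lib.Helper7 Cfsg.Agent.Lib.Helper8.StSL
open Cfsg.Agent.Lib.Helper11.Isog

/-- the coordinates of the natural module: the short roots `e₁ = a+b`, `e₂ = a`, `e₃ = -2a-b` -/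
def nat3 : Fin 3 → chevG2.Idx
  | 0 => Sum.inr ⟨8, by decide⟩
  | 1 => Sum.inr ⟨7, by decide⟩
  | 2 => Sum.inr ⟨2, by decide⟩

theorem nat3_injective : Function.Injective nat3 := by decide

section
variable {K : Type*} [Field K]

/-- `M` preserves the span of the three coordinates and acts there as `y` -/
structure Pres3 (M : Matrix chevG2.Idx chevG2.Idx K) (y : Matrix (Fin 3) (Fin 3) K) : Prop where
  blk : ∀ a c, M (nat3 a) (nat3 c) = y a c
  off : ∀ row, (∀ a, row ≠ nat3 a) → ∀ c, M row (nat3 c) = 0

theorem Pres3.mul {M N : Matrix chevG2.Idx chevG2.Idx K} {y z : Matrix (Fin 3) (Fin 3) K}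
    (hM : Pres3 M y) (hN : Pres3 N z) : Pres3 (M * N) (y * z) := by
  have key : ∀ row c, (M * N) row (nat3 c) = ∑ b, M row (nat3 b) * z b c := by
    intro row c
    rw [Matrix.mul_apply]
    symm
    apply Fintype.sum_of_injective nat3 nat3_injective
    · intro k hk
      rw [hN.off k (fun a h => hk ⟨a, h.symm⟩) c, mul_zero]
    · intro b
      rw [hN.blk]
  constructor
  · intro a c
    rw [key, Matrix.mul_apply]
    apply Finset.sum_congr rfl
    intro b _
    rw [hM.blk]
  · intro row hrow c
    rw [key]
    apply Finset.sum_eq_zero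
    intro b _
    rw [hM.off row hrow, zero_mul]

theorem Pres3.unique {M : Matrix chevG2.Idx chevG2.Idx K} {y z : Matrix (Fin 3) (Fin 3) K}
    (h1 : Pres3 M y) (h2 : Pres3 M z) : y = z := by
  ext a c
  rw [← h1.blk, ← h2.blk]

end

/-- the entries of `x_r(t)`, `r = e_i - e_j` long, in the three columns of the natural module -/
def blockOK (r : ℕ) (i j : Fin 3) : Prop :=
  ∀ (row : chevG2.Idx) (c : Fin 3), entryTermsN chevG2 r row (nat3 c) =
    (if row = nat3 c then [(0, 1)] else []) ++ (if row = nat3 i ∧ c = j then [(1, 1)] else [])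

instance (r : ℕ) (i j : Fin 3) : Decidable (blockOK r i j) := by unfold blockOK; infer_instance

theorem blockOK_all (i j : Fin 3) (hij : i ≠ j) : blockOK (lr i j) i j := by
  revert i j
  decide

variable (K : Type*) [Field K]

theorem pres3_xGL (i j : Fin 3) (hij : i ≠ j) (t : K) :
    Pres3 ((xGL chevG2 hG2 K (lr i j) t : GL chevG2.Idx K) : Matrix chevG2.Idx chevG2.Idx K)
      (Matrix.transvection i j t) := by
  have h := blockOK_all i j hij
  have e : ∀ (row : chevG2.Idx) (c : Fin 3),
      ((xGL chevG2 hG2 K (lr i j) t : GL chevG2.Idx K) : Matrix chevG2.Idx chevG2.Idx K) row (nat3 c) =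
        (if row = nat3 c then 1 else 0) + (if row = nat3 i ∧ c = j then t else 0) := by
    intro row c
    rw [coe_xGL, x_eq_eval, h row c, evalTerms_append]
    congr 1
    · split_ifs <;> simp [evalTerms]
    · split_ifs <;> simp [evalTerms]
  constructor
  · intro a c
    rw [e, Matrix.transvection, Matrix.add_apply, Matrix.one_apply, Matrix.single_apply]
    congr 1
    · simp only [nat3_injective.eq_iff]
    · simp only [nat3_injective.eq_iff]
      by_cases h1 : a = i
      · by_cases h2 : c = j
        · simp [h1, h2]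
        · have h2' : ¬ j = c := fun h => h2 h.symm
          simp [h1, h2, h2']
      · have h1' : ¬ i = a := fun h => h1 h.symm
        simp [h1, h1']
  · intro row hrow c
    rw [e, if_neg (hrow c), if_neg (fun h => hrow i h.1), add_zero]

variable [Finite K]

/-- the homomorphism `SL₃(K) → GL₁₄(K)` with image the long root `A₂` subgroup of `G₂(K)` -/
noncomputable def phi : Matrix.SpecialLinearGroup (Fin 3) K →* GL chevG2.Idx K :=
  Classical.choose (exists_hom_of_stRel (I := Fin 3) (by simp) (g2StRel K))

theorem phi_transvection {i j : Fin 3} (h : i ≠ j) (t : K) :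
    phi K (Matrix.SpecialLinearGroup.transvection h t) = xGL chevG2 hG2 K (lr i j) t :=
  Classical.choose_spec (exists_hom_of_stRel (I := Fin 3) (by simp) (g2StRel K)) i j h t

theorem phi_mem (A : Matrix.SpecialLinearGroup (Fin 3) K) : phi K A ∈ chevG2.group K := by
  refine Cfsg.Agent.Lib.Helper2.sl_transvection_induction (fun A => phi K A ∈ chevG2.group K) ?_ ?_ A
  · intro i j h t
    show phi K _ ∈ _
    rw [phi_transvection]
    exact xGL_mem_group chevG2 hG2 K _ t
  · intro A B hA hB
    show phi K (A * B) ∈ _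
    rw [map_mul]
    exact Subgroup.mul_mem _ hA hB

theorem phi_pres3 (A : Matrix.SpecialLinearGroup (Fin 3) K) :
    Pres3 ((phi K A : GL chevG2.Idx K) : Matrix chevG2.Idx chevG2.Idx K)
      (A : Matrix (Fin 3) (Fin 3) K) := by
  refine Cfsg.Agent.Lib.Helper2.sl_transvection_induction
    (fun A => Pres3 ((phi K A : GL chevG2.Idx K) : Matrix chevG2.Idx chevG2.Idx K)
      (A : Matrix (Fin 3) (Fin 3) K)) ?_ ?_ A
  · intro i j h t
    show Pres3 ((phi K _ : GL chevG2.Idx K) : Matrix chevG2.Idx chevG2.Idx K) _
    rw [phi_transvection]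
    exact pres3_xGL K i j h t
  · intro A B hA hB
    show Pres3 ((phi K (A * B) : GL chevG2.Idx K) : Matrix chevG2.Idx chevG2.Idx K) _
    rw [map_mul, Units.val_mul, Matrix.SpecialLinearGroup.coe_mul]
    exact hA.mul hB

theorem phi_injective : Function.Injective (phi K) := by
  rw [injective_iff_map_eq_one]
  intro A hA
  have h := phi_pres3 K A
  rw [hA, Units.val_one] at h
  apply Subtype.ext
  ext a c
  rw [← h.blk, Matrix.SpecialLinearGroup.coe_one, Matrix.one_apply, Matrix.one_apply]
  simp only [nat3_injective.eq_iff]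

end Cfsg.Agent.Lib.Helper11.G2Tor
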