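import Cfsg.Agent.Lib.Helper11.G2TorB
import Cfsg.Agent.Lib.Helper7.ChevHWord
import Cfsg.Agent.Lib.Helper7.ChevNorm

/-!
helper11 (S2371): `phi` on diagonal matrices, `H(K) ≤ range phi`, compatibility of `phi` with base change.
-/

set_option autoImplicit false

namespace Cfsg.Agent.Lib.Helper11.G2Tor

open Cfsg Cfsg.Lie Matrix Cfsg.Agent.Lib.Helper7 Cfsg.Agent.Lib.Helper8.StSL
open Cfsg.Agent.Lib.Lead.ChevFix

theorem lr_neg (i j : Fin 3) (hij : i ≠ j) : lr j i = chevG2.neg (lr i j) := by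
  revert i j; decide

section
variable (K : Type*) [Field K] [Finite K]

/-- `phi` maps the diagonal element `diag(a, a⁻¹)` in positions `i, j` to `h_r(a)`, `r = e_i - e_j` -/
theorem phi_diag2n {i j : Fin 3} (hij : i ≠ j) (a : K) (ha : a ≠ 0) :
    phi K (Matrix.SpecialLinearGroup.diag2n hij a ha) = wordGL chevG2 hG2 K (chevG2.hWord (lr i j) a) := by
  rw [Cfsg.Agent.Lib.Helper2.diag2n_decompose hij a ha]
  simp only [map_mul, phi_transvection]
  unfold ChevalleyDatum.hWord
  rw [wordGL_append, nGL_eq, nGL_eq, lr_neg i j hij]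
  have : -(-1 : K)⁻¹ = 1 := by
    rw [inv_neg, inv_one, neg_neg]
  rw [this]
  group

theorem phi_diag2n_mem {i j : Fin 3} (hij : i ≠ j) (a : K) (ha : a ≠ 0) :
    phi K (Matrix.SpecialLinearGroup.diag2n hij a ha) ∈ chevG2.diagonalSubgroup K := by
  rw [phi_diag2n]
  exact hGL_mem_diagonalSubgroup chevG2 hG2 K _ (lr_lt i j) a ha

theorem coe_phi_diag2n {i j : Fin 3} (hij : i ≠ j) (a : K) (ha : a ≠ 0) :
    ((phi K (Matrix.SpecialLinearGroup.diag2n hij a ha) : GL chevG2.Idx K) :
      Matrix chevG2.Idx chevG2.Idx K) = diagChar chevG2 K (fun s => a ^ carR chevG2 (lr i j) s) := by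
  rw [phi_diag2n, coe_wordGL]
  exact hMat_eq_diagChar chevG2 hG2 K (lr i j) (lr_lt i j) a ha

theorem carR_short : ∀ s < 12, carR chevG2 7 s = carR chevG2 10 s - carR chevG2 6 s := by decide

/-- `h_a(c) = h_{3a+b}(c) h_b(c⁻¹)` -/
theorem hMat_short (c : K) (hc : c ≠ 0) :
    chevG2.hMat K 7 c = chevG2.hMat K 10 c * chevG2.hMat K 6 c⁻¹ := by
  rw [hMat_eq_diagChar chevG2 hG2 K 7 (by decide) c hc, hMat_eq_diagChar chevG2 hG2 K 10 (by decide) c hc,
    hMat_eq_diagChar chevG2 hG2 K 6 (by decide) c⁻¹ (inv_ne_zero hc), diagChar_mul]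
  unfold diagChar
  congr 1
  funext x
  rcases x with j | s
  · rfl
  · simp only [Sum.elim_inr]
    rw [carR_short s.val s.isLt, zpow_sub₀ hc, _root_.inv_zpow, div_eq_mul_inv]

/-- the diagonal subgroup lies in the image of `phi` -/
theorem diagonal_le_range_phi : chevG2.diagonalSubgroup K ≤ (phi K).range := by
  intro g hg
  obtain ⟨c, hc, hgm⟩ := diagonalSubgroup_eq_word chevG2 hG2 K g hg
  have h0 : c 0 ≠ 0 := hc 0 (by decide)
  have h1 : c 1 ≠ 0 := hc 1 (by decide)
  have hr : List.range chevG2.rank = [0, 1] := by decide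
  have hs0 : chevG2.simple 0 = 7 := by decide
  have hs1 : chevG2.simple 1 = 6 := by decide
  rw [hr] at hgm
  simp only [List.flatMap_cons, List.flatMap_nil, List.append_nil, hs0, hs1] at hgm
  rw [wordMat_append] at hgm
  have e7 : chevG2.wordMat K (chevG2.hWord 7 (c 0)) = chevG2.hMat K 7 (c 0) := rfl
  have e6 : chevG2.wordMat K (chevG2.hWord 6 (c 1)) = chevG2.hMat K 6 (c 1) := rfl
  rw [e7, e6, hMat_short K (c 0) h0] at hgm
  have h12 : (1 : Fin 3) ≠ 2 := by decide
  have h01 : (0 : Fin 3) ≠ 1 := by decide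
  refine ⟨Matrix.SpecialLinearGroup.diag2n h12 (c 0) h0 *
    Matrix.SpecialLinearGroup.diag2n h01 (c 0)⁻¹ (inv_ne_zero h0) *
    Matrix.SpecialLinearGroup.diag2n h01 (c 1) h1, ?_⟩
  apply Units.ext
  rw [map_mul, map_mul, Units.val_mul, Units.val_mul, hgm, phi_diag2n, phi_diag2n, phi_diag2n,
    coe_wordGL, coe_wordGL, coe_wordGL]
  rfl

end

section basechange
variable {F K : Type*} [Field F] [Field K] [Finite F] [Finite K] (f : F →+* K)

theorem map_transvection {i j : Fin 3} (h : i ≠ j) (t : F) :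
    Matrix.SpecialLinearGroup.map f (Matrix.SpecialLinearGroup.transvection h t) =
      Matrix.SpecialLinearGroup.transvection h (f t) := by
  apply Subtype.ext
  ext a c
  show f ((1 + Matrix.single i j t : Matrix (Fin 3) (Fin 3) F) a c) =
    (1 + Matrix.single i j (f t) : Matrix (Fin 3) (Fin 3) K) a c
  simp only [Matrix.add_apply, Matrix.one_apply, Matrix.single_apply, map_add]
  congr 1
  · split_ifs <;> simp
  · split_ifs <;> simp

/-- `phi` commutes with base change -/
theorem glMap_phi (A : Matrix.SpecialLinearGroup (Fin 3) F) :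
    glMap chevG2 f (phi F A) = phi K (Matrix.SpecialLinearGroup.map f A) := by
  refine Cfsg.Agent.Lib.Helper2.sl_transvection_induction
    (fun A => glMap chevG2 f (phi F A) = phi K (Matrix.SpecialLinearGroup.map f A)) ?_ ?_ A
  · intro i j h t
    show glMap chevG2 f (phi F _) = phi K _
    rw [phi_transvection, map_transvection, phi_transvection, glMap_xGL chevG2 hG2 f]
  · intro A B hA hB
    show glMap chevG2 f (phi F (A * B)) = phi K (Matrix.SpecialLinearGroup.map f (A * B))
    rw [map_mul, map_mul, map_mul, map_mul, hA, hB]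

end basechange

end Cfsg.Agent.Lib.Helper11.G2Tor
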