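import Mathlib

/-!
helper11 (S2371): a cubic extension `K/F` of finite fields, multiplication matrices `lm x ∈ M₃(F)`,
their diagonalisation over `K` by the Moore matrix of a basis, and the commutant of `lm x`.
-/

set_option autoImplicit false

namespace Cfsg.Agent.Lib.Helper11.G2Tor

open Matrix

section
variable {F K : Type*} [Field F] [Field K] [Algebra F K] [Fintype F] [Finite K]
variable (b : Module.Basis (Fin 3) F K)

/-- the `k`-th power of the Frobenius of `K/F` -/
noncomputable def frobK (k : ℕ) : K →ₐ[F] K := (FiniteField.frobeniusAlgHom F K) ^ k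

theorem frobK_apply (k : ℕ) (x : K) : frobK (F := F) k x = x ^ (Fintype.card F ^ k) := by
  unfold frobK
  rw [AlgHom.coe_pow, FiniteField.coe_frobeniusAlgHom, pow_iterate]

theorem frobK_zero (x : K) : frobK (F := F) 0 x = x := by
  rw [frobK_apply, pow_zero, pow_one]

/-- the matrix of multiplication by `x`, with entries pushed to `K` -/
noncomputable def lmK (x : K) : Matrix (Fin 3) (Fin 3) K :=
  (Algebra.leftMulMatrix b x).map (algebraMap F K)

omit [Fintype F] [Finite K] in
theorem vecMul_lmK (σ : K →ₐ[F] K) (x : K) (j : Fin 3) :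
    ∑ i, σ (b i) * lmK b x i j = σ x * σ (b j) := by
  have h1 : ∀ i, σ (b i) * lmK b x i j = σ (b.repr (x * b j) i • b i) := by
    intro i
    unfold lmK
    rw [Matrix.map_apply, Algebra.leftMulMatrix_eq_repr_mul]
    generalize b.repr (x * b j) i = r
    rw [Algebra.smul_def, map_mul σ, AlgHom.commutes, mul_comm]
  simp_rw [h1]
  rw [← map_sum, b.sum_repr, map_mul]

/-- the Moore matrix of the basis -/
noncomputable def moore : Matrix (Fin 3) (Fin 3) K := fun k j => frobK (F := F) k.val (b j)

omit [Finite K] in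
theorem moore_mul_lmK (x : K) :
    moore b * lmK b x = Matrix.diagonal (fun k : Fin 3 => frobK (F := F) k.val x) * moore b := by
  ext k j
  rw [Matrix.mul_apply, Matrix.diagonal_mul]
  exact vecMul_lmK b (frobK k.val) x j

theorem moore_isUnit (x : K) (hx : Function.Injective (fun k : Fin 3 => frobK (F := F) k.val x)) :
    IsUnit (moore b) := by
  rw [← Matrix.linearIndependent_rows_iff_isUnit]
  let f : Module.End K (Fin 3 → K) := Matrix.toLin' (lmK b x)ᵀ
  refine Module.End.eigenvectors_linearIndependent' f (fun k : Fin 3 => frobK (F := F) k.val x) hx _ ?_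
  intro k
  rw [Module.End.hasEigenvector_iff, Module.End.mem_eigenspace_iff]
  constructor
  · show Matrix.toLin' (lmK b x)ᵀ (moore b k) = _
    rw [Matrix.toLin'_apply, Matrix.mulVec_transpose]
    funext j
    have := congrFun (congrFun (moore_mul_lmK b x) k) j
    rw [Matrix.mul_apply, Matrix.diagonal_mul] at this
    exact this
  · intro h0
    have h1 : moore b k 0 = 0 := by
      have := congrFun h0 0
      exact this
    unfold moore at h1
    have h2 : b 0 = 0 := by
      have : frobK (F := F) k.val (b 0) = frobK (F := F) k.val 0 := by rw [h1, map_zero]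
      exact (frobK (F := F) k.val).toRingHom.injective this
    exact b.ne_zero 0 h2

omit [Finite K] [Fintype F] [Algebra F K] in
theorem eq_diagonal_of_commute (A : Matrix (Fin 3) (Fin 3) K) (l : Fin 3 → K)
    (hl : Function.Injective l) (h : A * Matrix.diagonal l = Matrix.diagonal l * A) :
    A = Matrix.diagonal (fun k => A k k) := by
  ext k j
  by_cases hkj : k = j
  · subst hkj; rw [Matrix.diagonal_apply_eq]
  · rw [Matrix.diagonal_apply_ne _ hkj]
    have := congrFun (congrFun h k) j
    rw [Matrix.mul_diagonal, Matrix.diagonal_mul] at this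
    have h2 : A k j * (l j - l k) = 0 := by rw [mul_sub, this]; ring
    rcases mul_eq_zero.mp h2 with h3 | h3
    · exact h3
    · exact absurd (hl (sub_eq_zero.mp h3)).symm hkj

/-- a matrix over `F` commuting with `lm x` (`x` with three different conjugates) is some `lm c` -/
theorem exists_eq_lm_of_commute (x : K)
    (hx : Function.Injective (fun k : Fin 3 => frobK (F := F) k.val x))
    (y : Matrix (Fin 3) (Fin 3) F)
    (hc : y * Algebra.leftMulMatrix b x = Algebra.leftMulMatrix b x * y) :
    ∃ c : K, y = Algebra.leftMulMatrix b c := by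
  obtain ⟨R, hR⟩ : ∃ R, R = moore b := ⟨_, rfl⟩
  have hU : IsUnit R.det := by
    rw [hR]; exact (Matrix.isUnit_iff_isUnit_det _).mp (moore_isUnit b x hx)
  have hRR : R * R⁻¹ = 1 := Matrix.mul_nonsing_inv R hU
  have hRR' : R⁻¹ * R = 1 := Matrix.nonsing_inv_mul R hU
  obtain ⟨M, hM⟩ : ∃ M, M = lmK b x := ⟨_, rfl⟩
  obtain ⟨L, hL⟩ : ∃ L, L = Matrix.diagonal (fun k : Fin 3 => frobK (F := F) k.val x) := ⟨_, rfl⟩
  have hRM : R * M = L * R := by rw [hR, hM, hL]; exact moore_mul_lmK b x
  obtain ⟨Y, hY⟩ : ∃ Y, Y = y.map (algebraMap F K) := ⟨_, rfl⟩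
  have hYM : Y * M = M * Y := by
    rw [hY, hM]
    unfold lmK
    rw [← Matrix.map_mul, ← Matrix.map_mul, hc]
  have hcomm : (R * Y * R⁻¹) * L = L * (R * Y * R⁻¹) := by
    have e1 : R⁻¹ * L = M * R⁻¹ := by
      calc R⁻¹ * L = R⁻¹ * (L * R) * R⁻¹ := by rw [Matrix.mul_assoc, Matrix.mul_assoc, hRR, Matrix.mul_one]
        _ = R⁻¹ * (R * M) * R⁻¹ := by rw [hRM]
        _ = M * R⁻¹ := by rw [← Matrix.mul_assoc, hRR', Matrix.one_mul]
    calc (R * Y * R⁻¹) * L = R * Y * (R⁻¹ * L) := by rw [Matrix.mul_assoc]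
      _ = R * Y * (M * R⁻¹) := by rw [e1]
      _ = R * (Y * M) * R⁻¹ := by simp only [Matrix.mul_assoc]
      _ = R * (M * Y) * R⁻¹ := by rw [hYM]
      _ = (R * M) * Y * R⁻¹ := by simp only [Matrix.mul_assoc]
      _ = L * (R * Y * R⁻¹) := by rw [hRM]; simp only [Matrix.mul_assoc]
  have hdiag := eq_diagonal_of_commute (R * Y * R⁻¹) _ hx (by rw [← hL]; exact hcomm)
  obtain ⟨μ, hμ⟩ : ∃ μ : Fin 3 → K, R * Y * R⁻¹ = Matrix.diagonal μ := ⟨_, hdiag⟩
  have hRY : R * Y = Matrix.diagonal μ * R := by
    calc R * Y = R * Y * (R⁻¹ * R) := by rw [hRR', Matrix.mul_one]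
      _ = (R * Y * R⁻¹) * R := by simp only [Matrix.mul_assoc]
      _ = Matrix.diagonal μ * R := by rw [hμ]
  refine ⟨μ 0, ?_⟩
  have hrow : ∀ j, ∑ i, b i * algebraMap F K (y i j) = μ 0 * b j := by
    intro j
    have := congrFun (congrFun hRY 0) j
    rw [Matrix.mul_apply, Matrix.diagonal_mul, hR] at this
    unfold moore at this
    simp only [Fin.val_zero, frobK_zero, hY, Matrix.map_apply] at this
    exact this
  have hrow2 : ∀ j, ∑ i, b i * algebraMap F K (Algebra.leftMulMatrix b (μ 0) i j) = μ 0 * b j := by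
    intro j
    have := vecMul_lmK b (AlgHom.id F K) (μ 0) j
    unfold lmK at this
    simpa using this
  ext i j
  have h3 : ∑ i, (y i j - Algebra.leftMulMatrix b (μ 0) i j) • b i = 0 := by
    have : ∀ i, (y i j - Algebra.leftMulMatrix b (μ 0) i j) • b i =
        b i * algebraMap F K (y i j) - b i * algebraMap F K (Algebra.leftMulMatrix b (μ 0) i j) := by
      intro i
      rw [Algebra.smul_def, map_sub]; ring
    simp_rw [this]
    rw [Finset.sum_sub_distrib, hrow, hrow2, sub_self]
  have h4 := Fintype.linearIndependent_iff.mp b.linearIndependent _ h3 i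
  exact sub_eq_zero.mp h4

/-- diagonalisation of `lm x` over `K` by a matrix of determinant one -/
theorem exists_diagonalize (x : K)
    (hx : Function.Injective (fun k : Fin 3 => frobK (F := F) k.val x)) :
    ∃ P : Matrix (Fin 3) (Fin 3) K, P.det = 1 ∧
      P * lmK b x = Matrix.diagonal (fun k : Fin 3 => frobK (F := F) k.val x) * P := by
  have hU : IsUnit (moore b).det := (Matrix.isUnit_iff_isUnit_det _).mp (moore_isUnit b x hx)
  have hd : (moore b).det ≠ 0 := hU.ne_zero
  let c : Fin 3 → K := fun k => if k = 0 then ((moore b).det)⁻¹ else 1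
  refine ⟨Matrix.diagonal c * moore b, ?_, ?_⟩
  · rw [Matrix.det_mul, Matrix.det_diagonal, Fin.prod_univ_three]
    simp only [c]
    simp [inv_mul_cancel₀ hd]
  · rw [Matrix.mul_assoc, moore_mul_lmK, ← Matrix.mul_assoc, ← Matrix.mul_assoc,
      Matrix.diagonal_mul_diagonal, Matrix.diagonal_mul_diagonal]
    congr 2
    funext k
    exact mul_comm _ _

end

end Cfsg.Agent.Lib.Helper11.G2Tor
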