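import Cfsg.Agent.Lib.Helper7.ChevRoot
import Mathlib

/-!
helper11 (S2371): arithmetic behind the regularity of the Singer element of `SL₃(q)` in `G₂(q)`, `q ≥ 3`.
-/

set_option autoImplicit false

namespace Cfsg.Agent.Lib.Helper11.G2Tor

open Cfsg Cfsg.Lie Cfsg.Agent.Lib.Helper7

/-- `⟨s, (e₁-e₂)^∨⟩` -/
def cA (s : ℕ) : ℤ := carR chevG2 6 s
/-- `⟨s, (e₂-e₃)^∨⟩` -/
def cB (s : ℕ) : ℤ := carR chevG2 10 s

theorem cAB_bound : ∀ s < 12, -2 ≤ cA s ∧ cA s ≤ 2 ∧ -2 ≤ cB s ∧ cB s ≤ 2 ∧ (cA s ≠ 0 ∨ cB s ≠ 0) := by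
  decide

theorem cAB_inj : ∀ r < 12, ∀ s < 12, cA r = cA s → cB r = cB s → r = s := by decide

theorem key_arith (Q α β : ℤ) (hQ : 5 ≤ Q) (ha : -4 ≤ α ∧ α ≤ 4) (hb : -4 ≤ β ∧ β ≤ 4)
    (h : (Q ^ 2 + Q + 1) ∣ α + (1 + Q) * β) : α = 0 ∧ β = 0 := by
  have h0 : α + (1 + Q) * β = 0 := by
    apply Int.eq_zero_of_abs_lt_dvd h
    have hQ2 : Q ^ 2 ≥ 5 * Q := by nlinarith
    obtain ⟨b1, b2⟩ := hb
    rw [abs_lt]
    constructor <;> nlinarith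
  obtain ⟨b1, b2⟩ := hb
  interval_cases β <;> constructor <;> omega

theorem reg3_one : ∀ s < 12, ¬ ((13 : ℤ) ∣ cA s + 4 * cB s) := by decide
theorem reg3_inj : ∀ r < 12, ∀ s < 12, ((13 : ℤ) ∣ (cA r + 4 * cB r) - (cA s + 4 * cB s)) → r = s := by
  decide
theorem reg4_one : ∀ s < 12, ¬ ((21 : ℤ) ∣ cA s + 5 * cB s) := by decide
theorem reg4_inj : ∀ r < 12, ∀ s < 12, ((21 : ℤ) ∣ (cA r + 5 * cB r) - (cA s + 5 * cB s)) → r = s := by
  decide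

theorem reg_one (q : ℕ) (hq : 3 ≤ q) (s : ℕ) (hs : s < 12) :
    ¬ (((q ^ 2 + q + 1 : ℕ) : ℤ) ∣ cA s + (1 + (q : ℤ)) * cB s) := by
  rcases Nat.lt_or_ge q 5 with h5 | h5
  · interval_cases q
    · exact reg3_one s hs
    · exact reg4_one s hs
  · intro h
    obtain ⟨a1, a2, b1, b2, hne⟩ := cAB_bound s hs
    have := key_arith (q : ℤ) (cA s) (cB s) (by exact_mod_cast h5) ⟨by omega, by omega⟩
      ⟨by omega, by omega⟩ (by push_cast at h; exact h)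
    rcases hne with h1 | h1
    · exact h1 this.1
    · exact h1 this.2

theorem reg_inj (q : ℕ) (hq : 3 ≤ q) (r s : ℕ) (hr : r < 12) (hs : s < 12)
    (h : ((q ^ 2 + q + 1 : ℕ) : ℤ) ∣
      (cA r + (1 + (q : ℤ)) * cB r) - (cA s + (1 + (q : ℤ)) * cB s)) : r = s := by
  rcases Nat.lt_or_ge q 5 with h5 | h5
  · interval_cases q
    · exact reg3_inj r hr s hs h
    · exact reg4_inj r hr s hs h
  · obtain ⟨a1, a2, b1, b2, -⟩ := cAB_bound r hr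
    obtain ⟨a3, a4, b3, b4, -⟩ := cAB_bound s hs
    have e : (cA r + (1 + (q : ℤ)) * cB r) - (cA s + (1 + (q : ℤ)) * cB s) =
        (cA r - cA s) + (1 + (q : ℤ)) * (cB r - cB s) := by ring
    rw [e] at h
    have := key_arith (q : ℤ) (cA r - cA s) (cB r - cB s) (by exact_mod_cast h5)
      ⟨by omega, by omega⟩ ⟨by omega, by omega⟩ (by push_cast at h; exact h)
    exact cAB_inj r hr s hs (by omega) (by omega)

end Cfsg.Agent.Lib.Helper11.G2Tor
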