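import Cfsg.Agent.Lib.Helper7.ChevHConj
import Cfsg.Agent.Lib.Helper7.ChevOrd3

/-!
helper11: in a Chevalley group (seven tabulated data) over any field, the centraliser of a regular element `h`
of the diagonal subgroup `H` (its character takes pairwise different values, all `≠ 1`, on the roots) is `H`.
Uses helper7's sharp Bruhat decomposition `canon_exists / canon_unique`.
-/

set_option autoImplicit false

namespace Cfsg.Agent.Lib.Helper11.RegCent

open Cfsg Cfsg.Lie Matrix Cfsg.Agent.Lib.Helper7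
open Cfsg.Agent.Lib.Helper3.BN

section
variable (D : ChevalleyDatum) (hD : D ∈ [chevG2, chevB2, chevD4, chevF4, chevE6, chevE7, chevE8])
variable (F : Type*) [Field F]
include hD

theorem xGL_injective (r : ℕ) (hr : r < D.nroots) (a b : F)
    (h : xGL D hD F r a = xGL D hD F r b) : a = b := by
  have h1 : xGL D hD F r (a - b) = 1 := by
    have : xGL D hD F r (a - b) = xGL D hD F r a * (xGL D hD F r b)⁻¹ := by
      rw [xGL_inv, xGL_mul, sub_eq_add_neg]
    rw [this, h, mul_inv_cancel]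
  have h2 : D.x F r (a - b) = 1 := by
    rw [← coe_xGL D hD F, h1, Units.val_one]
  have hN := negOK_of_mem D hD r hr
  exact sub_eq_zero.mp (eq_zero_of_x_eq_one D F r hr hN.1 hN.2 _ h2)

/-- conjugating an ordered product by a diagonal element -/
theorem diag_conj_ordProd (h : GL D.Idx F) (χ : ℕ → F) (hχ : ChainChar D F χ)
    (hhm : (h : Matrix D.Idx D.Idx F) = diagChar D F χ) (l : List ℕ) (t : ℕ → F) :
    h * ordProd D hD F l t * h⁻¹ = ordProd D hD F l (fun r => χ r * t r) := by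
  induction l with
  | nil => rw [ordProd_nil, ordProd_nil, mul_one, mul_inv_cancel]
  | cons r l ih =>
    rw [ordProd_cons, ordProd_cons, ← ih]
    have := diagGL_xGL_comm D hD F h χ hχ hhm r (t r)
    have e : h * (xGL D hD F r (t r) * ordProd D hD F l t) * h⁻¹ =
        (h * xGL D hD F r (t r)) * ordProd D hD F l t * h⁻¹ := by group
    rw [e, this]
    group

/-- a regular diagonal element centralises no nonidentity element of `U` -/
theorem cent_posUnipotent (h : GL D.Idx F) (χ : ℕ → F) (hχ : ChainChar D F χ)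
    (hhm : (h : Matrix D.Idx D.Idx F) = diagChar D F χ) (hne : ∀ r < D.nroots, χ r ≠ 1)
    (u : GL D.Idx F) (hu : u ∈ D.posUnipotent F) (hc : h * u * h⁻¹ = u) : u = 1 := by
  obtain ⟨w, hO⟩ := exists_ordW D hD
  have hA := chainAdd_linF D hD w
  have hG := goodL_posRoots D
  rw [posUnipotent_eq_closure_gensL] at hu
  obtain ⟨t, rfl⟩ := exists_ordProd D hD F _ hA hO _ hG u hu
  rw [diag_conj_ordProd D hD F h χ hχ hhm] at hc
  have hagree := ordProd_inj D hD F _ hA hO _ hG _ _ hc
  have h0 : ∀ r ∈ D.posRoots, t r = 0 := by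
    intro r hr
    have h1 := hagree r hr
    have hr' := ((mem_posRoots D r).mp hr).1
    have h2 : (χ r - 1) * t r = 0 := by
      have : χ r * t r = t r := h1
      rw [sub_mul, one_mul, this, sub_self]
    rcases mul_eq_zero.mp h2 with h3 | h3
    · exact absurd (sub_eq_zero.mp h3) (hne r hr')
    · exact h3
  have : ordProd D hD F D.posRoots t = ordProd D hD F D.posRoots (fun _ => 0) :=
    ordProd_congr D hD F _ _ _ h0
  rw [this]
  clear this hagree hc h0
  generalize D.posRoots = l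
  induction l with
  | nil => exact ordProd_nil D hD F _
  | cons r l ih => rw [ordProd_cons, ih, xGL_zero, mul_one]

/-- an element of `N` commuting with a regular diagonal element lies in `H` -/
theorem cent_monomial (h : GL D.Idx F) (hh : h ∈ D.diagonalSubgroup F) (χ : ℕ → F) (hχ : ChainChar D F χ)
    (hhm : (h : Matrix D.Idx D.Idx F) = diagChar D F χ)
    (hinj : ∀ r < D.nroots, ∀ s < D.nroots, χ r = χ s → r = s)
    (n : GL D.Idx F) (hn : n ∈ D.monomialSubgroup F) (hc : n * h = h * n) :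
    n ∈ D.diagonalSubgroup F := by
  have hRC := (monomial_le_rootConj D hD F hn).1
  -- `n⁻¹` normalises every root subgroup
  have hfix : ∀ s < D.nroots, ∃ c : F, ∀ t : F, n⁻¹ * xGL D hD F s t * n = xGL D hD F s (c * t) := by
    intro s hs
    obtain ⟨a, ha, c, hc0, h1, -⟩ := hRC s hs
    have e1 : h * (n⁻¹ * xGL D hD F s 1 * n) * h⁻¹ = xGL D hD F a (c * (χ s * 1)) := by
      have hc' : h * n⁻¹ = n⁻¹ * h := by
        have : n⁻¹ * (n * h) * n⁻¹ = n⁻¹ * (h * n) * n⁻¹ := by rw [hc]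
        have e2 : n⁻¹ * (n * h) * n⁻¹ = h * n⁻¹ := by group
        have e3 : n⁻¹ * (h * n) * n⁻¹ = n⁻¹ * h := by group
        rw [e2, e3] at this
        exact this
      have : h * (n⁻¹ * xGL D hD F s 1 * n) * h⁻¹ =
          (h * n⁻¹) * xGL D hD F s 1 * (n * h⁻¹) := by group
      rw [this, hc']
      have hc'' : n * h⁻¹ = h⁻¹ * n := by
        have : h⁻¹ * (h * n) * h⁻¹ = h⁻¹ * (n * h) * h⁻¹ := by rw [hc]
        have e2 : h⁻¹ * (h * n) * h⁻¹ = n * h⁻¹ := by group
        have e3 : h⁻¹ * (n * h) * h⁻¹ = h⁻¹ * n := by group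
        rw [e2, e3] at this
        exact this
      rw [hc'']
      have e4 : n⁻¹ * h * xGL D hD F s 1 * (h⁻¹ * n) = n⁻¹ * (h * xGL D hD F s 1 * h⁻¹) * n := by group
      rw [e4]
      have e5 : h * xGL D hD F s 1 * h⁻¹ = xGL D hD F s (χ s * 1) := by
        rw [diagGL_xGL_comm D hD F h χ hχ hhm s 1]; group
      rw [e5, h1]
    have e2 : h * (n⁻¹ * xGL D hD F s 1 * n) * h⁻¹ = xGL D hD F a (χ a * (c * 1)) := by
      rw [h1, diagGL_xGL_comm D hD F h χ hχ hhm a (c * 1)]; group
    have e3 := xGL_injective D hD F a ha _ _ (e1.symm.trans e2)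
    have e4 : χ s = χ a := by
      have : c * χ s = c * χ a := by
        rw [mul_one, mul_one] at e3
        rw [e3, mul_comm]
      exact mul_left_cancel₀ hc0 this
    have hsa : s = a := hinj s hs a ha e4
    subst hsa
    exact ⟨c, h1⟩
  have hNG := monomial_le_group D hD F
  have hBG := borel_le_group D hD F
  -- `n⁻¹ B n ≤ B`
  have hU : ∀ u ∈ D.posUnipotent F, n⁻¹ * u * n⁻¹⁻¹ ∈ D.posUnipotent F := by
    unfold ChevalleyDatum.posUnipotent
    apply conj_mem_closure
    rintro x ⟨r, t, hr, hxm⟩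
    have hx : x = xGL D hD F r t := Units.ext (by rw [hxm, coe_xGL])
    obtain ⟨c, hc1⟩ := hfix r hr.1
    rw [inv_inv, hx, hc1]
    apply Subgroup.subset_closure
    exact ⟨r, c * t, hr, coe_xGL D hD F _ _⟩
  have hH : ∀ k ∈ D.diagonalSubgroup F, n⁻¹ * k * n⁻¹⁻¹ ∈ D.diagonalSubgroup F := by
    intro k hk
    have := monomialSubgroup_le_normalizer_diagonal D hD F (Subgroup.inv_mem _ hn)
    rw [Subgroup.mem_set_normalizer_iff] at this
    exact (this k).mp hk
  have hB : ∀ b ∈ D.borelSubgroup F, n⁻¹ * b * n⁻¹⁻¹ ∈ D.borelSubgroup F := by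
    intro b hb
    have hb' : b ∈ ((D.borelSubgroup F : Subgroup (GL D.Idx F)) : Set (GL D.Idx F)) := hb
    rw [borel_eq_mul D hD F] at hb'
    obtain ⟨k, hk, u, hu, rfl⟩ := Set.mem_mul.mp hb'
    have e : n⁻¹ * (k * u) * n⁻¹⁻¹ = (n⁻¹ * k * n⁻¹⁻¹) * (n⁻¹ * u * n⁻¹⁻¹) := by group
    rw [e]
    exact Subgroup.mul_mem _ (diagonal_le_borel D hD F (hH k hk))
      (posUnipotent_le_borel D hD F (hU u hu))
  obtain ⟨P, hP⟩ : ∃ P, P = chevBNPair D hD F := ⟨_, rfl⟩
  have hPB : ∀ g : ↥(D.group F), g ∈ P.B ↔ (g : GL D.Idx F) ∈ D.borelSubgroup F := by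
    rw [hP]; exact mem_B_iff D hD F
  have hninv : n⁻¹ ∈ D.group F := Subgroup.inv_mem _ (hNG hn)
  have h1 : (⟨n⁻¹, hninv⟩ : ↥(D.group F)) ∈ P.B := by
    apply mem_of_conj_B_le P P.B le_rfl
    intro b hb
    rw [hPB]
    exact hB _ ((hPB b).mp hb)
  have h2 : n⁻¹ ∈ D.borelSubgroup F := (hPB _).mp h1
  have h3 : n ∈ D.borelSubgroup F := by
    have := Subgroup.inv_mem _ h2
    rwa [inv_inv] at this
  rw [← borel_inf_monomial D hD F]
  exact Subgroup.mem_inf.mpr ⟨h3, hn⟩

/-- the centraliser of a regular element of `H` in the Chevalley group is `H` -/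
theorem cent_regular (h : GL D.Idx F) (hh : h ∈ D.diagonalSubgroup F) (χ : ℕ → F) (hχ : ChainChar D F χ)
    (hhm : (h : Matrix D.Idx D.Idx F) = diagChar D F χ) (hne : ∀ r < D.nroots, χ r ≠ 1)
    (hinj : ∀ r < D.nroots, ∀ s < D.nroots, χ r = χ s → r = s)
    (g : GL D.Idx F) (hg : g ∈ D.group F) (hc : g * h = h * g) : g ∈ D.diagonalSubgroup F := by
  obtain ⟨b, hb, n, hn, u, hu, rfl⟩ := canon_exists D hD F g hg
  have hk : n * h * n⁻¹ ∈ D.diagonalSubgroup F := by
    have := monomialSubgroup_le_normalizer_diagonal D hD F hn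
    rw [Subgroup.mem_set_normalizer_iff] at this
    exact (this h).mp hh
  obtain ⟨k, hkdef⟩ : ∃ k : GL D.Idx F, k = n * h * n⁻¹ := ⟨_, rfl⟩
  rw [← hkdef] at hk
  have hHB := diagonal_le_borel D hD F
  have hu₁ : h⁻¹ * u * h⁻¹⁻¹ ∈ uMinus D F n :=
    diag_conj_uMinus D hD F n h⁻¹ (Subgroup.inv_mem _ hh) u hu
  have heq : (b * k) * n * (h⁻¹ * u * h⁻¹⁻¹) = (h * b) * n * u := by
    have e1 : (b * k) * n * (h⁻¹ * u * h⁻¹⁻¹) = (b * n * u) * h := by rw [hkdef]; group
    have e2 : (h * b) * n * u = h * (b * n * u) := by group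
    rw [e1, e2, hc]
  have huniq := (canon_unique D hD F (b * k) (h * b) n n _ u (Subgroup.mul_mem _ hb (hHB hk))
    (Subgroup.mul_mem _ (hHB hh) hb) hn hn hu₁ hu heq).2 rfl
  have hbk : b * k = h * b := huniq.1
  -- `u = 1`
  have huU : u ∈ D.posUnipotent F := uMinus_le_posUnipotent D F n hu
  have hu1 : u = 1 := by
    apply cent_posUnipotent D hD F h χ hχ hhm hne u huU
    have h2 : h⁻¹ * u * h⁻¹⁻¹ = u := huniq.2
    have : h * (h⁻¹ * u * h⁻¹⁻¹) * h⁻¹ = u := by group
    rw [h2] at this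
    exact this
  -- write `b = h' u'`
  have hb' : b ∈ ((D.borelSubgroup F : Subgroup (GL D.Idx F)) : Set (GL D.Idx F)) := hb
  rw [borel_eq_mul D hD F] at hb'
  obtain ⟨h', hh', u', hu', rfl⟩ := Set.mem_mul.mp hb'
  have hNU := diagonalSubgroup_le_normalizer_posUnipotent D hD F
  have hku : k⁻¹ * u' * k⁻¹⁻¹ ∈ D.posUnipotent F := by
    have := hNU (Subgroup.inv_mem _ hk)
    rw [Subgroup.mem_set_normalizer_iff] at this
    exact (this u').mp hu'
  have hmem : (h * h')⁻¹ * (h' * k) ∈ D.posUnipotent F ⊓ D.diagonalSubgroup F := by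
    refine Subgroup.mem_inf.mpr ⟨?_, ?_⟩
    · have e : (h * h')⁻¹ * (h' * k) = u' * (k⁻¹ * u' * k⁻¹⁻¹)⁻¹ := by
        have : h' * k = h * h' * u' * k⁻¹ * u'⁻¹ * k := by
          have h3 : h' * u' * k = h * (h' * u') := hbk
          have : h' * k = (h' * u' * k) * k⁻¹ * u'⁻¹ * k := by group
          rw [this, h3]; group
        rw [this]; group
      rw [e]
      exact Subgroup.mul_mem _ hu' (Subgroup.inv_mem _ hku)
    · exact Subgroup.mul_mem _ (Subgroup.inv_mem _ (Subgroup.mul_mem _ hh hh'))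
        (Subgroup.mul_mem _ hh' hk)
  rw [posUnipotent_inf_diagonalSubgroup D hD F, Subgroup.mem_bot] at hmem
  have h4 : h' * k = h * h' := (inv_mul_eq_one.mp hmem).symm
  rw [diagonalSubgroup_comm D hD F h h' hh hh'] at h4
  have hkh : k = h := mul_left_cancel h4
  -- `n` commutes with `h`
  have hnh : n * h = h * n := by
    have : n * h = k * n := by rw [hkdef]; group
    rw [this, hkh]
  have hnH := cent_monomial D hD F h hh χ hχ hhm hinj n hn hnh
  -- `u' = 1`
  have hu'1 : u' = 1 := by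
    apply cent_posUnipotent D hD F h χ hχ hhm hne u' hu'
    rw [hkh] at hbk
    have h5 : h' * (u' * h) = h' * (h * u') := by
      have e1 : h' * (u' * h) = h' * u' * h := by group
      have e2 : h' * (h * u') = h * (h' * u') := by
        rw [← mul_assoc, diagonalSubgroup_comm D hD F h' h hh' hh, mul_assoc]
      rw [e1, e2, hbk]
    have h6 : u' * h = h * u' := mul_left_cancel h5
    rw [← h6]; group
  rw [hu1, hu'1, mul_one, mul_one]
  exact Subgroup.mul_mem _ hh' hnH

end

end Cfsg.Agent.Lib.Helper11.RegCent
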