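import Cfsg.Agent.Lib.Helper11.G2TorC
import Cfsg.Agent.Lib.Helper11.G2TorD
import Cfsg.Agent.Lib.Helper11.G2TorE
import Cfsg.Agent.Lib.Helper11.RegCent

/-!
helper11 (S2371): the Singer torus of `SL₃(F)` inside `G₂(F)` is self-centralising (`|F| ≥ 3`).
-/

set_option autoImplicit false

namespace Cfsg.Agent.Lib.Helper11.G2Tor

open Cfsg Cfsg.Lie Matrix Cfsg.Agent.Lib.Helper7 Cfsg.Agent.Lib.Helper8.StSL
open Cfsg.Agent.Lib.Lead.ChevFix

section
variable {F K : Type*} [Field F] [Field K] [Algebra F K] [Fintype F] [Finite K]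
variable (b : Module.Basis (Fin 3) F K)

/-- multiplication by a norm-one element, as an element of `SL₃(F)` -/
noncomputable def slm (z : K) (hz : Algebra.norm F z = 1) : Matrix.SpecialLinearGroup (Fin 3) F :=
  ⟨Algebra.leftMulMatrix b z, by rw [← Algebra.norm_eq_matrix_det]; exact hz⟩

omit [Fintype F] [Finite K] in
theorem slm_mul (z w : K) (hz : Algebra.norm F z = 1) (hw : Algebra.norm F w = 1) :
    slm b z hz * slm b w hw = slm b (z * w) (by rw [map_mul, hz, hw, mul_one]) := by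
  apply Subtype.ext
  show Algebra.leftMulMatrix b z * Algebra.leftMulMatrix b w = Algebra.leftMulMatrix b (z * w)
  rw [map_mul]

/-- conjugates of an element of order `q² + q + 1` are different -/
theorem frob_injective (q : ℕ) (hq : Fintype.card F = q) (h2 : 2 ≤ q) (ζ : Kˣ)
    (hζ : orderOf ζ = q ^ 2 + q + 1) :
    Function.Injective (fun k : Fin 3 => frobK (F := F) k.val (ζ : K)) := by
  intro k l hkl
  simp only [frobK_apply, hq] at hkl
  have h1 : ζ ^ (q ^ k.val) = ζ ^ (q ^ l.val) := by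
    apply Units.ext
    rw [Units.val_pow_eq_pow_val, Units.val_pow_eq_pow_val]
    exact hkl
  rw [pow_eq_pow_iff_modEq, hζ] at h1
  have hb : ∀ k : Fin 3, q ^ k.val < q ^ 2 + q + 1 := by
    intro k
    have : q ^ k.val ≤ q ^ 2 := Nat.pow_le_pow_right (by omega) (by omega)
    omega
  have h2' := Nat.ModEq.eq_of_lt_of_lt h1 (hb k) (hb l)
  exact Fin.ext (Nat.pow_right_injective h2 h2')

end

section torus
variable (K : Type*) [Field K] [Finite K]

theorem h01 : (0 : Fin 3) ≠ 1 := by decide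
theorem h12 : (1 : Fin 3) ≠ 2 := by decide

/-- the diagonal element `diag(a, a⁻¹ c, c⁻¹)` of `SL₃(K)` -/
noncomputable def tor (a c : K) (ha : a ≠ 0) (hc : c ≠ 0) : Matrix.SpecialLinearGroup (Fin 3) K :=
  Matrix.SpecialLinearGroup.diag2n h01 a ha * Matrix.SpecialLinearGroup.diag2n h12 c hc

/-- the character of the image of `tor a c` -/
noncomputable def torChar (a c : K) (s : ℕ) : K := a ^ cA s * c ^ cB s

theorem phi_tor_mem (a c : K) (ha : a ≠ 0) (hc : c ≠ 0) :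
    phi K (tor K a c ha hc) ∈ chevG2.diagonalSubgroup K := by
  unfold tor
  rw [map_mul]
  exact Subgroup.mul_mem _ (phi_diag2n_mem K h01 a ha) (phi_diag2n_mem K h12 c hc)

theorem chainChar_torChar (a c : K) (ha : a ≠ 0) (hc : c ≠ 0) : ChainChar chevG2 K (torChar K a c) :=
  (chainChar_h chevG2 hG2 K 6 a ha).mul (chainChar_h chevG2 hG2 K 10 c hc)

theorem coe_phi_tor (a c : K) (ha : a ≠ 0) (hc : c ≠ 0) :
    ((phi K (tor K a c ha hc) : GL chevG2.Idx K) : Matrix chevG2.Idx chevG2.Idx K) =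
      diagChar chevG2 K (torChar K a c) := by
  unfold tor
  rw [map_mul, Units.val_mul, coe_phi_diag2n, coe_phi_diag2n, diagChar_mul]
  rfl

theorem coe_tor (a c : K) (ha : a ≠ 0) (hc : c ≠ 0) :
    ((tor K a c ha hc : Matrix.SpecialLinearGroup (Fin 3) K) : Matrix (Fin 3) (Fin 3) K) =
      Matrix.diagonal ![a, a⁻¹ * c, c⁻¹] := by
  unfold tor
  rw [Matrix.SpecialLinearGroup.coe_mul, Matrix.SpecialLinearGroup.diag2n_coe,
    Matrix.SpecialLinearGroup.diag2n_coe, Matrix.diagonal_mul_diagonal]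
  congr 1
  funext k
  fin_cases k <;> simp

/-- regularity of the character of `tor ζ ζ^(1+q)` for `ζ` of order `q² + q + 1` -/
theorem torChar_zeta (q : ℕ) (ζ : Kˣ) (s : ℕ) :
    torChar K (ζ : K) ((ζ : K) ^ (1 + q)) s = ((ζ ^ (cA s + (1 + (q : ℤ)) * cB s) : Kˣ) : K) := by
  unfold torChar
  rw [Units.val_zpow_eq_zpow_val, zpow_add₀ ζ.ne_zero, _root_.zpow_mul, ← zpow_natCast]
  push_cast
  rfl

theorem torChar_ne_one (q : ℕ) (hq : 3 ≤ q) (ζ : Kˣ) (hζ : orderOf ζ = q ^ 2 + q + 1) (s : ℕ)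
    (hs : s < 12) : torChar K (ζ : K) ((ζ : K) ^ (1 + q)) s ≠ 1 := by
  rw [torChar_zeta]
  intro h
  have h1 : ζ ^ (cA s + (1 + (q : ℤ)) * cB s) = 1 := Units.ext h
  rw [← orderOf_dvd_iff_zpow_eq_one, hζ] at h1
  exact reg_one q hq s hs h1

theorem torChar_inj (q : ℕ) (hq : 3 ≤ q) (ζ : Kˣ) (hζ : orderOf ζ = q ^ 2 + q + 1) (r s : ℕ)
    (hr : r < 12) (hs : s < 12)
    (h : torChar K (ζ : K) ((ζ : K) ^ (1 + q)) r = torChar K (ζ : K) ((ζ : K) ^ (1 + q)) s) : r = s := by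
  rw [torChar_zeta, torChar_zeta] at h
  have h1 : ζ ^ ((cA r + (1 + (q : ℤ)) * cB r) - (cA s + (1 + (q : ℤ)) * cB s)) = 1 := by
    rw [_root_.zpow_sub, Units.ext h, mul_inv_cancel]
  rw [← orderOf_dvd_iff_zpow_eq_one, hζ] at h1
  exact reg_inj q hq r s hr hs h1

end torus

section main
variable {F K : Type*} [Field F] [Field K] [Algebra F K] [Fintype F] [Finite K]
variable (b : Module.Basis (Fin 3) F K)

/-- the centraliser in `G₂(F)` of the image of a Singer element of `SL₃(F)` consists of images of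
multiplications by norm-one elements -/
theorem cent_main (q : ℕ) (hq : Fintype.card F = q) (h3 : 3 ≤ q) (ζ : Kˣ)
    (hζ : orderOf ζ = q ^ 2 + q + 1) (hζn : Algebra.norm F (ζ : K) = 1)
    (x : GL chevG2.Idx F) (hx : x ∈ chevG2.group F)
    (hcomm : x * phi F (slm b (ζ : K) hζn) = phi F (slm b (ζ : K) hζn) * x) :
    ∃ (c : K) (hc : Algebra.norm F c = 1), x = phi F (slm b c hc) := by
  obtain ⟨ι, hι⟩ : ∃ ι : F →+* K, ι = algebraMap F K := ⟨_, rfl⟩
  have hinj := frob_injective (F := F) q hq (by omega) ζ hζ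
  obtain ⟨P, hPdet, hP⟩ := exists_diagonalize b (ζ : K) hinj
  have hlam : ∀ k : Fin 3, frobK (F := F) k.val (ζ : K) = (ζ : K) ^ (q ^ k.val) :=
    fun k => by rw [frobK_apply, hq]
  have hζ0 : (ζ : K) ≠ 0 := ζ.ne_zero
  have hζ1 : (ζ : K) ^ (1 + q) ≠ 0 := pow_ne_zero _ hζ0
  have hpow : (ζ : K) ^ (q ^ 2 + q + 1) = 1 := by
    rw [← Units.val_pow_eq_pow_val, ← hζ, pow_orderOf_eq_one, Units.val_one]
  obtain ⟨TS, hTS⟩ : ∃ TS, TS = tor K (ζ : K) ((ζ : K) ^ (1 + q)) hζ0 hζ1 := ⟨_, rfl⟩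
  have hdiag : Matrix.diagonal (fun k : Fin 3 => frobK (F := F) k.val (ζ : K)) =
      ((TS : Matrix.SpecialLinearGroup (Fin 3) K) : Matrix (Fin 3) (Fin 3) K) := by
    rw [hTS, coe_tor]
    congr 1
    funext k
    rw [hlam]
    fin_cases k
    · show (ζ : K) ^ (q ^ 0) = (ζ : K)
      rw [pow_zero, pow_one]
    · show (ζ : K) ^ (q ^ 1) = (ζ : K)⁻¹ * (ζ : K) ^ (1 + q)
      rw [pow_one, pow_add, pow_one, ← mul_assoc, inv_mul_cancel₀ hζ0, one_mul]
    · show (ζ : K) ^ (q ^ 2) = ((ζ : K) ^ (1 + q))⁻¹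
      apply eq_inv_of_mul_eq_one_left
      rw [← pow_add, ← hpow]
      congr 1
      ring
  obtain ⟨PS, hPS⟩ : ∃ PS : Matrix.SpecialLinearGroup (Fin 3) K, PS = ⟨P, hPdet⟩ := ⟨_, rfl⟩
  obtain ⟨S0K, hS0K⟩ : ∃ S0K, S0K = Matrix.SpecialLinearGroup.map ι (slm b (ζ : K) hζn) := ⟨_, rfl⟩
  have hS0Kcoe : (S0K : Matrix (Fin 3) (Fin 3) K) = lmK b (ζ : K) := by
    rw [hS0K, hι]; rfl
  have hrel : PS * S0K = TS * PS := by
    apply Subtype.ext
    rw [Matrix.SpecialLinearGroup.coe_mul, Matrix.SpecialLinearGroup.coe_mul, hS0Kcoe, ← hdiag, hPS]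
    exact hP
  -- base change
  obtain ⟨X, hXdef⟩ : ∃ X, X = glMap chevG2 ι x := ⟨_, rfl⟩
  obtain ⟨S, hS⟩ : ∃ S, S = phi K S0K := ⟨_, rfl⟩
  have hX : X * S = S * X := by
    have := congrArg (glMap chevG2 ι) hcomm
    rw [map_mul, map_mul, glMap_phi, ← hS0K, ← hS, ← hXdef] at this
    exact this
  obtain ⟨g, hg⟩ : ∃ g, g = phi K PS := ⟨_, rfl⟩
  obtain ⟨h, hh⟩ : ∃ h, h = phi K TS := ⟨_, rfl⟩
  have hgh : g * S = h * g := by
    rw [hg, hS, hh, ← map_mul, ← map_mul, hrel]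
  have hh' : h = g * S * g⁻¹ := by rw [hgh]; group
  have hX' : (g * X * g⁻¹) * h = h * (g * X * g⁻¹) := by
    rw [hh']
    have e1 : g * X * g⁻¹ * (g * S * g⁻¹) = g * (X * S) * g⁻¹ := by group
    have e2 : g * S * g⁻¹ * (g * X * g⁻¹) = g * (S * X) * g⁻¹ := by group
    rw [e1, e2, hX]
  have hXG : X ∈ chevG2.group K := by
    rw [hXdef]
    exact G0_le chevG2 hG2 ι ⟨x, hx, rfl⟩
  have hgG : g ∈ chevG2.group K := by rw [hg]; exact phi_mem K PS
  have hX'G : g * X * g⁻¹ ∈ chevG2.group K :=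
    Subgroup.mul_mem _ (Subgroup.mul_mem _ hgG hXG) (Subgroup.inv_mem _ hgG)
  have hhH : h ∈ chevG2.diagonalSubgroup K := by rw [hh, hTS]; exact phi_tor_mem K _ _ hζ0 hζ1
  have hhm : (h : Matrix chevG2.Idx chevG2.Idx K) =
      diagChar chevG2 K (torChar K (ζ : K) ((ζ : K) ^ (1 + q))) := by
    rw [hh, hTS]; exact coe_phi_tor K _ _ hζ0 hζ1
  have hmem := RegCent.cent_regular chevG2 hG2 K h hhH _ (chainChar_torChar K _ _ hζ0 hζ1) hhm
    (fun r hr => torChar_ne_one K q h3 ζ hζ r hr)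
    (fun r hr s hs hrs => torChar_inj K q h3 ζ hζ r s hr hs hrs) (g * X * g⁻¹) hX'G hX'
  obtain ⟨Y', hY'⟩ := diagonal_le_range_phi K hmem
  obtain ⟨Y₁, hY₁def⟩ : ∃ Y₁, Y₁ = PS⁻¹ * Y' * PS := ⟨_, rfl⟩
  have hY₁ : phi K Y₁ = X := by
    rw [hY₁def, map_mul, map_mul, map_inv, hY', ← hg]; group
  have hpres := phi_pres3 K Y₁
  rw [hY₁] at hpres
  obtain ⟨y₀, hy₀def⟩ : ∃ y₀ : Matrix (Fin 3) (Fin 3) F,
      y₀ = fun a c => (x : Matrix chevG2.Idx chevG2.Idx F) (nat3 a) (nat3 c) := ⟨_, rfl⟩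
  have hy₀ : (Y₁ : Matrix (Fin 3) (Fin 3) K) = y₀.map ι := by
    ext a c
    rw [← hpres.blk a c, hXdef, glMap_coe, Matrix.map_apply, Matrix.map_apply, hy₀def]
  have hdet : y₀.det = 1 := by
    apply ι.injective
    rw [RingHom.map_det, map_one, RingHom.mapMatrix_apply, ← hy₀]
    exact Y₁.prop
  obtain ⟨y₀S, hy₀S⟩ : ∃ y₀S : Matrix.SpecialLinearGroup (Fin 3) F, y₀S = ⟨y₀, hdet⟩ := ⟨_, rfl⟩
  have hmap : Matrix.SpecialLinearGroup.map ι y₀S = Y₁ := by
    apply Subtype.ext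
    rw [hy₀, hy₀S]
    rfl
  have hx' : phi F y₀S = x := by
    apply glMap_injective chevG2 ι
    rw [glMap_phi, hmap, hY₁, hXdef]
  have hcomm' : y₀S * slm b (ζ : K) hζn = slm b (ζ : K) hζn * y₀S := by
    apply phi_injective F
    rw [map_mul, map_mul, hx', hcomm]
  have hcm : y₀ * Algebra.leftMulMatrix b (ζ : K) = Algebra.leftMulMatrix b (ζ : K) * y₀ := by
    have := congrArg Subtype.val hcomm'
    rw [hy₀S] at this
    exact this
  obtain ⟨c, hc⟩ := exists_eq_lm_of_commute b (ζ : K) hinj y₀ hcm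
  have hcn : Algebra.norm F c = 1 := by
    rw [Algebra.norm_eq_matrix_det b, ← hc, hdet]
  refine ⟨c, hcn, ?_⟩
  rw [← hx']
  congr 1
  rw [hy₀S]
  exact Subtype.ext hc

end main

end Cfsg.Agent.Lib.Helper11.G2Tor
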