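import Cfsg.Agent.Lib.Helper11.G2TorF

/-!
helper11 (S2371): the Singer torus of `SL₃(F)` inside `G₂(F)`: cyclic of order `q² + q + 1` and
self-centralising (`q ≥ 3`), given a cubic extension `K` of `F`.
-/

set_option autoImplicit false

namespace Cfsg.Agent.Lib.Helper11.G2Tor

open Cfsg Cfsg.Lie Matrix Cfsg.Agent.Lib.Helper7

section
variable {F K : Type*} [Field F] [Field K] [Algebra F K] [Fintype F] [Finite K]
variable (b : Module.Basis (Fin 3) F K)

variable (F K) in
/-- the norm-one units of `K` -/
noncomputable def normOne : Subgroup Kˣ := (Units.map (Algebra.norm F : K →* F)).ker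

omit [Fintype F] [Finite K] in
theorem norm_of_mem (z : Kˣ) (hz : z ∈ normOne F K) : Algebra.norm F (z : K) = 1 := by
  have : Units.map (Algebra.norm F : K →* F) z = 1 := hz
  have := congrArg Units.val this
  simpa using this

/-- the Singer torus as a homomorphism into `SL₃(F)` -/
noncomputable def singerSL : ↥(normOne F K) →* Matrix.SpecialLinearGroup (Fin 3) F where
  toFun z := slm b ((z : Kˣ) : K) (norm_of_mem z.1 z.2)
  map_one' := by
    apply Subtype.ext
    show Algebra.leftMulMatrix b (1 : K) = 1
    rw [map_one]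
  map_mul' x y := by
    rw [slm_mul]
    rfl

omit [Fintype F] [Finite K] in
theorem singerSL_injective : Function.Injective (singerSL b) := by
  intro x y h
  have h1 : Algebra.leftMulMatrix b ((x : Kˣ) : K) = Algebra.leftMulMatrix b ((y : Kˣ) : K) :=
    congrArg Subtype.val h
  have h2 := Algebra.leftMulMatrix_injective b h1
  exact Subtype.ext (Units.ext h2)

/-- the Singer torus as a homomorphism into `G₂(F)` -/
noncomputable def singerG2 : ↥(normOne F K) →* ↥(chevG2.group F) :=
  ((phi F).comp (singerSL b)).codRestrict (chevG2.group F) (fun z => phi_mem F _)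

theorem singerG2_injective : Function.Injective (singerG2 b) := by
  intro x y h
  have h1 : phi F (singerSL b x) = phi F (singerSL b y) := congrArg Subtype.val h
  exact singerSL_injective b (phi_injective F h1)

theorem card_normOne (q : ℕ) (hq : Fintype.card F = q) (hK : Nat.card K = q ^ 3) :
    Nat.card ↥(normOne F K) = q ^ 2 + q + 1 := by
  have hq1 : 1 < q := by rw [← hq]; exact Fintype.one_lt_card
  have hsurj := FiniteField.unitsMap_norm_surjective F K
  have h1 := Subgroup.card_mul_index (normOne F K)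
  have h2 : (normOne F K).index = Nat.card Fˣ := by
    unfold normOne
    rw [Subgroup.index_ker, MonoidHom.range_eq_top.mpr hsurj, Subgroup.card_top]
  have h3 : Nat.card Fˣ = q - 1 := by
    rw [Nat.card_units, Nat.card_eq_fintype_card, hq]
  have h4 : Nat.card Kˣ = q ^ 3 - 1 := by
    rw [Nat.card_units, hK]
  rw [h2, h3, h4] at h1
  obtain ⟨r, rfl⟩ : ∃ r, q = r + 1 := ⟨q - 1, by omega⟩
  have h5 : (r + 1) ^ 3 - 1 = ((r + 1) ^ 2 + (r + 1) + 1) * r := by
    have : (r + 1) ^ 3 = ((r + 1) ^ 2 + (r + 1) + 1) * r + 1 := by ring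
    rw [this]; simp
  rw [h5] at h1
  have hr : 0 < r := by omega
  simp only [Nat.add_sub_cancel] at h1
  exact Nat.eq_of_mul_eq_mul_right hr h1

include b in
theorem exists_torus (q : ℕ) (hq : Fintype.card F = q) (h3 : 3 ≤ q) (hK : Nat.card K = q ^ 3) :
    ∃ H : Subgroup ↥(chevG2.group F), IsCyclic ↥H ∧ Nat.card ↥H = q ^ 2 + q + 1 ∧
      Subgroup.centralizer (H : Set ↥(chevG2.group F)) = H := by
  have hcard := card_normOne (F := F) (K := K) q hq hK
  have hcyc : IsCyclic ↥(normOne F K) := inferInstance
  refine ⟨(singerG2 b).range, ?_, ?_, ?_⟩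
  · exact isCyclic_of_surjective (singerG2 b).rangeRestrict (singerG2 b).rangeRestrict_surjective
  · rw [← hcard]
    exact (Nat.card_congr (MonoidHom.ofInjective (singerG2_injective b)).toEquiv).symm
  · obtain ⟨ζ, hζgen⟩ := IsCyclic.exists_generator (α := ↥(normOne F K))
    have hζord : orderOf ζ = q ^ 2 + q + 1 := by
      rw [orderOf_eq_card_of_forall_mem_zpowers hζgen, hcard]
    have hζord' : orderOf (ζ : Kˣ) = q ^ 2 + q + 1 := by
      rw [Subgroup.orderOf_coe, hζord]
    have hζn := norm_of_mem (F := F) ζ.1 ζ.2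
    ext x
    constructor
    · intro hx
      rw [Subgroup.mem_centralizer_iff] at hx
      have h1 := hx (singerG2 b ζ) ⟨ζ, rfl⟩
      have h2 : (x : GL chevG2.Idx F) * phi F (slm b ((ζ : Kˣ) : K) hζn) =
          phi F (slm b ((ζ : Kˣ) : K) hζn) * (x : GL chevG2.Idx F) := by
        have := congrArg Subtype.val h1
        exact this.symm
      obtain ⟨c, hc, hxc⟩ := cent_main b q hq h3 (ζ : Kˣ) hζord' hζn (x : GL chevG2.Idx F) x.2 h2
      have hc0 : c ≠ 0 := by
        rintro rfl
        rw [Algebra.norm_zero] at hc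
        exact zero_ne_one hc
      have hmem : Units.mk0 c hc0 ∈ normOne F K := by
        show Units.map (Algebra.norm F : K →* F) (Units.mk0 c hc0) = 1
        apply Units.ext
        simpa using hc
      refine ⟨⟨Units.mk0 c hc0, hmem⟩, ?_⟩
      apply Subtype.ext
      rw [hxc]
      rfl
    · rintro ⟨z, rfl⟩
      rw [Subgroup.mem_centralizer_iff]
      rintro _ ⟨w, rfl⟩
      rw [← map_mul, ← map_mul, mul_comm]

end

end Cfsg.Agent.Lib.Helper11.G2Tor
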