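/-
helper11: S2318 leaf C8 `chev_hpos`: if `ℓ(w) < ℓ(s_i w)` for `w = mkW n` then `n⁻¹ X_{α_i} n ≤ U`.
-/
import Mathlib
import Cfsg.Agent.Lib.Helper27.GGDefs
import Cfsg.Agent.Lib.Helper6.BNRedB
import Cfsg.Agent.Lib.Helper6.ChevStX1
import Cfsg.Agent.Lib.Helper7.ChevWeylPerm2
import Cfsg.Agent.Lib.Helper7.ChevTwistRank1
import Cfsg.Agent.Lib.Helper7.ChevRank1

set_option autoImplicit false

namespace Cfsg.Agent.Lib.Helper11.GG

open Cfsg Cfsg.Agent.Lib.Helper3.BN Cfsg.Agent.Lib.Helper3.WordLen Cfsg.Agent.Lib.Helper6.BNSt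
open Cfsg.Agent.Lib.Helper6.CoxRed Cfsg.Agent.Lib.Helper27.GG
open Cfsg.Lie Cfsg.Agent.Lib.Helper7 Cfsg.Agent.Lib.Helper6.ChevSt Cfsg.Agent.Lib.Helper6.ChevStX1

variable (D : ChevalleyDatum) (hD : D ∈ [chevG2, chevB2, chevD4, chevF4, chevE6, chevE7, chevE8])
variable (F : Type*) [Field F]
variable [Fintype F]
include hD

/-- **C8** -/
theorem chev_hpos (i : Fin D.rank) (hs : sEl D hD F i ∈ (chevBNPair D hD F).S)
    (n : ↥(D.group F)) (hn : n ∈ (chevBNPair D hD F).N)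
    (hlt : len (Sbar (chevBNPair D hD F)) (mkW (chevBNPair D hD F) n hn) <
      len (Sbar (chevBNPair D hD F)) (sb (chevBNPair D hD F) (sEl D hD F i) hs *
        mkW (chevBNPair D hD F) n hn)) :
    ∀ x ∈ (D.rootSubgroup F (D.simple i)).subgroupOf (D.group F), n⁻¹ * x * n ∈ Uc D F := by
  intro x hx
  rw [Subgroup.mem_subgroupOf] at hx ⊢
  obtain ⟨t, ht⟩ := (mem_rootSubgroup_iff D hD F _ _).mp hx
  have hnm : (n : GL D.Idx F) ∈ D.monomialSubgroup F := (mem_N_iff D hD F n).mp hn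
  have hnm' : (n : GL D.Idx F)⁻¹ ∈ D.monomialSubgroup F := Subgroup.inv_mem _ hnm
  obtain ⟨L, hL, hact⟩ := exists_actsAs D hD F _ hnm'
  have hF := fundFacts_of_mem D hD i i.2
  obtain ⟨hlt1, c, hc, h1⟩ := hact (D.simple i) hF.hp
  rw [inv_inv] at h1
  rcases posOrNeg_of_mem D hD _ hlt1 with hpos | hneg
  · have e : ((n⁻¹ * x * n : ↥(D.group F)) : GL D.Idx F) =
        (n : GL D.Idx F)⁻¹ * xGL D hD F (D.simple i) t * (n : GL D.Idx F) := by
      rw [← ht]; rfl
    rw [e, h1]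
    exact xGL_pos_mem D hD F _ hpos _
  · exfalso
    have hpos' : D.IsPosRoot (D.neg (reflWord D L (D.simple i))) :=
      (negInvOK_of_mem D hD _ hlt1).2.2 hneg
    obtain ⟨-, c2, hc2, h2⟩ := hact (D.neg (D.simple i)) hF.hpb
    rw [inv_inv, reflWord_neg D hD L hL _ hF.hp] at h2
    obtain ⟨-, c3, hc3, h3⟩ := actsAs_nFund_inv D hD F i i.2 (D.simple i) hF.hp
    rw [inv_inv, reflectRoot_simple] at h3
    have hsN : sEl D hD F i ∈ (chevBNPair D hD F).N := (chevBNPair D hD F).subset hs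
    have hsn : sEl D hD F i * n ∈ (chevBNPair D hD F).N := (chevBNPair D hD F).N.mul_mem hsN hn
    have hsc : (sEl D hD F i : GL D.Idx F) = nFund D hD F i := sEl_coe D hD F i i.2
    have hconj : ∀ t : F, ((sEl D hD F i * n : ↥(D.group F)) : GL D.Idx F)⁻¹ *
        xGL D hD F (D.simple i) t * ((sEl D hD F i * n : ↥(D.group F)) : GL D.Idx F) =
        xGL D hD F (D.neg (reflWord D L (D.simple i))) (c2 * c3 * t) := by
      intro t
      have e1 : ((sEl D hD F i * n : ↥(D.group F)) : GL D.Idx F) = nFund D hD F i * (n : GL D.Idx F) := by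
        rw [← hsc]; rfl
      rw [e1, mul_inv_rev]
      have e2 : (n : GL D.Idx F)⁻¹ * (nFund D hD F i)⁻¹ * xGL D hD F (D.simple i) t *
          (nFund D hD F i * (n : GL D.Idx F)) =
          (n : GL D.Idx F)⁻¹ * ((nFund D hD F i)⁻¹ * xGL D hD F (D.simple i) t * nFund D hD F i) *
            (n : GL D.Idx F) := by group
      rw [e2, h3, h2, mul_assoc]
    have key := len_lt_of_pos D hD F (sEl D hD F i * n) hsn (sEl D hD F i) hs i i.2 hsc
      (D.neg (reflWord D L (D.simple i))) hpos' (c2 * c3) hconj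
    have e3 : mkW (chevBNPair D hD F) (sEl D hD F i * n) hsn =
        sb (chevBNPair D hD F) (sEl D hD F i) hs * mkW (chevBNPair D hD F) n hn := rfl
    rw [e3, sb_mul_cancel] at key
    exact lt_asymm hlt key

end Cfsg.Agent.Lib.Helper11.GG
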