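import Cfsg.Agent.Lib.Helper11.Gen2A
import Cfsg.Agent.Lib.Helper11.D4GenA
import Cfsg.Agent.Lib.Helper11.ChevFundGen
import Cfsg.Agent.Lib.Helper7.ChevTwist2
import Cfsg.Agent.Lib.Helper7.ChevBorel
import Cfsg.Agent.Lib.Helper7.ChevNorm
import Cfsg.Agent.Lib.Helper7.ChevUp

/-! Generic framework for the two-generation of the untwisted Chevalley groups (helper11). -/

set_option autoImplicit false

namespace Cfsg.Agent.Lib.Helper11.Gen2

open Cfsg Cfsg.Lie Matrix
open Cfsg.Agent.Lib.Helper7
open Cfsg.Agent.Lib.Helper11.D4Gen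

/-- the certificate checker: `S` is the list of roots whose root groups are known to be in `M`; each step
`(a, b, c, C)` uses `[X_a, X_b] = X_c` (single term, `C = ±1`) and adds the `⟨w⟩`-orbit of `c` -/
def certOK (D : ChevalleyDatum) (cox : List ℕ) (hh : ℕ) : List ℕ → List (ℕ × ℕ × ℕ × ℤ) → Bool
  | S, [] => (List.range D.rank).all fun j => S.contains (D.simple j) && S.contains (D.neg (D.simple j))
  | S, (a, b, c, C) :: rest =>
    S.contains a && S.contains b && decide (a < D.nroots) && decide (b < D.nroots) && decide (c < D.nroots) &&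
    decide (b ≠ a) && decide (b ≠ D.neg a) && decide (D.commTerms a b = [(c, C, 1, 1)]) &&
    decide (C = 1 ∨ C = -1) && certOK D cox hh (S ++ List.iterate (reflWord D cox) c hh) rest

/-- the full check for the generic theorem -/
def genCheck (D : ChevalleyDatum) (cox : List ℕ) (hh : ℕ) (β r s kr : ℕ) (cert : List (ℕ × ℕ × ℕ × ℤ)) : Bool :=
  cox.all (fun i => decide (i < D.rank)) && decide (β < D.nroots) && decide (r < D.nroots) &&
  decide (s < D.nroots) && decide (carR D β r = 0) &&
  decide (carR D β s = 1 ∨ carR D β s = -1) &&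
  decide (carR D β (reflWord D cox s) = 1 ∨ carR D β (reflWord D cox s) = -1) &&
  decide (carR D β ((reflWord D cox)^[kr] r) = 1 ∨ carR D β ((reflWord D cox)^[kr] r) = -1 ∨
    carR D β ((reflWord D cox)^[kr] r) = 2 ∨ carR D β ((reflWord D cox)^[kr] r) = -2) &&
  certOK D cox hh (List.iterate (reflWord D cox) s hh ++ List.iterate (reflWord D cox) ((reflWord D cox)^[kr] r) hh)
    cert

section
variable (D : ChevalleyDatum) (hD : D ∈ [chevG2, chevB2, chevD4, chevF4, chevE6, chevE7, chevE8])
variable (F : Type*) [Field F]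
include hD

/-- all root elements `x_s(t)` lie in `M` -/
def Full (M : Subgroup (GL D.Idx F)) (s : ℕ) : Prop := ∀ t : F, xGL D hD F s t ∈ M

theorem full_of_actsAs (M : Subgroup (GL D.Idx F)) (n : GL D.Idx F) (f : ℕ → ℕ) (hn : n ∈ M)
    (hact : ActsAs D hD F n f) (s : ℕ) (hs : s < D.nroots) (hf : Full D hD F M s) :
    f s < D.nroots ∧ Full D hD F M (f s) := by
  obtain ⟨hlt, c, hc, hconj⟩ := hact s hs
  refine ⟨hlt, fun t => ?_⟩
  have := M.mul_mem (M.mul_mem hn (hf (c⁻¹ * t))) (M.inv_mem hn)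
  rwa [hconj, mul_inv_cancel_left₀ hc] at this

theorem full_iterate (M : Subgroup (GL D.Idx F)) (n : GL D.Idx F) (f : ℕ → ℕ) (hn : n ∈ M)
    (hact : ActsAs D hD F n f) (s : ℕ) (hs : s < D.nroots) (hf : Full D hD F M s) (k : ℕ) :
    f^[k] s < D.nroots ∧ Full D hD F M (f^[k] s) := by
  induction k with
  | zero => exact ⟨hs, hf⟩
  | succ k ih =>
    rw [Function.iterate_succ_apply']
    exact full_of_actsAs D hD F M n f hn hact _ ih.1 ih.2

theorem full_comm (M : Subgroup (GL D.Idx F)) (a b c : ℕ) (C : ℤ) (ha : a < D.nroots) (hb : b < D.nroots)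
    (hba : b ≠ a) (hbn : b ≠ D.neg a) (hct : D.commTerms a b = [(c, C, 1, 1)]) (hC : C = 1 ∨ C = -1)
    (hfa : Full D hD F M a) (hfb : Full D hD F M b) : Full D hD F M c := by
  intro t
  have h1 := xGL_conj_xGL D hD F a b ha hb hba hbn 1 ((C : F) * t)
  unfold ChevalleyDatum.commWord at h1
  rw [hct] at h1
  simp only [List.map_cons, List.map_nil, wordGL, List.prod_cons, List.prod_nil, mul_one, pow_one, neg_neg] at h1
  have e : (C : F) * ((C : F) * t) = t := by
    rcases hC with rfl | rfl <;> push_cast <;> ring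
  rw [e] at h1
  have h2 : xGL D hD F c t = (xGL D hD F b ((C : F) * t))⁻¹ *
      (xGL D hD F a 1 * xGL D hD F b ((C : F) * t) * (xGL D hD F a 1)⁻¹) := by
    rw [h1]; group
  rw [h2]
  exact M.mul_mem (M.inv_mem (hfb _)) (M.mul_mem (M.mul_mem (hfa _) (hfb _)) (M.inv_mem (hfa _)))

theorem certOK_sound (M : Subgroup (GL D.Idx F)) (cox : List ℕ) (hcox : ∀ i ∈ cox, i < D.rank) (hh : ℕ)
    (hn : nWordGL D hD F cox ∈ M) (cert : List (ℕ × ℕ × ℕ × ℤ)) :
    ∀ S : List ℕ, certOK D cox hh S cert = true → (∀ a ∈ S, Full D hD F M a) →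
      ∀ j < D.rank, Full D hD F M (D.simple j) ∧ Full D hD F M (D.neg (D.simple j)) := by
  induction cert with
  | nil =>
    intro S hS hfull j hj
    unfold certOK at hS
    rw [List.all_eq_true] at hS
    have := hS j (List.mem_range.mpr hj)
    rw [Bool.and_eq_true, List.contains_iff_mem, List.contains_iff_mem] at this
    exact ⟨hfull _ this.1, hfull _ this.2⟩
  | cons st rest ih =>
    intro S hS hfull
    obtain ⟨a, b, c, C⟩ := st
    unfold certOK at hS
    simp only [Bool.and_eq_true, decide_eq_true_eq, List.contains_iff_mem] at hS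
    obtain ⟨⟨⟨⟨⟨⟨⟨⟨⟨haS, hbS⟩, ha⟩, hb⟩, hc⟩, hba⟩, hbn⟩, hct⟩, hC⟩, hrest⟩ := hS
    have hfc : Full D hD F M c :=
      full_comm D hD F M a b c C ha hb hba hbn hct hC (hfull a haS) (hfull b hbS)
    apply ih _ hrest
    intro x hx
    rw [List.mem_append] at hx
    rcases hx with hx | hx
    · exact hfull x hx
    · rw [List.mem_iterate] at hx
      obtain ⟨m, -, rfl⟩ := hx
      exact (full_iterate D hD F M _ _ hn (actsAs_nWordGL D hD F cox hcox) c hc hfc m).2

/-- the torus element `h_β(g)` acts on `X_s` through `g ^ ⟨s, β^∨⟩` -/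
theorem hGL_conj_xGL (β : ℕ) (hβ : β < D.nroots) (g : F) (hg : g ≠ 0) (s : ℕ) (t : F) :
    wordGL D hD F (D.hWord β g) * xGL D hD F s t * (wordGL D hD F (D.hWord β g))⁻¹ =
      xGL D hD F s (g ^ carR D β s * t) := by
  have hm : ((wordGL D hD F (D.hWord β g) : GL D.Idx F) : Matrix D.Idx D.Idx F) =
      diagChar D F (fun s => g ^ carR D β s) := by
    rw [coe_wordGL]
    exact hMat_eq_diagChar D hD F β hβ g hg
  rw [diagGL_xGL_comm D hD F _ _ (chainChar_h D hD F β g hg) hm s t, mul_assoc, mul_inv_cancel, mul_one]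

omit hD in
theorem diagChar_pow' (χ : ℕ → F) (n : ℕ) : diagChar D F χ ^ n = diagChar D F (fun s => χ s ^ n) := by
  unfold diagChar
  rw [Matrix.diagonal_pow]
  congr 1
  funext i
  rcases i with i | u
  · simp
  · simp

/-- every element of `H` has order dividing `q - 1` -/
theorem diagonal_pow_card_sub_one' [Fintype F] (g : GL D.Idx F) (hg : g ∈ D.diagonalSubgroup F) :
    g ^ (Fintype.card F - 1) = 1 := by
  obtain ⟨χ, hχ, hgm⟩ := mem_diagonalSubgroup_char D hD F g hg
  apply Units.ext
  rw [Units.val_pow_eq_pow_val, hgm, diagChar_pow', Units.val_one, ← diagChar_one D F]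
  unfold diagChar
  congr 1
  funext i
  rcases i with i | u
  · rfl
  · simp only [Sum.elim_inr]
    exact FiniteField.pow_card_sub_one_eq_one _ (hχ.ne0 u.val u.isLt)

/-- from one root element `x_r(y)`, `y ≠ 0`, and a torus element acting on `X_r` through `χ` one gets `X_r` -/
theorem full_of_torus (M : Subgroup (GL D.Idx F)) (r : ℕ) (y χ : F) (hy : y ≠ 0) (h : GL D.Idx F) (hh : h ∈ M)
    (hconj : ∀ t, h * xGL D hD F r t * h⁻¹ = xGL D hD F r (χ * t))
    (hA : ∀ A : AddSubgroup F, (1 : F) ∈ A → (∀ a ∈ A, χ * a ∈ A) → A = ⊤)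
    (hxy : xGL D hD F r y ∈ M) : Full D hD F M r := by
  let A : AddSubgroup F :=
    { carrier := {t | xGL D hD F r (t * y) ∈ M}
      zero_mem' := by
        show xGL D hD F r (0 * y) ∈ M
        rw [zero_mul, xGL_zero]; exact M.one_mem
      add_mem' := by
        intro a b ha hb
        show xGL D hD F r ((a + b) * y) ∈ M
        rw [add_mul, ← xGL_mul]
        exact M.mul_mem ha hb
      neg_mem' := by
        intro a ha
        show xGL D hD F r (-a * y) ∈ M
        rw [neg_mul, ← xGL_inv]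
        exact M.inv_mem ha }
  have hAtop : A = ⊤ := by
    apply hA
    · show xGL D hD F r (1 * y) ∈ M
      rwa [one_mul]
    · intro a ha
      show xGL D hD F r (χ * a * y) ∈ M
      have := M.mul_mem (M.mul_mem hh ha) (M.inv_mem hh)
      rw [hconj] at this
      rwa [mul_assoc]
  intro t
  have : t / y ∈ A := by rw [hAtop]; trivial
  have h2 : xGL D hD F r (t / y * y) ∈ M := this
  rwa [div_mul_cancel₀ _ hy] at h2

theorem nWordGL_mem_group (L : List ℕ) : nWordGL D hD F L ∈ D.group F := by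
  unfold nWordGL
  apply Subgroup.list_prod_mem
  intro g hg
  rw [List.mem_map] at hg
  obtain ⟨i, -, rfl⟩ := hg
  exact wordGL_mem_group D hD F _

end

end Cfsg.Agent.Lib.Helper11.Gen2
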