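import Cfsg.Agent.Lib.Helper11.Gen2B

/-! The generic two-generation theorem for the untwisted Chevalley groups over fields with `q ≥ 3` (helper11). -/

set_option autoImplicit false

namespace Cfsg.Agent.Lib.Helper11.Gen2

open Cfsg Cfsg.Lie Matrix
open Cfsg.Agent.Lib.Helper7
open Cfsg.Agent.Lib.Helper11.D4Gen

section
variable (D : ChevalleyDatum) (hD : D ∈ [chevG2, chevB2, chevD4, chevF4, chevE6, chevE7, chevE8])
variable (F : Type*) [Field F]
include hD

/-- transfer of a two-generation statement from `GL` to the subtype -/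
theorem two_gen_of_closure (a b : GL D.Idx F)
    (key : Subgroup.closure ({a, b} : Set (GL D.Idx F)) = D.group F) :
    ∃ a b : ↥(D.group F), Subgroup.closure ({a, b} : Set ↥(D.group F)) = ⊤ := by
  have ha : a ∈ D.group F := by
    rw [← key]; exact Subgroup.subset_closure (Set.mem_insert _ _)
  have hb : b ∈ D.group F := by
    rw [← key]; exact Subgroup.subset_closure (Set.mem_insert_of_mem _ rfl)
  refine ⟨⟨_, ha⟩, ⟨_, hb⟩, ?_⟩
  apply Subgroup.map_injective (D.group F).subtype_injective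
  rw [MonoidHom.map_closure, Set.image_pair, ← MonoidHom.range_eq_map, Subgroup.range_subtype]
  exact key

variable [Fintype F]

theorem gen_main (cox : List ℕ) (hh : ℕ) (β r s kr : ℕ) (cert : List (ℕ × ℕ × ℕ × ℤ))
    (chk : genCheck D cox hh β r s kr cert = true) (hq : ∃ x : F, x ≠ 0 ∧ x ≠ 1) :
    ∃ a b : ↥(D.group F), Subgroup.closure ({a, b} : Set ↥(D.group F)) = ⊤ := by
  classical
  unfold genCheck at chk
  simp only [Bool.and_eq_true, decide_eq_true_eq, List.all_eq_true] at chk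
  obtain ⟨⟨⟨⟨⟨⟨⟨⟨hcox, hβ⟩, hr⟩, hs⟩, hcr⟩, hcs⟩, hcws⟩, hcr'⟩, hcert⟩ := chk
  obtain ⟨g, hg⟩ := IsCyclic.exists_generator (α := Fˣ)
  have hg0 : (g : F) ≠ 0 := Units.ne_zero g
  have hg1 : (g : F) ≠ 1 := gen_ne_one g hg hq
  obtain ⟨h, hh_def⟩ : ∃ h, h = wordGL D hD F (D.hWord β (g : F)) := ⟨_, rfl⟩
  obtain ⟨n, hn_def⟩ : ∃ n, n = nWordGL D hD F cox := ⟨_, rfl⟩
  obtain ⟨w, hw_def⟩ : ∃ w, w = reflWord D cox := ⟨_, rfl⟩
  rw [← hw_def] at hcws hcr' hcert
  have hact : ActsAs D hD F n w := by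
    rw [hn_def, hw_def]; exact actsAs_nWordGL D hD F cox hcox
  have hconj : ∀ s' t, h * xGL D hD F s' t * h⁻¹ = xGL D hD F s' ((g : F) ^ carR D β s' * t) := by
    intro s' t
    rw [hh_def]; exact hGL_conj_xGL D hD F β hβ (g : F) hg0 s' t
  have hhdiag : h ∈ D.diagonalSubgroup F := by
    rw [hh_def]; exact hGL_mem_diagonalSubgroup D hD F β hβ (g : F) hg0
  refine two_gen_of_closure D hD F (h * xGL D hD F r 1) (n * xGL D hD F s 1) ?_
  obtain ⟨M, hM⟩ : ∃ M, M = Subgroup.closure
    ({h * xGL D hD F r 1, n * xGL D hD F s 1} : Set (GL D.Idx F)) := ⟨_, rfl⟩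
  rw [← hM]
  have haM : h * xGL D hD F r 1 ∈ M := by
    rw [hM]; exact Subgroup.subset_closure (Set.mem_insert _ _)
  have hbM : n * xGL D hD F s 1 ∈ M := by
    rw [hM]; exact Subgroup.subset_closure (Set.mem_insert_of_mem _ rfl)
  -- extract `h` and `x_r(1)`
  have hcomm_hu : Commute h (xGL D hD F r 1) := by
    have := hconj r 1
    rw [hcr, zpow_zero, one_mul] at this
    show h * xGL D hD F r 1 = xGL D hD F r 1 * h
    calc h * xGL D hD F r 1 = (h * xGL D hD F r 1 * h⁻¹) * h := by group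
      _ = _ := by rw [this]
  have hupow : xGL D hD F r 1 ^ (Fintype.card F) = 1 := by
    rw [addX_pow (xGL D hD F r) (fun s t => (xGL_mul D hD F r s t).symm), Nat.cast_card_eq_zero, zero_mul,
      xGL_zero]
  obtain ⟨hhM, huM⟩ := mem_of_mul_pow M h (xGL D hD F r 1) (Fintype.card F) Fintype.card_pos hcomm_hu
    (diagonal_pow_card_sub_one' D hD F h hhdiag) hupow haM
  -- the core lemma
  have hnmono : n ∈ D.monomialSubgroup F := by
    rw [hn_def]; exact nWordGL_mem_monomial D hD F cox hcox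
  have hcomm_hn : Commute h (n * h * n⁻¹) := by
    have h3 := monomialSubgroup_le_normalizer_diagonal D hD F hnmono
    rw [Subgroup.mem_set_normalizer_iff] at h3
    exact diagonalSubgroup_comm D hD F _ _ hhdiag ((h3 _).mp hhdiag)
  obtain ⟨hws_lt, c0, hc0, hnconj⟩ := hact s hs
  obtain ⟨hXs, hnM⟩ := core_lemma M (xGL D hD F s) (fun a b => (xGL_mul D hD F s a b).symm) h n
    ((g : F) ^ carR D β s) ((g : F) ^ carR D β (w s))
    (zpow_ne_zero _ hg0) (gen_zpow_ne_one g hg1 _ hcs) (gen_zpow_ne_one g hg1 _ hcws)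
    (hconj s)
    (by
      intro t
      rw [hnconj, hnconj, hconj]
      congr 1
      ring)
    (gen_pow_surj g hg _ hcws) hcomm_hn hhM hbM
  have hn' : nWordGL D hD F cox ∈ M := by rw [← hn_def]; exact hnM
  -- the root `r' = w^kr r`
  have hr' : ∀ k : ℕ, w^[k] r < D.nroots ∧ ∃ y : F, y ≠ 0 ∧ xGL D hD F (w^[k] r) y ∈ M := by
    intro k
    induction k with
    | zero => exact ⟨hr, 1, one_ne_zero, huM⟩
    | succ k ih =>
      obtain ⟨hlt, y, hy, hxy⟩ := ih
      rw [Function.iterate_succ_apply']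
      obtain ⟨hlt', c, hc, hcj⟩ := hact _ hlt
      refine ⟨hlt', c * y, mul_ne_zero hc hy, ?_⟩
      rw [← hcj]
      exact M.mul_mem (M.mul_mem hnM hxy) (M.inv_mem hnM)
  obtain ⟨hr'lt, y, hy, hxy⟩ := hr' kr
  have hXr' : Full D hD F M (w^[kr] r) :=
    full_of_torus D hD F M _ y _ hy h hhM (hconj _)
      (fun A h1 hmul => addSubgroup_eq_top g hg _ hcr' A h1 hmul) hxy
  -- the certificate
  have hseed : ∀ a ∈ List.iterate w s hh ++ List.iterate w (w^[kr] r) hh, Full D hD F M a := by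
    intro a ha
    rw [List.mem_append, List.mem_iterate, List.mem_iterate] at ha
    rcases ha with ⟨m, -, rfl⟩ | ⟨m, -, rfl⟩
    · exact (full_iterate D hD F M n w hnM hact s hs hXs m).2
    · exact (full_iterate D hD F M n w hnM hact _ hr'lt hXr' m).2
  rw [hw_def] at hseed hcert
  have hfund := certOK_sound D hD F M cox hcox hh hn' cert _ hcert hseed
  apply le_antisymm
  · rw [hM, Subgroup.closure_le]
    intro z hz
    rcases hz with rfl | rfl
    · exact Subgroup.mul_mem _ (by rw [hh_def]; exact wordGL_mem_group D hD F _) (xGL_mem_group D hD F r 1)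
    · exact Subgroup.mul_mem _ (by rw [hn_def]; exact nWordGL_mem_group D hD F cox) (xGL_mem_group D hD F s 1)
  · exact group_le_of_fund D hD F M (fun j hj t => (hfund j hj).1 t) (fun j hj t => (hfund j hj).2 t)

end

end Cfsg.Agent.Lib.Helper11.Gen2
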