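import Cfsg.Agent.Lib.Helper11.Gen2C

/-! The seven untwisted exceptional Chevalley groups over fields with `q ≥ 3` are two-generated (helper11). -/

set_option autoImplicit false
set_option maxRecDepth 1000000

namespace Cfsg.Agent.Lib.Helper11.Gen2

open Cfsg Cfsg.Lie Matrix
open Cfsg.Agent.Lib.Helper7

theorem chk_G2 : genCheck chevG2 [0, 1] 6 0 4 5 1 [] = true := by decide +kernel
theorem chk_B2 : genCheck chevB2 [0, 1] 4 0 3 1 1 [] = true := by decide +kernel
theorem chk_D4 : genCheck chevD4 [0, 1, 2, 3] 6 0 5 2 1 [(2, 8, 0, -1), (2, 18, 7, -1)] = true := by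
  decide +kernel
theorem chk_F4 : genCheck chevF4 [0, 1, 2, 3] 12 0 10 2 1 [(2, 41, 16, -1), (3, 37, 11, -1)] = true := by
  decide +kernel
theorem chk_E6 : genCheck chevE6 [0, 1, 2, 3, 4, 5] 12 0 11 2 3
    [(2, 62, 26, -1), (2, 68, 34, -1), (2, 57, 16, -1), (2, 63, 27, 1), (2, 71, 47, 1)] = true := by
  decide +kernel
theorem chk_E7 : genCheck chevE7 [0, 1, 2, 3, 4, 5, 6] 18 0 33 3 2
    [(3, 100, 33, -1), (3, 120, 58, 1), (3, 125, 95, -1), (3, 124, 74, 1), (3, 84, 17, 1), (3, 113, 44, -1)] =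
    true := by
  decide +kernel
theorem chk_E8 : genCheck chevE8 [0, 1, 2, 3, 4, 5, 6, 7] 30 0 13 2 1
    [(2, 226, 79, 1), (2, 234, 107, -1), (2, 235, 112, -1), (2, 236, 116, -1), (2, 227, 80, -1), (2, 219, 57, 1),
      (2, 233, 101, -1)] = true := by
  decide +kernel

/-- the seven untwisted exceptional Chevalley groups over a finite field with more than two elements are
generated by two elements -/
theorem two_gen_of_three_le (D : ChevalleyDatum)
    (hD : D ∈ [chevG2, chevB2, chevD4, chevF4, chevE6, chevE7, chevE8]) (F : Type*) [Field F] [Fintype F]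
    (hq : ∃ x : F, x ≠ 0 ∧ x ≠ 1) :
    ∃ a b : ↥(D.group F), Subgroup.closure ({a, b} : Set ↥(D.group F)) = ⊤ := by
  have hD' := hD
  simp only [List.mem_cons, List.not_mem_nil, or_false] at hD'
  rcases hD' with rfl | rfl | rfl | rfl | rfl | rfl | rfl
  · exact gen_main _ hD F _ _ _ _ _ _ _ chk_G2 hq
  · exact gen_main _ hD F _ _ _ _ _ _ _ chk_B2 hq
  · exact gen_main _ hD F _ _ _ _ _ _ _ chk_D4 hq
  · exact gen_main _ hD F _ _ _ _ _ _ _ chk_F4 hq
  · exact gen_main _ hD F _ _ _ _ _ _ _ chk_E6 hq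
  · exact gen_main _ hD F _ _ _ _ _ _ _ chk_E7 hq
  · exact gen_main _ hD F _ _ _ _ _ _ _ chk_E8 hq

end Cfsg.Agent.Lib.Helper11.Gen2
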