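import Cfsg.Agent.Lib.Helper11.Gen2C
import Cfsg.Agent.Lib.Helper7.ChevTwist0

/-! Generic two-generation theorems for the untwisted Chevalley groups over the field with two elements
(helper11). -/

set_option autoImplicit false

namespace Cfsg.Agent.Lib.Helper11.Gen2

open Cfsg Cfsg.Lie Matrix
open Cfsg.Agent.Lib.Helper7

/-- the certificate checker with an arbitrary list of goal roots -/
def certOKG (D : ChevalleyDatum) (cox : List ℕ) (hh : ℕ) (goal : List ℕ) : List ℕ → List (ℕ × ℕ × ℕ × ℤ) → Bool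
  | S, [] => goal.all fun x => S.contains x
  | S, (a, b, c, C) :: rest =>
    S.contains a && S.contains b && decide (a < D.nroots) && decide (b < D.nroots) && decide (c < D.nroots) &&
    decide (b ≠ a) && decide (b ≠ D.neg a) && decide (D.commTerms a b = [(c, C, 1, 1)]) &&
    decide (C = 1 ∨ C = -1) && certOKG D cox hh goal (S ++ List.iterate (reflWord D cox) c hh) rest

/-- `x_a` and `x_b` commute, as seen on the tables -/
def comm0 (D : ChevalleyDatum) (a b : ℕ) : Bool :=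
  decide (a < D.nroots) && decide (b < D.nroots) && decide (b ≠ a) && decide (b ≠ D.neg a) &&
  decide (D.commTerms a b = [])

/-- `[x_a, x_b] = x_c` (single term, coefficient `±1`), as seen on the tables -/
def comm1 (D : ChevalleyDatum) (a b c : ℕ) (C : ℤ) : Bool :=
  decide (a < D.nroots) && decide (b < D.nroots) && decide (c < D.nroots) && decide (b ≠ a) &&
  decide (b ≠ D.neg a) && decide (D.commTerms a b = [(c, C, 1, 1)]) && decide (C = 1 ∨ C = -1)

section grp
variable {G : Type*} [Group G]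

theorem comm_calc (X1 X2 X3 X4 Xc : G) (h23 : Commute X2 X3) (h24 : Commute X2 X4) (h14 : Commute X1 X4)
    (h13 : X1 * X3 * X1⁻¹ = X3 * Xc) (hc3 : Commute Xc X3) :
    (X1 * X2) * (X3 * X4) * (X1 * X2)⁻¹ * (X3 * X4)⁻¹ = Xc := by
  have e1 : X2 * (X3 * X4) * X2⁻¹ = X3 * X4 := by
    have : Commute X2 (X3 * X4) := h23.mul_right h24
    rw [this.eq, mul_assoc, mul_inv_cancel, mul_one]
  have e2 : X1 * X4 * X1⁻¹ = X4 := by rw [h14.eq, mul_assoc, mul_inv_cancel, mul_one]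
  calc (X1 * X2) * (X3 * X4) * (X1 * X2)⁻¹ * (X3 * X4)⁻¹
      = X1 * (X2 * (X3 * X4) * X2⁻¹) * X1⁻¹ * (X3 * X4)⁻¹ := by group
    _ = (X1 * X3 * X1⁻¹) * (X1 * X4 * X1⁻¹) * (X3 * X4)⁻¹ := by rw [e1]; group
    _ = X3 * Xc * X3⁻¹ := by rw [h13, e2]; group
    _ = Xc := by rw [← hc3.eq, mul_assoc, mul_inv_cancel, mul_one]

theorem comm_calc2 (X1 X2 Xt Xd : G) (h2t : Commute X2 Xt) (h1t : X1 * Xt * X1⁻¹ = Xt * Xd)
    (hdt : Commute Xd Xt) : (X1 * X2) * Xt * (X1 * X2)⁻¹ * Xt⁻¹ = Xd := by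
  have e1 : X2 * Xt * X2⁻¹ = Xt := by rw [h2t.eq, mul_assoc, mul_inv_cancel, mul_one]
  calc (X1 * X2) * Xt * (X1 * X2)⁻¹ * Xt⁻¹ = X1 * (X2 * Xt * X2⁻¹) * X1⁻¹ * Xt⁻¹ := by group
    _ = (X1 * Xt * X1⁻¹) * Xt⁻¹ := by rw [e1]
    _ = Xt * Xd * Xt⁻¹ := by rw [h1t]
    _ = Xd := by rw [← hdt.eq, mul_assoc, mul_inv_cancel, mul_one]

theorem sq_calc (X1 X2 Xc : G) (h1 : X1⁻¹ = X1) (h2 : X2⁻¹ = X2) (h12 : X1 * X2 * X1⁻¹ = X2 * Xc)
    (hc2 : Commute Xc X2) : (X1 * X2) * (X1 * X2) = Xc := by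
  calc (X1 * X2) * (X1 * X2) = (X1 * X2 * X1⁻¹) * X2⁻¹ := by rw [h1, h2]; group
    _ = X2 * Xc * X2⁻¹ := by rw [h12]
    _ = Xc := by rw [← hc2.eq, mul_assoc, mul_inv_cancel, mul_one]

end grp

section
variable (D : ChevalleyDatum) (hD : D ∈ [chevG2, chevB2, chevD4, chevF4, chevE6, chevE7, chevE8])
variable (F : Type*) [Field F]
include hD

theorem certOKG_sound (M : Subgroup (GL D.Idx F)) (cox : List ℕ) (hcox : ∀ i ∈ cox, i < D.rank) (hh : ℕ)
    (goal : List ℕ) (hn : nWordGL D hD F cox ∈ M) (cert : List (ℕ × ℕ × ℕ × ℤ)) :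
    ∀ S : List ℕ, certOKG D cox hh goal S cert = true → (∀ a ∈ S, Full D hD F M a) →
      ∀ x ∈ goal, Full D hD F M x := by
  induction cert with
  | nil =>
    intro S hS hfull x hx
    unfold certOKG at hS
    rw [List.all_eq_true] at hS
    have := hS x hx
    rw [List.contains_iff_mem] at this
    exact hfull _ this
  | cons st rest ih =>
    intro S hS hfull
    obtain ⟨a, b, c, C⟩ := st
    unfold certOKG at hS
    simp only [Bool.and_eq_true, decide_eq_true_eq, List.contains_iff_mem] at hS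
    obtain ⟨⟨⟨⟨⟨⟨⟨⟨⟨haS, hbS⟩, ha⟩, hb⟩, hc⟩, hba⟩, hbn⟩, hct⟩, hC⟩, hrest⟩ := hS
    have hfc : Full D hD F M c :=
      full_comm D hD F M a b c C ha hb hba hbn hct hC (hfull a haS) (hfull b hbS)
    apply ih _ hrest
    intro x hx
    rw [List.mem_append] at hx
    rcases hx with hx | hx
    · exact hfull x hx
    · rw [List.mem_iterate] at hx
      obtain ⟨m, -, rfl⟩ := hx
      exact (full_iterate D hD F M _ _ hn (actsAs_nWordGL D hD F cox hcox) c hc hfc m).2

theorem comm0_sound (a b : ℕ) (h : comm0 D a b = true) (u v : F) :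
    Commute (xGL D hD F a u) (xGL D hD F b v) := by
  unfold comm0 at h
  simp only [Bool.and_eq_true, decide_eq_true_eq] at h
  obtain ⟨⟨⟨⟨ha, hb⟩, hba⟩, hbn⟩, hct⟩ := h
  exact xGL_comm_of_nil D hD F a b ha hb hba hbn hct u v

theorem comm1_sound (a b c : ℕ) (C : ℤ) (h : comm1 D a b c C = true) (u v : F) :
    xGL D hD F a u * xGL D hD F b v * (xGL D hD F a u)⁻¹ =
      xGL D hD F b v * xGL D hD F c ((C : F) * u * v) := by
  unfold comm1 at h
  simp only [Bool.and_eq_true, decide_eq_true_eq] at h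
  obtain ⟨⟨⟨⟨⟨⟨ha, hb⟩, hc⟩, hba⟩, hbn⟩, hct⟩, hC⟩ := h
  rw [xGL_conj_xGL D hD F a b ha hb hba hbn u v]
  unfold ChevalleyDatum.commWord
  rw [hct]
  simp [wordGL]

theorem actsAs_pow (n : GL D.Idx F) (f : ℕ → ℕ) (hact : ActsAs D hD F n f) (k : ℕ) :
    ActsAs D hD F (n ^ k) (f^[k]) := by
  induction k with
  | zero =>
    intro s hs
    refine ⟨hs, 1, one_ne_zero, fun t => ?_⟩
    simp
  | succ k ih =>
    intro s hs
    obtain ⟨hlt, c, hc, hcj⟩ := ih s hs
    obtain ⟨hlt', c', hc', hcj'⟩ := hact _ hlt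
    rw [Function.iterate_succ_apply']
    refine ⟨hlt', c' * c, mul_ne_zero hc' hc, fun t => ?_⟩
    have : n ^ (k + 1) * xGL D hD F s t * (n ^ (k + 1))⁻¹ =
        n * (n ^ k * xGL D hD F s t * (n ^ k)⁻¹) * n⁻¹ := by
      rw [pow_succ']; group
    rw [this, hcj, hcj', mul_assoc]

section two
variable (h2 : ∀ x : F, x = 0 ∨ x = 1)
include h2

omit hD in
theorem neg_one_eq_one : (-1 : F) = 1 := by
  rcases h2 (-1) with h | h
  · exfalso
    have : (1 : F) = 0 := by
      have := congrArg (fun z : F => -z) h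
      simpa using this
    exact one_ne_zero this
  · exact h

omit hD in
theorem intCast_eq_one (C : ℤ) (hC : C = 1 ∨ C = -1) : (C : F) = 1 := by
  rcases hC with rfl | rfl
  · simp
  · push_cast; exact neg_one_eq_one F h2

theorem full_of_one (M : Subgroup (GL D.Idx F)) (s : ℕ) (h : xGL D hD F s 1 ∈ M) : Full D hD F M s := by
  intro t
  rcases h2 t with rfl | rfl
  · rw [xGL_zero]; exact M.one_mem
  · exact h

theorem xGL_one_inv (s : ℕ) : (xGL D hD F s 1)⁻¹ = xGL D hD F s 1 := by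
  rw [xGL_inv, neg_one_eq_one F h2]

/-- one seed: `a = x_s(1)`, `b = n_w` -/
theorem gen_two_one (cox : List ℕ) (hh : ℕ) (s : ℕ) (cert : List (ℕ × ℕ × ℕ × ℤ))
    (hcoxb : cox.all (fun i => decide (i < D.rank)) = true) (hs : s < D.nroots)
    (hcert : certOK D cox hh (List.iterate (reflWord D cox) s hh) cert = true) :
    ∃ a b : ↥(D.group F), Subgroup.closure ({a, b} : Set ↥(D.group F)) = ⊤ := by
  have hcox : ∀ i ∈ cox, i < D.rank := by
    intro i hi
    rw [List.all_eq_true] at hcoxb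
    simpa using hcoxb i hi
  refine two_gen_of_closure D hD F (xGL D hD F s 1) (nWordGL D hD F cox) ?_
  obtain ⟨M, hM⟩ : ∃ M, M = Subgroup.closure
    ({xGL D hD F s 1, nWordGL D hD F cox} : Set (GL D.Idx F)) := ⟨_, rfl⟩
  rw [← hM]
  have haM : xGL D hD F s 1 ∈ M := by
    rw [hM]; exact Subgroup.subset_closure (Set.mem_insert _ _)
  have hnM : nWordGL D hD F cox ∈ M := by
    rw [hM]; exact Subgroup.subset_closure (Set.mem_insert_of_mem _ rfl)
  have hXs : Full D hD F M s := full_of_one D hD F h2 M s haM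
  have hseed : ∀ a ∈ List.iterate (reflWord D cox) s hh, Full D hD F M a := by
    intro a ha
    rw [List.mem_iterate] at ha
    obtain ⟨m, -, rfl⟩ := ha
    exact (full_iterate D hD F M _ _ hnM (actsAs_nWordGL D hD F cox hcox) s hs hXs m).2
  have hfund := certOK_sound D hD F M cox hcox hh hnM cert _ hcert hseed
  apply le_antisymm
  · rw [hM, Subgroup.closure_le]
    intro z hz
    rcases hz with rfl | rfl
    · exact xGL_mem_group D hD F s 1
    · exact nWordGL_mem_group D hD F cox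
  · exact group_le_of_fund D hD F M (fun j hj t => (hfund j hj).1 t) (fun j hj t => (hfund j hj).2 t)

/-- the check for `gen_two_conj` -/
def conjCheck (D : ChevalleyDatum) (cox : List ℕ) (hh : ℕ) (s r k c : ℕ) (C : ℤ)
    (cert1 cert2 : List (ℕ × ℕ × ℕ × ℤ)) : Bool :=
  cox.all (fun i => decide (i < D.rank)) && decide (s < D.nroots) && decide (r < D.nroots) &&
  comm1 D s ((reflWord D cox)^[k] s) c C &&
  comm0 D r ((reflWord D cox)^[k] s) && comm0 D r ((reflWord D cox)^[k] r) &&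
  comm0 D s ((reflWord D cox)^[k] r) && comm0 D c ((reflWord D cox)^[k] s) &&
  certOKG D cox hh [s] (List.iterate (reflWord D cox) c hh) cert1 &&
  certOK D cox hh (List.iterate (reflWord D cox) s hh ++ List.iterate (reflWord D cox) r hh) cert2

/-- two seeds, separated by `[a, n^k a n^-k] = x_c(1)`: `a = x_s(1) x_r(1)`, `b = n_w` -/
theorem gen_two_conj (cox : List ℕ) (hh : ℕ) (s r k c : ℕ) (C : ℤ) (cert1 cert2 : List (ℕ × ℕ × ℕ × ℤ))
    (chk : conjCheck D cox hh s r k c C cert1 cert2 = true) :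
    ∃ a b : ↥(D.group F), Subgroup.closure ({a, b} : Set ↥(D.group F)) = ⊤ := by
  unfold conjCheck at chk
  simp only [Bool.and_eq_true, decide_eq_true_eq] at chk
  obtain ⟨⟨⟨⟨⟨⟨⟨⟨⟨hcoxb, hs⟩, hr⟩, h1⟩, h2a⟩, h2b⟩, h2c⟩, h2d⟩, hcert1⟩, hcert2⟩ := chk
  have hcox : ∀ i ∈ cox, i < D.rank := by
    intro i hi
    rw [List.all_eq_true] at hcoxb
    simpa using hcoxb i hi
  obtain ⟨w, hw_def⟩ : ∃ w, w = reflWord D cox := ⟨_, rfl⟩
  rw [← hw_def] at h1 h2a h2b h2c h2d hcert1 hcert2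
  obtain ⟨n, hn_def⟩ : ∃ n, n = nWordGL D hD F cox := ⟨_, rfl⟩
  have hact : ActsAs D hD F n w := by
    rw [hn_def, hw_def]; exact actsAs_nWordGL D hD F cox hcox
  refine two_gen_of_closure D hD F (xGL D hD F s 1 * xGL D hD F r 1) (nWordGL D hD F cox) ?_
  rw [← hn_def]
  obtain ⟨M, hM⟩ : ∃ M, M = Subgroup.closure
    ({xGL D hD F s 1 * xGL D hD F r 1, n} : Set (GL D.Idx F)) := ⟨_, rfl⟩
  rw [← hM]
  have haM : xGL D hD F s 1 * xGL D hD F r 1 ∈ M := by
    rw [hM]; exact Subgroup.subset_closure (Set.mem_insert _ _)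
  have hnM : n ∈ M := by
    rw [hM]; exact Subgroup.subset_closure (Set.mem_insert_of_mem _ rfl)
  have hn' : nWordGL D hD F cox ∈ M := by rw [← hn_def]; exact hnM
  -- the conjugate `a_k`
  obtain ⟨-, c1, hc1, hcj1⟩ := actsAs_pow D hD F n w hact k s hs
  obtain ⟨-, c2, hc2, hcj2⟩ := actsAs_pow D hD F n w hact k r hr
  have hc1' : c1 = 1 := (h2 c1).resolve_left hc1
  have hc2' : c2 = 1 := (h2 c2).resolve_left hc2
  have hakM : xGL D hD F (w^[k] s) 1 * xGL D hD F (w^[k] r) 1 ∈ M := by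
    have := M.mul_mem (M.mul_mem (M.pow_mem hnM k) haM) (M.inv_mem (M.pow_mem hnM k))
    have e : n ^ k * (xGL D hD F s 1 * xGL D hD F r 1) * (n ^ k)⁻¹ =
        (n ^ k * xGL D hD F s 1 * (n ^ k)⁻¹) * (n ^ k * xGL D hD F r 1 * (n ^ k)⁻¹) := by group
    rw [e, hcj1, hcj2, hc1', hc2', one_mul] at this
    exact this
  -- the commutator
  have hcomm := comm_calc (xGL D hD F s 1) (xGL D hD F r 1) (xGL D hD F (w^[k] s) 1) (xGL D hD F (w^[k] r) 1)
    (xGL D hD F c ((C : F) * 1 * 1)) (comm0_sound D hD F _ _ h2a 1 1) (comm0_sound D hD F _ _ h2b 1 1)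
    (comm0_sound D hD F _ _ h2c 1 1) (comm1_sound D hD F _ _ _ _ h1 1 1) (comm0_sound D hD F _ _ h2d _ 1)
  have hCF : (C : F) = 1 := by
    unfold comm1 at h1
    simp only [Bool.and_eq_true, decide_eq_true_eq] at h1
    exact intCast_eq_one F h2 C h1.2
  rw [hCF, one_mul, one_mul] at hcomm
  have hcM : xGL D hD F c 1 ∈ M := by
    rw [← hcomm]
    exact M.mul_mem (M.mul_mem (M.mul_mem haM hakM) (M.inv_mem haM)) (M.inv_mem hakM)
  have hc_lt : c < D.nroots := by
    unfold comm1 at h1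
    simp only [Bool.and_eq_true, decide_eq_true_eq] at h1
    exact h1.1.1.1.1.2
  have hXc : Full D hD F M c := full_of_one D hD F h2 M c hcM
  have hseed1 : ∀ a ∈ List.iterate w c hh, Full D hD F M a := by
    intro a ha
    rw [List.mem_iterate] at ha
    obtain ⟨m, -, rfl⟩ := ha
    exact (full_iterate D hD F M n w hnM hact c hc_lt hXc m).2
  rw [hw_def] at hseed1 hcert1 hcert2
  have hXs : Full D hD F M s :=
    certOKG_sound D hD F M cox hcox hh [s] hn' cert1 _ hcert1 hseed1 s (List.mem_singleton.mpr rfl)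
  have hXr : Full D hD F M r := by
    apply full_of_one D hD F h2
    have := M.mul_mem (M.inv_mem (hXs 1)) haM
    simpa using this
  have hseed2 : ∀ a ∈ List.iterate (reflWord D cox) s hh ++ List.iterate (reflWord D cox) r hh,
      Full D hD F M a := by
    intro a ha
    rw [← hw_def] at ha
    rw [List.mem_append, List.mem_iterate, List.mem_iterate] at ha
    rcases ha with ⟨m, -, rfl⟩ | ⟨m, -, rfl⟩
    · exact (full_iterate D hD F M n w hnM hact s hs hXs m).2
    · exact (full_iterate D hD F M n w hnM hact r hr hXr m).2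
  have hfund := certOK_sound D hD F M cox hcox hh hn' cert2 _ hcert2 hseed2
  apply le_antisymm
  · rw [hM, Subgroup.closure_le]
    intro z hz
    rcases hz with rfl | rfl
    · exact Subgroup.mul_mem _ (xGL_mem_group D hD F s 1) (xGL_mem_group D hD F r 1)
    · rw [hn_def]; exact nWordGL_mem_group D hD F cox
  · exact group_le_of_fund D hD F M (fun j hj t => (hfund j hj).1 t) (fun j hj t => (hfund j hj).2 t)

/-- the check for `gen_two_sq` -/
def sqCheck (D : ChevalleyDatum) (cox : List ℕ) (hh : ℕ) (s r c : ℕ) (C : ℤ) (t d : ℕ) (C' : ℤ)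
    (cert1 cert2 : List (ℕ × ℕ × ℕ × ℤ)) : Bool :=
  cox.all (fun i => decide (i < D.rank)) && comm1 D s r c C && comm0 D c r &&
  comm0 D r t && comm1 D s t d C' && comm0 D d t &&
  certOKG D cox hh [t] (List.iterate (reflWord D cox) c hh) cert1 &&
  certOK D cox hh (List.iterate (reflWord D cox) c hh ++ List.iterate (reflWord D cox) d hh) cert2

/-- two seeds, from `a ^ 2 = x_c(1)` and `[a, x_t(1)] = x_d(1)`: `a = x_s(1) x_r(1)`, `b = n_w` -/
theorem gen_two_sq (cox : List ℕ) (hh : ℕ) (s r c : ℕ) (C : ℤ) (t d : ℕ) (C' : ℤ)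
    (cert1 cert2 : List (ℕ × ℕ × ℕ × ℤ)) (chk : sqCheck D cox hh s r c C t d C' cert1 cert2 = true) :
    ∃ a b : ↥(D.group F), Subgroup.closure ({a, b} : Set ↥(D.group F)) = ⊤ := by
  unfold sqCheck at chk
  simp only [Bool.and_eq_true, decide_eq_true_eq] at chk
  obtain ⟨⟨⟨⟨⟨⟨⟨hcoxb, h1⟩, h2a⟩, h2b⟩, h3⟩, h2c⟩, hcert1⟩, hcert2⟩ := chk
  have hcox : ∀ i ∈ cox, i < D.rank := by
    intro i hi
    rw [List.all_eq_true] at hcoxb
    simpa using hcoxb i hi
  obtain ⟨n, hn_def⟩ : ∃ n, n = nWordGL D hD F cox := ⟨_, rfl⟩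
  have hact : ActsAs D hD F n (reflWord D cox) := by
    rw [hn_def]; exact actsAs_nWordGL D hD F cox hcox
  have h1' := h1
  have h3' := h3
  unfold comm1 at h1' h3'
  simp only [Bool.and_eq_true, decide_eq_true_eq] at h1' h3'
  obtain ⟨⟨⟨⟨⟨⟨hs, hr⟩, hc_lt⟩, -⟩, -⟩, -⟩, hC⟩ := h1'
  obtain ⟨⟨⟨⟨⟨⟨-, ht⟩, hd_lt⟩, -⟩, -⟩, -⟩, hC'⟩ := h3'
  refine two_gen_of_closure D hD F (xGL D hD F s 1 * xGL D hD F r 1) (nWordGL D hD F cox) ?_
  rw [← hn_def]
  obtain ⟨M, hM⟩ : ∃ M, M = Subgroup.closure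
    ({xGL D hD F s 1 * xGL D hD F r 1, n} : Set (GL D.Idx F)) := ⟨_, rfl⟩
  rw [← hM]
  have haM : xGL D hD F s 1 * xGL D hD F r 1 ∈ M := by
    rw [hM]; exact Subgroup.subset_closure (Set.mem_insert _ _)
  have hnM : n ∈ M := by
    rw [hM]; exact Subgroup.subset_closure (Set.mem_insert_of_mem _ rfl)
  have hn' : nWordGL D hD F cox ∈ M := by rw [← hn_def]; exact hnM
  -- the square
  have hsq := sq_calc (xGL D hD F s 1) (xGL D hD F r 1) (xGL D hD F c ((C : F) * 1 * 1))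
    (xGL_one_inv D hD F h2 s) (xGL_one_inv D hD F h2 r) (comm1_sound D hD F _ _ _ _ h1 1 1)
    (comm0_sound D hD F _ _ h2a _ 1)
  rw [intCast_eq_one F h2 C hC, one_mul, one_mul] at hsq
  have hcM : xGL D hD F c 1 ∈ M := by
    rw [← hsq]; exact M.mul_mem haM haM
  have hXc : Full D hD F M c := full_of_one D hD F h2 M c hcM
  have hseed1 : ∀ a ∈ List.iterate (reflWord D cox) c hh, Full D hD F M a := by
    intro a ha
    rw [List.mem_iterate] at ha
    obtain ⟨m, -, rfl⟩ := ha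
    exact (full_iterate D hD F M n _ hnM hact c hc_lt hXc m).2
  have hXt : Full D hD F M t :=
    certOKG_sound D hD F M cox hcox hh [t] hn' cert1 _ hcert1 hseed1 t (List.mem_singleton.mpr rfl)
  -- the commutator
  have hcomm := comm_calc2 (xGL D hD F s 1) (xGL D hD F r 1) (xGL D hD F t 1)
    (xGL D hD F d ((C' : F) * 1 * 1)) (comm0_sound D hD F _ _ h2b 1 1) (comm1_sound D hD F _ _ _ _ h3 1 1)
    (comm0_sound D hD F _ _ h2c _ 1)
  rw [intCast_eq_one F h2 C' hC', one_mul, one_mul] at hcomm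
  have hdM : xGL D hD F d 1 ∈ M := by
    rw [← hcomm]
    exact M.mul_mem (M.mul_mem (M.mul_mem haM (hXt 1)) (M.inv_mem haM)) (M.inv_mem (hXt 1))
  have hXd : Full D hD F M d := full_of_one D hD F h2 M d hdM
  have hseed2 : ∀ a ∈ List.iterate (reflWord D cox) c hh ++ List.iterate (reflWord D cox) d hh,
      Full D hD F M a := by
    intro a ha
    rw [List.mem_append, List.mem_iterate, List.mem_iterate] at ha
    rcases ha with ⟨m, -, rfl⟩ | ⟨m, -, rfl⟩
    · exact (full_iterate D hD F M n _ hnM hact c hc_lt hXc m).2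
    · exact (full_iterate D hD F M n _ hnM hact d hd_lt hXd m).2
  have hfund := certOK_sound D hD F M cox hcox hh hn' cert2 _ hcert2 hseed2
  apply le_antisymm
  · rw [hM, Subgroup.closure_le]
    intro z hz
    rcases hz with rfl | rfl
    · exact Subgroup.mul_mem _ (xGL_mem_group D hD F s 1) (xGL_mem_group D hD F r 1)
    · rw [hn_def]; exact nWordGL_mem_group D hD F cox
  · exact group_le_of_fund D hD F M (fun j hj t => (hfund j hj).1 t) (fun j hj t => (hfund j hj).2 t)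

end two

end

end Cfsg.Agent.Lib.Helper11.Gen2
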