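import Cfsg.Agent.Lib.Helper11.Gen2E

/-! The Chevalley groups `D₄(2)`, `F₄(2)`, `E₆(2)`, `E₇(2)`, `E₈(2)` are two-generated (helper11). -/

set_option autoImplicit false
set_option maxRecDepth 1000000

namespace Cfsg.Agent.Lib.Helper11.Gen2

open Cfsg Cfsg.Lie Matrix
open Cfsg.Agent.Lib.Helper7

theorem chk2_D4 : sqCheck chevD4 [0, 1, 2, 3] 6 1 12 2 1 13 3 1 [(2, 8, 0, -1)]
    [(2, 8, 0, -1), (2, 11, 1, 1)] = true := by decide +kernel

theorem chk2_F4 : conjCheck chevF4 [0, 1, 2, 3] 12 0 9 5 23 (-1) [(23, 42, 41, 1)]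
    [(0, 46, 23, -1), (9, 19, 7, -1)] = true := by decide +kernel

theorem chk2_E6 : certOK chevE6 [0, 1, 2, 3, 4, 5] 12 (List.iterate (reflWord chevE6 [0, 1, 2, 3, 4, 5]) 2 12)
    [(2, 62, 26, -1), (2, 68, 34, -1), (2, 57, 16, -1), (2, 63, 27, 1), (2, 71, 47, 1)] = true := by
  decide +kernel

theorem chk2_E7 : certOK chevE7 [0, 1, 2, 3, 4, 5, 6] 18
    (List.iterate (reflWord chevE7 [0, 1, 2, 3, 4, 5, 6]) 3 18)
    [(3, 100, 33, -1), (3, 120, 58, 1), (3, 125, 95, -1), (3, 124, 74, 1), (3, 84, 17, 1), (3, 113, 44, -1)] =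
    true := by
  decide +kernel

theorem chk2_E8 : certOK chevE8 [0, 1, 2, 3, 4, 5, 6, 7] 30
    (List.iterate (reflWord chevE8 [0, 1, 2, 3, 4, 5, 6, 7]) 2 30)
    [(2, 226, 79, 1), (2, 234, 107, -1), (2, 235, 112, -1), (2, 236, 116, -1), (2, 227, 80, -1), (2, 219, 57, 1),
      (2, 233, 101, -1)] = true := by
  decide +kernel

/-- the untwisted exceptional Chevalley groups of type `D₄`, `F₄`, `E₆`, `E₇`, `E₈` over the field with two
elements are generated by two elements -/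
theorem two_gen_of_two (D : ChevalleyDatum) (hD : D ∈ [chevD4, chevF4, chevE6, chevE7, chevE8])
    (F : Type*) [Field F] (h2 : ∀ x : F, x = 0 ∨ x = 1) :
    ∃ a b : ↥(D.group F), Subgroup.closure ({a, b} : Set ↥(D.group F)) = ⊤ := by
  have hD' := hD
  simp only [List.mem_cons, List.not_mem_nil, or_false] at hD'
  rcases hD' with rfl | rfl | rfl | rfl | rfl
  · exact gen_two_sq _ (by simp) F h2 _ _ _ _ _ _ _ _ _ _ _ chk2_D4
  · exact gen_two_conj _ (by simp) F h2 _ _ _ _ _ _ _ _ _ chk2_F4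
  · exact gen_two_one _ (by simp) F h2 _ _ 2 _ (by decide) (by decide) chk2_E6
  · exact gen_two_one _ (by simp) F h2 _ _ 3 _ (by decide) (by decide) chk2_E7
  · exact gen_two_one _ (by simp) F h2 _ _ 2 _ (by decide) (by decide) chk2_E8

end Cfsg.Agent.Lib.Helper11.Gen2
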