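import Mathlib
import Cfsg.Agent.Lib.Helper1.PGroup
import Cfsg.Agent.Lib.Helper4.Basic
import Cfsg.Agent.Lib.Helper20.HHReduction
import Cfsg.Agent.Lib.Helper1.CritExtra

/-!
# Automorphisms of `p`-groups of order prime to `p (p - 1)` (helper11)

Toolkit for S3031: cyclic sections are centralized, Hall–Higman reduction with minimality,
subgroups of prescribed order between two subgroups.
-/

set_option autoImplicit false
open scoped commutatorElement

namespace Cfsg.Agent.Lib.Helper11.HAut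

universe u


/-- An endomorphism of "order" prime to `p (p-1)` mapping an element `x` of `p`-power order into
`⟨x⟩` fixes `x`. -/
theorem fix_of_mem_zpowers {T : Type*} [Group T] {p : ℕ} [Fact p.Prime] (f : T →* T) (x : T)
    (e : ℕ) (hx : orderOf x = p ^ e) (hfx : f x ∈ Subgroup.zpowers x) (m : ℕ)
    (hm : f^[m] x = x) (hmp : m.Coprime p) (hmp1 : m.Coprime (p - 1)) : f x = x := by
  have hp : p.Prime := Fact.out
  have hfin : IsOfFinOrder x := by
    rw [← orderOf_pos_iff, hx]; exact pow_pos hp.pos e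
  obtain ⟨k, hk⟩ : ∃ k : ℕ, x ^ k = f x := by
    have := hfin.mem_powers_iff_mem_zpowers.mpr hfx
    exact (Submonoid.mem_powers_iff _ _).mp this
  have hiter : ∀ j : ℕ, f^[j] x = x ^ (k ^ j) := by
    intro j
    induction j with
    | zero => simp
    | succ j ih =>
      rw [Function.iterate_succ_apply', ih, map_pow, ← hk, ← pow_mul, pow_succ, mul_comm]
  have h1 : x ^ (k ^ m) = x ^ 1 := by rw [← hiter m, hm, pow_one]
  rw [pow_eq_pow_iff_modEq, hx] at h1
  rcases Nat.eq_zero_or_pos e with he | he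
  · subst he
    rw [pow_zero, orderOf_eq_one_iff] at hx
    rw [hx, map_one]
  have hcop : Nat.Coprime k (p ^ e) := by
    have h2 : Nat.Coprime (k ^ m) (p ^ e) := by
      have := h1.gcd_eq
      rw [Nat.Coprime, this]; simp
    rcases Nat.eq_zero_or_pos m with hm0 | hm0
    · subst hm0
      have : p = 1 := by simpa using hmp
      exact absurd this hp.one_lt.ne'
    exact (Nat.coprime_pow_left_iff hm0 _ _).mp h2
  set u : (ZMod (p ^ e))ˣ := ZMod.unitOfCoprime k hcop with hu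
  have hum : u ^ m = 1 := by
    apply Units.ext
    rw [Units.val_pow_eq_pow_val, hu, ZMod.coe_unitOfCoprime, Units.val_one]
    have := (ZMod.natCast_eq_natCast_iff _ _ _).mpr h1
    push_cast at this
    exact this
  have hut : u ^ Nat.totient (p ^ e) = 1 := ZMod.pow_totient u
  have hco : Nat.Coprime m (Nat.totient (p ^ e)) := by
    rw [Nat.totient_prime_pow hp he]
    exact Nat.Coprime.mul_right (Nat.Coprime.pow_right _ hmp) hmp1
  have ho : orderOf u ∣ 1 := by
    rw [← Nat.Coprime.gcd_eq_one hco]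
    exact Nat.dvd_gcd (orderOf_dvd_of_pow_eq_one hum) (orderOf_dvd_of_pow_eq_one hut)
  have hu1 : u = 1 := orderOf_eq_one_iff.mp (Nat.dvd_one.mp ho)
  have hk1 : k ≡ 1 [MOD p ^ e] := by
    have h3 : ((k : ℕ) : ZMod (p ^ e)) = 1 := by
      have := congrArg Units.val hu1
      rwa [hu, ZMod.coe_unitOfCoprime, Units.val_one] at this
    have : ((k : ℕ) : ZMod (p ^ e)) = ((1 : ℕ) : ZMod (p ^ e)) := by rw [h3]; simp
    exact (ZMod.natCast_eq_natCast_iff _ _ _).mp this
  rw [← hk]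
  have : x ^ k = x ^ 1 := by rw [pow_eq_pow_iff_modEq, hx]; exact hk1
  rw [this, pow_one]

theorem iterate_mulAut {T : Type*} [Group T] (a : MulAut T) (j : ℕ) (x : T) :
    (a.toMonoidHom)^[j] x = (a ^ j) x := by
  induction j with
  | zero => simp
  | succ j ih =>
    rw [Function.iterate_succ_apply', ih, pow_succ', MulAut.mul_apply]; rfl

/-- An automorphism of order prime to `p(p-1)` normalizing a cyclic `p`-subgroup centralizes it. -/
theorem fix_of_mem_zpowers' {T : Type*} [Group T] {p : ℕ} [Fact p.Prime] (a : MulAut T) (x : T)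
    (e : ℕ) (hx : orderOf x = p ^ e) (hfx : a x ∈ Subgroup.zpowers x) (m : ℕ)
    (hm : a ^ m = 1) (hmp : m.Coprime p) (hmp1 : m.Coprime (p - 1)) : a x = x := by
  have := fix_of_mem_zpowers a.toMonoidHom x e hx hfx m
    (by rw [iterate_mulAut, hm]; rfl) hmp hmp1
  exact this

/-- An automorphism of order prime to `p - 1` acts trivially on an invariant section of order `p`. -/
theorem inv_mul_mem_of_index_prime {T : Type*} [Group T] {p : ℕ} [Fact p.Prime] (a : MulAut T)
    (B : Subgroup T) [B.Normal] (hB : B.index = p) (hinv : ∀ x ∈ B, a x ∈ B) (m : ℕ)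
    (hm : a ^ m = 1) (hmp : m.Coprime p) (hmp1 : m.Coprime (p - 1)) (x : T) :
    x⁻¹ * a x ∈ B := by
  have hp : p.Prime := Fact.out
  have hcard : Nat.card (T ⧸ B) = p := by rw [← Subgroup.index_eq_card, hB]
  have hle : B ≤ B.comap a.toMonoidHom := fun y hy => hinv y hy
  set f : T ⧸ B →* T ⧸ B := QuotientGroup.map B B a.toMonoidHom hle with hf
  have hfmk : ∀ y : T, f (y : T ⧸ B) = ((a y : T) : T ⧸ B) := fun y => rfl
  have hiter : ∀ (j : ℕ) (y : T), f^[j] (y : T ⧸ B) = (((a ^ j) y : T) : T ⧸ B) := by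
    intro j
    induction j with
    | zero => intro y; simp
    | succ j ih =>
      intro y
      rw [Function.iterate_succ_apply', ih, hfmk, pow_succ', MulAut.mul_apply]
  have hfin : Finite (T ⧸ B) := Nat.finite_of_card_ne_zero (by rw [hcard]; exact hp.ne_zero)
  have key : f (x : T ⧸ B) = (x : T ⧸ B) := by
    by_cases hx1 : (x : T ⧸ B) = 1
    · rw [hx1, map_one]
    have hord : orderOf (x : T ⧸ B) = p ^ 1 := by
      rw [pow_one]
      have hd : orderOf (x : T ⧸ B) ∣ p := by rw [← hcard]; exact orderOf_dvd_natCard _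
      rcases (Nat.dvd_prime hp).mp hd with h | h
      · exact absurd (orderOf_eq_one_iff.mp h) hx1
      · exact h
    apply fix_of_mem_zpowers f (x : T ⧸ B) 1 hord _ m _ hmp hmp1
    · have : Subgroup.zpowers (x : T ⧸ B) = ⊤ := by
        apply Subgroup.eq_top_of_card_eq
        rw [Nat.card_zpowers, hord, pow_one, hcard]
      rw [this]; exact Subgroup.mem_top _
    · rw [hiter, hm]; rfl
  rw [hfmk] at key
  have := QuotientGroup.eq.mp key.symm
  exact this



open Cfsg.Agent.Lib.Helper1.CritExtra (expo dvd_expo CritHyp)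

/-- Hall–Higman reduction with minimality exposed (after helper20's `exists_hh_reduction`):
a minimal `a`-invariant subgroup `Q` on which `a` acts nontrivially; every element `x⁻¹ a(x)`,
`x ∈ Q`, is killed by `expo p` (`p` for odd `p`, `4` for `p = 2`). -/
theorem exists_hh_min {G : Type*} [Group G] [Finite G] {p : ℕ} [Fact p.Prime]
    (hG : IsPGroup p G) (a : MulAut G) (ha : (orderOf a).Coprime p) (hne : a ≠ 1) :
    ∃ Q : Subgroup G, (∀ x ∈ Q, a x ∈ Q) ∧ (∃ x ∈ Q, a x ≠ x) ∧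
      (∀ R : Subgroup G, (∀ x ∈ R, a x ∈ R) → Nat.card R < Nat.card Q → ∀ x ∈ R, a x = x) ∧
      (∀ x ∈ Q, (x⁻¹ * a x) ^ expo p = 1) := by
  classical
  have hp : p.Prime := Fact.out
  let S : Set (Subgroup G) := {Q | (∀ x ∈ Q, a x ∈ Q) ∧ ∃ x ∈ Q, a x ≠ x}
  have hSne : S.Nonempty := by
    refine ⟨⊤, fun x _ => Subgroup.mem_top _, ?_⟩
    by_contra hcon
    push Not at hcon
    apply hne
    ext x
    exact hcon x (Subgroup.mem_top x)
  obtain ⟨Q, hQS, hmin⟩ := WellFounded.has_min (measure fun Q : Subgroup G => Nat.card Q).wf S hSne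
  obtain ⟨hQinv, x₀, hx₀Q, hx₀⟩ := hQS
  have hminfix : ∀ R : Subgroup G, (∀ x ∈ R, a x ∈ R) → Nat.card R < Nat.card Q →
      ∀ x ∈ R, a x = x := by
    intro R hRinv hlt x hx
    by_contra hcon
    exact hmin R ⟨hRinv, x, hx, hcon⟩ hlt
  set T : Subgroup G := Subgroup.closure ({t | ∃ x ∈ Q, t = x ^ p} ∪ {t | ∃ x ∈ Q, ∃ y ∈ Q, t = ⁅x, y⁆})
    with hT
  have hTQ : T ≤ Q := by
    rw [hT, Subgroup.closure_le]
    rintro t (⟨x, hx, rfl⟩ | ⟨x, hx, y, hy, rfl⟩)
    · exact Q.pow_mem hx p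
    · rw [commutatorElement_def]
      exact Q.mul_mem (Q.mul_mem (Q.mul_mem hx hy) (Q.inv_mem hx)) (Q.inv_mem hy)
  have hTinv : ∀ t ∈ T, a t ∈ T := by
    intro t ht
    have : T.map a.toMonoidHom ≤ T := by
      rw [hT, MonoidHom.map_closure, Subgroup.closure_le]
      rintro _ ⟨t, (⟨x, hx, rfl⟩ | ⟨x, hx, y, hy, rfl⟩), rfl⟩
      · apply Subgroup.subset_closure
        left
        exact ⟨a x, hQinv x hx, by simp⟩
      · apply Subgroup.subset_closure
        right
        exact ⟨a x, hQinv x hx, a y, hQinv y hy, by simp [commutatorElement_def]⟩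
    exact this (Subgroup.mem_map_of_mem _ ht)
  have hQp : IsPGroup p ↥Q := hG.to_subgroup Q
  have hQne : (⊤ : Subgroup ↥Q) ≠ ⊥ := by
    intro h
    have h1 : x₀ = 1 := by
      have : (⟨x₀, hx₀Q⟩ : ↥Q) ∈ (⊥ : Subgroup ↥Q) := h ▸ Subgroup.mem_top _
      have := Subgroup.mem_bot.mp this
      exact congrArg Subtype.val this
    apply hx₀
    rw [h1, map_one]
  obtain ⟨M, hM⟩ : ∃ M : Subgroup ↥Q, IsCoatom M := by
    obtain ⟨M, hM, -⟩ := (eq_top_or_exists_le_coatom (⊥ : Subgroup ↥Q)).resolve_left hQne.symm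
    exact ⟨M, hM⟩
  have hTM : T ≤ M.map Q.subtype := by
    rw [hT, Subgroup.closure_le]
    rintro t (⟨x, hx, rfl⟩ | ⟨x, hx, y, hy, rfl⟩)
    · refine ⟨⟨x, hx⟩ ^ p, Cfsg.Agent.Lib.Helper1.IsPGroup.pow_mem_coatom hQp M hM ⟨x, hx⟩, rfl⟩
    · refine ⟨⁅(⟨x, hx⟩ : ↥Q), ⟨y, hy⟩⁆, ?_, rfl⟩
      apply Cfsg.Agent.Lib.Helper1.IsPGroup.commutator_le_coatom hQp M hM
      exact Subgroup.commutator_mem_commutator (Subgroup.mem_top _) (Subgroup.mem_top _)
  have hTlt : Nat.card T < Nat.card Q := by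
    have h1 : Nat.card ↥(M.map Q.subtype) = Nat.card M :=
      Subgroup.card_map_of_injective Q.subtype_injective
    have h2 : Nat.card M < Nat.card ↥Q := by
      by_contra hge
      rw [not_lt] at hge
      exact hM.1 (Subgroup.eq_top_of_le_card M hge)
    exact lt_of_le_of_lt (Subgroup.card_le_of_le hTM) (h1 ▸ h2)
  have hTfix : ∀ t ∈ T, a t = t := hminfix T hTinv hTlt
  set C : Subgroup G := Q ⊓ Subgroup.centralizer (T : Set G) with hC
  have hCinv : ∀ z ∈ C, a z ∈ C := by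
    intro z hz
    refine Subgroup.mem_inf.mpr ⟨hQinv z hz.1, ?_⟩
    rw [Subgroup.mem_centralizer_iff]
    intro t ht
    have h1 : t * z = z * t := (Subgroup.mem_centralizer_iff.mp (Subgroup.mem_inf.mp hz).2) t ht
    have h2 := congrArg a h1
    rw [map_mul, map_mul, hTfix t ht] at h2
    exact h2
  have hcommC : ∀ q ∈ Q, q⁻¹ * a q ∈ C := by
    intro q hq
    refine Subgroup.mem_inf.mpr ⟨Q.mul_mem (Q.inv_mem hq) (hQinv q hq), ?_⟩
    rw [Subgroup.mem_centralizer_iff]
    intro t ht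
    have h1 : q * t * q⁻¹ ∈ T := by
      have h2 : q * t * q⁻¹ = ⁅q, t⁆ * t := by simp [commutatorElement_def]
      rw [h2]
      apply T.mul_mem _ ht
      apply Subgroup.subset_closure
      right
      exact ⟨q, hq, t, hTQ ht, rfl⟩
    have h3 : a (q * t * q⁻¹) = q * t * q⁻¹ := hTfix _ h1
    rw [map_mul, map_mul, map_inv, hTfix t ht] at h3
    calc t * (q⁻¹ * a q) = q⁻¹ * (q * t * q⁻¹) * a q := by group
      _ = q⁻¹ * (a q * t * (a q)⁻¹) * a q := by rw [h3]
      _ = q⁻¹ * a q * t := by group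
  have hCQ : C = Q := by
    by_contra hCne
    have hlt : Nat.card C < Nat.card Q := by
      by_contra hge
      rw [not_lt] at hge
      exact hCne (Subgroup.eq_of_le_of_card_ge inf_le_left hge)
    have hCfix := hminfix C hCinv hlt
    apply hx₀
    exact Cfsg.Agent.Lib.Helper20.fix_of_fix_comm hG a ha x₀ (hCfix _ (hcommC x₀ hx₀Q))
  have hTcent : ∀ t ∈ T, ∀ z ∈ Q, z * t = t * z := by
    intro t ht z hz
    have hzC : z ∈ C := hCQ ▸ hz
    exact ((Subgroup.mem_centralizer_iff.mp (Subgroup.mem_inf.mp hzC).2) t ht).symm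
  have hpowT : ∀ x ∈ Q, x ^ p ∈ T := fun x hx =>
    Subgroup.subset_closure (Or.inl ⟨x, hx, rfl⟩)
  have hcommT : ∀ x ∈ Q, ∀ y ∈ Q, ⁅x, y⁆ ∈ T := fun x hx y hy =>
    Subgroup.subset_closure (Or.inr ⟨x, hx, y, hy, rfl⟩)
  refine ⟨Q, hQinv, ⟨x₀, hx₀Q, hx₀⟩, hminfix, ?_⟩
  -- the exponent computation, inside the group `↥Q`
  have hcrit : CritHyp p (⊤ : Subgroup ↥Q) := by
    refine ⟨fun _ _ _ => Subgroup.mem_top _, ?_, ?_⟩
    · rintro ⟨x, hx⟩ - ⟨g, hg⟩ ⟨y, hy⟩ -
      apply Subtype.ext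
      have := hTcent _ (hcommT x hx g hg) y hy
      simpa [commutatorElement_def] using this.symm
    · rintro ⟨x, hx⟩ - ⟨y, hy⟩ -
      apply Subtype.ext
      have := hTcent _ (hpowT x hx) y hy
      simpa using this.symm
  intro x hx
  have h1 := hcrit.mul_pow_expo hp (x := (⟨x, hx⟩ : ↥Q)⁻¹) (y := ⟨a x, hQinv x hx⟩)
    (Subgroup.mem_top _) (Subgroup.mem_top _)
  have h2 := congrArg Subtype.val h1
  simp only [Subgroup.coe_pow, Subgroup.coe_mul, Subgroup.coe_inv] at h2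
  rw [h2]
  obtain ⟨k, hk⟩ := dvd_expo p
  have h3 : a (x ^ expo p) = x ^ expo p := by
    rw [hk, pow_mul, map_pow, hTfix _ (hpowT x hx)]
  rw [← map_pow, h3, inv_pow, inv_mul_cancel]



/-- In a finite group, between a subgroup `H` of order `p ^ j` and a subgroup `L ≥ H` of order
divisible by `p ^ d` (`j ≤ d`) there is a subgroup of order `p ^ d`. -/
theorem exists_between {T : Type*} [Group T] [Finite T] {p : ℕ} [Fact p.Prime]
    (L H : Subgroup T) (hHL : H ≤ L) (j d : ℕ) (hH : Nat.card H = p ^ j) (hjd : j ≤ d)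
    (hL : p ^ d ∣ Nat.card L) : ∃ F : Subgroup T, H ≤ F ∧ F ≤ L ∧ Nat.card F = p ^ d := by
  have h1 : Nat.card (H.subgroupOf L) = p ^ j := by
    rw [← hH]
    exact Nat.card_congr (Subgroup.subgroupOfEquivOfLe hHL).toEquiv
  obtain ⟨K, hK, hHK⟩ := Sylow.exists_subgroup_card_pow_prime_le p hL (H.subgroupOf L) h1 hjd
  refine ⟨K.map L.subtype, ?_, ?_, ?_⟩
  · intro x hx
    exact ⟨⟨x, hHL hx⟩, hHK (Subgroup.mem_subgroupOf.mpr hx), rfl⟩
  · rintro _ ⟨y, -, rfl⟩
    exact y.2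
  · rw [Subgroup.card_map_of_injective L.subtype_injective, hK]

theorem card_eq_pow_of_isPGroup {T : Type*} [Group T] [Finite T] {p : ℕ} [Fact p.Prime]
    (hT : IsPGroup p T) (L : Subgroup T) : ∃ l : ℕ, Nat.card L = p ^ l :=
  IsPGroup.iff_card.mp (hT.to_subgroup L)

theorem orderOf_eq_pow_of_isPGroup {T : Type*} [Group T] {p : ℕ} [Fact p.Prime]
    (hT : IsPGroup p T) (x : T) : ∃ j : ℕ, orderOf x = p ^ j := by
  obtain ⟨k, hk⟩ := hT x
  exact (Nat.dvd_prime_pow Fact.out).mp (orderOf_dvd_of_pow_eq_one hk) |>.imp fun j hj => hj.2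

/-- In a finite `p`-group, a proper subgroup `N` misses some `x` with `x ^ p ∈ N`. -/
theorem exists_not_mem_pow_mem {T : Type*} [Group T] {p : ℕ} [Fact p.Prime]
    (hT : IsPGroup p T) (N : Subgroup T) (y : T) (hy : y ∉ N) :
    ∃ x : T, x ∉ N ∧ x ^ p ∈ N ∧ x ∈ Subgroup.zpowers y := by
  classical
  have hex : ∃ j : ℕ, y ^ (p ^ j) ∈ N := by
    obtain ⟨k, hk⟩ := hT y
    exact ⟨k, hk ▸ N.one_mem⟩
  set j := Nat.find hex with hj
  have hj1 : y ^ (p ^ j) ∈ N := Nat.find_spec hex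
  have hj0 : j ≠ 0 := by
    intro h0
    rw [h0, pow_zero, pow_one] at hj1
    exact hy hj1
  obtain ⟨i, hi⟩ := Nat.exists_eq_succ_of_ne_zero hj0
  refine ⟨y ^ (p ^ i), ?_, ?_, ?_⟩
  · intro hmem
    have := Nat.find_min' hex hmem
    omega
  · rw [← pow_mul, ← pow_succ]; rw [hi] at hj1; exact hj1
  · exact Subgroup.pow_mem _ (Subgroup.mem_zpowers y) _

end Cfsg.Agent.Lib.Helper11.HAut
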