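import Mathlib
import Cfsg.Agent.Lib.Helper11.HAut

set_option autoImplicit false
open scoped commutatorElement

namespace Cfsg.Agent.Lib.Helper11.HAut

universe u

open Cfsg.Agent.Lib.Helper1.CritExtra (expo dvd_expo)

/-- Hypotheses of the automorphism lemma: `a` has order prime to `p (p - 1)` and leaves invariant
every subgroup of order `p ^ d` (all of which are normal), and the cyclic subgroups of order `4`
when `p ^ d = 2`. -/
structure ACHyp (p : ℕ) (T : Type u) [Group T] (a : MulAut T) (m d : ℕ) : Prop where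
  pow_eq : a ^ m = 1
  cop : m.Coprime p
  cop1 : m.Coprime (p - 1)
  d_pos : 1 ≤ d
  lt_card : p ^ d < Nat.card T
  normal : ∀ F : Subgroup T, Nat.card F = p ^ d → F.Normal
  inv : ∀ F : Subgroup T, Nat.card F = p ^ d → ∀ x ∈ F, a x ∈ F
  four : p ^ d = 2 → ∀ y : T, orderOf y = 4 → a y ∈ Subgroup.zpowers y

variable {p : ℕ} [Fact p.Prime] {T : Type u} [Group T] [Finite T]

theorem ACHyp.orderOf_coprime {a : MulAut T} {m d : ℕ} (h : ACHyp p T a m d) :
    (orderOf a).Coprime p :=
  Nat.Coprime.coprime_dvd_left (orderOf_dvd_of_pow_eq_one h.pow_eq) h.cop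

/-- `a` fixes every element killed by `expo p` lying in an `a`-invariant subgroup `R` of order
`> p ^ d` all of whose smaller invariant subgroups are fixed pointwise. -/
theorem ACHyp.fix_of_expo (hT : IsPGroup p T) {a : MulAut T} {m d : ℕ} (h : ACHyp p T a m d)
    (R : Subgroup T)
    (hRmin : ∀ R' : Subgroup T, (∀ x ∈ R', a x ∈ R') → Nat.card R' < Nat.card R →
      ∀ x ∈ R', a x = x)
    (hlt : p ^ d < Nat.card R) (u : T) (huR : u ∈ R) (hu : u ^ expo p = 1) : a u = u := by
  have hp : p.Prime := Fact.out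
  obtain ⟨j, hj⟩ := orderOf_eq_pow_of_isPGroup hT u
  have hdvd : p ^ j ∣ expo p := hj ▸ orderOf_dvd_of_pow_eq_one hu
  by_cases hjd : j ≤ d
  · obtain ⟨l, hl⟩ := card_eq_pow_of_isPGroup hT R
    have hdl : d ≤ l := by
      rw [hl] at hlt
      exact le_of_lt ((Nat.pow_lt_pow_iff_right hp.one_lt).mp hlt)
    obtain ⟨F, hHF, hFR, hF⟩ := exists_between R (Subgroup.zpowers u)
      (by rw [Subgroup.zpowers_le]; exact huR) j d (by rw [Nat.card_zpowers, hj]) hjd
      (by rw [hl]; exact pow_dvd_pow p hdl)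
    exact hRmin F (h.inv F hF) (by rw [hF]; exact hlt) u (hHF (Subgroup.mem_zpowers u))
  · rw [not_le] at hjd
    -- then p = 2, d = 1, j = 2
    have hp2 : p = 2 := by
      by_contra hne
      have : expo p = p := by unfold expo; rw [if_neg hne]
      rw [this] at hdvd
      have h1 : j ≤ 1 := by
        by_contra hcon
        rw [not_le] at hcon
        have h2 : p ^ 2 ∣ p := (pow_dvd_pow p hcon).trans hdvd
        have h3 := Nat.le_of_dvd hp.pos h2
        nlinarith [hp.two_le]
      have := h.d_pos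
      omega
    have hexp : expo p = 4 := by unfold expo; rw [if_pos hp2]
    rw [hexp, hp2] at hdvd
    have hj2 : j ≤ 2 := by
      by_contra hcon
      rw [not_le] at hcon
      have h2 : 2 ^ 3 ∣ 4 := (pow_dvd_pow 2 hcon).trans hdvd
      omega
    have hd1 : d = 1 := by have := h.d_pos; omega
    have hj2' : j = 2 := by omega
    have hord : orderOf u = 4 := by rw [hj, hp2, hj2']; norm_num
    have h4 := h.four (by rw [hp2, hd1]; norm_num) u hord
    exact fix_of_mem_zpowers' a u j hj h4 m h.pow_eq h.cop h.cop1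

/-- Case A: the Hall–Higman subgroup cannot have order `> p ^ d`. -/
theorem ACHyp.caseA (hT : IsPGroup p T) {a : MulAut T} {m d : ℕ} (h : ACHyp p T a m d)
    (R : Subgroup T) (hRinv : ∀ x ∈ R, a x ∈ R)
    (hRmin : ∀ R' : Subgroup T, (∀ x ∈ R', a x ∈ R') → Nat.card R' < Nat.card R →
      ∀ x ∈ R', a x = x)
    (hRexp : ∀ x ∈ R, (x⁻¹ * a x) ^ expo p = 1)
    (hlt : p ^ d < Nat.card R) : ∀ x ∈ R, a x = x := by
  intro x hx
  have hu := h.fix_of_expo hT R hRmin hlt (x⁻¹ * a x) (R.mul_mem (R.inv_mem hx) (hRinv x hx))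
    (hRexp x hx)
  exact Cfsg.Agent.Lib.Helper20.fix_of_fix_comm hT a h.orderOf_coprime x hu

end Cfsg.Agent.Lib.Helper11.HAut
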