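import Mathlib
import Cfsg.Agent.Lib.Helper11.HAut
import Cfsg.Agent.Lib.Helper11.HAutB

set_option autoImplicit false
open scoped commutatorElement

namespace Cfsg.Agent.Lib.Helper11.HAut

universe u

open Cfsg.Agent.Lib.Helper1.CritExtra (expo dvd_expo)

theorem mem_zpowers_of_sq_eq_one {T : Type*} [Group T] (y z : T) (hy : y ^ 2 = 1)
    (hz : z ∈ Subgroup.zpowers y) : z = 1 ∨ z = y := by
  obtain ⟨k, rfl⟩ := Subgroup.mem_zpowers_iff.mp hz
  rcases Int.emod_two_eq_zero_or_one k with h | h
  · left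
    have : k = 2 * (k / 2) := by omega
    rw [this, zpow_mul, zpow_ofNat, hy, one_zpow]
  · right
    have : k = 2 * (k / 2) + 1 := by omega
    rw [this, zpow_add, zpow_mul, zpow_ofNat, hy, one_zpow, one_mul, zpow_one]

theorem fix_zpowers_of_fix {T : Type*} [Group T] (a : MulAut T) (r z : T) (hr : a r = r)
    (hz : z ∈ Subgroup.zpowers r) : a z = z := by
  obtain ⟨k, rfl⟩ := Subgroup.mem_zpowers_iff.mp hz
  rw [map_zpow, hr]

/-- The special case `p = 2`, `d = 2` of the automorphism lemma (Case B). -/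
theorem ac_two_two {T : Type u} [Group T] [Finite T] (hT : IsPGroup 2 T) {a : MulAut T} {m : ℕ}
    (h : ACHyp 2 T a m 2) (R : Subgroup T) (hRinv : ∀ x ∈ R, a x ∈ R) (x₀ : T) (hx₀R : x₀ ∈ R)
    (hx₀ : a x₀ ≠ x₀)
    (hRmin : ∀ R' : Subgroup T, (∀ x ∈ R', a x ∈ R') → Nat.card R' < Nat.card R →
      ∀ x ∈ R', a x = x)
    (hR4 : Nat.card R = 4) : False := by
  have hcop := h.orderOf_coprime
  -- 1. exponent 2
  have hsq : ∀ r ∈ R, r ^ 2 = 1 := by
    intro r hr
    have hdvd : orderOf r ∣ 4 := by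
      have := orderOf_dvd_natCard (⟨r, hr⟩ : ↥R)
      rwa [hR4, Subgroup.orderOf_mk] at this
    have h4 : orderOf r ≠ 4 := by
      intro h4
      have htop : Subgroup.zpowers r = R := by
        apply Subgroup.eq_of_le_of_card_ge
        · rw [Subgroup.zpowers_le]; exact hr
        · rw [Nat.card_zpowers, h4, hR4]
      have har : a r = r := by
        apply fix_of_mem_zpowers' (p := 2) a r 2 (by rw [h4]; norm_num) _ m h.pow_eq h.cop h.cop1
        rw [htop]; exact hRinv r hr
      exact hx₀ (fix_zpowers_of_fix a r x₀ har (htop ▸ hx₀R))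
    have hle : orderOf r ≤ 4 := Nat.le_of_dvd (by norm_num) hdvd
    have h3 : orderOf r ≠ 3 := by intro h3; rw [h3] at hdvd; omega
    have h0 : orderOf r ≠ 0 := fun h0 => by rw [h0] at hdvd; omega
    have : orderOf r ∣ 2 := by
      interval_cases (orderOf r) <;> simp_all
    exact orderOf_dvd_iff_pow_eq_one.mp this
  have hinv_eq : ∀ r ∈ R, r⁻¹ = r := by
    intro r hr
    have := hsq r hr
    rw [pow_two] at this
    exact inv_eq_of_mul_eq_one_left this
  have hcomm : ∀ r ∈ R, ∀ s ∈ R, r * s = s * r := by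
    intro r hr s hs
    have h1 := hinv_eq (r * s) (R.mul_mem hr hs)
    rw [mul_inv_rev, hinv_eq r hr, hinv_eq s hs] at h1
    exact h1.symm
  -- 3. no nonidentity fixed element
  have claim1 : ∀ r ∈ R, r ≠ 1 → a r ≠ r := by
    intro r hr hr1 har
    set B := Subgroup.zpowers r with hB
    have hBR : B ≤ R := by rw [hB, Subgroup.zpowers_le]; exact hr
    have hord : orderOf r = 2 := by
      apply orderOf_eq_prime (hsq r hr) hr1
    have hBcard : Nat.card B = 2 := by rw [hB, Nat.card_zpowers, hord]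
    have hidx : (B.subgroupOf R).index = 2 := by
      have h1 := Subgroup.card_mul_index (B.subgroupOf R)
      have h2 : Nat.card (B.subgroupOf R) = 2 := by
        rw [← hBcard]
        exact Nat.card_congr (Subgroup.subgroupOfEquivOfLe hBR).toEquiv
      rw [h2, hR4] at h1
      omega
    have hiff : ∀ x : T, x ∈ B ↔ a x ∈ B := by
      intro x
      constructor
      · intro hx
        rw [fix_zpowers_of_fix a r x har hx]; exact hx
      · intro hx
        have h1 := fix_zpowers_of_fix a r (a x) har hx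
        have h2 : a x = x := a.injective h1
        rw [← h2]; exact hx
    have hu : x₀⁻¹ * a x₀ ∈ B := by
      have h1 := Subgroup.mul_mem_iff_of_index_two hidx (a := (⟨x₀, hx₀R⟩ : ↥R)⁻¹)
        (b := ⟨a x₀, hRinv x₀ hx₀R⟩)
      have h2 : ((⟨x₀, hx₀R⟩ : ↥R)⁻¹ ∈ B.subgroupOf R ↔
          (⟨a x₀, hRinv x₀ hx₀R⟩ : ↥R) ∈ B.subgroupOf R) := by
        rw [Subgroup.mem_subgroupOf, Subgroup.mem_subgroupOf]
        simp only [Subgroup.coe_inv]
        rw [inv_mem_iff]
        exact hiff x₀
      have h3 := h1.mpr h2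
      rw [Subgroup.mem_subgroupOf] at h3
      simpa using h3
    have hfix := fix_zpowers_of_fix a r _ har hu
    exact hx₀ (Cfsg.Agent.Lib.Helper20.fix_of_fix_comm hT a hcop x₀ hfix)
  -- 4. R normal
  have hRn : R.Normal := h.normal R (by rw [hR4]; norm_num)
  -- 5. y ∉ R with y² ∈ R
  obtain ⟨y₀, hy₀⟩ : ∃ y₀ : T, y₀ ∉ R := by
    by_contra hcon
    push Not at hcon
    have : R = ⊤ := eq_top_iff.mpr fun x _ => hcon x
    have h1 := h.lt_card
    rw [← Subgroup.card_top (G := T), ← this, hR4] at h1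
    norm_num at h1
  obtain ⟨y, hyR, hy2, -⟩ := exists_not_mem_pow_mem hT R y₀ hy₀
  by_cases hy1 : y ^ 2 = 1
  · -- y an involution: find r₁ ∈ R commuting with y
    have hx₀1 : x₀ ≠ 1 := by
      intro h1; apply hx₀; rw [h1, map_one]
    have hyinv : y⁻¹ = y := by
      rw [pow_two] at hy1; exact inv_eq_of_mul_eq_one_left hy1
    obtain ⟨r₁, hr₁R, hr₁1, hr₁y⟩ : ∃ r₁ ∈ R, r₁ ≠ 1 ∧ y * r₁ = r₁ * y := by
      set s' := y * x₀ * y⁻¹ with hs'
      have hs'R : s' ∈ R := hRn.conj_mem x₀ hx₀R y
      by_cases hss : s' = x₀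
      · refine ⟨x₀, hx₀R, hx₀1, ?_⟩
        rw [hs'] at hss
        calc y * x₀ = y * x₀ * y⁻¹ * y := by group
          _ = x₀ * y := by rw [hss]
      · refine ⟨x₀ * s', R.mul_mem hx₀R hs'R, ?_, ?_⟩
        · intro h1
          apply hss
          have : s' = x₀⁻¹ := (inv_eq_of_mul_eq_one_right h1).symm
          rw [this, hinv_eq x₀ hx₀R]
        · have h1 : y * s' * y⁻¹ = x₀ := by
            rw [hs', hyinv]
            calc y * (y * x₀ * y) * y = (y * y) * x₀ * (y * y) := by group
              _ = x₀ := by rw [← pow_two, hy1, one_mul, mul_one]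
          calc y * (x₀ * s') = (y * x₀ * y⁻¹) * (y * s' * y⁻¹) * y := by group
            _ = s' * x₀ * y := by rw [h1]
            _ = x₀ * s' * y := by rw [hcomm s' hs'R x₀ hx₀R]
    have hy_ne : y ≠ 1 := fun h1 => hyR (h1 ▸ R.one_mem)
    have hordy : orderOf y = 2 := orderOf_eq_prime hy1 hy_ne
    have hordr : orderOf r₁ = 2 := orderOf_eq_prime (hsq r₁ hr₁R) hr₁1
    set F₂ := Subgroup.zpowers y ⊔ Subgroup.zpowers r₁ with hF₂
    have hnorm : Subgroup.zpowers y ≤ Subgroup.normalizer (Subgroup.zpowers r₁ : Set T) := by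
      rw [Subgroup.zpowers_le, Subgroup.mem_normalizer_iff]
      intro z
      have hconj : ∀ w ∈ Subgroup.zpowers r₁, y * w * y⁻¹ = w := by
        intro w hw
        obtain ⟨k, rfl⟩ := Subgroup.mem_zpowers_iff.mp hw
        have hc : Commute y r₁ := hr₁y
        have := (hc.zpow_right k).eq
        rw [this, mul_inv_cancel_right]
      constructor
      · intro hz; rw [hconj z hz]; exact hz
      · intro hz
        have := hconj _ hz
        have h2 : y * z * y⁻¹ = z := by
          have h3 := congrArg (fun w => y⁻¹ * w * y) this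
          beta_reduce at h3
          have h4 : y⁻¹ * (y * (y * z * y⁻¹) * y⁻¹) * y = y * z * y⁻¹ := by group
          have h5 : y⁻¹ * (y * z * y⁻¹) * y = z := by group
          rw [h4, h5] at h3
          exact h3
        rw [← h2]; exact hz
    have hinf : Subgroup.zpowers y ⊓ Subgroup.zpowers r₁ = ⊥ := by
      rw [eq_bot_iff]
      intro z hz
      rw [Subgroup.mem_bot]
      rcases mem_zpowers_of_sq_eq_one y z hy1 hz.1 with h1 | h1
      · exact h1
      · exfalso
        apply hyR
        rw [← h1]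
        have : Subgroup.zpowers r₁ ≤ R := by rw [Subgroup.zpowers_le]; exact hr₁R
        exact this hz.2
    have hF₂card : Nat.card F₂ = 2 ^ 2 := by
      have h1 := Cfsg.Agent.Lib.Helper4.card_sup_mul_card_inf _ _ hnorm
      rw [hinf, Subgroup.card_bot, mul_one, Nat.card_zpowers, Nat.card_zpowers, hordy, hordr] at h1
      rw [hF₂, h1]; norm_num
    have hF₂inv := h.inv F₂ hF₂card
    have hlt : Nat.card (F₂ ⊓ R : Subgroup T) < Nat.card R := by
      by_contra hge
      rw [not_lt] at hge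
      have h1 : F₂ ⊓ R = R := Subgroup.eq_of_le_of_card_ge inf_le_right hge
      have h2 : R ≤ F₂ := by rw [← h1]; exact inf_le_left
      have h3 : R = F₂ := Subgroup.eq_of_le_of_card_ge h2 (by rw [hF₂card, hR4]; norm_num)
      apply hyR
      rw [h3, hF₂]
      exact Subgroup.mem_sup_left (Subgroup.mem_zpowers y)
    have hfix := hRmin (F₂ ⊓ R) (fun x hx => ⟨hF₂inv x hx.1, hRinv x hx.2⟩) hlt r₁
      ⟨Subgroup.mem_sup_right (Subgroup.mem_zpowers r₁), hr₁R⟩
    exact claim1 r₁ hr₁R hr₁1 hfix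
  · -- y of order 4
    have hy4 : y ^ 2 ^ 2 = 1 := by
      have := hsq (y ^ 2) hy2
      rw [← pow_mul] at this
      exact this
    have hord : orderOf y = 2 ^ 2 := by
      have := orderOf_eq_prime_pow (p := 2) (n := 1) (x := y) (by rw [pow_one]; exact hy1)
        (by rw [show (1:ℕ) + 1 = 2 from rfl]; exact hy4)
      exact this
    have hinvZ := h.inv (Subgroup.zpowers y) (by rw [Nat.card_zpowers, hord])
    have hay : a y = y := by
      apply fix_of_mem_zpowers' (p := 2) a y 2 hord _ m h.pow_eq h.cop h.cop1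
      exact hinvZ y (Subgroup.mem_zpowers y)
    apply claim1 (y ^ 2) hy2 hy1
    rw [map_pow, hay]

end Cfsg.Agent.Lib.Helper11.HAut
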