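import Mathlib
import Cfsg.Agent.Lib.Helper11.HAut
import Cfsg.Agent.Lib.Helper11.HAutB
import Cfsg.Agent.Lib.Helper11.HAutC
import Cfsg.Agent.Lib.Helper12.Cores

set_option autoImplicit false
open scoped commutatorElement

namespace Cfsg.Agent.Lib.Helper11.HAut

universe u

variable {p : ℕ} [Fact p.Prime] {T : Type u} [Group T] [Finite T]

theorem congr_pow_mk (a : MulAut T) (N : Subgroup T) [N.Normal]
    (hNa : N.map (a : T →* T) = N) (j : ℕ) (x : T) :
    ((QuotientGroup.congr N N a hNa) ^ j) (x : T ⧸ N) = (((a ^ j) x : T) : T ⧸ N) := by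
  induction j generalizing x with
  | zero => simp
  | succ j ih =>
    rw [pow_succ, MulAut.mul_apply, pow_succ, MulAut.mul_apply]
    have : (QuotientGroup.congr N N a hNa) (x : T ⧸ N) = ((a x : T) : T ⧸ N) := rfl
    rw [this, ih]

/-- The hypotheses pass to the quotient by an invariant normal subgroup of order `p ^ k`, `k < d`
(of exponent `p`; `d ≥ 3` if `p = 2`). -/
theorem ACHyp.quot (hT : IsPGroup p T) {a : MulAut T} {m d : ℕ} (h : ACHyp p T a m d)
    (N : Subgroup T) [N.Normal] (hNa : N.map (a : T →* T) = N) (k : ℕ)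
    (hNk : Nat.card N = p ^ k) (hkd : k < d) (hNexp : ∀ z ∈ N, z ^ p = 1)
    (hd3 : p = 2 → 3 ≤ d) :
    ACHyp p (T ⧸ N) (QuotientGroup.congr N N a hNa) m (d - k) := by
  have hp : p.Prime := Fact.out
  have hpd : p ^ d = p ^ (d - k) * p ^ k := by rw [← pow_add]; congr 1; omega
  have hcomap : ∀ F' : Subgroup (T ⧸ N), ∀ e : ℕ, Nat.card F' = p ^ e →
      Nat.card (F'.comap (QuotientGroup.mk' N)) = p ^ (e + k) := by
    intro F' e hF'
    rw [Cfsg.Agent.Lib.Helper12.card_comap_mk', hNk, hF', ← pow_add, add_comm]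
  have hdk : d - k + k = d := by omega
  refine ⟨?_, h.cop, h.cop1, by omega, ?_, ?_, ?_, ?_⟩
  · ext x
    obtain ⟨x, rfl⟩ := QuotientGroup.mk_surjective x
    rw [congr_pow_mk, h.pow_eq]; rfl
  · have h1 := Subgroup.card_eq_card_quotient_mul_card_subgroup N
    have h2 := h.lt_card
    rw [h1, hNk, hpd] at h2
    exact Nat.lt_of_mul_lt_mul_right h2
  · intro F' hF'
    have h1 := hcomap F' _ hF'
    rw [hdk] at h1
    have h2 := h.normal _ h1
    have h3 := Subgroup.Normal.map h2 (QuotientGroup.mk' N) (QuotientGroup.mk'_surjective N)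
    rwa [Subgroup.map_comap_eq_self_of_surjective (QuotientGroup.mk'_surjective N)] at h3
  · intro F' hF' x hx
    obtain ⟨x, rfl⟩ := QuotientGroup.mk_surjective x
    have h1 := hcomap F' _ hF'
    rw [hdk] at h1
    have h2 := h.inv _ h1 x (Subgroup.mem_comap.mpr hx)
    exact Subgroup.mem_comap.mp h2
  · intro h2 y hy
    obtain ⟨y, rfl⟩ := QuotientGroup.mk_surjective y
    have hp2 : p = 2 := by
      have h3 : p ∣ 2 := by
        rw [← h2]; exact dvd_pow_self p (by omega)
      exact (Nat.prime_dvd_prime_iff_eq hp Nat.prime_two).mp h3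
    have hd3' := hd3 hp2
    subst hp2
    have hdk1 : d - k = 1 := by
      have h3 : 2 ^ (d - k) = 2 ^ 1 := by rw [h2]; norm_num
      exact Nat.pow_right_injective (le_refl 2) h3
    have hy4 : y ^ 4 ∈ N := by
      have : ((y ^ 4 : T) : T ⧸ N) = 1 := by
        rw [QuotientGroup.mk_pow, ← hy]; exact pow_orderOf_eq_one _
      exact (QuotientGroup.eq_one_iff _).mp this
    have hy8 : y ^ 2 ^ 3 = 1 := by
      have := hNexp _ hy4
      rw [← pow_mul] at this
      exact this
    obtain ⟨j, hj⟩ := orderOf_eq_pow_of_isPGroup hT y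
    have hj3 : j ≤ 3 := by
      have h3 : 2 ^ j ∣ 2 ^ 3 := hj ▸ orderOf_dvd_of_pow_eq_one hy8
      exact (Nat.pow_dvd_pow_iff_le_right (le_refl 2)).mp h3
    set X := (Subgroup.zpowers ((y : T) : T ⧸ N)).comap (QuotientGroup.mk' N) with hX
    have hXcard : Nat.card X = 2 ^ (2 + k) := by
      apply hcomap _ 2
      rw [Nat.card_zpowers, hy]; norm_num
    have hyX : Subgroup.zpowers y ≤ X := by
      rw [Subgroup.zpowers_le, hX, Subgroup.mem_comap]
      exact Subgroup.mem_zpowers _
    obtain ⟨B, hyB, hBX, hB⟩ := exists_between X (Subgroup.zpowers y) hyX j d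
      (by rw [Nat.card_zpowers, hj]) (by omega)
      (by rw [hXcard]; exact pow_dvd_pow 2 (by omega))
    have h3 := h.inv B hB y (hyB (Subgroup.mem_zpowers y))
    have h4 := hBX h3
    rw [hX, Subgroup.mem_comap] at h4
    exact h4

end Cfsg.Agent.Lib.Helper11.HAut
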