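import Mathlib
import Cfsg.Agent.Lib.Helper11.HAut
import Cfsg.Agent.Lib.Helper11.HAutB
import Cfsg.Agent.Lib.Helper11.HAutC
import Cfsg.Agent.Lib.Helper11.HAutD

set_option autoImplicit false
open scoped commutatorElement

namespace Cfsg.Agent.Lib.Helper11.HAut

universe u

theorem normal_of_le_center {T : Type*} [Group T] (N : Subgroup T) (h : N ≤ Subgroup.center T) :
    N.Normal := by
  constructor
  intro n hn g
  have := Subgroup.mem_center_iff.mp (h hn) g
  rw [this, mul_inv_cancel_right]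
  exact hn

theorem pow_le_pow_of_card {p : ℕ} (hp : p.Prime) {a b : ℕ} (h : p ^ a ≤ p ^ b) : a ≤ b :=
  (Nat.pow_le_pow_iff_right hp.one_lt).mp h

/-- **Automorphism lemma.** An automorphism `a` of a finite `p`-group `T` of order prime to
`p (p - 1)` which leaves invariant every subgroup of order `p ^ d` (`p ≤ p ^ d < |T|`, all of them
normal in `T`; and the cyclic subgroups of order `4` if `p ^ d = 2`) is trivial. -/
theorem ac {p : ℕ} [Fact p.Prime] : ∀ (n : ℕ) (T : Type u) [Group T] [Finite T], Nat.card T = n →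
    IsPGroup p T → ∀ (a : MulAut T) (m d : ℕ), ACHyp p T a m d → a = 1 := by
  intro n
  induction n using Nat.strong_induction_on with
  | _ n IH =>
  intro T _ _ hn hT a m d h
  have hp : p.Prime := Fact.out
  by_contra hne
  have hcop := h.orderOf_coprime
  obtain ⟨R, hRinv, ⟨x₀, hx₀R, hx₀⟩, hRmin, hRexp⟩ := exists_hh_min hT a hcop hne
  by_cases hA : p ^ d < Nat.card R
  · exact hx₀ (h.caseA hT R hRinv hRmin hRexp hA x₀ hx₀R)
  rw [not_lt] at hA
  have hx₀1 : x₀ ≠ 1 := by
    intro h1; apply hx₀; rw [h1, map_one]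
  obtain ⟨ρ, hρ⟩ := card_eq_pow_of_isPGroup hT R
  have hρd : ρ ≤ d := by rw [hρ] at hA; exact pow_le_pow_of_card hp hA
  have hρ2 : 2 ≤ ρ := by
    by_contra hcon
    rw [not_le] at hcon
    obtain ⟨j, hj⟩ := orderOf_eq_pow_of_isPGroup hT x₀
    have hdvd : p ^ j ∣ p ^ ρ := by
      have := orderOf_dvd_natCard (⟨x₀, hx₀R⟩ : ↥R)
      rwa [hρ, Subgroup.orderOf_mk, hj] at this
    have hjρ : j ≤ ρ := (Nat.pow_dvd_pow_iff_le_right hp.one_lt).mp hdvd
    have hj0 : j ≠ 0 := by
      intro h0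
      rw [h0, pow_zero, orderOf_eq_one_iff] at hj
      exact hx₀1 hj
    have hjρ' : j = ρ := by omega
    have htop : Subgroup.zpowers x₀ = R := by
      apply Subgroup.eq_of_le_of_card_ge
      · rw [Subgroup.zpowers_le]; exact hx₀R
      · rw [Nat.card_zpowers, hj, hρ, hjρ']
    apply hx₀
    apply fix_of_mem_zpowers' a x₀ j hj _ m h.pow_eq h.cop h.cop1
    rw [htop]; exact hRinv x₀ hx₀R
  have hd2 : 2 ≤ d := by omega
  by_cases h22 : p = 2 ∧ d = 2
  · obtain ⟨hp2, hd2'⟩ := h22
    subst hp2 hd2'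
    have hR4 : Nat.card R = 4 := by
      have : ρ = 2 := by omega
      rw [hρ, this]; norm_num
    exact ac_two_two hT h R hRinv x₀ hx₀R hx₀ hRmin hR4
  have hd3 : p = 2 → 3 ≤ d := by
    intro hp2
    by_contra hcon
    exact h22 ⟨hp2, by omega⟩
  -- the minimal invariant central subgroup
  let S : Set (Subgroup T) := {N | N ≤ Subgroup.center T ∧ N ≠ ⊥ ∧ ∀ x ∈ N, a x ∈ N}
  have hSne : S.Nonempty := by
    refine ⟨Subgroup.center T, le_rfl, ?_, ?_⟩
    · have hnt : Nontrivial T := by
        rw [← Finite.one_lt_card_iff_nontrivial]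
        exact lt_of_le_of_lt (Nat.one_le_pow _ _ hp.pos) h.lt_card
      exact (IsPGroup.bot_lt_center hT).ne'
    · intro x hx
      rw [Subgroup.mem_center_iff] at hx ⊢
      intro g
      have := hx (a.symm g)
      have h2 := congrArg a this
      rw [map_mul, map_mul, MulEquiv.apply_symm_apply] at h2
      exact h2
  obtain ⟨N, hNS, hNmin⟩ :=
    WellFounded.has_min (measure fun N : Subgroup T => Nat.card N).wf S hSne
  obtain ⟨hNc, hNne, hNinv⟩ := hNS
  have hNmin' : ∀ N' : Subgroup T, N' ≤ Subgroup.center T → N' ≠ ⊥ → (∀ x ∈ N', a x ∈ N') →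
      Nat.card N ≤ Nat.card N' := by
    intro N' h1 h2 h3
    by_contra hlt
    exact hNmin N' ⟨h1, h2, h3⟩ (not_le.mp hlt)
  have hNn : N.Normal := normal_of_le_center N hNc
  obtain ⟨k, hk⟩ := card_eq_pow_of_isPGroup hT N
  have hk1 : 1 ≤ k := by
    by_contra hcon
    have : k = 0 := by omega
    rw [this, pow_zero, Subgroup.card_eq_one] at hk
    exact hNne hk
  -- N has exponent p
  have hNexp : ∀ z ∈ N, z ^ p = 1 := by
    let Ω : Subgroup T :=
      { carrier := {z | z ∈ N ∧ z ^ p = 1}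
        mul_mem' := by
          rintro z w ⟨hz, hzp⟩ ⟨hw, hwp⟩
          refine ⟨N.mul_mem hz hw, ?_⟩
          have hc : Commute z w := (Subgroup.mem_center_iff.mp (hNc hw) z)
          rw [hc.mul_pow, hzp, hwp, one_mul]
        one_mem' := ⟨N.one_mem, one_pow _⟩
        inv_mem' := by
          rintro z ⟨hz, hzp⟩
          exact ⟨N.inv_mem hz, by rw [inv_pow, hzp, inv_one]⟩ }
    have hΩN : Ω ≤ N := fun z hz => hz.1
    have hΩne : Ω ≠ ⊥ := by
      have hdvd : p ∣ Nat.card N := by rw [hk]; exact dvd_pow_self p (by omega)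
      obtain ⟨z, hz⟩ := exists_prime_orderOf_dvd_card' p hdvd
      intro hb
      have hzΩ : (z : T) ∈ Ω := by
        refine ⟨z.2, ?_⟩
        have : z ^ p = 1 := by rw [← hz]; exact pow_orderOf_eq_one z
        have := congrArg Subtype.val this
        simpa using this
      rw [hb, Subgroup.mem_bot] at hzΩ
      have : z = 1 := Subtype.ext hzΩ
      rw [this, orderOf_one] at hz
      exact hp.one_lt.ne hz
    have hΩinv : ∀ x ∈ Ω, a x ∈ Ω := by
      rintro x ⟨hx, hxp⟩
      exact ⟨hNinv x hx, by rw [← map_pow, hxp, map_one]⟩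
    have h1 := hNmin' Ω (hΩN.trans hNc) hΩne hΩinv
    have h2 : Ω = N := Subgroup.eq_of_le_of_card_ge hΩN h1
    intro z hz
    have : z ∈ Ω := h2 ▸ hz
    exact this.2
  obtain ⟨τ, hτ⟩ : ∃ τ : ℕ, Nat.card T = p ^ τ := IsPGroup.iff_card.mp hT
  have hdτ : d < τ := by
    have := h.lt_card
    rw [hτ] at this
    exact (Nat.pow_lt_pow_iff_right hp.one_lt).mp this
  rcases lt_trichotomy k d with hkd | hkd | hkd
  · -- (c) quotient
    have hNa : N.map (a : T →* T) = N := by
      apply Subgroup.eq_of_le_of_card_ge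
      · rintro _ ⟨x, hx, rfl⟩; exact hNinv x hx
      · rw [Subgroup.card_map_of_injective a.injective]
    have hq := h.quot hT N hNa k hk hkd hNexp hd3
    have hcardq : Nat.card (T ⧸ N) < n := by
      have h1 := Subgroup.card_eq_card_quotient_mul_card_subgroup N
      rw [hn, hk] at h1
      have h2 : 1 < p ^ k := Nat.one_lt_pow (by omega) hp.one_lt
      have h3 : 0 < Nat.card (T ⧸ N) := Nat.card_pos
      rw [h1]
      nlinarith
    have hTq : IsPGroup p (T ⧸ N) := hT.to_quotient N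
    have h1 := IH _ hcardq (T ⧸ N) rfl hTq _ m (d - k) hq
    have hcomm : ∀ x : T, x⁻¹ * a x ∈ N := by
      intro x
      have h2 : (QuotientGroup.congr N N a hNa) (x : T ⧸ N) = (x : T ⧸ N) := by
        rw [h1]; rfl
      have h3 : ((a x : T) : T ⧸ N) = (x : T ⧸ N) := h2
      exact QuotientGroup.eq.mp h3.symm
    have hRN : R ≤ N := by
      by_contra hnot
      have hlt : Nat.card (R ⊓ N : Subgroup T) < Nat.card R := by
        by_contra hge
        rw [not_lt] at hge
        have : R ⊓ N = R := Subgroup.eq_of_le_of_card_ge inf_le_left hge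
        exact hnot (this ▸ inf_le_right)
      have hfix := hRmin (R ⊓ N) (fun x hx => ⟨hRinv x hx.1, hNinv x hx.2⟩) hlt
      apply hx₀
      apply Cfsg.Agent.Lib.Helper20.fix_of_fix_comm hT a hcop x₀
      exact hfix _ ⟨R.mul_mem (R.inv_mem hx₀R) (hRinv _ hx₀R), hcomm x₀⟩
    have hRne : R ≠ ⊥ := by
      intro hb
      rw [hb, Subgroup.mem_bot] at hx₀R
      exact hx₀1 hx₀R
    have hRN' : R = N :=
      Subgroup.eq_of_le_of_card_ge hRN (hNmin' R (hRN.trans hNc) hRne hRinv)
    have hkρ : k = ρ := by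
      have : p ^ k = p ^ ρ := by rw [← hk, ← hρ, hRN']
      exact Nat.pow_right_injective hp.two_le this
    set C : Subgroup T := (a : T →* T).eqLocus (MonoidHom.id T) with hC
    have hCmem : ∀ x : T, x ∈ C ↔ a x = x := fun x => Iff.rfl
    have hCN : C ⊓ N = ⊥ := by
      by_contra hne'
      have h2 := hNmin' (C ⊓ N) (inf_le_right.trans hNc) hne'
        (fun x hx => ⟨(hCmem (a x)).mpr (by rw [(hCmem x).mp hx.1]; exact (hCmem x).mp hx.1), hNinv x hx.2⟩)
      have h3 : C ⊓ N = N := Subgroup.eq_of_le_of_card_ge inf_le_right h2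
      apply hx₀
      have : x₀ ∈ C ⊓ N := by rw [h3, ← hRN']; exact hx₀R
      exact (hCmem x₀).mp this.1
    have hsurj : ∀ u ∈ N, ∃ v ∈ N, v⁻¹ * a v = u := by
      let ψ : ↥N → ↥N := fun v =>
        ⟨(v : T)⁻¹ * a v, N.mul_mem (N.inv_mem v.2) (hNinv v v.2)⟩
      have hinj : Function.Injective ψ := by
        intro v w hvw
        have h2 : (v : T)⁻¹ * a v = (w : T)⁻¹ * a w := congrArg Subtype.val hvw
        have hvc := Subgroup.mem_center_iff.mp (hNc v.2)
        have hwc := Subgroup.mem_center_iff.mp (hNc w.2)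
        have hawc := Subgroup.mem_center_iff.mp (hNc (hNinv w w.2))
        have h3 : a ((v : T) * (w : T)⁻¹) = (v : T) * (w : T)⁻¹ := by
          rw [map_mul, map_inv]
          have h4 : a (v : T) = (v : T) * ((w : T)⁻¹ * a w) := by
            rw [← h2]; group
          rw [h4]
          group
        have h4 : (v : T) * (w : T)⁻¹ ∈ C ⊓ N :=
          ⟨(hCmem _).mpr h3, N.mul_mem v.2 (N.inv_mem w.2)⟩
        rw [hCN, Subgroup.mem_bot] at h4
        exact Subtype.ext (mul_inv_eq_one.mp h4)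
      have hsur := Finite.injective_iff_surjective.mp hinj
      intro u hu
      obtain ⟨v, hv⟩ := hsur ⟨u, hu⟩
      exact ⟨v, v.2, congrArg Subtype.val hv⟩
    have hCNtop : C ⊔ N = ⊤ := by
      rw [eq_top_iff]
      intro x _
      obtain ⟨v, hvN, hv⟩ := hsurj (x⁻¹ * a x)⁻¹ (N.inv_mem (hcomm x))
      have hvc := Subgroup.mem_center_iff.mp (hNc hvN)
      have hxv : x * v ∈ C := by
        rw [hCmem, map_mul]
        have h2 : a v = v * (x⁻¹ * a x)⁻¹ := by rw [← hv]; group
        rw [h2]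
        calc a x * (v * (x⁻¹ * a x)⁻¹) = a x * v * ((a x)⁻¹ * x) := by group
          _ = v * a x * ((a x)⁻¹ * x) := by rw [hvc (a x)]
          _ = v * x := by group
          _ = x * v := (hvc x).symm
      have : x = (x * v) * v⁻¹ := by group
      rw [this]
      exact Subgroup.mul_mem _ (Subgroup.mem_sup_left hxv)
        (Subgroup.mem_sup_right (N.inv_mem hvN))
    obtain ⟨N₁, -, hN₁N, hN₁⟩ := exists_between N ⊥ bot_le 0 (k - 1) (by simp) (by omega)
      (by rw [hk]; exact pow_dvd_pow p (by omega))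
    have hN₁n : N₁.Normal := normal_of_le_center N₁ (hN₁N.trans hNc)
    set A := C ⊔ N₁ with hAdef
    have hAN : A ⊓ N ≤ N₁ := by
      intro z hz
      obtain ⟨c, hc, n₁, hn₁, rfl⟩ := Subgroup.mem_sup_of_normal_right.mp hz.1
      have hcN : c ∈ C ⊓ N := by
        refine ⟨hc, ?_⟩
        have := N.mul_mem hz.2 (N.inv_mem (hN₁N hn₁))
        simpa using this
      rw [hCN, Subgroup.mem_bot] at hcN
      rw [hcN, one_mul]; exact hn₁
    have hAN' : A ⊓ N = N₁ := le_antisymm hAN (le_inf le_sup_right hN₁N)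
    have hAtop : A ⊔ N = ⊤ := by
      rw [eq_top_iff, ← hCNtop]
      exact sup_le_sup_right le_sup_left N
    have hAcard : Nat.card A * p = Nat.card T := by
      have h2 := Cfsg.Agent.Lib.Helper4.card_sup_mul_card_inf A N
        (by rw [Subgroup.normalizer_eq_top]; exact le_top)
      rw [hAtop, hAN', hN₁, hk, Subgroup.card_top] at h2
      have h3 : p ^ k = p ^ (k - 1) * p := by rw [← pow_succ]; congr 1; omega
      rw [h3, ← mul_assoc] at h2
      have h4 : 0 < p ^ (k - 1) := pow_pos hp.pos _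
      have h5 : Nat.card T * p ^ (k - 1) = Nat.card A * p * p ^ (k - 1) := by
        rw [h2]; ring
      exact (Nat.eq_of_mul_eq_mul_right h4 h5).symm
    obtain ⟨α, hα⟩ := card_eq_pow_of_isPGroup hT A
    have hατ : α + 1 = τ := by
      rw [hα, hτ, ← pow_succ] at hAcard
      exact Nat.pow_right_injective hp.two_le hAcard
    obtain ⟨F, hN₁F, hFA, hF⟩ := exists_between A N₁ le_sup_right (k - 1) d hN₁ (by omega)
      (by rw [hα]; exact pow_dvd_pow p (by omega))
    have hFN : F ⊓ N = N₁ :=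
      le_antisymm ((inf_le_inf_right N hFA).trans hAN) (le_inf hN₁F hN₁N)
    have hN₁inv : ∀ x ∈ N₁, a x ∈ N₁ := by
      intro x hx
      rw [← hFN]
      exact ⟨h.inv F hF x (hN₁F hx), hNinv x (hN₁N hx)⟩
    have hN₁ne : N₁ ≠ ⊥ := by
      intro hb
      rw [hb, Subgroup.card_bot] at hN₁
      have : p ^ (k - 1) = p ^ 0 := by rw [← hN₁, pow_zero]
      have := Nat.pow_right_injective hp.two_le this
      omega
    have h2 := hNmin' N₁ (hN₁N.trans hNc) hN₁ne hN₁inv
    rw [hk, hN₁] at h2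
    have := pow_le_pow_of_card hp h2
    omega
  · -- (b) k = d
    obtain ⟨y₀, hy₀⟩ : ∃ y₀ : T, y₀ ∉ N := by
      by_contra hcon
      push Not at hcon
      have : N = ⊤ := eq_top_iff.mpr fun x _ => hcon x
      have h1 := h.lt_card
      rw [← Subgroup.card_top (G := T), ← this, hk, hkd] at h1
      exact lt_irrefl _ h1
    obtain ⟨x, hxN, hxp, -⟩ := exists_not_mem_pow_mem hT N y₀ hy₀
    have hxpp : (x ^ p) ^ p = 1 := hNexp _ hxp
    obtain ⟨j, hj⟩ := orderOf_eq_pow_of_isPGroup hT (x ^ p)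
    have hj1 : j ≤ 1 := by
      have h1 : p ^ j ∣ p ^ 1 := by
        rw [pow_one, ← hj]; exact orderOf_dvd_of_pow_eq_one hxpp
      exact (Nat.pow_dvd_pow_iff_le_right hp.one_lt).mp h1
    obtain ⟨N₀, hxN₀, hN₀N, hN₀⟩ := exists_between N (Subgroup.zpowers (x ^ p))
      (by rw [Subgroup.zpowers_le]; exact hxp) j (d - 1) (by rw [Nat.card_zpowers, hj])
      (by omega) (by rw [hk]; exact pow_dvd_pow p (by omega))
    have hN₀n : N₀.Normal := normal_of_le_center N₀ (hN₀N.trans hNc)
    set A := N₀ ⊔ Subgroup.zpowers x with hAdef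
    have hAN : A ⊓ N ≤ N₀ := by
      intro z hz
      obtain ⟨n₀, hn₀, w, hw, rfl⟩ := Subgroup.mem_sup_of_normal_left.mp hz.1
      obtain ⟨i, rfl⟩ := Subgroup.mem_zpowers_iff.mp hw
      have hxi : x ^ i ∈ N := by
        have := N.mul_mem (N.inv_mem (hN₀N hn₀)) hz.2
        simpa using this
      have hpi : (p : ℤ) ∣ i := by
        have hq : ((x : T) : T ⧸ N) ^ i = 1 := by
          rw [← QuotientGroup.mk_zpow]; exact (QuotientGroup.eq_one_iff _).mpr hxi
        have hordq : orderOf ((x : T) : T ⧸ N) = p := by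
          apply orderOf_eq_prime
          · rw [← QuotientGroup.mk_pow]; exact (QuotientGroup.eq_one_iff _).mpr hxp
          · intro h1; exact hxN ((QuotientGroup.eq_one_iff _).mp h1)
        have := orderOf_dvd_iff_zpow_eq_one.mpr hq
        rwa [hordq] at this
      obtain ⟨q, rfl⟩ := hpi
      have : x ^ ((p : ℤ) * q) = (x ^ p) ^ q := by rw [zpow_mul, zpow_natCast]
      rw [this]
      exact N₀.mul_mem hn₀ (N₀.zpow_mem (hxN₀ (Subgroup.mem_zpowers _)) q)
    have hAlt : Nat.card N₀ < Nat.card A := by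
      by_contra hge
      rw [not_lt] at hge
      have : N₀ = A := Subgroup.eq_of_le_of_card_ge le_sup_left hge
      apply hxN
      apply hN₀N
      rw [this]
      exact Subgroup.mem_sup_right (Subgroup.mem_zpowers x)
    obtain ⟨α, hα⟩ := card_eq_pow_of_isPGroup hT A
    have hdα : d ≤ α := by
      rw [hN₀, hα] at hAlt
      have := (Nat.pow_lt_pow_iff_right hp.one_lt).mp hAlt
      omega
    obtain ⟨F, hN₀F, hFA, hF⟩ := exists_between A N₀ le_sup_left (d - 1) d hN₀ (by omega)
      (by rw [hα]; exact pow_dvd_pow p hdα)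
    have hFN : F ⊓ N = N₀ :=
      le_antisymm ((inf_le_inf_right N hFA).trans hAN) (le_inf hN₀F hN₀N)
    have hN₀inv : ∀ x ∈ N₀, a x ∈ N₀ := by
      intro x hx
      rw [← hFN]
      exact ⟨h.inv F hF x (hN₀F hx), hNinv x (hN₀N hx)⟩
    have hN₀ne : N₀ ≠ ⊥ := by
      intro hb
      rw [hb, Subgroup.card_bot] at hN₀
      have : p ^ (d - 1) = p ^ 0 := by rw [← hN₀, pow_zero]
      have := Nat.pow_right_injective hp.two_le this
      omega
    have h2 := hNmin' N₀ (hN₀N.trans hNc) hN₀ne hN₀inv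
    rw [hk, hN₀] at h2
    have := pow_le_pow_of_card hp h2
    omega
  · -- (a) k > d
    obtain ⟨F, -, hFN, hF⟩ := exists_between N ⊥ bot_le 0 d (by simp) (by omega)
      (by rw [hk]; exact pow_dvd_pow p hkd.le)
    have hFne : F ≠ ⊥ := by
      intro hb
      rw [hb, Subgroup.card_bot] at hF
      have : p ^ d = p ^ 0 := by rw [← hF, pow_zero]
      have := Nat.pow_right_injective hp.two_le this
      omega
    have h2 := hNmin' F (hFN.trans hNc) hFne (h.inv F hF)
    rw [hk, hF] at h2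
    have := pow_le_pow_of_card hp h2
    omega

end Cfsg.Agent.Lib.Helper11.HAut
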