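import Mathlib
import Cfsg.Agent.Lib.Helper11.HAutE
import Cfsg.Agent.Lib.Helper29.Frobenius

set_option autoImplicit false
open scoped commutatorElement

namespace Cfsg.Agent.Lib.Helper11.HSub

open Cfsg.Agent.Lib.Helper11.HAut

variable {G : Type*} [Group G]

/-- `E` is an `ℋ`-subgroup of `G`: `E^g ∩ N_G(E) ≤ E` for all `g`. -/
def IsH (E : Subgroup G) : Prop :=
  ∀ g : G, E.map (MulAut.conj g).toMonoidHom ⊓ Subgroup.normalizer (E : Set G) ≤ E

/-- conjugation by an element of the normalizer, as an automorphism of the subgroup -/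
def conjAut (T : Subgroup G) (c : G) (hc : c ∈ Subgroup.normalizer (T : Set G)) : MulAut ↥T where
  toFun x := ⟨c * x * c⁻¹, (Subgroup.mem_normalizer_iff.mp hc x).mp x.2⟩
  invFun x := ⟨c⁻¹ * x * c, by
    have := (Subgroup.mem_normalizer_iff.mp (inv_mem hc) x).mp x.2
    simpa using this⟩
  left_inv x := by ext; simp [mul_assoc]
  right_inv x := by ext; simp [mul_assoc]
  map_mul' x y := by ext; simp [mul_assoc]

@[simp] theorem conjAut_apply (T : Subgroup G) (c : G) (hc : c ∈ Subgroup.normalizer (T : Set G))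
    (x : ↥T) : ((conjAut T c hc x : ↥T) : G) = c * x * c⁻¹ := rfl

theorem conjAut_pow_apply (T : Subgroup G) (c : G) (hc : c ∈ Subgroup.normalizer (T : Set G))
    (j : ℕ) (x : ↥T) : (((conjAut T c hc) ^ j) x : G) = c ^ j * x * (c ^ j)⁻¹ := by
  induction j generalizing x with
  | zero => simp
  | succ j ih =>
    rw [pow_succ, MulAut.mul_apply, ih, conjAut_apply, pow_succ]
    group

theorem conjAut_pow_orderOf (T : Subgroup G) (c : G) (hc : c ∈ Subgroup.normalizer (T : Set G)) :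
    (conjAut T c hc) ^ orderOf c = 1 := by
  ext x
  rw [conjAut_pow_apply, pow_orderOf_eq_one]
  simp

variable [Finite G] {p : ℕ} [Fact p.Prime]

/-- An `ℋ`-subgroup of a Sylow `p`-subgroup `P` is normal in `P`. -/
theorem IsH.sylow_le_normalizer {E : Subgroup G} (hE : IsH E) (P : Sylow p G)
    (hEP : E ≤ (P : Subgroup G)) : (P : Subgroup G) ≤ Subgroup.normalizer (E : Set G) := by
  by_contra hnot
  set N₁ : Subgroup G := (P : Subgroup G) ⊓ Subgroup.normalizer (E : Set G) with hN₁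
  have hlt : N₁ < (P : Subgroup G) := by
    refine lt_of_le_of_ne inf_le_left ?_
    intro h
    apply hnot
    rw [← h]
    exact inf_le_right
  obtain ⟨s, hsP, hsN, hsn⟩ := Cfsg.Agent.Lib.Helper29.exists_mem_normalizer_not_mem P N₁ hlt
  apply hsn
  refine ⟨hsP, ?_⟩
  have hEN₁ : E ≤ N₁ := le_inf hEP Subgroup.le_normalizer
  have hconj : ∀ e ∈ E, s * e * s⁻¹ ∈ E := by
    intro e he
    apply hE s
    refine ⟨⟨e, he, rfl⟩, ?_⟩
    have : s * e * s⁻¹ ∈ N₁ := (Subgroup.mem_normalizer_iff.mp hsN e).mp (hEN₁ he)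
    exact this.2
  exact Subgroup.mem_normalizer_fintype hconj

/-- For an `ℋ`-subgroup `E ≤ P` and `T ≤ P`, `E ∩ T` is invariant under `N_G(T)`. -/
theorem IsH.conj_mem_inf {E : Subgroup G} (hE : IsH E) (P : Sylow p G)
    (hEP : E ≤ (P : Subgroup G)) (T : Subgroup G) (hTP : T ≤ (P : Subgroup G)) (c : G)
    (hc : c ∈ Subgroup.normalizer (T : Set G)) (x : G) (hxE : x ∈ E) (hxT : x ∈ T) :
    c * x * c⁻¹ ∈ E ⊓ T := by
  have h1 : c * x * c⁻¹ ∈ T := (Subgroup.mem_normalizer_iff.mp hc x).mp hxT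
  refine ⟨?_, h1⟩
  apply hE c
  exact ⟨⟨x, hxE, rfl⟩, hE.sylow_le_normalizer P hEP (hTP h1)⟩

/-- An element of small order of a `p`-subgroup `L` lies in a subgroup of `L` of order `p ^ d`. -/
theorem exists_card_eq_mem {P : Sylow p G} (L : Subgroup G) (hLP : L ≤ (P : Subgroup G))
    (d : ℕ) (hL : p ^ d ≤ Nat.card L) (t : G) (ht : t ∈ L) (ho : orderOf t ≤ p ^ d) :
    ∃ F : Subgroup G, t ∈ F ∧ F ≤ L ∧ Nat.card F = p ^ d := by
  have hp : p.Prime := Fact.out
  have hLp : IsPGroup p L := P.2.to_le hLP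
  obtain ⟨l, hl⟩ := IsPGroup.iff_card.mp hLp
  have hdl : d ≤ l := by
    rw [hl] at hL
    exact (Nat.pow_le_pow_iff_right hp.one_lt).mp hL
  obtain ⟨j, hj⟩ : ∃ j : ℕ, orderOf t = p ^ j := by
    obtain ⟨k, hk⟩ := hLp ⟨t, ht⟩
    have hk' : t ^ p ^ k = 1 := by
      have := congrArg Subtype.val hk
      simpa using this
    exact (Nat.dvd_prime_pow hp).mp (orderOf_dvd_of_pow_eq_one hk') |>.imp fun j hj => hj.2
  have hjd : j ≤ d := by
    rw [hj] at ho
    exact (Nat.pow_le_pow_iff_right hp.one_lt).mp ho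
  obtain ⟨F, hF1, hF2, hF3⟩ := exists_between L (Subgroup.zpowers t)
    (by rw [Subgroup.zpowers_le]; exact ht) j d (by rw [Nat.card_zpowers, hj]) hjd
    (by rw [hl]; exact pow_dvd_pow p hdl)
  exact ⟨F, hF1 (Subgroup.mem_zpowers t), hF2, hF3⟩

end Cfsg.Agent.Lib.Helper11.HSub
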