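import Mathlib
import Cfsg.Agent.Lib.Helper11.HSubA

set_option autoImplicit false
open scoped commutatorElement

namespace Cfsg.Agent.Lib.Helper11.HSub

open Cfsg.Agent.Lib.Helper11.HAut

variable {G : Type*} [Group G] [Finite G] {p : ℕ} [Fact p.Prime]

/-- The hypothesis of S3031 in the non-cyclic case. -/
structure HHyp (p : ℕ) [Fact p.Prime] (P : Sylow p G) (d : ℕ) : Prop where
  hmin : ∀ q : ℕ, q.Prime → q ∣ Nat.card G → p ≤ q
  d_pos : 1 ≤ d
  lt_card : p ^ d < Nat.card (P : Subgroup G)
  isH : ∀ E : Subgroup G, E ≤ (P : Subgroup G) → Nat.card E = p ^ d → IsH E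
  four : p ^ d = 2 → ∀ E : Subgroup G, E ≤ (P : Subgroup G) → Nat.card E = 4 → IsH E

/-- elements of order prime to `p` have order prime to `p - 1` when `p` is the smallest prime
divisor of `|G|`. -/
theorem coprime_pred_of_hmin (hmin : ∀ q : ℕ, q.Prime → q ∣ Nat.card G → p ≤ q) (c : G)
    (_hc : (orderOf c).Coprime p) : (orderOf c).Coprime (p - 1) := by
  have hp : p.Prime := Fact.out
  apply Nat.coprime_of_dvd
  intro q hq hqc hqp
  have h1 : p ≤ q := hmin q hq (hqc.trans (orderOf_dvd_natCard c))
  have h2 : q ≤ p - 1 := Nat.le_of_dvd (by have := hp.two_le; omega) hqp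
  have := hp.two_le
  omega

/-- **Local lemma.** For `T ≤ P` and a `p'`-element `c ∈ N_G(T)`: `[T, c] ≤ Φ(P)`. -/
theorem local_frattini {P : Sylow p G} {d : ℕ} (h : HHyp p P d) (T : Subgroup G)
    (hTP : T ≤ (P : Subgroup G)) (c : G) (hc : c ∈ Subgroup.normalizer (T : Set G))
    (hcp : (orderOf c).Coprime p) (x : G) (hx : x ∈ T) :
    x⁻¹ * (c * x * c⁻¹) ∈ (frattini ↥(P : Subgroup G)).map (P : Subgroup G).subtype := by
  have hp : p.Prime := Fact.out
  have hcp1 := coprime_pred_of_hmin h.hmin c hcp
  set a := conjAut T c hc with ha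
  have ham : a ^ orderOf c = 1 := conjAut_pow_orderOf T c hc
  have hTp : IsPGroup p ↥T := P.2.to_le hTP
  have hcx : c * x * c⁻¹ ∈ T := (Subgroup.mem_normalizer_iff.mp hc x).mp hx
  by_cases hsmall : Nat.card T ≤ p ^ d
  · -- small `T`: use the maximal subgroups of `P`
    have hmemP : x⁻¹ * (c * x * c⁻¹) ∈ (P : Subgroup G) := hTP (T.mul_mem (T.inv_mem hx) hcx)
    suffices key : (⟨_, hmemP⟩ : ↥(P : Subgroup G)) ∈ frattini ↥(P : Subgroup G) from
      ⟨_, key, rfl⟩
    unfold frattini Order.radical
    simp only [Subgroup.mem_iInf]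
    intro M hM
    have hPp : IsPGroup p ↥(P : Subgroup G) := P.2
    have hMn : M.Normal := Cfsg.Agent.Lib.Helper1.IsPGroup.coatom_normal hPp M hM
    have hMidx : M.index = p := Cfsg.Agent.Lib.Helper1.IsPGroup.coatom_index hPp M hM
    set M₁ : Subgroup G := M.map (P : Subgroup G).subtype with hM₁
    have hM₁P : M₁ ≤ (P : Subgroup G) := by
      rintro _ ⟨y, -, rfl⟩; exact y.2
    have hmemM₁ : ∀ (y : G) (hy : y ∈ (P : Subgroup G)), y ∈ M₁ ↔ (⟨y, hy⟩ : ↥(P : Subgroup G)) ∈ M := by
      intro y hy
      constructor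
      · rintro ⟨z, hz, hzy⟩
        have : z = ⟨y, hy⟩ := Subtype.ext hzy
        rwa [← this]
      · intro hy'
        exact ⟨⟨y, hy⟩, hy', rfl⟩
    rw [← hmemM₁]
    -- card of M₁
    have hM₁card : Nat.card M₁ * p = Nat.card (P : Subgroup G) := by
      rw [hM₁, Subgroup.card_map_of_injective (Subgroup.subtype_injective _)]
      have := Subgroup.card_mul_index M
      rw [hMidx] at this
      exact this
    have hM₁ge : p ^ d ≤ Nat.card M₁ := by
      obtain ⟨l, hl⟩ := IsPGroup.iff_card.mp (P.2.to_le hM₁P)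
      obtain ⟨n, hn⟩ := IsPGroup.iff_card.mp hPp
      have h1 := h.lt_card
      rw [hl, hn, ← pow_succ] at hM₁card
      have h2 : l + 1 = n := Nat.pow_right_injective hp.two_le hM₁card
      rw [hn] at h1
      have h3 : d < n := (Nat.pow_lt_pow_iff_right hp.one_lt).mp h1
      rw [hl]
      exact Nat.pow_le_pow_right hp.pos (by omega)
    -- T ∩ M₁ is c-invariant
    have hinvM : ∀ t ∈ T, t ∈ M₁ → c * t * c⁻¹ ∈ M₁ := by
      intro t htT htM
      have ho : orderOf t ≤ p ^ d := by
        have h1 : orderOf t ∣ Nat.card T := by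
          have := orderOf_dvd_natCard (⟨t, htT⟩ : ↥T)
          rwa [Subgroup.orderOf_mk] at this
        exact (Nat.le_of_dvd Nat.card_pos h1).trans hsmall
      obtain ⟨F, htF, hFM, hFcard⟩ := exists_card_eq_mem (P := P) M₁ hM₁P d hM₁ge t htM ho
      have hFH := h.isH F (hFM.trans hM₁P) hFcard
      have := hFH.conj_mem_inf P (hFM.trans hM₁P) T hTP c hc t htF htT
      exact hFM this.1
    by_cases hTM : T ≤ M₁
    · exact M₁.mul_mem (M₁.inv_mem (hTM hx)) (hTM hcx)
    -- the section T / (T ∩ M₁) has order p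
    set B : Subgroup ↥T := M₁.subgroupOf T with hB
    let f : ↥T →* ↥(P : Subgroup G) ⧸ M := (QuotientGroup.mk' M).comp (Subgroup.inclusion hTP)
    have hBker : B = f.ker := by
      ext t
      rw [hB, Subgroup.mem_subgroupOf, MonoidHom.mem_ker, hmemM₁ _ (hTP t.2)]
      exact (QuotientGroup.eq_one_iff _).symm
    have hBn : B.Normal := by rw [hBker]; infer_instance
    have hBidx : B.index = p := by
      have h1 : B.index = Nat.card f.range := by rw [hBker]; exact Subgroup.index_ker f
      have h2 : Nat.card f.range ∣ p := by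
        have := Subgroup.card_subgroup_dvd_card f.range
        rwa [← Subgroup.index_eq_card, hMidx] at this
      rcases (Nat.dvd_prime hp).mp h2 with h3 | h3
      · exfalso
        apply hTM
        rw [h3, Subgroup.index_eq_one] at h1
        intro t ht
        have : (⟨t, ht⟩ : ↥T) ∈ B := by rw [h1]; exact Subgroup.mem_top _
        exact Subgroup.mem_subgroupOf.mp this
      · rw [h1, h3]
    have hBinv : ∀ t ∈ B, a t ∈ B := by
      intro t ht
      rw [hB, Subgroup.mem_subgroupOf] at ht ⊢
      exact hinvM t t.2 ht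
    have := inv_mul_mem_of_index_prime a B hBidx hBinv (orderOf c) ham hcp hcp1 ⟨x, hx⟩
    rw [hB, Subgroup.mem_subgroupOf] at this
    exact this
  · -- large `T`: the automorphism lemma
    rw [not_le] at hsmall
    have hsub : ∀ F : Subgroup ↥T, F.map T.subtype ≤ (P : Subgroup G) := by
      rintro F _ ⟨y, -, rfl⟩; exact hTP y.2
    have hAC : ACHyp p ↥T a (orderOf c) d := by
      refine ⟨ham, hcp, hcp1, h.d_pos, hsmall, ?_, ?_, ?_⟩
      · intro F hF
        have hF₁ : Nat.card (F.map T.subtype) = p ^ d := by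
          rw [Subgroup.card_map_of_injective T.subtype_injective, hF]
        have hH := h.isH _ (hsub F) hF₁
        have hnorm := hH.sylow_le_normalizer P (hsub F)
        constructor
        intro n hn t
        have h1 : (t : G) ∈ Subgroup.normalizer ((F.map T.subtype : Subgroup G) : Set G) :=
          hnorm (hTP t.2)
        have h2 := (Subgroup.mem_normalizer_iff.mp h1 (n : G)).mp ⟨n, hn, rfl⟩
        obtain ⟨z, hz, hzn⟩ := h2
        have : z = t * n * t⁻¹ := Subtype.ext (by simpa using hzn)
        rwa [← this]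
      · intro F hF x' hx'
        have hF₁ : Nat.card (F.map T.subtype) = p ^ d := by
          rw [Subgroup.card_map_of_injective T.subtype_injective, hF]
        have hH := h.isH _ (hsub F) hF₁
        have := hH.conj_mem_inf P (hsub F) T hTP c hc (x' : G) ⟨x', hx', rfl⟩ x'.2
        obtain ⟨z, hz, hzn⟩ := this.1
        have : z = a x' := Subtype.ext (by rw [ha, conjAut_apply]; simpa using hzn)
        rwa [← this]
      · intro h2 y hy
        set E : Subgroup G := (Subgroup.zpowers y).map T.subtype with hE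
        have hE₁ : Nat.card E = 4 := by
          rw [hE, Subgroup.card_map_of_injective T.subtype_injective, Nat.card_zpowers, hy]
        have hH := h.four h2 E (hsub _) hE₁
        have := hH.conj_mem_inf P (hsub _) T hTP c hc (y : G)
          ⟨y, Subgroup.mem_zpowers y, rfl⟩ y.2
        obtain ⟨z, hz, hzn⟩ := this.1
        have : z = a y := Subtype.ext (by rw [ha, conjAut_apply]; simpa using hzn)
        rwa [← this]
    have ha1 : a = 1 := ac (Nat.card ↥T) ↥T rfl hTp a (orderOf c) d hAC
    have h1 : a ⟨x, hx⟩ = ⟨x, hx⟩ := by rw [ha1]; rfl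
    have h2 : c * x * c⁻¹ = x := by
      have := congrArg Subtype.val h1
      rw [ha, conjAut_apply] at this
      exact this
    rw [h2, inv_mul_cancel]
    exact Subgroup.one_mem _

end Cfsg.Agent.Lib.Helper11.HSub
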