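import Mathlib
import Cfsg.Agent.Lib.Helper11.HSubB
import Cfsg.Agent.Lib.Helper29.AlperinSteps
import Cfsg.Agent.Lib.Helper22.Tate
import Cfsg.Agent.Lib.Helper12.Residual
import Cfsg.Agent.S0086
import Cfsg.Agent.S0081

set_option autoImplicit false
open scoped commutatorElement

namespace Cfsg.Agent.Lib.Helper11.HSub

open Cfsg.Agent.Lib.Helper11.HAut

variable {G : Type*} [Group G] [Finite G] {p : ℕ} [Fact p.Prime]

/-- a normal `p`-complement of a normal subgroup of `p`-power index is one of the whole group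
(copied from helper22's `TwoClassCount` to keep the import closure small) -/
theorem hasNormalPComplement_of_normal_index_pow' (M : Subgroup G) [hMn : M.Normal] (m : ℕ)
    (hm : M.index = p ^ m) (hM : Cfsg.HasNormalPComplement p M) :
    Cfsg.HasNormalPComplement p G := by
  have hp : p.Prime := Fact.out
  obtain ⟨P', K, hKn, hcomp⟩ := hM
  have hS86 : ∀ x : M, x ∈ K ↔ (orderOf x).Coprime p :=
    fun x => Cfsg.Agent.S0086.result P' K hcomp x
  have hK'n : (K.map M.subtype).Normal := by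
    constructor
    intro k hk g
    obtain ⟨x, hxK, rfl⟩ := hk
    have hmem : g * (x : G) * g⁻¹ ∈ M := hMn.conj_mem _ x.2 g
    have hxK' : x ∈ K := hxK
    rw [hS86] at hxK'
    have : orderOf (⟨g * (x : G) * g⁻¹, hmem⟩ : M) = orderOf x := by
      rw [← Subgroup.orderOf_coe, ← Subgroup.orderOf_coe]
      exact (MulEquiv.orderOf_eq (MulAut.conj g) (x : G))
    have hgoal : (⟨g * (x : G) * g⁻¹, hmem⟩ : M) ∈ K := by
      rw [hS86, this]; exact hxK'
    exact ⟨⟨g * (x : G) * g⁻¹, hmem⟩, hgoal, rfl⟩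
  have hKcop : (Nat.card K).Coprime p := by
    rw [Nat.coprime_comm, Nat.Prime.coprime_iff_not_dvd hp]
    intro hd
    obtain ⟨x, hx⟩ := exists_prime_orderOf_dvd_card' (G := K) p hd
    have h1 : ((x : M)) ∈ K := x.2
    rw [hS86, Subgroup.orderOf_coe, hx] at h1
    exact hp.ne_one ((Nat.coprime_self p).1 h1)
  have hK'cop : (Nat.card (K.map M.subtype)).Coprime p := by
    rw [Subgroup.card_map_of_injective M.subtype_injective]; exact hKcop
  obtain ⟨a, ha⟩ := IsPGroup.iff_card.1 P'.2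
  have hidx : (K.map M.subtype).index = p ^ (a + m) := by
    rw [Subgroup.index_map_subtype, hm, hcomp.symm.index_eq_card, ha, pow_add]
  exact Cfsg.Agent.Lib.Helper12.hasNormalPComplement_of_normal _ hK'n hK'cop (a + m) hidx

/-- For a tame `T ≤ P` the whole normalizer `N_G(T)` acts trivially on `T` modulo `Φ(P)`. -/
theorem normalizer_frattini {P : Sylow p G} {d : ℕ} (h : HHyp p P d) (T : Subgroup G)
    (hTP : T ≤ (P : Subgroup G))
    (htame : ¬ p ∣ ((P : Subgroup G) ⊓ Subgroup.normalizer (T : Set G)).relIndex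
      (Subgroup.normalizer (T : Set G)))
    (n : G) (hn : n ∈ Subgroup.normalizer (T : Set G)) (x : G) (hx : x ∈ T) :
    x⁻¹ * (n * x * n⁻¹) ∈ (frattini ↥(P : Subgroup G)).map (P : Subgroup G).subtype := by
  set Φ : Subgroup G := (frattini ↥(P : Subgroup G)).map (P : Subgroup G).subtype with hΦ
  set X : Subgroup G := Subgroup.normalizer (T : Set G) with hX
  have hconjT : ∀ m ∈ X, ∀ y ∈ T, m * y * m⁻¹ ∈ T := fun m hm y hy =>
    (Subgroup.mem_normalizer_iff.mp hm y).mp hy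
  let K : Subgroup G :=
    { carrier := {m | m ∈ X ∧ ∀ y ∈ T, y⁻¹ * (m * y * m⁻¹) ∈ Φ}
      mul_mem' := by
        rintro m₁ m₂ ⟨h1, h1'⟩ ⟨h2, h2'⟩
        refine ⟨X.mul_mem h1 h2, fun y hy => ?_⟩
        have h3 := h2' y hy
        have h4 := h1' (m₂ * y * m₂⁻¹) (hconjT m₂ h2 y hy)
        have := Φ.mul_mem h3 h4
        have e : y⁻¹ * (m₂ * y * m₂⁻¹) * ((m₂ * y * m₂⁻¹)⁻¹ * (m₁ * (m₂ * y * m₂⁻¹) * m₁⁻¹)) =
            y⁻¹ * (m₁ * m₂ * y * (m₁ * m₂)⁻¹) := by group
        rwa [e] at this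
      one_mem' := ⟨X.one_mem, fun y _ => by simp⟩
      inv_mem' := by
        rintro m ⟨h1, h1'⟩
        refine ⟨X.inv_mem h1, fun y hy => ?_⟩
        have h2 := hconjT m⁻¹ (X.inv_mem h1) y hy
        have h3 := Φ.inv_mem (h1' _ h2)
        have e : ((m⁻¹ * y * m⁻¹⁻¹)⁻¹ * (m * (m⁻¹ * y * m⁻¹⁻¹) * m⁻¹))⁻¹ =
            y⁻¹ * (m⁻¹ * y * m⁻¹⁻¹) := by group
        rwa [e] at h3 }
  have hKmem : ∀ m : G, m ∈ K ↔ (m ∈ X ∧ ∀ y ∈ T, y⁻¹ * (m * y * m⁻¹) ∈ Φ) := fun m => Iff.rfl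
  -- K contains N_P(T)
  have hK1 : (P : Subgroup G) ⊓ X ≤ K := by
    intro m hm
    refine (hKmem m).mpr ⟨hm.2, fun y hy => ?_⟩
    have hyP : y ∈ (P : Subgroup G) := hTP hy
    have hcomm : ⁅(⟨y⁻¹, inv_mem hyP⟩ : ↥(P : Subgroup G)), ⟨m, hm.1⟩⁆ ∈
        frattini ↥(P : Subgroup G) :=
      Cfsg.Agent.Lib.Helper1.IsPGroup.commutator_le_frattini P.2
        (Subgroup.commutator_mem_commutator (Subgroup.mem_top _) (Subgroup.mem_top _))
    refine ⟨_, hcomm, ?_⟩
    simp [commutatorElement_def, mul_assoc]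
  -- K contains the p'-elements of N_G(T)
  have hK2 : ∀ m ∈ X, (orderOf m).Coprime p → m ∈ K := by
    intro m hm hcop
    exact (hKmem m).mpr ⟨hm, fun y hy => local_frattini h T hTP m hm hcop y hy⟩
  -- hence K = N_G(T)
  have hKX : X ≤ K := by
    have h1 := Cfsg.Agent.Lib.Helper12.sup_pResidual_eq_top (p := p)
      (((P : Subgroup G) ⊓ X).subgroupOf X) htame
    have h2 : ((P : Subgroup G) ⊓ X).subgroupOf X ⊔ Cfsg.pResidual p ↥X ≤ K.subgroupOf X := by
      apply sup_le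
      · intro m hm
        exact Subgroup.mem_subgroupOf.mpr (hK1 (Subgroup.mem_subgroupOf.mp hm))
      · unfold Cfsg.pResidual
        rw [Subgroup.closure_le]
        intro m hm
        have hm' : (orderOf m).Coprime p := hm
        rw [← Subgroup.orderOf_coe] at hm'
        exact Subgroup.mem_subgroupOf.mpr (hK2 m m.2 hm')
    rw [h1] at h2
    intro m hm
    have : (⟨m, hm⟩ : ↥X) ∈ K.subgroupOf X := h2 (Subgroup.mem_top _)
    exact Subgroup.mem_subgroupOf.mp this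
  exact ((hKmem n).mp (hKX hn)).2 x hx

/-- The focal subgroup of `P` lies in `Φ(P)`. -/
theorem focalSubgroup_le_frattini {P : Sylow p G} {d : ℕ} (h : HHyp p P d) :
    (P : Subgroup G).focalSubgroup ≤
      (frattini ↥(P : Subgroup G)).map (P : Subgroup G).subtype := by
  set Φ : Subgroup G := (frattini ↥(P : Subgroup G)).map (P : Subgroup G).subtype with hΦ
  rw [Subgroup.focalSubgroup_def, Subgroup.closure_le]
  rintro g ⟨hgP, x, hxP, u, rfl⟩
  have ha : x⁻¹ ∈ (P : Subgroup G) := inv_mem hxP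
  have hag : (u⁻¹)⁻¹ * x⁻¹ * u⁻¹ ∈ (P : Subgroup G) := by
    have := (P : Subgroup G).mul_mem ha hgP
    have e : x⁻¹ * ⁅x, u⁆ = (u⁻¹)⁻¹ * x⁻¹ * u⁻¹ := by
      rw [commutatorElement_def]; group
    rwa [e] at this
  obtain ⟨n, Q, xs, y, hy0, hyn, hstep⟩ :=
    Cfsg.Agent.Lib.Helper29.alperin_steps P x⁻¹ u⁻¹ ha hag
  have hind : ∀ i : ℕ, i ≤ n → (y 0)⁻¹ * y i ∈ Φ := by
    intro i
    induction i with
    | zero => intro _; simp
    | succ i ih =>
      intro hi
      have hi' : i < n := hi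
      obtain ⟨htame, -, hxs, -, hyi, hynext⟩ := hstep ⟨i, hi'⟩
      have h1 := normalizer_frattini h _ inf_le_left htame (xs ⟨i, hi'⟩)⁻¹
        (inv_mem hxs) (y i) hyi
      rw [inv_inv] at h1
      have h2 := Φ.mul_mem (ih hi'.le) h1
      have e : (y 0)⁻¹ * y i * ((y i)⁻¹ * ((xs ⟨i, hi'⟩)⁻¹ * y i * xs ⟨i, hi'⟩)) =
          (y 0)⁻¹ * y (i + 1) := by
        have : y ((⟨i, hi'⟩ : Fin n) + 1) = y (i + 1) := rfl
        rw [← this, hynext]; group
      rwa [e] at h2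
  have := hind n le_rfl
  rw [hy0, hyn] at this
  have e : (x⁻¹)⁻¹ * ((u⁻¹)⁻¹ * x⁻¹ * u⁻¹) = ⁅x, u⁆ := by
    rw [commutatorElement_def]; group
  rwa [e] at this

/-- **S3031, non-cyclic case.** -/
theorem hasNormalPComplement_of_hHyp {P : Sylow p G} {d : ℕ} (h : HHyp p P d) :
    Cfsg.HasNormalPComplement p G := by
  have hNn : (Cfsg.pResidual p G).Normal := Cfsg.Agent.Lib.Helper12.pResidual_normal' p G
  have h1 : Cfsg.pResidual p G ⊓ (P : Subgroup G) ≤
      (frattini ↥(P : Subgroup G)).map (P : Subgroup G).subtype := by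
    intro z hz
    apply focalSubgroup_le_frattini h
    rw [← Subgroup.commutator_inf_eq_focalSubgroup P]
    refine ⟨?_, hz.2⟩
    exact Cfsg.Agent.Lib.Helper22.sylow_inf_pResidual_le_commutator P ⟨hz.2, hz.1⟩
  have h2 := Cfsg.Agent.S0081.result P (Cfsg.pResidual p G) h1
  obtain ⟨m, hm⟩ := Cfsg.Agent.Lib.Helper12.pResidual_index_eq_pow p G
  exact hasNormalPComplement_of_normal_index_pow' (Cfsg.pResidual p G) m hm h2

end Cfsg.Agent.Lib.Helper11.HSub
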