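import Mathlib
import Cfsg.Prelude.Def_SolvableStructure
import Cfsg.Agent.Lib.Helper4.Supersolvable
import Cfsg.Agent.Lib.Helper5.PFix

set_option autoImplicit false
open Cfsg
open scoped Pointwise

namespace Cfsg.Agent.Lib.Helper11.HomologyCore

universe u v

theorem exists_step {H : Type u} [Group H] (hH : IsSupersolvable H) (S : Subgroup H) (hS : S ≠ ⊤) :
    ∃ (K : Subgroup H) (g : H), K.Normal ∧ K ≤ S ∧ g ∉ S ∧ (K ⊔ Subgroup.zpowers g).Normal := by
  rw [Cfsg.Agent.Lib.Helper4.isSupersolvable_iff_ssReach] at hH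
  have key : ∀ L : Subgroup H, Cfsg.Agent.Lib.Helper4.SSReach L →
      (L ≤ S ∨ ∃ (K : Subgroup H) (g : H), K.Normal ∧ K ≤ S ∧ g ∉ S ∧
        (K ⊔ Subgroup.zpowers g).Normal) := by
    intro L hL
    induction hL with
    | bot => exact Or.inl bot_le
    | step K g hK hn ih =>
      rcases ih with h | h
      · by_cases hg : g ∈ S
        · left; exact sup_le h (by rwa [Subgroup.zpowers_le])
        · right; exact ⟨K, g, hK.normal, h, hg, hn⟩
      · exact Or.inr h
  rcases key ⊤ hH with h | h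
  · exact absurd (top_le_iff.mp h) hS
  · exact h

theorem exists_prime_pow_part {H : Type u} [Group H] [Finite H] (S : Subgroup H) :
    ∀ (n : ℕ) (g : H), orderOf g = n → g ∉ S →
      ∃ (e p a : ℕ), p.Prime ∧ orderOf (g ^ e) = p ^ a ∧ g ^ e ∉ S := by
  intro n
  induction n using Nat.strong_induction_on with
  | _ n ih =>
  intro g hn hg
  have hpos : 0 < n := hn ▸ orderOf_pos g
  by_cases h1 : n = 1
  · exfalso
    rw [h1, orderOf_eq_one_iff] at hn
    rw [hn] at hg
    exact hg S.one_mem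
  obtain ⟨p, hp, hpn⟩ := Nat.exists_prime_and_dvd h1
  obtain ⟨k, m, hm, hnm⟩ := Nat.exists_eq_pow_mul_and_not_dvd hpos.ne' p hp.ne_one
  by_cases hm1 : m = 1
  · exact ⟨1, p, k, hp, by rw [pow_one, hn, hnm, hm1, mul_one], by rwa [pow_one]⟩
  · have hcop : Nat.Coprime (p ^ k) m :=
      Nat.Coprime.pow_left k ((Nat.Prime.coprime_iff_not_dvd hp).mpr hm)
    have hk : k ≠ 0 := by
      rintro rfl
      rw [pow_zero, one_mul] at hnm
      exact hm (hnm ▸ hpn)
    have hm0 : m ≠ 0 := by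
      rintro rfl
      rw [mul_zero] at hnm
      omega
    obtain ⟨u, hu1, hu2⟩ := Nat.chineseRemainder hcop 1 0
    obtain ⟨w, hw1, hw2⟩ := Nat.chineseRemainder hcop 0 1
    have hsum : g ^ u * g ^ w = g := by
      rw [← pow_add]
      have h3 : u + w ≡ 1 [MOD n] := by
        rw [hnm]
        apply (Nat.modEq_and_modEq_iff_modEq_mul hcop).mp
        exact ⟨by simpa using hu1.add hw1, by simpa using hu2.add hw2⟩
      rw [← hn] at h3
      calc g ^ (u + w) = g ^ 1 := pow_eq_pow_iff_modEq.mpr h3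
        _ = g := pow_one g
    have hor : g ^ u ∉ S ∨ g ^ w ∉ S := by
      by_contra hcon
      push Not at hcon
      exact hg (hsum ▸ S.mul_mem hcon.1 hcon.2)
    have hpk2 : 2 ≤ p ^ k := by
      calc 2 ≤ p := hp.two_le
        _ = p ^ 1 := (pow_one p).symm
        _ ≤ p ^ k := Nat.pow_le_pow_right hp.pos (by omega)
    have hm2 : 2 ≤ m := by omega
    rcases hor with h | h
    · have hord : orderOf (g ^ u) ∣ p ^ k := by
        apply orderOf_dvd_of_pow_eq_one
        rw [← pow_mul]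
        have h4 : n ∣ u * p ^ k := by
          rw [hnm, mul_comm u]
          exact Nat.mul_dvd_mul_left _ ((Nat.modEq_zero_iff_dvd).mp hu2)
        rw [← hn] at h4
        exact orderOf_dvd_iff_pow_eq_one.mp h4
      have hlt : orderOf (g ^ u) < n := by
        have h5 : orderOf (g ^ u) ≤ p ^ k := Nat.le_of_dvd (by positivity) hord
        have h6 : p ^ k < n := by
          rw [hnm]
          calc p ^ k = p ^ k * 1 := (mul_one _).symm
            _ < p ^ k * m := by
              apply Nat.mul_lt_mul_of_pos_left <;> omega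
        omega
      obtain ⟨e, q, a, hq, he, hne⟩ := ih _ hlt (g ^ u) rfl h
      exact ⟨u * e, q, a, hq, by rwa [pow_mul], by rwa [pow_mul]⟩
    · have hord : orderOf (g ^ w) ∣ m := by
        apply orderOf_dvd_of_pow_eq_one
        rw [← pow_mul]
        have h4 : n ∣ w * m := by
          rw [hnm]
          exact Nat.mul_dvd_mul ((Nat.modEq_zero_iff_dvd).mp hw1) (dvd_refl m)
        rw [← hn] at h4
        exact orderOf_dvd_iff_pow_eq_one.mp h4
      have hlt : orderOf (g ^ w) < n := by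
        have h5 : orderOf (g ^ w) ≤ m := Nat.le_of_dvd (by omega) hord
        have h6 : m < n := by
          rw [hnm]
          calc m = 1 * m := (one_mul _).symm
            _ < p ^ k * m := by
              apply Nat.mul_lt_mul_of_pos_right <;> omega
        omega
      obtain ⟨e, q, a, hq, he, hne⟩ := ih _ hlt (g ^ w) rfl h
      exact ⟨w * e, q, a, hq, by rwa [pow_mul], by rwa [pow_mul]⟩

section core

variable {V : Type v} [AddCommGroup V] {r : ℕ} [hr : Fact r.Prime] [Module (ZMod r) V]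

theorem exists_scalar_of_forall (T : V →ₗ[ZMod r] V)
    (h : ∀ v : V, ∃ a : ZMod r, T (T v - v) = a • (T v - v)) :
    ∃ l : ZMod r, ∀ v : V, T (T v - v) = l • (T v - v) := by
  by_cases h0 : ∀ v, T v - v = 0
  · exact ⟨0, fun v => by rw [h0 v]; simp⟩
  push Not at h0
  obtain ⟨v0, hv0⟩ := h0
  obtain ⟨l, hl⟩ := h v0
  refine ⟨l, fun v => ?_⟩
  obtain ⟨a, ha⟩ := h v
  obtain ⟨b, hb⟩ := h (v + v0)
  have hsum : T (v + v0) - (v + v0) = (T v - v) + (T v0 - v0) := by rw [map_add]; abel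
  rw [hsum, map_add, ha, hl, smul_add] at hb
  have h1 : (a - b) • (T v - v) = (b - l) • (T v0 - v0) := by
    rw [sub_smul, sub_smul]
    rw [sub_eq_sub_iff_add_eq_add, hb]
    abel
  by_cases hbl : b = l
  · rw [hbl, sub_self, zero_smul] at h1
    rcases smul_eq_zero.mp h1 with h2 | h2
    · rw [ha, sub_eq_zero.mp h2]
    · rw [h2]; simp
  · have hbl' : b - l ≠ 0 := sub_ne_zero.mpr hbl
    have hw0' : T v0 - v0 = ((b - l)⁻¹ * (a - b)) • (T v - v) := by
      rw [mul_smul, h1, smul_smul, inv_mul_cancel₀ hbl', one_smul]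
    have ht0 : (b - l)⁻¹ * (a - b) ≠ 0 := by
      intro h
      rw [h, zero_smul] at hw0'
      exact hv0 hw0'
    have hw' : T v - v = ((b - l)⁻¹ * (a - b))⁻¹ • (T v0 - v0) := by
      rw [hw0', smul_smul, inv_mul_cancel₀ ht0, one_smul]
    rw [hw', map_smul, hl, smul_comm]


variable {H : Type u} [Group H] (ρ : Representation (ZMod r) H V)

theorem pow_apply_of_eigen (g : H) (v : V) (a : ZMod r) (hv : ρ g v = a • v) (n : ℕ) :
    ρ (g ^ n) v = a ^ n • v := by
  induction n with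
  | zero => simp
  | succ n ih =>
    rw [pow_succ, map_mul, Module.End.mul_apply, hv, map_smul, ih, smul_smul, pow_succ, mul_comm]

theorem zmod_pow_prime_pow (x : ZMod r) (a : ℕ) : x ^ (r ^ a) = x := by
  induction a with
  | zero => simp
  | succ a ih => rw [pow_succ, pow_mul, ih, ZMod.pow_card]

/-- `m` swaps the two eigenspaces of `y` (eigenvalues `1` and `l`). -/
def Sw (y : H) (l : ZMod r) (m : H) : Prop :=
  (∀ v, ρ y v = v → ρ y (ρ m v) = l • ρ m v) ∧ (∀ v, ρ y v = l • v → ρ y (ρ m v) = ρ m v)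

/-- `m` preserves the two eigenspaces of `y` (eigenvalues `1` and `l`). -/
def Pr (y : H) (l : ZMod r) (m : H) : Prop :=
  (∀ v, ρ y v = v → ρ y (ρ m v) = ρ m v) ∧ (∀ v, ρ y v = l • v → ρ y (ρ m v) = l • ρ m v)

theorem Pr_self (y : H) (l : ZMod r) : Pr ρ y l y :=
  ⟨fun v hv => by rw [hv, hv], fun v hv => by rw [hv, map_smul, hv]⟩

theorem Pr_one (y : H) (l : ZMod r) : Pr ρ y l 1 :=
  ⟨fun v hv => by rw [map_one, Module.End.one_apply, hv],
    fun v hv => by rw [map_one, Module.End.one_apply, hv]⟩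

theorem Sw.mul_Sw {y : H} {l : ZMod r} {a b : H} (ha : Sw ρ y l a) (hb : Sw ρ y l b) :
    Pr ρ y l (a * b) := by
  refine ⟨fun v hv => ?_, fun v hv => ?_⟩
  · rw [map_mul, Module.End.mul_apply]
    exact ha.2 _ (hb.1 v hv)
  · rw [map_mul, Module.End.mul_apply]
    exact ha.1 _ (hb.2 v hv)

theorem Pr.mul {y : H} {l : ZMod r} {a b : H} (ha : Pr ρ y l a) (hb : Pr ρ y l b) :
    Pr ρ y l (a * b) := by
  refine ⟨fun v hv => ?_, fun v hv => ?_⟩
  · rw [map_mul, Module.End.mul_apply]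
    exact ha.1 _ (hb.1 v hv)
  · rw [map_mul, Module.End.mul_apply]
    exact ha.2 _ (hb.2 v hv)

theorem Pr.pow {y : H} {l : ZMod r} {a : H} (ha : Pr ρ y l a) (n : ℕ) : Pr ρ y l (a ^ n) := by
  induction n with
  | zero => rw [pow_zero]; exact Pr_one ρ y l
  | succ n ih => rw [pow_succ]; exact ih.mul ρ ha

theorem Pr.mul_Sw {y : H} {l : ZMod r} {a b : H} (ha : Pr ρ y l a) (hb : Sw ρ y l b) :
    Sw ρ y l (a * b) := by
  refine ⟨fun v hv => ?_, fun v hv => ?_⟩
  · rw [map_mul, Module.End.mul_apply]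
    exact ha.2 _ (hb.1 v hv)
  · rw [map_mul, Module.End.mul_apply]
    exact ha.1 _ (hb.2 v hv)

theorem Sw.mul_Pr {y : H} {l : ZMod r} {a b : H} (ha : Sw ρ y l a) (hb : Pr ρ y l b) :
    Sw ρ y l (a * b) := by
  refine ⟨fun v hv => ?_, fun v hv => ?_⟩
  · rw [map_mul, Module.End.mul_apply]
    exact ha.1 _ (hb.1 v hv)
  · rw [map_mul, Module.End.mul_apply]
    exact ha.2 _ (hb.2 v hv)

theorem Sw.pow_odd {y : H} {l : ZMod r} {m : H} (hm : Sw ρ y l m) (i : ℕ) :
    Sw ρ y l (m ^ (2 * i + 1)) := by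
  rw [pow_succ, pow_mul, pow_two]
  exact ((hm.mul_Sw ρ hm).pow ρ i).mul_Sw ρ hm


theorem core [Finite H] [Finite V] [Nontrivial V] (hH : IsSupersolvable H)
    (hfaith : ∀ h : H, ρ h = 1 → h = 1)
    (hirr : ∀ W : Submodule (ZMod r) V, (∀ h : H, ∀ w ∈ W, ρ h w ∈ W) → W = ⊥ ∨ W = ⊤)
    (hF1 : ∀ p : ℕ, p.Prime → p ≠ r → ∀ x : H, (∃ a : ℕ, orderOf x = p ^ a) →
      ∀ v : V, ∃ a : ZMod r, ρ x (ρ x v - v) = a • (ρ x v - v)) :
    ∃ c : V, c ≠ 0 ∧ ∀ h : H, ∃ a : ZMod r, ρ h c = a • c := by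
  classical
  have hrp : r.Prime := hr.out
  have hinj : ∀ a b : H, (∀ v, ρ a v = ρ b v) → a = b := by
    intro a b hab
    have h1 : ρ (a * b⁻¹) = 1 := by
      ext v
      rw [map_mul, Module.End.mul_apply, hab, ← Module.End.mul_apply, ← map_mul, mul_inv_cancel,
        map_one]
    exact mul_inv_eq_one.mp (hfaith _ h1)
  have hF2 : ∀ p : ℕ, p.Prime → p ≠ r → ∀ x : H, (∃ a : ℕ, orderOf x = p ^ a) →
      ∃ l : ZMod r, ∀ v : V, ρ x (ρ x v - v) = l • (ρ x v - v) :=
    fun p hp hpr x hx => exists_scalar_of_forall (ρ x) (hF1 p hp hpr x hx)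
  have hinv : ∀ (h : H) (v : V), ρ h⁻¹ (ρ h v) = v := by
    intro h v
    rw [← Module.End.mul_apply, ← map_mul, inv_mul_cancel, map_one, Module.End.one_apply]
  have hinv' : ∀ (h : H) (v : V), ρ h (ρ h⁻¹ v) = v := by
    intro h v
    rw [← Module.End.mul_apply, ← map_mul, mul_inv_cancel, map_one, Module.End.one_apply]
  have hinj' : ∀ (h : H) (v : V), ρ h v = 0 → v = 0 := by
    intro h v hv
    rw [← hinv h v, hv, map_zero]
  obtain ⟨v₀, hv₀⟩ := exists_ne (0 : V)
  let S : Subgroup H :=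
    { carrier := {h | ∃ a : ZMod r, ∀ v, ρ h v = a • v}
      one_mem' := ⟨1, fun v => by rw [map_one, Module.End.one_apply, one_smul]⟩
      mul_mem' := by
        rintro x y ⟨a, ha⟩ ⟨b, hb⟩
        exact ⟨a * b, fun v => by
          rw [map_mul, Module.End.mul_apply, hb, map_smul, ha, smul_smul, mul_comm]⟩
      inv_mem' := by
        rintro x ⟨a, ha⟩
        have ha0 : a ≠ 0 := by
          rintro rfl
          apply hv₀
          apply hinj' x
          rw [ha, zero_smul]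
        refine ⟨a⁻¹, fun v => ?_⟩
        have h1 : a • ρ x⁻¹ v = v := by rw [← ha, hinv']
        calc ρ x⁻¹ v = a⁻¹ • (a • ρ x⁻¹ v) := by rw [smul_smul, inv_mul_cancel₀ ha0, one_smul]
          _ = a⁻¹ • v := by rw [h1] }
  have hSmem : ∀ h : H, h ∈ S ↔ ∃ a : ZMod r, ∀ v, ρ h v = a • v := fun h => Iff.rfl
  by_cases hS : S = ⊤
  · refine ⟨v₀, hv₀, fun h => ?_⟩
    have : h ∈ S := hS ▸ Subgroup.mem_top h
    obtain ⟨a, ha⟩ := (hSmem h).mp this
    exact ⟨a, ha v₀⟩
  exfalso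
  have hcent : ∀ s ∈ S, ∀ h : H, h * s = s * h := by
    intro s hs h
    obtain ⟨a, ha⟩ := (hSmem s).mp hs
    apply hinj
    intro v
    rw [map_mul, map_mul, Module.End.mul_apply, Module.End.mul_apply, ha, ha, map_smul]
  obtain ⟨K, g, hKn, hKS, hgS, hBn⟩ := exists_step hH S hS
  obtain ⟨e, p, a, hp, hye, hyS⟩ := exists_prime_pow_part S _ g rfl hgS
  set y := g ^ e with hy
  have hconj : ∀ h : H, ∃ k ∈ K, ∃ j : ℕ, h * y * h⁻¹ = k * y ^ j := by
    intro h
    have h1 : h * g * h⁻¹ ∈ K ⊔ Subgroup.zpowers g :=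
      hBn.conj_mem g (Subgroup.mem_sup_right (Subgroup.mem_zpowers g)) h
    have h2 : h * g * h⁻¹ ∈ ((K : Set H) * (Subgroup.zpowers g : Set H)) := by
      rw [← Subgroup.normal_mul]; exact h1
    obtain ⟨k, hk, z, hz, hkz⟩ := Set.mem_mul.mp h2
    have hz' : z ∈ Submonoid.powers g := mem_powers_iff_mem_zpowers.mpr hz
    obtain ⟨j, rfl⟩ := (Submonoid.mem_powers_iff _ _).mp hz'
    refine ⟨k ^ e, K.pow_mem hk e, j, ?_⟩
    have hc : Commute k (g ^ j) := (hcent k (hKS hk) (g ^ j)).symm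
    show h * g ^ e * h⁻¹ = k ^ e * (g ^ e) ^ j
    rw [← conj_pow, ← hkz, hc.mul_pow, ← pow_mul, ← pow_mul, mul_comm j e]
  clear_value y
  have hKscal : ∀ k ∈ K, ∃ κ : ZMod r, ∀ v, ρ k v = κ • v := fun k hk => (hSmem k).mp (hKS hk)
  have hynS : ¬ ∃ a : ZMod r, ∀ v, ρ y v = a • v := fun h => hyS ((hSmem y).mpr h)
  let V1 : Submodule (ZMod r) V := LinearMap.ker (ρ y - 1)
  have hV1 : ∀ v, v ∈ V1 ↔ ρ y v = v := by
    intro v
    rw [LinearMap.mem_ker, LinearMap.sub_apply, Module.End.one_apply, sub_eq_zero]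
  have hyord : y ^ (p ^ a) = 1 := by rw [← hye, pow_orderOf_eq_one]
  -- `p ≠ r`
  have hpr : p ≠ r := by
    intro hpr
    let ρ' : Representation (ZMod r) ↥(Subgroup.zpowers y) V := ρ.comp (Subgroup.zpowers y).subtype
    have hpg : IsPGroup r ↥(Subgroup.zpowers y) :=
      IsPGroup.of_card (n := a) (by rw [Nat.card_zpowers, hye, hpr])
    obtain ⟨v, -, hv0, hvfix⟩ := Cfsg.Agent.Lib.Helper5.PFix.exists_ne_zero_fixed_mem r hpg ρ' ⊤
      (fun _ _ _ => Submodule.mem_top) top_ne_bot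
    have hvy : ρ y v = v := hvfix ⟨y, Subgroup.mem_zpowers y⟩
    have hinvW : ∀ h : H, ∀ w ∈ V1, ρ h w ∈ V1 := by
      intro h w hw
      rw [hV1] at hw ⊢
      by_cases hw0 : w = 0
      · rw [hw0, map_zero, map_zero]
      obtain ⟨k, hk, j, hkj⟩ := hconj h⁻¹
      obtain ⟨κ, hκ⟩ := hKscal k hk
      have h1 : ρ (k * y ^ j) w = κ • w := by
        rw [map_mul, Module.End.mul_apply, pow_apply_of_eigen ρ y w 1 (by rw [hw, one_smul]) j,
          one_pow, one_smul, hκ]
      have h2 : (k * y ^ j) ^ (r ^ a) = 1 := by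
        rw [← hkj, conj_pow, ← hpr, hyord]; group
      have h3 : κ ^ (r ^ a) • w = w := by
        rw [← pow_apply_of_eigen ρ (k * y ^ j) w κ h1, h2, map_one, Module.End.one_apply]
      have h4 : κ = 1 := by
        rw [zmod_pow_prime_pow] at h3
        have : (κ - 1) • w = 0 := by rw [sub_smul, h3, one_smul, sub_self]
        rcases smul_eq_zero.mp this with h | h
        · exact sub_eq_zero.mp h
        · exact absurd h hw0
      have h5 : y * h = h * (k * y ^ j) := by rw [← hkj]; group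
      rw [← Module.End.mul_apply, ← map_mul, h5, map_mul, Module.End.mul_apply, h1, h4, one_smul]
    rcases hirr V1 hinvW with h | h
    · have : v ∈ V1 := (hV1 v).mpr hvy
      rw [h, Submodule.mem_bot] at this
      exact hv0 this
    · apply hynS
      refine ⟨1, fun v => ?_⟩
      rw [one_smul]
      exact (hV1 v).mp (h ▸ Submodule.mem_top)
  obtain ⟨l, hl⟩ := hF2 p hp hpr y ⟨a, hye⟩
  have hpa : ((p ^ a : ℕ) : ZMod r) ≠ 0 := by
    rw [Ne, ZMod.natCast_eq_zero_iff]
    intro h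
    exact hpr ((Nat.prime_dvd_prime_iff_eq hrp hp).mp (hrp.dvd_of_dvd_pow h)).symm
  have hl1 : l ≠ 1 := by
    rintro rfl
    apply hynS
    refine ⟨1, fun v => ?_⟩
    rw [one_smul]
    have hw : ρ y (ρ y v - v) = ρ y v - v := by rw [hl, one_smul]
    have h1 : ∀ n : ℕ, ρ (y ^ n) v = v + (n : ZMod r) • (ρ y v - v) := by
      intro n
      induction n with
      | zero => simp
      | succ n ih =>
        rw [pow_succ', map_mul, Module.End.mul_apply, ih, map_add, map_smul, hw]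
        push_cast
        module
    have h2 := h1 (p ^ a)
    rw [hyord, map_one, Module.End.one_apply] at h2
    have h3 : ((p ^ a : ℕ) : ZMod r) • (ρ y v - v) = 0 := by
      have h4 : v + ((p ^ a : ℕ) : ZMod r) • (ρ y v - v) = v + 0 := by rw [← h2, add_zero]
      exact add_left_cancel h4
    rcases smul_eq_zero.mp h3 with h | h
    · exact absurd h hpa
    · exact sub_eq_zero.mp h
  have hl1' : l - 1 ≠ 0 := sub_ne_zero.mpr hl1
  have hdec : ∀ v : V, ∃ v1 v2 : V, v = v1 + v2 ∧ ρ y v1 = v1 ∧ ρ y v2 = l • v2 := by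
    intro v
    refine ⟨v - (l - 1)⁻¹ • (ρ y v - v), (l - 1)⁻¹ • (ρ y v - v), by abel, ?_, ?_⟩
    · rw [map_sub, map_smul, hl]
      have h1 : (l - 1)⁻¹ • l • (ρ y v - v) = (l - 1)⁻¹ • (ρ y v - v) + (ρ y v - v) := by
        have h2 : (l - 1)⁻¹ * l = (l - 1)⁻¹ + 1 := by
          have h3 : (l - 1)⁻¹ * (l - 1) = 1 := inv_mul_cancel₀ hl1'
          linear_combination h3
        rw [smul_smul, h2, add_smul, one_smul]
      rw [h1]
      abel
    · rw [map_smul, hl, smul_comm]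
  have huniq : ∀ u1 u2 : V, ρ y u1 = u1 → ρ y u2 = l • u2 → u1 + u2 = 0 → u1 = 0 ∧ u2 = 0 := by
    intro u1 u2 h1 h2 h0
    have h3 : ρ y (u1 + u2) = 0 := by rw [h0, map_zero]
    rw [map_add, h1, h2] at h3
    have h4 : (l - 1) • u2 = 0 := by
      rw [sub_smul, one_smul]
      calc l • u2 - u2 = (u1 + l • u2) - (u1 + u2) := by abel
        _ = 0 := by rw [h3, h0, sub_zero]
    have h5 : u2 = 0 := (smul_eq_zero.mp h4).resolve_left hl1'
    rw [h5, add_zero] at h0
    exact ⟨h0, h5⟩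
  have hex : ∃ h : H, ∃ w ∈ V1, ρ h w ∉ V1 := by
    by_contra hcon
    push Not at hcon
    rcases hirr V1 hcon with h | h
    · apply hynS
      refine ⟨l, fun v => ?_⟩
      obtain ⟨v1, v2, hv, h1, h2⟩ := hdec v
      have h3 : v1 = 0 := by
        have : v1 ∈ V1 := (hV1 v1).mpr h1
        rwa [h, Submodule.mem_bot] at this
      rw [hv, h3, zero_add, h2]
    · apply hynS
      refine ⟨1, fun v => ?_⟩
      rw [one_smul]
      exact (hV1 v).mp (h ▸ Submodule.mem_top)
  obtain ⟨h, w, hwV, hu⟩ := hex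
  rw [hV1] at hwV hu
  obtain ⟨k, hk, j, hkj⟩ := hconj h
  obtain ⟨κ, hκ⟩ := hKscal k hk
  obtain ⟨y', hy'⟩ : ∃ y' : H, y' = h * y * h⁻¹ := ⟨_, rfl⟩
  rw [← hy'] at hkj
  have hy'1 : ∀ v, ρ y v = v → ρ y' v = κ • v := by
    intro v hv
    rw [hkj, map_mul, Module.End.mul_apply, pow_apply_of_eigen ρ y v 1 (by rw [hv, one_smul]) j,
      one_pow, one_smul, hκ]
  have hy'2 : ∀ v, ρ y v = l • v → ρ y' v = (κ * l ^ j) • v := by
    intro v hv
    rw [hkj, map_mul, Module.End.mul_apply, pow_apply_of_eigen ρ y v l hv j, map_smul, hκ,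
      smul_smul, mul_comm]
  have hyh : ∀ v, ρ y' (ρ h v) = ρ h (ρ y v) := by
    intro v
    rw [← Module.End.mul_apply, ← map_mul, hy', inv_mul_cancel_right, map_mul,
      Module.End.mul_apply]
  have hu' : ρ y' (ρ h w) = ρ h w := by rw [hyh, hwV]
  obtain ⟨u1, u2, hu12, hu1, hu2⟩ := hdec (ρ h w)
  have hkey : (κ - 1) • u1 + (κ * l ^ j - 1) • u2 = 0 := by
    have h1 : ρ y' (u1 + u2) = u1 + u2 := by rw [← hu12]; exact hu'
    rw [map_add, hy'1 u1 hu1, hy'2 u2 hu2] at h1
    rw [sub_smul, sub_smul, one_smul, one_smul]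
    calc κ • u1 - u1 + ((κ * l ^ j) • u2 - u2)
        = (κ • u1 + (κ * l ^ j) • u2) - (u1 + u2) := by abel
      _ = 0 := by rw [h1, sub_self]
  obtain ⟨hk1, hk2⟩ := huniq _ _ (by rw [map_smul, hu1]) (by rw [map_smul, hu2, smul_comm]) hkey
  have hu2ne : u2 ≠ 0 := by
    intro h0
    apply hu
    rw [hu12, h0, add_zero, hu1]
  have hκl : κ * l ^ j = 1 := by
    rcases smul_eq_zero.mp hk2 with h | h
    · exact sub_eq_zero.mp h
    · exact absurd h hu2ne
  have hw0 : w ≠ 0 := by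
    intro h0
    apply hu
    rw [h0, map_zero, map_zero]
  have hy'2' : ∀ v, ρ y v = l • v → ρ y' v = v := by
    intro v hv
    rw [hy'2 v hv, hκl, one_smul]
  have hκ1 : κ ≠ 1 := by
    intro hκ1
    have h1 : y' = 1 := by
      apply hinj
      intro v
      obtain ⟨v1, v2, hv, h1, h2⟩ := hdec v
      rw [hv, map_add, hy'1 v1 h1, hy'2' v2 h2, hκ1, one_smul, map_one, Module.End.one_apply]
    rw [hy'] at h1
    have h2 : y = 1 := conj_eq_one_iff.mp h1
    apply hynS
    refine ⟨1, fun v => ?_⟩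
    rw [h2, map_one, Module.End.one_apply, one_smul]
  have hy'ord : y' ^ (p ^ a) = 1 := by
    rw [hy', conj_pow, hyord, mul_one, mul_inv_cancel]
  have hcomm : Commute y y' := by
    show y * y' = y' * y
    apply hinj
    intro v
    obtain ⟨v1, v2, hv, h1, h2⟩ := hdec v
    have e1 : ρ (y * y') v = κ • v1 + l • v2 := by
      rw [map_mul, Module.End.mul_apply, hv, map_add, hy'1 v1 h1, hy'2' v2 h2, map_add, map_smul,
        h1, h2]
    have e2 : ρ (y' * y) v = κ • v1 + l • v2 := by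
      rw [map_mul, Module.End.mul_apply, hv, map_add, h1, h2, map_add, map_smul, hy'1 v1 h1,
        hy'2' v2 h2]
    rw [e1, e2]
  have hgen : ∀ s t : ℕ, κ ^ s ≠ 1 → l ^ t ≠ 1 → κ ^ s ≠ l ^ t → False := by
    intro s t hs ht hst
    have hzord : ∃ b, orderOf (y ^ t * y' ^ s) = p ^ b := by
      have h1 : (y ^ t * y' ^ s) ^ (p ^ a) = 1 := by
        rw [(hcomm.pow_pow t s).mul_pow, ← pow_mul, ← pow_mul, mul_comm t, mul_comm s, pow_mul,
          pow_mul, hyord, hy'ord, one_pow, one_pow, one_mul]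
      obtain ⟨b, -, hb⟩ := (Nat.dvd_prime_pow hp).mp (orderOf_dvd_of_pow_eq_one h1)
      exact ⟨b, hb⟩
    obtain ⟨ν, hν⟩ := hF2 p hp hpr _ hzord
    have hz1 : ρ (y ^ t * y' ^ s) w = κ ^ s • w := by
      rw [map_mul, Module.End.mul_apply, pow_apply_of_eigen ρ y' w κ (hy'1 w hwV) s, map_smul,
        pow_apply_of_eigen ρ y w 1 (by rw [hwV, one_smul]) t, one_pow, one_smul]
    have hz2 : ρ (y ^ t * y' ^ s) u2 = l ^ t • u2 := by
      rw [map_mul, Module.End.mul_apply,
        pow_apply_of_eigen ρ y' u2 1 (by rw [hy'2' u2 hu2, one_smul]) s, one_pow, one_smul,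
        pow_apply_of_eigen ρ y u2 l hu2 t]
    have hext : ∀ (x : V) (α : ZMod r), x ≠ 0 → α ≠ 1 → ρ (y ^ t * y' ^ s) x = α • x →
        ν = α := by
      intro x α hx hα hzx
      have h1 := hν x
      have h2 : ρ (y ^ t * y' ^ s) x - x = (α - 1) • x := by rw [hzx, sub_smul, one_smul]
      rw [h2, map_smul, hzx, smul_smul, smul_smul] at h1
      have h3 : ((α - 1) * α - ν * (α - 1)) • x = 0 := by rw [sub_smul, h1, sub_self]
      rcases smul_eq_zero.mp h3 with h | h
      · have h4 : (α - 1) * (α - ν) = 0 := by linear_combination h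
        rcases mul_eq_zero.mp h4 with h' | h'
        · exact absurd (sub_eq_zero.mp h') hα
        · exact (sub_eq_zero.mp h').symm
      · exact absurd h hx
    have e1 := hext w (κ ^ s) hw0 hs hz1
    have e2 := hext u2 (l ^ t) hu2ne ht hz2
    exact hst (e1.symm.trans e2)
  by_cases hκl' : κ = l
  swap
  · exact hgen 1 1 (by rwa [pow_one]) (by rwa [pow_one]) (by rwa [pow_one, pow_one])
  have hl0 : l ≠ 0 := by
    intro h0
    apply hu2ne
    apply hinj' y
    rw [hu2, h0, zero_smul]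
  by_cases hl2 : l ^ 2 = 1
  swap
  · apply hgen 2 1
    · rwa [hκl']
    · rwa [pow_one]
    · rw [hκl', pow_one]
      intro h
      have h4 : l * (l - 1) = 0 := by linear_combination h
      rcases mul_eq_zero.mp h4 with h' | h'
      · exact hl0 h'
      · exact hl1' h'
  -- the swap case
  have hlm1 : l = -1 := by
    have h4 : (l - 1) * (l + 1) = 0 := by linear_combination hl2
    rcases mul_eq_zero.mp h4 with h' | h'
    · exact absurd h' hl1'
    · exact eq_neg_of_add_eq_zero_left h'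
  have h2ne : (2 : ZMod r) ≠ 0 := by
    intro h
    apply hl1
    rw [hlm1]
    linear_combination -h
  have h2r : (2 : ℕ) ≠ r := by
    intro h
    apply h2ne
    have h3 : ((2 : ℕ) : ZMod r) = 0 := by
      rw [h]
      exact ZMod.natCast_self r
    exact_mod_cast h3
  have hy'1l : ∀ v, ρ y v = v → ρ y' v = l • v := fun v hv => by rw [hy'1 v hv, hκl']
  have hSQ : ∀ m : H, (∃ b, orderOf m = 2 ^ b) → Sw ρ y l m → ∀ v, ρ m (ρ m v) = v := by
    intro m hm hsw v
    obtain ⟨μ, hμ⟩ := hF2 2 Nat.prime_two h2r m hm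
    have hA : ∀ n1, ρ y n1 = n1 → ρ m (ρ m n1) = n1 := by
      intro n1 h1
      by_cases hn0 : n1 = 0
      · rw [hn0, map_zero, map_zero]
      have hn2V : ρ y (ρ m n1) = l • ρ m n1 := hsw.1 n1 h1
      have hn2ne : ρ m n1 ≠ 0 := fun h0 => hn0 (hinj' m n1 h0)
      have hmn2V : ρ y (ρ m (ρ m n1)) = ρ m (ρ m n1) := hsw.2 _ hn2V
      have h3 := hμ n1
      rw [map_sub] at h3
      have h4 : (ρ m (ρ m n1) + μ • n1) + (-(1 + μ)) • ρ m n1 = 0 := by
        have h5 : ρ m (ρ m n1) = ρ m n1 + μ • (ρ m n1 - n1) := by rw [← h3]; abel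
        rw [h5]
        module
      obtain ⟨h5, h6⟩ := huniq _ _ (by rw [map_add, map_smul, hmn2V, h1])
        (by rw [map_smul, hn2V, smul_comm]) h4
      have hμ1 : μ = -1 := by
        rcases smul_eq_zero.mp h6 with h | h
        · linear_combination -h
        · exact absurd h hn2ne
      rw [hμ1, neg_one_smul] at h5
      exact add_neg_eq_zero.mp h5
    have hB : ∀ n2, ρ y n2 = l • n2 → ρ m (ρ m n2) = n2 := by
      intro n2 h2
      by_cases hn0 : n2 = 0
      · rw [hn0, map_zero, map_zero]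
      have hn1V : ρ y (ρ m n2) = ρ m n2 := hsw.2 n2 h2
      have hn1ne : ρ m n2 ≠ 0 := fun h0 => hn0 (hinj' m n2 h0)
      have hmn1V : ρ y (ρ m (ρ m n2)) = l • ρ m (ρ m n2) := hsw.1 _ hn1V
      have h3 := hμ n2
      rw [map_sub] at h3
      have h4 : (-(1 + μ)) • ρ m n2 + (ρ m (ρ m n2) + μ • n2) = 0 := by
        have h5 : ρ m (ρ m n2) = ρ m n2 + μ • (ρ m n2 - n2) := by rw [← h3]; abel
        rw [h5]
        module
      obtain ⟨h5, h6⟩ := huniq _ _ (by rw [map_smul, hn1V])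
        (by rw [map_add, map_smul, hmn1V, h2, smul_add, smul_comm]) h4
      have hμ1 : μ = -1 := by
        rcases smul_eq_zero.mp h5 with h | h
        · linear_combination -h
        · exact absurd h hn1ne
      rw [hμ1, neg_one_smul] at h6
      exact add_neg_eq_zero.mp h6
    obtain ⟨v1, v2, hv, h1, h2⟩ := hdec v
    rw [hv, map_add, map_add, hA v1 h1, hB v2 h2]
  have hSwh : Sw ρ y l h := by
    refine ⟨fun v hv => ?_, fun v hv => ?_⟩
    · obtain ⟨x1, x2, hx, hx1, hx2⟩ := hdec (ρ h v)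
      have h1 : ρ y' (ρ h v) = ρ h v := by rw [hyh, hv]
      rw [hx, map_add, hy'1l x1 hx1, hy'2' x2 hx2] at h1
      have h3 : (l - 1) • x1 = 0 := by
        rw [sub_smul, one_smul]
        calc l • x1 - x1 = (l • x1 + x2) - (x1 + x2) := by abel
          _ = 0 := by rw [h1, sub_self]
      have h4 : x1 = 0 := (smul_eq_zero.mp h3).resolve_left hl1'
      rw [hx, h4, zero_add, hx2]
    · obtain ⟨x1, x2, hx, hx1, hx2⟩ := hdec (ρ h v)
      have h1 : ρ y' (ρ h v) = l • ρ h v := by rw [hyh, hv, map_smul]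
      rw [hx, map_add, hy'1l x1 hx1, hy'2' x2 hx2, smul_add] at h1
      have h3 : (l - 1) • x2 = 0 := by
        rw [sub_smul, one_smul]
        calc l • x2 - x2 = (l • x1 + l • x2) - (l • x1 + x2) := by abel
          _ = 0 := by rw [h1, sub_self]
      have h4 : x2 = 0 := (smul_eq_zero.mp h3).resolve_left hl1'
      rw [hx, h4, add_zero, hx1]
  obtain ⟨b, d, hd, hbd⟩ := Nat.exists_eq_pow_mul_and_not_dvd (orderOf_pos h).ne' 2 (by norm_num)
  have hd0 : d ≠ 0 := by
    rintro rfl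
    exact hd (dvd_zero 2)
  have hmord : orderOf (h ^ d) = 2 ^ b := by
    rw [orderOf_pow' h hd0, hbd, Nat.gcd_eq_right (dvd_mul_left d _)]
    exact Nat.mul_div_cancel _ (Nat.pos_of_ne_zero hd0)
  have hSwm : Sw ρ y l (h ^ d) := by
    obtain ⟨i, hi⟩ : Odd d := Nat.not_even_iff_odd.mp (fun he => hd (even_iff_two_dvd.mp he))
    rw [hi]
    exact hSwh.pow_odd ρ i
  have hm2 := hSQ (h ^ d) ⟨b, hmord⟩ hSwm
  have hSwt : Sw ρ y l (h ^ d * y) := hSwm.mul_Pr ρ (Pr_self ρ y l)
  have ht2 : ∀ v, ρ (h ^ d * y) (ρ (h ^ d * y) v) = l • v := by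
    intro v
    obtain ⟨v1, v2, hv, h1, h2⟩ := hdec v
    have e1 : ρ (h ^ d * y) (ρ (h ^ d * y) v1) = l • v1 := by
      rw [map_mul, Module.End.mul_apply, Module.End.mul_apply, h1, hSwm.1 v1 h1, map_smul, hm2]
    have e2 : ρ (h ^ d * y) (ρ (h ^ d * y) v2) = l • v2 := by
      rw [map_mul, Module.End.mul_apply, Module.End.mul_apply, h2, map_smul, map_smul,
        hSwm.2 v2 h2, map_smul, hm2]
    rw [hv, map_add, map_add, e1, e2, smul_add]
  have ht4 : (h ^ d * y) ^ (2 ^ 2) = 1 := by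
    apply hinj
    intro v
    have e : (h ^ d * y) ^ (2 ^ 2) = (h ^ d * y) * (h ^ d * y) * ((h ^ d * y) * (h ^ d * y)) := by
      rw [show (2 ^ 2 : ℕ) = 2 + 2 from rfl, pow_add, pow_two]
    rw [e, map_mul, Module.End.mul_apply, map_mul, Module.End.mul_apply, Module.End.mul_apply,
      ht2, ht2, smul_smul, ← pow_two, hl2, one_smul, map_one, Module.End.one_apply]
  have htord : ∃ b, orderOf (h ^ d * y) = 2 ^ b := by
    obtain ⟨b, -, hb⟩ := (Nat.dvd_prime_pow Nat.prime_two).mp (orderOf_dvd_of_pow_eq_one ht4)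
    exact ⟨b, hb⟩
  have hfin := hSQ _ htord hSwt v₀
  rw [ht2] at hfin
  have h3 : (l - 1) • v₀ = 0 := by rw [sub_smul, hfin, one_smul, sub_self]
  rcases smul_eq_zero.mp h3 with h' | h'
  · exact hl1' h'
  · exact hv₀ h'

end core

section mul
variable {H : Type u} {N : Type v} [Group H] [CommGroup N] {r : ℕ} [hr : Fact r.Prime]
  [Module (ZMod r) (Additive N)]

/-- the linear representation on `Additive N` attached to an action by automorphisms -/
def repOf (φ : H →* MulAut N) : Representation (ZMod r) H (Additive N) where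
  toFun h := AddMonoidHom.toZModLinearMap r (MonoidHom.toAdditive (φ h).toMonoidHom)
  map_one' := by
    ext v
    simp
  map_mul' := by
    intro a b
    ext v
    simp [map_mul]

theorem repOf_apply (φ : H →* MulAut N) (h : H) (v : Additive N) :
    repOf (r := r) φ h v = Additive.ofMul (φ h (Additive.toMul v)) := rfl


theorem core_mul [Finite H] [Finite N] [Nontrivial N] (φ : H →* MulAut N)
    (hH : IsSupersolvable H)
    (hfaith : ∀ h : H, (∀ n : N, φ h n = n) → h = 1)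
    (hirr : ∀ W : Subgroup N, (∀ h : H, ∀ w ∈ W, φ h w ∈ W) → W = ⊥ ∨ W = ⊤)
    (hF1 : ∀ p : ℕ, p.Prime → p ≠ r → ∀ x : H, (∃ a : ℕ, orderOf x = p ^ a) →
      ∀ n : N, φ x (φ x n / n) ∈ Subgroup.zpowers (φ x n / n)) :
    ∃ c : N, c ≠ 1 ∧ ∀ h : H, φ h c ∈ Subgroup.zpowers c := by
  have hcore := core (repOf (r := r) φ) hH ?_ ?_ ?_
  · obtain ⟨c, hc, hcc⟩ := hcore
    refine ⟨Additive.toMul c, ?_, fun h => ?_⟩
    · intro h
      apply hc
      exact Additive.toMul.injective h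
    · obtain ⟨a, ha⟩ := hcc h
      rw [repOf_apply] at ha
      rw [Subgroup.mem_zpowers_iff]
      refine ⟨(a.val : ℤ), ?_⟩
      have h1 : a • c = a.val • c := by
        conv_lhs => rw [← ZMod.natCast_zmod_val a]
        exact Nat.cast_smul_eq_nsmul _ _ _
      rw [h1] at ha
      have h2 := congrArg Additive.toMul ha
      rw [toMul_ofMul, toMul_nsmul] at h2
      rw [zpow_natCast, h2]
  · intro h hh
    apply hfaith
    intro n
    have h1 := LinearMap.congr_fun hh (Additive.ofMul n)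
    rw [repOf_apply, Module.End.one_apply] at h1
    exact Additive.ofMul.injective h1
  · intro W hW
    let W' : Subgroup N :=
      { carrier := {n | Additive.ofMul n ∈ W}
        one_mem' := W.zero_mem
        mul_mem' := fun {a b} ha hb => W.add_mem ha hb
        inv_mem' := fun {a} ha => W.neg_mem ha }
    rcases hirr W' (fun h w hw => hW h (Additive.ofMul w) hw) with h | h
    · left
      rw [Submodule.eq_bot_iff]
      intro v hv
      have h1 : Additive.toMul v ∈ W' := hv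
      rw [h, Subgroup.mem_bot] at h1
      exact Additive.toMul.injective h1
    · right
      rw [Submodule.eq_top_iff']
      intro v
      have h1 : Additive.toMul v ∈ W' := h ▸ Subgroup.mem_top _
      exact h1
  · intro p hp hpr x hx v
    have h1 := hF1 p hp hpr x hx (Additive.toMul v)
    rw [Subgroup.mem_zpowers_iff] at h1
    obtain ⟨k, hk⟩ := h1
    refine ⟨(k : ZMod r), ?_⟩
    rw [Int.cast_smul_eq_zsmul]
    apply Additive.toMul.injective
    rw [toMul_zsmul]
    exact hk.symm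

end mul


/-- concrete form: `M` acting by conjugation on an abelian normal subgroup `N` of exponent `r` -/
theorem exists_normal_cyclic {G : Type u} [Group G] [Finite G] (N M : Subgroup G) [hNn : N.Normal]
    (r : ℕ) [hr : Fact r.Prime]
    (hNc : ∀ a ∈ N, ∀ b ∈ N, a * b = b * a) (hNr : ∀ a ∈ N, a ^ r = 1) (hN1 : N ≠ ⊥)
    (hM : IsSupersolvable M)
    (hfaith : ∀ m ∈ M, (∀ n ∈ N, m * n * m⁻¹ = n) → m = 1)
    (hirr : ∀ W : Subgroup G, W ≤ N → (∀ m ∈ M, ∀ w ∈ W, m * w * m⁻¹ ∈ W) → W = ⊥ ∨ W = N)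
    (hF1 : ∀ p : ℕ, p.Prime → p ≠ r → ∀ x ∈ M, (∃ a : ℕ, orderOf x = p ^ a) → ∀ n ∈ N,
      x * (x * n * x⁻¹ * n⁻¹) * x⁻¹ ∈ Subgroup.zpowers (x * n * x⁻¹ * n⁻¹)) :
    ∃ c ∈ N, c ≠ 1 ∧ ∀ m ∈ M, m * c * m⁻¹ ∈ Subgroup.zpowers c := by
  classical
  let _ : CommGroup N :=
    { (inferInstance : Group N) with mul_comm := fun a b => Subtype.ext (hNc a a.2 b b.2) }
  have hsmul : ∀ x : Additive N, r • x = 0 := by
    intro x
    apply Additive.toMul.injective
    rw [toMul_nsmul, toMul_zero]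
    exact Subtype.ext (by simpa using hNr _ (Additive.toMul x).2)
  let _ : Module (ZMod r) (Additive N) := AddCommGroup.zmodModule hsmul
  have : Nontrivial N := (Subgroup.nontrivial_iff_ne_bot N).mpr hN1
  let φ : M →* MulAut N := (MulAut.conjNormal (H := N)).comp M.subtype
  have hφ : ∀ (m : M) (n : N), ((φ m n : N) : G) = (m : G) * n * (m : G)⁻¹ := by
    intro m n
    simp [φ, MulAut.conjNormal_apply]
  have hA : ∀ h : M, (∀ n : N, φ h n = n) → h = 1 := by
    intro m hm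
    have h1 : (m : G) = 1 := hfaith m m.2 (fun n hn => by
      have h2 := congrArg (Subtype.val : N → G) (hm ⟨n, hn⟩)
      rwa [hφ] at h2)
    exact Subtype.ext h1
  have hB : ∀ W : Subgroup N, (∀ h : M, ∀ w ∈ W, φ h w ∈ W) → W = ⊥ ∨ W = ⊤ := by
    intro W hW
    rcases hirr (W.map N.subtype) (Subgroup.map_subtype_le W) (fun m hm w hw => by
      obtain ⟨w', hw', rfl⟩ := hw
      exact ⟨φ ⟨m, hm⟩ w', hW ⟨m, hm⟩ w' hw', hφ ⟨m, hm⟩ w'⟩) with h | h
    · left
      exact (Subgroup.map_eq_bot_iff_of_injective W N.subtype_injective).mp h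
    · right
      rw [eq_top_iff]
      intro n _
      have h1 : (n : G) ∈ W.map N.subtype := by rw [h]; exact n.2
      obtain ⟨w', hw', hw'n⟩ := h1
      have : w' = n := Subtype.ext hw'n
      rwa [← this]
  have hC : ∀ p : ℕ, p.Prime → p ≠ r → ∀ x : M, (∃ a : ℕ, orderOf x = p ^ a) →
      ∀ n : N, φ x (φ x n / n) ∈ Subgroup.zpowers (φ x n / n) := by
    intro p hp hpr x hx n
    have hx' : ∃ a : ℕ, orderOf (x : G) = p ^ a := by
      obtain ⟨a, ha⟩ := hx
      exact ⟨a, by rw [Subgroup.orderOf_coe, ha]⟩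
    have h1 := hF1 p hp hpr x x.2 hx' n n.2
    rw [Subgroup.mem_zpowers_iff] at h1 ⊢
    obtain ⟨k, hk⟩ := h1
    refine ⟨k, ?_⟩
    apply Subtype.ext
    have h2 : ((φ x n / n : N) : G) = (x : G) * n * (x : G)⁻¹ * (n : G)⁻¹ := by
      rw [div_eq_mul_inv, Subgroup.coe_mul, hφ, Subgroup.coe_inv]
    rw [hφ, Subgroup.coe_zpow, h2, hk]
  obtain ⟨c, hc1, hc⟩ := core_mul (r := r) φ hM hA hB hC
  refine ⟨c, c.2, fun h => hc1 (Subtype.ext h), fun m hm => ?_⟩
  have h1 := hc ⟨m, hm⟩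
  rw [Subgroup.mem_zpowers_iff] at h1 ⊢
  obtain ⟨k, hk⟩ := h1
  refine ⟨k, ?_⟩
  have h2 := congrArg (Subtype.val : N → G) hk
  rw [hφ, Subgroup.coe_zpow] at h2
  exact h2

end Cfsg.Agent.Lib.Helper11.HomologyCore
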