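import Cfsg.Agent.Lib.Helper11.IsogBlocks
import Cfsg.Agent.Lib.Helper11.IsogPoly
import Cfsg.Agent.Lib.Helper11.ChevFundGen

/-! Exceptional ("special isogeny") endomorphisms of Chevalley groups in characteristic `p` (helper11).
In characteristic `p = 3` (type `G₂`) or `p = 2` (types `B₂`, `F₄`) the adjoint module has an invariant subspace `I`
(spanned by the short root vectors and the short coroots); the action on `L/I` of `x_r(t)` coincides with the
action on `I` of `x_{r̄}(t^{λ})`.  When the action on `I` is faithful this gives an endomorphism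
`x_r(t) ↦ x_{r̄}(t^λ)` of the Chevalley group. -/

set_option autoImplicit false
set_option linter.unusedSectionVars false

namespace Cfsg.Agent.Lib.Helper11.Isog

open Cfsg Cfsg.Lie Matrix Cfsg.Agent.Lib.Helper7 Cfsg.Agent.Lib.Helper11

/-- combinatorial data: the coordinates `sS` of `I`, the complementary coordinates `sT`, the permutation `bar`
of the roots and the exponents `lam` -/
structure IsogData (D : ChevalleyDatum) where
  p : ℕ
  B : ℕ
  k : ℕ
  sS : Fin k → D.Idx
  sT : Fin k → D.Idx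
  bar : ℕ → ℕ
  lam : ℕ → ℕ

variable {D : ChevalleyDatum}

/-- the decidable check for the root `r` -/
def IsogData.RootCheck (X : IsogData D) (r : ℕ) : Prop :=
  ∀ i j : Fin X.k, polyEqMod X.p X.B (entryTermsN D r (X.sT i) (X.sS j)) [] = true ∧
    polyEqMod X.p X.B (entryTermsN D r (X.sT i) (X.sT j))
      (substTerms (X.lam r) (entryTermsN D (X.bar r) (X.sS i) (X.sS j))) = true

instance (X : IsogData D) (r : ℕ) : Decidable (X.RootCheck r) := by
  unfold IsogData.RootCheck; infer_instance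

/-- validity of the data for a list `R` of roots containing the fundamental roots and their negatives -/
structure IsogData.Valid (X : IsogData D) (R : List ℕ) : Prop where
  bij : Function.Bijective (Sum.elim X.sS X.sT)
  check : ∀ r ∈ R, X.RootCheck r
  pos : ∀ j < D.rank, D.simple j ∈ R
  neg : ∀ j < D.rank, D.neg (D.simple j) ∈ R

section
variable (X : IsogData D) {R : List ℕ} (hX : X.Valid R)
variable (K : Type*) [Field K] [CharP K X.p]
include hX

theorem x_lower {r : ℕ} (hr : r ∈ R) (t : K) : LowerZero X.sS X.sT (D.x K r t) := by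
  intro i j
  rw [x_eq_eval, eval_eq_of_polyEqMod X.p X.B _ _ ((hX.check r hr i j).1) t]
  rfl

theorem x_block {r : ℕ} (hr : r ∈ R) (t : K) :
    (D.x K r t).submatrix X.sT X.sT = (D.x K (X.bar r) (t ^ X.lam r)).submatrix X.sS X.sS := by
  ext i j
  rw [Matrix.submatrix_apply, Matrix.submatrix_apply, x_eq_eval, x_eq_eval,
    eval_eq_of_polyEqMod X.p X.B _ _ ((hX.check r hr i j).2) t, evalTerms_subst]

variable (hD : D ∈ [chevG2, chevB2, chevD4, chevF4, chevE6, chevE7, chevE8])
include hD

theorem xGL_mem_stab {r : ℕ} (hr : r ∈ R) (t : K) : xGL D hD K r t ∈ stab K hX.bij := by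
  rw [mem_stab]
  refine ⟨?_, ?_⟩
  · rw [coe_xGL]; exact x_lower X hX K hr t
  · rw [xGL_inv, coe_xGL]; exact x_lower X hX K hr (-t)

theorem group_le_stab : D.group K ≤ stab K hX.bij :=
  group_le_of_fund D hD K _ (fun j hj t => xGL_mem_stab X hX K hD (hX.pos j hj) t)
    (fun j hj t => xGL_mem_stab X hX K hD (hX.neg j hj) t)

/-- the action on `I` -/
noncomputable def AG : ↥(D.group K) →* GL (Fin X.k) K :=
  (blockS K hX.bij).comp (Subgroup.inclusion (group_le_stab X hX K hD))

/-- the action on `L/I` -/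
noncomputable def CG : ↥(D.group K) →* GL (Fin X.k) K :=
  (blockT K hX.bij).comp (Subgroup.inclusion (group_le_stab X hX K hD))

theorem coe_AG (g : ↥(D.group K)) :
    ((AG X hX K hD g : GL (Fin X.k) K) : Matrix (Fin X.k) (Fin X.k) K) =
      ((g : GL D.Idx K) : Matrix D.Idx D.Idx K).submatrix X.sS X.sS := rfl

theorem coe_CG (g : ↥(D.group K)) :
    ((CG X hX K hD g : GL (Fin X.k) K) : Matrix (Fin X.k) (Fin X.k) K) =
      ((g : GL D.Idx K) : Matrix D.Idx D.Idx K).submatrix X.sT X.sT := rfl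

theorem CG_xG {r : ℕ} (hr : r ∈ R) (t : K) :
    CG X hX K hD (xG D hD K r t) = AG X hX K hD (xG D hD K (X.bar r) (t ^ X.lam r)) := by
  apply Units.ext
  rw [coe_CG, coe_AG, coe_coe_xG, coe_coe_xG]
  exact x_block X hX K hr t

theorem CG_mem_range (g : ↥(D.group K)) : CG X hX K hD g ∈ (AG X hX K hD).range := by
  have h := eq_top_of_fund D hD K ((AG X hX K hD).range.comap (CG X hX K hD))
    (fun j hj t => by
      rw [Subgroup.mem_comap, CG_xG X hX K hD (hX.pos j hj)]
      exact ⟨_, rfl⟩)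
    (fun j hj t => by
      rw [Subgroup.mem_comap, CG_xG X hX K hD (hX.neg j hj)]
      exact ⟨_, rfl⟩)
  have : g ∈ (AG X hX K hD).range.comap (CG X hX K hD) := by rw [h]; trivial
  exact this

/-- the endomorphism `x_r(t) ↦ x_{r̄}(t^λ)`, when the action on `I` is faithful -/
theorem exists_hom (hinj : Function.Injective (AG X hX K hD)) :
    ∃ α : ↥(D.group K) →* ↥(D.group K), (∀ g, AG X hX K hD (α g) = CG X hX K hD g) ∧
      ∀ r ∈ R, ∀ t : K, α (xG D hD K r t) = xG D hD K (X.bar r) (t ^ X.lam r) := by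
  let e := MonoidHom.ofInjective hinj
  let c : ↥(D.group K) →* ↥(AG X hX K hD).range :=
    (CG X hX K hD).codRestrict _ (CG_mem_range X hX K hD)
  let α : ↥(D.group K) →* ↥(D.group K) := e.symm.toMonoidHom.comp c
  have hα : ∀ g, AG X hX K hD (α g) = CG X hX K hD g := by
    intro g
    have h1 : e (α g) = c g := by
      change e (e.symm (c g)) = c g
      exact e.apply_symm_apply _
    have h2 := congrArg Subtype.val h1
    exact h2
  refine ⟨α, hα, ?_⟩
  intro r hr t
  apply hinj
  rw [hα, CG_xG X hX K hD hr]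

/-- for a simple Chevalley group the action on `I` is faithful as soon as one root element acts non-trivially -/
theorem AG_injective_of_simple [IsSimpleGroup ↥(D.group K)] (r : ℕ) (t : K) (i j : Fin X.k) (hij : i ≠ j)
    (hne : D.x K r t (X.sS i) (X.sS j) ≠ 0) : Function.Injective (AG X hX K hD) := by
  rw [← MonoidHom.ker_eq_bot_iff]
  rcases (AG X hX K hD).normal_ker.eq_bot_or_eq_top with h | h
  · exact h
  · exfalso
    have h1 : xG D hD K r t ∈ (AG X hX K hD).ker := by rw [h]; trivial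
    rw [MonoidHom.mem_ker] at h1
    have h2 := congrArg (fun u : GL (Fin X.k) K => (u : Matrix (Fin X.k) (Fin X.k) K) i j) h1
    simp only [coe_AG, coe_coe_xG, Matrix.submatrix_apply, Units.val_one, Matrix.one_apply_ne hij] at h2
    exact hne h2

/-- surjectivity of the endomorphism over a perfect field -/
theorem surjective_of_perfect (α : ↥(D.group K) →* ↥(D.group K))
    (hα : ∀ r ∈ R, ∀ t : K, α (xG D hD K r t) = xG D hD K (X.bar r) (t ^ X.lam r))
    (hpos : ∀ j < D.rank, ∃ r ∈ R, X.bar r = D.simple j ∧ ∀ u : K, ∃ t : K, t ^ X.lam r = u)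
    (hneg : ∀ j < D.rank, ∃ r ∈ R, X.bar r = D.neg (D.simple j) ∧ ∀ u : K, ∃ t : K, t ^ X.lam r = u) :
    Function.Surjective α := by
  rw [← MonoidHom.range_eq_top]
  apply eq_top_of_fund D hD K
  · intro j hj u
    obtain ⟨r, hr, hb, hs⟩ := hpos j hj
    obtain ⟨t, ht⟩ := hs u
    exact ⟨xG D hD K r t, by rw [hα r hr, hb, ht]⟩
  · intro j hj u
    obtain ⟨r, hr, hb, hs⟩ := hneg j hj
    obtain ⟨t, ht⟩ := hs u
    exact ⟨xG D hD K r t, by rw [hα r hr, hb, ht]⟩

/-- surjectivity over a perfect field, with decidable side conditions -/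
theorem surjective_of_perfect' (α : ↥(D.group K) →* ↥(D.group K))
    (hα : ∀ r ∈ R, ∀ t : K, α (xG D hD K r t) = xG D hD K (X.bar r) (t ^ X.lam r))
    (hperf : ∀ x : K, ∃ y : K, y ^ X.p = x)
    (hpos : ∀ j < D.rank, ∃ r ∈ R, X.bar r = D.simple j ∧ (X.lam r = 1 ∨ X.lam r = X.p))
    (hneg : ∀ j < D.rank, ∃ r ∈ R, X.bar r = D.neg (D.simple j) ∧ (X.lam r = 1 ∨ X.lam r = X.p)) :
    Function.Surjective α := by
  have key : ∀ r, (X.lam r = 1 ∨ X.lam r = X.p) → ∀ u : K, ∃ t : K, t ^ X.lam r = u := by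
    intro r h u
    rcases h with h | h
    · exact ⟨u, by rw [h, pow_one]⟩
    · obtain ⟨y, hy⟩ := hperf u
      exact ⟨y, by rw [h, hy]⟩
  apply surjective_of_perfect X hX K hD α hα
  · intro j hj
    obtain ⟨r, hr, hb, hl⟩ := hpos j hj
    exact ⟨r, hr, hb, key r hl⟩
  · intro j hj
    obtain ⟨r, hr, hb, hl⟩ := hneg j hj
    exact ⟨r, hr, hb, key r hl⟩

/-- the exceptional automorphism of a simple Chevalley group over a perfect field -/
theorem exists_equiv_of_simple [IsSimpleGroup ↥(D.group K)] (r : ℕ) (t : K) (i j : Fin X.k) (hij : i ≠ j)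
    (hne : D.x K r t (X.sS i) (X.sS j) ≠ 0) (r0 : ℕ) (hr0 : r0 ∈ R) (hb0 : X.bar r0 < D.nroots)
    (hperf : ∀ x : K, ∃ y : K, y ^ X.p = x)
    (hpos : ∀ j < D.rank, ∃ r ∈ R, X.bar r = D.simple j ∧ (X.lam r = 1 ∨ X.lam r = X.p))
    (hneg : ∀ j < D.rank, ∃ r ∈ R, X.bar r = D.neg (D.simple j) ∧ (X.lam r = 1 ∨ X.lam r = X.p)) :
    ∃ α : ↥(D.group K) ≃* ↥(D.group K),
      ∀ r ∈ R, ∀ t : K, α (xG D hD K r t) = xG D hD K (X.bar r) (t ^ X.lam r) := by
  obtain ⟨α, -, hα⟩ := exists_hom X hX K hD (AG_injective_of_simple X hX K hD r t i j hij hne)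
  have hinj : Function.Injective α := by
    rw [← MonoidHom.ker_eq_bot_iff]
    rcases α.normal_ker.eq_bot_or_eq_top with h | h
    · exact h
    · exfalso
      have h1 : xG D hD K r0 1 ∈ α.ker := by rw [h]; trivial
      rw [MonoidHom.mem_ker, hα r0 hr0, one_pow] at h1
      have hN := negOK_of_mem D hD _ hb0
      have h2 : D.x K (X.bar r0) 1 = 1 := by
        have := congrArg (fun g : ↥(D.group K) => ((g : GL D.Idx K) : Matrix D.Idx D.Idx K)) h1
        simpa [coe_coe_xG] using this
      exact one_ne_zero (eq_zero_of_x_eq_one D K _ hb0 hN.1 hN.2 1 h2)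
  have hsurj := surjective_of_perfect' X hX K hD α hα hperf hpos hneg
  exact ⟨MulEquiv.ofBijective α ⟨hinj, hsurj⟩, hα⟩

end

section
variable (K : Type*) [Field K]
variable (hD : D ∈ [chevG2, chevB2, chevD4, chevF4, chevE6, chevE7, chevE8])
include hD

/-- an endomorphism of a simple Chevalley group which does not kill some root element is injective -/
theorem injective_of_simple [IsSimpleGroup ↥(D.group K)] (α : ↥(D.group K) →* ↥(D.group K)) (r : ℕ) (t : K)
    (hne : α (xG D hD K r t) ≠ 1) : Function.Injective α := by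
  rw [← MonoidHom.ker_eq_bot_iff]
  rcases α.normal_ker.eq_bot_or_eq_top with h | h
  · exact h
  · exfalso
    have h1 : xG D hD K r t ∈ α.ker := by rw [h]; trivial
    exact hne h1

theorem xG_ne_one (r : ℕ) (hr : r < D.nroots) (t : K) (ht : t ≠ 0) : xG D hD K r t ≠ 1 := by
  intro h
  have hN := negOK_of_mem D hD r hr
  have h1 : D.x K r t = 1 := by
    have := congrArg (fun g : ↥(D.group K) => ((g : GL D.Idx K) : Matrix D.Idx D.Idx K)) h
    simpa [coe_coe_xG] using this
  exact ht (eq_zero_of_x_eq_one D K r hr hN.1 hN.2 t h1)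

end

end Cfsg.Agent.Lib.Helper11.Isog
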