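import Cfsg.Agent.Lib.Helper11.IsogAut
import Cfsg.Agent.Lib.Helper7.ChevSimple
import Cfsg.Agent.Lib.Helper19.B2Iso
import Cfsg.Prelude.Def_ChevB2

/-! The exceptional graph automorphism of `B₂(K)` in characteristic 2 (helper11). -/

set_option autoImplicit false
set_option linter.unusedSimpArgs false
set_option linter.unusedSectionVars false

namespace Cfsg.Agent.Lib.Helper11.Isog

open Cfsg Cfsg.Lie Matrix Cfsg.Agent.Lib.Helper7 Cfsg.Agent.Lib.Helper11
open scoped commutatorElement

/-- Cartan coordinate of the `B₂` adjoint module -/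
def b2h (i : ℕ) (h : i < chevB2.rank := by decide) : chevB2.Idx := Sum.inl ⟨i, h⟩
/-- root coordinate of the `B₂` adjoint module -/
def b2r (i : ℕ) (h : i < chevB2.nroots := by decide) : chevB2.Idx := Sum.inr ⟨i, h⟩

/-- the data of the special isogeny of `B₂` in characteristic 2 -/
def b2Data : IsogData chevB2 where
  p := 2
  B := 5
  k := 5
  sS := ![b2h 0, b2r 1, b2r 2, b2r 5, b2r 6]
  sT := ![b2h 1, b2r 0, b2r 3, b2r 4, b2r 7]
  bar := fun r => [1, 0, 3, 2, 5, 4, 7, 6].getD r 0
  lam := fun r => [1, 2, 2, 1, 1, 2, 2, 1].getD r 1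

set_option maxRecDepth 100000 in
theorem b2Valid : b2Data.Valid (List.range 8) where
  bij := by decide +kernel
  check := by decide +kernel
  pos := by decide +kernel
  neg := by decide +kernel

theorem b2_mem : chevB2 ∈ [chevG2, chevB2, chevD4, chevF4, chevE6, chevE7, chevE8] := by simp

/-- a homomorphism from a group isomorphic to `S₆` with non-trivial kernel has commutative image -/
theorem comm_of_ker_ne_bot {G M : Type*} [Group G] [Group M] (φ : G ≃* Equiv.Perm (Fin 6)) (f : G →* M)
    (h : f.ker ≠ ⊥) (a b : G) : f a * f b = f b * f a := by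
  have hn : (f.ker.map φ.toMonoidHom).Normal :=
    Subgroup.Normal.map f.normal_ker _ φ.surjective
  have hnt : Nontrivial ↥(f.ker.map φ.toMonoidHom) := by
    rw [Subgroup.nontrivial_iff_ne_bot]
    intro h0
    apply h
    rw [Subgroup.map_eq_bot_iff_of_injective _ φ.injective] at h0
    exact h0
  have hle := Equiv.Perm.alternatingGroup_le_of_normal (α := Fin 6) (by simp) hnt
  rw [← alternatingGroup.commutator_perm_eq (by simp)] at hle
  have hc : ⁅φ a, φ b⁆ ∈ commutator (Equiv.Perm (Fin 6)) := by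
    rw [commutator_def]
    exact Subgroup.commutator_mem_commutator (Subgroup.mem_top _) (Subgroup.mem_top _)
  obtain ⟨n, hn1, hn2⟩ := hle hc
  have hn3 : n = ⁅a, b⁆ := by
    apply φ.injective
    rw [map_commutatorElement]
    exact hn2
  rw [hn3] at hn1
  have hn4 : ⁅a, b⁆ ∈ f.ker := hn1
  rw [MonoidHom.mem_ker, map_commutatorElement, commutatorElement_eq_one_iff_mul_comm] at hn4
  exact hn4

section
variable (K : Type*) [Field K] [CharP K 2]

instance : CharP K b2Data.p := inferInstanceAs (CharP K 2)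

/-- the value at `t = 1` of an entry, as the sum of the coefficients -/
theorem x_one_entry (D : ChevalleyDatum) (r : ℕ) (row col : D.Idx) :
    D.x K r 1 row col = ((((entryTermsN D r row col).map Prod.snd).sum : ℤ) : K) := by
  rw [x_eq_eval]
  unfold evalTerms
  simp [Int.cast_list_sum, List.map_map, Function.comp_def]

/-- the sum of the coefficients of an entry of the `I`-block -/
def b2c (r : ℕ) (i j : Fin 5) : ℤ := ((entryTermsN chevB2 r (b2Data.sS i) (b2Data.sS j)).map Prod.snd).sum

theorem b2_entry (r : ℕ) (i j : Fin 5) :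
    ((chevB2.x K r 1).submatrix b2Data.sS b2Data.sS : Matrix (Fin 5) (Fin 5) K) i j = ((b2c r i j : ℤ) : K) :=
  x_one_entry K chevB2 r _ _

theorem b2_not_comm :
    ((chevB2.x K 5 1).submatrix b2Data.sS b2Data.sS : Matrix (Fin 5) (Fin 5) K) *
        ((chevB2.x K 4 1).submatrix b2Data.sS b2Data.sS : Matrix (Fin 5) (Fin 5) K) ≠
      ((chevB2.x K 4 1).submatrix b2Data.sS b2Data.sS : Matrix (Fin 5) (Fin 5) K) *
        ((chevB2.x K 5 1).submatrix b2Data.sS b2Data.sS : Matrix (Fin 5) (Fin 5) K) := by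
  intro h
  have h1 := congrFun (congrFun h (0 : Fin 5)) (1 : Fin 5)
  rw [Matrix.mul_apply, Matrix.mul_apply, Fin.sum_univ_five, Fin.sum_univ_five] at h1
  simp only [b2_entry] at h1
  have e : ∀ k : Fin 5, b2c 5 0 k = ![1, 0, 1, 0, 0] k ∧ b2c 4 k 1 = ![0, 1, -1, 0, 0] k ∧
      b2c 4 0 k = ![1, 0, 0, 0, 0] k ∧ b2c 5 k 1 = ![0, 1, 0, 0, 0] k := by decide +kernel
  simp only [(e 0).1, (e 0).2.1, (e 0).2.2.1, (e 0).2.2.2, (e 1).1, (e 1).2.1, (e 1).2.2.1, (e 1).2.2.2,
    (e 2).1, (e 2).2.1, (e 2).2.2.1, (e 2).2.2.2, (e 3).1, (e 3).2.1, (e 3).2.2.1, (e 3).2.2.2,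
    (e 4).1, (e 4).2.1, (e 4).2.2.1, (e 4).2.2.2] at h1
  simp at h1

theorem b2_AG_injective : Function.Injective (AG b2Data b2Valid K b2_mem) := by
  by_cases hK : ∃ a : K, a ≠ 0 ∧ a ≠ 1
  · have := (isSimpleGroup_of_mem chevB2 b2_mem K (fun _ => hK)).1
    refine AG_injective_of_simple b2Data b2Valid K b2_mem 5 1 (3 : Fin 5) (2 : Fin 5)
      (show (3 : Fin 5) ≠ 2 by decide) ?_
    rw [x_one_entry]
    have : ((entryTermsN chevB2 5 (b2Data.sS (3 : Fin 5)) (b2Data.sS (2 : Fin 5))).map Prod.snd).sum = -1 := by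
      decide +kernel
    rw [this]
    simp
  · push Not at hK
    classical
    have hall : ∀ a : K, a = 0 ∨ a = 1 := fun a => by
      by_cases h : a = 0
      · exact Or.inl h
      · exact Or.inr (hK a h)
    have : Fintype K := Fintype.ofSurjective (fun b : Bool => if b then (1 : K) else 0) (by
      intro a
      rcases hall a with h | h
      · exact ⟨false, by simp [h]⟩
      · exact ⟨true, by simp [h]⟩)
    have hcard : Fintype.card K = 2 := by
      rw [← Nat.card_eq_fintype_card, Nat.card_eq_two_iff]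
      refine ⟨0, 1, zero_ne_one, ?_⟩
      ext a
      rcases hall a with h | h <;> simp [h]
    obtain ⟨φ⟩ := Cfsg.Agent.Lib.Helper19.B2Iso.nonempty_iso hcard
    rw [← MonoidHom.ker_eq_bot_iff]
    by_contra hne
    have hc := comm_of_ker_ne_bot φ (AG b2Data b2Valid K b2_mem) hne (xG chevB2 b2_mem K 5 1)
      (xG chevB2 b2_mem K 4 1)
    apply b2_not_comm K
    have h2 := congrArg (fun u : GL (Fin b2Data.k) K => (u : Matrix (Fin b2Data.k) (Fin b2Data.k) K)) hc
    simp only [Units.val_mul, coe_AG, coe_coe_xG] at h2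
    exact h2

/-- the graph automorphism of `B₂(K)`, `K` perfect of characteristic 2: `x_r(t) ↦ x_{r̄}(t^{λ(r̄)})` for every
root `r` -/
theorem b2_exists_equiv (hperf : ∀ x : K, ∃ y : K, y ^ 2 = x) :
    ∃ α : ↥(chevB2.group K) ≃* ↥(chevB2.group K),
      ∀ r < 8, ∀ t : K, α (xG chevB2 b2_mem K r t) = xG chevB2 b2_mem K (b2Data.bar r) (t ^ b2Data.lam r) := by
  obtain ⟨α, -, hα⟩ := exists_hom b2Data b2Valid K b2_mem (b2_AG_injective K)
  have hsurj : Function.Surjective α :=
    surjective_of_perfect' b2Data b2Valid K b2_mem α hα hperf (by decide) (by decide)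
  have hinj : Function.Injective α := by
    by_cases hK : ∃ a : K, a ≠ 0 ∧ a ≠ 1
    · have := (isSimpleGroup_of_mem chevB2 b2_mem K (fun _ => hK)).1
      apply injective_of_simple K b2_mem α 5 1
      rw [hα 5 (by decide)]
      exact xG_ne_one K b2_mem 4 (by decide) _ (by simp)
    · push Not at hK
      classical
      have hall : ∀ a : K, a = 0 ∨ a = 1 := fun a => by
        by_cases h : a = 0
        · exact Or.inl h
        · exact Or.inr (hK a h)
      have : Fintype K := Fintype.ofSurjective (fun b : Bool => if b then (1 : K) else 0) (by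
        intro a
        rcases hall a with h | h
        · exact ⟨false, by simp [h]⟩
        · exact ⟨true, by simp [h]⟩)
      have : Finite ↥(chevB2.group K) := inferInstance
      exact Finite.injective_iff_surjective.mpr hsurj
  exact ⟨MulEquiv.ofBijective α ⟨hinj, hsurj⟩, fun r hr t => hα r (List.mem_range.mpr hr) t⟩

end

end Cfsg.Agent.Lib.Helper11.Isog
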