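import Mathlib

/-! Block-triangular matrices with respect to a splitting `ι ≃ κ ⊕ κ` of the index set (helper11):
the subgroup of `GL ι K` stabilising the coordinate subspace spanned by the `sS`-coordinates, and the two
diagonal block homomorphisms. -/

set_option autoImplicit false
set_option linter.unusedSectionVars false

namespace Cfsg.Agent.Lib.Helper11.Isog

open Matrix

section
variable {ι κ K : Type*} [Fintype ι] [DecidableEq ι] [Fintype κ] [DecidableEq κ] [Field K]
variable (sS sT : κ → ι)

/-- the lower-left block vanishes -/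
def LowerZero (M : Matrix ι ι K) : Prop := ∀ i j, M (sT i) (sS j) = 0

variable {sS sT}

theorem sum_split (hb : Function.Bijective (Sum.elim sS sT)) (f : ι → K) :
    ∑ x, f x = ∑ a, f (sS a) + ∑ b, f (sT b) := by
  rw [← (Equiv.ofBijective _ hb).sum_comp, Fintype.sum_sum_type]
  rfl

theorem lowerZero_one (hb : Function.Bijective (Sum.elim sS sT)) : LowerZero sS sT (1 : Matrix ι ι K) := by
  intro i j
  rw [Matrix.one_apply_ne]
  intro h
  have := hb.1 (a₁ := Sum.inr i) (a₂ := Sum.inl j) (by simpa using h)
  simp at this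

theorem lowerZero_mul (hb : Function.Bijective (Sum.elim sS sT)) {M N : Matrix ι ι K}
    (hM : LowerZero sS sT M) (hN : LowerZero sS sT N) : LowerZero sS sT (M * N) := by
  intro i j
  rw [Matrix.mul_apply, sum_split hb]
  have h1 : ∑ a, M (sT i) (sS a) * N (sS a) (sS j) = 0 :=
    Finset.sum_eq_zero fun a _ => by rw [hM, zero_mul]
  have h2 : ∑ b, M (sT i) (sT b) * N (sT b) (sS j) = 0 :=
    Finset.sum_eq_zero fun a _ => by rw [hN, mul_zero]
  rw [h1, h2, add_zero]

theorem blockS_mul (hb : Function.Bijective (Sum.elim sS sT)) {M N : Matrix ι ι K}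
    (hN : LowerZero sS sT N) :
    (M * N).submatrix sS sS = M.submatrix sS sS * N.submatrix sS sS := by
  ext i j
  rw [Matrix.submatrix_apply, Matrix.mul_apply, sum_split hb, Matrix.mul_apply]
  have h2 : ∑ b, M (sS i) (sT b) * N (sT b) (sS j) = 0 :=
    Finset.sum_eq_zero fun a _ => by rw [hN, mul_zero]
  rw [h2, add_zero]
  rfl

theorem blockT_mul (hb : Function.Bijective (Sum.elim sS sT)) {M N : Matrix ι ι K}
    (hM : LowerZero sS sT M) :
    (M * N).submatrix sT sT = M.submatrix sT sT * N.submatrix sT sT := by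
  ext i j
  rw [Matrix.submatrix_apply, Matrix.mul_apply, sum_split hb, Matrix.mul_apply]
  have h1 : ∑ a, M (sT i) (sS a) * N (sS a) (sT j) = 0 :=
    Finset.sum_eq_zero fun a _ => by rw [hM, zero_mul]
  rw [h1, zero_add]
  rfl

theorem blockS_one (hb : Function.Bijective (Sum.elim sS sT)) :
    (1 : Matrix ι ι K).submatrix sS sS = 1 := by
  ext i j
  rw [Matrix.submatrix_apply, Matrix.one_apply, Matrix.one_apply]
  have : sS i = sS j ↔ i = j := by
    constructor
    · intro h
      have := hb.1 (a₁ := Sum.inl i) (a₂ := Sum.inl j) (by simpa using h)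
      simpa using this
    · rintro rfl; rfl
  simp [this]

theorem blockT_one (hb : Function.Bijective (Sum.elim sS sT)) :
    (1 : Matrix ι ι K).submatrix sT sT = 1 := by
  ext i j
  rw [Matrix.submatrix_apply, Matrix.one_apply, Matrix.one_apply]
  have : sT i = sT j ↔ i = j := by
    constructor
    · intro h
      have := hb.1 (a₁ := Sum.inr i) (a₂ := Sum.inr j) (by simpa using h)
      simpa using this
    · rintro rfl; rfl
  simp [this]

variable (K)

/-- the subgroup of `GL` of block upper triangular matrices -/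
def stab (hb : Function.Bijective (Sum.elim sS sT)) : Subgroup (GL ι K) where
  carrier := {g | LowerZero sS sT (g : Matrix ι ι K) ∧ LowerZero sS sT ((g⁻¹ : GL ι K) : Matrix ι ι K)}
  mul_mem' := by
    rintro a b ⟨ha, ha'⟩ ⟨hb1, hb'⟩
    refine ⟨?_, ?_⟩
    · rw [Units.val_mul]; exact lowerZero_mul hb ha hb1
    · rw [_root_.mul_inv_rev, Units.val_mul]; exact lowerZero_mul hb hb' ha'
  one_mem' := by
    refine ⟨?_, ?_⟩
    · rw [Units.val_one]; exact lowerZero_one hb
    · rw [inv_one, Units.val_one]; exact lowerZero_one hb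
  inv_mem' := by
    rintro a ⟨ha, ha'⟩
    exact ⟨ha', by rwa [inv_inv]⟩

theorem mem_stab (hb : Function.Bijective (Sum.elim sS sT)) (g : GL ι K) :
    g ∈ stab K hb ↔ LowerZero sS sT (g : Matrix ι ι K) ∧ LowerZero sS sT ((g⁻¹ : GL ι K) : Matrix ι ι K) :=
  Iff.rfl

/-- the upper-left block, as a monoid homomorphism into matrices -/
def blockSM (hb : Function.Bijective (Sum.elim sS sT)) : ↥(stab K hb) →* Matrix κ κ K where
  toFun g := ((g : GL ι K) : Matrix ι ι K).submatrix sS sS
  map_one' := by
    change ((1 : GL ι K) : Matrix ι ι K).submatrix sS sS = 1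
    rw [Units.val_one]; exact blockS_one hb
  map_mul' := by
    rintro ⟨a, ha⟩ ⟨b, hb1⟩
    change ((a * b : GL ι K) : Matrix ι ι K).submatrix sS sS = _
    rw [Units.val_mul]; exact blockS_mul hb hb1.1

/-- the lower-right block, as a monoid homomorphism into matrices -/
def blockTM (hb : Function.Bijective (Sum.elim sS sT)) : ↥(stab K hb) →* Matrix κ κ K where
  toFun g := ((g : GL ι K) : Matrix ι ι K).submatrix sT sT
  map_one' := by
    change ((1 : GL ι K) : Matrix ι ι K).submatrix sT sT = 1
    rw [Units.val_one]; exact blockT_one hb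
  map_mul' := by
    rintro ⟨a, ha⟩ ⟨b, hb1⟩
    change ((a * b : GL ι K) : Matrix ι ι K).submatrix sT sT = _
    rw [Units.val_mul]; exact blockT_mul hb ha.1

/-- the upper-left block homomorphism to `GL` -/
def blockS (hb : Function.Bijective (Sum.elim sS sT)) : ↥(stab K hb) →* GL κ K :=
  (blockSM K hb).toHomUnits

/-- the lower-right block homomorphism to `GL` -/
def blockT (hb : Function.Bijective (Sum.elim sS sT)) : ↥(stab K hb) →* GL κ K :=
  (blockTM K hb).toHomUnits

theorem coe_blockS (hb : Function.Bijective (Sum.elim sS sT)) (g : ↥(stab K hb)) :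
    ((blockS K hb g : GL κ K) : Matrix κ κ K) = ((g : GL ι K) : Matrix ι ι K).submatrix sS sS := rfl

theorem coe_blockT (hb : Function.Bijective (Sum.elim sS sT)) (g : ↥(stab K hb)) :
    ((blockT K hb g : GL κ K) : Matrix κ κ K) = ((g : GL ι K) : Matrix ι ι K).submatrix sT sT := rfl

end

end Cfsg.Agent.Lib.Helper11.Isog
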