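import Cfsg.Agent.Lib.Helper11.IsogAut
import Cfsg.Agent.Lib.Helper7.ChevSimple
import Cfsg.Prelude.Def_ChevF4

/-! The exceptional graph endomorphism of `F₄(K)` in characteristic 2 (helper11). -/

set_option autoImplicit false

namespace Cfsg.Agent.Lib.Helper11.Isog

open Cfsg Cfsg.Lie Matrix Cfsg.Agent.Lib.Helper7 Cfsg.Agent.Lib.Helper11

/-- Cartan coordinate of the `F₄` adjoint module -/
def f4h (i : ℕ) (h : i < chevF4.rank := by decide) : chevF4.Idx := Sum.inl ⟨i, h⟩
/-- root coordinate of the `F₄` adjoint module -/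
def f4r (i : ℕ) (h : i < chevF4.nroots := by decide) : chevF4.Idx := Sum.inr ⟨i, h⟩

/-- the data of the special isogeny of `F₄` in characteristic 2 -/
def f4Data : IsogData chevF4 where
  p := 2
  B := 5
  k := 26
  sS := ![f4h 0, f4h 1, f4r 3, f4r 7, f4r 8, f4r 9, f4r 10, f4r 11, f4r 12, f4r 13, f4r 14, f4r 18, f4r 19, f4r 20, f4r 27, f4r 28, f4r 29, f4r 33, f4r 34, f4r 35, f4r 36, f4r 37, f4r 38, f4r 39, f4r 40, f4r 44]
  sT := ![f4h 3, f4h 2, f4r 0, f4r 1, f4r 2, f4r 4, f4r 15, f4r 5, f4r 16, f4r 21, f4r 23, f4r 6, f4r 17, f4r 22, f4r 25, f4r 30, f4r 41, f4r 24, f4r 26, f4r 31, f4r 42, f4r 32, f4r 43, f4r 45, f4r 46, f4r 47]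
  bar := fun r => [3, 7, 8, 0, 9, 11, 18, 1, 2, 4, 15, 5, 16, 21, 23, 10, 12, 19, 6, 17, 22, 13, 20, 14, 33, 27, 34, 25, 30, 41, 28, 35, 37, 24, 26, 31, 42, 32, 43, 45, 46, 29, 36, 38, 47, 39, 40, 44].getD r 0
  lam := fun r => [1, 1, 1, 2, 1, 1, 1, 2, 2, 2, 2, 2, 2, 2, 2, 1, 1, 1, 2, 2, 2, 1, 1, 1, 1, 1, 1, 2, 2, 2, 1, 1, 1, 2, 2, 2, 2, 2, 2, 2, 2, 1, 1, 1, 2, 1, 1, 1].getD r 1

set_option maxRecDepth 100000 in
theorem f4_check_0 : ∀ r < 8, f4Data.RootCheck (0 + r) := by decide +kernel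

set_option maxRecDepth 100000 in
theorem f4_check_1 : ∀ r < 8, f4Data.RootCheck (8 + r) := by decide +kernel

set_option maxRecDepth 100000 in
theorem f4_check_2 : ∀ r < 8, f4Data.RootCheck (16 + r) := by decide +kernel

set_option maxRecDepth 100000 in
theorem f4_check_3 : ∀ r < 8, f4Data.RootCheck (24 + r) := by decide +kernel

set_option maxRecDepth 100000 in
theorem f4_check_4 : ∀ r < 8, f4Data.RootCheck (32 + r) := by decide +kernel

set_option maxRecDepth 100000 in
theorem f4_check_5 : ∀ r < 8, f4Data.RootCheck (40 + r) := by decide +kernel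

theorem f4_check : ∀ r ∈ List.range 48, f4Data.RootCheck r := by
  intro r hr
  rw [List.mem_range] at hr
  have h : r = 8 * (r / 8) + r % 8 := (Nat.div_add_mod r 8).symm
  have h8 : r % 8 < 8 := Nat.mod_lt _ (by norm_num)
  have hq : r / 8 < 6 := by omega
  rw [h]
  interval_cases (r / 8)
  · exact f4_check_0 _ h8
  · exact f4_check_1 _ h8
  · exact f4_check_2 _ h8
  · exact f4_check_3 _ h8
  · exact f4_check_4 _ h8
  · exact f4_check_5 _ h8

set_option maxRecDepth 100000 in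
theorem f4Valid : f4Data.Valid (List.range 48) where
  bij := by decide +kernel
  check := f4_check
  pos := by decide +kernel
  neg := by decide +kernel

theorem f4_mem : chevF4 ∈ [chevG2, chevB2, chevD4, chevF4, chevE6, chevE7, chevE8] := by simp

section
variable (K : Type*) [Field K] [CharP K 2]

instance : CharP K f4Data.p := inferInstanceAs (CharP K 2)

theorem f4_simple : IsSimpleGroup ↥(chevF4.group K) :=
  (isSimpleGroup_of_mem chevF4 f4_mem K (fun h => by
    exfalso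
    rcases h with h | h
    · exact absurd (congrArg ChevalleyDatum.rank h) (by decide)
    · exact absurd (congrArg ChevalleyDatum.rank h) (by decide))).1

/-- the graph automorphism of `F₄(K)`, `K` perfect of characteristic 2: `x_r(t) ↦ x_{r̄}(t^{λ(r̄)})` for every
root `r` -/
theorem f4_exists_equiv (hperf : ∀ x : K, ∃ y : K, y ^ 2 = x) :
    ∃ α : ↥(chevF4.group K) ≃* ↥(chevF4.group K),
      ∀ r < 48, ∀ t : K, α (xG chevF4 f4_mem K r t) = xG chevF4 f4_mem K (f4Data.bar r) (t ^ f4Data.lam r) := by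
  have := f4_simple K
  have hne : chevF4.x K 33 1 (f4Data.sS (17 : Fin 26)) (f4Data.sS (10 : Fin 26)) ≠ 0 := by
    rw [x_eq_eval]
    have : entryTermsN chevF4 33 (f4Data.sS (17 : Fin 26)) (f4Data.sS (10 : Fin 26)) = [(2, -1)] := by
      decide +kernel
    rw [this]
    simp [evalTerms]
  obtain ⟨α, hα⟩ := exists_equiv_of_simple f4Data f4Valid K f4_mem 33 1 (17 : Fin 26) (10 : Fin 26)
    (show (17 : Fin 26) ≠ 10 by decide) hne 33 (by decide) (by decide) hperf (by decide) (by decide)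
  exact ⟨α, fun r hr t => hα r (List.mem_range.mpr hr) t⟩

end

end Cfsg.Agent.Lib.Helper11.Isog
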