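import Cfsg.Agent.Lib.Helper11.IsogAut
import Cfsg.Agent.Lib.Helper7.ChevSimple
import Cfsg.Prelude.Def_LieTwisted

/-! The exceptional graph endomorphism of `G₂(K)` in characteristic 3 (helper11). -/

set_option autoImplicit false

namespace Cfsg.Agent.Lib.Helper11.Isog

open Cfsg Cfsg.Lie Matrix Cfsg.Agent.Lib.Helper7 Cfsg.Agent.Lib.Helper11

/-- Cartan coordinate of the `G₂` adjoint module -/
def g2h (i : ℕ) (h : i < chevG2.rank := by decide) : chevG2.Idx := Sum.inl ⟨i, h⟩
/-- root coordinate of the `G₂` adjoint module -/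
def g2r (i : ℕ) (h : i < chevG2.nroots := by decide) : chevG2.Idx := Sum.inr ⟨i, h⟩

/-- the data of the special isogeny of `G₂` in characteristic 3: `I` is spanned by `h_a` and the short root
vectors; `bar` swaps short and long roots -/
def g2Data : IsogData chevG2 where
  p := 3
  B := 10
  k := 7
  sS := ![g2h 0, g2r 2, g2r 3, g2r 4, g2r 7, g2r 8, g2r 9]
  sT := ![g2h 1, g2r 0, g2r 1, g2r 5, g2r 6, g2r 10, g2r 11]
  bar := fun r => [2, 3, 0, 1, 5, 4, 7, 6, 10, 11, 8, 9].getD r 0
  lam := fun r => [1, 1, 3, 3, 3, 1, 1, 3, 3, 3, 1, 1].getD r 1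

set_option maxRecDepth 100000 in
theorem g2Valid : g2Data.Valid (List.range 12) where
  bij := by decide +kernel
  check := by decide +kernel
  pos := by decide +kernel
  neg := by decide +kernel

theorem g2_mem : chevG2 ∈ [chevG2, chevB2, chevD4, chevF4, chevE6, chevE7, chevE8] := by simp

section
variable (K : Type*) [Field K] [CharP K 3]

instance : CharP K g2Data.p := inferInstanceAs (CharP K 3)

theorem g2_two_ne : (2 : K) ≠ 0 := by
  intro h
  have : ((2 : ℕ) : K) = 0 := by exact_mod_cast h
  rw [CharP.cast_eq_zero_iff K 3] at this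
  omega

theorem g2_simple : IsSimpleGroup ↥(chevG2.group K) :=
  (isSimpleGroup_of_mem chevG2 g2_mem K (fun _ => ⟨2, g2_two_ne K, by
    intro h
    have : (1 : K) = 0 := by linear_combination h
    exact one_ne_zero this⟩)).1

theorem g2_AG_injective : Function.Injective (AG g2Data g2Valid K g2_mem) := by
  have := g2_simple K
  refine AG_injective_of_simple g2Data g2Valid K g2_mem 7 1 (4 : Fin 7) (3 : Fin 7) (show (4 : Fin 7) ≠ 3 by decide) ?_
  rw [x_eq_eval]
  have : entryTermsN chevG2 7 (g2Data.sS (4 : Fin 7)) (g2Data.sS (3 : Fin 7)) = [(2, -1)] := by decide +kernel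
  rw [this]
  simp [evalTerms]

/-- the graph endomorphism of `G₂(K)`, `char K = 3`: `x_r(t) ↦ x_{r̄}(t^{λ(r̄)})` for every root `r` -/
theorem g2_exists_hom :
    ∃ α : ↥(chevG2.group K) →* ↥(chevG2.group K), Function.Injective α ∧
      ∀ r < 12, ∀ t : K, α (xG chevG2 g2_mem K r t) = xG chevG2 g2_mem K (g2Data.bar r) (t ^ g2Data.lam r) := by
  have := g2_simple K
  obtain ⟨α, -, hα⟩ := exists_hom g2Data g2Valid K g2_mem (g2_AG_injective K)
  refine ⟨α, ?_, fun r hr t => hα r (List.mem_range.mpr hr) t⟩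
  apply injective_of_simple K g2_mem α 6 1
  rw [hα 6 (by decide)]
  exact xG_ne_one K g2_mem 7 (by decide) _ (by simp)

/-- over a perfect field it is an automorphism -/
theorem g2_exists_equiv (hperf : ∀ x : K, ∃ y : K, y ^ 3 = x) :
    ∃ α : ↥(chevG2.group K) ≃* ↥(chevG2.group K),
      ∀ r < 12, ∀ t : K, α (xG chevG2 g2_mem K r t) = xG chevG2 g2_mem K (g2Data.bar r) (t ^ g2Data.lam r) := by
  obtain ⟨α, hinj, hα⟩ := g2_exists_hom K
  have hα' : ∀ r ∈ List.range 12, ∀ t : K,
      α (xG chevG2 g2_mem K r t) = xG chevG2 g2_mem K (g2Data.bar r) (t ^ g2Data.lam r) :=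
    fun r hr t => hα r (List.mem_range.mp hr) t
  have hsurj : Function.Surjective α := by
    apply surjective_of_perfect g2Data g2Valid K g2_mem α hα'
    · intro j hj
      have hj' : j = 0 ∨ j = 1 := by
        have : j < 2 := hj
        omega
      rcases hj' with rfl | rfl
      · exact ⟨6, by decide, by decide, fun u => ⟨u, by simp [g2Data]⟩⟩
      · exact ⟨7, by decide, by decide, fun u => by
          obtain ⟨y, hy⟩ := hperf u
          exact ⟨y, by simpa [g2Data] using hy⟩⟩
    · intro j hj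
      have hj' : j = 0 ∨ j = 1 := by
        have : j < 2 := hj
        omega
      rcases hj' with rfl | rfl
      · exact ⟨5, by decide, by decide, fun u => ⟨u, by simp [g2Data]⟩⟩
      · exact ⟨4, by decide, by decide, fun u => by
          obtain ⟨y, hy⟩ := hperf u
          exact ⟨y, by simpa [g2Data] using hy⟩⟩
  exact ⟨MulEquiv.ofBijective α ⟨hinj, hsurj⟩, fun r hr t => hα r hr t⟩

end

end Cfsg.Agent.Lib.Helper11.Isog
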