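import Mathlib
import Cfsg.Agent.Lib.Helper11.LSDefs
import Cfsg.Agent.Lib.Helper11.LSA1
import Cfsg.Agent.Lib.Helper1.LSP3
import Cfsg.Agent.Lib.Helper1.LSD2
import Cfsg.Agent.Lib.Helper18.LSA2
import Cfsg.Agent.Lib.Helper18.LSD1
import Cfsg.Agent.Lib.Helper18.LSO
import Cfsg.Agent.Lib.Helper20.LSP2
import Cfsg.Agent.Lib.Helper20.LSQ2
import Cfsg.Agent.Lib.Helper24.LSP1
import Cfsg.Agent.Lib.Helper24.LSQ3
import Cfsg.Agent.Lib.Helper24.LSQ4
import Cfsg.Agent.Lib.Helper15.LSQ1

/-!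
# Orders of isometry groups of quadratic forms in characteristic 2 (for S2333)

`card_isoGroup_le_Ab` (non-defective forms), `card_isoGroup_le_Bb` (forms with non-zero polar
form) and the orbit count `orbit_bound`.
-/

set_option autoImplicit false

namespace Cfsg.Agent.Lib.Helper11.LS

open QuadraticMap Module

universe u
variable {F : Type*} [Field F] {V : Type u} [AddCommGroup V] [Module F V]

/-- Theorem A: the isometry group of a non-defective form of dimension `n` has order `≤ Ab q n` -/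
theorem card_isoGroup_le_Ab [Fintype F] [CharP F 2] : ∀ (n : ℕ) (V : Type u) [AddCommGroup V]
    [Module F V] [Finite V] (Q : QuadraticForm F V), Nondef Q → finrank F V = n →
    Nat.card (isoGroup Q) ≤ Ab (Fintype.card F) n := by
  intro n
  induction n using Nat.strong_induction_on with
  | _ n ih =>
    intro V _ _ _ Q hQ hn
    match n, ih, hn with
    | 0, _, hn =>
      exact Cfsg.Agent.Lib.Helper15.LSLeaf.card_isoGroup_le_one Q hQ (by omega)
    | 1, _, hn =>
      exact Cfsg.Agent.Lib.Helper15.LSLeaf.card_isoGroup_le_one Q hQ (by omega)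
    | 2, _, hn =>
      exact Cfsg.Agent.Lib.Helper20.LSLeaf.card_isoGroup_two Q
        (Cfsg.Agent.Lib.Helper24.LSLeaf.exists_polar_ne_zero Q hQ (by omega)) hn
    | (m + 3), ih, hn =>
      obtain ⟨v, w, hvw⟩ := Cfsg.Agent.Lib.Helper24.LSLeaf.exists_hypPair Q hQ (by omega)
      have h1 := Cfsg.Agent.Lib.Helper1.LSLeaf.card_isoGroup_le_pairs Q hvw
      have h2 := Cfsg.Agent.Lib.Helper20.LSLeaf.card_hypPairs_le Q (by omega)
      have h3 := Cfsg.Agent.Lib.Helper24.LSLeaf.finrank_perp2 Q hvw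
      have h4 := ih (m + 1) (by omega) (perp2 Q v w) (Q.comp (perp2 Q v w).subtype)
        (Cfsg.Agent.Lib.Helper24.LSLeaf.nondef_perp2 Q hQ hvw) (by omega)
      rw [hn] at h2
      have e : m + 3 - 2 = m + 1 := by omega
      rw [e] at h2
      show _ ≤ (Fintype.card F ^ (m + 3) - 1) * Fintype.card F ^ (m + 1) *
        Ab (Fintype.card F) (m + 1)
      calc Nat.card (isoGroup Q) ≤ _ := h1
        _ ≤ _ := Nat.mul_le_mul h2 h4

/-- the defective reduction -/
theorem exists_nondef_compl [Fintype F] [CharP F 2] [Finite V] (Q : QuadraticForm F V)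
    (hb : ∃ v w, polar Q v w ≠ 0) :
    ∃ V₁ : Submodule F V, 2 ≤ finrank F V₁ ∧ Nondef (Q.comp V₁.subtype) ∧
      Nat.card (isoGroup Q) ≤ Nat.card (isoGroup (Q.comp V₁.subtype)) *
        Fintype.card F ^ (finrank F V₁ * (finrank F V - finrank F V₁)) *
        gl (Fintype.card F) (finrank F V - finrank F V₁) := by
  obtain ⟨V₁, hc, h2, hnd⟩ := Cfsg.Agent.Lib.Helper18.LSLeaf.exists_compl_radical Q hb
  exact ⟨V₁, h2, hnd, Cfsg.Agent.Lib.Helper1.LSLeaf.card_isoGroup_le_of_isCompl Q V₁ hc⟩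

/-- Theorem T: the isometry group of a form with non-zero polar form has order `≤ Bb q n` -/
theorem card_isoGroup_le_Bb [Fintype F] [CharP F 2] [Finite V] (Q : QuadraticForm F V)
    (hb : ∃ v w, polar Q v w ≠ 0) :
    Nat.card (isoGroup Q) ≤ Bb (Fintype.card F) (finrank F V) := by
  obtain ⟨V₁, h2, hnd, hle⟩ := exists_nondef_compl Q hb
  have hA := card_isoGroup_le_Ab (F := F) (finrank F V₁) V₁ (Q.comp V₁.subtype) hnd rfl
  have hle1 : finrank F V₁ ≤ finrank F V := Submodule.finrank_le V₁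
  have hq : 2 ≤ Fintype.card F := by
    have := Fintype.one_lt_card (α := F)
    omega
  refine le_trans hle (le_trans ?_ (Ab_mul_le _ hq _ _ h2 hle1))
  exact Nat.mul_le_mul_right _ (Nat.mul_le_mul_right _ hA)

/-- the orbit count -/
theorem orbit_bound [Fintype F] [CharP F 2] {n : ℕ} (hn : 2 ≤ n) {W : Type*} [Fintype W]
    (Φ : W → QuadraticForm F (Fin n → F)) (hΦ : Function.Injective Φ)
    (hcl : ∀ (a : W) (g : (Fin n → F) ≃ₗ[F] (Fin n → F)), ∃ b : W, Φ b = (Φ a).comp g.toLinearMap)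
    (a₀ : W) (hb : ∃ v w, polar (Φ a₀) v w ≠ 0) :
    (Fintype.card F ^ n - 1) * (Fintype.card F ^ n - Fintype.card F) ≤
      2 * (Fintype.card F + 1) * Fintype.card W := by
  have hq : 2 ≤ Fintype.card F := by
    have := Fintype.one_lt_card (α := F)
    omega
  refine Cfsg.Agent.Lib.Helper18.LSLeaf.orbit_bound_of Φ hΦ hcl a₀ (gl_eq _ hq n hn)
    (Bb_pos _ hq n) ?_
  have h := card_isoGroup_le_Bb (Φ a₀) hb
  rwa [Module.finrank_fin_fun] at h

end Cfsg.Agent.Lib.Helper11.LS
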