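import Mathlib
import Cfsg.Agent.Lib.Helper11.LSDefs
import Cfsg.Agent.Lib.Helper11.LSSp
import Cfsg.Agent.Lib.Helper11.LSMain
import Cfsg.Agent.Lib.Helper18.LSR2
import Cfsg.Agent.Lib.Helper15.OrbitBound
import Cfsg.Agent.S2392

/-! # The representation-theoretic core of S2333 -/

set_option autoImplicit false

namespace Cfsg.Agent.Lib.Helper11.LS

open QuadraticMap Module Matrix Cfsg.Agent.Lib.Helper15.OrbitBound Cfsg.Agent.Lib.Helper18.LSLeaf

variable {F : Type*} [Field F] {n : ℕ}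

theorem main_aux [Fintype F] [CharP F 2] (hn : 2 ≤ n) {K : Type*} [Field K]
    (hK : ringChar K ≠ ringChar F) {d : ℕ}
    (ρ : ↥(Matrix.symplecticGroup (Fin n) F) →* GL (Fin d) K)
    (hker : ρ.ker ≤ Subgroup.center ↥(Matrix.symplecticGroup (Fin n) F)) :
    (Fintype.card F ^ n - 1) * (Fintype.card F ^ n - Fintype.card F) ≤
      2 * (Fintype.card F + 1) * d := by
  classical
  let ψ₀ := AddChar.FiniteField.primitiveChar F K hK
  let L := CyclotomicField ψ₀.n K
  let ψ : AddChar F L := ψ₀.char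
  have hψ : ψ.IsPrimitive := ψ₀.prim
  have hinj : Function.Injective (algebraMap K L) := (algebraMap K L).injective
  let σ : ↥(Matrix.symplecticGroup (Fin n) F) →* Matrix (Fin d) (Fin d) L :=
    ((RingHom.mapMatrix (algebraMap K L)).toMonoidHom.comp (Units.coeHom _)).comp ρ
  have hσ1 : ∀ g, σ g = 1 → g ∈ ρ.ker := by
    intro g hg
    rw [MonoidHom.mem_ker]
    apply Units.ext
    have : (RingHom.mapMatrix (algebraMap K L)) ((ρ g : GL (Fin d) K) : Matrix (Fin d) (Fin d) K) =
        (RingHom.mapMatrix (algebraMap K L)) 1 := by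
      rw [map_one]; exact hg
    exact Matrix.map_injective hinj this
  let x : (UT n → F) → Matrix (Fin d) (Fin d) L := fun v => σ (X v)
  have hxa : ∀ v w, x (v + w) = x v * x w := fun v w => by
    show σ (X (v + w)) = σ (X v) * σ (X w)
    rw [X_add, map_mul]
  have hx0 : x 0 = 1 := by
    show σ (X 0) = 1
    rw [X_zero, map_one]
  have hcard : (Fintype.card (UT n → F) : L) ≠ 0 := by
    rw [Fintype.card_fun]
    push_cast
    exact pow_ne_zero _ (Cfsg.Agent.S2392.card_ne_zero_of_char hK)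
  -- the weights that occur
  let W := {u : UT n → F // Pr ψ x u ≠ 0}
  have hWd : Fintype.card W ≤ d := by
    refine card_le_of_orthogonal (κ := W) (fun p => Pr ψ x p.1) (fun p p' => ?_) (fun p => p.2)
    rw [Pr_mul_Pr ψ x hψ hcard hxa]
    by_cases hpp : p = p'
    · rw [if_pos hpp, if_pos (by rw [hpp])]
    · rw [if_neg hpp, if_neg]
      intro h
      exact hpp (Subtype.ext h)
  -- closure under the Levi factor
  have hcl : ∀ (a : W) (g : (Fin n → F) ≃ₗ[F] (Fin n → F)),
      ∃ b : W, qf b.1 = (qf a.1).comp g.toLinearMap := by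
    intro a g
    set M : Matrix (Fin n) (Fin n) F := LinearMap.toMatrix' g.symm.toLinearMap with hM
    set M' : Matrix (Fin n) (Fin n) F := LinearMap.toMatrix' g.toLinearMap with hM'
    have hMM' : M * M' = 1 := by
      rw [hM, hM', ← LinearMap.toMatrix'_comp]
      have : g.symm.toLinearMap ∘ₗ g.toLinearMap = LinearMap.id := by
        ext v : 1
        simp
      rw [this, LinearMap.toMatrix'_id]
    have hM'M : M' * M = 1 := by
      rw [hM, hM', ← LinearMap.toMatrix'_comp]
      have : g.toLinearMap ∘ₗ g.symm.toLinearMap = LinearMap.id := by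
        ext v : 1
        simp
      rw [this, LinearMap.toMatrix'_id]
    obtain ⟨u', hu'⟩ := exists_dual (NL M M' hMM' hM'M) a.1
    have hunit : IsUnit (σ (Lv M M' hM'M)) := by
      refine ⟨⟨σ (Lv M M' hM'M), σ (Lv M M' hM'M)⁻¹, ?_, ?_⟩, rfl⟩
      · rw [← map_mul, mul_inv_cancel, map_one]
      · rw [← map_mul, inv_mul_cancel, map_one]
    have hne : Pr ψ x u' ≠ 0 := by
      refine Pr_ne_zero_of_conj ψ x hunit (N := (NL M M' hMM' hM'M).toEquiv) ?_ ?_ a.2
      · intro v
        show σ (Lv M M' hM'M) * σ (X v) = σ (X (Nmap M v)) * σ (Lv M M' hM'M)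
        rw [← map_mul, ← map_mul, Lv_mul_X]
      · intro v
        exact hu' v
    refine ⟨⟨u', hne⟩, ?_⟩
    ext ℓ
    rw [QuadraticMap.comp_apply]
    have h1 : M *ᵥ (g ℓ) = ℓ := by
      rw [hM, LinearMap.toMatrix'_mulVec]
      simp
    have h2 := qf_of_dual a.1 u' M (fun v => hu' v) (g ℓ)
    rw [h1] at h2
    exact h2
  -- a weight with non-zero polar form
  obtain ⟨m, rfl⟩ : ∃ m, n = m + 2 := ⟨n - 2, by omega⟩
  have h01 : ((0 : Fin (m + 2)), (1 : Fin (m + 2))).1 ≤ ((0 : Fin (m + 2)), (1 : Fin (m + 2))).2 :=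
    Fin.zero_le _
  let p01 : UT (m + 2) := ⟨(0, 1), h01⟩
  have hne1 : x (Pi.single p01 1) ≠ 1 := by
    intro hx1
    have h1 := hker (hσ1 _ hx1)
    have h3 := X_center h1
    have h4 := congrFun h3 p01
    rw [Pi.single_eq_same] at h4
    exact one_ne_zero h4
  obtain ⟨u₀, hu₀, hu₀'⟩ := exists_of_ne_one ψ x hψ hcard hx0 hne1
  have hu₀01 : u₀ p01 ≠ 0 := by
    rwa [dotProduct_single, mul_one] at hu₀'
  have hlt : (0 : Fin (m + 2)) < 1 := by
    rw [Fin.lt_def]; simp
  have hb : ∃ v w, polar (qf u₀) v w ≠ 0 := by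
    refine ⟨Pi.single 0 1, Pi.single 1 1, ?_⟩
    rw [polar_qf_single u₀ hlt]
    exact hu₀01
  have key := orbit_bound (F := F) hn (W := W) (fun w => qf w.1)
    (fun a b h => Subtype.ext (qf_injective h)) hcl ⟨u₀, hu₀⟩ hb
  calc (Fintype.card F ^ (m + 2) - 1) * (Fintype.card F ^ (m + 2) - Fintype.card F)
      ≤ 2 * (Fintype.card F + 1) * Fintype.card W := key
    _ ≤ 2 * (Fintype.card F + 1) * d := Nat.mul_le_mul_left _ hWd

end Cfsg.Agent.Lib.Helper11.LS
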