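import Mathlib

/-!
# Leaf lemmas for S6000 (second batch; statements by helper12, proofs by helper11)
-/

set_option autoImplicit false
open Polynomial Module
open scoped MatrixGroups

namespace Cfsg.Agent.Lib.Helper11.Leaf

/-- (L6a) an element of order 3 of `SL₄` with `tr(x) tr(x⁻¹) = 7` (take `diag(1, ω, ω, ω)`) -/
theorem L6a {F : Type*} [Field F] (h3 : (3 : F) ≠ 0) (ω : F) (hω : ω ^ 2 + ω + 1 = 0) :
    ∃ x : GL (Fin 4) F, Matrix.det (x : Matrix (Fin 4) (Fin 4) F) = 1 ∧ x ^ 3 = 1 ∧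
      (∀ z : F, (x : Matrix (Fin 4) (Fin 4) F) ≠ z • (1 : Matrix (Fin 4) (Fin 4) F)) ∧
      (x : Matrix (Fin 4) (Fin 4) F).trace * ((x⁻¹ : GL (Fin 4) F) : Matrix (Fin 4) (Fin 4) F).trace
        = 7 := by
  have hω3 : ω ^ 3 = 1 := by
    have : ω ^ 3 - 1 = (ω - 1) * (ω ^ 2 + ω + 1) := by ring
    rw [hω, mul_zero] at this
    exact sub_eq_zero.mp this
  have hω1 : ω ≠ 1 := by
    intro h
    rw [h] at hω
    apply h3
    rw [← hω]
    norm_num
  have hd1 : Matrix.diagonal ![1, ω, ω, ω] * Matrix.diagonal ![1, ω ^ 2, ω ^ 2, ω ^ 2] =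
      (1 : Matrix (Fin 4) (Fin 4) F) := by
    rw [Matrix.diagonal_mul_diagonal, ← Matrix.diagonal_one]
    congr 1
    funext i
    fin_cases i
    · simp
    · simp; linear_combination hω3
    · simp; linear_combination hω3
    · simp; linear_combination hω3
  have hd2 : Matrix.diagonal ![1, ω ^ 2, ω ^ 2, ω ^ 2] * Matrix.diagonal ![1, ω, ω, ω] =
      (1 : Matrix (Fin 4) (Fin 4) F) := mul_eq_one_comm.mp hd1
  refine ⟨⟨Matrix.diagonal ![1, ω, ω, ω], Matrix.diagonal ![1, ω ^ 2, ω ^ 2, ω ^ 2], hd1, hd2⟩,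
    ?_, ?_, ?_, ?_⟩
  · change (Matrix.diagonal ![1, ω, ω, ω]).det = 1
    rw [Matrix.det_diagonal, Fin.prod_univ_four]
    simp
    linear_combination hω3
  · apply Units.ext
    rw [Units.val_pow_eq_pow_val, Units.val_one]
    change (Matrix.diagonal ![1, ω, ω, ω]) ^ 3 = 1
    rw [Matrix.diagonal_pow, ← Matrix.diagonal_one]
    congr 1
    funext i
    fin_cases i <;> simp [hω3]
  · intro z hz
    change Matrix.diagonal ![1, ω, ω, ω] = z • (1 : Matrix (Fin 4) (Fin 4) F) at hz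
    have h0 := congrFun (congrFun hz 0) 0
    have h1 := congrFun (congrFun hz 1) 1
    simp at h0 h1
    apply hω1
    rw [h1, ← h0]
  · change (Matrix.diagonal ![1, ω, ω, ω]).trace * (Matrix.diagonal ![1, ω ^ 2, ω ^ 2, ω ^ 2]).trace = 7
    rw [Matrix.trace_diagonal, Matrix.trace_diagonal, Fin.sum_univ_four, Fin.sum_univ_four]
    simp
    linear_combination 3 * hω + 9 * hω3

/-- (L6b) an element of order 5 of `SL₄` with traces `2 + τ` (take `1 ⊕ 1 ⊕ [[0,-1],[1,τ]]`) -/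
theorem L6b {F : Type*} [Field F] (τ : F) (hτ : τ ^ 2 + τ - 1 = 0) :
    ∃ x : GL (Fin 4) F, Matrix.det (x : Matrix (Fin 4) (Fin 4) F) = 1 ∧ x ^ 5 = 1 ∧
      (∀ z : F, (x : Matrix (Fin 4) (Fin 4) F) ≠ z • (1 : Matrix (Fin 4) (Fin 4) F)) ∧
      (x : Matrix (Fin 4) (Fin 4) F).trace = 2 + τ ∧
      ((x⁻¹ : GL (Fin 4) F) : Matrix (Fin 4) (Fin 4) F).trace = 2 + τ := by
  have hτ2 : τ ^ 2 = 1 - τ := by linear_combination hτ
  have hd1 : (!![1,0,0,0;0,1,0,0;0,0,0,-1;0,0,1,τ] : Matrix (Fin 4) (Fin 4) F) *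
      !![1,0,0,0;0,1,0,0;0,0,τ,1;0,0,-1,0] = 1 := by
    ext i j
    fin_cases i <;> fin_cases j <;> simp [Matrix.mul_apply, Fin.sum_univ_four]
  have hd2 : (!![1,0,0,0;0,1,0,0;0,0,τ,1;0,0,-1,0] : Matrix (Fin 4) (Fin 4) F) *
      !![1,0,0,0;0,1,0,0;0,0,0,-1;0,0,1,τ] = 1 := mul_eq_one_comm.mp hd1
  refine ⟨⟨!![1,0,0,0;0,1,0,0;0,0,0,-1;0,0,1,τ], !![1,0,0,0;0,1,0,0;0,0,τ,1;0,0,-1,0], hd1, hd2⟩,
    ?_, ?_, ?_, ?_, ?_⟩
  · change (!![1,0,0,0;0,1,0,0;0,0,0,-1;0,0,1,τ] : Matrix (Fin 4) (Fin 4) F).det = 1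
    rw [Matrix.det_succ_row_zero]
    simp [Fin.sum_univ_four, Matrix.det_fin_three, Fin.succAbove, Matrix.submatrix]
  · apply Units.ext
    rw [Units.val_pow_eq_pow_val, Units.val_one]
    change (!![1,0,0,0;0,1,0,0;0,0,0,-1;0,0,1,τ] : Matrix (Fin 4) (Fin 4) F) ^ 5 = 1
    have e2 : (!![1,0,0,0;0,1,0,0;0,0,0,-1;0,0,1,τ] : Matrix (Fin 4) (Fin 4) F) ^ 2 =
        !![1,0,0,0;0,1,0,0;0,0,-1,-τ;0,0,τ,τ^2-1] := by
      rw [pow_two]
      ext i j
      fin_cases i <;> fin_cases j <;> simp [Matrix.mul_apply, Fin.sum_univ_four] <;> ring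
    have e4 : (!![1,0,0,0;0,1,0,0;0,0,0,-1;0,0,1,τ] : Matrix (Fin 4) (Fin 4) F) ^ 4 =
        !![1,0,0,0;0,1,0,0;0,0,τ,1;0,0,-1,0] := by
      have e22 : (!![1,0,0,0;0,1,0,0;0,0,0,-1;0,0,1,τ] : Matrix (Fin 4) (Fin 4) F) ^ 4 =
          ((!![1,0,0,0;0,1,0,0;0,0,0,-1;0,0,1,τ] : Matrix (Fin 4) (Fin 4) F) ^ 2) ^ 2 := by
        rw [← pow_mul]
      rw [e22, e2, pow_two]
      ext i j
      fin_cases i <;> fin_cases j <;> simp [Matrix.mul_apply, Fin.sum_univ_four] <;>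
        first
          | linear_combination (-1 : F) * hτ
          | linear_combination (1 - τ) * hτ
          | linear_combination (τ - 1) * hτ
          | linear_combination (τ ^ 2 - τ - 1) * hτ
    have e5 : (!![1,0,0,0;0,1,0,0;0,0,0,-1;0,0,1,τ] : Matrix (Fin 4) (Fin 4) F) ^ 5 =
        (!![1,0,0,0;0,1,0,0;0,0,0,-1;0,0,1,τ] : Matrix (Fin 4) (Fin 4) F) ^ 4 *
          !![1,0,0,0;0,1,0,0;0,0,0,-1;0,0,1,τ] := by
      rw [← pow_succ]
    rw [e5, e4]
    exact hd2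
  · intro z hz
    change (!![1,0,0,0;0,1,0,0;0,0,0,-1;0,0,1,τ] : Matrix (Fin 4) (Fin 4) F) =
      z • (1 : Matrix (Fin 4) (Fin 4) F) at hz
    have h0 := congrFun (congrFun hz 3) 2
    simp at h0
  · change (!![1,0,0,0;0,1,0,0;0,0,0,-1;0,0,1,τ] : Matrix (Fin 4) (Fin 4) F).trace = 2 + τ
    rw [Matrix.trace, Fin.sum_univ_four]
    simp
    ring
  · change (!![1,0,0,0;0,1,0,0;0,0,τ,1;0,0,-1,0] : Matrix (Fin 4) (Fin 4) F).trace = 2 + τ
    rw [Matrix.trace, Fin.sum_univ_four]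
    simp
    ring

/-- (L6c) a transvection -/
theorem L6c {F : Type*} [Field F] :
    ∃ x : GL (Fin 4) F, Matrix.det (x : Matrix (Fin 4) (Fin 4) F) = 1 ∧
      ((x : Matrix (Fin 4) (Fin 4) F) - 1) * ((x : Matrix (Fin 4) (Fin 4) F) - 1) = 0 ∧
      (∀ z : F, (x : Matrix (Fin 4) (Fin 4) F) ≠ z • (1 : Matrix (Fin 4) (Fin 4) F)) := by
  have hss : (Matrix.single (0 : Fin 4) (1 : Fin 4) (1 : F)) * Matrix.single 0 1 1 = 0 := by
    rw [Matrix.single_mul_single_of_ne]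
    decide
  have hd1 : ((1 : Matrix (Fin 4) (Fin 4) F) + Matrix.single 0 1 1) *
      (1 - Matrix.single 0 1 1) = 1 := by
    have e : ((1 : Matrix (Fin 4) (Fin 4) F) + Matrix.single 0 1 1) *
        (1 - Matrix.single 0 1 1) = 1 - Matrix.single 0 1 1 * Matrix.single 0 1 1 := by
      noncomm_ring
    rw [e, hss, sub_zero]
  have hd2 : ((1 : Matrix (Fin 4) (Fin 4) F) - Matrix.single 0 1 1) *
      (1 + Matrix.single 0 1 1) = 1 := mul_eq_one_comm.mp hd1
  refine ⟨⟨1 + Matrix.single 0 1 1, 1 - Matrix.single 0 1 1, hd1, hd2⟩, ?_, ?_, ?_⟩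
  · change ((1 : Matrix (Fin 4) (Fin 4) F) + Matrix.single 0 1 1).det = 1
    exact Matrix.det_transvection_of_ne 0 1 (by decide) 1
  · change ((1 : Matrix (Fin 4) (Fin 4) F) + Matrix.single 0 1 1 - 1) *
      ((1 : Matrix (Fin 4) (Fin 4) F) + Matrix.single 0 1 1 - 1) = 0
    rw [add_sub_cancel_left, hss]
  · intro z hz
    change (1 : Matrix (Fin 4) (Fin 4) F) + Matrix.single 0 1 1 = z • (1 : Matrix (Fin 4) (Fin 4) F) at hz
    have h0 := congrFun (congrFun hz 0) 1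
    simp [Matrix.single] at h0

/-- (L6d) a primitive cube root of unity in `F_p`, `p = 1 mod 3` -/
theorem L6d {F : Type*} [Field F] [Fintype F] {p : ℕ} [Fact p.Prime] [CharP F p]
    (hF : Fintype.card F = p) (h : p % 3 = 1) : ∃ ω : F, ω ^ 2 + ω + 1 = 0 := by
  classical
  have hcard : Fintype.card Fˣ = p - 1 := by rw [Fintype.card_units, hF]
  have h3 : 3 ∣ Fintype.card Fˣ := by
    rw [hcard]
    omega
  haveI : Fact (Nat.Prime 3) := ⟨Nat.prime_three⟩
  obtain ⟨u, hu⟩ := exists_prime_orderOf_dvd_card 3 h3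
  refine ⟨(u : F), ?_⟩
  have hu3 : (u : F) ^ 3 = 1 := by
    have := pow_orderOf_eq_one u
    rw [hu] at this
    have h2 := congrArg Units.val this
    simpa using h2
  have hu1 : (u : F) ≠ 1 := by
    intro h1
    have : u = 1 := Units.ext h1
    rw [this, orderOf_one] at hu
    norm_num at hu
  have hfac : ((u : F) - 1) * ((u : F) ^ 2 + (u : F) + 1) = 0 := by
    have : ((u : F) - 1) * ((u : F) ^ 2 + (u : F) + 1) = (u : F) ^ 3 - 1 := by ring
    rw [this, hu3, sub_self]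
  rcases mul_eq_zero.mp hfac with h0 | h0
  · exact absurd (sub_eq_zero.mp h0) hu1
  · exact h0

/-- (L8) `n`-th roots in a finite field when `n ≠ 0` is prime to `q - 1`
(the original statement without `n ≠ 0` fails for `n = 0`, `|F| = 2`, `lam = 0`) -/
theorem L8 {F : Type*} [Field F] [Fintype F] (n : ℕ) (hn0 : n ≠ 0)
    (hn : Nat.Coprime n (Fintype.card F - 1))
    (lam : F) : ∃ μ : F, μ ^ n = lam := by
  classical
  by_cases h0 : lam = 0
  · refine ⟨0, ?_⟩
    rw [h0]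
    exact zero_pow hn0
  · -- unit case
    have hcard : Fintype.card Fˣ = Fintype.card F - 1 := Fintype.card_units F
    have hcop : Nat.Coprime (Nat.card Fˣ) n := by
      rw [Nat.card_eq_fintype_card, hcard]
      exact hn.symm
    obtain ⟨v, hv⟩ := (powCoprime hcop).surjective (Units.mk0 lam h0)
    refine ⟨(v : F), ?_⟩
    have := congrArg Units.val hv
    simpa using this

/-- (L11) `X² + X + 1` is irreducible over `F_p`, `p = 2 mod 3` -/
theorem L11 {F : Type*} [Field F] [Fintype F] {p : ℕ} [Fact p.Prime] [CharP F p]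
    (hF : Fintype.card F = p) (h : p % 3 = 2) : Irreducible (X ^ 2 + X + 1 : F[X]) := by
  classical
  have hcard : Fintype.card Fˣ = p - 1 := by rw [Fintype.card_units, hF]
  have hdeg : (X ^ 2 + X + 1 : F[X]).natDegree = 2 := by
    compute_degree!
  have hmonic : (X ^ 2 + X + 1 : F[X]).Monic := by
    monicity!
  have h3ne : (3 : F) ≠ 0 := by
    intro h3
    have : (p : ℕ) ∣ 3 := (CharP.cast_eq_zero_iff F p 3).mp (by exact_mod_cast h3)
    have hp3 : p = 3 := ((Nat.prime_dvd_prime_iff_eq (Fact.out : p.Prime) Nat.prime_three).mp this)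
    omega
  apply Polynomial.irreducible_of_degree_le_three_of_not_isRoot
  · rw [hdeg]; simp
  · intro x hx
    rw [Polynomial.IsRoot.def] at hx
    simp only [eval_add, eval_pow, eval_X, eval_one] at hx
    have hx3 : x ^ 3 = 1 := by
      have : x ^ 3 - 1 = (x - 1) * (x ^ 2 + x + 1) := by ring
      rw [hx, mul_zero] at this
      exact sub_eq_zero.mp this
    have hx1 : x ≠ 1 := by
      intro h1
      rw [h1] at hx
      apply h3ne
      rw [← hx]; norm_num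
    have hx0 : x ≠ 0 := by
      intro h0'
      rw [h0'] at hx3
      norm_num at hx3
    have ho : orderOf (Units.mk0 x hx0) = 3 := by
      apply orderOf_eq_prime
      · apply Units.ext
        simpa using hx3
      · intro h1
        apply hx1
        have := congrArg Units.val h1
        simpa using this
    have hdvd : 3 ∣ Fintype.card Fˣ := by
      rw [← ho]
      exact orderOf_dvd_card
    rw [hcard] at hdvd
    omega

end Cfsg.Agent.Lib.Helper11.Leaf
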