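/-
helper11: S4923 leaves (NORM) `exists_mem_sylow_conj`, (EVEN) `two_dvd_index_centralizer`,
(ODD) `not_two_dvd_index_centralizer` (planner helper17; frozen signatures in
notes/S4923_leaves.lean).  Mathlib only.
-/
import Mathlib

set_option autoImplicit false

namespace Cfsg.Agent.Lib.Helper11.MCF

universe u
variable {G : Type u} [Group G] [Finite G]

/-- (ODD) -/
theorem not_two_dvd_index_centralizer (P : Sylow 2 G) (g : G)
    (h : (P : Subgroup G) ≤ Subgroup.centralizer ({g} : Set G)) :
    ¬ 2 ∣ (Subgroup.centralizer ({g} : Set G)).index := by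
  intro h2
  have h1 : (Subgroup.centralizer ({g} : Set G)).index ∣ (P : Subgroup G).index :=
    Subgroup.index_dvd_of_le h
  exact P.not_dvd_index (dvd_trans h2 h1)

/-- a `2`-group acting on the cosets of a subgroup of odd index fixes a coset. -/
theorem exists_conj_le_of_odd_index (P : Sylow 2 G) (C : Subgroup G) (hC : ¬ 2 ∣ C.index) :
    ∃ x : G, ∀ u ∈ (P : Subgroup G), x⁻¹ * u * x ∈ C := by
  have hfix := P.2.nonempty_fixed_point_of_prime_not_dvd_card (G ⧸ C) (by
    rw [← Subgroup.index_eq_card]; exact hC)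
  obtain ⟨xC, hx⟩ := hfix
  obtain ⟨x, rfl⟩ := QuotientGroup.mk_surjective xC
  refine ⟨x, fun u hu => ?_⟩
  have h1 := hx ⟨u, hu⟩
  have h2 : ((u * x : G) : G ⧸ C) = (x : G ⧸ C) := h1
  rw [QuotientGroup.eq] at h2
  have h3 : x⁻¹ * u * x = ((u * x)⁻¹ * x)⁻¹ := by group
  rw [h3]
  exact C.inv_mem h2

/-- (EVEN) an element of order `2^(n-1)` of a nonabelian Sylow 2-subgroup of order `2^n` has even
class size. -/
theorem two_dvd_index_centralizer (P : Sylow 2 G) (n : ℕ) (hP : Nat.card P = 2 ^ n) (g : G)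
    (hgP : g ∈ (P : Subgroup G)) (hg : orderOf g = 2 ^ (n - 1))
    (hnab : ¬ ∀ a b : P, a * b = b * a) :
    2 ∣ (Subgroup.centralizer ({g} : Set G)).index := by
  classical
  by_contra hodd
  apply hnab
  obtain ⟨x, hx⟩ := exists_conj_le_of_odd_index P _ hodd
  -- g' = x g x⁻¹ is centralised by P
  set g' : G := x * g * x⁻¹ with hg'
  have hcomm : ∀ u ∈ (P : Subgroup G), u * g' = g' * u := by
    intro u hu
    have h1 := Subgroup.mem_centralizer_iff.mp (hx u hu) g (Set.mem_singleton g)
    -- h1 : g * (x⁻¹ * u * x) = x⁻¹ * u * x * g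
    calc u * g' = x * ((x⁻¹ * u * x) * g) * x⁻¹ := by rw [hg']; group
      _ = x * (g * (x⁻¹ * u * x)) * x⁻¹ := by rw [h1]
      _ = g' * u := by rw [hg']; group
  have hord' : orderOf g' = 2 ^ (n - 1) := by
    rw [hg']
    have : x * g * x⁻¹ = MulAut.conj x g := by simp
    rw [this, MulEquiv.orderOf_eq, hg]
  -- g' ∈ P
  have hg'P : g' ∈ (P : Subgroup G) := by
    have hp : IsPGroup 2 ↥(Subgroup.zpowers g') := by
      rw [IsPGroup.iff_card]
      exact ⟨n - 1, by rw [Nat.card_zpowers, hord']⟩
    have h1 := hp.inf_normalizer_sylow P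
    have h2 : Subgroup.zpowers g' ≤ Subgroup.normalizer ((P : Subgroup G) : Set G) := by
      rw [Subgroup.zpowers_le]
      rw [Subgroup.mem_normalizer_iff]
      intro u
      constructor
      · intro hu
        have := hcomm u hu
        have e : g' * u * g'⁻¹ = u := by rw [← this]; group
        rw [e]; exact hu
      · intro hu
        have := hcomm _ hu
        -- g' u g'⁻¹ commutes with g'
        have e : u = g'⁻¹ * (g' * u * g'⁻¹) * g' := by group
        have e2 : g'⁻¹ * (g' * u * g'⁻¹) * g' = g' * u * g'⁻¹ := by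
          calc g'⁻¹ * (g' * u * g'⁻¹) * g' = g'⁻¹ * ((g' * u * g'⁻¹) * g') := by group
            _ = g'⁻¹ * (g' * (g' * u * g'⁻¹)) := by rw [this]
            _ = g' * u * g'⁻¹ := by group
        rw [e, e2]; exact hu
    have h3 : Subgroup.zpowers g' ≤ Subgroup.zpowers g' ⊓ (P : Subgroup G) := by
      rw [← h1]
      exact le_inf le_rfl h2
    exact (h3 (Subgroup.mem_zpowers g')).2
  -- z central in P of order 2^(n-1)
  let z : ↥(P : Subgroup G) := ⟨g', hg'P⟩
  have hz : ∀ u : ↥(P : Subgroup G), u * z = z * u := fun u => Subtype.ext (hcomm u u.2)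
  have hzord : orderOf z = 2 ^ (n - 1) := by
    rw [← hord']
    exact (Subgroup.orderOf_mk g' hg'P)
  let Z : Subgroup ↥(P : Subgroup G) := Subgroup.zpowers z
  have hZc : Z ≤ Subgroup.center ↥(P : Subgroup G) := by
    rw [Subgroup.zpowers_le, Subgroup.mem_center_iff]
    intro u; exact hz u
  have hZn : Z.Normal := by
    constructor
    intro m hm u
    have hc := Subgroup.mem_center_iff.mp (hZc hm) u
    have : u * m * u⁻¹ = m := by rw [hc]; group
    rw [this]; exact hm
  have hZcard : Nat.card Z = 2 ^ (n - 1) := by rw [Nat.card_zpowers, hzord]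
  have hidx : Z.index * 2 ^ (n - 1) = 2 ^ n := by
    rw [← hZcard, mul_comm, Subgroup.card_mul_index]
    exact hP
  have hcyc : IsCyclic (↥(P : Subgroup G) ⧸ Z) := by
    rcases Nat.eq_zero_or_pos n with h0 | hpos
    · subst h0
      have : Z.index = 1 := by simpa using hidx
      have hcard : Nat.card (↥(P : Subgroup G) ⧸ Z) = 1 := by
        rw [← Subgroup.index_eq_card]; exact this
      have : Subsingleton (↥(P : Subgroup G) ⧸ Z) :=
        (Nat.card_eq_one_iff_unique.mp hcard).1
      exact isCyclic_of_subsingleton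
    · have h2 : Z.index = 2 := by
        have : 2 ^ n = 2 * 2 ^ (n - 1) := by
          rw [← pow_succ']; congr 1; omega
        rw [this] at hidx
        exact Nat.eq_of_mul_eq_mul_right (by positivity) hidx
      have hcard : Nat.card (↥(P : Subgroup G) ⧸ Z) = 2 := by
        rw [← Subgroup.index_eq_card]; exact h2
      have : Fact (Nat.Prime 2) := ⟨Nat.prime_two⟩
      exact isCyclic_of_prime_card hcard
  intro a b
  exact commutative_of_cyclic_center_quotient (QuotientGroup.mk' Z)
    (by rw [QuotientGroup.ker_mk']; exact hZc) a b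

/-- (NORM) fusion of `g` to a power is realised inside a Sylow 2-subgroup normalising `⟨g⟩`. -/
theorem exists_mem_sylow_conj (P : Sylow 2 G) (g : G) (hgP : g ∈ (P : Subgroup G))
    (hnorm : ∀ u ∈ (P : Subgroup G), u * g * u⁻¹ ∈ Subgroup.zpowers g) (y : G) (k : ℕ)
    (hy : y * g * y⁻¹ = g ^ k) : ∃ u ∈ (P : Subgroup G), u * g * u⁻¹ = g ^ k := by
  classical
  set A : Subgroup G := Subgroup.zpowers g with hA
  -- elements conjugating g into A normalise A
  have hmemN : ∀ w : G, w * g * w⁻¹ ∈ A → w ∈ Subgroup.normalizer (A : Set G) := by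
    intro w hw
    have hle : A.map (MulAut.conj w).toMonoidHom ≤ A := by
      rw [hA, MonoidHom.map_zpowers, Subgroup.zpowers_le]
      simpa using hw
    have heq : A.map (MulAut.conj w).toMonoidHom = A := by
      apply Subgroup.eq_of_le_of_card_ge hle
      rw [Subgroup.card_map_of_injective (MulAut.conj w).injective]
    rw [Subgroup.mem_normalizer_iff]
    intro h
    constructor
    · intro hh
      rw [← heq]
      exact ⟨h, hh, by simp⟩
    · intro hh
      rw [← heq] at hh
      obtain ⟨h', hh', e⟩ := hh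
      have : h' = h := by
        have e' : w * h' * w⁻¹ = w * h * w⁻¹ := by simpa using e
        have := mul_left_cancel (mul_right_cancel e')
        exact this
      rw [← this]; exact hh'
  set N : Subgroup G := Subgroup.normalizer (A : Set G) with hN
  have hPN : (P : Subgroup G) ≤ N := fun u hu => hmemN u (hnorm u hu)
  have hyN : y ∈ N := hmemN y (by rw [hy]; exact Subgroup.pow_mem _ (Subgroup.mem_zpowers g) k)
  -- the centraliser has 2-power index in the normaliser
  have key := Subgroup.card_dvd_of_injective _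
    (QuotientGroup.kerLift_injective A.normalizerMonoidHom)
  rw [Subgroup.normalizerMonoidHom_ker, ← Subgroup.index, ← Subgroup.relIndex] at key
  have hAcyc : IsCyclic ↥A := by rw [hA]; infer_instance
  -- |A| is a power of 2
  obtain ⟨a, ha⟩ : ∃ a : ℕ, Nat.card ↥A = 2 ^ a := by
    have hgp : ∃ j : ℕ, g ^ 2 ^ j = 1 := by
      obtain ⟨j, hj⟩ := P.2 ⟨g, hgP⟩
      refine ⟨j, ?_⟩
      have := congrArg (fun z : ↥(P : Subgroup G) => (z : G)) hj
      simpa using this
    obtain ⟨j, hj⟩ := hgp
    have hdvd : orderOf g ∣ 2 ^ j := orderOf_dvd_of_pow_eq_one hj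
    obtain ⟨a, _, ha⟩ := (Nat.dvd_prime_pow Nat.prime_two).mp hdvd
    exact ⟨a, by rw [hA, Nat.card_zpowers, ha]⟩
  have hpow : ∃ b : ℕ, Nat.card (MulAut ↥A) = 2 ^ b := by
    rw [IsCyclic.card_mulAut, ha]
    rcases Nat.eq_zero_or_pos a with h0 | hpos
    · exact ⟨0, by rw [h0]; simp⟩
    · exact ⟨a - 1, by rw [Nat.totient_prime_pow Nat.prime_two hpos]; simp⟩
  obtain ⟨b, hb⟩ := hpow
  rw [hb] at key
  -- work inside N
  let P' : Subgroup ↥N := (P : Subgroup G).subgroupOf N
  let C' : Subgroup ↥N := (Subgroup.centralizer (A : Set G)).subgroupOf N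
  have hC'n : C'.Normal := by
    have : C' = A.normalizerMonoidHom.ker := (Subgroup.normalizerMonoidHom_ker (H := A)).symm
    rw [this]; infer_instance
  have h1 : (P' ⊔ C').index ∣ C'.index := Subgroup.index_dvd_of_le le_sup_right
  have h2 : (P' ⊔ C').index ∣ P'.index := Subgroup.index_dvd_of_le le_sup_left
  have h3 : P'.index ∣ (P : Subgroup G).index := by
    show (P : Subgroup G).relIndex N ∣ (P : Subgroup G).index
    exact Subgroup.relIndex_dvd_index_of_le hPN
  have h4 : C'.index ∣ 2 ^ b := key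
  have h5 : (P' ⊔ C').index = 1 := by
    obtain ⟨c, _, hc⟩ := (Nat.dvd_prime_pow Nat.prime_two).mp (dvd_trans h1 h4)
    rcases Nat.eq_zero_or_pos c with h0 | hpos
    · rw [hc, h0, pow_zero]
    · exfalso
      have : 2 ∣ (P : Subgroup G).index := by
        refine dvd_trans ?_ (dvd_trans h2 h3)
        rw [hc]; exact dvd_pow_self 2 (by omega)
      exact P.not_dvd_index this
  have h6 : P' ⊔ C' = ⊤ := Subgroup.index_eq_one.mp h5
  have hy' : (⟨y, hyN⟩ : ↥N) ∈ P' ⊔ C' := by rw [h6]; trivial
  obtain ⟨u, hu, c, hc, huc⟩ := Subgroup.mem_sup_of_normal_right.mp hy'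
  have huP : ((u : ↥N) : G) ∈ (P : Subgroup G) := Subgroup.mem_subgroupOf.mp hu
  have hcC : ((c : ↥N) : G) ∈ Subgroup.centralizer (A : Set G) := Subgroup.mem_subgroupOf.mp hc
  refine ⟨(u : G), huP, ?_⟩
  have hyuc : y = (u : G) * (c : G) := by
    have := congrArg (fun z : ↥N => (z : G)) huc
    simpa using this.symm
  have hcg : (c : G) * g = g * (c : G) := by
    have := Subgroup.mem_centralizer_iff.mp hcC g (Subgroup.mem_zpowers g)
    exact this.symm
  rw [← hy, hyuc]
  have : (c : G) * g * (c : G)⁻¹ = g := by rw [hcg]; group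
  calc (u : G) * g * (u : G)⁻¹ = (u : G) * ((c : G) * g * (c : G)⁻¹) * (u : G)⁻¹ := by rw [this]
    _ = (u : G) * (c : G) * g * ((u : G) * (c : G))⁻¹ := by group

end Cfsg.Agent.Lib.Helper11.MCF
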