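import Mathlib
import Cfsg.Prelude.Def_GeometricClasses
import Cfsg.Agent.Lib.Lead.OEDefs
import Cfsg.Agent.Lib.Helper28.OEP4s

/-!
OMEGA-EVEN market (lead; `notes/OmEven_rows3_leaves.lean`): leaf OE-P4a `not_omega_le_talt`, exact signature.
`Ω` is transitive on singular points, the tensor product subgroup preserves the decomposable vectors `x ⊗ y`
(all singular by `hpure`), and `x ⊗ y + x' ⊗ y'` (`x, x'` a hyperbolic pair of `f₁`, `y, y'` independent with
`f₂ y y' = 0`) is singular, not decomposable.  Twin of helper28's `not_omega_le_tsym` (all `q`).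
-/

set_option autoImplicit false
set_option linter.unusedSectionVars false
set_option linter.unusedVariables false

namespace Cfsg.Agent.Lib.Helper11.OELeaf

open Cfsg Cfsg.Geo Matrix Module QuadraticMap Cfsg.Agent.Lib.Lead.OE
open Cfsg.Agent.Lib.Helper28.OELeaf (pk tp_form_pk ctrA ctrA_add ctrA_pk smul_pk pk_mem_dec2)
open scoped Kronecker

section P4a
variable {F : Type*} [Field F] [Fintype F]

/-- P4a -/
theorem not_omega_le_talt {n : ℕ} (Q : QuadraticForm F (Fin n → F)) (hQ : (polarBilin Q).Nondegenerate)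
    (hn : 8 ≤ n) {n₂ : ℕ} (h2 : 4 ≤ n₂) (e : Fin n ≃ Fin 2 × Fin n₂) (P : GL (Fin n) F)
    (f₁ : (Fin 2 → F) → (Fin 2 → F) → F) (f₂ : (Fin n₂ → F) → (Fin n₂ → F) → F)
    (hf₁ : IsSymplecticForm f₁) (hf₂ : IsSymplecticForm f₂)
    (hT : IsTensorFormStructure id (polar ⇑Q) f₁ f₂ e P)
    (hpure : ∀ (x₁ : Fin 2 → F) (x₂ : Fin n₂ → F), Q (pureT e P x₁ x₂) = 0) :
    ¬ omegaGL ⇑Q ≤ tensorProductSubgroup 2 n₂ e P := by
  intro hle
  obtain ⟨c, hc0, hc⟩ := hT
  have hb₁ := hf₁.bilinear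
  have hb₂ := hf₂.bilinear
  set G₁ := gramMatrix f₁ with hG₁
  set G₂ := gramMatrix f₂ with hG₂
  have hdot₁ : ∀ u v : Fin 2 → F, f₁ u v = u ⬝ᵥ (G₁ *ᵥ v) :=
    fun u v => Cfsg.Agent.Lib.Helper7.SOTLeaf.bil_eq_dot f₁ hb₁ u v
  have hdot₂ : ∀ u v : Fin n₂ → F, f₂ u v = u ⬝ᵥ (G₂ *ᵥ v) :=
    fun u v => Cfsg.Agent.Lib.Helper7.SOTLeaf.bil_eq_dot f₂ hb₂ u v
  -- the transport `τ`
  set τ : (Fin 2 × Fin n₂ → F) → (Fin n → F) := Cfsg.Agent.Lib.Helper26.SpMLeaf.tau26 e P with hτ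
  have hτadd : ∀ w w', τ (w + w') = τ w + τ w' := by
    intro w w'
    show (P : Matrix (Fin n) (Fin n) F) *ᵥ (fun i => (w + w') (e i)) = _
    have : (fun i => (w + w') (e i)) = (fun i => w (e i)) + (fun i => w' (e i)) := rfl
    rw [this, Matrix.mulVec_add]
    rfl
  have hτsmul : ∀ (t : F) w, τ (t • w) = t • τ w := by
    intro t w
    show (P : Matrix (Fin n) (Fin n) F) *ᵥ (fun i => (t • w) (e i)) = _
    have : (fun i => (t • w) (e i)) = t • (fun i => w (e i)) := rfl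
    rw [this, Matrix.mulVec_smul]
    rfl
  have hτpure : ∀ (x : Fin 2 → F) (y : Fin n₂ → F), τ (pk x y) = pureT e P x y := fun x y => rfl
  -- the polar form on pure tensors
  have hpol : ∀ (x : Fin 2 → F) (y : Fin n₂ → F) (x' : Fin 2 → F) (y' : Fin n₂ → F),
      polar ⇑Q (τ (pk x y)) (τ (pk x' y')) = c * (f₁ x x' * f₂ y y') := by
    intro x y x' y'
    have := hc (pk x y) (pk x' y')
    rw [tp_form_pk] at this
    rw [hdot₁, hdot₂]
    exact this
  -- a hyperbolic pair `x, x'` of `f₁`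
  obtain ⟨x, hx0⟩ : ∃ x : Fin 2 → F, x ≠ 0 := by
    refine ⟨Pi.single 0 1, ?_⟩
    intro h
    have := congrFun h 0
    simp at this
  obtain ⟨x', hx'⟩ := (hf₁.nondegenerate x hx0).2
  set β := f₁ x x' with hβ
  have hβ0 : β ≠ 0 := hx'
  have hxx : f₁ x x = 0 := hf₁.alternating x
  have hx'x' : f₁ x' x' = 0 := hf₁.alternating x'
  have hx'x : f₁ x' x = -β := by rw [hf₁.skew x' x]
  -- `y ≠ 0`, a witness `z` with `f₂ z y ≠ 0`, and `y' ≠ 0` orthogonal to `y` and `z`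
  obtain ⟨y, hy0⟩ : ∃ y : Fin n₂ → F, y ≠ 0 := by
    refine ⟨Pi.single ⟨0, by omega⟩ 1, ?_⟩
    intro h
    have := congrFun h ⟨0, by omega⟩
    simp at this
  obtain ⟨z, hz⟩ := (hf₂.nondegenerate y hy0).1
  obtain ⟨y', hy'0, hyy', hzy'⟩ : ∃ y' : Fin n₂ → F, y' ≠ 0 ∧ f₂ y y' = 0 ∧ f₂ z y' = 0 := by
    let L : (Fin n₂ → F) →ₗ[F] (Fin 2 → F) :=
      { toFun := fun v => ![f₂ y v, f₂ z v]
        map_add' := by
          intro v w
          funext i
          fin_cases i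
          · exact hb₂.add_right y v w
          · exact hb₂.add_right z v w
        map_smul' := by
          intro t v
          funext i
          fin_cases i
          · exact hb₂.smul_right t y v
          · exact hb₂.smul_right t z v }
    have hker : LinearMap.ker L ≠ ⊥ := by
      intro hbot
      have hinj : Function.Injective L := LinearMap.ker_eq_bot.1 hbot
      have := LinearMap.finrank_le_finrank_of_injective hinj
      rw [Module.finrank_fintype_fun_eq_card, Module.finrank_fintype_fun_eq_card, Fintype.card_fin,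
        Fintype.card_fin] at this
      omega
    obtain ⟨v, hv, hv0⟩ := (Submodule.ne_bot_iff _).1 hker
    have hLv : L v = 0 := hv
    refine ⟨v, hv0, ?_, ?_⟩
    · have := congrFun hLv 0
      exact this
    · have := congrFun hLv 1
      exact this
  have hy'y : f₂ y' y = 0 := by rw [hf₂.skew, hyy', neg_zero]
  -- the two vectors
  set d₀ : Fin 2 × Fin n₂ → F := pk x y with hd₀
  set w₀ : Fin 2 × Fin n₂ → F := pk x y + pk x' y' with hw₀
  have hd₀ne : d₀ ≠ 0 := by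
    intro h
    obtain ⟨a, ha⟩ : ∃ a, x a ≠ 0 := by
      by_contra hcon
      push Not at hcon
      exact hx0 (funext hcon)
    obtain ⟨b, hb⟩ : ∃ b, y b ≠ 0 := by
      by_contra hcon
      push Not at hcon
      exact hy0 (funext hcon)
    have := congrFun h (a, b)
    simp only [hd₀, pk, Pi.zero_apply] at this
    exact mul_ne_zero ha hb this
  -- `w₀` is not decomposable
  have hw₀dec : w₀ ∉ Cfsg.Agent.Lib.Helper28.SLMLeaf.Dec2 2 n₂ F := by
    rintro ⟨p, q, hpq⟩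
    have hpq' : w₀ = pk p q := hpq
    have e1 : ctrA (G₁ *ᵥ x') w₀ = β • y := by
      rw [hw₀, ctrA_add, ctrA_pk, ctrA_pk, dotProduct_comm, ← hdot₁, dotProduct_comm (G₁ *ᵥ x') x', ← hdot₁,
        ← hβ, hx'x', zero_smul, add_zero]
    have e2 : ctrA (G₁ *ᵥ x) w₀ = (-β) • y' := by
      rw [hw₀, ctrA_add, ctrA_pk, ctrA_pk, dotProduct_comm, ← hdot₁, dotProduct_comm (G₁ *ᵥ x) x', ← hdot₁,
        hxx, hx'x, zero_smul, zero_add]
    rw [hpq', ctrA_pk] at e1 e2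
    -- `β y = s q`, `-β y' = s' q`
    have k1 : f₂ z (β • y) = β * f₂ z y := by rw [hb₂.smul_right]
    have k2 : f₂ z ((-β) • y') = 0 := by rw [hb₂.smul_right, hzy', mul_zero]
    rw [← e1, hb₂.smul_right] at k1
    rw [← e2, hb₂.smul_right] at k2
    have hq : f₂ z q ≠ 0 := by
      intro h
      rw [h, mul_zero] at k1
      exact mul_ne_zero hβ0 hz k1.symm
    have hs' : (G₁ *ᵥ x) ⬝ᵥ p = 0 := by
      rcases mul_eq_zero.1 k2 with h | h
      · exact h
      · exact absurd h hq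
    rw [hs', zero_smul] at e2
    have : y' = 0 := by
      have h3 := congrArg (fun v => (-β)⁻¹ • v) e2
      simp only [smul_zero, smul_smul, inv_mul_cancel₀ (neg_ne_zero.2 hβ0), one_smul] at h3
      exact h3.symm
    exact hy'0 this
  have hw₀ne : w₀ ≠ 0 := by
    intro h
    apply hw₀dec
    rw [h]
    refine ⟨0, 0, ?_⟩
    funext z
    simp
  -- both are singular
  have hQd : Q (τ d₀) = 0 := by
    rw [hd₀, hτpure]
    exact hpure x y
  have hQw : Q (τ w₀) = 0 := by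
    have h1 : Q (τ (pk x y) + τ (pk x' y')) =
        Q (τ (pk x y)) + Q (τ (pk x' y')) + polar ⇑Q (τ (pk x y)) (τ (pk x' y')) := by
      unfold polar
      ring
    rw [hw₀, hτadd, h1, hpol, hτpure, hτpure, hpure, hpure, hyy']
    ring
  have hτd : τ d₀ ≠ 0 := Cfsg.Agent.Lib.Helper26.SpMLeaf.tau26_ne_zero e P hd₀ne
  have hτw : τ w₀ ≠ 0 := Cfsg.Agent.Lib.Helper26.SpMLeaf.tau26_ne_zero e P hw₀ne
  -- move `τ w₀` to `τ d₀` inside `Ω`
  obtain ⟨g, hgΩ, t, hgt⟩ := Cfsg.Agent.Lib.Helper28.OmMLeaf.exists_omega_move28 Q hQ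
    (by rw [Fintype.card_fin]; omega) hτw hQw hτd hQd
  obtain ⟨g₁, ⟨g₀, hg₀, rfl⟩, rfl⟩ := hle hgΩ
  have hconj : ((MulAut.conj P).toMonoidHom ((glReindex e.symm).toMonoidHom g₀)) =
      P * glReindex e.symm g₀ * P⁻¹ := rfl
  rw [hconj, Cfsg.Agent.Lib.Helper26.SpMLeaf.conj_mulVec_tau26, ← hτsmul] at hgt
  have hgw : (g₀ : Matrix (Fin 2 × Fin n₂) (Fin 2 × Fin n₂) F) *ᵥ w₀ = t • d₀ :=
    Cfsg.Agent.Lib.Helper26.SpMLeaf.tau26_injective e P hgt
  -- pull back with `g₀⁻¹`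
  have hinv : ∀ g ∈ kroneckerSubgroup 2 n₂ F, ∀ w ∈ Cfsg.Agent.Lib.Helper28.SLMLeaf.Dec2 2 n₂ F,
      (g : Matrix (Fin 2 × Fin n₂) (Fin 2 × Fin n₂) F) *ᵥ w ∈ Cfsg.Agent.Lib.Helper28.SLMLeaf.Dec2 2 n₂ F := by
    rintro g ⟨a, b, hab⟩ w ⟨x, y, rfl⟩
    rw [hab]
    exact ⟨_, _, Cfsg.Agent.Lib.Helper28.SLMLeaf.kron_mulVec_dec _ _ x y⟩
  have hmem : (g₀ : Matrix (Fin 2 × Fin n₂) (Fin 2 × Fin n₂) F) *ᵥ w₀ ∈
      Cfsg.Agent.Lib.Helper28.SLMLeaf.Dec2 2 n₂ F := by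
    rw [hgw, hd₀, smul_pk]
    exact pk_mem_dec2 _ _
  have hback := hinv g₀⁻¹ (inv_mem hg₀) _ hmem
  rw [Matrix.mulVec_mulVec, ← Units.val_mul, inv_mul_cancel, Units.val_one, Matrix.one_mulVec] at hback
  exact hw₀dec hback

end P4a

end Cfsg.Agent.Lib.Helper11.OELeaf
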