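import Mathlib
import Cfsg.Prelude.Def_GeometricClasses
import Cfsg.Agent.Lib.Lead.OEQF
import Cfsg.Agent.Lib.Helper9.PlusPlane
import Cfsg.Agent.Lib.Helper5.DecompNM2

/-!
OMEGA-EVEN market (lead; `notes/OmEven_rows4_leaves.lean`): leaf OE-R21d `frame_of_planes_five`, exact signature.
`q = 5`: a decomposition into hyperbolic planes `⟨e i, f i⟩` is refined by the frame `⟨e i + f i⟩`, `⟨2 e i + 3 f i⟩`
(the vectors of norm one of the planes, up to sign), which every isometry permuting the planes preserves.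
-/

set_option autoImplicit false
set_option linter.unusedSectionVars false
set_option linter.unusedVariables false

namespace Cfsg.Agent.Lib.Helper11.OELeaf

open Cfsg Cfsg.Geo Matrix Module QuadraticMap Cfsg.Agent.Lib.Lead.OE
open Cfsg.Agent.Lib.Helper5.DecompNM Cfsg.Agent.Lib.Helper9.PlusPlane

section generic
variable {ι : Type} [Fintype ι] [DecidableEq ι] {F : Type*} [Field F] [Fintype F]
  (Q : QuadraticForm F (ι → F))

/-- hyperbolic coordinates on a decomposition into hyperbolic planes -/
theorem r21_hypCoords {t : ℕ} {D : Fin t → Submodule F (ι → F)}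
    (hD : IsOrthogonalMDecomposition ⇑Q 2 D) (hpl : ∀ i, IsPlusTypeOn ⇑Q (D i)) :
    ∃ e f : Fin t → ι → F, HypCoords Q D e f := by
  have horth := hD.decomp.orthogonal
  have hfr := hD.decomp.decomp.finrank_eq
  have hex : ∀ i, ∃ e f : ι → F, e ∈ D i ∧ f ∈ D i ∧ HP Q e f ∧
      ∀ v ∈ D i, ∃ x y : F, v = x • e + y • f := by
    intro i
    obtain ⟨U, hUW, hU, hUd⟩ := hpl i
    rw [hfr i] at hUd
    exact exists_hp (Q := Q) (D i) (hfr i)
      (fun w hw hw0 => (hD.decomp.nondegenerate i w hw hw0).1) U hUW hU (by omega)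
  choose e f he hf hp hspan using hex
  exact ⟨e, f, ⟨he, hf, hp, hspan, horth⟩⟩

/-- a family of pairwise orthogonal vectors of non-zero norm (`2 ≠ 0`): the lines form an orthogonal frame -/
theorem r21_frame (h2 : (2 : F) ≠ 0) {s : ℕ} (hs : 2 ≤ s) (v : Fin s → ι → F) (hq : ∀ j, Q (v j) = 1)
    (horth : ∀ j j', j ≠ j' → polar ⇑Q (v j) (v j') = 0)
    (htop : ∀ x : ι → F, x ∈ Submodule.span F (Set.range v)) :
    IsOrthogonalMDecomposition ⇑Q 1 (fun j => Submodule.span F {v j}) := by
  have hself : ∀ j, polar ⇑Q (v j) (v j) = 2 := by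
    intro j
    rw [polar_self, hq]
    simp
  have hv0 : ∀ j, v j ≠ 0 := by
    intro j h0
    have := hq j
    rw [h0, map_zero] at this
    exact zero_ne_one this
  have hli : LinearIndependent F v := by
    rw [Fintype.linearIndependent_iff]
    intro c hc j
    have h1 : polar ⇑Q (∑ i, c i • v i) (v j) = 0 := by
      rw [hc]
      simp [polar]
    have h3 : polar ⇑Q (∑ i, c i • v i) (v j) = c j * 2 := by
      have hlin : polar ⇑Q (∑ i, c i • v i) (v j) = ∑ i, c i * polar ⇑Q (v i) (v j) := by
        have := map_sum (polarBilin Q).flip (fun i => c i • v i) Finset.univ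
        have h4 := congrArg (fun L => L (v j)) (map_sum (polarBilin Q) (fun i => c i • v i) Finset.univ)
        simp only [LinearMap.coe_sum, Finset.sum_apply, map_smul, LinearMap.smul_apply, smul_eq_mul] at h4
        exact h4
      rw [hlin, Finset.sum_eq_single j]
      · rw [hself]
      · intro i _ hij
        rw [horth i j hij, mul_zero]
      · intro h
        exact absurd (Finset.mem_univ j) h
    rw [h3] at h1
    exact (mul_eq_zero.1 h1).resolve_right h2
  refine ⟨⟨⟨hs, one_pos, ?_, ?_, ?_⟩, ?_, ?_⟩, ?_⟩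
  · intro j
    exact finrank_span_singleton (hv0 j)
  · exact hli.iSupIndep_span_singleton
  · rw [eq_top_iff]
    intro x _
    rw [← Submodule.span_range_eq_iSup]
    exact htop x
  · intro j w hw hw0
    obtain ⟨c, rfl⟩ := Submodule.mem_span_singleton.1 hw
    have hc : c ≠ 0 := by
      rintro rfl
      exact hw0 (zero_smul _ _)
    refine ⟨⟨v j, Submodule.mem_span_singleton_self _, ?_⟩, ⟨v j, Submodule.mem_span_singleton_self _, ?_⟩⟩
    · rw [polar_smul_right, hself, smul_eq_mul]
      exact mul_ne_zero hc h2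
    · rw [polar_smul_left, hself, smul_eq_mul]
      exact mul_ne_zero hc h2
  · intro j j' hjj' a ha b hb
    obtain ⟨c, rfl⟩ := Submodule.mem_span_singleton.1 ha
    obtain ⟨d, rfl⟩ := Submodule.mem_span_singleton.1 hb
    rw [polar_smul_left, polar_smul_right, horth j j' hjj', smul_zero, smul_zero]
  · intro j j'
    refine ⟨(LinearEquiv.toSpanNonzeroSingleton F (ι → F) (v j) (hv0 j)).symm.trans
      (LinearEquiv.toSpanNonzeroSingleton F (ι → F) (v j') (hv0 j')), ?_⟩
    intro w
    obtain ⟨c, hc⟩ := Submodule.mem_span_singleton.1 w.2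
    have hw : w = LinearEquiv.toSpanNonzeroSingleton F (ι → F) (v j) (hv0 j) c := by
      apply Subtype.ext
      rw [LinearEquiv.toSpanNonzeroSingleton_apply]
      exact hc.symm
    rw [hw, LinearEquiv.trans_apply, LinearEquiv.symm_apply_apply]
    simp only [LinearEquiv.toSpanNonzeroSingleton_apply]
    rw [QuadraticMap.map_smul, QuadraticMap.map_smul, hq, hq]

/-- an isometry permuting the lines of an orthogonal frame of norm-one vectors up to sign stabilises the frame -/
theorem r21_mem_stab (h2 : (2 : F) ≠ 0) {s : ℕ} (v : Fin s → ι → F) (hq : ∀ j, Q (v j) = 1)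
    (horth : ∀ j j', j ≠ j' → polar ⇑Q (v j) (v j') = 0) (g : GL ι F)
    (hg : ∀ x : ι → F, Q ((g : Matrix ι ι F) *ᵥ x) = Q x)
    (h : ∀ j, ∃ j', (g : Matrix ι ι F) *ᵥ v j = v j' ∨ (g : Matrix ι ι F) *ᵥ v j = - v j') :
    g ∈ decompositionStabilizer (fun j => Submodule.span F {v j}) := by
  have hself : ∀ j, polar ⇑Q (v j) (v j) = 2 := by
    intro j
    rw [polar_self, hq]
    simp
  have hpol : ∀ x y : ι → F, polar ⇑Q ((g : Matrix ι ι F) *ᵥ x) ((g : Matrix ι ι F) *ᵥ y) = polar ⇑Q x y := by
    intro x y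
    unfold polar
    rw [← Matrix.mulVec_add, hg, hg, hg]
  choose π hπ using h
  have hinj : Function.Injective π := by
    intro j j' hjj'
    by_contra hne
    have h0 := horth j j' hne
    rw [← hpol] at h0
    rcases hπ j with h1 | h1 <;> rcases hπ j' with h3 | h3 <;> rw [h1, h3, hjj'] at h0
    · rw [hself] at h0
      exact h2 h0
    · rw [polar_neg_right, hself] at h0
      exact h2 (neg_eq_zero.1 h0)
    · rw [polar_neg_left, hself] at h0
      exact h2 (neg_eq_zero.1 h0)
    · rw [polar_neg_left, polar_neg_right, neg_neg, hself] at h0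
      exact h2 h0
  refine ⟨Equiv.ofBijective π (Finite.injective_iff_bijective.1 hinj), fun j => ?_⟩
  show (Submodule.span F {v j}).map (Matrix.toLin' (g : Matrix ι ι F)) = Submodule.span F {v (π j)}
  rw [Submodule.map_span, Set.image_singleton, Matrix.toLin'_apply]
  rcases hπ j with h1 | h1
  · rw [h1]
  · rw [h1]
    apply le_antisymm
    · rw [Submodule.span_singleton_le_iff_mem]
      exact Submodule.neg_mem _ (Submodule.mem_span_singleton_self _)
    · rw [Submodule.span_singleton_le_iff_mem]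
      have := Submodule.neg_mem _ (Submodule.mem_span_singleton_self (R := F) (- v (π j)))
      rwa [neg_neg] at this

/-- R21d -/
theorem frame_of_planes_five (hq : Fintype.card F = 5) {t t' : ℕ} (ht' : t' = 2 * t)
    {D : Fin t → Submodule F (ι → F)}
    (hD : IsOrthogonalMDecomposition ⇑Q 2 D) (hpl : ∀ i, IsPlusTypeOn ⇑Q (D i)) :
    ∃ D' : Fin t' → Submodule F (ι → F), IsOrthogonalMDecomposition ⇑Q 1 D' ∧
      decompositionStabilizer D ⊓ isometryGroup F ⇑Q ≤ decompositionStabilizer D' := by
  obtain ⟨e, f, hc⟩ := r21_hypCoords Q hD hpl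
  have h5 : (5 : F) = 0 := five_eq_zero_of_card hq
  have h4 := pow_four_of_card hq
  have h2 : (2 : F) ≠ 0 := by
    intro h2
    have : (1 : F) = 0 := by linear_combination h5 - 2 * h2
    exact one_ne_zero this
  have ht2 := hD.decomp.decomp.two_le
  let σ : Fin t' ≃ Fin t ⊕ Fin t := (finCongr (ht'.trans (two_mul t))).trans finSumFinEquiv.symm
  let v : Fin t' → ι → F := fun j => fr5 e f (σ j)
  have hvq : ∀ j, Q (v j) = 1 := fun j => hc.q_fr5 h5 (σ j)
  have hvorth : ∀ j j', j ≠ j' → polar ⇑Q (v j) (v j') = 0 :=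
    fun j j' hjj' => hc.orth_fr5 h5 (σ j) (σ j') (fun h => hjj' (σ.injective h))
  have hsv : ∀ i, sv e f i = v (σ.symm (Sum.inl i)) := by
    intro i
    show _ = fr5 e f (σ (σ.symm (Sum.inl i)))
    rw [Equiv.apply_symm_apply]
    rfl
  have htv : ∀ i, tv e f i = v (σ.symm (Sum.inr i)) := by
    intro i
    show _ = fr5 e f (σ (σ.symm (Sum.inr i)))
    rw [Equiv.apply_symm_apply]
    rfl
  have htop : ∀ x : ι → F, x ∈ Submodule.span F (Set.range v) := by
    intro x
    have hx : x ∈ iSup D := by
      rw [hD.decomp.decomp.iSup_eq_top]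
      trivial
    induction hx using Submodule.iSup_induction' with
    | mem i y hy =>
      obtain ⟨a, b, rfl⟩ := hc.span i y hy
      have he : e i = (3 : F) • sv e f i - tv e f i := by
        unfold sv tv
        module
      have hf : f i = tv e f i - (2 : F) • sv e f i := by
        unfold sv tv
        module
      have hsvm : sv e f i ∈ Submodule.span F (Set.range v) := by
        rw [hsv]
        exact Submodule.subset_span ⟨_, rfl⟩
      have htvm : tv e f i ∈ Submodule.span F (Set.range v) := by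
        rw [htv]
        exact Submodule.subset_span ⟨_, rfl⟩
      rw [he, hf]
      exact Submodule.add_mem _
        (Submodule.smul_mem _ _ (Submodule.sub_mem _ (Submodule.smul_mem _ _ hsvm) htvm))
        (Submodule.smul_mem _ _ (Submodule.sub_mem _ htvm (Submodule.smul_mem _ _ hsvm)))
    | zero => exact Submodule.zero_mem _
    | add y z _ _ hy hz => exact Submodule.add_mem _ hy hz
  refine ⟨fun j => Submodule.span F {v j}, r21_frame Q h2 (by omega) v hvq hvorth htop, ?_⟩
  rintro g ⟨⟨τ, hτ⟩, hgI⟩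
  have hgq : ∀ x : ι → F, Q ((g : Matrix ι ι F) *ᵥ x) = Q x := fun x => hgI x x
  apply r21_mem_stab Q h2 v hvq hvorth g hgq
  intro j
  have hvD : v j ∈ D (mem5 (σ j)) := hc.fr5_mem (σ j)
  have hgv : (g : Matrix ι ι F) *ᵥ v j ∈ D (τ (mem5 (σ j))) := by
    rw [← hτ (mem5 (σ j))]
    exact ⟨v j, hvD, by rw [Matrix.toLin'_apply]⟩
  obtain ⟨j', -, hj'⟩ := hc.enum_fr5 h5 h4 _ _ hgv (by rw [hgq, hvq])
  refine ⟨σ.symm j', ?_⟩
  show _ = fr5 e f (σ (σ.symm j')) ∨ _ = - fr5 e f (σ (σ.symm j'))
  rw [Equiv.apply_symm_apply]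
  exact hj'

end generic

end Cfsg.Agent.Lib.Helper11.OELeaf
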