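import Mathlib
import Cfsg.Prelude.Def_GeometricClasses
import Cfsg.Agent.Lib.Lead.OEQF
import Cfsg.Agent.Lib.Helper9.PlusPlane
import Cfsg.Agent.Lib.Helper9.FrameF3
import Cfsg.Agent.Lib.Helper5.DecompNM2
import Cfsg.Agent.Lib.Helper11.OER21d

/-!
OMEGA-EVEN market (lead; `notes/OmEven_rows4_leaves.lean`): leaf OE-R21b `halves_of_planes_three`, exact signature.
`q = 3`: in a hyperbolic plane `⟨e, f⟩` the vectors of norm `1` are `±(e + f)` and those of norm `-1` are `±(e - f)`;
`D' 0 := ⟨e i + f i⟩_i`, `D' 1 := ⟨e i - f i⟩_i` are orthogonal non-degenerate halves preserved by every isometry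
permuting the planes.
-/

set_option autoImplicit false
set_option linter.unusedSectionVars false
set_option linter.unusedVariables false

namespace Cfsg.Agent.Lib.Helper11.OELeaf

open Cfsg Cfsg.Geo Matrix Module QuadraticMap Cfsg.Agent.Lib.Lead.OE
open Cfsg.Agent.Lib.Helper5.DecompNM Cfsg.Agent.Lib.Helper9.PlusPlane Cfsg.Agent.Lib.Helper9.FrameF3

section generic
variable {ι : Type} [Fintype ι] [DecidableEq ι] {F : Type*} [Field F] [Fintype F]
  (Q : QuadraticForm F (ι → F))

section family
variable {κ : Type*} [Fintype κ] [DecidableEq κ] (v : κ → ι → F)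
  (horth : ∀ j j', j ≠ j' → polar ⇑Q (v j) (v j') = 0)

include horth in
/-- `polar` of a linear combination of pairwise orthogonal vectors against one of them -/
theorem r21b_polar_sum (c : κ → F) (j : κ) :
    polar ⇑Q (∑ i, c i • v i) (v j) = c j * polar ⇑Q (v j) (v j) := by
  have hlin : polar ⇑Q (∑ i, c i • v i) (v j) = ∑ i, c i * polar ⇑Q (v i) (v j) := by
    have h4 := congrArg (fun L => L (v j)) (map_sum (polarBilin Q) (fun i => c i • v i) Finset.univ)
    simp only [LinearMap.coe_sum, Finset.sum_apply, map_smul, LinearMap.smul_apply, smul_eq_mul] at h4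
    exact h4
  rw [hlin, Finset.sum_eq_single j]
  · intro i _ hij
    rw [horth i j hij, mul_zero]
  · intro h
    exact absurd (Finset.mem_univ j) h

include horth in
theorem r21b_li (hq : ∀ j, polar ⇑Q (v j) (v j) ≠ 0) : LinearIndependent F v := by
  rw [Fintype.linearIndependent_iff]
  intro c hc j
  have h1 : polar ⇑Q (∑ i, c i • v i) (v j) = 0 := by
    rw [hc]
    simp [polar]
  rw [r21b_polar_sum Q v horth] at h1
  exact (mul_eq_zero.1 h1).resolve_right (hq j)

include horth in
theorem r21b_ndOn (hq : ∀ j, polar ⇑Q (v j) (v j) ≠ 0) :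
    IsNondegenerateOn (polar ⇑Q) (Submodule.span F (Set.range v)) := by
  intro w hw hw0
  obtain ⟨c, rfl⟩ := (Submodule.mem_span_range_iff_exists_fun F).1 hw
  obtain ⟨j, hj⟩ : ∃ j, c j ≠ 0 := by
    by_contra hcon
    push Not at hcon
    apply hw0
    apply Finset.sum_eq_zero
    intro i _
    rw [hcon i, zero_smul]
  have hvj : v j ∈ Submodule.span F (Set.range v) := Submodule.subset_span ⟨j, rfl⟩
  have hne : polar ⇑Q (∑ i, c i • v i) (v j) ≠ 0 := by
    rw [r21b_polar_sum Q v horth]
    exact mul_ne_zero hj (hq j)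
  refine ⟨⟨v j, hvj, ?_⟩, ⟨v j, hvj, hne⟩⟩
  rw [polar_comm]
  exact hne

end family

theorem r21b_orth_span {S T : Set (ι → F)} (h : ∀ a ∈ S, ∀ b ∈ T, polar ⇑Q a b = 0) :
    AreOrthogonalFor (polar ⇑Q) (Submodule.span F S) (Submodule.span F T) := by
  intro a ha b hb
  induction ha using Submodule.span_induction with
  | mem x hx =>
    induction hb using Submodule.span_induction with
    | mem y hy => exact h x hx y hy
    | zero => simp [polar]
    | add y z _ _ hy hz => rw [polar_add_right, hy, hz, add_zero]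
    | smul c y _ hy => rw [polar_smul_right, hy, smul_zero]
  | zero => simp [polar]
  | add x y _ _ hx hy => rw [polar_add_left, hx, hy, add_zero]
  | smul c x _ hx => rw [polar_smul_left, hx, smul_zero]

theorem r21b_map_eq (g : GL ι F) {A : Submodule F (ι → F)}
    (h : A.map (Matrix.toLin' (g : Matrix ι ι F)) ≤ A) :
    A.map (Matrix.toLin' (g : Matrix ι ι F)) = A := by
  apply Submodule.eq_of_le_of_finrank_eq h
  have hinj : Function.Injective (Matrix.toLin' (g : Matrix ι ι F)) := by
    intro x y hxy
    rw [Matrix.toLin'_apply, Matrix.toLin'_apply] at hxy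
    have h3 := congrArg (fun z => ((g⁻¹ : GL ι F) : Matrix ι ι F) *ᵥ z) hxy
    simp only [Matrix.mulVec_mulVec] at h3
    rw [← Units.val_mul, inv_mul_cancel, Units.val_one, Matrix.one_mulVec, Matrix.one_mulVec] at h3
    exact h3
  exact (Submodule.equivMapOfInjective _ hinj A).finrank_eq.symm

/-- R21b -/
theorem halves_of_planes_three (hq : Fintype.card F = 3) {t : ℕ} {D : Fin t → Submodule F (ι → F)}
    (hD : IsOrthogonalMDecomposition ⇑Q 2 D) (hpl : ∀ i, IsPlusTypeOn ⇑Q (D i)) :
    ∃ D' : Fin 2 → Submodule F (ι → F), IsNondegenerateMDecomposition (polar ⇑Q) t D' ∧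
      (AreIsometricFor ⇑Q (D' 0) (D' 1) → IsOrthogonalMDecomposition ⇑Q t D') ∧
      decompositionStabilizer D ⊓ isometryGroup F ⇑Q ≤ decompositionStabilizer D' := by
  obtain ⟨e, f, hc⟩ := r21_hypCoords Q hD hpl
  have h3 : (3 : F) = 0 := three_eq_zero hq
  have h2 : (2 : F) ≠ 0 := two_ne_zero' hq
  have ht2 := hD.decomp.decomp.two_le
  set u : Fin t → ι → F := sv e f with hu
  set w : Fin t → ι → F := fun i => (1 : F) • e i + (-1 : F) • f i with hw
  have hwmem : ∀ i, w i ∈ D i := fun i =>
    (D i).add_mem ((D i).smul_mem _ (hc.e_mem i)) ((D i).smul_mem _ (hc.f_mem i))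
  have hqu : ∀ i, Q (u i) = 1 := hc.q_sv
  have hqw : ∀ i, Q (w i) = -1 := by
    intro i
    show Q ((1 : F) • e i + (-1 : F) • f i) = -1
    rw [(hc.hp i).q_comb]
    ring
  have huu : ∀ i j, i ≠ j → polar ⇑Q (u i) (u j) = 0 :=
    fun i j hij => hc.orth i j hij _ (hc.sv_mem i) _ (hc.sv_mem j)
  have hww : ∀ i j, i ≠ j → polar ⇑Q (w i) (w j) = 0 :=
    fun i j hij => hc.orth i j hij _ (hwmem i) _ (hwmem j)
  have huw : ∀ i j, polar ⇑Q (u i) (w j) = 0 := by
    intro i j
    by_cases hij : i = j
    · subst hij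
      show polar ⇑Q (sv e f i) ((1 : F) • e i + (-1 : F) • f i) = 0
      rw [hc.polar_sv_comb]
      ring
    · exact hc.orth i j hij _ (hc.sv_mem i) _ (hwmem j)
  have hpu : ∀ i, polar ⇑Q (u i) (u i) ≠ 0 := by
    intro i
    rw [polar_self, hqu]
    simpa using h2
  have hpw : ∀ i, polar ⇑Q (w i) (w i) ≠ 0 := by
    intro i
    rw [polar_self, hqw]
    simpa using h2
  set A : Submodule F (ι → F) := Submodule.span F (Set.range u) with hA
  set B : Submodule F (ι → F) := Submodule.span F (Set.range w) with hB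
  have hAnd : IsNondegenerateOn (polar ⇑Q) A := r21b_ndOn Q u huu hpu
  have hBnd : IsNondegenerateOn (polar ⇑Q) B := r21b_ndOn Q w hww hpw
  have hAB : AreOrthogonalFor (polar ⇑Q) A B := by
    apply r21b_orth_span
    rintro _ ⟨i, rfl⟩ _ ⟨j, rfl⟩
    exact huw i j
  have hBA : AreOrthogonalFor (polar ⇑Q) B A := by
    intro b hb a ha
    rw [polar_comm]
    exact hAB a ha b hb
  have hAfr : finrank F A = t := by
    rw [hA, finrank_span_eq_card (r21b_li Q u huu hpu), Fintype.card_fin]
  have hBfr : finrank F B = t := by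
    rw [hB, finrank_span_eq_card (r21b_li Q w hww hpw), Fintype.card_fin]
  have hdisj : Disjoint A B := by
    rw [Submodule.disjoint_def]
    intro x hxA hxB
    by_contra hx0
    obtain ⟨⟨y, hyA, hy⟩, -⟩ := hAnd x hxA hx0
    exact hy (hAB y hyA x hxB)
  have hkey : ∀ x ∈ iSup D, x ∈ A ⊔ B := by
    intro x hx
    induction hx using Submodule.iSup_induction' with
    | mem i y hy =>
      obtain ⟨a, b, rfl⟩ := hc.span i y hy
      have h41 : (4 : F) = 1 := by linear_combination h3
      have he : e i = (2 : F) • u i + (2 : F) • w i := by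
        have h1 : (2 : F) • (e i + f i) + (2 : F) • ((1 : F) • e i + (-1 : F) • f i) = (4 : F) • e i := by
          module
        show e i = (2 : F) • (e i + f i) + (2 : F) • ((1 : F) • e i + (-1 : F) • f i)
        rw [h1, h41, one_smul]
      have hf : f i = (2 : F) • u i + (1 : F) • w i := by
        have h1 : (2 : F) • (e i + f i) + (1 : F) • ((1 : F) • e i + (-1 : F) • f i) =
            (3 : F) • e i + f i := by
          module
        show f i = (2 : F) • (e i + f i) + (1 : F) • ((1 : F) • e i + (-1 : F) • f i)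
        rw [h1, h3, zero_smul, zero_add]
      have hum : u i ∈ A ⊔ B := Submodule.mem_sup_left (Submodule.subset_span ⟨i, rfl⟩)
      have hwm : w i ∈ A ⊔ B := Submodule.mem_sup_right (Submodule.subset_span ⟨i, rfl⟩)
      rw [he, hf]
      exact Submodule.add_mem _
        (Submodule.smul_mem _ _ (Submodule.add_mem _ (Submodule.smul_mem _ _ hum)
          (Submodule.smul_mem _ _ hwm)))
        (Submodule.smul_mem _ _ (Submodule.add_mem _ (Submodule.smul_mem _ _ hum)
          (Submodule.smul_mem _ _ hwm)))
    | zero => exact Submodule.zero_mem _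
    | add y z _ _ hy hz => exact Submodule.add_mem _ hy hz
  have htop : A ⊔ B = ⊤ := by
    rw [eq_top_iff]
    intro x _
    apply hkey
    rw [hD.decomp.decomp.iSup_eq_top]
    trivial
  have hnd : IsNondegenerateMDecomposition (polar ⇑Q) t ![A, B] := by
    refine ⟨⟨le_refl 2, by omega, ?_, ?_, ?_⟩, ?_, ?_⟩
    · intro k
      fin_cases k
      · exact hAfr
      · exact hBfr
    · rw [iSupIndep_pair (i := (0 : Fin 2)) (j := 1) (by decide)
        (by intro k; fin_cases k <;> simp)]
      exact hdisj
    · rw [eq_top_iff, ← htop]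
      exact sup_le (le_iSup (![A, B]) 0) (le_iSup (![A, B]) 1)
    · intro k
      fin_cases k
      · exact hAnd
      · exact hBnd
    · intro k k' hkk'
      fin_cases k <;> fin_cases k'
      · exact absurd rfl hkk'
      · exact hAB
      · exact hBA
      · exact absurd rfl hkk'
  refine ⟨![A, B], hnd, ?_, ?_⟩
  · intro hiso
    refine ⟨hnd, ?_⟩
    have hiso' : AreIsometricFor ⇑Q A B := hiso
    have hsymm : AreIsometricFor ⇑Q B A := by
      obtain ⟨E, hE⟩ := hiso'
      refine ⟨E.symm, fun x => ?_⟩
      have := hE (E.symm x)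
      rw [LinearEquiv.apply_symm_apply] at this
      exact this.symm
    intro k k'
    fin_cases k <;> fin_cases k'
    · exact ⟨LinearEquiv.refl F A, fun _ => rfl⟩
    · exact hiso'
    · exact hsymm
    · exact ⟨LinearEquiv.refl F B, fun _ => rfl⟩
  · rintro g ⟨⟨τ, hτ⟩, hgI⟩
    have hgq : ∀ x : ι → F, Q ((g : Matrix ι ι F) *ᵥ x) = Q x := fun x => hgI x x
    have hmapD : ∀ i, ∀ x ∈ D i, (g : Matrix ι ι F) *ᵥ x ∈ D (τ i) := by
      intro i x hx
      rw [← hτ i]
      exact ⟨x, hx, by rw [Matrix.toLin'_apply]⟩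
    -- the vectors of norm `1`, `-1` of a member
    have henum : ∀ i, ∀ y ∈ D i, (Q y = 1 → y = u i ∨ y = - u i) ∧ (Q y = -1 → y = w i ∨ y = - w i) := by
      intro i y hy
      obtain ⟨a, b, rfl⟩ := hc.span i y hy
      rw [(hc.hp i).q_comb]
      constructor
      · intro hab
        rcases cases3 hq a with ha | ha | ha
        · rw [ha, zero_mul] at hab
          exact absurd hab zero_ne_one
        · left
          have hb : b = 1 := by rw [ha, one_mul] at hab; exact hab
          rw [ha, hb, one_smul, one_smul]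
          rfl
        · right
          have hb : b = -1 := by rw [ha] at hab; linear_combination -hab
          rw [ha, hb, hu]
          unfold sv
          module
      · intro hab
        rcases cases3 hq a with ha | ha | ha
        · rw [ha, zero_mul] at hab
          exact absurd hab.symm (neg_ne_zero.2 one_ne_zero)
        · left
          have hb : b = -1 := by rw [ha, one_mul] at hab; exact hab
          rw [ha, hb]
        · right
          have hb : b = 1 := by rw [ha] at hab; linear_combination -hab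
          rw [ha, hb, hw]
          module
    have hgA : A.map (Matrix.toLin' (g : Matrix ι ι F)) ≤ A := by
      rw [hA, Submodule.map_span_le]
      rintro _ ⟨i, rfl⟩
      rw [Matrix.toLin'_apply]
      rcases (henum (τ i) _ (hmapD i _ (hc.sv_mem i))).1 (by rw [hgq, hqu]) with h1 | h1
      · rw [h1]
        exact Submodule.subset_span ⟨τ i, rfl⟩
      · rw [h1]
        exact Submodule.neg_mem _ (Submodule.subset_span ⟨τ i, rfl⟩)
    have hgB : B.map (Matrix.toLin' (g : Matrix ι ι F)) ≤ B := by
      rw [hB, Submodule.map_span_le]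
      rintro _ ⟨i, rfl⟩
      rw [Matrix.toLin'_apply]
      rcases (henum (τ i) _ (hmapD i _ (hwmem i))).2 (by rw [hgq, hqw]) with h1 | h1
      · rw [h1]
        exact Submodule.subset_span ⟨τ i, rfl⟩
      · rw [h1]
        exact Submodule.neg_mem _ (Submodule.subset_span ⟨τ i, rfl⟩)
    refine ⟨1, fun k => ?_⟩
    fin_cases k
    · exact r21b_map_eq g hgA
    · exact r21b_map_eq g hgB

end generic

end Cfsg.Agent.Lib.Helper11.OELeaf
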