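import Mathlib
import Cfsg.Prelude.Def_GeometricClasses
import Cfsg.Agent.Lib.Lead.OEQF

/-!
helper11: OMEGA-EVEN (planner lead), leaf OE-R3 `plus_of_talt_two` of `notes/OmEven_rows_leaves.lean`, EXACT signature:
a tensor decomposition `n = n₁ n₂` with a 2-dimensional factor all of whose pure tensors are singular forces plus type
(the pure tensors `x₁ ⊗ x₂` with `x₁` fixed form a totally singular subspace of dimension `n₂ = n / 2`).
-/

set_option autoImplicit false
set_option linter.unusedSectionVars false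
set_option linter.unusedVariables false

namespace Cfsg.Agent.Lib.Helper11.OELeaf

open Cfsg Cfsg.Geo Matrix Module QuadraticMap Cfsg.Agent.Lib.Lead.OE

variable {F : Type*} [Field F] [Fintype F]

/-- an injective linear map from an `m`-dimensional space into the singular vectors of a `2m`-dimensional quadratic space
gives plus type -/
theorem plus_of_inj {n m : ℕ} (Q : QuadraticForm F (Fin n → F)) (φ : (Fin m → F) →ₗ[F] (Fin n → F))
    (hinj : Function.Injective φ) (h0 : ∀ x, Q (φ x) = 0) (hn : n = 2 * m) : IsPlusTypeOn ⇑Q ⊤ := by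
  refine ⟨LinearMap.range φ, le_top, ?_, ?_⟩
  · rintro _ ⟨x, rfl⟩
    exact h0 x
  · rw [LinearMap.finrank_range_of_inj hinj, finrank_top, Module.finrank_fin_fun,
      Module.finrank_fin_fun, hn]

/-- `pureT` is additive in the second factor -/
theorem pureT_add_right {n n₁ n₂ : ℕ} (e : Fin n ≃ Fin n₁ × Fin n₂) (P : GL (Fin n) F)
    (x₁ : Fin n₁ → F) (x₂ y₂ : Fin n₂ → F) :
    pureT e P x₁ (x₂ + y₂) = pureT e P x₁ x₂ + pureT e P x₁ y₂ := by
  unfold pureT
  rw [← Matrix.mulVec_add]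
  congr 1
  funext a
  simp only [Function.comp_apply, Pi.add_apply]
  ring

theorem pureT_smul_right {n n₁ n₂ : ℕ} (e : Fin n ≃ Fin n₁ × Fin n₂) (P : GL (Fin n) F)
    (x₁ : Fin n₁ → F) (c : F) (x₂ : Fin n₂ → F) :
    pureT e P x₁ (c • x₂) = c • pureT e P x₁ x₂ := by
  unfold pureT
  rw [← Matrix.mulVec_smul]
  congr 1
  funext a
  simp only [Function.comp_apply, Pi.smul_apply, smul_eq_mul]
  ring

theorem pureT_add_left {n n₁ n₂ : ℕ} (e : Fin n ≃ Fin n₁ × Fin n₂) (P : GL (Fin n) F)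
    (x₁ y₁ : Fin n₁ → F) (x₂ : Fin n₂ → F) :
    pureT e P (x₁ + y₁) x₂ = pureT e P x₁ x₂ + pureT e P y₁ x₂ := by
  unfold pureT
  rw [← Matrix.mulVec_add]
  congr 1
  funext a
  simp only [Function.comp_apply, Pi.add_apply]
  ring

theorem pureT_smul_left {n n₁ n₂ : ℕ} (e : Fin n ≃ Fin n₁ × Fin n₂) (P : GL (Fin n) F)
    (c : F) (x₁ : Fin n₁ → F) (x₂ : Fin n₂ → F) :
    pureT e P (c • x₁) x₂ = c • pureT e P x₁ x₂ := by
  unfold pureT
  rw [← Matrix.mulVec_smul]
  congr 1
  funext a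
  simp only [Function.comp_apply, Pi.smul_apply, smul_eq_mul]
  ring

/-- `P *ᵥ ·` is injective for `P ∈ GL` -/
theorem mulVec_inj_of_GL {n : ℕ} (P : GL (Fin n) F) {u v : Fin n → F}
    (h : (P : Matrix (Fin n) (Fin n) F) *ᵥ u = (P : Matrix (Fin n) (Fin n) F) *ᵥ v) : u = v := by
  have h' := congrArg (fun w => ((P⁻¹ : GL (Fin n) F) : Matrix (Fin n) (Fin n) F) *ᵥ w) h
  simp only [Matrix.mulVec_mulVec] at h'
  rw [← Units.val_mul, inv_mul_cancel, Units.val_one, Matrix.one_mulVec, Matrix.one_mulVec] at h'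
  exact h'

/-- the entries of the inner pure tensor are determined by `pureT` -/
theorem pureT_inj {n n₁ n₂ : ℕ} (e : Fin n ≃ Fin n₁ × Fin n₂) (P : GL (Fin n) F)
    {x₁ y₁ : Fin n₁ → F} {x₂ y₂ : Fin n₂ → F} (h : pureT e P x₁ x₂ = pureT e P y₁ y₂)
    (i : Fin n₁) (j : Fin n₂) : x₁ i * x₂ j = y₁ i * y₂ j := by
  unfold pureT at h
  have h' := congrFun (mulVec_inj_of_GL P h) (e.symm (i, j))
  simpa using h'

/-- **OE-R3** -/
theorem plus_of_talt_two {n : ℕ} (Q : QuadraticForm F (Fin n → F)) {n₁ n₂ : ℕ}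
    (e : Fin n ≃ Fin n₁ × Fin n₂) (P : GL (Fin n) F) (h12 : n₁ = 2 ∨ n₂ = 2)
    (hpure : ∀ (x₁ : Fin n₁ → F) (x₂ : Fin n₂ → F), Q (pureT e P x₁ x₂) = 0) :
    IsPlusTypeOn ⇑Q ⊤ := by
  have hcard : n = n₁ * n₂ := by
    have := Fintype.card_congr e
    simpa using this
  rcases h12 with h | h
  · subst h
    let φ : (Fin n₂ → F) →ₗ[F] (Fin n → F) :=
      { toFun := fun x₂ => pureT e P (Pi.single 0 1) x₂
        map_add' := fun x y => pureT_add_right e P _ x y
        map_smul' := fun c x => pureT_smul_right e P _ c x }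
    apply plus_of_inj Q φ ?_ (fun x => hpure _ x) hcard
    intro x y hxy
    funext j
    have := pureT_inj e P (show pureT e P (Pi.single 0 1) x = pureT e P (Pi.single 0 1) y from hxy) 0 j
    simpa using this
  · subst h
    let φ : (Fin n₁ → F) →ₗ[F] (Fin n → F) :=
      { toFun := fun x₁ => pureT e P x₁ (Pi.single 0 1)
        map_add' := fun x y => pureT_add_left e P x y _
        map_smul' := fun c x => pureT_smul_left e P c x _ }
    apply plus_of_inj Q φ ?_ (fun x => hpure x _) (by rw [hcard]; ring)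
    intro x y hxy
    funext i
    have := pureT_inj e P (show pureT e P x (Pi.single 0 1) = pureT e P y (Pi.single 0 1) from hxy) i 0
    simpa using this

end Cfsg.Agent.Lib.Helper11.OELeaf
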