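import Mathlib
import Cfsg.Prelude.Def_GeometricClasses
import Cfsg.Agent.Lib.Helper15.QuadClass
import Cfsg.Agent.Lib.Helper24.OrA

/-!
helper11: OMEGA-EVEN (planner lead), leaf OE-R4 `plus_of_quadratic_subfield` of `notes/OmEven_rows_leaves.lean`, EXACT signature:
a non-degenerate quadratic form in even dimension that has an `F₀`-form for a subfield `F₀` with `|F| = |F₀|²` is of plus type.
(Descent `Q₀` to `F₀`; helper15's `even_family` over `F₀`; a hyperbolic family gives a totally singular half-dimensional space, and in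
the elliptic case `t² + t + ζ₀` acquires a root `θ` in `F`, so `θ x + y` is singular and completes the `e i`.)
-/

set_option autoImplicit false
set_option linter.unusedSectionVars false
set_option linter.unusedVariables false

namespace Cfsg.Agent.Lib.Helper11.OELeaf

open Cfsg Cfsg.Geo Matrix Module QuadraticMap Polynomial Cfsg.Agent.Lib.Helper15

/-- every monic quadratic `t² + t + ζ₀` over `F₀` without a root in `F₀` has a root in `F` when `|F| = |F₀|²` -/
theorem exists_root_quadratic {F : Type*} [Field F] [Fintype F] (F₀ : Subfield F)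
    (hcard : Fintype.card F = Nat.card F₀ ^ 2) (ζ₀ : F₀) (hirr : ∀ t : F₀, t ^ 2 + t + ζ₀ ≠ 0) :
    ∃ θ : F, θ ^ 2 + θ + (ζ₀ : F) = 0 := by
  classical
  let f : F₀[X] := X ^ 2 + X + C ζ₀
  have hdeg : f.natDegree = 2 := by
    have : f = X ^ 2 + (X + C ζ₀) := by simp only [f]; ring
    rw [this]
    compute_degree!
  have hirr' : Irreducible f := by
    apply Polynomial.irreducible_of_degree_le_three_of_not_isRoot
    · rw [hdeg]; decide
    · intro x hx
      apply hirr x
      simpa [f, IsRoot] using hx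
  have hdvd : f ∣ X ^ (Nat.card F₀) ^ 2 - X :=
    (hirr'.natDegree_dvd_iff_dvd_X_pow_card_pow_sub_X).1 (by rw [hdeg])
  have hdvd' : f.map (algebraMap F₀ F) ∣ (X ^ Fintype.card F - X : F[X]) := by
    have := Polynomial.map_dvd (algebraMap F₀ F) hdvd
    rw [hcard]
    simpa using this
  have h1 : 1 < Fintype.card F := Fintype.one_lt_card
  have hsplit : Splits (X ^ Fintype.card F - X : F[X]) := by
    rw [splits_iff_card_roots, FiniteField.roots_X_pow_card_sub_X,
      FiniteField.X_pow_card_sub_X_natDegree_eq F h1]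
    rfl
  have hs : Splits (f.map (algebraMap F₀ F)) :=
    hsplit.of_dvd (FiniteField.X_pow_card_sub_X_ne_zero F h1) hdvd'
  have hd : (f.map (algebraMap F₀ F)).degree ≠ 0 := by
    rw [Polynomial.degree_map, Polynomial.degree_eq_natDegree hirr'.ne_zero, hdeg]
    norm_num
  obtain ⟨θ, hθ⟩ := hs.exists_eval_eq_zero hd
  refine ⟨θ, ?_⟩
  simp [f] at hθ
  exact hθ

variable {ι : Type} [Fintype ι] [DecidableEq ι] {F : Type*} [Field F] [Fintype F]

/-- coercion of vectors over `F₀` to vectors over `F` -/
def upv (F₀ : Subfield F) (u : ι → F₀) : ι → F := fun i => (u i : F)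

theorem upv_add {F₀ : Subfield F} (u v : ι → F₀) : upv F₀ (u + v) = upv F₀ u + upv F₀ v := rfl

theorem upv_smul {F₀ : Subfield F} (c : F₀) (u : ι → F₀) : upv F₀ (c • u) = (c : F) • upv F₀ u := rfl

theorem upv_zero {F₀ : Subfield F} : upv F₀ (0 : ι → F₀) = 0 := rfl

theorem upv_injective {F₀ : Subfield F} : Function.Injective (upv F₀ : (ι → F₀) → (ι → F)) := by
  intro u v huv
  funext i
  exact Subtype.ext (congrFun huv i)

/-- a vector orthogonal to all standard basis vectors is orthogonal to everything -/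
theorem polar_eq_zero_of_single (Q' : QuadraticForm F (ι → F)) {x : ι → F}
    (h : ∀ i, polar Q' x (Pi.single i (1 : F)) = 0) (y : ι → F) : polar Q' x y = 0 := by
  have key : polarBilin Q' x = 0 := by
    apply LinearMap.pi_ext
    intro i c
    have e : (Pi.single i c : ι → F) = c • Pi.single i (1 : F) := by
      rw [← Pi.single_smul, smul_eq_mul, mul_one]
    rw [e, map_smul, polarBilin_apply_apply, h i, smul_zero, LinearMap.zero_apply]
  have := LinearMap.congr_fun key y
  rwa [polarBilin_apply_apply, LinearMap.zero_apply] at this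

section descent

variable {F₀ : Subfield F} (Q' : QuadraticForm F (ι → F))

theorem polar_upv_mem (hr : ∀ u : ι → F₀, Q' (upv F₀ u) ∈ F₀) (u v : ι → F₀) : polar Q' (upv F₀ u) (upv F₀ v) ∈ F₀ := by
  unfold polar
  rw [← upv_add]
  exact F₀.sub_mem (F₀.sub_mem (hr _) (hr _)) (hr _)

/-- the polar form on rational vectors, as a bilinear form over `F₀` -/
noncomputable def descB (hr : ∀ u : ι → F₀, Q' (upv F₀ u) ∈ F₀) : LinearMap.BilinMap F₀ (ι → F₀) F₀ :=
  LinearMap.mk₂ F₀ (fun u v => (⟨polar Q' (upv F₀ u) (upv F₀ v), polar_upv_mem Q' hr u v⟩ : F₀))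
    (fun u u' v => Subtype.ext (by simp only [upv_add, polar_add_left]; rfl))
    (fun c u v => Subtype.ext (by simp only [upv_smul, polar_smul_left]; rfl))
    (fun u v v' => Subtype.ext (by simp only [upv_add, polar_add_right]; rfl))
    (fun c u v => Subtype.ext (by simp only [upv_smul, polar_smul_right]; rfl))

/-- the descended quadratic form over `F₀` -/
noncomputable def descQ (hr : ∀ u : ι → F₀, Q' (upv F₀ u) ∈ F₀) : QuadraticForm F₀ (ι → F₀) where
  toFun u := ⟨Q' (upv F₀ u), hr u⟩
  toFun_smul c u := Subtype.ext (by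
    show Q' (upv F₀ (c • u)) = ((c * c : F₀) : F) * Q' (upv F₀ u)
    rw [upv_smul, QuadraticMap.map_smul]
    rfl)
  exists_companion' := ⟨descB Q' hr, fun u v => Subtype.ext (by
    show Q' (upv F₀ (u + v)) = Q' (upv F₀ u) + Q' (upv F₀ v) + polar Q' (upv F₀ u) (upv F₀ v)
    rw [upv_add]
    unfold polar
    ring)⟩

theorem descQ_apply (hr : ∀ u : ι → F₀, Q' (upv F₀ u) ∈ F₀) (u : ι → F₀) : ((descQ Q' hr u : F₀) : F) = Q' (upv F₀ u) := rfl

theorem polar_descQ (hr : ∀ u : ι → F₀, Q' (upv F₀ u) ∈ F₀) (u v : ι → F₀) :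
    ((polar (descQ Q' hr) u v : F₀) : F) = polar Q' (upv F₀ u) (upv F₀ v) := by
  unfold polar
  push_cast
  rw [descQ_apply, descQ_apply, descQ_apply, upv_add]

theorem ndOn_descQ (hr : ∀ u : ι → F₀, Q' (upv F₀ u) ∈ F₀) (hsep : ∀ x : ι → F, (∀ y, polar Q' x y = 0) → x = 0) :
    NdOn (descQ Q' hr) ⊤ := by
  intro w _ hw
  apply upv_injective (F₀ := F₀)
  rw [upv_zero]
  apply hsep
  apply polar_eq_zero_of_single
  intro i
  have e : (Pi.single i (1 : F) : ι → F) = upv F₀ (Pi.single i (1 : F₀)) := by
    funext j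
    unfold upv
    by_cases hj : j = i
    · subst hj; simp
    · simp [Pi.single_eq_of_ne hj]
  rw [e, ← polar_descQ Q' hr, hw _ Submodule.mem_top]
  rfl

end descent

/-- core: a rational non-degenerate quadratic form in even dimension is of plus type over a quadratic extension -/
theorem plus_of_rational (Q' : QuadraticForm F (ι → F))
    (hsep : ∀ x : ι → F, (∀ y, polar Q' x y = 0) → x = 0) (hn : Even (Fintype.card ι))
    (F₀ : Subfield F) (hcard : Fintype.card F = Nat.card F₀ ^ 2)
    (hr : ∀ u : ι → F₀, Q' (upv F₀ u) ∈ F₀) : IsPlusTypeOn ⇑Q' ⊤ := by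
  classical
  obtain ⟨m, hm⟩ := hn
  have htop : finrank F (⊤ : Submodule F (ι → F)) = Fintype.card ι := by
    rw [finrank_top, Module.finrank_fintype_fun_eq_card]
  rcases Nat.eq_zero_or_pos m with h0 | hpos
  · refine ⟨⊥, bot_le, ?_, ?_⟩
    · intro w hw
      rw [(Submodule.mem_bot F).1 hw]
      exact QuadraticMap.map_zero Q'
    · rw [htop, hm, h0, finrank_bot]
  obtain ⟨k, rfl⟩ : ∃ k, m = k + 1 := ⟨m - 1, by omega⟩
  have hdim : finrank F₀ (⊤ : Submodule F₀ (ι → F₀)) = 2 * (k + 1) := by
    rw [finrank_top, Module.finrank_fintype_fun_eq_card, hm]; ring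
  -- the polar form in terms of the descended one
  have hpol : ∀ u v : ι → F₀, polar Q' (upv F₀ u) (upv F₀ v) = ((polar (descQ Q' hr) u v : F₀) : F) :=
    fun u v => (polar_descQ Q' hr u v).symm
  have hQv : ∀ u : ι → F₀, Q' (upv F₀ u) = ((descQ Q' hr u : F₀) : F) := fun u => rfl
  rcases even_family (descQ Q' hr) k ⊤ (ndOn_descQ Q' hr hsep) hdim with
    ⟨e, f, H⟩ | ⟨e, f, x, y, ζ₀, H⟩
  · -- hyperbolic family of size `k + 1`
    obtain ⟨-, HQ, Hef, Hee⟩ := H
    let v : Fin (k + 1) → (ι → F) := fun i => upv F₀ (e i)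
    have hv : ∀ i, Q' (v i) = 0 := by
      intro i
      show Q' (upv F₀ (e i)) = 0
      rw [hQv, (HQ i).1]; rfl
    have horth : ∀ i j, polar Q' (v i) (v j) = 0 := by
      intro i j
      show polar Q' (upv F₀ (e i)) (upv F₀ (e j)) = 0
      rw [hpol, (Hee i j).1]; rfl
    have hdual : ∀ i j, polar Q' (v i) (upv F₀ (f j)) = if i = j then 1 else 0 := by
      intro i j
      show polar Q' (upv F₀ (e i)) (upv F₀ (f j)) = _
      rw [hpol, Hef i j]
      split_ifs <;> rfl
    have hli : LinearIndependent F v := by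
      rw [Fintype.linearIndependent_iff]
      intro g hg j
      have h1 := congrArg (fun z => polarBilin Q' z (upv F₀ (f j))) hg
      simp only [map_sum, map_smul, LinearMap.sum_apply, LinearMap.smul_apply, polarBilin_apply_apply,
        LinearMap.zero_apply, hdual, smul_eq_mul, mul_ite, mul_one, mul_zero,
        Finset.sum_ite_eq', Finset.mem_univ, if_true] at h1
      rw [polar_zero_left] at h1
      exact h1
    refine ⟨Submodule.span F (Set.range v), le_top, Cfsg.Agent.Lib.Helper24.Or.ts_span Q' v hv horth, ?_⟩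
    rw [finrank_span_eq_card hli, Fintype.card_fin, htop, hm]; ring
  · -- elliptic family: `k` hyperbolic pairs and an anisotropic plane `⟨x, y⟩`
    obtain ⟨⟨-, HQ, Hef, Hee⟩, -, -, hirr, Hxy, hQx, hxy, hQy, -⟩ := H
    obtain ⟨θ, hθ⟩ := exists_root_quadratic F₀ hcard ζ₀ hirr
    obtain ⟨w, hw⟩ : ∃ w : ι → F, w = θ • upv F₀ x + upv F₀ y := ⟨_, rfl⟩
    have hQw : Q' w = 0 := by
      have e1 : Q' (θ • upv F₀ x + upv F₀ y) =
          Q' (θ • upv F₀ x) + Q' (upv F₀ y) + polar Q' (θ • upv F₀ x) (upv F₀ y) := by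
        unfold polar; ring
      rw [hw, e1, QuadraticMap.map_smul, polar_smul_left, hQv, hQv, hpol, hQx, hxy, hQy]
      simp only [smul_eq_mul, OneMemClass.coe_one, mul_one]
      linear_combination hθ
    have hwe : ∀ i, polar Q' w (upv F₀ (e i)) = 0 := by
      intro i
      rw [hw, polar_add_left, polar_smul_left, hpol, hpol, ((Hxy i).1).1, ((Hxy i).2).1]
      simp
    have hwf : ∀ i, polar Q' w (upv F₀ (f i)) = 0 := by
      intro i
      rw [hw, polar_add_left, polar_smul_left, hpol, hpol, ((Hxy i).1).2, ((Hxy i).2).2]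
      simp
    have hw0 : w ≠ 0 := by
      intro h0
      have hx0 : x ≠ 0 := by
        intro hx
        rw [hx, QuadraticMap.map_zero] at hQx
        exact zero_ne_one hQx
      obtain ⟨i, hi⟩ : ∃ i, x i ≠ 0 := by
        by_contra hcon
        push Not at hcon
        exact hx0 (funext hcon)
      have hi' : ((x i : F₀) : F) ≠ 0 := fun h => hi (Subtype.ext h)
      have h1 : θ * ((x i : F₀) : F) + ((y i : F₀) : F) = 0 := by
        have := congrFun h0 i
        rw [hw] at this
        simpa [upv] using this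
      have hθ' : θ = (((-(y i) / (x i) : F₀)) : F) := by
        push_cast
        field_simp
        linear_combination h1
      apply hirr (-(y i) / (x i))
      apply Subtype.ext
      push_cast
      rw [hθ'] at hθ
      push_cast at hθ
      exact hθ
    let v : Fin k ⊕ Unit → (ι → F) := Sum.elim (fun i => upv F₀ (e i)) (fun _ => w)
    have hv : ∀ i, Q' (v i) = 0 := by
      rintro (i | i)
      · show Q' (upv F₀ (e i)) = 0
        rw [hQv, (HQ i).1]; rfl
      · exact hQw
    have horth : ∀ i j, polar Q' (v i) (v j) = 0 := by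
      rintro (i | i) (j | j)
      · show polar Q' (upv F₀ (e i)) (upv F₀ (e j)) = 0
        rw [hpol, (Hee i j).1]; rfl
      · show polar Q' (upv F₀ (e i)) w = 0
        rw [polar_comm]; exact hwe i
      · exact hwe j
      · show polar Q' w w = 0
        rw [QuadraticMap.polar_self, hQw, smul_zero]
    have hli : LinearIndependent F v := by
      rw [Fintype.linearIndependent_iff]
      intro g hg
      rw [Fintype.sum_sum_type] at hg
      simp only [v, Sum.elim_inl, Sum.elim_inr, Finset.univ_unique, Finset.sum_singleton] at hg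
      have hl : ∀ j, g (Sum.inl j) = 0 := by
        intro j
        have h1 := congrArg (fun z => polarBilin Q' z (upv F₀ (f j))) hg
        simp only [map_add, map_sum, map_smul, LinearMap.add_apply, LinearMap.sum_apply,
          LinearMap.smul_apply, polarBilin_apply_apply, LinearMap.zero_apply, hwf, smul_eq_mul,
          mul_zero, add_zero] at h1
        have h2 : ∀ i, polar Q' (upv F₀ (e i)) (upv F₀ (f j)) = if i = j then 1 else 0 := by
          intro i
          rw [hpol, Hef i j]
          split_ifs <;> rfl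
        simp only [h2, mul_ite, mul_one, mul_zero, Finset.sum_ite_eq', Finset.mem_univ, if_true] at h1
        rw [polar_zero_left] at h1
        exact h1
      have hr' : g (Sum.inr default) = 0 := by
        simp only [hl, zero_smul, Finset.sum_const_zero, zero_add] at hg
        rcases smul_eq_zero.1 hg with h | h
        · exact h
        · exact absurd h hw0
      rintro (j | j)
      · exact hl j
      · have : j = default := Subsingleton.elim _ _
        rw [this]; exact hr'
    refine ⟨Submodule.span F (Set.range v), le_top, Cfsg.Agent.Lib.Helper24.Or.ts_span Q' v hv horth, ?_⟩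
    rw [finrank_span_eq_card hli, Fintype.card_sum, Fintype.card_fin, Fintype.card_unit, htop, hm]; ring

/-- **OE-R4** -/
theorem plus_of_quadratic_subfield (Q : QuadraticForm F (ι → F)) (hQ : (polarBilin Q).Nondegenerate)
    (hn : Even (Fintype.card ι))
    (F₀ : Subfield F) (hcard : Fintype.card F = Nat.card F₀ ^ 2) (P : GL ι F) (ζ : F) (hζ : ζ ≠ 0)
    (hrat : IsQuadFormRationalStructure (fun v : ι → F => ζ * Q v) F₀ P) : IsPlusTypeOn ⇑Q ⊤ := by
  classical
  let Q' : QuadraticForm F (ι → F) := (ζ • Q).comp (Matrix.toLin' (P : Matrix ι ι F))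
  have hQ' : ∀ x, Q' x = ζ * Q ((P : Matrix ι ι F) *ᵥ x) := by
    intro x
    show (ζ • Q) (Matrix.toLin' (P : Matrix ι ι F) x) = _
    rw [Matrix.toLin'_apply]
    rfl
  have hpol : ∀ x y, polar Q' x y =
      ζ * polar Q ((P : Matrix ι ι F) *ᵥ x) ((P : Matrix ι ι F) *ᵥ y) := by
    intro x y
    unfold polar
    rw [hQ', hQ', hQ', Matrix.mulVec_add]
    ring
  have hPinv : ∀ z : ι → F, (P : Matrix ι ι F) *ᵥ (((P⁻¹ : GL ι F) : Matrix ι ι F) *ᵥ z) = z := by
    intro z
    rw [Matrix.mulVec_mulVec, ← Units.val_mul, mul_inv_cancel, Units.val_one, Matrix.one_mulVec]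
  have hPinj : ∀ x : ι → F, (P : Matrix ι ι F) *ᵥ x = 0 → x = 0 := by
    intro x hx
    have := congrArg (fun w => ((P⁻¹ : GL ι F) : Matrix ι ι F) *ᵥ w) hx
    simp only [Matrix.mulVec_mulVec, Matrix.mulVec_zero] at this
    rwa [← Units.val_mul, inv_mul_cancel, Units.val_one, Matrix.one_mulVec] at this
  have hsep : ∀ x : ι → F, (∀ y, polar Q' x y = 0) → x = 0 := by
    intro x hx
    apply hPinj
    apply hQ.1
    intro z
    rw [polarBilin_apply_apply]
    have := hx (((P⁻¹ : GL ι F) : Matrix ι ι F) *ᵥ z)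
    rw [hpol, hPinv] at this
    exact (mul_eq_zero.1 this).resolve_left hζ
  have hr : ∀ u : ι → F₀, Q' (upv F₀ u) ∈ F₀ := by
    intro u
    rw [hQ']
    exact hrat (upv F₀ u) (fun i => (u i).2)
  obtain ⟨U', -, hts, hdim⟩ := plus_of_rational Q' hsep hn F₀ hcard hr
  have hinj : Function.Injective (Matrix.toLin' (P : Matrix ι ι F)) := by
    rw [← LinearMap.ker_eq_bot, LinearMap.ker_eq_bot']
    intro x hx
    rw [Matrix.toLin'_apply] at hx
    exact hPinj x hx
  refine ⟨U'.map (Matrix.toLin' (P : Matrix ι ι F)), le_top, ?_, ?_⟩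
  · rintro _ ⟨u, hu, rfl⟩
    have := hts u hu
    rw [show (⇑Q' : (ι → F) → F) u = Q' u from rfl, hQ'] at this
    rw [Matrix.toLin'_apply]
    exact (mul_eq_zero.1 this).resolve_left hζ
  · rw [← (Submodule.equivMapOfInjective _ hinj U').finrank_eq]
    exact hdim

end Cfsg.Agent.Lib.Helper11.OELeaf
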