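import Mathlib
import Cfsg.Prelude.Def_ClassicalGeometry
import Cfsg.Prelude.Def_GeometricClasses
import Cfsg.Agent.Lib.Helper2.OTGDefs
import Cfsg.Agent.Lib.Helper9.SOTA3abs
import Cfsg.Agent.Lib.Helper1.SOTTools

/-!
helper11: S5681 / S5709 PART (GA') (helper2's market), leaf (C1) `exists_b0` = K-lemma + the element `b₀`.
`_core` form: the leaves (N2) `kB_val`, `NL_mem_WL`, `NL_perp`, (W1) `finrank_WL`, (W3) `WL_isotropic`,
(W4) `mem_perpW_gim`, (F1) `LL_action` are hypotheses.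
-/

set_option autoImplicit false
set_option linter.unusedSectionVars false
set_option linter.unusedVariables false

namespace Cfsg.Agent.Lib.Helper11.OTGLeaf
open Matrix Module
open Cfsg.Agent.Lib.Helper25.Tens Cfsg.Agent.Lib.Helper19.OSub Cfsg.Agent.Lib.Helper25.OT
open Cfsg.Agent.Lib.Helper2.SOT (fB gim mem_gim fB_add_left fB_add_right fB_smul_left fB_smul_right
  fB_comm)
open Cfsg.Agent.Lib.Helper2.OTG
open scoped Kronecker

variable {F : Type*} [Field F] [Fintype F] {a b : ℕ} {G1 : Matrix (Fin a) (Fin a) F}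
  {G2 : Matrix (Fin b) (Fin b) F} {M : Subgroup (GL (Idx a b) F)}

/-- (C1), core form -/
theorem exists_b0_core {y z y' z' : Fin b → F}
    (g : GL (Idx a b) F) (x₀ : GL (Idx a b) F)
    (hx₀ : x₀ ∈ LL G2 y z g y' z')
    (hmap : ∀ v ∈ (WL y z : Submodule F (Idx a b → F)), mv x₀ v ∈ gim g (WL y' z'))
    -- (N2)
    (hval : ∀ c : F, ((kB G2 y z c : GL (Idx a b) F) : Matrix (Idx a b) (Idx a b) F) =
      1 + c • NL G2 y z)
    (hval' : ∀ c : F, ((kB G2 y' z' c : GL (Idx a b) F) : Matrix (Idx a b) (Idx a b) F) =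
      1 + c • NL G2 y' z')
    -- `NL_mem_WL`, `NL_perp`
    (hNmem : ∀ w : Idx a b → F,
      (NL G2 y z : Matrix (Idx a b) (Idx a b) F) *ᵥ w ∈ (WL y z : Submodule F (Idx a b → F)))
    (hNmem' : ∀ w : Idx a b → F,
      (NL G2 y' z' : Matrix (Idx a b) (Idx a b) F) *ᵥ w ∈ (WL y' z' : Submodule F (Idx a b → F)))
    (hNperp : ∀ w ∈ perpW G1 G2 (WL y z),
      (NL G2 y z : Matrix (Idx a b) (Idx a b) F) *ᵥ w = 0)
    (hNperp' : ∀ w ∈ perpW G1 G2 (WL y' z'),
      (NL G2 y' z' : Matrix (Idx a b) (Idx a b) F) *ᵥ w = 0)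
    -- (W1)
    (hfr : finrank F (WL y z : Submodule F (Idx a b → F)) = 2 * a)
    (hfr' : finrank F (WL y' z' : Submodule F (Idx a b → F)) = 2 * a)
    -- (W3)
    (hRts : (WL y z : Submodule F (Idx a b → F)) ≤ perpW G1 G2 (WL y z))
    (hR'ts : (WL y' z' : Submodule F (Idx a b → F)) ≤ perpW G1 G2 (WL y' z'))
    -- (W4)
    (hW4 : ∀ (W : Submodule F (Idx a b → F)) (v : Idx a b → F),
      mv g v ∈ perpW G1 G2 (gim g W) ↔ v ∈ perpW G1 G2 W)
    -- (F1)
    (hF1 : ∀ l ∈ LL G2 y z g y' z',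
      (∀ v, mv l v - v ∈ (WL y z : Submodule F (Idx a b → F)) ⊔ gim g (WL y' z')) ∧
      (∀ v ∈ perpW G1 G2 (WL y z) ⊓ perpW G1 G2 (gim g (WL y' z')), mv l v = v)) :
    gim g (WL y' z') ⊓ perpW G1 G2 (WL y z) ≤ (WL y z : Submodule F (Idx a b → F)) ∧
    ∃ b₀ ∈ LL G2 y z g y' z',
      (∀ v ∈ perpW G1 G2 (WL y z) ⊓ perpW G1 G2 (gim g (WL y' z')), mv b₀ v = v) ∧
      ∀ v ∈ (WL y z : Submodule F (Idx a b → F)),
        mv b₀ v + v ∈ (WL y z : Submodule F (Idx a b → F)) ⊓ gim g (WL y' z') := by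
  have hW'ts : gim g (WL y' z' : Submodule F (Idx a b → F)) ≤
      perpW G1 G2 (gim g (WL y' z')) := by
    intro w hw
    obtain ⟨u, hu, rfl⟩ := mem_gim.1 hw
    exact (hW4 _ u).2 (hR'ts hu)
  -- `x₀ R = W'`
  have himg : gim x₀ (WL y z : Submodule F (Idx a b → F)) = gim g (WL y' z') := by
    apply Submodule.eq_of_le_of_finrank_eq
    · intro v hv
      obtain ⟨w, hw, rfl⟩ := mem_gim.1 hv
      exact hmap w hw
    · rw [Cfsg.Agent.Lib.Helper1.SOTLeaf.finrank_gim, Cfsg.Agent.Lib.Helper1.SOTLeaf.finrank_gim,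
        hfr, hfr']
  refine ⟨?_, ?_⟩
  · intro v hv
    have hvY : v ∈ perpW G1 G2 (WL y z) ⊓ perpW G1 G2 (gim g (WL y' z')) :=
      ⟨hv.2, hW'ts hv.1⟩
    have hfix := (hF1 x₀⁻¹ ((LL G2 y z g y' z').inv_mem hx₀)).2 v hvY
    have hv' : v ∈ gim x₀ (WL y z : Submodule F (Idx a b → F)) := by rw [himg]; exact hv.1
    have := Cfsg.Agent.Lib.Helper1.SOTLeaf.mv_inv_mem_of_mem_gim hv'
    rwa [hfix] at this
  · have hRK : (WL y z : Submodule F (Idx a b → F)) ⊓
        (gim g (WL y' z') ⊔ (perpW G1 G2 (WL y z) ⊓ perpW G1 G2 (gim g (WL y' z')))) ≤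
        (WL y z : Submodule F (Idx a b → F)) ⊓ gim g (WL y' z') := by
      intro v hv
      obtain ⟨hv1, hv2⟩ := hv
      have hvp : v ∈ perpW G1 G2 (gim g (WL y' z')) :=
        (sup_le hW'ts (inf_le_right :
          perpW G1 G2 (WL y z) ⊓ perpW G1 G2 (gim g (WL y' z')) ≤ _)) hv2
      have hvY : v ∈ perpW G1 G2 (WL y z) ⊓ perpW G1 G2 (gim g (WL y' z')) :=
        ⟨hRts hv1, hvp⟩
      have hfix := (hF1 x₀ hx₀).2 v hvY
      refine ⟨hv1, ?_⟩
      rw [← hfix]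
      exact hmap v hv1
    obtain ⟨N'', hN''⟩ : ∃ N'' : Matrix (Idx a b) (Idx a b) F,
        N'' = (g : Matrix (Idx a b) (Idx a b) F) * NL G2 y' z' *
          ((g⁻¹ : GL (Idx a b) F) : Matrix (Idx a b) (Idx a b) F) := ⟨_, rfl⟩
    have hN''v : ∀ v, N'' *ᵥ v =
        mv g ((NL G2 y' z' : Matrix (Idx a b) (Idx a b) F) *ᵥ mv g⁻¹ v) := by
      intro v
      rw [hN'']
      unfold mv
      rw [Matrix.mulVec_mulVec, Matrix.mulVec_mulVec]
    obtain ⟨b₀, hb₀, hb1, hb2⟩ := Cfsg.Agent.Lib.Helper9.SOTLeaf.exists_b0_abstract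
      (NL G2 y z) N'' (WL y z : Submodule F (Idx a b → F)) (gim g (WL y' z'))
      (perpW G1 G2 (WL y z) ⊓ perpW G1 G2 (gim g (WL y' z')))
      ((WL y z : Submodule F (Idx a b → F)) ⊓ gim g (WL y' z'))
      hNmem
      (by
        intro v
        rw [hN''v]
        exact Cfsg.Agent.Lib.Helper1.SOTLeaf.mv_mem_gim (hNmem' _))
      (by
        intro v hv
        apply hNperp
        exact (sup_le hRts (inf_le_left :
          perpW G1 G2 (WL y z) ⊓ perpW G1 G2 (gim g (WL y' z')) ≤ _)) hv)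
      (by
        intro v hv
        have hvp : v ∈ perpW G1 G2 (gim g (WL y' z')) :=
          (sup_le hW'ts (inf_le_right :
            perpW G1 G2 (WL y z) ⊓ perpW G1 G2 (gim g (WL y' z')) ≤ _)) hv
        have : mv g⁻¹ v ∈ perpW G1 G2 (WL y' z') := by
          rw [← hW4, mv_mv_inv]
          exact hvp
        rw [hN''v, hNperp' _ this, mv_zero])
      inf_le_left inf_le_right
      (le_inf (inf_le_left.trans hRts) (inf_le_right.trans hW'ts)) hRK
      (fun c => (kB G2 y z c : GL (Idx a b) F))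
      (fun c => g * (kB G2 y' z' c : GL (Idx a b) F) * g⁻¹)
      hval
      (by
        intro c
        rw [Units.val_mul, Units.val_mul, hval', hN'', Matrix.mul_add, Matrix.add_mul,
          Matrix.mul_one, ← Units.val_mul, mul_inv_cancel, Units.val_one, Matrix.mul_smul,
          Matrix.smul_mul])
      x₀ hx₀ hmap
    exact ⟨b₀, hb₀, hb1, hb2⟩

end Cfsg.Agent.Lib.Helper11.OTGLeaf
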