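import Mathlib
import Cfsg.Agent.Lib.Helper11.OTGC1
import Cfsg.Agent.Lib.Helper11.OTGC4
import Cfsg.Agent.Lib.Helper2.OTGN
import Cfsg.Agent.Lib.Helper2.OTGW
import Cfsg.Agent.Lib.Helper2.OTGS1
import Cfsg.Agent.Lib.Helper6.OTGF1

/-!
helper11: S5681 / S5709 PART (GA') (helper2's market): the leaves (C1) `exists_b0` and (C4) `inv_normalise` in the EXACT
form of notes/S5681_GA_leaves.lean (cores: `OTGC1`, `OTGC4`; inputs: helper2's `OTGN`, `OTGW`, `OTGS1`, helper6's `OTGF1`).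
-/

set_option autoImplicit false
set_option linter.unusedSectionVars false
set_option linter.unusedVariables false

namespace Cfsg.Agent.Lib.Helper11.OTGLeaf
open Matrix Module
open Cfsg.Agent.Lib.Helper25.Tens Cfsg.Agent.Lib.Helper19.OSub Cfsg.Agent.Lib.Helper25.OT
open Cfsg.Agent.Lib.Helper2.SOT (fB gim mem_gim fB_add_left fB_add_right fB_smul_left fB_smul_right
  fB_comm)
open Cfsg.Agent.Lib.Helper2.OTG
open Cfsg.Agent.Lib.Helper2.OTGLeaf (kB_val NL_mem_WL NL_perp finrank_WL WL_isotropic mem_perpW_gim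
  sim_of_kel_mem)
open Cfsg.Agent.Lib.Helper6.OTGLeaf (LL_action)
open scoped Kronecker

variable {F : Type*} [Field F] [Fintype F] {a b : ℕ} {G1 : Matrix (Fin a) (Fin a) F}
  {G2 : Matrix (Fin b) (Fin b) F} {M : Subgroup (GL (Idx a b) F)}

/-- (C1) K-lemma + the element `b₀` -/
theorem exists_b0 (h : Ctx a b G1 G2) {y z y' z' : Fin b → F} (hL : TSL G2 y z)
    (hL' : TSL G2 y' z') (g : GL (Idx a b) F) (hg : g ∈ OV G1 G2) (x₀ : GL (Idx a b) F)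
    (hx₀ : x₀ ∈ LL G2 y z g y' z')
    (hmap : ∀ v ∈ (WL y z : Submodule F (Idx a b → F)), mv x₀ v ∈ gim g (WL y' z')) :
    gim g (WL y' z') ⊓ perpW G1 G2 (WL y z) ≤ (WL y z : Submodule F (Idx a b → F)) ∧
    ∃ b₀ ∈ LL G2 y z g y' z',
      (∀ v ∈ perpW G1 G2 (WL y z) ⊓ perpW G1 G2 (gim g (WL y' z')), mv b₀ v = v) ∧
      ∀ v ∈ (WL y z : Submodule F (Idx a b → F)),
        mv b₀ v + v ∈ (WL y z : Submodule F (Idx a b → F)) ⊓ gim g (WL y' z') :=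
  exists_b0_core g x₀ hx₀ hmap (kB_val h hL) (kB_val h hL') (NL_mem_WL h hL) (NL_mem_WL h hL')
    (NL_perp h hL) (NL_perp h hL') (finrank_WL hL) (finrank_WL hL') (WL_isotropic h hL)
    (WL_isotropic h hL') (mem_perpW_gim h g hg) (LL_action h hL hL' g hg)

/-- (C4) (INV) normalisation of an involution of `KG ⊓ O(V)`, `a` odd -/
theorem inv_normalise (h : Ctx a b G1 G2) (b₁ : GL (Idx a b) F) (hK : b₁ ∈ KG a b F)
    (hO : b₁ ∈ OV G1 G2) (hsq : b₁ ^ 2 = 1) :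
    ∃ (α : GL (Fin a) F) (β : GL (Fin b) F), b₁ = kel α β ∧ α ^ 2 = 1 ∧ β ^ 2 = 1 ∧
      (∀ x x' : Fin a → F, fB G1 ((α : Matrix (Fin a) (Fin a) F) *ᵥ x)
        ((α : Matrix (Fin a) (Fin a) F) *ᵥ x') = fB G1 x x') ∧
      (∀ y y' : Fin b → F, fB G2 ((β : Matrix (Fin b) (Fin b) F) *ᵥ y)
        ((β : Matrix (Fin b) (Fin b) F) *ᵥ y') = fB G2 y y') :=
  inv_normalise_core h (sim_of_kel_mem h) b₁ hK hO hsq

end Cfsg.Agent.Lib.Helper11.OTGLeaf
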