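import Mathlib
import Cfsg.Prelude.Def_ClassicalGeometry
import Cfsg.Prelude.Def_GeometricClasses
import Cfsg.Agent.Lib.Helper2.OTGDefs
import Cfsg.Agent.Lib.Helper1.SOTTools

/-!
helper11: S5681 / S5709 PART (GA') (helper2's market), leaf (P2) `exists_partner` = the partner line `L₁ = β L'`.
`_core` form: the leaves (P1) `exists_x0`, (S1) `sim_of_kel_mem`, (S2) `TSL_of_sim`, (S3) `kel_conj_kB`, (S4) `kel_WL`,
(W3) `WL_isotropic`, (W4) `mem_perpW_gim`, (F1) `LL_action` are hypotheses.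
-/

set_option autoImplicit false
set_option linter.unusedSectionVars false
set_option linter.unusedVariables false

namespace Cfsg.Agent.Lib.Helper11.OTGLeaf
open Matrix Module
open Cfsg.Agent.Lib.Helper25.Tens Cfsg.Agent.Lib.Helper19.OSub Cfsg.Agent.Lib.Helper25.OT
open Cfsg.Agent.Lib.Helper2.SOT (fB gim mem_gim fB_add_left fB_add_right fB_smul_left fB_smul_right
  fB_comm)
open Cfsg.Agent.Lib.Helper2.OTG
open scoped Kronecker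

variable {F : Type*} [Field F] [Fintype F] {a b : ℕ} {G1 : Matrix (Fin a) (Fin a) F}
  {G2 : Matrix (Fin b) (Fin b) F} {M : Subgroup (GL (Idx a b) F)}

/-- `𝓛 ≤ M` -/
theorem LL_le_M (hroot : ∀ y z : Fin b → F, TSL G2 y z → ∀ c : F,
      (kB G2 y z c : GL (Idx a b) F) ∈ M)
    {y z y' z' : Fin b → F} (hL : TSL G2 y z) (hL' : TSL G2 y' z') (g : GL (Idx a b) F)
    (hg : g ∈ M) : LL G2 y z g y' z' ≤ M := by
  unfold LL
  rw [Subgroup.closure_le]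
  rintro t (⟨c, rfl⟩ | ⟨c, rfl⟩)
  · exact hroot y z hL c
  · exact M.mul_mem (M.mul_mem hg (hroot y' z' hL' c)) (M.inv_mem hg)

/-- (P2), core form -/
theorem exists_partner_core (h : MCtx a b G1 G2 M)
    (hroot : ∀ y z : Fin b → F, TSL G2 y z → ∀ c : F, (kB G2 y z c : GL (Idx a b) F) ∈ M)
    {y z y' z' : Fin b → F} (hL : TSL G2 y z) (hL' : TSL G2 y' z')
    (g : GL (Idx a b) F) (hg : g ∈ M)
    -- (P1)
    (hP1 : ∃ x₀ ∈ LL G2 y z g y' z', g⁻¹ * x₀ ∈ KG a b F)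
    -- (S1)
    (hS1 : ∀ (α : GL (Fin a) F) (β : GL (Fin b) F), (kel α β : GL (Idx a b) F) ∈ OV G1 G2 →
      ∃ μ : F, μ ≠ 0 ∧
        (∀ x x' : Fin a → F, fB G1 ((α : Matrix (Fin a) (Fin a) F) *ᵥ x)
          ((α : Matrix (Fin a) (Fin a) F) *ᵥ x') = μ * fB G1 x x') ∧
        (∀ y y' : Fin b → F, fB G2 ((β : Matrix (Fin b) (Fin b) F) *ᵥ y)
          ((β : Matrix (Fin b) (Fin b) F) *ᵥ y') = μ⁻¹ * fB G2 y y'))
    -- (S2)
    (hS2 : ∀ (β : GL (Fin b) F) (ν : F),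
      (∀ y y' : Fin b → F, fB G2 ((β : Matrix (Fin b) (Fin b) F) *ᵥ y)
        ((β : Matrix (Fin b) (Fin b) F) *ᵥ y') = ν * fB G2 y y') →
      TSL G2 ((β : Matrix (Fin b) (Fin b) F) *ᵥ y') ((β : Matrix (Fin b) (Fin b) F) *ᵥ z'))
    -- (S3)
    (hS3 : ∀ (α : GL (Fin a) F) (β : GL (Fin b) F) (ν : F), ν ≠ 0 →
      (∀ y y' : Fin b → F, fB G2 ((β : Matrix (Fin b) (Fin b) F) *ᵥ y)
        ((β : Matrix (Fin b) (Fin b) F) *ᵥ y') = ν * fB G2 y y') → ∀ c : F,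
      (kel α β : GL (Idx a b) F) * kB G2 y' z' c * (kel α β)⁻¹ =
        kB G2 ((β : Matrix (Fin b) (Fin b) F) *ᵥ y') ((β : Matrix (Fin b) (Fin b) F) *ᵥ z')
          (c * ν⁻¹))
    -- (S4)
    (hS4 : ∀ (α : GL (Fin a) F) (β : GL (Fin b) F),
      gim (kel α β) (WL y' z' : Submodule F (Idx a b → F)) =
        WL ((β : Matrix (Fin b) (Fin b) F) *ᵥ y') ((β : Matrix (Fin b) (Fin b) F) *ᵥ z'))
    -- (W3)
    (hRts : (WL y z : Submodule F (Idx a b → F)) ≤ perpW G1 G2 (WL y z))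
    (hR'ts : (WL y' z' : Submodule F (Idx a b → F)) ≤ perpW G1 G2 (WL y' z'))
    -- (W4)
    (hW4 : ∀ (W : Submodule F (Idx a b → F)) (v : Idx a b → F),
      mv g v ∈ perpW G1 G2 (gim g W) ↔ v ∈ perpW G1 G2 W)
    -- (F1)
    (hF1 : ∀ l ∈ LL G2 y z g y' z',
      (∀ v, mv l v - v ∈ (WL y z : Submodule F (Idx a b → F)) ⊔ gim g (WL y' z')) ∧
      (∀ v ∈ perpW G1 G2 (WL y z) ⊓ perpW G1 G2 (gim g (WL y' z')), mv l v = v)) :
    ∃ y₁ z₁ : Fin b → F, TSL G2 y₁ z₁ ∧ LL G2 y₁ z₁ g y' z' ≤ LL G2 y z g y' z' ∧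
      (∃ x₀ ∈ LL G2 y z g y' z', ∀ v ∈ (WL y₁ z₁ : Submodule F (Idx a b → F)),
        mv x₀ v ∈ gim g (WL y' z' : Submodule F (Idx a b → F))) ∧
      (WL y z : Submodule F (Idx a b → F)) ⊓ gim g (WL y' z') ≤ WL y₁ z₁ ∧
      (WL y₁ z₁ : Submodule F (Idx a b → F)) ≤ WL y z ⊔ gim g (WL y' z') := by
  obtain ⟨x₀, hx₀, hxK⟩ := hP1
  have hLM : LL G2 y z g y' z' ≤ M := LL_le_M hroot hL hL' g hg
  have hx₀M : x₀ ∈ M := hLM hx₀
  -- `hh := x₀⁻¹ g ∈ KG ⊓ M`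
  have hhK : x₀⁻¹ * g ∈ KG a b F := by
    have := (KG a b F).inv_mem hxK
    rwa [_root_.mul_inv_rev, inv_inv] at this
  have hhM : x₀⁻¹ * g ∈ M := M.mul_mem (M.inv_mem hx₀M) hg
  obtain ⟨α, β, hαβ⟩ := (mem_KG_iff _).1 hhK
  have hh : x₀⁻¹ * g = kel α β := Units.ext hαβ
  have hhO : (kel α β : GL (Idx a b) F) ∈ OV G1 G2 := by
    rw [← hh]; exact OmV_le_OV _ _ (h.le_om hhM)
  obtain ⟨μ, hμ, -, hB⟩ := hS1 α β hhO
  have hTSL := hS2 β μ⁻¹ hB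
  have hW'ts : gim g (WL y' z' : Submodule F (Idx a b → F)) ≤
      perpW G1 G2 (gim g (WL y' z')) := by
    intro w hw
    obtain ⟨u, hu, rfl⟩ := mem_gim.1 hw
    exact (hW4 _ u).2 (hR'ts hu)
  -- `x₀ (h w) = g w`
  have hxh : ∀ w, mv x₀ (mv (kel α β) w) = mv g w := by
    intro w
    rw [← hh, ← mv_mul, ← mul_assoc, mul_inv_cancel, one_mul]
  have hhx : ∀ w, mv x₀⁻¹ (mv g w) = mv (kel α β) w := by
    intro w
    rw [← hh, mv_mul]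
  refine ⟨(β : Matrix (Fin b) (Fin b) F) *ᵥ y', (β : Matrix (Fin b) (Fin b) F) *ᵥ z', hTSL, ?_,
    ⟨x₀, hx₀, ?_⟩, ?_, ?_⟩
  · -- `𝓛₁ ≤ 𝓛`
    unfold LL
    rw [Subgroup.closure_le]
    rintro t (⟨c, rfl⟩ | ⟨c, rfl⟩)
    · have e := hS3 α β μ⁻¹ (inv_ne_zero hμ) hB (c * μ⁻¹)
      have e' : c * μ⁻¹ * μ = c := by field_simp
      rw [inv_inv, e'] at e
      rw [SetLike.mem_coe, ← e, ← hh]
      have e2 : x₀⁻¹ * g * kB G2 y' z' (c * μ⁻¹) * (x₀⁻¹ * g)⁻¹ =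
          x₀⁻¹ * (g * kB G2 y' z' (c * μ⁻¹) * g⁻¹) * x₀ := by group
      rw [e2]
      refine Subgroup.mul_mem _ (Subgroup.mul_mem _ (Subgroup.inv_mem _ hx₀) ?_) hx₀
      exact Subgroup.subset_closure (Or.inr ⟨_, rfl⟩)
    · exact Subgroup.subset_closure (Or.inr ⟨c, rfl⟩)
  · intro v hv
    rw [← hS4 α β] at hv
    obtain ⟨w, hw, rfl⟩ := mem_gim.1 hv
    rw [hxh]
    exact Cfsg.Agent.Lib.Helper1.SOTLeaf.mv_mem_gim hw
  · intro v hv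
    have hvY : v ∈ perpW G1 G2 (WL y z) ⊓ perpW G1 G2 (gim g (WL y' z')) :=
      ⟨hRts hv.1, hW'ts hv.2⟩
    have hfix := (hF1 x₀⁻¹ (Subgroup.inv_mem _ hx₀)).2 v hvY
    obtain ⟨w, hw, rfl⟩ := mem_gim.1 hv.2
    rw [← hfix, hhx, ← hS4 α β]
    exact Cfsg.Agent.Lib.Helper1.SOTLeaf.mv_mem_gim hw
  · intro v hv
    rw [← hS4 α β] at hv
    obtain ⟨w, hw, rfl⟩ := mem_gim.1 hv
    rw [← hhx]
    have h1 := (hF1 x₀⁻¹ (Subgroup.inv_mem _ hx₀)).1 (mv g w)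
    have h2 : mv g w ∈ (WL y z : Submodule F (Idx a b → F)) ⊔ gim g (WL y' z') :=
      Submodule.mem_sup_right (Cfsg.Agent.Lib.Helper1.SOTLeaf.mv_mem_gim hw)
    have := Submodule.add_mem _ h1 h2
    rwa [sub_add_cancel] at this

end Cfsg.Agent.Lib.Helper11.OTGLeaf
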