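import Mathlib
import Cfsg.Agent.Lib.Helper11.OTGP2
import Cfsg.Agent.Lib.Helper2.OTGN
import Cfsg.Agent.Lib.Helper2.OTGW
import Cfsg.Agent.Lib.Helper2.OTGS1
import Cfsg.Agent.Lib.Helper2.OTGP1
import Cfsg.Agent.Lib.Helper6.OTGF1
import Cfsg.Agent.Lib.Helper6.OTGS

/-!
helper11: S5681 / S5709 PART (GA') (helper2's market): the leaf (P2) `exists_partner` in the EXACT form of
notes/S5681_GA_leaves.lean (core: `OTGP2`; inputs: helper2's `OTGW`, `OTGS1`, `OTGP1`, helper6's `OTGF1`, `OTGS`).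
-/

set_option autoImplicit false
set_option linter.unusedSectionVars false
set_option linter.unusedVariables false

namespace Cfsg.Agent.Lib.Helper11.OTGLeaf
open Matrix Module
open Cfsg.Agent.Lib.Helper25.Tens Cfsg.Agent.Lib.Helper19.OSub Cfsg.Agent.Lib.Helper25.OT
open Cfsg.Agent.Lib.Helper2.SOT (fB gim mem_gim fB_add_left fB_add_right fB_smul_left fB_smul_right
  fB_comm)
open Cfsg.Agent.Lib.Helper2.OTG
open Cfsg.Agent.Lib.Helper2.OTGLeaf (WL_isotropic mem_perpW_gim sim_of_kel_mem exists_x0)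
open Cfsg.Agent.Lib.Helper6.OTGLeaf (LL_action TSL_of_sim kel_conj_kB kel_WL)
open scoped Kronecker

variable {F : Type*} [Field F] [Fintype F] {a b : ℕ} {G1 : Matrix (Fin a) (Fin a) F}
  {G2 : Matrix (Fin b) (Fin b) F} {M : Subgroup (GL (Idx a b) F)}

/-- (P2) the partner line `L₁ = β L'` (`x₀⁻¹ g = α ⊗ β`) -/
theorem exists_partner (h : MCtx a b G1 G2 M)
    (hroot : ∀ y z : Fin b → F, TSL G2 y z → ∀ c : F, (kB G2 y z c : GL (Idx a b) F) ∈ M)
    (h2 : L2' G2 M) {y z y' z' : Fin b → F} (hL : TSL G2 y z) (hL' : TSL G2 y' z')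
    (g : GL (Idx a b) F) (hg : g ∈ M) :
    ∃ y₁ z₁ : Fin b → F, TSL G2 y₁ z₁ ∧ LL G2 y₁ z₁ g y' z' ≤ LL G2 y z g y' z' ∧
      (∃ x₀ ∈ LL G2 y z g y' z', ∀ v ∈ (WL y₁ z₁ : Submodule F (Idx a b → F)),
        mv x₀ v ∈ gim g (WL y' z' : Submodule F (Idx a b → F))) ∧
      (WL y z : Submodule F (Idx a b → F)) ⊓ gim g (WL y' z') ≤ WL y₁ z₁ ∧
      (WL y₁ z₁ : Submodule F (Idx a b → F)) ≤ WL y z ⊔ gim g (WL y' z') := by
  have hc : Ctx a b G1 G2 := h.toCtx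
  have hgO : g ∈ OV G1 G2 := OmV_le_OV _ _ (h.le_om hg)
  exact exists_partner_core h hroot hL hL' g hg (exists_x0 h hroot h2 hL hL' g hg)
    (sim_of_kel_mem hc) (fun β ν hβ => TSL_of_sim β ν hβ hL')
    (fun α β ν hν hβ c => kel_conj_kB hc α β ν hν hβ hL' c) (fun α β => kel_WL α β y' z')
    (WL_isotropic hc hL) (WL_isotropic hc hL') (mem_perpW_gim hc g hgO)
    (LL_action hc hL hL' g hgO)

end Cfsg.Agent.Lib.Helper11.OTGLeaf
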