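import Mathlib
import Cfsg.Agent.Lib.Helper11.Om2Defs

/-! Helper11 library (S2146): calculus in the abstract `Ω⁺_2m(2)` setting. -/

set_option autoImplicit false
set_option linter.unusedSimpArgs false

namespace Cfsg.Agent.Lib.Helper11.Om2

variable {F V G : Type*} [Field F] [AddCommGroup V] [Module F V] [Group G] [DistribMulAction G V]

namespace Setting

variable (S : Setting F V G)
include S

/-! ### scalars and vectors in characteristic 2 -/

theorem one_add_one : (1 : F) + 1 = 0 := by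
  rcases S.h01 (1 + 1) with h | h
  · exact h
  · exact absurd (by linear_combination h : (1 : F) = 0) one_ne_zero

theorem fadd_self (a : F) : a + a = 0 := by
  have := S.one_add_one
  linear_combination a * this

theorem fmul_self (a : F) : a * a = a := by
  rcases S.h01 a with h | h <;> simp [h]

theorem fneg (a : F) : -a = a := by
  have := S.fadd_self a
  linear_combination -this

theorem eq_one_of_ne_zero {a : F} (h : a ≠ 0) : a = 1 := (S.h01 a).resolve_left h

theorem eq_zero_of_ne_one {a : F} (h : a ≠ 1) : a = 0 := (S.h01 a).resolve_right h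

theorem fadd_eq_zero_iff {a b : F} : a + b = 0 ↔ a = b := by
  constructor
  · intro h
    have := S.fadd_self b
    linear_combination h - this
  · rintro rfl; exact S.fadd_self a

theorem vadd_self (x : V) : x + x = 0 := by
  have : (1 + 1 : F) • x = 0 := by rw [S.one_add_one, zero_smul]
  simpa [add_smul] using this

theorem vadd_cancel_left (x y : V) : x + (x + y) = y := by
  rw [← add_assoc, S.vadd_self, zero_add]

theorem vadd_cancel_right (x y : V) : x + y + y = x := by
  rw [add_assoc, S.vadd_self, add_zero]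

theorem vneg (x : V) : -x = x := by
  have := S.vadd_self x
  exact neg_eq_of_add_eq_zero_left this

theorem vsub (x y : V) : x - y = x + y := by rw [sub_eq_add_neg, S.vneg]

theorem vadd_eq_zero_iff {x y : V} : x + y = 0 ↔ x = y := by
  constructor
  · intro h
    have := congrArg (· + y) h
    simp only [add_assoc, S.vadd_self, add_zero, zero_add] at this
    exact this
  · rintro rfl; exact S.vadd_self x

theorem Badd_left (x y z : V) : S.B (x + y) z = S.B x z + S.B y z := by
  rw [map_add, LinearMap.add_apply]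

theorem Badd_right (x y z : V) : S.B x (y + z) = S.B x y + S.B x z := map_add _ _ _

theorem Bsmul_left (a : F) (x y : V) : S.B (a • x) y = a * S.B x y := by
  rw [map_smul, LinearMap.smul_apply, smul_eq_mul]

theorem Bsmul_right (a : F) (x y : V) : S.B x (a • y) = a * S.B x y := by
  rw [map_smul, smul_eq_mul]

theorem Bzero_left (x : V) : S.B 0 x = 0 := by simp

theorem Bzero_right (x : V) : S.B x 0 = 0 := by simp

/-! ### the quadratic form -/

theorem Q_zero : S.Q 0 = 0 := by
  have h := S.Q_add 0 0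
  rw [add_zero, S.Bzero_left, add_zero] at h
  have h2 := S.fadd_self (S.Q 0)
  rw [← h] at h2
  exact h2

theorem alt (x : V) : S.B x x = 0 := by
  have h := S.Q_add x x
  rw [S.vadd_self, S.Q_zero, S.fadd_self, zero_add] at h
  exact h.symm

theorem B_symm (x y : V) : S.B x y = S.B y x := by
  have h := S.alt (x + y)
  rw [S.Badd_left, S.Badd_right, S.Badd_right, S.alt, S.alt, zero_add, add_zero] at h
  have h2 := S.fneg (S.B y x)
  linear_combination h + h2

theorem B_add_self_right (v w : V) : S.B v (w + v) = S.B v w := by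
  rw [S.Badd_right, S.alt, add_zero]

theorem Q_smul (a : F) (x : V) : S.Q (a • x) = a * S.Q x := by
  rcases S.h01 a with rfl | rfl
  · rw [zero_smul, S.Q_zero, zero_mul]
  · rw [one_smul, one_mul]

theorem Q_add_of_perp {x y : V} (h : S.B x y = 0) : S.Q (x + y) = S.Q x + S.Q y := by
  rw [S.Q_add, h, add_zero]

theorem Q_add_self_right {x w : V} (hx : S.Q x = 0) (h : S.B x w = 0) : S.Q (w + x) = S.Q w := by
  rw [S.Q_add, hx, add_zero, S.B_symm, h, add_zero]

/-! ### group elements -/

theorem ext_smul {g h : G} (H : ∀ z : V, g • z = h • z) : g = h := by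
  have : h⁻¹ * g = 1 := S.faithful _ (fun z => by rw [mul_smul, H z, inv_smul_smul])
  exact (inv_mul_eq_one.mp this).symm

theorem iso (g : G) (x y : V) : S.B (g • x) (g • y) = S.B x y := by
  have h1 := S.Q_add (g • x) (g • y)
  rw [← smul_add, S.isoQ, S.isoQ, S.isoQ, S.Q_add] at h1
  exact (add_left_cancel h1).symm

theorem B_smul_left (g : G) (x y : V) : S.B (g • x) y = S.B x (g⁻¹ • y) := by
  conv_lhs => rw [← smul_inv_smul g y]
  rw [S.iso]

theorem smul_fsmul (p : G) (a : F) (x : V) : p • (a • x) = a • (p • x) := by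
  rcases S.h01 a with rfl | rfl <;> simp

/-- double perp of a point -/
theorem eq_zero_or_eq_of_perp {v u : V} (h : ∀ z, S.B v z = 0 → S.B z u = 0) : u = 0 ∨ u = v := by
  by_contra hc
  push Not at hc
  obtain ⟨hu0, huv⟩ := hc
  have ex1 : ∃ y, S.B u y ≠ 0 := by
    by_contra hn
    push Not at hn
    exact hu0 (S.nondeg u hn)
  have ex2 : ∃ y, S.B (u + v) y ≠ 0 := by
    by_contra hn
    push Not at hn
    exact huv (S.vadd_eq_zero_iff.mp (S.nondeg _ hn))
  obtain ⟨y1, hy1⟩ := ex1
  obtain ⟨y2, hy2⟩ := ex2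
  have hy1' : S.B y1 u = 1 := by rw [S.B_symm]; exact S.eq_one_of_ne_zero hy1
  by_cases h1 : S.B v y1 = 0
  · have := h y1 h1
    rw [hy1'] at this
    exact one_ne_zero this
  have h1' : S.B v y1 = 1 := S.eq_one_of_ne_zero h1
  rw [S.Badd_left] at hy2
  by_cases h2 : S.B v y2 = 0
  · have h3 := h y2 h2
    rw [S.B_symm] at h3
    rw [h3, h2, add_zero] at hy2
    exact hy2 rfl
  have h2' : S.B v y2 = 1 := S.eq_one_of_ne_zero h2
  have h3 : S.B u y2 = 0 := by
    by_contra hn
    rw [S.eq_one_of_ne_zero hn, h2', S.one_add_one] at hy2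
    exact hy2 rfl
  have h4 := h (y1 + y2) (by rw [S.Badd_right, h1', h2', S.one_add_one])
  rw [S.Badd_left, hy1', S.B_symm y2 u, h3, add_zero] at h4
  exact one_ne_zero h4

theorem exists_B_eq_one {v : V} (hv : v ≠ 0) : ∃ z, S.B z v = 1 := by
  by_contra hn
  push Not at hn
  apply hv
  apply S.nondeg
  intro y
  rw [S.B_symm]
  exact S.eq_zero_of_ne_one (hn y)

/-! ### Siegel elements -/

theorem sg_smul' {x w : V} (hx : S.Q x = 0) (h : S.B x w = 0) (z : V) :
    S.sg x w • z = z + S.B z w • x + S.B z x • w + (S.Q w * S.B z x) • x :=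
  S.sg_smul x w hx h z

theorem sg_smul_self {x w : V} (hx : S.Q x = 0) (h : S.B x w = 0) : S.sg x w • x = x := by
  rw [S.sg_smul' hx h]; simp [S.alt, h]

theorem sg_smul_of_perp {x w : V} (hx : S.Q x = 0) (h : S.B x w = 0) {z : V} (hz : S.B x z = 0) :
    S.sg x w • z = z + S.B z w • x := by
  rw [S.sg_smul' hx h, S.B_symm z x, hz]; simp

/-- `sg x w` fixes every vector perpendicular to `x` and `w` -/
theorem sg_smul_of_perp_perp {x w : V} (hx : S.Q x = 0) (h : S.B x w = 0) {z : V}
    (hz : S.B x z = 0) (hzw : S.B w z = 0) : S.sg x w • z = z := by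
  rw [S.sg_smul_of_perp hx h hz, S.B_symm z w, hzw]; simp

/-- composition law in `Q_x` -/
theorem sg_mul {x w w' : V} (hx : S.Q x = 0) (h : S.B x w = 0) (h' : S.B x w' = 0) :
    S.sg x w * S.sg x w' = S.sg x (w + w') := by
  have hwx : S.B w x = 0 := by rw [S.B_symm]; exact h
  have hwx' : S.B w' x = 0 := by rw [S.B_symm]; exact h'
  have hs : S.B x (w + w') = 0 := by rw [S.Badd_right, h, h', add_zero]
  apply S.ext_smul
  intro z
  rw [mul_smul, S.sg_smul' hx h', S.sg_smul' hx h, S.sg_smul' hx hs]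
  simp only [S.Badd_left, S.Badd_right, S.Bsmul_left, S.Bsmul_right, h, h', hwx, hwx', S.alt,
      mul_zero, add_zero, zero_add, zero_mul, S.Q_add]
  rcases S.h01 (S.B z x) with h1 | h1 <;> rcases S.h01 (S.B z w) with h2 | h2 <;>
  rcases S.h01 (S.B z w') with h3 | h3 <;> rcases S.h01 (S.B w w') with h4 | h4 <;>
  rcases S.h01 (S.Q w) with h5 | h5 <;> rcases S.h01 (S.Q w') with h6 | h6 <;>
      simp only [h1, h2, h3, h4, h5, h6, S.B_symm w' w, zero_smul, one_smul, add_zero, zero_add,
        mul_zero, mul_one,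
        zero_mul, one_mul, S.one_add_one, add_assoc, add_left_comm,
        add_comm, S.vadd_self, S.vadd_cancel_left]

theorem sg_zero_right {x : V} (hx : S.Q x = 0) : S.sg x 0 = 1 := by
  apply S.faithful
  intro z
  rw [S.sg_smul' hx (S.Bzero_right x)]
  simp [S.Q_zero]

theorem sg_self {x : V} (hx : S.Q x = 0) : S.sg x x = 1 := by
  apply S.faithful
  intro z
  rw [S.sg_smul' hx (S.alt x), hx, zero_mul, zero_smul, add_zero, add_assoc, S.vadd_self, add_zero]

theorem sg_add_self {x w : V} (hx : S.Q x = 0) (h : S.B x w = 0) : S.sg x (w + x) = S.sg x w := by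
  rw [← S.sg_mul hx h (S.alt x), S.sg_self hx, mul_one]

theorem sg_mul_self {x w : V} (hx : S.Q x = 0) (h : S.B x w = 0) : S.sg x w * S.sg x w = 1 := by
  rw [S.sg_mul hx h h, S.vadd_self, S.sg_zero_right hx]

theorem sg_inv {x w : V} (hx : S.Q x = 0) (h : S.B x w = 0) : (S.sg x w)⁻¹ = S.sg x w :=
  inv_eq_of_mul_eq_one_left (S.sg_mul_self hx h)

theorem sg_comm {x w w' : V} (hx : S.Q x = 0) (h : S.B x w = 0) (h' : S.B x w' = 0) :
    S.sg x w * S.sg x w' = S.sg x w' * S.sg x w := by
  rw [S.sg_mul hx h h', S.sg_mul hx h' h, add_comm]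

/-- long root elements are symmetric in their two arguments -/
theorem sg_symm {x y : V} (hx : S.Q x = 0) (hy : S.Q y = 0) (h : S.B x y = 0) :
    S.sg x y = S.sg y x := by
  have hyx : S.B y x = 0 := by rw [S.B_symm]; exact h
  apply S.ext_smul
  intro z
  rw [S.sg_smul' hx h, S.sg_smul' hy hyx, hx, hy]
  simp only [zero_mul, zero_smul, add_zero]
  abel

theorem conj_sg (p : G) {x w : V} (hx : S.Q x = 0) (h : S.B x w = 0) :
    p * S.sg x w * p⁻¹ = S.sg (p • x) (p • w) := by
  have hs : S.B (p • x) (p • w) = 0 := by rw [S.iso, h]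
  have hpx : S.Q (p • x) = 0 := by rw [S.isoQ, hx]
  apply S.ext_smul
  intro z
  rw [mul_smul, mul_smul, S.sg_smul' hx h, S.sg_smul' hpx hs]
  simp only [smul_add, smul_inv_smul, S.smul_fsmul, S.isoQ]
  have h1 : S.B (p⁻¹ • z) x = S.B z (p • x) := by rw [S.B_smul_left, inv_inv]
  have h2 : S.B (p⁻¹ • z) w = S.B z (p • w) := by rw [S.B_smul_left, inv_inv]
  rw [h1, h2]

/-- when a Siegel element is trivial -/
theorem sg_eq_one_iff {x w : V} (hx0 : x ≠ 0) (hx : S.Q x = 0) (h : S.B x w = 0) :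
    S.sg x w = 1 ↔ w = 0 ∨ w = x := by
  constructor
  · intro he
    apply S.eq_zero_or_eq_of_perp
    intro z hz
    have h1 := S.sg_smul_of_perp hx h hz
    rw [he, one_smul] at h1
    rcases S.h01 (S.B z w) with h2 | h2
    · exact h2
    · rw [h2, one_smul] at h1
      exact absurd (by simpa using h1.symm) hx0
  · rintro (rfl | rfl)
    · exact S.sg_zero_right hx
    · exact S.sg_self hx

theorem sg_eq_sg_iff {x w w' : V} (hx0 : x ≠ 0) (hx : S.Q x = 0) (h : S.B x w = 0)
    (h' : S.B x w' = 0) : S.sg x w = S.sg x w' ↔ w' = w ∨ w' = w + x := by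
  have hs : S.B x (w + w') = 0 := by rw [S.Badd_right, h, h', add_zero]
  have key : S.sg x w = S.sg x w' ↔ S.sg x (w + w') = 1 := by
    rw [← S.sg_mul hx h h']
    constructor
    · intro he; rw [he, S.sg_mul_self hx h']
    · intro he
      have := congrArg (· * S.sg x w') he
      simp only [mul_assoc, S.sg_mul_self hx h', mul_one, one_mul] at this
      exact this
  rw [key, S.sg_eq_one_iff hx0 hx hs]
  constructor
  · rintro (h0 | h0)
    · left; exact (S.vadd_eq_zero_iff.mp h0).symm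
    · right
      have : w + (w + w') = w + x := by rw [h0]
      rwa [S.vadd_cancel_left] at this
  · rintro (rfl | rfl)
    · left; exact S.vadd_self _
    · right; exact S.vadd_cancel_left _ _

/-- transitivity tool: if `Q a = Q a'` and the singular vector `u` has `B u a = 1 = B u a'`, then
`sg u (a + a')` maps `a` to `a'` (and fixes everything perpendicular to `u` and `a + a'`). -/
theorem sg_trans {u a a' : V} (hu : S.Q u = 0) (hQ : S.Q a = S.Q a') (h1 : S.B u a = 1)
    (h2 : S.B u a' = 1) : S.sg u (a + a') • a = a' := by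
  have hs : S.B u (a + a') = 0 := by rw [S.Badd_right, h1, h2, S.one_add_one]
  have hq : S.Q (a + a') = S.B a a' := by rw [S.Q_add, hQ, S.fadd_self, zero_add]
  rw [S.sg_smul' hu hs, S.B_symm a u, h1, hq, S.Badd_right, S.alt, zero_add, mul_one, one_smul]
  rcases S.h01 (S.B a a') with h3 | h3 <;>
    simp only [h3, zero_smul, one_smul, add_zero, add_assoc, S.vadd_cancel_left, add_left_comm,
      add_comm, S.vadd_self]

/-- commutator of Siegel elements at two perpendicular singular vectors `x, y`, with parameters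
perpendicular to both: `sg x a * sg y w = sg y w * sg x a * (sg x y)^{B a w}`. -/
theorem sg_mul_sg_of_perp {x y a w : V} (hx : S.Q x = 0) (hy : S.Q y = 0) (hxy : S.B x y = 0)
    (hxa : S.B x a = 0) (hya : S.B y a = 0) (hxw : S.B x w = 0) (hyw : S.B y w = 0)
    (haw : S.B a w = 0) : S.sg x a * S.sg y w = S.sg y w * S.sg x a := by
  have hyx : S.B y x = 0 := by rw [S.B_symm]; exact hxy
  have hax : S.B a x = 0 := by rw [S.B_symm]; exact hxa
  have hay : S.B a y = 0 := by rw [S.B_symm]; exact hya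
  have hwx : S.B w x = 0 := by rw [S.B_symm]; exact hxw
  have hwy : S.B w y = 0 := by rw [S.B_symm]; exact hyw
  have hwa : S.B w a = 0 := by rw [S.B_symm]; exact haw
  apply S.ext_smul
  intro z
  rw [mul_smul, mul_smul, S.sg_smul' hy hyw, S.sg_smul' hx hxa, S.sg_smul' hx hxa, S.sg_smul' hy hyw]
  simp only [S.Badd_left, S.Badd_right, S.Bsmul_left, S.Bsmul_right, hxy, hyx, hxa, hya, hxw, hyw,
    hax, hay, hwx, hwy, haw, hwa, S.alt, mul_zero, add_zero, zero_add, zero_mul]
  abel

theorem sg_mul_sg_of_not_perp {x y a w : V} (hx : S.Q x = 0) (hy : S.Q y = 0) (hxy : S.B x y = 0)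
    (hxa : S.B x a = 0) (hya : S.B y a = 0) (hxw : S.B x w = 0) (hyw : S.B y w = 0)
    (haw : S.B a w = 1) : S.sg x a * S.sg y w = S.sg y w * S.sg x a * S.sg x y := by
  have hyx : S.B y x = 0 := by rw [S.B_symm]; exact hxy
  have hax : S.B a x = 0 := by rw [S.B_symm]; exact hxa
  have hay : S.B a y = 0 := by rw [S.B_symm]; exact hya
  have hwx : S.B w x = 0 := by rw [S.B_symm]; exact hxw
  have hwy : S.B w y = 0 := by rw [S.B_symm]; exact hyw
  have hwa : S.B w a = 1 := by rw [S.B_symm]; exact haw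
  apply S.ext_smul
  intro z
  rw [mul_smul, mul_smul, mul_smul, S.sg_smul' hx hxy z, S.sg_smul' hy hyw z, S.sg_smul' hx hxa,
    S.sg_smul' hx hxa, S.sg_smul' hy hyw]
  simp only [S.Badd_left, S.Badd_right, S.Bsmul_left, S.Bsmul_right, hxy, hyx, hxa, hya, hxw, hyw,
    hax, hay, hwx, hwy, haw, hwa, hx, hy, S.alt, mul_zero, add_zero, zero_add, zero_mul, mul_one,
    zero_smul]
  rcases S.h01 (S.B z x) with h1 | h1 <;> rcases S.h01 (S.B z y) with h2 | h2 <;>
  rcases S.h01 (S.B z a) with h3 | h3 <;> rcases S.h01 (S.B z w) with h4 | h4 <;>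
  rcases S.h01 (S.Q a) with h5 | h5 <;> rcases S.h01 (S.Q w) with h6 | h6 <;>
      simp only [h1, h2, h3, h4, h5, h6, zero_smul, one_smul, add_zero, zero_add,
        mul_zero, mul_one,
        zero_mul, one_mul, S.one_add_one, add_assoc, add_left_comm,
        add_comm, S.vadd_self, S.vadd_cancel_left]

/-- Siegel elements at the third point `x + y` of a totally singular line, parameter perpendicular to the line:
`sg (x + y) w = sg x w * sg y w` if `Q w = 0`, and `= sg x w * sg y w * sg x y` if `Q w = 1`. -/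
theorem sg_add_left_of_sing {x y w : V} (hx : S.Q x = 0) (hy : S.Q y = 0) (hxy : S.B x y = 0)
    (hxw : S.B x w = 0) (hyw : S.B y w = 0) (hw : S.Q w = 0) :
    S.sg (x + y) w = S.sg x w * S.sg y w := by
  have hyx : S.B y x = 0 := by rw [S.B_symm]; exact hxy
  have hwx : S.B w x = 0 := by rw [S.B_symm]; exact hxw
  have hwy : S.B w y = 0 := by rw [S.B_symm]; exact hyw
  have hs : S.Q (x + y) = 0 := by rw [S.Q_add, hx, hy, hxy]; simp
  have hsw : S.B (x + y) w = 0 := by rw [S.Badd_left, hxw, hyw, add_zero]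
  apply S.ext_smul
  intro z
  rw [mul_smul, S.sg_smul' hs hsw, S.sg_smul' hy hyw, S.sg_smul' hx hxw]
  simp only [S.Badd_left, S.Badd_right, S.Bsmul_left, S.Bsmul_right, hxy, hyx, hxw, hyw,
    hwx, hwy, hw, S.alt, mul_zero, add_zero, zero_add, zero_mul, zero_smul, smul_add]
  rcases S.h01 (S.B z x) with h1 | h1 <;> rcases S.h01 (S.B z y) with h2 | h2 <;>
  rcases S.h01 (S.B z w) with h4 | h4 <;>
      simp only [h1, h2, h4, zero_smul, one_smul, add_zero, zero_add,
        mul_zero, mul_one,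
        zero_mul, one_mul, S.one_add_one, add_assoc, add_left_comm,
        add_comm, S.vadd_self, S.vadd_cancel_left]

theorem sg_add_left_of_nonsing {x y w : V} (hx : S.Q x = 0) (hy : S.Q y = 0) (hxy : S.B x y = 0)
    (hxw : S.B x w = 0) (hyw : S.B y w = 0) (hw : S.Q w = 1) :
    S.sg (x + y) w = S.sg x w * S.sg y w * S.sg x y := by
  have hyx : S.B y x = 0 := by rw [S.B_symm]; exact hxy
  have hwx : S.B w x = 0 := by rw [S.B_symm]; exact hxw
  have hwy : S.B w y = 0 := by rw [S.B_symm]; exact hyw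
  have hs : S.Q (x + y) = 0 := by rw [S.Q_add, hx, hy, hxy]; simp
  have hsw : S.B (x + y) w = 0 := by rw [S.Badd_left, hxw, hyw, add_zero]
  apply S.ext_smul
  intro z
  rw [mul_smul, mul_smul, S.sg_smul' hs hsw, S.sg_smul' hx hxy z, S.sg_smul' hy hyw,
    S.sg_smul' hx hxw]
  simp only [S.Badd_left, S.Badd_right, S.Bsmul_left, S.Bsmul_right, hxy, hyx, hxw, hyw,
    hwx, hwy, hw, hy, S.alt, mul_zero, add_zero, zero_add, zero_mul, zero_smul, smul_add, one_mul]
  rcases S.h01 (S.B z x) with h1 | h1 <;> rcases S.h01 (S.B z y) with h2 | h2 <;>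
  rcases S.h01 (S.B z w) with h4 | h4 <;>
      simp only [h1, h2, h4, zero_smul, one_smul, add_zero, zero_add,
        mul_zero, mul_one,
        zero_mul, one_mul, S.one_add_one, add_assoc, add_left_comm,
        add_comm, S.vadd_self, S.vadd_cancel_left]

/-! ### the subgroup `Q_x` -/

/-- `Q_x` as a subgroup (for singular `x`) -/
def Qs {x : V} (hx : S.Q x = 0) : Subgroup G where
  carrier := S.QsSet x
  mul_mem' := by
    rintro _ _ ⟨w, h, rfl⟩ ⟨w', h', rfl⟩
    exact ⟨w + w', by rw [S.Badd_right, h, h', add_zero], S.sg_mul hx h h'⟩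
  one_mem' := ⟨0, S.Bzero_right x, (S.sg_zero_right hx).symm⟩
  inv_mem' := by
    rintro _ ⟨w, h, rfl⟩
    exact ⟨w, h, S.sg_inv hx h⟩

theorem mem_Qs {x : V} (hx : S.Q x = 0) {g : G} :
    g ∈ S.Qs hx ↔ ∃ w, S.B x w = 0 ∧ g = S.sg x w := Iff.rfl

theorem sg_mem_Qs {x w : V} (hx : S.Q x = 0) (h : S.B x w = 0) : S.sg x w ∈ S.Qs hx := ⟨w, h, rfl⟩

theorem Qs_le_stabilizer {x : V} (hx : S.Q x = 0) : S.Qs hx ≤ MulAction.stabilizer G x := by
  rintro _ ⟨w, h, rfl⟩
  exact S.sg_smul_self hx h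

theorem stabilizer_le_normalizer_Qs {x : V} (hx : S.Q x = 0) :
    MulAction.stabilizer G x ≤ Subgroup.normalizer (S.Qs hx : Set G) := by
  intro p hp
  have hpx : p • x = x := hp
  have hpx' : p⁻¹ • x = x := by rw [inv_smul_eq_iff, hpx]
  rw [Subgroup.mem_normalizer_iff]
  intro g
  constructor
  · rintro ⟨w, h, rfl⟩
    have := S.conj_sg p hx h
    rw [hpx] at this
    rw [this]
    exact S.sg_mem_Qs hx (by rw [← hpx, S.iso, h])
  · intro hg
    obtain ⟨w, h, he⟩ := hg
    have : g = p⁻¹ * S.sg x w * p⁻¹⁻¹ := by rw [← he]; group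
    rw [this, S.conj_sg p⁻¹ hx h, hpx']
    exact S.sg_mem_Qs hx (by rw [← hpx', S.iso, h])

theorem Qs_comm {x : V} (hx : S.Q x = 0) {g h : G} (hg : g ∈ S.Qs hx) (hh : h ∈ S.Qs hx) :
    g * h = h * g := by
  obtain ⟨w, hw, rfl⟩ := hg
  obtain ⟨w', hw', rfl⟩ := hh
  exact S.sg_comm hx hw hw'

/-! ### the submodule `D̃_x(H)` -/

/-- `D̃_x(H)` as a submodule (for singular `x`) -/
def Dt (H : Subgroup G) {x : V} (hx : S.Q x = 0) : Submodule F V where
  carrier := S.DtSet H x
  add_mem' := by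
    rintro w w' ⟨h, hc⟩ ⟨h', hc'⟩
    refine ⟨by rw [S.Badd_right, h, h', add_zero], ?_⟩
    rw [← S.sg_mul hx h h']
    exact H.mul_mem hc hc'
  zero_mem' := ⟨S.Bzero_right x, by rw [S.sg_zero_right hx]; exact H.one_mem⟩
  smul_mem' := by
    intro a w hw
    rcases S.h01 a with rfl | rfl
    · rw [zero_smul]
      exact ⟨S.Bzero_right x, by rw [S.sg_zero_right hx]; exact H.one_mem⟩
    · rw [one_smul]; exact hw

theorem mem_Dt {H : Subgroup G} {x w : V} (hx : S.Q x = 0) :
    w ∈ S.Dt H hx ↔ S.B x w = 0 ∧ S.sg x w ∈ H := Iff.rfl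

theorem self_mem_Dt (H : Subgroup G) {x : V} (hx : S.Q x = 0) : x ∈ S.Dt H hx :=
  ⟨S.alt x, by rw [S.sg_self hx]; exact H.one_mem⟩

theorem smul_mem_Dt {H : Subgroup G} {x w : V} (hx : S.Q x = 0) {p : G} (hp : p ∈ H)
    (hpx : p • x = x) (hw : w ∈ S.Dt H hx) : p • w ∈ S.Dt H hx := by
  obtain ⟨h, hc⟩ := hw
  refine ⟨by rw [← hpx, S.iso, h], ?_⟩
  have := S.conj_sg p hx h
  rw [hpx] at this
  rw [← this]
  exact H.mul_mem (H.mul_mem hp hc) (H.inv_mem hp)

/-- `Q_x` fixes `x^⊥` modulo `x`, hence stabilises every subspace `x ∈ U ⊆ x^⊥` -/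
theorem sg_smul_mem {x w : V} (hx : S.Q x = 0) (h : S.B x w = 0) {U : Submodule F V}
    (hxU : x ∈ U) (hU : ∀ u ∈ U, S.B x u = 0) {u : V} (hu : u ∈ U) : S.sg x w • u ∈ U := by
  rw [S.sg_smul_of_perp hx h (hU u hu)]
  exact U.add_mem hu (U.smul_mem _ hxU)

theorem Dt_le_perp {H : Subgroup G} {x : V} (hx : S.Q x = 0) : ∀ u ∈ S.Dt H hx, S.B x u = 0 :=
  fun _ hu => hu.1

end Setting

end Cfsg.Agent.Lib.Helper11.Om2
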