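import Mathlib
import Cfsg.Agent.Lib.Helper11.Om2Tools

/-! Helper11 library (S2146): vocabulary for step (I) "not all singular points are of type A":
a totally singular line `l = {0, x, y, x + y}` and the relation `Rel w a` on `l^⊥`. -/

set_option autoImplicit false

namespace Cfsg.Agent.Lib.Helper11.Om2

variable {F V G : Type*} [Field F] [AddCommGroup V] [Module F V] [Group G] [DistribMulAction G V]

/-- standing hypotheses of step (I): all singular points are of type A for `H`, and `x, y` span a totally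
singular line -/
structure LineData (S : Setting F V G) (H : Subgroup G) (x y : V) : Prop where
  hall : ∀ z, z ≠ 0 → S.Q z = 0 → S.IsA H z
  hx0 : x ≠ 0
  hy0 : y ≠ 0
  hx : S.Q x = 0
  hy : S.Q y = 0
  hxy : S.B x y = 0
  hne : x ≠ y

/-- `Rel w a`: `w, a ∈ <x,y>^⊥` and `sg y w * sg x a ∈ H` -/
def Rel (S : Setting F V G) (H : Subgroup G) (x y w a : V) : Prop :=
  S.B x w = 0 ∧ S.B y w = 0 ∧ S.B x a = 0 ∧ S.B y a = 0 ∧ S.sg y w * S.sg x a ∈ H

/-- `v` lies on the line `{0, x, y, x + y}` -/
def OnLine (x y v : V) : Prop := v = 0 ∨ v = x ∨ v = y ∨ v = x + y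

end Cfsg.Agent.Lib.Helper11.Om2
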