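import Mathlib
import Cfsg.Agent.Lib.Helper11.Om2Rel
import Cfsg.Agent.Lib.Helper15.Om2GA

/-! Helper11 library (S2146): geometric tools for step (I) (independent of the relation lemmas IR). -/

set_option autoImplicit false

namespace Cfsg.Agent.Lib.Helper11.Om2I5

open MulAction Cfsg.Agent.Lib.Helper11.Om2
open Cfsg.Agent.Lib.Helper15.Om2Leaf (exists_sing_cond)

variable {F V G : Type*} [Field F] [AddCommGroup V] [Module F V] [Group G] [DistribMulAction G V]
  (S : Setting F V G)

/-- a vector outside a subspace is not perpendicular to the whole perp of the subspace -/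
theorem exists_perp_not_perp [Finite V] (P : Submodule F V) {t : V} (ht : t ∉ P) :
    ∃ y0, (∀ p ∈ P, S.B y0 p = 0) ∧ S.B y0 t = 1 := by
  by_contra hcon
  push Not at hcon
  apply ht
  rw [← S.orthogonal_orthogonal_eq P, S.mem_orthogonal]
  intro y0 hy0
  rw [S.mem_orthogonal] at hy0
  by_contra h1
  refine hcon y0 (fun p hp => ?_) (S.eq_one_of_ne_zero h1)
  rw [S.B_symm]
  exact hy0 p hp

/-- GE: a singular vector perpendicular to `v 0, .., v (r-1)` outside a small subspace `P ∋ v i` -/
theorem exists_sing_escape [Finite V] {m : ℕ} (hV : Nat.card V = 2 ^ (2 * m)) {r : ℕ}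
    (hr : r + 1 < m) (v : Fin r → V) (P : Submodule F V) (hvP : ∀ i, v i ∈ P)
    (hP : Nat.card P * Nat.card P < Nat.card V) :
    ∃ u, S.Q u = 0 ∧ (∀ i, S.B u (v i) = 0) ∧ u ∉ P := by
  classical
  -- a vector of `P^⊥` outside `P`
  have h1 := S.card_mul_card_orthogonal P
  have hPpos : 0 < Nat.card P := Nat.card_pos
  have hlt : Nat.card P < Nat.card (S.B.orthogonal P) := by
    by_contra hle
    push Not at hle
    have := Nat.mul_le_mul_left (Nat.card P) hle
    omega
  obtain ⟨t, htP', htP⟩ : ∃ t, t ∈ S.B.orthogonal P ∧ t ∉ P := by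
    by_contra hcon
    push Not at hcon
    have hle : S.B.orthogonal P ≤ P := fun t ht => hcon t ht
    have := Nat.card_le_card_of_injective (Submodule.inclusion hle)
      (Submodule.inclusion_injective hle)
    omega
  rw [S.mem_orthogonal] at htP'
  -- a solution of the linear conditions
  have htP0 : t ∉ Submodule.span F (Set.range v) := by
    intro h
    apply htP
    exact (Submodule.span_le.mpr (by rintro _ ⟨i, rfl⟩; exact hvP i)) h
  obtain ⟨y0, hy0, hy0t⟩ := exists_perp_not_perp S _ htP0
  -- the affine quadric
  let v' : Fin (r + 1) → V := Fin.snoc v t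
  obtain ⟨u, hu, hcond⟩ := exists_sing_cond S hV hr v' y0
  refine ⟨u, hu, ?_, ?_⟩
  · intro i
    have := hcond (Fin.castSucc i)
    simp only [v', Fin.snoc_castSucc] at this
    rw [this]
    exact hy0 _ (Submodule.subset_span ⟨i, rfl⟩)
  · intro huP
    have := hcond (Fin.last r)
    simp only [v', Fin.snoc_last] at this
    rw [hy0t, htP' u huP] at this
    exact zero_ne_one this


include S in
theorem card_span_range_le [Finite V] {r : ℕ} (v : Fin r → V) :
    Nat.card (Submodule.span F (Set.range v)) ≤ 2 ^ r := by
  rw [S.card_submodule_eq_two_pow]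
  apply Nat.pow_le_pow_right (by norm_num)
  have := finrank_range_le_card (R := F) v
  rwa [Fintype.card_fin] at this

include S in
/-- elements of the span of `x, y` lie on the line -/
theorem onLine_of_mem_span {x y l : V} (hl : l ∈ Submodule.span F {x, y}) : OnLine x y l := by
  obtain ⟨c, d, rfl⟩ := Submodule.mem_span_pair.mp hl
  rcases S.h01 c with rfl | rfl <;> rcases S.h01 d with rfl | rfl
  · left; simp
  · right; right; left; simp
  · right; left; simp
  · right; right; right; simp

omit [Field F] [Module F V] in
theorem mem_span_of_onLine {F : Type*} [Field F] [Module F V] {x y l : V} (hl : OnLine x y l) :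
    l ∈ Submodule.span F {x, y} := by
  have hx : x ∈ Submodule.span F {x, y} := Submodule.subset_span (by simp)
  have hy : y ∈ Submodule.span F {x, y} := Submodule.subset_span (by simp)
  rcases hl with rfl | rfl | rfl | rfl
  · exact Submodule.zero_mem _
  · exact hx
  · exact hy
  · exact Submodule.add_mem _ hx hy

/-- the action of a long root element `sg u b` -/
theorem sg_long_smul {u b : V} (hu : S.Q u = 0) (hb : S.Q b = 0) (hub : S.B u b = 0) (z : V) :
    S.sg u b • z = z + S.B z b • u + S.B z u • b := by
  rw [S.sg_smul' hu hub, hb, zero_mul, zero_smul, add_zero]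

omit [DistribMulAction G V] [Group G] in
theorem onLine_mem {x y l : V} (P : Submodule F V) (hxP : x ∈ P) (hyP : y ∈ P)
    (hl : OnLine x y l) : l ∈ P := by
  rcases hl with rfl | rfl | rfl | rfl
  · exact P.zero_mem
  · exact hxP
  · exact hyP
  · exact P.add_mem hxP hyP

/-- a small subspace does not contain its perp -/
theorem exists_perp_not_mem [Finite V] (P : Submodule F V)
    (hP : Nat.card P * Nat.card P < Nat.card V) :
    ∃ t, (∀ p ∈ P, S.B p t = 0) ∧ t ∉ P := by
  have h1 := S.card_mul_card_orthogonal P
  have hPpos : 0 < Nat.card P := Nat.card_pos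
  have hlt : Nat.card P < Nat.card (S.B.orthogonal P) := by
    by_contra hle
    push Not at hle
    have := Nat.mul_le_mul_left (Nat.card P) hle
    omega
  by_contra hcon
  push Not at hcon
  have hle : S.B.orthogonal P ≤ P := fun t ht => hcon t (S.mem_orthogonal.mp ht)
  have := Nat.card_le_card_of_injective (Submodule.inclusion hle)
    (Submodule.inclusion_injective hle)
  omega

end Cfsg.Agent.Lib.Helper11.Om2I5
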