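import Mathlib
import Cfsg.Agent.Lib.Helper11.Om2I5Tools
import Cfsg.Agent.Lib.Helper5.Om2IR
import Cfsg.Agent.Lib.Helper15.Om2GB

/-! Helper11 library (S2146): step (I) for `m ≥ 5`. -/

set_option autoImplicit false

namespace Cfsg.Agent.Lib.Helper11.Om2I5

open MulAction Cfsg.Agent.Lib.Helper11.Om2
open Cfsg.Agent.Lib.Helper5.Om2Leaf (rel_zero rel_x rel_y rel_exists rel_unique rel_perp rel_add rel_ker rel_ker' rel_smul rel_smul' exists_lift)
open Cfsg.Agent.Lib.Helper15.Om2Leaf (exists_sing_perp_ne)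

variable {F V G : Type*} [Field F] [AddCommGroup V] [Module F V] [Group G] [DistribMulAction G V]
  (S : Setting F V G)

variable {H : Subgroup G} {x y : V}

/-- shifting the first argument of `Rel` by `x` -/
theorem rel_add_x (D : LineData S H x y) {w a : V} (h : Rel S H x y (w + x) a) :
    Rel S H x y w (a + y) := by
  have h1 := rel_add S D h (rel_x S D)
  have hax : S.B a x = 0 := by rw [S.B_symm]; exact h.2.2.1
  rwa [S.vadd_cancel_right, hax, zero_smul, add_zero] at h1

/-- Claim B: if the lift `g` of `sg u b` fixes `y`, the partner of `u` lies in `<u, b> + l` -/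
theorem rel_u_of_lift (D : LineData S H x y) {u b : V} (hu : S.Q u = 0) (hb : S.Q b = 0)
    (hub : S.B u b = 0) {g : G} (hg : g ∈ H) (hgx : g • x = x) (hgy : g • y = y)
    (hgv : ∀ v, S.B x v = 0 → S.B y v = 0 → (g • v = S.sg u b • v ∨ g • v = S.sg u b • v + x))
    {w1 : V} (hxw : S.B x w1 = 0) (hyw : S.B y w1 = 0) (hwb : S.B w1 b = 1) (hwu : S.B w1 u = 0) :
    ∃ α β : F, ∃ l ∈ Submodule.span F {x, y}, Rel S H x y u (α • u + β • b + l) := by
  have hxP : x ∈ Submodule.span F {x, y} := Submodule.subset_span (by simp)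
  have hyP : y ∈ Submodule.span F {x, y} := Submodule.subset_span (by simp)
  obtain ⟨a1, hr1⟩ := rel_exists S D hxw hyw
  have hr2 := rel_smul S D hg hgx hgy hr1
  have hw1 : S.sg u b • w1 = w1 + u := by
    rw [sg_long_smul S hu hb hub, hwb, hwu, one_smul, zero_smul, add_zero]
  -- `g • a1 + a1 ∈ <u, b> + <x>`
  have ha1 : ∃ ε : F, g • a1 = a1 + S.B a1 b • u + S.B a1 u • b + ε • x := by
    rcases hgv a1 hr1.2.2.1 hr1.2.2.2.1 with h | h
    · exact ⟨0, by rw [h, sg_long_smul S hu hb hub, zero_smul, add_zero]⟩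
    · exact ⟨1, by rw [h, sg_long_smul S hu hb hub, one_smul]⟩
  obtain ⟨ε, hε⟩ := ha1
  -- `Rel u (...)`
  have key : ∃ l ∈ Submodule.span F {x, y}, Rel S H x y u (g • a1 + a1 + l) := by
    rcases hgv w1 hxw hyw with h | h
    · rw [h, hw1] at hr2
      have h3 := rel_add S D hr2 hr1
      rw [add_comm w1 u, S.vadd_cancel_right] at h3
      exact ⟨_, Submodule.smul_mem _ _ hyP, h3⟩
    · rw [h, hw1] at hr2
      have h3 := rel_add_x S D hr2
      have h4 := rel_add S D h3 hr1
      rw [add_comm w1 u, S.vadd_cancel_right] at h4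
      refine ⟨y + S.B (g • a1 + y) w1 • y, Submodule.add_mem _ hyP (Submodule.smul_mem _ _ hyP), ?_⟩
      have e : g • a1 + a1 + (y + S.B (g • a1 + y) w1 • y)
          = g • a1 + y + a1 + S.B (g • a1 + y) w1 • y := by abel
      rw [e]; exact h4
  obtain ⟨l, hl, hrel⟩ := key
  refine ⟨S.B a1 b, S.B a1 u, ε • x + l, Submodule.add_mem _ (Submodule.smul_mem _ _ hxP) hl, ?_⟩
  have e : S.B a1 b • u + S.B a1 u • b + (ε • x + l) = g • a1 + a1 + l := by
    rw [hε]
    have := S.vadd_self a1
    calc S.B a1 b • u + S.B a1 u • b + (ε • x + l)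
        = (a1 + a1) + S.B a1 b • u + S.B a1 u • b + ε • x + l := by rw [this]; abel
      _ = a1 + S.B a1 b • u + S.B a1 u • b + ε • x + a1 + l := by abel
  rw [e]; exact hrel


/-- Claim A: for `m ≥ 5` the lift of a long root element `sg u b` fixes `y` -/
theorem lift_fixes_y (D : LineData S H x y) {u b : V} (hu : S.Q u = 0) (hb : S.Q b = 0)
    (hub : S.B u b = 0) {g : G} (hg : g ∈ H) (hgx : g • x = x)
    (hgy : g • y = y ∨ g • y = x + y)
    (hgv : ∀ v, S.B x v = 0 → S.B y v = 0 → (g • v = S.sg u b • v ∨ g • v = S.sg u b • v + x))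
    (P : Submodule F V) (hxP : x ∈ P) (hyP : y ∈ P) (huP : u ∈ P) (hbP : b ∈ P)
    {w : V} (hxw : S.B x w = 0) (hyw : S.B y w = 0) (hwu : S.B u w = 0) (hwb : S.B b w = 0)
    (hwP : w ∉ P) : g • y = y := by
  rcases hgy with h | hgy
  · exact h
  exfalso
  apply hwP
  obtain ⟨a, hr1⟩ := rel_exists S D hxw hyw
  have hr2 := rel_smul' S D hg hgx hgy hr1
  have hw1 : S.sg u b • w = w := S.sg_smul_of_perp_perp hu hub hwu hwb
  -- `g • a + a ∈ P`
  have ha1 : g • a + a ∈ P := by
    have e : S.sg u b • a + a = S.B a b • u + S.B a u • b := by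
      rw [sg_long_smul S hu hb hub]
      have := S.vadd_self a
      calc a + S.B a b • u + S.B a u • b + a = (a + a) + S.B a b • u + S.B a u • b := by abel
        _ = S.B a b • u + S.B a u • b := by rw [this, zero_add]
    have hmem : S.sg u b • a + a ∈ P := by
      rw [e]; exact P.add_mem (P.smul_mem _ huP) (P.smul_mem _ hbP)
    rcases hgv a hr1.2.2.1 hr1.2.2.2.1 with h | h
    · rw [h]; exact hmem
    · rw [h]
      have e2 : S.sg u b • a + x + a = (S.sg u b • a + a) + x := by abel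
      rw [e2]; exact P.add_mem hmem hxP
  -- a partner `a''` of `w` with `a'' + w + g • a ∈ P`
  have key : ∃ a'', Rel S H x y w a'' ∧ a'' + w + g • a ∈ P := by
    rcases hgv w hxw hyw with h | h
    · rw [h, hw1] at hr2
      refine ⟨_, hr2, ?_⟩
      have e : w + g • a + S.Q w • y + w + g • a = (w + w) + (g • a + g • a) + S.Q w • y := by abel
      rw [e, S.vadd_self, S.vadd_self, zero_add, zero_add]
      exact P.smul_mem _ hyP
    · rw [h, hw1] at hr2
      have h3 := rel_add_x S D hr2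
      refine ⟨_, h3, ?_⟩
      have e : w + x + g • a + S.Q w • y + y + w + g • a
          = (w + w) + (g • a + g • a) + (x + S.Q w • y + y) := by abel
      rw [e, S.vadd_self, S.vadd_self, zero_add, zero_add]
      exact P.add_mem (P.add_mem hxP (P.smul_mem _ hyP)) hyP
  obtain ⟨a'', hr3, hmem⟩ := key
  have haa : a'' + a ∈ P := by
    rcases rel_unique S D hr1 hr3 with h | h
    · rw [h, S.vadd_self]; exact P.zero_mem
    · rw [h, add_comm a x, add_assoc, S.vadd_self, add_zero]; exact hxP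
  have e : w = (a'' + w + g • a) + (a'' + a) + (g • a + a) := by
    have h1 := S.vadd_self a''
    have h2 := S.vadd_self (g • a)
    have h3 := S.vadd_self a
    calc w = w + (a'' + a'') + (g • a + g • a) + (a + a) := by rw [h1, h2, h3]; simp
      _ = (a'' + w + g • a) + (a'' + a) + (g • a + a) := by abel
  rw [e]
  exact P.add_mem (P.add_mem hmem haa) ha1


include S in
/-- I5 -/
theorem not_forall_isA_five [Finite V] {m : ℕ} (hV : Nat.card V = 2 ^ (2 * m)) (hm : 5 ≤ m)
    (H : Subgroup G) : ¬ ∀ x, x ≠ 0 → S.Q x = 0 → S.IsA H x := by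
  intro hall
  have hm4 : 4 ≤ m := by omega
  have hVbig : 1024 ≤ Nat.card V := by
    rw [hV]
    calc 1024 = 2 ^ 10 := by norm_num
      _ ≤ 2 ^ (2 * m) := Nat.pow_le_pow_right (by norm_num) (by omega)
  obtain ⟨x, hx0, hx, -, -, -, -⟩ := exists_sing_perp_ne S hV hm4 (0 : V) 0
  obtain ⟨y, hy0, hy, hyx, -, hyne, -⟩ := exists_sing_perp_ne S hV hm4 x x
  have hxy : S.B x y = 0 := by rw [S.B_symm]; exact hyx
  have D : LineData S H x y := ⟨hall, hx0, hy0, hx, hy, hxy, fun h => hyne h.symm⟩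
  -- the point `u`
  have c2 := card_span_range_le S ![x, y]
  obtain ⟨u, hu, huv, huP⟩ := exists_sing_escape S hV (r := 2) (by omega) ![x, y]
    (Submodule.span F (Set.range ![x, y])) (fun i => Submodule.subset_span ⟨i, rfl⟩)
    (by nlinarith)
  have hux : S.B u x = 0 := by simpa using huv 0
  have huy : S.B u y = 0 := by simpa using huv 1
  have hxu : S.B x u = 0 := by rw [S.B_symm]; exact hux
  have hyu : S.B y u = 0 := by rw [S.B_symm]; exact huy
  -- the point `b`
  have c3 := card_span_range_le S ![x, y, u]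
  obtain ⟨b, hb, hbv, hbP⟩ := exists_sing_escape S hV (r := 3) (by omega) ![x, y, u]
    (Submodule.span F (Set.range ![x, y, u])) (fun i => Submodule.subset_span ⟨i, rfl⟩)
    (by nlinarith)
  have hbx : S.B b x = 0 := by simpa using hbv 0
  have hby : S.B b y = 0 := by simpa using hbv 1
  have hbu : S.B b u = 0 := by simpa using hbv 2
  have hxb : S.B x b = 0 := by rw [S.B_symm]; exact hbx
  have hyb : S.B y b = 0 := by rw [S.B_symm]; exact hby
  have hub : S.B u b = 0 := by rw [S.B_symm]; exact hbu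
  -- the point `b'`
  have c4 := card_span_range_le S ![x, y, u, b]
  have hsub : ∀ i, ![x, y, u] i ∈ Submodule.span F (Set.range ![x, y, u, b]) := by
    intro i
    fin_cases i
    · exact Submodule.subset_span ⟨0, rfl⟩
    · exact Submodule.subset_span ⟨1, rfl⟩
    · exact Submodule.subset_span ⟨2, rfl⟩
  obtain ⟨b', hb', hb'v, hb'P⟩ := exists_sing_escape S hV (r := 3) (by omega) ![x, y, u]
    (Submodule.span F (Set.range ![x, y, u, b])) hsub (by nlinarith)
  have hb'x : S.B b' x = 0 := by simpa using hb'v 0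
  have hb'y : S.B b' y = 0 := by simpa using hb'v 1
  have hb'u : S.B b' u = 0 := by simpa using hb'v 2
  have hxb' : S.B x b' = 0 := by rw [S.B_symm]; exact hb'x
  have hyb' : S.B y b' = 0 := by rw [S.B_symm]; exact hb'y
  have hub' : S.B u b' = 0 := by rw [S.B_symm]; exact hb'u
  -- the two big subspaces
  set P4 := Submodule.span F (Set.range ![x, y, u, b]) with hP4
  set P4' := Submodule.span F (Set.range ![x, y, u, b']) with hP4'
  have c4' := card_span_range_le S ![x, y, u, b']
  have hxP4 : x ∈ P4 := Submodule.subset_span ⟨0, rfl⟩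
  have hyP4 : y ∈ P4 := Submodule.subset_span ⟨1, rfl⟩
  have huP4 : u ∈ P4 := Submodule.subset_span ⟨2, rfl⟩
  have hbP4 : b ∈ P4 := Submodule.subset_span ⟨3, rfl⟩
  have hxP4' : x ∈ P4' := Submodule.subset_span ⟨0, rfl⟩
  have hyP4' : y ∈ P4' := Submodule.subset_span ⟨1, rfl⟩
  have huP4' : u ∈ P4' := Submodule.subset_span ⟨2, rfl⟩
  have hbP4' : b' ∈ P4' := Submodule.subset_span ⟨3, rfl⟩
  -- the lifts fix `y`
  obtain ⟨g, hg, hgx, hgy, hgv⟩ := exists_lift S D hu hxu hyu hxb hyb hub
  obtain ⟨g', hg', hgx', hgy', hgv'⟩ := exists_lift S D hu hxu hyu hxb' hyb' hub'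
  obtain ⟨w, hwP, hwn⟩ := exists_perp_not_mem S P4 (by nlinarith)
  obtain ⟨w', hwP', hwn'⟩ := exists_perp_not_mem S P4' (by nlinarith)
  have hgy1 : g • y = y := lift_fixes_y S D hu hb hub hg hgx hgy hgv P4 hxP4 hyP4 huP4 hbP4
    (hwP x hxP4) (hwP y hyP4) (hwP u huP4) (hwP b hbP4) hwn
  have hgy1' : g' • y = y := lift_fixes_y S D hu hb' hub' hg' hgx' hgy' hgv' P4' hxP4' hyP4'
    huP4' hbP4' (hwP' x hxP4') (hwP' y hyP4') (hwP' u huP4') (hwP' b' hbP4') hwn'
  -- Claim B for both
  have hb'P3 : b' ∉ Submodule.span F (Set.range ![x, y, u]) := by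
    intro h
    apply hb'P
    exact (Submodule.span_le.mpr (by rintro _ ⟨i, rfl⟩; exact hsub i)) h
  obtain ⟨w1, hw1P, hw1b⟩ := exists_perp_not_perp S _ hbP
  obtain ⟨w1', hw1P', hw1b'⟩ := exists_perp_not_perp S _ hb'P3
  have m0 : x ∈ Submodule.span F (Set.range ![x, y, u]) := Submodule.subset_span ⟨0, rfl⟩
  have m1 : y ∈ Submodule.span F (Set.range ![x, y, u]) := Submodule.subset_span ⟨1, rfl⟩
  have m2 : u ∈ Submodule.span F (Set.range ![x, y, u]) := Submodule.subset_span ⟨2, rfl⟩
  obtain ⟨α, β, l, hl, hrel⟩ := rel_u_of_lift S D hu hb hub hg hgx hgy1 hgv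
    (by rw [S.B_symm]; exact hw1P x m0) (by rw [S.B_symm]; exact hw1P y m1) hw1b (hw1P u m2)
  obtain ⟨α', β', l', hl', hrel'⟩ := rel_u_of_lift S D hu hb' hub' hg' hgx' hgy1' hgv'
    (by rw [S.B_symm]; exact hw1P' x m0) (by rw [S.B_symm]; exact hw1P' y m1) hw1b' (hw1P' u m2)
  have hlP4 : l ∈ P4 := onLine_mem P4 hxP4 hyP4 (onLine_of_mem_span S hl)
  have hl'P4 : l' ∈ P4 := onLine_mem P4 hxP4 hyP4 (onLine_of_mem_span S hl')
  -- `β' = 0`
  have hβ' : β' = 0 := by
    by_contra hne
    have h1 : β' = 1 := S.eq_one_of_ne_zero hne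
    apply hb'P
    have hmem : α' • u + β' • b' + l' + (α • u + β • b + l) ∈ P4 := by
      rcases rel_unique S D hrel hrel' with h | h
      · rw [h, S.vadd_self]; exact P4.zero_mem
      · rw [h, add_comm _ x, add_assoc, S.vadd_self, add_zero]; exact hxP4
    have e : b' = (α' • u + β' • b' + l' + (α • u + β • b + l)) +
        (α' • u + l' + (α • u + β • b + l)) := by
      rw [h1, one_smul]
      have h2 := S.vadd_self (α' • u + l' + (α • u + β • b + l))
      calc b' = b' + (α' • u + l' + (α • u + β • b + l) + (α' • u + l' + (α • u + β • b + l))) := by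
            rw [h2, add_zero]
        _ = _ := by abel
    rw [e]
    refine P4.add_mem hmem (P4.add_mem (P4.add_mem (P4.smul_mem _ huP4) hl'P4)
      (P4.add_mem (P4.add_mem (P4.smul_mem _ huP4) (P4.smul_mem _ hbP4)) hlP4))
  rw [hβ', zero_smul, add_zero] at hrel'
  -- the end
  have hline : OnLine x y u := by
    rcases S.h01 α' with h0 | h1
    · rw [h0, zero_smul, zero_add] at hrel'
      exact rel_ker S D hrel' (onLine_of_mem_span S hl')
    · rw [h1, one_smul] at hrel'
      apply rel_ker' S D hrel'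
      rw [add_comm u l', add_assoc, S.vadd_self, add_zero]
      exact onLine_of_mem_span S hl'
  exact huP (onLine_mem _ (Submodule.subset_span ⟨0, rfl⟩) (Submodule.subset_span ⟨1, rfl⟩) hline)

end Cfsg.Agent.Lib.Helper11.Om2I5
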