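import Mathlib
import Cfsg.Agent.Lib.Helper11.Om2I5

/-! Helper11 library (S2146): the alternating form `β` of step (I). -/

set_option autoImplicit false

namespace Cfsg.Agent.Lib.Helper11.Om2Beta

open MulAction Cfsg.Agent.Lib.Helper11.Om2 Cfsg.Agent.Lib.Helper11.Om2I5
open Cfsg.Agent.Lib.Helper5.Om2Leaf (rel_zero rel_x rel_y rel_exists rel_unique rel_perp rel_add rel_ker rel_ker' rel_smul rel_smul' exists_lift)

variable {F V G : Type*} [Field F] [AddCommGroup V] [Module F V] [Group G] [DistribMulAction G V]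
  (S : Setting F V G) {H : Subgroup G} {x y : V}

/-- `v ∈ L = <x,y>^⊥` -/
def InL (x y v : V) : Prop := S.B x v = 0 ∧ S.B y v = 0

theorem inL_add {v v' : V} (h : InL S x y v) (h' : InL S x y v') : InL S x y (v + v') :=
  ⟨by rw [S.Badd_right, h.1, h'.1, add_zero], by rw [S.Badd_right, h.2, h'.2, add_zero]⟩

theorem inL_smul (c : F) {v : V} (h : InL S x y v) : InL S x y (c • v) :=
  ⟨by rw [S.Bsmul_right, h.1, mul_zero], by rw [S.Bsmul_right, h.2, mul_zero]⟩

theorem inL_of_onLine (D : LineData S H x y) {l : V} (hl : OnLine x y l) : InL S x y l := by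
  have hyx : S.B y x = 0 := by rw [S.B_symm]; exact D.hxy
  rcases hl with rfl | rfl | rfl | rfl
  · exact ⟨S.Bzero_right _, S.Bzero_right _⟩
  · exact ⟨S.alt _, hyx⟩
  · exact ⟨D.hxy, S.alt _⟩
  · exact ⟨by rw [S.Badd_right, S.alt, D.hxy, add_zero], by rw [S.Badd_right, S.alt, hyx, add_zero]⟩

theorem rel_inL_left {w a : V} (h : Rel S H x y w a) : InL S x y w := ⟨h.1, h.2.1⟩

theorem rel_inL_right {w a : V} (h : Rel S H x y w a) : InL S x y a := ⟨h.2.2.1, h.2.2.2.1⟩

open Classical in
/-- a chosen partner of `w` -/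
noncomputable def phi (D : LineData S H x y) (w : V) : V :=
  if h : InL S x y w then Classical.choose (rel_exists S D h.1 h.2) else 0

theorem rel_phi (D : LineData S H x y) {w : V} (hw : InL S x y w) :
    Rel S H x y w (phi S D w) := by
  unfold phi
  rw [dif_pos hw]
  exact Classical.choose_spec (rel_exists S D hw.1 hw.2)

/-- the form `β` -/
noncomputable def beta (D : LineData S H x y) (w w' : V) : F := S.B (phi S D w) w'

theorem beta_eq (D : LineData S H x y) {w a w' : V} (h : Rel S H x y w a)
    (hw' : InL S x y w') : beta S D w w' = S.B a w' := by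
  unfold beta
  rcases rel_unique S D h (rel_phi S D (rel_inL_left S h)) with h1 | h1
  · rw [h1]
  · rw [h1, S.Badd_left, hw'.1, add_zero]

theorem beta_self (D : LineData S H x y) {w : V} (hw : InL S x y w) : beta S D w w = 0 :=
  rel_perp S D (rel_phi S D hw)

theorem beta_add_right (D : LineData S H x y) (w w1 w2 : V) :
    beta S D w (w1 + w2) = beta S D w w1 + beta S D w w2 := by
  unfold beta
  rw [S.Badd_right]

theorem beta_add_left (D : LineData S H x y) {w1 w2 w' : V} (h1 : InL S x y w1)
    (h2 : InL S x y w2) (hw' : InL S x y w') :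
    beta S D (w1 + w2) w' = beta S D w1 w' + beta S D w2 w' := by
  have hr := rel_add S D (rel_phi S D h1) (rel_phi S D h2)
  rw [beta_eq S D hr hw', S.Badd_left, S.Badd_left, S.Bsmul_left, hw'.2, mul_zero, add_zero]
  rfl

theorem beta_symm (D : LineData S H x y) {w w' : V} (hw : InL S x y w) (hw' : InL S x y w') :
    beta S D w w' = beta S D w' w := by
  have h := beta_self S D (inL_add S hw hw')
  rw [beta_add_left S D hw hw' (inL_add S hw hw'), beta_add_right, beta_add_right,
    beta_self S D hw, beta_self S D hw', zero_add, add_zero] at h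
  exact S.fadd_eq_zero_iff.mp h

theorem beta_line_left (D : LineData S H x y) {l w' : V} (hl : OnLine x y l)
    (hw' : InL S x y w') : beta S D l w' = 0 := by
  have h0 : beta S D 0 w' = 0 := by rw [beta_eq S D (rel_zero S D) hw', S.Bzero_left]
  have hx : beta S D x w' = 0 := by rw [beta_eq S D (rel_x S D) hw', hw'.2]
  have hy : beta S D y w' = 0 := by rw [beta_eq S D (rel_y S D) hw', S.Bzero_left]
  rcases hl with rfl | rfl | rfl | rfl
  · exact h0
  · exact hx
  · exact hy
  · rw [beta_add_left S D (inL_of_onLine S D (Or.inr (Or.inl rfl)))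
      (inL_of_onLine S D (Or.inr (Or.inr (Or.inl rfl)))) hw', hx, hy, add_zero]

theorem beta_line_right (D : LineData S H x y) {w l : V} (hw : InL S x y w)
    (hl : OnLine x y l) : beta S D w l = 0 := by
  have hp := rel_inL_right S (rel_phi S D hw)
  have hpx : S.B (phi S D w) x = 0 := by rw [S.B_symm]; exact hp.1
  have hpy : S.B (phi S D w) y = 0 := by rw [S.B_symm]; exact hp.2
  unfold beta
  rcases hl with rfl | rfl | rfl | rfl
  · exact S.Bzero_right _
  · exact hpx
  · exact hpy
  · rw [S.Badd_right, hpx, hpy, add_zero]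


/-- elements fixing `x` and mapping `y` into `{y, x + y}` preserve `L` -/
theorem inL_smul_of_fix (D : LineData S H x y) {g : G} (hgx : g • x = x)
    (hgy : g • y = y ∨ g • y = x + y) {v : V} (hv : InL S x y v) : InL S x y (g • v) := by
  have h1 : S.B x (g • v) = 0 := by
    conv_lhs => rw [← hgx]
    rw [S.iso, hv.1]
  refine ⟨h1, ?_⟩
  rcases hgy with h | h
  · conv_lhs => rw [← h]
    rw [S.iso, hv.2]
  · have h2 : S.B (x + y) (g • v) = 0 := by
      rw [← h, S.iso, hv.2]
    rw [S.Badd_left, h1, zero_add] at h2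
    exact h2

theorem beta_add_x_left (D : LineData S H x y) {w w' : V} (hw : InL S x y w)
    (hw' : InL S x y w') : beta S D (w + x) w' = beta S D w w' := by
  rw [beta_add_left S D hw (inL_of_onLine S D (Or.inr (Or.inl rfl))) hw',
    beta_line_left S D (Or.inr (Or.inl rfl)) hw', add_zero]

theorem beta_add_x_right (D : LineData S H x y) {w w' : V} (hw : InL S x y w) :
    beta S D w (w' + x) = beta S D w w' := by
  rw [beta_add_right, beta_line_right S D hw (Or.inr (Or.inl rfl)), add_zero]

/-- invariance of `β` under a long root element `sg u b` of `L`, up to the polar form -/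
theorem beta_lift (D : LineData S H x y) {u b : V} (hu : S.Q u = 0)
    (huL : InL S x y u) (hbL : InL S x y b) (hub : S.B u b = 0) :
    ∃ ε : F, ∀ w w', InL S x y w → InL S x y w' →
      beta S D (S.sg u b • w) (S.sg u b • w') = beta S D w w' + ε * S.B w w' := by
  obtain ⟨g, hg, hgx, hgy, hgv⟩ := exists_lift S D hu huL.1 huL.2 hbL.1 hbL.2 hub
  have hxu : S.B u x = 0 := by rw [S.B_symm]; exact huL.1
  have hyu : S.B u y = 0 := by rw [S.B_symm]; exact huL.2
  have hxb : S.B b x = 0 := by rw [S.B_symm]; exact hbL.1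
  have hyb : S.B b y = 0 := by rw [S.B_symm]; exact hbL.2
  have hlx : S.sg u b • x = x := S.sg_smul_of_perp_perp hu hub hxu hxb
  have hly : S.sg u b • y = y := S.sg_smul_of_perp_perp hu hub hyu hyb
  have hlL : ∀ v, InL S x y v → InL S x y (S.sg u b • v) :=
    fun v hv => inL_smul_of_fix S D hlx (Or.inl hly) hv
  have hgL : ∀ v, InL S x y v → InL S x y (g • v) :=
    fun v hv => inL_smul_of_fix S D hgx hgy hv
  -- replace `sg u b` by `g`
  have hrep : ∀ w w', InL S x y w → InL S x y w' →
      beta S D (S.sg u b • w) (S.sg u b • w') = beta S D (g • w) (g • w') := by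
    intro w w' hw hw'
    have e1 : beta S D (S.sg u b • w) (S.sg u b • w') = beta S D (g • w) (S.sg u b • w') := by
      rcases hgv w hw.1 hw.2 with h | h
      · rw [h]
      · rw [h, beta_add_x_left S D (hlL w hw) (hlL w' hw')]
    rw [e1]
    rcases hgv w' hw'.1 hw'.2 with h | h
    · rw [h]
    · rw [h, beta_add_x_right S D (hgL w hw)]
  rcases hgy with hgy | hgy
  · refine ⟨0, fun w w' hw hw' => ?_⟩
    rw [hrep w w' hw hw', zero_mul, add_zero]
    have hr := rel_smul S D hg hgx hgy (rel_phi S D hw)
    rw [beta_eq S D hr (hgL w' hw'), S.iso]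
    rfl
  · refine ⟨1, fun w w' hw hw' => ?_⟩
    rw [hrep w w' hw hw', one_mul]
    have hr := rel_smul' S D hg hgx hgy (rel_phi S D hw)
    rw [beta_eq S D hr (hgL w' hw'), S.Badd_left, S.Badd_left, S.iso, S.iso, S.Bsmul_left,
      (hgL w' hw').2, mul_zero, add_zero, add_comm]
    rfl

/-- a totally singular pair `(u, b)` of `L` with `β u b = 0` has a lift which fixes `y`, so the partner of `u`
lies in `<u, b> + l` -/
theorem rel_of_beta_zero (D : LineData S H x y) {u b u' w1 : V} (hu : S.Q u = 0) (hb : S.Q b = 0)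
    (huL : InL S x y u) (hbL : InL S x y b) (hub : S.B u b = 0)
    (hu'L : InL S x y u') (huu' : S.B u u' = 1)
    (hw1L : InL S x y w1) (hw1b : S.B w1 b = 1) (hw1u : S.B w1 u = 0)
    (hβ : beta S D u b = 0) :
    ∃ α β' : F, ∃ l ∈ Submodule.span F {x, y}, Rel S H x y u (α • u + β' • b + l) := by
  obtain ⟨g, hg, hgx, hgy, hgv⟩ := exists_lift S D hu huL.1 huL.2 hbL.1 hbL.2 hub
  rcases hgy with hgy | hgy
  · exact rel_u_of_lift S D hu hb hub hg hgx hgy hgv hw1L.1 hw1L.2 hw1b hw1u
  · exfalso
    -- the lift is "anti": then `β u b = 1`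
    have hgL : ∀ v, InL S x y v → InL S x y (g • v) :=
      fun v hv => inL_smul_of_fix S D hgx (Or.inr hgy) hv
    have hr := rel_smul' S D hg hgx hgy (rel_phi S D huL)
    rw [hu, zero_smul, add_zero] at hr
    have hpL := rel_inL_right S (rel_phi S D huL)
    have hlu : S.sg u b • u = u := S.sg_smul_self hu hub
    have hla : S.sg u b • phi S D u
        = phi S D u + S.B (phi S D u) b • u + S.B (phi S D u) u • b :=
      sg_long_smul S hu hb hub _
    have hbuu : S.B (phi S D u) u = 0 := beta_self S D huL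
    have hbub : S.B (phi S D u) b = 0 := hβ
    rw [hbuu, hbub, zero_smul, zero_smul, add_zero, add_zero] at hla
    -- evaluate `β (g • u) u'` in two ways
    have h1 : beta S D (g • u) u' = beta S D u u' := by
      rcases hgv u huL.1 huL.2 with h | h
      · rw [h, hlu]
      · rw [h, hlu, beta_add_x_left S D huL hu'L]
    have h2 : beta S D (g • u) u' = S.B (g • u + g • phi S D u) u' := beta_eq S D hr hu'L
    have h3 : S.B (g • u + g • phi S D u) u' = S.B u u' + S.B (phi S D u) u' := by
      have hxu' : S.B x u' = 0 := hu'L.1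
      rcases hgv u huL.1 huL.2 with h | h <;> rcases hgv _ hpL.1 hpL.2 with h' | h' <;>
        rw [h, h', hlu, hla] <;>
        simp only [S.Badd_left, hxu', add_zero]
    rw [h1, h3, huu'] at h2
    have : (1 : F) = 0 := by
      have h4 : beta S D u u' = 1 + beta S D u u' := h2
      linear_combination -h4
    exact one_ne_zero this

end Cfsg.Agent.Lib.Helper11.Om2Beta
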