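import Mathlib
import Cfsg.Agent.Lib.Helper11.Om2Beta
import Cfsg.Agent.Lib.Helper8.Om2HB
import Cfsg.Agent.Lib.Helper15.Om2GB

/-! Helper11 library (S2146): step (I) for `m = 4`. -/

set_option autoImplicit false

namespace Cfsg.Agent.Lib.Helper11.Om2I4

open MulAction Cfsg.Agent.Lib.Helper11.Om2 Cfsg.Agent.Lib.Helper11.Om2I5 Cfsg.Agent.Lib.Helper11.Om2Beta
open Cfsg.Agent.Lib.Helper8.Om2Leaf (exists_hyp_basis)
open Cfsg.Agent.Lib.Helper5.Om2Leaf (rel_zero rel_x rel_y rel_exists rel_unique rel_perp rel_add rel_ker rel_ker' rel_smul rel_smul' exists_lift)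
open Cfsg.Agent.Lib.Helper15.Om2Leaf (exists_sing_perp_ne)

variable {F V G : Type*} [Field F] [AddCommGroup V] [Module F V] [Group G] [DistribMulAction G V]
  (S : Setting F V G)

include S in
/-- I4 -/
theorem not_forall_isA_four [Finite V] (hV : Nat.card V = 2 ^ (2 * 4))
    (hs : Nat.card {v : V // S.Q v = 0} = 2 ^ (2 * 4 - 1) + 2 ^ (4 - 1))
    (H : Subgroup G) : ¬ ∀ x, x ≠ 0 → S.Q x = 0 → S.IsA H x := by
  intro hall
  obtain ⟨x, hx0, hx, -, -, -, -⟩ := exists_sing_perp_ne S hV (le_refl 4) (0 : V) 0
  obtain ⟨y, hy0, hy, hyx, -, hyne, -⟩ := exists_sing_perp_ne S hV (le_refl 4) x x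
  have hxy : S.B x y = 0 := by rw [S.B_symm]; exact hyx
  have hne : x ≠ y := fun h => hyne h.symm
  have D : LineData S H x y := ⟨hall, hx0, hy0, hx, hy, hxy, hne⟩
  obtain ⟨a, b, a', b', haL, hbL, ha'L, hb'L, hQa, hQb, hQa', hQb', haa', hbb', hab, hab', ha'b,
    ha'b', hcoord⟩ := exists_hyp_basis S hV hs hx0 hy0 hx hy hxy hne
  have haL' : InL S x y a := haL
  have hbL' : InL S x y b := hbL
  have ha'L' : InL S x y a' := ha'L
  have hb'L' : InL S x y b' := hb'L
  have ha'a : S.B a' a = 1 := by rw [S.B_symm]; exact haa'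
  have hb'b : S.B b' b = 1 := by rw [S.B_symm]; exact hbb'
  have hba : S.B b a = 0 := by rw [S.B_symm]; exact hab
  have hb'a : S.B b' a = 0 := by rw [S.B_symm]; exact hab'
  have hba' : S.B b a' = 0 := by rw [S.B_symm]; exact ha'b
  have hb'a' : S.B b' a' = 0 := by rw [S.B_symm]; exact ha'b'
  -- images under the four long root elements
  have e1a : S.sg a' b' • a = a + b' := by
    rw [sg_long_smul S hQa' hQb' ha'b', hab', haa', zero_smul, one_smul, add_zero]
  have e1b : S.sg a' b' • b = b + a' := by
    rw [sg_long_smul S hQa' hQb' ha'b', hbb', hba', one_smul, zero_smul, add_zero]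
  have e2a : S.sg a b • a' = a' + b := by
    rw [sg_long_smul S hQa hQb hab, ha'b, ha'a, zero_smul, one_smul, add_zero]
  have e2b : S.sg a b • b' = b' + a := by
    rw [sg_long_smul S hQa hQb hab, hb'b, hb'a, one_smul, zero_smul, add_zero]
  have e3a : S.sg a b' • b = b + a := by
    rw [sg_long_smul S hQa hQb' hab', hbb', hba, one_smul, zero_smul, add_zero]
  have e3b : S.sg a b' • a' = a' + b' := by
    rw [sg_long_smul S hQa hQb' hab', ha'b', ha'a, zero_smul, one_smul, add_zero]
  have e4a : S.sg b a' • a = a + b := by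
    rw [sg_long_smul S hQb hQa' hba', haa', hab, one_smul, zero_smul, add_zero]
  have e4b : S.sg b a' • b' = b' + a' := by
    rw [sg_long_smul S hQb hQa' hba', hb'a', hb'b, zero_smul, one_smul, add_zero]
  -- the values of `β`
  obtain ⟨ε1, h1⟩ := beta_lift S D hQa' ha'L' hb'L' ha'b'
  obtain ⟨ε2, h2⟩ := beta_lift S D hQa haL' hbL' hab
  obtain ⟨ε3, h3⟩ := beta_lift S D hQa haL' hb'L' hab'
  obtain ⟨ε4, h4⟩ := beta_lift S D hQb hbL' ha'L' hba'
  have k1 := h1 a b haL' hbL'
  rw [e1a, e1b, hab, mul_zero, add_zero] at k1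
  have k2 := h2 a' b' ha'L' hb'L'
  rw [e2a, e2b, ha'b', mul_zero, add_zero] at k2
  have k3 := h3 b a' hbL' ha'L'
  rw [e3a, e3b, hba', mul_zero, add_zero] at k3
  have k4 := h4 a b' haL' hb'L'
  rw [e4a, e4b, hab', mul_zero, add_zero] at k4
  -- bilinear expansions
  have x1 : beta S D (a + b') (b + a') =
      beta S D a b + beta S D a a' + beta S D b b' + beta S D a' b' := by
    rw [beta_add_left S D haL' hb'L' (inL_add S hbL' ha'L'), beta_add_right, beta_add_right,
      beta_symm S D hb'L' hbL', beta_symm S D hb'L' ha'L']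
    ring
  have x2 : beta S D (a' + b) (b' + a) = beta S D (a + b') (b + a') := by
    rw [beta_symm S D (inL_add S ha'L' hbL') (inL_add S hb'L' haL'), add_comm b' a, add_comm a' b]
  have x3 : beta S D (b + a) (a' + b') =
      beta S D a a' + beta S D a b' + beta S D b a' + beta S D b b' := by
    rw [beta_add_left S D hbL' haL' (inL_add S ha'L' hb'L'), beta_add_right, beta_add_right]
    ring
  have x4 : beta S D (a + b) (b' + a') = beta S D (b + a) (a' + b') := by
    rw [add_comm a b, add_comm b' a']
  -- `p = s = q`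
  set p := beta S D a b with hp
  set q := beta S D a b' with hq
  set σ := beta S D a a' with hσ
  set τ := beta S D b b' with hτ
  have hp2 : beta S D a' b' = p := by rw [← k2, x2, k1]
  have hq2 : beta S D b a' = q := by rw [← k3, ← x4, k4]
  have hps : p = σ + τ := by
    have := k1
    rw [x1, hp2] at this
    have h2p := S.fadd_self p
    linear_combination (-1 : F) * this + h2p
  have hqs : q = σ + τ := by
    have := k3
    rw [x3, hq2] at this
    have h2q := S.fadd_self q
    linear_combination (-1 : F) * this + h2q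
  -- line membership helpers
  have hline_perp : ∀ l, OnLine x y l → ∀ v, InL S x y v → S.B l v = 0 := by
    intro l hl v hv
    rcases hl with rfl | rfl | rfl | rfl
    · exact S.Bzero_left _
    · exact hv.1
    · exact hv.2
    · rw [S.Badd_left, hv.1, hv.2, add_zero]
  have ha_not : ¬ OnLine x y a := by
    intro h
    have := hline_perp a h a' ha'L'
    rw [haa'] at this
    exact one_ne_zero this
  have haa_not : ¬ OnLine x y (a + a') := by
    intro h
    have := hline_perp (a + a') h a haL'
    rw [S.Badd_left, S.alt, ha'a, zero_add] at this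
    exact one_ne_zero this
  rcases S.h01 (σ + τ) with hs0 | hs1
  · -- all six lines are "comm"
    have hp0 : beta S D a b = 0 := by rw [← hp, hps, hs0]
    have hq0 : beta S D a b' = 0 := by rw [← hq, hqs, hs0]
    obtain ⟨α, β1, l, hl, hr1⟩ := rel_of_beta_zero S D hQa hQb haL' hbL' hab ha'L' haa' hb'L'
      hb'b hb'a hp0
    obtain ⟨α2, β2, l2, hl2, hr2⟩ := rel_of_beta_zero S D hQa hQb' haL' hb'L' hab' ha'L' haa' hbL'
      hbb' hba hq0
    have hlb' : S.B l b' = 0 := hline_perp l (onLine_of_mem_span S hl) b' hb'L'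
    have hl2b' : S.B l2 b' = 0 := hline_perp l2 (onLine_of_mem_span S hl2) b' hb'L'
    have hβ1 : β1 = 0 := by
      have hB : S.B (α2 • a + β2 • b' + l2) b' = S.B (α • a + β1 • b + l) b' := by
        rcases rel_unique S D hr1 hr2 with h | h
        · rw [h]
        · rw [h, S.Badd_left (α • a + β1 • b + l) x, hb'L'.1, add_zero]
      simp only [S.Badd_left, S.Bsmul_left, hab', S.alt, hbb', hlb', hl2b', mul_zero, mul_one,
        add_zero, zero_add] at hB
      exact hB.symm
    rw [hβ1, zero_smul, add_zero] at hr1
    rcases S.h01 α with h0 | h1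
    · rw [h0, zero_smul, zero_add] at hr1
      exact ha_not (rel_ker S D hr1 (onLine_of_mem_span S hl))
    · rw [h1, one_smul] at hr1
      apply ha_not
      apply rel_ker' S D hr1
      rw [add_comm a l, add_assoc, S.vadd_self, add_zero]
      exact onLine_of_mem_span S hl
  · -- all six lines are "anti"
    have hp1 : p = 1 := by rw [hps, hs1]
    have hq1 : q = 1 := by rw [hqs, hs1]
    have hra := rel_phi S D haL'
    have hra' := rel_phi S D ha'L'
    have hcA := hcoord _ (rel_inL_right S hra).1 (rel_inL_right S hra).2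
    have hcA' := hcoord _ (rel_inL_right S hra').1 (rel_inL_right S hra').2
    -- the coordinates
    have c1 : S.B (phi S D a) a' = σ := rfl
    have c2 : S.B (phi S D a) b' = 1 := hq1
    have c3 : S.B (phi S D a) a = 0 := beta_self S D haL'
    have c4 : S.B (phi S D a) b = 1 := hp1
    have d1 : S.B (phi S D a') a' = 0 := beta_self S D ha'L'
    have d2 : S.B (phi S D a') b' = 1 := by
      have : beta S D a' b' = 1 := by rw [hp2, hp1]
      exact this
    have d3 : S.B (phi S D a') a = σ := by
      have : beta S D a' a = σ := by rw [beta_symm S D ha'L' haL']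
      exact this
    have d4 : S.B (phi S D a') b = 1 := by
      have : beta S D a' b = 1 := by rw [beta_symm S D ha'L' hbL', hq2, hq1]
      exact this
    rw [c1, c2, c3, c4, one_smul, zero_smul, add_zero, one_smul] at hcA
    rw [d1, d2, d3, d4, zero_smul, add_zero, one_smul, one_smul] at hcA'
    have hradd := rel_add S D hra hra'
    -- `φ a + φ a' + c • y = σ • (a + a') + l3`
    have hmem : phi S D a + phi S D a' + S.B (phi S D a) a' • y + σ • (a + a') ∈
        Submodule.span F {x, y} := by
      have m1 := mem_span_of_onLine (F := F) hcA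
      have m2 := mem_span_of_onLine (F := F) hcA'
      have my : S.B (phi S D a) a' • y ∈ Submodule.span F {x, y} :=
        Submodule.smul_mem _ _ (Submodule.subset_span (by simp))
      have e : phi S D a + phi S D a' + S.B (phi S D a) a' • y + σ • (a + a')
          = (phi S D a + σ • a + b + b') + (phi S D a' + b + σ • a' + b') +
            S.B (phi S D a) a' • y := by
        have hbb := S.vadd_self (b + b')
        calc phi S D a + phi S D a' + S.B (phi S D a) a' • y + σ • (a + a')
            = phi S D a + phi S D a' + S.B (phi S D a) a' • y + σ • (a + a') +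
                ((b + b') + (b + b')) := by rw [hbb, add_zero]
          _ = _ := by rw [smul_add]; abel
      rw [e]
      exact Submodule.add_mem _ (Submodule.add_mem _ m1 m2) my
    set l3 := phi S D a + phi S D a' + S.B (phi S D a) a' • y + σ • (a + a') with hl3
    have e3 : phi S D a + phi S D a' + S.B (phi S D a) a' • y = σ • (a + a') + l3 := by
      rw [hl3]
      have := S.vadd_self (σ • (a + a'))
      calc phi S D a + phi S D a' + S.B (phi S D a) a' • y
          = phi S D a + phi S D a' + S.B (phi S D a) a' • y + (σ • (a + a') + σ • (a + a')) := by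
            rw [this, add_zero]
        _ = _ := by abel
    rw [e3] at hradd
    rcases S.h01 σ with h0 | h1
    · rw [h0, zero_smul, zero_add] at hradd
      exact haa_not (rel_ker S D hradd (onLine_of_mem_span S hmem))
    · rw [h1, one_smul] at hradd
      apply haa_not
      apply rel_ker' S D hradd
      rw [add_comm (a + a') l3, add_assoc, S.vadd_self, add_zero]
      exact onLine_of_mem_span S hmem

end Cfsg.Agent.Lib.Helper11.Om2I4
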