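import Mathlib
import Cfsg.Agent.Lib.Helper11.Om2Tools
import Cfsg.Agent.Lib.Helper11.Om2I5
import Cfsg.Agent.Lib.Helper11.Om2I4
import Cfsg.Agent.Lib.Helper12.Om2K
import Cfsg.Agent.Lib.Helper15.Om2GB
import Cfsg.Agent.Lib.Helper16.Om2OLE
import Cfsg.Agent.Lib.Helper22.Om2T1
import Cfsg.Agent.Lib.Helper22.Om2OL0
import Cfsg.Agent.Lib.Helper22.Om2OLi

/-! Helper11 library (S2146): the main lower bound in the abstract `Ω⁺_2m(2)` setting. -/

set_option autoImplicit false

namespace Cfsg.Agent.Lib.Helper11.Om2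

open MulAction Pointwise Cfsg.Agent.Lib.Helper1.Sp2Leaf
open Cfsg.Agent.Lib.Helper11.Om2I5 (not_forall_isA_five)
open Cfsg.Agent.Lib.Helper11.Om2I4 (not_forall_isA_four)
open Cfsg.Agent.Lib.Helper12.Om2Leaf (card_Dt_mul_card_Dt_le)
open Cfsg.Agent.Lib.Helper15.Om2Leaf (exists_sing_perp_ne)
open Cfsg.Agent.Lib.Helper16.Om2Leaf (relIndex_ge_of_ne)
open Cfsg.Agent.Lib.Helper22.Om2Leaf (exists_smul_eq_of_sing relIndex_ge_of_isA isA_or_relIndex_ge)

variable {F V G : Type*} [Field F] [AddCommGroup V] [Module F V] [Group G] [DistribMulAction G V]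
variable (S : Setting F V G)

/-- powers of two needed in the main proof, in terms of `a = 2^(m-1)` -/
theorem pow_arith2 (m : ℕ) (hm : 4 ≤ m) :
    ∃ a : ℕ, 8 ≤ a ∧ 2 ^ (m - 1) = a ∧ 2 ^ m = 2 * a ∧ 2 ^ (2 * m - 2) = a * a ∧
      2 ^ (2 * m - 1) = 2 * (a * a) ∧ 2 ^ (2 * m) = 4 * (a * a) ∧
      2 ^ (m - 1) * (2 ^ m - 1) = 2 * (a * a) - a ∧ 8 * a ≤ a * a := by
  obtain ⟨k, rfl⟩ : ∃ k, m = k + 4 := ⟨m - 4, by omega⟩
  refine ⟨2 ^ (k + 3), ?_, ?_, ?_, ?_, ?_, ?_, ?_, ?_⟩
  · calc 8 = 2 ^ 3 := by norm_num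
      _ ≤ 2 ^ (k + 3) := Nat.pow_le_pow_right (by norm_num) (by omega)
  · congr 1
  · rw [show k + 4 = (k + 3) + 1 by omega, pow_succ]; ring
  · rw [← pow_add]; congr 1; omega
  · rw [← pow_add, show 2 * (k + 4) - 1 = (k + 3 + (k + 3)) + 1 by omega, pow_succ]; ring
  · rw [← pow_add, show 2 * (k + 4) = (k + 3 + (k + 3)) + 2 by omega, pow_add]; ring
  · have e1 : 2 ^ (k + 4 - 1) = 2 ^ (k + 3) := by congr 1
    have e2 : 2 ^ (k + 4) = 2 * 2 ^ (k + 3) := by
      rw [show k + 4 = (k + 3) + 1 by omega, pow_succ]; ring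
    rw [e1, e2, Nat.mul_sub, mul_one]
    congr 1; ring
  · apply Nat.mul_le_mul_right
    calc 8 = 2 ^ 3 := by norm_num
      _ ≤ 2 ^ (k + 3) := Nat.pow_le_pow_right (by norm_num) (by omega)

theorem sg_zero_left (w : V) : S.sg 0 w = 1 := by
  apply S.faithful
  intro z
  rw [S.sg_smul' S.Q_zero (S.Bzero_left w)]
  simp

include S in
/-- MAIN lower bound -/
theorem index_ge [Finite V] [Finite G] {m : ℕ} (hV : Nat.card V = 2 ^ (2 * m))
    (hs : Nat.card {v : V // S.Q v = 0} = 2 ^ (2 * m - 1) + 2 ^ (m - 1)) (hm : 4 ≤ m)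
    (H : Subgroup G) (hH : H ≠ ⊤) : 2 ^ (m - 1) * (2 ^ m - 1) ≤ H.index := by
  by_contra hlt
  push Not at hlt
  obtain ⟨a, ha8, e1, e2, e3, e4, e5, eM, haa⟩ := pow_arith2 m hm
  rw [eM] at hlt
  have hidx : H.index ≠ 0 := Subgroup.index_ne_zero_of_finite
  have hle : ∀ v : V, H.relIndex (stabilizer G v) ≤ H.index := by
    intro v
    have := Subgroup.relIndex_le_of_le_right (H := H) (le_top : stabilizer G v ≤ ⊤)
      (by rw [Subgroup.relIndex_top_right]; exact hidx)
    rwa [Subgroup.relIndex_top_right] at this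
  -- a line which is not an `H`-line
  have hex : ∃ x y, S.Q x = 0 ∧ S.Q y = 0 ∧ S.B x y = 0 ∧ S.sg x y ∉ H := by
    by_contra hn
    push Not at hn
    exact hH (S.gen H hn)
  obtain ⟨x, y, hx, hy, hxy, hnot⟩ := hex
  have hx0 : x ≠ 0 := by
    rintro rfl
    exact hnot (by rw [sg_zero_left]; exact H.one_mem)
  have hy0 : y ≠ 0 := by
    rintro rfl
    exact hnot (by rw [S.sg_zero_right hx]; exact H.one_mem)
  have hxney : x ≠ y := by
    rintro rfl
    exact hnot (by rw [S.sg_self hx]; exact H.one_mem)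
  have hyx : S.B y x = 0 := by rw [S.B_symm]; exact hxy
  set z := x + y with hzdef
  have hz : S.Q z = 0 := by rw [hzdef, S.Q_add, hx, hy, hxy]; simp
  have hz0 : z ≠ 0 := fun h => hxney (S.vadd_eq_zero_iff.mp h)
  have hxz : S.B x z = 0 := by rw [hzdef, S.Badd_right, S.alt, hxy, add_zero]
  have hyz : S.B y z = 0 := by rw [hzdef, S.Badd_right, S.alt, hyx, add_zero]
  have hnotxz : S.sg x z ∉ H := by
    rw [hzdef, add_comm, S.sg_add_self hx hxy]; exact hnot
  have hnotyz : S.sg y z ∉ H := by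
    rw [hzdef, S.sg_add_self hy hyx, ← S.sg_symm hx hy hxy]; exact hnot
  -- every point of type A has a long orbit
  have hA_ge : ∀ p : V, S.IsA H p → a * a ≤ H.relIndex (stabilizer G p) := by
    intro p hp
    have := relIndex_ge_of_isA S hV (by omega) H hp
    rwa [e3] at this
  -- points of type A on a non-`H`-line: the core of the argument
  have core : ∀ p q : V, p ≠ 0 → q ≠ 0 → ∀ (hp : S.Q p = 0) (hq : S.Q q = 0), S.B p q = 0 →
      S.sg p q ∉ H → Nat.card (S.Dt H hp) ≤ 2 ^ m → Nat.card (S.Dt H hq) ≤ 2 ^ m → False := by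
    intro p q hp0 hq0 hp hq hpq hnpq hcp hcq
    have hAp : S.IsA H p := by
      rcases isA_or_relIndex_ge S hV hs hm H hp0 hp hcp with h | h
      · exact h
      · exfalso
        have := hle p
        rw [eM] at h
        omega
    have hAq : S.IsA H q := by
      rcases isA_or_relIndex_ge S hV hs hm H hq0 hq hcq with h | h
      · exact h
      · exfalso
        have := hle q
        rw [eM] at h
        omega
    -- every singular point outside the orbit of `p` which is not of type A has `Q_z ≤ H`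
    have hother : ∀ z0 : V, z0 ≠ 0 → ∀ hz0 : S.Q z0 = 0, ¬ S.IsA H z0 →
        ∀ w, S.B z0 w = 0 → S.sg z0 w ∈ H := by
      intro z0 hz00 hz0Q hnA
      by_contra hne
      push Not at hne
      have h1 := relIndex_ge_of_ne S hV hs hm H hz00 hz0Q hne
      rw [e3, e1] at h1
      have hdiff : ∀ h ∈ H, h • p ≠ z0 := by
        intro h hh he
        exact hnA (he ▸ S.isA_smul hAp hh)
      have h2 := relIndex_add_relIndex_le H p z0
        (exists_smul_eq_of_sing S hV hm hp0 hz00 hp hz0Q) hdiff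
      have h3 := hA_ge p hAp
      omega
    -- all singular points are of type A
    have hall : ∀ z0 : V, z0 ≠ 0 → S.Q z0 = 0 → S.IsA H z0 := by
      intro z0 hz00 hz0Q
      by_contra hnA
      have hQz := hother z0 hz00 hz0Q hnA
      obtain ⟨u, hu0, hu, huz, hup, hunez, hunep⟩ := exists_sing_perp_ne S hV hm z0 p
      have hzu : S.B z0 u = 0 := by rw [S.B_symm]; exact huz
      have hpu : S.B p u = 0 := by rw [S.B_symm]; exact hup
      by_cases hAu : S.IsA H u
      · have hmem : S.sg u z0 ∈ H := by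
          rw [S.sg_symm hu hz0Q huz]; exact hQz u hzu
        rcases hAu.2.2.1 z0 huz hmem with h | h
        · exact hz00 h
        · exact hunez h.symm
      · have hQu := hother u hu0 hu hAu
        have hmem : S.sg p u ∈ H := by
          rw [S.sg_symm hp hu hpu]; exact hQu p hup
        rcases hAp.2.2.1 u hpu hmem with h | h
        · exact hu0 h
        · exact hunep h
    by_cases h5 : 5 ≤ m
    · exact not_forall_isA_five S hV h5 H hall
    · have hm4 : m = 4 := by omega
      subst hm4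
      exact not_forall_isA_four S hV hs H hall
  -- two of the three points of the line have a small `D̃`
  have kxy := card_Dt_mul_card_Dt_le S H hx0 hy0 hx hy hxy hnot
  have kxz := card_Dt_mul_card_Dt_le S H hx0 hz0 hx hz hxz hnotxz
  have kyz := card_Dt_mul_card_Dt_le S H hy0 hz0 hy hz hyz hnotyz
  rw [hV, e5] at kxy kxz kyz
  have big : ∀ c d : ℕ, 2 * a < c → 2 * a < d → 4 * (a * a) < c * d := by
    intro c d hc hd
    calc 4 * (a * a) = (2 * a) * (2 * a) := by ring
      _ < c * d := Nat.mul_lt_mul'' hc hd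
  by_cases hcx : Nat.card (S.Dt H hx) ≤ 2 ^ m
  · by_cases hcy : Nat.card (S.Dt H hy) ≤ 2 ^ m
    · exact core x y hx0 hy0 hx hy hxy hnot hcx hcy
    · by_cases hcz : Nat.card (S.Dt H hz) ≤ 2 ^ m
      · exact core x z hx0 hz0 hx hz hxz hnotxz hcx hcz
      · rw [e2] at hcy hcz
        have := big _ _ (not_le.mp hcy) (not_le.mp hcz)
        omega
  · by_cases hcy : Nat.card (S.Dt H hy) ≤ 2 ^ m
    · by_cases hcz : Nat.card (S.Dt H hz) ≤ 2 ^ m
      · exact core y z hy0 hz0 hy hz hyz hnotyz hcy hcz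
      · rw [e2] at hcx hcz
        have := big _ _ (not_le.mp hcx) (not_le.mp hcz)
        omega
    · rw [e2] at hcx hcy
      have := big _ _ (not_le.mp hcx) (not_le.mp hcy)
      omega

end Cfsg.Agent.Lib.Helper11.Om2
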