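import Mathlib
import Cfsg.Agent.Lib.Helper11.Om2Main
import Cfsg.Agent.Lib.Helper14.Om2INST

/-! Helper11 library (S2146): the lower bound for `Cfsg.Omega F (Cfsg.quadFormPlus m F)`, `|F| = 2`,
`m ≥ 4`, and its transfer to `Cfsg.POmega`. -/

set_option autoImplicit false

namespace Cfsg.Agent.Lib.Helper11.Om2Inst

open Cfsg.Agent.Lib.Helper11.Om2 Cfsg.Agent.Lib.Helper14.Om2Leaf Cfsg.Agent.Lib.Helper25.MaxTS

variable {F : Type*} [Field F] [Fintype F]

/-- lower bound for `Ω` of the bundled form `plusQ m` -/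
theorem omega_index_ge_aux (hF : Fintype.card F = 2) (m : ℕ) (hm : 4 ≤ m)
    (H : Subgroup ↥(Cfsg.Omega F ⇑(plusQ (F := F) m))) (hH : H ≠ ⊤) :
    2 ^ (m - 1) * (2 ^ m - 1) ≤ H.index := by
  let _ := omAct F m
  exact index_ge (omSetting m hF hm) (card_V m hF) (card_sing m hF hm) hm H hH

/-- lower bound for `Ω` of any function equal to `plusQ m` -/
theorem omega_index_ge_of_eq (hF : Fintype.card F = 2) (m : ℕ) (hm : 4 ≤ m)
    (Q' : (Fin m ⊕ Fin m → F) → F) (hQ' : ⇑(plusQ (F := F) m) = Q')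
    (H : Subgroup ↥(Cfsg.Omega F Q')) (hH : H ≠ ⊤) :
    2 ^ (m - 1) * (2 ^ m - 1) ≤ H.index := by
  subst hQ'
  exact omega_index_ge_aux hF m hm H hH

theorem omega_index_ge (hF : Fintype.card F = 2) (m : ℕ) (hm : 4 ≤ m)
    (H : Subgroup ↥(Cfsg.Omega F (Cfsg.quadFormPlus m F))) (hH : H ≠ ⊤) :
    2 ^ (m - 1) * (2 ^ m - 1) ≤ H.index :=
  omega_index_ge_of_eq hF m hm _ (coe_plusQ m) H hH

theorem pomega_index_ge (hF : Fintype.card F = 2) (m : ℕ) (hm : 4 ≤ m)
    (H : Subgroup (Cfsg.POmega F (Cfsg.quadFormPlus m F))) (hH : H ≠ ⊤) :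
    2 ^ (m - 1) * (2 ^ m - 1) ≤ H.index := by
  have hs : Function.Surjective
      (QuotientGroup.mk' (Subgroup.center ↥(Cfsg.Omega F (Cfsg.quadFormPlus m F)))) :=
    QuotientGroup.mk'_surjective _
  rw [← Subgroup.index_comap_of_surjective H hs]
  apply omega_index_ge hF m hm
  intro h
  apply hH
  apply Subgroup.comap_injective hs
  rw [h, Subgroup.comap_top]

end Cfsg.Agent.Lib.Helper11.Om2Inst
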