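import Mathlib

/-! Helper11 library (S2144): the abstract setting for `Ω_{2m+1}(3)`.

A group `G` acting faithfully on a vector space `V` over a field `F` with three elements, by isometries
of a quadratic form `Q` with nondegenerate polar form `B`, containing the Siegel elements
`sg x w : z ↦ z + B z w • x - B z x • w - (Q w * B z x) • x` (`x` singular, `w ⊥ x`), generated by the
long root elements `sg x y` (`x, y` singular, `x ⊥ y`), and containing the involutions
`rr c c' = r_c r_c'` (`c ⊥ c'`, `Q c = Q c' ≠ 0`).  Definitions only; the calculus is in `Om3Calc`. -/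

set_option autoImplicit false

namespace Cfsg.Agent.Lib.Helper11.Om3

/-- Orthogonal setting over the field with three elements. -/
structure Setting (F V G : Type*) [Field F] [AddCommGroup V] [Module F V] [Group G]
    [DistribMulAction G V] where
  /-- the polar form -/
  B : LinearMap.BilinForm F V
  /-- the quadratic form -/
  Q : V → F
  /-- the Siegel element `ρ_{x,w}` (meaningful for `Q x = 0`, `B x w = 0`) -/
  sg : V → V → G
  /-- the product of the two commuting reflections `r_c r_c'` (meaningful for `B c c' = 0`,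
  `Q c = Q c' ≠ 0`) -/
  rr : V → V → G
  h3 : ∀ a : F, a = 0 ∨ a = 1 ∨ a = -1
  three : (3 : F) = 0
  Q_add : ∀ x y, Q (x + y) = Q x + Q y + B x y
  Q_neg : ∀ x, Q (-x) = Q x
  nondeg : ∀ x, (∀ y, B x y = 0) → x = 0
  isoQ : ∀ (g : G) (x : V), Q (g • x) = Q x
  sg_smul : ∀ x w, Q x = 0 → B x w = 0 → ∀ z,
    sg x w • z = z + B z w • x - B z x • w - (Q w * B z x) • x
  rr_smul : ∀ c c', Q c ≠ 0 → Q c' = Q c → B c c' = 0 → ∀ z,
    rr c c' • z = z - (Q c * B z c) • c - (Q c * B z c') • c'
  gen : ∀ H : Subgroup G, (∀ x y, Q x = 0 → Q y = 0 → B x y = 0 → sg x y ∈ H) → H = ⊤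
  faithful : ∀ g : G, (∀ z : V, g • z = z) → g = 1

variable {F V G : Type*} [Field F] [AddCommGroup V] [Module F V] [Group G] [DistribMulAction G V]

/-- the set underlying `Q_x = {sg x w | w ⊥ x}` (a subgroup for singular `x`: `Setting.Qs`) -/
def Setting.QsSet (S : Setting F V G) (x : V) : Set G :=
  {g | ∃ w, S.B x w = 0 ∧ g = S.sg x w}

/-- `D̃_x(H)`: the vectors `w ⊥ x` with `sg x w ∈ H` (a submodule containing `x` for singular `x`:
`Setting.Dt`). -/
def Setting.DtSet (S : Setting F V G) (H : Subgroup G) (x : V) : Set V :=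
  {w | S.B x w = 0 ∧ S.sg x w ∈ H}

/-- `x` is a *perfect point of type A* for `H`: `x` is a nonzero singular vector, `H ∩ Q_x = 1` and
`(H ∩ G_x) Q_x = G_x` (`G_x` the stabilizer of the vector `x`). -/
def Setting.IsA (S : Setting F V G) (H : Subgroup G) (x : V) : Prop :=
  x ≠ 0 ∧ S.Q x = 0 ∧ (∀ w, S.B x w = 0 → S.sg x w ∈ H → ∃ a : F, w = a • x) ∧
    (∀ g : G, g • x = x → ∃ w, S.B x w = 0 ∧ g * S.sg x w ∈ H)

end Cfsg.Agent.Lib.Helper11.Om3
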