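import Mathlib
import Cfsg.Agent.Lib.Helper11.Om3Defs

/-! Helper11 library (S2144): calculus in the abstract `Ω_{2m+1}(3)` setting. -/

set_option autoImplicit false
set_option linter.unusedSimpArgs false

namespace Cfsg.Agent.Lib.Helper11.Om3

variable {F V G : Type*} [Field F] [AddCommGroup V] [Module F V] [Group G] [DistribMulAction G V]

namespace Setting

variable (S : Setting F V G)
include S

/-! ### scalars and vectors in characteristic 3 -/

theorem two_eq : (2 : F) = -1 := by linear_combination S.three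

theorem one_ne_neg_one : (1 : F) ≠ -1 := by
  intro h
  have h2 : (2 : F) = 0 := by linear_combination h
  have h1 : (1 : F) = 0 := by linear_combination S.three - h2
  exact one_ne_zero h1

theorem fthree (a : F) : a + a + a = 0 := by linear_combination a * S.three

theorem fsq_of_ne {a : F} (h : a ≠ 0) : a * a = 1 := by
  rcases S.h3 a with h0 | h0 | h0
  · exact absurd h0 h
  · rw [h0, mul_one]
  · rw [h0]; ring

theorem fcube (a : F) : a * a * a = a := by
  rcases S.h3 a with h0 | h0 | h0 <;> rw [h0] <;> ring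

theorem finv_of_ne {a : F} (h : a ≠ 0) : a⁻¹ = a := by
  have := S.fsq_of_ne h
  field_simp
  linear_combination -this

theorem three_smul_v (x : V) : (3 : F) • x = 0 := by rw [S.three, zero_smul]

theorem vthree (x : V) : x + x + x = 0 := by
  have := S.three_smul_v x
  have h2 : (3 : F) • x = x + x + x := by module
  rw [← h2]; exact this

theorem two_smul_v (x : V) : (2 : F) • x = -x := by rw [S.two_eq]; module

theorem Badd_left (x y z : V) : S.B (x + y) z = S.B x z + S.B y z := by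
  rw [map_add, LinearMap.add_apply]

theorem Badd_right (x y z : V) : S.B x (y + z) = S.B x y + S.B x z := map_add _ _ _

theorem Bsub_left (x y z : V) : S.B (x - y) z = S.B x z - S.B y z := by
  rw [map_sub, LinearMap.sub_apply]

theorem Bsub_right (x y z : V) : S.B x (y - z) = S.B x y - S.B x z := map_sub _ _ _

theorem Bneg_left (x y : V) : S.B (-x) y = -S.B x y := by
  rw [map_neg, LinearMap.neg_apply]

theorem Bneg_right (x y : V) : S.B x (-y) = -S.B x y := map_neg _ _

theorem Bsmul_left (a : F) (x y : V) : S.B (a • x) y = a * S.B x y := by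
  rw [map_smul, LinearMap.smul_apply, smul_eq_mul]

theorem Bsmul_right (a : F) (x y : V) : S.B x (a • y) = a * S.B x y := by
  rw [map_smul, smul_eq_mul]

theorem Bzero_left (x : V) : S.B 0 x = 0 := by simp

theorem Bzero_right (x : V) : S.B x 0 = 0 := by simp

/-! ### the quadratic form -/

theorem Q_zero : S.Q 0 = 0 := by
  have h := S.Q_add 0 0
  rw [add_zero, S.Bzero_left, add_zero] at h
  linear_combination -h

theorem B_symm (x y : V) : S.B x y = S.B y x := by
  have h1 := S.Q_add x y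
  have h2 := S.Q_add y x
  rw [add_comm y x] at h2
  linear_combination h2 - h1

/-- `B x x = 2 Q x = - Q x` -/
theorem B_self (x : V) : S.B x x = -S.Q x := by
  have h := S.Q_add x x
  have h2 : x + x = -x := by
    have := S.vthree x
    exact eq_neg_of_add_eq_zero_left this
  rw [h2, S.Q_neg] at h
  linear_combination -h

theorem Q_smul (a : F) (x : V) : S.Q (a • x) = a * a * S.Q x := by
  rcases S.h3 a with rfl | rfl | rfl
  · rw [zero_smul, S.Q_zero]; ring
  · rw [one_smul]; ring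
  · rw [neg_one_smul, S.Q_neg]; ring

theorem Q_sub (x y : V) : S.Q (x - y) = S.Q x + S.Q y - S.B x y := by
  rw [sub_eq_add_neg, S.Q_add, S.Q_neg, S.Bneg_right]; ring

theorem Q_add_of_perp {x y : V} (h : S.B x y = 0) : S.Q (x + y) = S.Q x + S.Q y := by
  rw [S.Q_add, h, add_zero]

/-- adding a multiple of a singular vector `x ⊥ w` does not change `Q w` -/
theorem Q_add_smul_self {x w : V} (hx : S.Q x = 0) (h : S.B x w = 0) (a : F) :
    S.Q (w + a • x) = S.Q w := by
  rw [S.Q_add, S.Q_smul, hx, S.Bsmul_right, S.B_symm w x, h]; ring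

theorem B_self_of_sing {x : V} (hx : S.Q x = 0) : S.B x x = 0 := by rw [S.B_self, hx, neg_zero]

/-! ### group elements -/

theorem ext_smul {g h : G} (H : ∀ z : V, g • z = h • z) : g = h := by
  have : h⁻¹ * g = 1 := S.faithful _ (fun z => by rw [mul_smul, H z, inv_smul_smul])
  exact (inv_mul_eq_one.mp this).symm

theorem iso (g : G) (x y : V) : S.B (g • x) (g • y) = S.B x y := by
  have h1 := S.Q_add (g • x) (g • y)
  rw [← smul_add, S.isoQ, S.isoQ, S.isoQ, S.Q_add] at h1
  exact (add_left_cancel h1).symm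

theorem B_smul_left (g : G) (x y : V) : S.B (g • x) y = S.B x (g⁻¹ • y) := by
  conv_lhs => rw [← smul_inv_smul g y]
  rw [S.iso]

theorem smul_fsmul (p : G) (a : F) (x : V) : p • (a • x) = a • (p • x) := by
  rcases S.h3 a with rfl | rfl | rfl <;> simp

theorem exists_B_ne_zero {v : V} (hv : v ≠ 0) : ∃ z, S.B v z ≠ 0 := by
  by_contra hn
  push Not at hn
  exact hv (S.nondeg v hn)

theorem exists_B_eq_one {v : V} (hv : v ≠ 0) : ∃ z, S.B z v = 1 := by
  obtain ⟨z, hz⟩ := S.exists_B_ne_zero hv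
  refine ⟨S.B v z • z, ?_⟩
  rw [S.Bsmul_left, S.B_symm z v]
  exact S.fsq_of_ne hz

/-- double perp of a point: `(v^⊥)^⊥ = <v>` -/
theorem mem_span_of_perp {v u : V} (h : ∀ z, S.B v z = 0 → S.B z u = 0) : ∃ a : F, u = a • v := by
  by_cases hv : v = 0
  · subst hv
    refine ⟨0, ?_⟩
    rw [zero_smul]
    apply S.nondeg
    intro y
    rw [S.B_symm]
    exact h y (S.Bzero_left y)
  obtain ⟨y, hy⟩ := S.exists_B_eq_one hv
  -- `u - B y u • v` is perpendicular to everything
  refine ⟨S.B y u, ?_⟩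
  have : u - S.B y u • v = 0 := by
    apply S.nondeg
    intro z
    -- decompose `z = (z - B v z • y) + B v z • y`
    have hz : S.B v (z - S.B v z • y) = 0 := by
      rw [S.Bsub_right, S.Bsmul_right, S.B_symm v y, hy]; ring
    have h1 := h _ hz
    rw [S.Bsub_left, S.Bsmul_left] at h1
    rw [S.Bsub_left, S.Bsmul_left, S.B_symm u z]
    linear_combination h1
  exact sub_eq_zero.mp this

/-! ### Siegel elements -/

theorem sg_smul' {x w : V} (hx : S.Q x = 0) (h : S.B x w = 0) (z : V) :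
    S.sg x w • z = z + S.B z w • x - S.B z x • w - (S.Q w * S.B z x) • x :=
  S.sg_smul x w hx h z

theorem sg_smul_self {x w : V} (hx : S.Q x = 0) (h : S.B x w = 0) : S.sg x w • x = x := by
  rw [S.sg_smul' hx h, S.B_self_of_sing hx, h]; simp

theorem sg_smul_of_perp {x w : V} (hx : S.Q x = 0) (h : S.B x w = 0) {z : V} (hz : S.B x z = 0) :
    S.sg x w • z = z + S.B z w • x := by
  rw [S.sg_smul' hx h, S.B_symm z x, hz]; simp

/-- `sg x w` fixes every vector perpendicular to `x` and `w` -/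
theorem sg_smul_of_perp_perp {x w : V} (hx : S.Q x = 0) (h : S.B x w = 0) {z : V}
    (hz : S.B x z = 0) (hzw : S.B w z = 0) : S.sg x w • z = z := by
  rw [S.sg_smul_of_perp hx h hz, S.B_symm z w, hzw]; simp

/-- composition law in `Q_x` -/
theorem sg_mul {x w w' : V} (hx : S.Q x = 0) (h : S.B x w = 0) (h' : S.B x w' = 0) :
    S.sg x w * S.sg x w' = S.sg x (w + w') := by
  have hwx : S.B w x = 0 := by rw [S.B_symm]; exact h
  have hwx' : S.B w' x = 0 := by rw [S.B_symm]; exact h'
  have hs : S.B x (w + w') = 0 := by rw [S.Badd_right, h, h', add_zero]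
  have hxx := S.B_self_of_sing hx
  apply S.ext_smul
  intro z
  rw [mul_smul, S.sg_smul' hx h', S.sg_smul' hx h, S.sg_smul' hx hs]
  simp only [S.Badd_left, S.Badd_right, S.Bsub_left, S.Bsub_right, S.Bsmul_left, S.Bsmul_right,
    h, h', hwx, hwx', hxx, mul_zero, add_zero, zero_add, zero_mul, sub_zero, S.Q_add,
    S.B_symm w' w]
  module

theorem sg_zero_right {x : V} (hx : S.Q x = 0) : S.sg x 0 = 1 := by
  apply S.faithful
  intro z
  rw [S.sg_smul' hx (S.Bzero_right x)]
  simp [S.Q_zero]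

theorem sg_smul_right_self {x : V} (hx : S.Q x = 0) (a : F) : S.sg x (a • x) = 1 := by
  have hxx := S.B_self_of_sing hx
  apply S.faithful
  intro z
  rw [S.sg_smul' hx (by rw [S.Bsmul_right, hxx, mul_zero])]
  simp only [S.Bsmul_right, S.Q_smul, hx, mul_zero, zero_mul, zero_smul, sub_zero]
  module

theorem sg_add_smul_self {x w : V} (hx : S.Q x = 0) (h : S.B x w = 0) (a : F) :
    S.sg x (w + a • x) = S.sg x w := by
  have hxx := S.B_self_of_sing hx
  rw [← S.sg_mul hx h (by rw [S.Bsmul_right, hxx, mul_zero]), S.sg_smul_right_self hx, mul_one]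

theorem sg_inv {x w : V} (hx : S.Q x = 0) (h : S.B x w = 0) : (S.sg x w)⁻¹ = S.sg x (-w) := by
  apply inv_eq_of_mul_eq_one_right
  rw [S.sg_mul hx h (by rw [S.Bneg_right, h, neg_zero]), add_neg_cancel, S.sg_zero_right hx]

theorem sg_comm {x w w' : V} (hx : S.Q x = 0) (h : S.B x w = 0) (h' : S.B x w' = 0) :
    S.sg x w * S.sg x w' = S.sg x w' * S.sg x w := by
  rw [S.sg_mul hx h h', S.sg_mul hx h' h, add_comm]

theorem sg_cube {x w : V} (hx : S.Q x = 0) (h : S.B x w = 0) :
    S.sg x w * S.sg x w * S.sg x w = 1 := by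
  have h2 : S.B x (w + w) = 0 := by rw [S.Badd_right, h, add_zero]
  rw [S.sg_mul hx h h, S.sg_mul hx h2 h, S.vthree, S.sg_zero_right hx]

/-- long root elements: swapping the two arguments inverts -/
theorem sg_swap {x y : V} (hx : S.Q x = 0) (hy : S.Q y = 0) (h : S.B x y = 0) :
    S.sg y x = S.sg x (-y) := by
  have hyx : S.B y x = 0 := by rw [S.B_symm]; exact h
  apply S.ext_smul
  intro z
  rw [S.sg_smul' hy hyx, S.sg_smul' hx (by rw [S.Bneg_right, h, neg_zero]), hx, S.Q_neg, hy]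
  simp only [zero_mul, zero_smul, sub_zero, S.Bneg_right]
  module

/-- rescaling the centre -/
theorem sg_smul_left {x w : V} (hx : S.Q x = 0) (h : S.B x w = 0) {a : F} (ha : a ≠ 0) :
    S.sg (a • x) w = S.sg x (a • w) := by
  have hax : S.Q (a • x) = 0 := by rw [S.Q_smul, hx, mul_zero]
  have haw : S.B (a • x) w = 0 := by rw [S.Bsmul_left, h, mul_zero]
  have hxa : S.B x (a • w) = 0 := by rw [S.Bsmul_right, h, mul_zero]
  apply S.ext_smul
  intro z
  rw [S.sg_smul' hax haw, S.sg_smul' hx hxa]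
  simp only [S.Bsmul_right, S.Q_smul]
  module

theorem conj_sg (p : G) {x w : V} (hx : S.Q x = 0) (h : S.B x w = 0) :
    p * S.sg x w * p⁻¹ = S.sg (p • x) (p • w) := by
  have hs : S.B (p • x) (p • w) = 0 := by rw [S.iso, h]
  have hpx : S.Q (p • x) = 0 := by rw [S.isoQ, hx]
  apply S.ext_smul
  intro z
  rw [mul_smul, mul_smul, S.sg_smul' hx h, S.sg_smul' hpx hs]
  simp only [smul_add, smul_sub, smul_inv_smul, S.smul_fsmul, S.isoQ]
  have h1 : S.B (p⁻¹ • z) x = S.B z (p • x) := by rw [S.B_smul_left, inv_inv]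
  have h2 : S.B (p⁻¹ • z) w = S.B z (p • w) := by rw [S.B_smul_left, inv_inv]
  rw [h1, h2]

/-- when a Siegel element is trivial -/
theorem sg_eq_one_iff {x w : V} (hx0 : x ≠ 0) (hx : S.Q x = 0) (h : S.B x w = 0) :
    S.sg x w = 1 ↔ ∃ a : F, w = a • x := by
  constructor
  · intro he
    apply S.mem_span_of_perp
    intro z hz
    have h1 := S.sg_smul_of_perp hx h hz
    rw [he, one_smul] at h1
    by_contra hne
    have h2 : S.B z w • x = 0 := by
      have := h1.symm
      rwa [add_eq_left] at this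
    rcases smul_eq_zero.mp h2 with h3 | h3
    · exact hne h3
    · exact hx0 h3
  · rintro ⟨a, rfl⟩
    exact S.sg_smul_right_self hx a

theorem sg_eq_sg_iff {x w w' : V} (hx0 : x ≠ 0) (hx : S.Q x = 0) (h : S.B x w = 0)
    (h' : S.B x w' = 0) : S.sg x w = S.sg x w' ↔ ∃ a : F, w' = w + a • x := by
  have hn : S.B x (-w) = 0 := by rw [S.Bneg_right, h, neg_zero]
  have hs : S.B x (-w + w') = 0 := by rw [S.Badd_right, hn, h', add_zero]
  have key : S.sg x w = S.sg x w' ↔ S.sg x (-w + w') = 1 := by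
    rw [← S.sg_mul hx hn h', ← S.sg_inv hx h, inv_mul_eq_one]
  rw [key, S.sg_eq_one_iff hx0 hx hs]
  constructor
  · rintro ⟨a, ha⟩
    exact ⟨a, by rw [← ha]; abel⟩
  · rintro ⟨a, ha⟩
    exact ⟨a, by rw [ha]; abel⟩

/-- transitivity tool: if `Q a = Q a'` and the singular vector `u` has `B u a = B u a' = b ≠ 0`, then
`sg u (b • (a - a'))` maps `a` to `a'` (and fixes everything perpendicular to `u` and `a - a'`). -/
theorem sg_trans {u a a' : V} {b : F} (hu : S.Q u = 0) (hQ : S.Q a = S.Q a') (hb : b ≠ 0)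
    (h1 : S.B u a = b) (h2 : S.B u a' = b) : S.sg u (b • (a - a')) • a = a' := by
  have hs : S.B u (b • (a - a')) = 0 := by rw [S.Bsmul_right, S.Bsub_right, h1, h2]; ring
  have hbb := S.fsq_of_ne hb
  rw [S.sg_smul' hu hs, S.B_symm a u, h1, S.Q_smul, S.Q_sub, S.Bsmul_right, S.Bsub_right, S.B_self,
    ← hQ]
  have e1 : (b * b * (S.Q a + S.Q a - S.B a a') * b) = b * (S.Q a + S.Q a - S.B a a') := by
    rw [hbb]; ring
  have e2 : b * (-S.Q a - S.B a a') = b * (S.Q a + S.Q a - S.B a a') := by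
    linear_combination (-b * S.Q a) * S.three
  rw [e1, e2, smul_smul, hbb]
  module

/-- commutator of Siegel elements at two perpendicular singular vectors `x, y`, with parameters
perpendicular to both: `sg x a * sg y w = sg y w * sg x a * sg x (-(B a w) • y)`. -/
theorem sg_mul_sg {x y a w : V} (hx : S.Q x = 0) (hy : S.Q y = 0) (hxy : S.B x y = 0)
    (hxa : S.B x a = 0) (hya : S.B y a = 0) (hxw : S.B x w = 0) (hyw : S.B y w = 0) :
    S.sg x a * S.sg y w = S.sg y w * S.sg x a * S.sg x (-(S.B a w) • y) := by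
  have hyx : S.B y x = 0 := by rw [S.B_symm]; exact hxy
  have hax : S.B a x = 0 := by rw [S.B_symm]; exact hxa
  have hay : S.B a y = 0 := by rw [S.B_symm]; exact hya
  have hwx : S.B w x = 0 := by rw [S.B_symm]; exact hxw
  have hwy : S.B w y = 0 := by rw [S.B_symm]; exact hyw
  have hxx := S.B_self_of_sing hx
  have hyy := S.B_self_of_sing hy
  have hxs : S.B x (-(S.B a w) • y) = 0 := by rw [S.Bsmul_right, hxy, mul_zero]
  apply S.ext_smul
  intro z
  rw [mul_smul, mul_smul, mul_smul, S.sg_smul' hx hxs z, S.sg_smul' hy hyw z, S.sg_smul' hx hxa,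
    S.sg_smul' hx hxa, S.sg_smul' hy hyw]
  simp only [S.Badd_left, S.Badd_right, S.Bsub_left, S.Bsub_right, S.Bsmul_left, S.Bsmul_right,
    hxy, hyx, hxa, hya, hxw, hyw, hax, hay, hwx, hwy, hxx, hyy, S.Q_smul, hy, mul_zero, add_zero,
    zero_add, zero_mul, sub_zero, zero_smul, S.B_symm w a]
  module

/-- Siegel elements at another point `u + e • x` of a totally singular line, parameter perpendicular
to the line (characteristic 3). -/
theorem sg_add_left {x u w : V} (hx : S.Q x = 0) (hu : S.Q u = 0) (hxu : S.B x u = 0)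
    (hxw : S.B x w = 0) (huw : S.B u w = 0) (e : F) :
    S.sg (u + e • x) w = S.sg u w * S.sg x (e • w) * S.sg x (-(e * S.Q w) • u) := by
  have hux : S.B u x = 0 := by rw [S.B_symm]; exact hxu
  have hwx : S.B w x = 0 := by rw [S.B_symm]; exact hxw
  have hwu : S.B w u = 0 := by rw [S.B_symm]; exact huw
  have hxx := S.B_self_of_sing hx
  have huu := S.B_self_of_sing hu
  have hs : S.Q (u + e • x) = 0 := by
    rw [S.Q_add, S.Q_smul, hx, hu, S.Bsmul_right, hux]; ring
  have hsw : S.B (u + e • x) w = 0 := by rw [S.Badd_left, S.Bsmul_left, hxw, huw]; ring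
  have h1 : S.B x (e • w) = 0 := by rw [S.Bsmul_right, hxw, mul_zero]
  have h2 : S.B x (-(e * S.Q w) • u) = 0 := by rw [S.Bsmul_right, hxu, mul_zero]
  apply S.ext_smul
  intro z
  rw [mul_smul, mul_smul, S.sg_smul' hs hsw, S.sg_smul' hx h2 z, S.sg_smul' hx h1,
    S.sg_smul' hu huw]
  simp only [S.Badd_left, S.Badd_right, S.Bsub_left, S.Bsub_right, S.Bsmul_left, S.Bsmul_right,
    hxu, hux, hxw, huw, hwx, hwu, hxx, huu, S.Q_smul, hu, S.B_self w, mul_zero, add_zero,
    zero_add, zero_mul, sub_zero, zero_smul]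
  have h3u := S.three_smul_v u
  linear_combination (norm := module) -(e * S.Q w * S.B z x) • h3u

/-! ### the involutions `rr c c'` -/

theorem rr_smul' {c c' : V} (hc : S.Q c ≠ 0) (hQ : S.Q c' = S.Q c) (h : S.B c c' = 0) (z : V) :
    S.rr c c' • z = z - (S.Q c * S.B z c) • c - (S.Q c * S.B z c') • c' :=
  S.rr_smul c c' hc hQ h z

/-- `rr c c'` fixes every vector perpendicular to `c` and `c'` -/
theorem rr_smul_of_perp {c c' : V} (hc : S.Q c ≠ 0) (hQ : S.Q c' = S.Q c) (h : S.B c c' = 0) {z : V}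
    (hz : S.B z c = 0) (hz' : S.B z c' = 0) : S.rr c c' • z = z := by
  rw [S.rr_smul' hc hQ h, hz, hz']; simp

theorem rr_smul_left {c c' : V} (hc : S.Q c ≠ 0) (hQ : S.Q c' = S.Q c) (h : S.B c c' = 0) :
    S.rr c c' • c = -c := by
  rw [S.rr_smul' hc hQ h, h, S.B_self]
  have h1 := S.fsq_of_ne hc
  have h2 : S.Q c * -S.Q c = -1 := by linear_combination -h1
  rw [h2, mul_zero, zero_smul, sub_zero]
  have h3 := S.three_smul_v c
  linear_combination (norm := module) h3

theorem rr_smul_right {c c' : V} (hc : S.Q c ≠ 0) (hQ : S.Q c' = S.Q c) (h : S.B c c' = 0) :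
    S.rr c c' • c' = -c' := by
  have hcc : S.B c' c = 0 := by rw [S.B_symm]; exact h
  rw [S.rr_smul' hc hQ h, hcc, S.B_self, hQ]
  have h1 := S.fsq_of_ne hc
  have h2 : S.Q c * -S.Q c = -1 := by linear_combination -h1
  rw [h2, mul_zero, zero_smul, sub_zero]
  have h3 := S.three_smul_v c'
  linear_combination (norm := module) h3

/-! ### the subgroup `Q_x` -/

/-- `Q_x` as a subgroup (for singular `x`) -/
def Qs {x : V} (hx : S.Q x = 0) : Subgroup G where
  carrier := S.QsSet x
  mul_mem' := by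
    rintro _ _ ⟨w, h, rfl⟩ ⟨w', h', rfl⟩
    exact ⟨w + w', by rw [S.Badd_right, h, h', add_zero], S.sg_mul hx h h'⟩
  one_mem' := ⟨0, S.Bzero_right x, (S.sg_zero_right hx).symm⟩
  inv_mem' := by
    rintro _ ⟨w, h, rfl⟩
    exact ⟨-w, by rw [S.Bneg_right, h, neg_zero], S.sg_inv hx h⟩

theorem mem_Qs {x : V} (hx : S.Q x = 0) {g : G} :
    g ∈ S.Qs hx ↔ ∃ w, S.B x w = 0 ∧ g = S.sg x w := Iff.rfl

theorem sg_mem_Qs {x w : V} (hx : S.Q x = 0) (h : S.B x w = 0) : S.sg x w ∈ S.Qs hx := ⟨w, h, rfl⟩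

theorem Qs_le_stabilizer {x : V} (hx : S.Q x = 0) : S.Qs hx ≤ MulAction.stabilizer G x := by
  rintro _ ⟨w, h, rfl⟩
  exact S.sg_smul_self hx h

theorem stabilizer_le_normalizer_Qs {x : V} (hx : S.Q x = 0) :
    MulAction.stabilizer G x ≤ Subgroup.normalizer (S.Qs hx : Set G) := by
  intro p hp
  have hpx : p • x = x := hp
  have hpx' : p⁻¹ • x = x := by rw [inv_smul_eq_iff, hpx]
  rw [Subgroup.mem_normalizer_iff]
  intro g
  constructor
  · rintro ⟨w, h, rfl⟩
    have := S.conj_sg p hx h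
    rw [hpx] at this
    rw [this]
    exact S.sg_mem_Qs hx (by rw [← hpx, S.iso, h])
  · intro hg
    obtain ⟨w, h, he⟩ := hg
    have : g = p⁻¹ * S.sg x w * p⁻¹⁻¹ := by rw [← he]; group
    rw [this, S.conj_sg p⁻¹ hx h, hpx']
    exact S.sg_mem_Qs hx (by rw [← hpx', S.iso, h])

theorem Qs_comm {x : V} (hx : S.Q x = 0) {g h : G} (hg : g ∈ S.Qs hx) (hh : h ∈ S.Qs hx) :
    g * h = h * g := by
  obtain ⟨w, hw, rfl⟩ := hg
  obtain ⟨w', hw', rfl⟩ := hh
  exact S.sg_comm hx hw hw'

/-! ### the submodule `D̃_x(H)` -/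

/-- `D̃_x(H)` as a submodule (for singular `x`) -/
def Dt (H : Subgroup G) {x : V} (hx : S.Q x = 0) : Submodule F V where
  carrier := S.DtSet H x
  add_mem' := by
    rintro w w' ⟨h, hc⟩ ⟨h', hc'⟩
    refine ⟨by rw [S.Badd_right, h, h', add_zero], ?_⟩
    rw [← S.sg_mul hx h h']
    exact H.mul_mem hc hc'
  zero_mem' := ⟨S.Bzero_right x, by rw [S.sg_zero_right hx]; exact H.one_mem⟩
  smul_mem' := by
    intro a w hw
    rcases S.h3 a with rfl | rfl | rfl
    · rw [zero_smul]
      exact ⟨S.Bzero_right x, by rw [S.sg_zero_right hx]; exact H.one_mem⟩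
    · rw [one_smul]; exact hw
    · rw [neg_one_smul]
      refine ⟨by rw [S.Bneg_right, hw.1, neg_zero], ?_⟩
      rw [← S.sg_inv hx hw.1]
      exact H.inv_mem hw.2

theorem mem_Dt {H : Subgroup G} {x w : V} (hx : S.Q x = 0) :
    w ∈ S.Dt H hx ↔ S.B x w = 0 ∧ S.sg x w ∈ H := Iff.rfl

theorem self_mem_Dt (H : Subgroup G) {x : V} (hx : S.Q x = 0) : x ∈ S.Dt H hx := by
  refine ⟨S.B_self_of_sing hx, ?_⟩
  have := S.sg_smul_right_self hx 1
  rw [one_smul] at this
  rw [this]; exact H.one_mem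

theorem smul_mem_Dt {H : Subgroup G} {x w : V} (hx : S.Q x = 0) {p : G} (hp : p ∈ H)
    (hpx : p • x = x) (hw : w ∈ S.Dt H hx) : p • w ∈ S.Dt H hx := by
  obtain ⟨h, hc⟩ := hw
  refine ⟨by rw [← hpx, S.iso, h], ?_⟩
  have := S.conj_sg p hx h
  rw [hpx] at this
  rw [← this]
  exact H.mul_mem (H.mul_mem hp hc) (H.inv_mem hp)

/-- `Q_x` fixes `x^⊥` modulo `x`, hence stabilises every subspace `x ∈ U ⊆ x^⊥` -/
theorem sg_smul_mem {x w : V} (hx : S.Q x = 0) (h : S.B x w = 0) {U : Submodule F V}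
    (hxU : x ∈ U) (hU : ∀ u ∈ U, S.B x u = 0) {u : V} (hu : u ∈ U) : S.sg x w • u ∈ U := by
  rw [S.sg_smul_of_perp hx h (hU u hu)]
  exact U.add_mem hu (U.smul_mem _ hxU)

theorem Dt_le_perp {H : Subgroup G} {x : V} (hx : S.Q x = 0) : ∀ u ∈ S.Dt H hx, S.B x u = 0 :=
  fun _ hu => hu.1

end Setting

end Cfsg.Agent.Lib.Helper11.Om3
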