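import Mathlib
import Cfsg.Agent.Lib.Helper11.Om3Calc
import Cfsg.Agent.Lib.Helper1.Sp2G

/-! Helper11 library (S2144): counting with perps, the stabiliser bound and invariance of type A,
in the abstract `Ω_{2m+1}(3)` setting (ports of `Om2Tools`). -/

set_option autoImplicit false

namespace Cfsg.Agent.Lib.Helper11.Om3

open MulAction Pointwise Cfsg.Agent.Lib.Helper1.Sp2Leaf

variable {F V G : Type*} [Field F] [AddCommGroup V] [Module F V] [Group G] [DistribMulAction G V]

namespace Setting

variable (S : Setting F V G)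

include S in
theorem finite_F : Finite F := by
  have h : (Set.univ : Set F) ⊆ {0, 1, -1} := by
    intro a _
    rcases S.h3 a with h | h | h <;> simp [h]
  exact Set.finite_univ_iff.mp ((Set.toFinite ({0, 1, -1} : Set F)).subset h)

include S in
theorem natCard_F : Nat.card F = 3 := by
  classical
  have : Finite F := S.finite_F
  have : Fintype F := Fintype.ofFinite F
  rw [Nat.card_eq_fintype_card]
  have huniv : (Finset.univ : Finset F) = {0, 1, -1} := by
    ext a
    rcases S.h3 a with h | h | h <;> simp [h]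
  have h01 : (0 : F) ≠ 1 := zero_ne_one
  have h0m : (0 : F) ≠ -1 := by
    intro h
    have : (1 : F) = 0 := by linear_combination h
    exact one_ne_zero this
  have h1m : (1 : F) ≠ -1 := S.one_ne_neg_one
  rw [← Finset.card_univ, huniv, Finset.card_insert_of_notMem, Finset.card_insert_of_notMem,
    Finset.card_singleton]
  · simpa using h1m
  · simp only [Finset.mem_insert, Finset.mem_singleton, not_or]
    exact ⟨h01, h0m⟩

theorem nondegenerate_B : S.B.Nondegenerate := by
  refine ⟨?_, ?_⟩
  · intro x hx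
    exact S.nondeg x hx
  · intro y hy
    apply S.nondeg y
    intro x
    rw [S.B_symm]
    exact hy x

theorem isRefl_B : S.B.IsRefl := by
  intro x y h
  rw [S.B_symm]
  exact h

theorem mem_orthogonal {U : Submodule F V} {z : V} :
    z ∈ S.B.orthogonal U ↔ ∀ u ∈ U, S.B u z = 0 :=
  LinearMap.BilinForm.mem_orthogonal_iff

/-- P1 -/
theorem card_mul_card_orthogonal [Finite V] (U : Submodule F V) :
    Nat.card U * Nat.card (S.B.orthogonal U) = Nat.card V := by
  have : Finite F := S.finite_F
  have : Module.Finite F V := Module.Finite.of_finite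
  have h1 := LinearMap.BilinForm.finrank_orthogonal S.nondegenerate_B U
  have h2 : Module.finrank F U ≤ Module.finrank F V := Submodule.finrank_le U
  rw [Module.natCard_eq_pow_finrank (K := F) (V := U),
    Module.natCard_eq_pow_finrank (K := F) (V := S.B.orthogonal U),
    Module.natCard_eq_pow_finrank (K := F) (V := V), h1, ← pow_add]
  congr 1
  omega

/-- P2 -/
theorem orthogonal_orthogonal_eq [Finite V] (U : Submodule F V) :
    S.B.orthogonal (S.B.orthogonal U) = U := by
  have : Finite F := S.finite_F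
  have : Module.Finite F V := Module.Finite.of_finite
  exact LinearMap.BilinForm.orthogonal_orthogonal S.nondegenerate_B S.isRefl_B U

include S in
/-- the cardinality of a subspace is a power of three -/
theorem card_submodule_eq_three_pow [Finite V] (U : Submodule F V) :
    Nat.card U = 3 ^ Module.finrank F U := by
  have : Finite F := S.finite_F
  rw [Module.natCard_eq_pow_finrank (K := F) (V := U), S.natCard_F]

/-- P3 -/
theorem card_perp_inf [Finite V] (U : Submodule F V) (a : V) :
    Nat.card U ≤ 3 * Nat.card {u : V // u ∈ U ∧ S.B a u = 0} := by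
  classical
  have : Finite F := S.finite_F
  by_cases hall : ∀ u ∈ U, S.B a u = 0
  · have : Nat.card U ≤ Nat.card {u : V // u ∈ U ∧ S.B a u = 0} := by
      apply Nat.card_le_card_of_injective (fun u : U => (⟨u.1, u.2, hall u.1 u.2⟩ :
        {u : V // u ∈ U ∧ S.B a u = 0}))
      intro x y hxy
      have := congrArg Subtype.val hxy
      exact Subtype.ext this
    omega
  · push Not at hall
    obtain ⟨u1, hu1U, hu1⟩ := hall
    -- normalise to `B a u0 = 1`
    have hsq := S.fsq_of_ne hu1
    set u0 : V := S.B a u1 • u1 with hu0def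
    have hu0U : u0 ∈ U := U.smul_mem _ hu1U
    have hu01 : S.B a u0 = 1 := by rw [hu0def, S.Bsmul_right, hsq]
    have hinj : Function.Injective (fun u : U =>
        ((⟨u.1 - S.B a u.1 • u0, U.sub_mem u.2 (U.smul_mem _ hu0U), by
          rw [S.Bsub_right, S.Bsmul_right, hu01, mul_one, sub_self]⟩ :
          {u : V // u ∈ U ∧ S.B a u = 0}), S.B a u.1)) := by
      intro x y hxy
      have h1 := congrArg (fun p => (p.1 : V)) hxy
      have h2 := congrArg Prod.snd hxy
      simp only at h1 h2
      apply Subtype.ext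
      rw [h2] at h1
      exact sub_left_injective h1
    have := Nat.card_le_card_of_injective _ hinj
    rw [Nat.card_prod, S.natCard_F] at this
    omega

/-- P4 -/
theorem three_mul_card_perp [Finite V] {v : V} (hv : v ≠ 0) :
    3 * Nat.card {z : V // S.B v z = 0} = Nat.card V := by
  classical
  have : Finite F := S.finite_F
  obtain ⟨z0, hz0⟩ := S.exists_B_eq_one hv
  have hz0' : S.B v z0 = 1 := by rw [S.B_symm]; exact hz0
  let e : V ≃ {z : V // S.B v z = 0} × F :=
    { toFun := fun z => (⟨z - S.B v z • z0, by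
        rw [S.Bsub_right, S.Bsmul_right, hz0', mul_one, sub_self]⟩, S.B v z)
      invFun := fun p => p.1.1 + p.2 • z0
      left_inv := by
        intro z
        simp only
        rw [sub_add_cancel]
      right_inv := by
        rintro ⟨⟨w, hw⟩, c⟩
        have hc : S.B v (w + c • z0) = c := by
          rw [S.Badd_right, S.Bsmul_right, hz0', mul_one, hw, zero_add]
        apply Prod.ext
        · apply Subtype.ext
          simp only
          rw [hc, add_sub_cancel_right]
        · simp only
          exact hc }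
  rw [Nat.card_congr e, Nat.card_prod, S.natCard_F, mul_comm]

/-- `(H ⊓ K).relIndex Q = H.relIndex Q` for `Q ≤ K` -/
theorem inf_relIndex_of_le {G : Type*} [Group G] (H K Q : Subgroup G) (hQK : Q ≤ K) :
    (H ⊓ K).relIndex Q = H.relIndex Q := by
  rw [← Subgroup.relIndex_inf_mul_relIndex, Subgroup.relIndex_eq_one.mpr hQK, mul_one,
    inf_eq_right.mpr hQK]

/-- general bound: `|G_x : Stab_{G_x}(U)| · |Q_x : H ∩ Q_x| ≤ |G_x : G_x ∩ H|` for an `H ∩ G_x`-invariant
subspace `x ∈ U ⊆ x^⊥` -/
theorem stab_bound [Finite G] (H : Subgroup G) {x : V} (hx : S.Q x = 0) (U : Submodule F V)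
    (hxU : x ∈ U) (hU : ∀ u ∈ U, S.B x u = 0)
    (hinv : ∀ p ∈ H, p • x = x → ∀ u ∈ U, p • u ∈ U) :
    (stabilizer G (U : Set V)).relIndex (stabilizer G x) * H.relIndex (S.Qs hx)
      ≤ H.relIndex (stabilizer G x) := by
  have key := relIndex_mul_relIndex_le (stabilizer G x) (stabilizer G (U : Set V) ⊓ stabilizer G x)
    (H ⊓ stabilizer G x) (S.Qs hx) ?_ ?_ inf_le_right
    (inf_le_right.trans (S.stabilizer_le_normalizer_Qs hx))
  · rwa [Subgroup.inf_relIndex_right, Subgroup.inf_relIndex_right,
      inf_relIndex_of_le _ _ _ (S.Qs_le_stabilizer hx)] at key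
  · rintro p ⟨hpH, hpx⟩
    refine ⟨?_, hpx⟩
    have hpx' : p • x = x := hpx
    show p ∈ stabilizer G (U : Set V)
    rw [mem_stabilizer_set]
    intro b
    constructor
    · intro hb
      have h1 := hinv p⁻¹ (H.inv_mem hpH) (by rw [inv_smul_eq_iff, hpx']) _ hb
      rwa [inv_smul_smul] at h1
    · exact hinv p hpH hpx' b
  · intro g hg
    refine ⟨?_, S.Qs_le_stabilizer hx hg⟩
    have hstep : ∀ g' ∈ S.Qs hx, ∀ u ∈ U, g' • u ∈ U := by
      rintro _ ⟨w, hw, rfl⟩ u hu
      exact S.sg_smul_mem hx hw hxU hU hu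
    show g ∈ stabilizer G (U : Set V)
    rw [mem_stabilizer_set]
    intro b
    constructor
    · intro hb
      have h1 := hstep g⁻¹ ((S.Qs hx).inv_mem hg) _ hb
      rwa [inv_smul_smul] at h1
    · exact hstep g hg b

/-- type A is invariant under `H` -/
theorem isA_smul {H : Subgroup G} {x : V} (hA : S.IsA H x) {p : G} (hp : p ∈ H) :
    S.IsA H (p • x) := by
  obtain ⟨hx0, hx, h3, h4⟩ := hA
  have hpx : S.Q (p • x) = 0 := by rw [S.isoQ, hx]
  refine ⟨fun h0 => hx0 ((smul_eq_zero_iff_eq p).mp h0), hpx, ?_, ?_⟩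
  · intro w hw hmem
    have hw' : S.B x (p⁻¹ • w) = 0 := by
      rw [← S.iso p, smul_inv_smul]; exact hw
    have hc := S.conj_sg p⁻¹ hpx hw
    rw [inv_smul_smul, inv_inv] at hc
    have hmem' : S.sg x (p⁻¹ • w) ∈ H := by
      rw [← hc]
      exact H.mul_mem (H.mul_mem (H.inv_mem hp) hmem) hp
    obtain ⟨a, ha⟩ := h3 _ hw' hmem'
    refine ⟨a, ?_⟩
    have := congrArg (p • ·) ha
    simp only [smul_inv_smul] at this
    rw [this, S.smul_fsmul]
  · intro g hg
    have hg' : (p⁻¹ * g * p) • x = x := by
      rw [mul_smul, mul_smul, hg, inv_smul_smul]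
    obtain ⟨w, hw, hmem⟩ := h4 _ hg'
    refine ⟨p • w, by rw [S.iso, hw], ?_⟩
    have hc := S.conj_sg p hx hw
    rw [← hc]
    have : g * (p * S.sg x w * p⁻¹) = p * (p⁻¹ * g * p * S.sg x w) * p⁻¹ := by group
    rw [this]
    exact H.mul_mem (H.mul_mem hp hmem) (H.inv_mem hp)

end Setting

end Cfsg.Agent.Lib.Helper11.Om3
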