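import Mathlib
import Cfsg.Agent.Lib.Helper11.Om3Tools
import Cfsg.Agent.Lib.Helper27.Om3GT
import Cfsg.Agent.Lib.Helper27.Om3GB
import Cfsg.Agent.Lib.Helper8.Om3NS

/-! Helper11 library (S2144): step (I3): not all nonzero singular vectors are of type A. -/

set_option autoImplicit false

namespace Cfsg.Agent.Lib.Helper11.Om3I3

open MulAction Cfsg.Agent.Lib.Helper11.Om3
open Cfsg.Agent.Lib.Helper27.Om3Leaf (exists_sing_perp_ne exists_orth_triple)
open Cfsg.Agent.Lib.Helper8.Om3Leaf (exists_nonsing_perp)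

variable {F V G : Type*} [Field F] [AddCommGroup V] [Module F V] [Group G] [DistribMulAction G V]
  (S : Setting F V G)

/-! ### two more Siegel identities -/

/-- `sg u (d • x) = sg x (-d • u)` for perpendicular singular `x, u` -/
theorem sg_swap_smul {x u : V} (hx : S.Q x = 0) (hu : S.Q u = 0) (hxu : S.B x u = 0) (d : F) :
    S.sg u (d • x) = S.sg x (-d • u) := by
  have hux : S.B u x = 0 := by rw [S.B_symm]; exact hxu
  have h1 : S.B u (d • x) = 0 := by rw [S.Bsmul_right, hux, mul_zero]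
  have h2 : S.B x (-d • u) = 0 := by rw [S.Bsmul_right, hxu, mul_zero]
  apply S.ext_smul
  intro z
  rw [S.sg_smul' hu h1, S.sg_smul' hx h2]
  simp only [S.Bsmul_right, S.Q_smul, hx, hu, mul_zero, zero_mul, zero_smul, sub_zero]
  module

/-- on the line: `sg (u + e • x) (d • x) = sg u (d • x)` -/
theorem sg_line_x {x u : V} (hx : S.Q x = 0) (hu : S.Q u = 0) (hxu : S.B x u = 0) (e d : F) :
    S.sg (u + e • x) (d • x) = S.sg u (d • x) := by
  have hux : S.B u x = 0 := by rw [S.B_symm]; exact hxu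
  have hxx := S.B_self_of_sing hx
  have hs : S.Q (u + e • x) = 0 := by
    rw [S.Q_add, S.Q_smul, hx, hu, S.Bsmul_right, hux]; ring
  have h1 : S.B (u + e • x) (d • x) = 0 := by
    rw [S.Badd_left, S.Bsmul_left, S.Bsmul_right, S.Bsmul_right, hux, hxx]; ring
  have h2 : S.B u (d • x) = 0 := by rw [S.Bsmul_right, hux, mul_zero]
  apply S.ext_smul
  intro z
  rw [S.sg_smul' hs h1, S.sg_smul' hu h2]
  simp only [S.Badd_right, S.Bsmul_right, S.Q_smul, hx, mul_zero, zero_mul, zero_smul, sub_zero]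
  module

/-! ### the relation -/

/-- `b ∈ L = <x, u>^⊥`, `a ⊥ x` and `sg u b * sg x a ∈ H` -/
def Rel (H : Subgroup G) (x u b a : V) : Prop :=
  S.B x b = 0 ∧ S.B u b = 0 ∧ S.B x a = 0 ∧ S.sg u b * S.sg x a ∈ H

/-- a totally singular line `<x, u>` in a configuration where every singular vector is of type A -/
structure LineData (H : Subgroup G) (x u : V) : Prop where
  hx0 : x ≠ 0
  hx : S.Q x = 0
  hu : S.Q u = 0
  hxu : S.B x u = 0
  hind : ¬ ∃ a : F, u = a • x
  hall : ∀ p, p ≠ 0 → S.Q p = 0 → S.IsA H p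

variable {S} {H : Subgroup G} {x u : V}

namespace LineData

variable (D : LineData S H x u)
include D

theorem hux : S.B u x = 0 := by rw [S.B_symm]; exact D.hxu

theorem hu0 : u ≠ 0 := by
  rintro rfl
  exact D.hind ⟨0, by rw [zero_smul]⟩

theorem Ax : S.IsA H x := D.hall x D.hx0 D.hx

/-- `sg u b` fixes `x` for `b ∈ L` -/
theorem sg_u_fix {b : V} (hxb : S.B x b = 0) (hub : S.B u b = 0) : S.sg u b • x = x := by
  apply S.sg_smul_of_perp_perp D.hu hub D.hux
  rw [S.B_symm]; exact hxb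

/-- R1 -/
theorem rel_exists {b : V} (hxb : S.B x b = 0) (hub : S.B u b = 0) : ∃ a, Rel S H x u b a := by
  obtain ⟨w, hw, hmem⟩ := D.Ax.2.2.2 (S.sg u b) (D.sg_u_fix hxb hub)
  exact ⟨w, hxb, hub, hw, hmem⟩

/-- R2 -/
theorem rel_unique {b a a' : V} (h : Rel S H x u b a) (h' : Rel S H x u b a') :
    ∃ e : F, a' = a + e • x := by
  obtain ⟨-, -, hxa, hm⟩ := h
  obtain ⟨-, -, hxa', hm'⟩ := h'
  have hna : S.B x (-a) = 0 := by rw [S.Bneg_right, hxa, neg_zero]
  have hmem : S.sg x (-a + a') ∈ H := by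
    rw [← S.sg_mul D.hx hna hxa', ← S.sg_inv D.hx hxa]
    have := H.mul_mem (H.inv_mem hm) hm'
    rwa [mul_inv_rev, mul_assoc, inv_mul_cancel_left] at this
  obtain ⟨e, he⟩ := D.Ax.2.2.1 (-a + a') (by rw [S.Badd_right, hna, hxa', add_zero]) hmem
  exact ⟨e, by rw [← he]; abel⟩

/-- the cube of `sg u b * sg x a` -/
theorem cube {b a : V} (hxb : S.B x b = 0) (hub : S.B u b = 0) (hxa : S.B x a = 0) :
    (S.sg u b * S.sg x a) * (S.sg u b * S.sg x a) * (S.sg u b * S.sg x a) =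
      S.sg x ((S.Q b * S.B a u) • u) := by
  set s := S.sg u b with hs
  have hsx : s • x = x := D.sg_u_fix hxb hub
  have hux := D.hux
  have huu := S.B_self_of_sing D.hu
  have hbu : S.B b u = 0 := by rw [S.B_symm]; exact hub
  -- `s * sg x a = sg x (s • a) * s`
  have hconj : ∀ w, S.B x w = 0 → s * S.sg x w = S.sg x (s • w) * s := by
    intro w hw
    have := S.conj_sg s D.hx hw
    rw [hsx] at this
    rw [← this]; group
  have hxsa : S.B x (s • a) = 0 := by
    have := S.iso s x a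
    rw [hsx] at this
    rw [this, hxa]
  have hxssa : S.B x (s • s • a) = 0 := by
    have := S.iso s x (s • a)
    rw [hsx] at this
    rw [this, hxsa]
  have hs3 : s * s * s = 1 := S.sg_cube D.hu hub
  have e1 : (s * S.sg x a) * (s * S.sg x a) * (s * S.sg x a) =
      S.sg x (s • a) * S.sg x (s • s • a) * (s * s * s) * S.sg x a := by
    rw [hconj a hxa]
    have h2 : s * S.sg x (s • a) = S.sg x (s • s • a) * s := hconj _ hxsa
    calc S.sg x (s • a) * s * (S.sg x (s • a) * s) * (S.sg x (s • a) * s)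
        = S.sg x (s • a) * (s * S.sg x (s • a)) * s * (S.sg x (s • a) * s) := by group
      _ = S.sg x (s • a) * (S.sg x (s • s • a) * s) * s * (S.sg x (s • a) * s) := by rw [h2]
      _ = S.sg x (s • a) * S.sg x (s • s • a) * (s * s) * (S.sg x (s • a) * s) := by group
      _ = S.sg x (s • a) * S.sg x (s • s • a) * (s * s) * (s * S.sg x a) := by rw [← hconj a hxa]
      _ = S.sg x (s • a) * S.sg x (s • s • a) * (s * s * s) * S.sg x a := by group
  rw [e1, hs3, mul_one, S.sg_mul D.hx hxsa hxssa,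
    S.sg_mul D.hx (by rw [S.Badd_right, hxsa, hxssa, add_zero]) hxa]
  congr 1
  have f1 : s • a = a + S.B a b • u - S.B a u • b - (S.Q b * S.B a u) • u := S.sg_smul' D.hu hub a
  have f2 : s • s • a = s • a + S.B (s • a) b • u - S.B (s • a) u • b -
      (S.Q b * S.B (s • a) u) • u := S.sg_smul' D.hu hub (s • a)
  have g1 : S.B (s • a) u = S.B a u := by
    rw [f1]
    simp only [S.Badd_left, S.Bsub_left, S.Bsmul_left, huu, hbu, mul_zero, add_zero, sub_zero]
  have g2 : S.B (s • a) b = S.B a b + S.B a u * S.Q b := by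
    rw [f1]
    simp only [S.Badd_left, S.Bsub_left, S.Bsmul_left, hub, S.B_self b, mul_zero, add_zero,
      sub_zero]
    ring
  rw [f2, g1, g2, f1]
  have h3a := S.three_smul_v a
  have h3u := S.three_smul_v u
  have h3b := S.three_smul_v b
  linear_combination (norm := module) h3a + (S.B a b - S.Q b * S.B a u) • h3u - (S.B a u) • h3b

/-- R1' for nonsingular `b` -/
theorem rel_perp_of_nonsing {b a : V} (h : Rel S H x u b a) (hb : S.Q b ≠ 0) : S.B a u = 0 := by
  obtain ⟨hxb, hub, hxa, hm⟩ := h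
  have hmem : S.sg x ((S.Q b * S.B a u) • u) ∈ H := by
    rw [← D.cube hxb hub hxa]
    exact H.mul_mem (H.mul_mem hm hm) hm
  obtain ⟨e, he⟩ := D.Ax.2.2.1 _ (by rw [S.Bsmul_right, D.hxu, mul_zero]) hmem
  by_contra hne
  have hk : S.Q b * S.B a u ≠ 0 := mul_ne_zero hb hne
  apply D.hind
  refine ⟨(S.Q b * S.B a u)⁻¹ * e, ?_⟩
  rw [← smul_smul, ← he, smul_smul, inv_mul_cancel₀ hk, one_smul]

/-- R4 -/
theorem rel_add {b a b' a' : V} (h : Rel S H x u b a) (h' : Rel S H x u b' a')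
    (hau : S.B a u = 0) : Rel S H x u (b + b') (a + -(S.B a b') • u + a') := by
  obtain ⟨hxb, hub, hxa, hm⟩ := h
  obtain ⟨hxb', hub', hxa', hm'⟩ := h'
  have hua : S.B u a = 0 := by rw [S.B_symm]; exact hau
  have hxk : S.B x (-(S.B a b') • u) = 0 := by rw [S.Bsmul_right, D.hxu, mul_zero]
  have hx1 : S.B x (a + -(S.B a b') • u) = 0 := by rw [S.Badd_right, hxa, hxk, add_zero]
  refine ⟨by rw [S.Badd_right, hxb, hxb', add_zero], by rw [S.Badd_right, hub, hub', add_zero],
    by rw [S.Badd_right, hx1, hxa', add_zero], ?_⟩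
  have hcomm := S.sg_mul_sg D.hx D.hu D.hxu hxa hua hxb' hub'
  have key : S.sg u (b + b') * S.sg x (a + -(S.B a b') • u + a') =
      (S.sg u b * S.sg x a) * (S.sg u b' * S.sg x a') := by
    rw [← S.sg_mul D.hu hub hub', ← S.sg_mul D.hx hx1 hxa', ← S.sg_mul D.hx hxa hxk]
    calc S.sg u b * S.sg u b' * (S.sg x a * S.sg x (-(S.B a b') • u) * S.sg x a')
        = S.sg u b * (S.sg u b' * S.sg x a * S.sg x (-(S.B a b') • u)) * S.sg x a' := by group
      _ = S.sg u b * (S.sg x a * S.sg u b') * S.sg x a' := by rw [← hcomm]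
      _ = (S.sg u b * S.sg x a) * (S.sg u b' * S.sg x a') := by group
  rw [key]
  exact H.mul_mem hm hm'

/-- R1'' : the partner is perpendicular to `u` -/
theorem rel_perp [Finite V] {m : ℕ} (hV : Nat.card V = 3 ^ (2 * m + 1)) (hm : 3 ≤ m) {b a : V}
    (h : Rel S H x u b a) : S.B a u = 0 := by
  by_cases hb : S.Q b = 0
  · obtain ⟨c, hc, hQc⟩ := exists_nonsing_perp S hV hm ![x, u, b]
    have hxc : S.B x c = 0 := hc 0
    have huc : S.B u c = 0 := hc 1
    have hbc : S.B b c = 0 := hc 2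
    have hxbc : S.B x (b - c) = 0 := by rw [S.Bsub_right, h.1, hxc, sub_zero]
    have hubc : S.B u (b - c) = 0 := by rw [S.Bsub_right, h.2.1, huc, sub_zero]
    have hQbc : S.Q (b - c) ≠ 0 := by
      rw [S.Q_sub, hb, hbc, zero_add, sub_zero]; exact hQc
    obtain ⟨a1, h1⟩ := D.rel_exists hxc huc
    obtain ⟨a2, h2⟩ := D.rel_exists hxbc hubc
    have p1 := D.rel_perp_of_nonsing h1 hQc
    have p2 := D.rel_perp_of_nonsing h2 hQbc
    have h3 := D.rel_add h1 h2 p1
    rw [add_sub_cancel] at h3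
    obtain ⟨e, he⟩ := D.rel_unique h3 h
    rw [he]
    simp only [S.Badd_left, S.Bsmul_left, p1, p2, S.B_self_of_sing D.hu, D.hxu, mul_zero, add_zero]
  · exact D.rel_perp_of_nonsing h hb

/-- RN -/
theorem rel_neg {b a : V} (h : Rel S H x u b a) (hau : S.B a u = 0) :
    Rel S H x u (-b) (-a + -(S.B a b) • u) := by
  obtain ⟨hxb, hub, hxa, hm⟩ := h
  have hua : S.B u a = 0 := by rw [S.B_symm]; exact hau
  have hxnb : S.B x (-b) = 0 := by rw [S.Bneg_right, hxb, neg_zero]
  have hunb : S.B u (-b) = 0 := by rw [S.Bneg_right, hub, neg_zero]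
  have hxna : S.B x (-a) = 0 := by rw [S.Bneg_right, hxa, neg_zero]
  have huna : S.B u (-a) = 0 := by rw [S.Bneg_right, hua, neg_zero]
  have hxk : S.B x (-(S.B a b) • u) = 0 := by rw [S.Bsmul_right, D.hxu, mul_zero]
  refine ⟨hxnb, hunb, by rw [S.Badd_right, hxna, hxk, add_zero], ?_⟩
  have hcomm := S.sg_mul_sg D.hx D.hu D.hxu hxna huna hxnb hunb
  have e1 : S.B (-a) (-b) = S.B a b := by rw [S.Bneg_left, S.Bneg_right, neg_neg]
  rw [e1] at hcomm
  have key : S.sg u (-b) * S.sg x (-a + -(S.B a b) • u) = (S.sg u b * S.sg x a)⁻¹ := by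
    rw [mul_inv_rev, S.sg_inv D.hx hxa, S.sg_inv D.hu hub, hcomm, ← S.sg_mul D.hx hxna hxk]
    group
  rw [key]
  exact H.inv_mem hm

/-- R5: the partner of a nonsingular `c ∈ L` is not in `<c> + l` -/
theorem rel_eigen_false {c : V} {l xi up : F} (hQc : S.Q c ≠ 0)
    (h : Rel S H x u c (l • c + xi • x + up • u)) : False := by
  obtain ⟨hxc, huc, -, hm⟩ := h
  have hux := D.hux
  have hxx := S.B_self_of_sing D.hx
  have huu := S.B_self_of_sing D.hu
  set p := u + l • x with hp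
  have hpQ : S.Q p = 0 := by
    rw [hp, S.Q_add, S.Q_smul, D.hx, D.hu, S.Bsmul_right, hux]; ring
  have hp0 : p ≠ 0 := by
    intro h0
    apply D.hind
    refine ⟨-l, ?_⟩
    rw [hp] at h0
    rw [neg_smul]
    exact eq_neg_of_add_eq_zero_left h0
  have hpc : S.B p c = 0 := by rw [hp, S.Badd_left, S.Bsmul_left, hxc, huc]; ring
  have hxlc : S.B x (l • c) = 0 := by rw [S.Bsmul_right, hxc, mul_zero]
  have hxu' : ∀ k : F, S.B x (k • u) = 0 := fun k => by rw [S.Bsmul_right, D.hxu, mul_zero]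
  have hxxi : S.B x (xi • x) = 0 := by rw [S.Bsmul_right, hxx, mul_zero]
  -- rewrite the element of `H`
  have e0 : S.sg x (l • c + xi • x + up • u) = S.sg x (l • c) * S.sg x (up • u) := by
    rw [S.sg_mul D.hx hxlc (hxu' up)]
    have : l • c + xi • x + up • u = (l • c + up • u) + xi • x := by abel
    rw [this, S.sg_add_smul_self D.hx (by rw [S.Badd_right, hxlc, hxu' up, add_zero])]
  have e1 := S.sg_add_left D.hx D.hu D.hxu hxc huc l
  -- `sg u c * sg x (l • c) = sg p c * sg x ((l * Q c) • u)`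
  have e2 : S.sg u c * S.sg x (l • c) = S.sg p c * S.sg x ((l * S.Q c) • u) := by
    rw [hp, e1, mul_assoc, S.sg_mul D.hx (hxu' _) (hxu' _), ← add_smul, neg_add_cancel, zero_smul,
      S.sg_zero_right D.hx, mul_one]
  set k := l * S.Q c + up with hk
  have hpkx : S.B p (-k • x) = 0 := by
    rw [hp, S.Badd_left, S.Bsmul_left, S.Bsmul_right, S.Bsmul_right, hux, hxx]; ring
  have e3 : S.sg u c * S.sg x (l • c + xi • x + up • u) = S.sg p (c + -k • x) := by
    rw [e0, ← mul_assoc, e2, mul_assoc, S.sg_mul D.hx (hxu' _) (hxu' _), ← add_smul, ← hk,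
      ← S.sg_mul hpQ hpc hpkx, hp, sg_line_x S D.hx D.hu D.hxu, sg_swap_smul S D.hx D.hu D.hxu,
      neg_neg]
  rw [e3] at hm
  obtain ⟨e, he⟩ := (D.hall p hp0 hpQ).2.2.1 _ (by rw [S.Badd_right, hpc, hpkx, add_zero]) hm
  apply hQc
  have h1 : S.Q (c + -k • x) = S.Q c := S.Q_add_smul_self D.hx hxc _
  rw [← h1, he, S.Q_smul, hpQ, mul_zero]

/-- the lift of `t = rr c c'` to `H` and its effect on the partner of `c` -/
theorem lift_rel {c c' a : V} (hxc : S.B x c = 0) (huc : S.B u c = 0) (hxc' : S.B x c' = 0)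
    (huc' : S.B u c' = 0) (hQc : S.Q c ≠ 0) (hQ' : S.Q c' = S.Q c) (hcc' : S.B c c' = 0)
    (h : Rel S H x u c a) (hau : S.B a u = 0) :
    ∃ e xi up : F, a + S.rr c c' • a = e • c + xi • x + up • u := by
  obtain ⟨-, -, hxa, hm⟩ := h
  set t := S.rr c c' with ht
  have hux := D.hux
  have hxx := S.B_self_of_sing D.hx
  have hcx : S.B c x = 0 := by rw [S.B_symm]; exact hxc
  have hcu : S.B c u = 0 := by rw [S.B_symm]; exact huc
  have htx : t • x = x := S.rr_smul_of_perp hQc hQ' hcc' hxc hxc'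
  have htu : t • u = u := S.rr_smul_of_perp hQc hQ' hcc' huc huc'
  have htc : t • c = -c := S.rr_smul_left hQc hQ' hcc'
  obtain ⟨a', hxa', hg⟩ := D.Ax.2.2.2 t htx
  set g := t * S.sg x a' with hgdef
  have hgx : g • x = x := by rw [hgdef, mul_smul, S.sg_smul_self D.hx hxa', htx]
  have hgu : g • u = u + S.B u a' • x := by
    rw [hgdef, mul_smul, S.sg_smul_of_perp D.hx hxa' D.hxu, smul_add, S.smul_fsmul, htu, htx]
  have hgc : g • c = -c + S.B c a' • x := by
    rw [hgdef, mul_smul, S.sg_smul_of_perp D.hx hxa' hxc, smul_add, S.smul_fsmul, htc, htx]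
  have hga : g • a = t • a + S.B a a' • x := by
    rw [hgdef, mul_smul, S.sg_smul_of_perp D.hx hxa' hxa, smul_add, S.smul_fsmul, htx]
  -- conjugate the element of `H`
  have hconj : g * (S.sg u c * S.sg x a) * g⁻¹ = S.sg (g • u) (g • c) * S.sg (g • x) (g • a) := by
    rw [← S.conj_sg g D.hu huc, ← S.conj_sg g D.hx hxa]; group
  have hmem : S.sg (g • u) (g • c) * S.sg (g • x) (g • a) ∈ H := by
    rw [← hconj]
    exact H.mul_mem (H.mul_mem hg hm) (H.inv_mem hg)
  rw [hgx, hgu, hgc, hga] at hmem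
  set ε := S.B u a' with hε
  set δ := S.B c a' with hδ
  set η := S.B a a' with hη
  set w := -c + δ • x with hw
  have hxw : S.B x w = 0 := by
    rw [hw, S.Badd_right, S.Bneg_right, S.Bsmul_right, hxc, hxx]; ring
  have huw : S.B u w = 0 := by
    rw [hw, S.Badd_right, S.Bneg_right, S.Bsmul_right, huc, hux]; ring
  have hunc : S.B u (-c) = 0 := by rw [S.Bneg_right, huc, neg_zero]
  have hudx : S.B u (δ • x) = 0 := by rw [S.Bsmul_right, hux, mul_zero]
  have hxta : S.B x (t • a) = 0 := by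
    have := S.iso t x a
    rw [htx] at this
    rw [this, hxa]
  have hxu' : ∀ k : F, S.B x (k • u) = 0 := fun k => by rw [S.Bsmul_right, D.hxu, mul_zero]
  have hxew : S.B x (ε • w) = 0 := by rw [S.Bsmul_right, hxw, mul_zero]
  have hxtae : S.B x (t • a + η • x) = 0 := by
    rw [S.Badd_right, hxta, S.Bsmul_right, hxx]; ring
  -- rewrite as `sg u (-c) * sg x A₁`
  have e1 : S.sg (u + ε • x) w = S.sg u w * S.sg x (ε • w) * S.sg x (-(ε * S.Q w) • u) :=
    S.sg_add_left D.hx D.hu D.hxu hxw huw ε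
  have e2 : S.sg u w = S.sg u (-c) * S.sg x (-δ • u) := by
    rw [hw, ← S.sg_mul D.hu hunc hudx, sg_swap_smul S D.hx D.hu D.hxu]
  have hA1 : S.B x (-δ • u + ε • w + -(ε * S.Q w) • u + (t • a + η • x)) = 0 := by
    rw [S.Badd_right, S.Badd_right, S.Badd_right, hxu', hxu', hxew, hxtae]; ring
  have e3 : S.sg (u + ε • x) w * S.sg x (t • a + η • x) =
      S.sg u (-c) * S.sg x (-δ • u + ε • w + -(ε * S.Q w) • u + (t • a + η • x)) := by
    rw [e1, e2, ← S.sg_mul D.hx (by rw [S.Badd_right, S.Badd_right, hxu', hxu', hxew]; ring) hxtae,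
      ← S.sg_mul D.hx (by rw [S.Badd_right, hxu', hxew, add_zero]) (hxu' _),
      ← S.sg_mul D.hx (hxu' _) hxew]
    group
  rw [e3] at hmem
  have hrel1 : Rel S H x u (-c) (-δ • u + ε • w + -(ε * S.Q w) • u + (t • a + η • x)) :=
    ⟨by rw [S.Bneg_right, hxc, neg_zero], hunc, hA1, hmem⟩
  have hrel2 := D.rel_neg (⟨hxc, huc, hxa, hm⟩ : Rel S H x u c a) hau
  obtain ⟨e, he⟩ := D.rel_unique hrel2 hrel1
  refine ⟨ε, e - ε * δ - η, δ + ε * S.Q w - S.B a c, ?_⟩
  -- `he : A₁ = A₂ + e • x`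
  have : t • a = -a + -(S.B a c) • u + e • x - (-δ • u + ε • w + -(ε * S.Q w) • u + η • x) := by
    rw [← he]; abel
  rw [this, hw]
  module

/-- the partner of `c` lies in `<c> + l`: contradiction -/
theorem false_of_triple [Finite V] {m : ℕ} (hV : Nat.card V = 3 ^ (2 * m + 1)) (hm : 3 ≤ m)
    {c c' c'' : V} (hxc : S.B x c = 0) (huc : S.B u c = 0) (hxc' : S.B x c' = 0)
    (huc' : S.B u c' = 0) (hxc'' : S.B x c'' = 0) (huc'' : S.B u c'' = 0) (hQc : S.Q c ≠ 0)
    (hQ' : S.Q c' = S.Q c) (hQ'' : S.Q c'' = S.Q c) (hcc' : S.B c c' = 0) (hcc'' : S.B c c'' = 0)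
    (hc'c'' : S.B c' c'' = 0) : False := by
  obtain ⟨a, hrel⟩ := D.rel_exists hxc huc
  have hau := D.rel_perp hV hm hrel
  obtain ⟨e1, xi1, up1, h1⟩ := D.lift_rel hxc huc hxc' huc' hQc hQ' hcc' hrel hau
  obtain ⟨e2, xi2, up2, h2⟩ := D.lift_rel hxc huc hxc'' huc'' hQc hQ'' hcc'' hrel hau
  rw [S.rr_smul' hQc hQ' hcc'] at h1
  rw [S.rr_smul' hQc hQ'' hcc''] at h2
  -- `B a c'' = 0` from the first relation
  have hac'' : S.B a c'' = 0 := by
    have := congrArg (fun v => S.B v c'') h1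
    simp only [S.Badd_left, S.Bsub_left, S.Bsmul_left, hcc'', hc'c'', hxc'', huc'', mul_zero,
      add_zero, sub_zero] at this
    have h2' : (2 : F) * S.B a c'' = 0 := by linear_combination this
    rw [S.two_eq] at h2'
    linear_combination -h2'
  rw [hac'', mul_zero, zero_smul, sub_zero] at h2
  -- so `a = l • c + xi • x + up • u`
  have ha : a = (-(e2 + S.Q c * S.B a c)) • c + (-xi2) • x + (-up2) • u := by
    have h3a := S.three_smul_v a
    linear_combination (norm := module) -h2 + h3a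
  rw [ha] at hrel
  exact D.rel_eigen_false hQc hrel

end LineData

variable (S)

/-- I3 -/
theorem not_forall_isA [Finite V] {m : ℕ} (hV : Nat.card V = 3 ^ (2 * m + 1))
    (hs : Nat.card {v : V // S.Q v = 0} = 3 ^ (2 * m)) (hm : 3 ≤ m)
    (H : Subgroup G) : ¬ ∀ x, x ≠ 0 → S.Q x = 0 → S.IsA H x := by
  intro hall
  -- a singular vector `x ≠ 0`, then `u ⊥ x` singular outside `<x>`
  obtain ⟨x, hx0, hx, -, -, -, -⟩ := exists_sing_perp_ne S hV hs hm (S.Q_zero) (S.Q_zero)
  obtain ⟨u, hu0, hu, hux, -, hne, -⟩ := exists_sing_perp_ne S hV hs hm hx hx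
  have hxu : S.B x u = 0 := by rw [S.B_symm]; exact hux
  have D : LineData S H x u := ⟨hx0, hx, hu, hxu, hne, hall⟩
  obtain ⟨c, c', c'', h1, h2, h3, h4, h5, h6, h7, h8, h9, h10, h11, h12⟩ :=
    exists_orth_triple S hV hm hx hu hxu
  exact D.false_of_triple hV hm h1 h2 h3 h4 h5 h6 h7 h8 h9 h10 h11 h12


end Cfsg.Agent.Lib.Helper11.Om3I3
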