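import Mathlib
import Cfsg.Agent.Lib.Helper11.Om3Tools
import Cfsg.Agent.Lib.Helper11.Om3I3
import Cfsg.Agent.Lib.Helper27.Om3GB
import Cfsg.Agent.Lib.Helper5.Om3K
import Cfsg.Agent.Lib.Helper22.Om3OL0
import Cfsg.Agent.Lib.Helper15.Om3T1
import Cfsg.Agent.Lib.Helper22.Om3OLi
import Cfsg.Agent.Lib.Helper8.Om3OLE

/-! Helper11 library (S2144): the main lower bound in the abstract `Ω_{2m+1}(3)` setting. -/

set_option autoImplicit false

namespace Cfsg.Agent.Lib.Helper11.Om3

open MulAction Pointwise Cfsg.Agent.Lib.Helper1.Sp2Leaf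
open Cfsg.Agent.Lib.Helper22.Om3Leaf (relIndex_ge_of_isA isA_or_relIndex_ge)
open Cfsg.Agent.Lib.Helper8.Om3Leaf (relIndex_ge_of_ne)
open Cfsg.Agent.Lib.Helper15.Om3Leaf (exists_smul_eq_of_sing)
open Cfsg.Agent.Lib.Helper27.Om3Leaf (exists_sing_perp_ne)
open Cfsg.Agent.Lib.Helper5.Om3Leaf (card_Dt_mul_card_Dt_le)
open Cfsg.Agent.Lib.Helper11.Om3I3 (not_forall_isA)

variable {F V G : Type*} [Field F] [AddCommGroup V] [Module F V] [Group G] [DistribMulAction G V]
variable (S : Setting F V G)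

/-- powers of three needed in the main proof, in terms of `a = 3^(m-1)` -/
theorem pow_arith3 (m : ℕ) (hm : 3 ≤ m) :
    ∃ a : ℕ, 9 ≤ a ∧ 3 ^ (m - 1) = a ∧ 3 ^ m = 3 * a ∧ 3 ^ (m + 1) = 9 * a ∧
      3 ^ (2 * m - 1) = 3 * (a * a) ∧ 3 ^ (2 * m) = 9 * (a * a) ∧ 3 ^ (2 * m + 1) = 27 * (a * a) := by
  obtain ⟨k, rfl⟩ : ∃ k, m = k + 3 := ⟨m - 3, by omega⟩
  refine ⟨3 ^ (k + 2), ?_, ?_, ?_, ?_, ?_, ?_, ?_⟩
  · calc 9 = 3 ^ 2 := by norm_num
      _ ≤ 3 ^ (k + 2) := Nat.pow_le_pow_right (by norm_num) (by omega)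
  · congr 1
  · rw [show k + 3 = (k + 2) + 1 by omega, pow_succ]; ring
  · rw [show k + 3 + 1 = (k + 2) + 2 by omega, pow_add]; ring
  · rw [← pow_add, show 2 * (k + 3) - 1 = (k + 2 + (k + 2)) + 1 by omega, pow_succ]; ring
  · rw [← pow_add, show 2 * (k + 3) = (k + 2 + (k + 2)) + 2 by omega, pow_add]; ring
  · rw [← pow_add, show 2 * (k + 3) + 1 = (k + 2 + (k + 2)) + 3 by omega, pow_add]; ring

theorem sg_zero_left (w : V) : S.sg 0 w = 1 := by
  apply S.faithful
  intro z
  rw [S.sg_smul' S.Q_zero (S.Bzero_left w)]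
  simp

include S in
/-- the cardinality of a subspace which is not `≤ 3^m` is `≥ 3^(m+1)` -/
theorem card_ge_of_not_le [Finite V] (U : Submodule F V) {m : ℕ} (h : ¬ Nat.card U ≤ 3 ^ m) :
    3 ^ (m + 1) ≤ Nat.card U := by
  rw [S.card_submodule_eq_three_pow U] at h ⊢
  apply Nat.pow_le_pow_right (by norm_num)
  by_contra hc
  apply h
  exact Nat.pow_le_pow_right (by norm_num) (by omega)

include S in
/-- MAIN lower bound -/
theorem index_ge [Finite V] [Finite G] {m : ℕ} (hV : Nat.card V = 3 ^ (2 * m + 1))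
    (hs : Nat.card {v : V // S.Q v = 0} = 3 ^ (2 * m))
    (h1 : Nat.card {v : V // S.Q v = 1} = 3 ^ (2 * m) + 3 ^ m) (hm : 3 ≤ m)
    (H : Subgroup G) (hH : H ≠ ⊤) : 3 ^ m * (3 ^ m - 1) ≤ 2 * H.index := by
  by_contra hlt
  push Not at hlt
  obtain ⟨a, ha9, e1, e2, e2', e3, e4, e5⟩ := pow_arith3 m hm
  have eM : 3 ^ m * (3 ^ m - 1) = 9 * (a * a) - 3 * a := by
    rw [e2, Nat.mul_sub, mul_one]
    congr 1; ring
  have haa : 9 * a ≤ a * a := Nat.mul_le_mul_right a ha9
  rw [eM] at hlt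
  have hidx : H.index ≠ 0 := Subgroup.index_ne_zero_of_finite
  have hle : ∀ v : V, H.relIndex (stabilizer G v) ≤ H.index := by
    intro v
    have := Subgroup.relIndex_le_of_le_right (H := H) (le_top : stabilizer G v ≤ ⊤)
      (by rw [Subgroup.relIndex_top_right]; exact hidx)
    rwa [Subgroup.relIndex_top_right] at this
  -- a line which is not an `H`-line
  have hex : ∃ x y, S.Q x = 0 ∧ S.Q y = 0 ∧ S.B x y = 0 ∧ S.sg x y ∉ H := by
    by_contra hn
    push Not at hn
    exact hH (S.gen H hn)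
  obtain ⟨x, y, hx, hy, hxy, hnot⟩ := hex
  have hx0 : x ≠ 0 := by
    rintro rfl
    exact hnot (by rw [sg_zero_left]; exact H.one_mem)
  have hy0 : y ≠ 0 := by
    rintro rfl
    exact hnot (by rw [S.sg_zero_right hx]; exact H.one_mem)
  -- every point of type A has a long orbit
  have hA_ge : ∀ p : V, S.IsA H p → 3 * (a * a) ≤ H.relIndex (stabilizer G p) := by
    intro p hp
    have := relIndex_ge_of_isA S hV (by omega) H hp
    rwa [e3] at this
  -- points of type A on a non-`H`-line: the core of the argument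
  have core : ∀ p : V, p ≠ 0 → ∀ (hp : S.Q p = 0), Nat.card (S.Dt H hp) ≤ 3 ^ m → False := by
    intro p hp0 hp hcp
    have hAp : S.IsA H p := by
      rcases isA_or_relIndex_ge S hV hs h1 hm H hp0 hp hcp with h | h
      · exact h
      · exfalso
        have := hle p
        rw [eM] at h
        omega
    -- every singular point outside the orbit of `p` which is not of type A has `Q_z ≤ H`
    have hother : ∀ z0 : V, z0 ≠ 0 → ∀ hz0 : S.Q z0 = 0, ¬ S.IsA H z0 →
        ∀ w, S.B z0 w = 0 → S.sg z0 w ∈ H := by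
      intro z0 hz00 hz0Q hnA
      by_contra hne
      push Not at hne
      have h1' := relIndex_ge_of_ne S hV hs h1 hm H hz00 hz0Q hne
      rw [e3, e2] at h1'
      have hdiff : ∀ h ∈ H, h • p ≠ z0 := by
        intro h hh he
        exact hnA (he ▸ S.isA_smul hAp hh)
      have h2 := relIndex_add_relIndex_le H p z0
        (exists_smul_eq_of_sing S hV hs hm hp0 hz00 hp hz0Q) hdiff
      have h3 := hA_ge p hAp
      omega
    -- all singular points are of type A
    have hall : ∀ z0 : V, z0 ≠ 0 → S.Q z0 = 0 → S.IsA H z0 := by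
      intro z0 hz00 hz0Q
      by_contra hnA
      have hQz := hother z0 hz00 hz0Q hnA
      obtain ⟨u, hu0, hu, huz, hup, hunez, hunep⟩ := exists_sing_perp_ne S hV hs hm hz0Q hp
      have hzu : S.B z0 u = 0 := by rw [S.B_symm]; exact huz
      have hpu : S.B p u = 0 := by rw [S.B_symm]; exact hup
      by_cases hAu : S.IsA H u
      · have hmem : S.sg u z0 ∈ H := by
          rw [S.sg_swap hz0Q hu hzu]
          exact hQz (-u) (by rw [S.Bneg_right, hzu, neg_zero])
        obtain ⟨c, hc⟩ := hAu.2.2.1 z0 huz hmem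
        have hc0 : c ≠ 0 := by
          rintro rfl
          rw [zero_smul] at hc
          exact hz00 hc
        apply hunez
        refine ⟨c⁻¹, ?_⟩
        rw [hc, smul_smul, inv_mul_cancel₀ hc0, one_smul]
      · have hQu := hother u hu0 hu hAu
        have hmem : S.sg p u ∈ H := by
          rw [S.sg_swap hu hp hup]
          exact hQu (-p) (by rw [S.Bneg_right, hup, neg_zero])
        exact hunep (hAp.2.2.1 u hpu hmem)
    exact not_forall_isA S hV hs hm H hall
  -- one of the two points `x, y` has a small `D̃`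
  have kxy := card_Dt_mul_card_Dt_le S H hx0 hy0 hx hy hxy hnot
  rw [hV, e5] at kxy
  have big : ∀ c d : ℕ, 9 * a ≤ c → 9 * a ≤ d → 27 * (a * a) < c * d := by
    intro c d hc hd
    calc 27 * (a * a) < (9 * a) * (9 * a) := by nlinarith
      _ ≤ c * d := Nat.mul_le_mul hc hd
  by_cases hcx : Nat.card (S.Dt H hx) ≤ 3 ^ m
  · exact core x hx0 hx hcx
  · by_cases hcy : Nat.card (S.Dt H hy) ≤ 3 ^ m
    · exact core y hy0 hy hcy
    · have h1x := card_ge_of_not_le S _ hcx
      have h1y := card_ge_of_not_le S _ hcy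
      rw [e2'] at h1x h1y
      have := big _ _ h1x h1y
      omega

end Cfsg.Agent.Lib.Helper11.Om3
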