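import Mathlib
import Cfsg.Prelude.Def_ClassicalGeometry
import Cfsg.Prelude.Def_GeometricClasses
import Cfsg.Agent.Lib.Helper13.DkGen
import Cfsg.Agent.Lib.Helper20.Om7S.Wrap
import Cfsg.Agent.Lib.Helper20.Om7S.KDefs

/-!
S5813 (omega7), subfield block, leaf K7 `k7_uniform` (helper11): the core, with the tools L0b / L0c / L0d of
`notes/Om7S_leaves.lean` as hypotheses.
-/

set_option linter.dupNamespace false
set_option linter.ambiguousOpen false

namespace Cfsg.Agent.Lib.Helper20.Om7S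

set_option autoImplicit false
set_option linter.unusedSectionVars false
set_option linter.unusedVariables false

open Cfsg Matrix QuadraticMap Module Cfsg.Agent.Lib.Helper25.Siegel Cfsg.Agent.Lib.Helper19.OSub
open _root_.Cfsg _root_.Cfsg.Agent.Lib.Helper25.Siegel
open Cfsg.Agent.Lib.Helper26.OSubLeaf
open S7

namespace Cfsg.Agent.Lib.Helper11.Om7SLeaf

variable {ι : Type} [Fintype ι] [DecidableEq ι] {F : Type*} [Field F] [Fintype F]
  {F₀ : Subfield F} {Q : QuadraticForm F (ι → F)} {M : Subgroup (GL ι F)}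

/-- independence of a pair from a separating functional -/
lemma k7_li_pair {a c : ι → F} (ha0 : a ≠ 0) (φ : (ι → F) →ₗ[F] F) (hφa : φ a = 0) (hφc : φ c ≠ 0) :
    LinearIndependent F ![a, c] := by
  rw [LinearIndependent.pair_iff]
  intro s t hst
  have h1 := congrArg φ hst
  rw [map_add, map_smul, map_smul, hφa, smul_zero, zero_add, map_zero, smul_eq_mul] at h1
  have ht : t = 0 := by
    rcases mul_eq_zero.mp h1 with h | h
    · exact h
    · exact absurd h hφc
  rw [ht, zero_smul, add_zero] at hst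
  rcases smul_eq_zero.mp hst with h | h
  · exact ⟨h, ht⟩
  · exact absurd h ha0

/-- step 1: for orthogonal independent rational singular `a, b` the scalars `μ_a`, `μ_b` differ by an element of `F₀`:
`μ_b • g a` is rational. -/
lemma k7_step (h : QCtx F₀ Q)
    (hL0b : ∀ {r₁ r₂ : ι → F}, RatV F₀ r₁ → RatV F₀ r₂ → LinearIndependent F ![r₁, r₂] →
      ∀ {α β : F}, RatV F₀ (α • r₁ + β • r₂) → α ∈ F₀ ∧ β ∈ F₀)
    {g : GL ι F}
    (hpt : ∀ a : ι → F, RatV F₀ a → a ≠ 0 → Q a = 0 → ∃ μ : F, μ ≠ 0 ∧ RatV F₀ (μ • mv g a))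
    {a b : ι → F} (ha : RatV F₀ a) (hb : RatV F₀ b) (hQa : Q a = 0) (hQb : Q b = 0)
    (hab : polar Q a b = 0) (hli : LinearIndependent F ![a, b])
    {μb : F} (hμb0 : μb ≠ 0) (hμb : RatV F₀ (μb • mv g b)) : RatV F₀ (μb • mv g a) := by
  have ha0 : a ≠ 0 := by
    have := hli.ne_zero 0
    simpa using this
  have hb0 : b ≠ 0 := by
    have := hli.ne_zero 1
    simpa using this
  obtain ⟨μa, hμa0, hμa⟩ := hpt a ha ha0 hQa
  have hab0 : a + b ≠ 0 := by
    intro h0
    have := (LinearIndependent.pair_iff.mp hli) 1 1 (by rw [one_smul, one_smul]; exact h0)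
    exact one_ne_zero this.1
  have hQab : Q (a + b) = 0 := by
    rw [QuadraticMap.map_add Q a b, hQa, hQb, hab]; ring
  obtain ⟨μ, hμ0, hμ⟩ := hpt (a + b) (ratV_add ha hb) hab0 hQab
  -- independence of the two rational images
  have hli' : LinearIndependent F ![μa • mv g a, μb • mv g b] := by
    rw [LinearIndependent.pair_iff]
    intro s t hst
    have h1 : mv g ((s * μa) • a + (t * μb) • b) = 0 := by
      rw [mv_add, mv_smul, mv_smul, ← smul_smul, ← smul_smul]
      exact hst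
    have h2 : (s * μa) • a + (t * μb) • b = 0 := by
      apply mv_injective g
      rw [h1, mv_zero]
    have h3 := (LinearIndependent.pair_iff.mp hli) _ _ h2
    exact ⟨(mul_eq_zero.mp h3.1).resolve_right hμa0, (mul_eq_zero.mp h3.2).resolve_right hμb0⟩
  have hcomb : μ • mv g (a + b) = (μ / μa) • (μa • mv g a) + (μ / μb) • (μb • mv g b) := by
    rw [mv_add, smul_add, smul_smul, smul_smul, div_mul_cancel₀ _ hμa0, div_mul_cancel₀ _ hμb0]
  rw [hcomb] at hμ
  obtain ⟨h1, h2⟩ := hL0b hμa hμb hli' hμ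
  -- `μb / μa ∈ F₀`
  have h3 : μb / μa ∈ F₀ := by
    have : μb / μa = (μ / μa) / (μ / μb) := by
      field_simp
    rw [this]
    exact F₀.div_mem h1 h2
  have h4 : μb • mv g a = (μb / μa) • (μa • mv g a) := by
    rw [smul_smul, div_mul_cancel₀ _ hμa0]
  rw [h4]
  exact ratV_smul h3 hμa

/-- K7, core: with L0b, L0c, L0d as hypotheses. -/
theorem k7_core (h : QCtx F₀ Q)
    (hL0b : ∀ {r₁ r₂ : ι → F}, RatV F₀ r₁ → RatV F₀ r₂ → LinearIndependent F ![r₁, r₂] →
      ∀ {α β : F}, RatV F₀ (α • r₁ + β • r₂) → α ∈ F₀ ∧ β ∈ F₀)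
    (hL0c : ∀ {a b : ι → F}, RatV F₀ a → RatV F₀ b →
      ∃ c c' : ι → F, HypPair F₀ Q c c' ∧ polar Q a c = 0 ∧ polar Q a c' = 0 ∧ polar Q b c = 0 ∧
        polar Q b c' = 0)
    (hL0d : ∀ {P : (ι → F) → Prop}, (∀ x y, P x → P y → P (x + y)) →
      (∀ c ∈ F₀, ∀ x, P x → P (c • x)) → (∀ s, RatV F₀ s → Q s = 0 → P s) →
      ∀ x, RatV F₀ x → P x)
    {g : GL ι F}
    (hpt : ∀ a : ι → F, RatV F₀ a → a ≠ 0 → Q a = 0 → ∃ μ : F, μ ≠ 0 ∧ RatV F₀ (μ • mv g a)) :
    g ∈ Cfsg.Geo.subfieldSubgroup F₀ (1 : GL ι F) := by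
  -- the base point
  obtain ⟨fr⟩ := S7.exists_frame h
  set a₀ : ι → F := fr.e 0 with ha₀
  have ha₀r : RatV F₀ a₀ := fr.rat_e 0
  have hQa₀ : Q a₀ = 0 := fr.Qe 0
  have ha₀0 : a₀ ≠ 0 := by
    intro h0
    have := fr.ef 0 0
    rw [if_pos rfl, ← ha₀, h0, polar_zero_left] at this
    exact zero_ne_one this
  obtain ⟨μ₀, hμ₀0, hμ₀⟩ := hpt a₀ ha₀r ha₀0 hQa₀
  -- singular vectors
  have hsing : ∀ s, RatV F₀ s → Q s = 0 → RatV F₀ (μ₀ • mv g s) := by
    intro s hs hQs
    by_cases hs0 : s = 0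
    · rw [hs0, mv_zero, smul_zero]; exact ratV_zero
    obtain ⟨c, c', hcc', hsc, hsc', ha₀c, ha₀c'⟩ := hL0c hs ha₀r
    have hli1 : LinearIndependent F ![a₀, c] := by
      refine k7_li_pair ha₀0 (polarBilin Q |>.flip c') ?_ ?_
      · change polar Q a₀ c' = 0
        exact ha₀c'
      · change polar Q c c' ≠ 0
        rw [hcc'.dd']; exact one_ne_zero
    have hli2 : LinearIndependent F ![s, c] := by
      refine k7_li_pair hs0 (polarBilin Q |>.flip c') ?_ ?_
      · change polar Q s c' = 0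
        exact hsc'
      · change polar Q c c' ≠ 0
        rw [hcc'.dd']; exact one_ne_zero
    have hli1' : LinearIndependent F ![c, a₀] := by
      have := hli1.comp ![1, 0] (by
        intro i j hij
        fin_cases i <;> fin_cases j <;> simp_all)
      convert this using 1
      ext i
      fin_cases i <;> simp
    -- `μ₀ • g c` is rational
    have hc1 : RatV F₀ (μ₀ • mv g c) :=
      k7_step h hL0b hpt hcc'.rat ha₀r hcc'.Qd hQa₀ (by rw [polar_comm]; exact ha₀c) hli1' hμ₀0 hμ₀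
    have hc0 : c ≠ 0 := by
      have := hli1.ne_zero 1
      simpa using this
    -- `μ₀ • g s` is rational
    exact k7_step h hL0b hpt hs hcc'.rat hQs hcc'.Qd hsc hli2 hμ₀0 hc1
  -- all rational vectors
  have hall : ∀ x, RatV F₀ x → RatV F₀ (μ₀ • mv g x) := by
    apply hL0d (P := fun x => RatV F₀ (μ₀ • mv g x))
    · intro x y hx hy
      rw [mv_add, smul_add]
      exact ratV_add hx hy
    · intro c hc x hx
      rw [mv_smul, smul_comm]
      exact ratV_smul hc hx
    · exact hsing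
  apply mem_sub1_of_maps F₀ (inv_ne_zero hμ₀0) g
  intro x hx
  refine ⟨μ₀ • mv g x, hall x hx, ?_⟩
  rw [smul_smul, inv_mul_cancel₀ hμ₀0, one_smul]

end Cfsg.Agent.Lib.Helper11.Om7SLeaf

end Cfsg.Agent.Lib.Helper20.Om7S
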