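import Mathlib
import Cfsg.Prelude.Def_ClassicalGeometry
import Cfsg.Prelude.Def_GeometricClasses
import Cfsg.Agent.Lib.Helper13.DkGen
import Cfsg.Agent.Lib.Helper20.Om7S.Wrap
import Cfsg.Agent.Lib.Helper20.Om7S.KDefs
import Cfsg.Agent.Lib.Helper23.Om7SL0
import Cfsg.Agent.Lib.Helper22.Om7SL0cd
import Cfsg.Agent.Lib.Helper11.Om7SK7Core

/-!
S5813 (omega7), subfield block, leaf K7 `k7_uniform` (helper11): exact signature of `notes/Om7S_leaves.lean`, on the core
`k7_core` + L0b (helper23) + L0c, L0d (helper22).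
-/

set_option linter.dupNamespace false
set_option linter.ambiguousOpen false

namespace Cfsg.Agent.Lib.Helper20.Om7S

set_option autoImplicit false
set_option linter.unusedSectionVars false
set_option linter.unusedVariables false

open Cfsg Matrix QuadraticMap Module Cfsg.Agent.Lib.Helper25.Siegel Cfsg.Agent.Lib.Helper19.OSub
open _root_.Cfsg _root_.Cfsg.Agent.Lib.Helper25.Siegel
open Cfsg.Agent.Lib.Helper26.OSubLeaf
open S7

namespace Cfsg.Agent.Lib.Helper11.Om7SLeaf

variable {ι : Type} [Fintype ι] [DecidableEq ι] {F : Type*} [Field F] [Fintype F]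
  {F₀ : Subfield F} {Q : QuadraticForm F (ι → F)} {M : Subgroup (GL ι F)}

/-- K7: a linear map which sends every rational singular point to a rational point is a scalar times a rational
matrix. -/
theorem k7_uniform (h : QCtx F₀ Q) {g : GL ι F}
    (hpt : ∀ a : ι → F, RatV F₀ a → a ≠ 0 → Q a = 0 → ∃ μ : F, μ ≠ 0 ∧ RatV F₀ (μ • mv g a)) :
    g ∈ Cfsg.Geo.subfieldSubgroup F₀ (1 : GL ι F) :=
  k7_core h
    (fun h₁ h₂ hli _ _ hr => Cfsg.Agent.Lib.Helper23.Om7SLeaf.coeff_rat h₁ h₂ hli hr)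
    (fun ha hb => Cfsg.Agent.Lib.Helper22.Om7SLeaf.exists_perp_pair h ha hb)
    (fun hadd hsmul hsing => Cfsg.Agent.Lib.Helper22.Om7SLeaf.rat_induction h hadd hsmul hsing)
    hpt

end Cfsg.Agent.Lib.Helper11.Om7SLeaf

end Cfsg.Agent.Lib.Helper20.Om7S
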