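import Mathlib
import Cfsg.Agent.Lib.Helper18.OrthAutK

/-!
helper11: abstract computations with Siegel transformations for the two-generation of `Ω⁻`:
Weyl-type triple products of long and short root elements.
-/

set_option autoImplicit false
set_option linter.unusedSimpArgs false
set_option linter.unusedSectionVars false
set_option linter.unusedVariables false
set_option linter.unnecessarySeqFocus false

namespace Cfsg.Agent.Lib.Helper11.OmGen

open QuadraticMap Cfsg.Agent.Lib.Helper18.OrthAut

section abstract

variable {F : Type*} [Field F] {V : Type*} [AddCommGroup V] [Module F V] (Q : QuadraticForm F V)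

theorem polar_self_of_sing {u : V} (hu : Q u = 0) : polar Q u u = 0 := by
  rw [polar_self2, hu, mul_zero]

/-- value of a Siegel transformation with singular second argument -/
theorem siegT_sing {u w : V} (hw : Q w = 0) (x : V) :
    siegT Q u w x = x + polar Q u x • w - polar Q w x • u := by
  unfold siegT
  rw [hw, zero_mul, zero_smul, sub_zero]

/-- the long root Weyl triple `T_{u,v'} T_{v,-u'} T_{u,v'}` -/
def longW (u u' v v' : V) (x : V) : V :=
  siegT Q u v' (siegT Q v (-u') (siegT Q u v' x))

section long
variable {u u' v v' : V} (hu : Q u = 0) (hu' : Q u' = 0) (hv : Q v = 0) (hv' : Q v' = 0)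
  (huu' : polar Q u u' = 1) (hvv' : polar Q v v' = 1) (huv : polar Q u v = 0)
  (huv' : polar Q u v' = 0) (hu'v : polar Q u' v = 0) (hu'v' : polar Q u' v' = 0)

include hu hu' hv hv' huu' hvv' huv huv' hu'v hu'v'

theorem longW_u : longW Q u u' v v' u = v := by
  unfold longW
  have hnu' : Q (-u') = 0 := by rw [QuadraticMap.map_neg, hu']
  simp only [siegT_sing Q hv', siegT_sing Q hnu', polar_add_right, polar_sub_right,
    polar_smul_right, polar_neg_left, polar_neg_right, polar_self_of_sing Q hu,
    polar_self_of_sing Q hv, polar_self_of_sing Q hu', polar_self_of_sing Q hv', huu', hvv', huv,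
    huv', hu'v, hu'v', polar_comm Q v' u, polar_comm Q v u, polar_comm Q u' u, polar_comm Q v' v,
    polar_comm Q v u', polar_comm Q v' u', smul_eq_mul]
  module

theorem longW_v : longW Q u u' v v' v = -u := by
  unfold longW
  have hnu' : Q (-u') = 0 := by rw [QuadraticMap.map_neg, hu']
  simp only [siegT_sing Q hv', siegT_sing Q hnu', polar_add_right, polar_sub_right,
    polar_smul_right, polar_neg_left, polar_neg_right, polar_self_of_sing Q hu,
    polar_self_of_sing Q hv, polar_self_of_sing Q hu', polar_self_of_sing Q hv', huu', hvv', huv,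
    huv', hu'v, hu'v', polar_comm Q v' u, polar_comm Q v u, polar_comm Q u' u, polar_comm Q v' v,
    polar_comm Q v u', polar_comm Q v' u', smul_eq_mul]
  module

theorem longW_u' : longW Q u u' v v' u' = v' := by
  unfold longW
  have hnu' : Q (-u') = 0 := by rw [QuadraticMap.map_neg, hu']
  simp only [siegT_sing Q hv', siegT_sing Q hnu', polar_add_right, polar_sub_right,
    polar_smul_right, polar_neg_left, polar_neg_right, polar_self_of_sing Q hu,
    polar_self_of_sing Q hv, polar_self_of_sing Q hu', polar_self_of_sing Q hv', huu', hvv', huv,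
    huv', hu'v, hu'v', polar_comm Q v' u, polar_comm Q v u, polar_comm Q u' u, polar_comm Q v' v,
    polar_comm Q v u', polar_comm Q v' u', smul_eq_mul]
  module

theorem longW_v' : longW Q u u' v v' v' = -u' := by
  unfold longW
  have hnu' : Q (-u') = 0 := by rw [QuadraticMap.map_neg, hu']
  simp only [siegT_sing Q hv', siegT_sing Q hnu', polar_add_right, polar_sub_right,
    polar_smul_right, polar_neg_left, polar_neg_right, polar_self_of_sing Q hu,
    polar_self_of_sing Q hv, polar_self_of_sing Q hu', polar_self_of_sing Q hv', huu', hvv', huv,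
    huv', hu'v, hu'v', polar_comm Q v' u, polar_comm Q v u, polar_comm Q u' u, polar_comm Q v' v,
    polar_comm Q v u', polar_comm Q v' u', smul_eq_mul]
  module

omit huu' hvv' huv huv' hu'v hu'v' in
theorem longW_fix {z : V} (h1 : polar Q u z = 0) (h2 : polar Q u' z = 0) (h3 : polar Q v z = 0)
    (h4 : polar Q v' z = 0) : longW Q u u' v v' z = z := by
  unfold longW
  have hnu' : Q (-u') = 0 := by rw [QuadraticMap.map_neg, hu']
  simp only [siegT_sing Q hv', siegT_sing Q hnu', polar_add_right, polar_sub_right,
    polar_smul_right, polar_neg_left, polar_neg_right, h1, h2, h3, h4, smul_eq_mul]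
  module

end long


/-- reflection in an anisotropic vector (as a plain map) -/
def refl (w : V) (z : V) : V := z - ((Q w)⁻¹ * polar Q w z) • w

theorem refl_refl {w : V} (hw : Q w ≠ 0) (z : V) : refl Q w (refl Q w z) = z := by
  unfold refl
  rw [polar_sub_right, polar_smul_right, polar_self2, smul_eq_mul]
  match_scalars <;> field_simp <;> ring

theorem refl_smul {w : V} {c : F} (hc : c ≠ 0) (z : V) : refl Q (c • w) z = refl Q w z := by
  unfold refl
  rw [QuadraticMap.map_smul, polar_smul_left, smul_eq_mul, smul_eq_mul, smul_smul]
  congr 2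
  by_cases hw : Q w = 0
  · rw [hw]; simp
  · field_simp

theorem refl_add (w z z' : V) : refl Q w (z + z') = refl Q w z + refl Q w z' := by
  unfold refl
  rw [polar_add_right]
  module

theorem refl_smul_arg (w : V) (c : F) (z : V) : refl Q w (c • z) = c • refl Q w z := by
  unfold refl
  rw [polar_smul_right, smul_eq_mul]
  module

theorem Q_refl {w : V} (hw : Q w ≠ 0) (z : V) : Q (refl Q w z) = Q z := by
  unfold refl
  have e : z - ((Q w)⁻¹ * polar Q w z) • w = z + (-((Q w)⁻¹ * polar Q w z)) • w := by module
  rw [e, Cfsg.Agent.Lib.Helper25.MaxTS.Q_add_smul, polar_comm Q z w]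
  field_simp
  ring

/-- the short root Weyl triple `T_{e,w} T_{f,w/Q(w)} T_{e,w}` -/
def shortW (e f w : V) (x : V) : V :=
  siegT Q e w (siegT Q f ((Q w)⁻¹ • w) (siegT Q e w x))

section short
variable {e f w : V} (he : Q e = 0) (hf : Q f = 0) (hef : polar Q e f = 1)
  (hew : polar Q e w = 0) (hfw : polar Q f w = 0) (hw : Q w ≠ 0)

include he hf hef hew hfw hw

theorem shortW_e : shortW Q e f w e = (-(Q w)⁻¹) • f := by
  unfold shortW siegT
  simp only [polar_add_right, polar_sub_right, polar_smul_right, polar_smul_left,
    polar_self_of_sing Q he, polar_self_of_sing Q hf, polar_self2 Q w, hef, hew, hfw,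
    polar_comm Q f e, polar_comm Q w e, polar_comm Q w f, smul_eq_mul, QuadraticMap.map_smul]
  match_scalars <;> field_simp <;> ring

theorem shortW_f : shortW Q e f w f = (-(Q w)) • e := by
  unfold shortW siegT
  simp only [polar_add_right, polar_sub_right, polar_smul_right, polar_smul_left,
    polar_self_of_sing Q he, polar_self_of_sing Q hf, polar_self2 Q w, hef, hew, hfw,
    polar_comm Q f e, polar_comm Q w e, polar_comm Q w f, smul_eq_mul, QuadraticMap.map_smul]
  match_scalars <;> field_simp <;> ring

theorem shortW_perp {z : V} (h1 : polar Q e z = 0) (h2 : polar Q f z = 0) :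
    shortW Q e f w z = refl Q w z := by
  unfold shortW siegT refl
  simp only [polar_add_right, polar_sub_right, polar_smul_right, polar_smul_left,
    polar_self_of_sing Q he, polar_self_of_sing Q hf, polar_self2 Q w, hef, hew, hfw, h1, h2,
    polar_comm Q f e, polar_comm Q w e, polar_comm Q w f, smul_eq_mul, QuadraticMap.map_smul]
  match_scalars <;> field_simp <;> ring

end short

end abstract

end Cfsg.Agent.Lib.Helper11.OmGen
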