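import Mathlib
import Cfsg.Agent.Lib.Helper11.OmGenA
import Cfsg.Agent.Lib.Helper14.OrthMinus
import Cfsg.Agent.Lib.Helper25.SpinForms

/-!
helper11: concrete set-up for the two-generation of `Ω⁻_{2n+2}(q)`: the quadratic form
`quadFormMinus n F a b` as a `QuadraticForm`, its standard basis vectors, polar values, and a total
wrapper `X u w` for the Siegel elements of `Ω`.
-/

set_option autoImplicit false
set_option linter.unusedSimpArgs false
set_option linter.unusedSectionVars false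
set_option linter.unusedVariables false
set_option linter.unnecessarySeqFocus false

namespace Cfsg.Agent.Lib.Helper11.OmGen

open QuadraticMap Cfsg.Agent.Lib.Helper18.OrthAut Cfsg.Agent.Lib.Helper14.OrthMinus
  Cfsg.Agent.Lib.Helper25.Spin Cfsg.Agent.Lib.Helper25.CD

variable {F : Type*} [Field F] (n : ℕ) (a b : F) (hD : a ^ 2 - 4 * b ≠ 0)

/-- the minus form as a quadratic form -/
noncomputable def Qm : QuadraticForm F (Idx n → F) := qfOf (isQF_minus (n := n) hD)

theorem Qm_apply (v : Idx n → F) : Qm n a b hD v = Cfsg.quadFormMinus n F a b v := rfl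

theorem polar_Qm (u v : Idx n → F) : polar (Qm n a b hD) u v = minusPolar n F a b u v :=
  polar_qfOf _ u v

theorem Qm_nondeg : (polarBilin (Qm n a b hD)).Nondegenerate := qfOf_nondeg _

theorem card_Idx : Fintype.card (Idx n) = 2 * n + 2 := by
  simp [Idx]; ring

/-- `e_j` (zero outside the range) -/
def E (j : ℕ) : Idx n → F :=
  if h : j < n then Pi.single (Sum.inl (Sum.inl ⟨j, h⟩)) 1 else 0

/-- `f_j` (zero outside the range) -/
def Fv (j : ℕ) : Idx n → F :=
  if h : j < n then Pi.single (Sum.inl (Sum.inr ⟨j, h⟩)) 1 else 0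

/-- vectors of the anisotropic plane -/
def wV (z₁ z₂ : F) : Idx n → F := fun k =>
  match k with
  | Sum.inl _ => 0
  | Sum.inr i => if i = 0 then z₁ else z₂

/-- membership in the anisotropic plane -/
def InWW (w : Idx n → F) : Prop := ∀ i, w (Sum.inl i) = 0

variable {n}

theorem E_of_lt {j : ℕ} (h : j < n) :
    (E n j : Idx n → F) = Pi.single (Sum.inl (Sum.inl ⟨j, h⟩)) 1 := by
  unfold E; rw [dif_pos h]

theorem Fv_of_lt {j : ℕ} (h : j < n) :
    (Fv n j : Idx n → F) = Pi.single (Sum.inl (Sum.inr ⟨j, h⟩)) 1 := by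
  unfold Fv; rw [dif_pos h]

theorem inWW_wV (z₁ z₂ : F) : InWW n (wV n z₁ z₂) := fun _ => rfl

theorem eq_wV_of_inWW {w : Idx n → F} (h : InWW n w) :
    w = wV n (w (Sum.inr 0)) (w (Sum.inr 1)) := by
  funext k
  rcases k with i | i
  · exact h i
  · fin_cases i <;> simp [wV]

theorem InWW.add {w w' : Idx n → F} (h : InWW n w) (h' : InWW n w') : InWW n (w + w') := by
  intro i; rw [Pi.add_apply, h i, h' i, add_zero]

theorem InWW.smul {w : Idx n → F} (h : InWW n w) (c : F) : InWW n (c • w) := by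
  intro i; rw [Pi.smul_apply, h i, smul_zero]

theorem InWW.neg {w : Idx n → F} (h : InWW n w) : InWW n (-w) := by
  intro i; rw [Pi.neg_apply, h i, neg_zero]

theorem InWW.sub {w w' : Idx n → F} (h : InWW n w) (h' : InWW n w') : InWW n (w - w') := by
  intro i; rw [Pi.sub_apply, h i, h' i, sub_zero]

theorem InWW.zero : InWW n (0 : Idx n → F) := fun _ => rfl

theorem polar_E {j : ℕ} (h : j < n) (x : Idx n → F) :
    polar (Qm n a b hD) (E n j) x = x (Sum.inl (Sum.inr ⟨j, h⟩)) := by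
  rw [polar_Qm, E_of_lt h]
  unfold minusPolar
  simp [Pi.single_apply, Finset.sum_ite_eq']

theorem polar_Fv {j : ℕ} (h : j < n) (x : Idx n → F) :
    polar (Qm n a b hD) (Fv n j) x = x (Sum.inl (Sum.inl ⟨j, h⟩)) := by
  rw [polar_Qm, Fv_of_lt h]
  unfold minusPolar
  simp [Pi.single_apply, Finset.sum_ite_eq']

theorem polar_inWW {w : Idx n → F} (hw : InWW n w) (x : Idx n → F) :
    polar (Qm n a b hD) w x = 2 * w (Sum.inr 0) * x (Sum.inr 0) +
      a * (w (Sum.inr 0) * x (Sum.inr 1) + w (Sum.inr 1) * x (Sum.inr 0)) +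
      2 * b * w (Sum.inr 1) * x (Sum.inr 1) := by
  rw [polar_Qm]
  unfold minusPolar
  rw [Finset.sum_eq_zero, zero_add]
  intro i _
  rw [hw, hw]; ring

theorem Q_E (j : ℕ) : Qm n a b hD (E n j) = 0 := by
  by_cases h : j < n
  · rw [Qm_apply, E_of_lt h]
    unfold Cfsg.quadFormMinus
    simp [Pi.single_apply]
  · unfold E; rw [dif_neg h, map_zero]

theorem Q_Fv (j : ℕ) : Qm n a b hD (Fv n j) = 0 := by
  by_cases h : j < n
  · rw [Qm_apply, Fv_of_lt h]
    unfold Cfsg.quadFormMinus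
    simp [Pi.single_apply]
  · unfold Fv; rw [dif_neg h, map_zero]

theorem Q_inWW {w : Idx n → F} (hw : InWW n w) :
    Qm n a b hD w = w (Sum.inr 0) ^ 2 + a * w (Sum.inr 0) * w (Sum.inr 1) +
      b * w (Sum.inr 1) ^ 2 := by
  rw [Qm_apply]
  unfold Cfsg.quadFormMinus
  rw [Finset.sum_eq_zero, zero_add]
  intro i _
  rw [hw, zero_mul]

theorem polar_E_E (i j : ℕ) : polar (Qm n a b hD) (E n i) (E n j) = 0 := by
  by_cases hi : i < n
  · rw [polar_E a b hD hi]
    by_cases hj : j < n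
    · rw [E_of_lt hj]; simp
    · unfold E; rw [dif_neg hj]; rfl
  · unfold E; rw [dif_neg hi, polar_zero_left]

theorem polar_Fv_Fv (i j : ℕ) : polar (Qm n a b hD) (Fv n i) (Fv n j) = 0 := by
  by_cases hi : i < n
  · rw [polar_Fv a b hD hi]
    by_cases hj : j < n
    · rw [Fv_of_lt hj]; simp
    · unfold Fv; rw [dif_neg hj]; rfl
  · unfold Fv; rw [dif_neg hi, polar_zero_left]

theorem polar_E_Fv_self {i : ℕ} (hi : i < n) : polar (Qm n a b hD) (E n i) (Fv n i) = 1 := by
  rw [polar_E a b hD hi, Fv_of_lt hi]; simp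

theorem polar_E_Fv_ne {i j : ℕ} (hij : i ≠ j) : polar (Qm n a b hD) (E n i) (Fv n j) = 0 := by
  by_cases hi : i < n
  · rw [polar_E a b hD hi]
    by_cases hj : j < n
    · rw [Fv_of_lt hj, Pi.single_apply, if_neg]
      intro h
      have := Sum.inr.inj (Sum.inl.inj h)
      exact hij (congrArg Fin.val this)
    · unfold Fv; rw [dif_neg hj]; rfl
  · unfold E; rw [dif_neg hi, polar_zero_left]

theorem polar_Fv_E_self {i : ℕ} (hi : i < n) : polar (Qm n a b hD) (Fv n i) (E n i) = 1 := by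
  rw [polar_comm, polar_E_Fv_self a b hD hi]

theorem polar_Fv_E_ne {i j : ℕ} (hij : i ≠ j) : polar (Qm n a b hD) (Fv n i) (E n j) = 0 := by
  rw [polar_comm, polar_E_Fv_ne a b hD (Ne.symm hij)]

theorem polar_E_inWW (i : ℕ) {w : Idx n → F} (hw : InWW n w) :
    polar (Qm n a b hD) (E n i) w = 0 := by
  by_cases hi : i < n
  · rw [polar_E a b hD hi, hw]
  · unfold E; rw [dif_neg hi, polar_zero_left]

theorem polar_Fv_inWW (i : ℕ) {w : Idx n → F} (hw : InWW n w) :
    polar (Qm n a b hD) (Fv n i) w = 0 := by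
  by_cases hi : i < n
  · rw [polar_Fv a b hD hi, hw]
  · unfold Fv; rw [dif_neg hi, polar_zero_left]

theorem polar_inWW_E (i : ℕ) {w : Idx n → F} (hw : InWW n w) :
    polar (Qm n a b hD) w (E n i) = 0 := by
  rw [polar_comm, polar_E_inWW a b hD i hw]

theorem polar_inWW_Fv (i : ℕ) {w : Idx n → F} (hw : InWW n w) :
    polar (Qm n a b hD) w (Fv n i) = 0 := by
  rw [polar_comm, polar_Fv_inWW a b hD i hw]

end Cfsg.Agent.Lib.Helper11.OmGen
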