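import Mathlib
import Cfsg.Agent.Lib.Helper11.OmGenB

/-!
helper11: a total wrapper `X u w` for the Siegel elements of `Ω(Q)` (general `Q`), conjugation,
additivity, and the long/short Weyl triples as elements of `Ω`.
-/

set_option autoImplicit false
set_option linter.unusedSimpArgs false
set_option linter.unusedSectionVars false
set_option linter.unusedVariables false
set_option linter.unnecessarySeqFocus false

namespace Cfsg.Agent.Lib.Helper11.OmGen

open QuadraticMap Cfsg.Agent.Lib.Helper18.OrthAut Cfsg.Agent.Lib.Helper25.CD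
  Cfsg.Agent.Lib.Helper25.PS

section wrapper

variable {ι : Type} [Fintype ι] [DecidableEq ι] {F : Type*} [Field F] [Fintype F]
  (Q : QuadraticForm F (ι → F)) (hQ : (polarBilin Q).Nondegenerate) (hn : 7 ≤ Fintype.card ι)

open Classical in
/-- total version of the Siegel elements of `Ω` -/
noncomputable def X (u w : ι → F) : ↥(Cfsg.Omega F ⇑Q) :=
  if h : Q u = 0 ∧ polar Q u w = 0 then TO Q hQ hn u w h.1 h.2 else 1

theorem X_eq {u w : ι → F} (hu : Q u = 0) (huw : polar Q u w = 0) :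
    X Q hQ hn u w = TO Q hQ hn u w hu huw := by
  unfold X; rw [dif_pos ⟨hu, huw⟩]

/-- the action of an element of `Ω` on vectors -/
noncomputable def act (k : ↥(Cfsg.Omega F ⇑Q)) (x : ι → F) : ι → F := toOG Q k.1 x

theorem act_mul (k k' : ↥(Cfsg.Omega F ⇑Q)) (x : ι → F) :
    act Q (k * k') x = act Q k (act Q k' x) := by
  unfold act
  rw [Subgroup.coe_mul, map_mul, LinearEquiv.mul_apply]

theorem act_one (x : ι → F) : act Q (1 : ↥(Cfsg.Omega F ⇑Q)) x = x := by
  unfold act
  rw [Subgroup.coe_one, map_one]; rfl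

theorem act_inv_act (k : ↥(Cfsg.Omega F ⇑Q)) (x : ι → F) : act Q k⁻¹ (act Q k x) = x := by
  rw [← act_mul, inv_mul_cancel, act_one]

theorem act_act_inv (k : ↥(Cfsg.Omega F ⇑Q)) (x : ι → F) : act Q k (act Q k⁻¹ x) = x := by
  rw [← act_mul, mul_inv_cancel, act_one]

theorem act_add (k : ↥(Cfsg.Omega F ⇑Q)) (x y : ι → F) :
    act Q k (x + y) = act Q k x + act Q k y := map_add _ _ _

theorem act_smul (k : ↥(Cfsg.Omega F ⇑Q)) (c : F) (x : ι → F) :
    act Q k (c • x) = c • act Q k x := map_smul _ _ _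

theorem act_neg (k : ↥(Cfsg.Omega F ⇑Q)) (x : ι → F) : act Q k (-x) = -act Q k x := map_neg _ _

theorem act_sub (k : ↥(Cfsg.Omega F ⇑Q)) (x y : ι → F) :
    act Q k (x - y) = act Q k x - act Q k y := map_sub _ _ _

theorem act_zero (k : ↥(Cfsg.Omega F ⇑Q)) : act Q k (0 : ι → F) = 0 := map_zero _

theorem Q_act (k : ↥(Cfsg.Omega F ⇑Q)) (x : ι → F) : Q (act Q k x) = Q x := Q_toOG Q k.1 x

theorem polar_act (k : ↥(Cfsg.Omega F ⇑Q)) (x y : ι → F) :
    polar Q (act Q k x) (act Q k y) = polar Q x y := polar_toOG Q k.1 x y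

theorem act_injective (k : ↥(Cfsg.Omega F ⇑Q)) : Function.Injective (act Q k) :=
  (toOG Q k.1).injective

theorem ext_act {k k' : ↥(Cfsg.Omega F ⇑Q)} (h : ∀ x, act Q k x = act Q k' x) : k = k' := by
  apply Subtype.ext
  apply toOG_injective Q
  ext1 x
  exact h x

theorem act_X {u w : ι → F} (hu : Q u = 0) (huw : polar Q u w = 0) (x : ι → F) :
    act Q (X Q hQ hn u w) x = siegT Q u w x := by
  unfold act
  rw [X_eq Q hQ hn hu huw, TO_val, toOG_TG]

theorem X_conj (k : ↥(Cfsg.Omega F ⇑Q)) (u w : ι → F) :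
    k * X Q hQ hn u w * k⁻¹ = X Q hQ hn (act Q k u) (act Q k w) := by
  by_cases h : Q u = 0 ∧ polar Q u w = 0
  · have h' : Q (act Q k u) = 0 ∧ polar Q (act Q k u) (act Q k w) = 0 := by
      rw [Q_act, polar_act]; exact h
    rw [X_eq Q hQ hn h.1 h.2, X_eq Q hQ hn h'.1 h'.2]
    apply Subtype.ext
    rw [Subgroup.coe_mul, Subgroup.coe_mul, Subgroup.coe_inv, TO_val, TO_val, conj_TG]
    rfl
  · have h' : ¬ (Q (act Q k u) = 0 ∧ polar Q (act Q k u) (act Q k w) = 0) := by
      rw [Q_act, polar_act]; exact h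
    unfold X
    rw [dif_neg h, dif_neg h', mul_one, mul_inv_cancel]

theorem X_add {u w w' : ι → F} (hu : Q u = 0) (huw : polar Q u w = 0) (huw' : polar Q u w' = 0) :
    X Q hQ hn u (w + w') = X Q hQ hn u w * X Q hQ hn u w' := by
  have h : polar Q u (w + w') = 0 := by rw [polar_add_right, huw, huw', add_zero]
  rw [X_eq Q hQ hn hu huw, X_eq Q hQ hn hu huw', X_eq Q hQ hn hu h, TO_mul]

theorem X_zero (u : ι → F) : X Q hQ hn u 0 = 1 := by
  by_cases hu : Q u = 0
  · rw [X_eq Q hQ hn hu (by simp), TO_zero]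
  · unfold X; rw [dif_neg (fun h => hu h.1)]

theorem X_neg {u w : ι → F} (hu : Q u = 0) (huw : polar Q u w = 0) :
    X Q hQ hn u (-w) = (X Q hQ hn u w)⁻¹ := by
  have h : polar Q u (-w) = 0 := by rw [polar_neg_right, huw, neg_zero]
  rw [X_eq Q hQ hn hu huw, X_eq Q hQ hn hu h, TO_inv]

theorem X_smul_left {u w : ι → F} (hu : Q u = 0) (huw : polar Q u w = 0) (c : F) :
    X Q hQ hn (c • u) w = X Q hQ hn u (c • w) := by
  have h1 : Q (c • u) = 0 := by rw [QuadraticMap.map_smul, hu, smul_zero]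
  have h2 : polar Q (c • u) w = 0 := by rw [polar_smul_left, huw, smul_zero]
  have h3 : polar Q u (c • w) = 0 := by rw [polar_smul_right, huw, smul_zero]
  rw [X_eq Q hQ hn h1 h2, X_eq Q hQ hn hu h3]
  apply Subtype.ext
  rw [TO_val, TO_val]
  exact TG_smul_left Q hu huw c

theorem X_neg_left {u w : ι → F} (hu : Q u = 0) (huw : polar Q u w = 0) :
    X Q hQ hn (-u) w = X Q hQ hn u (-w) := by
  have := X_smul_left Q hQ hn hu huw (-1)
  rwa [neg_one_smul, neg_one_smul] at this

theorem X_comm {u w w' : ι → F} (hu : Q u = 0) (huw : polar Q u w = 0) (huw' : polar Q u w' = 0) :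
    X Q hQ hn u w * X Q hQ hn u w' = X Q hQ hn u w' * X Q hQ hn u w := by
  rw [← X_add Q hQ hn hu huw huw', ← X_add Q hQ hn hu huw' huw, add_comm]

theorem X_smul_self {u : ι → F} (hu : Q u = 0) (c : F) : X Q hQ hn u (c • u) = 1 := by
  have h : polar Q u (c • u) = 0 := by rw [polar_smul_right, polar_self_of_sing Q hu, smul_zero]
  rw [X_eq Q hQ hn hu h]
  apply Subtype.ext
  rw [TO_val, TG_smul_self]
  rfl

/-- the long Weyl triple as an element of `Ω` -/
noncomputable def longE (u u' v v' : ι → F) : ↥(Cfsg.Omega F ⇑Q) :=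
  X Q hQ hn u v' * X Q hQ hn v (-u') * X Q hQ hn u v'

/-- the short Weyl triple as an element of `Ω` -/
noncomputable def shortE (e f w : ι → F) : ↥(Cfsg.Omega F ⇑Q) :=
  X Q hQ hn e w * X Q hQ hn f ((Q w)⁻¹ • w) * X Q hQ hn e w

theorem act_longE {u u' v v' : ι → F} (hu : Q u = 0) (hv : Q v = 0)
    (huv' : polar Q u v' = 0) (hu'v : polar Q u' v = 0) (x : ι → F) :
    act Q (longE Q hQ hn u u' v v') x = longW Q u u' v v' x := by
  unfold longE longW
  have h : polar Q v (-u') = 0 := by rw [polar_neg_right, polar_comm, hu'v, neg_zero]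
  rw [act_mul, act_mul, act_X Q hQ hn hu huv', act_X Q hQ hn hv h, act_X Q hQ hn hu huv']

theorem act_shortE {e f w : ι → F} (he : Q e = 0) (hf : Q f = 0)
    (hew : polar Q e w = 0) (hfw : polar Q f w = 0) (x : ι → F) :
    act Q (shortE Q hQ hn e f w) x = shortW Q e f w x := by
  unfold shortE shortW
  have h : polar Q f ((Q w)⁻¹ • w) = 0 := by rw [polar_smul_right, hfw, smul_zero]
  rw [act_mul, act_mul, act_X Q hQ hn he hew, act_X Q hQ hn hf h, act_X Q hQ hn he hew]

/-- a long root element as a commutator of short root elements -/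
theorem long_of_short (H : Subgroup ↥(Cfsg.Omega F ⇑Q)) {u u' w w' : ι → F} (hu : Q u = 0)
    (hu' : Q u' = 0) (huu' : polar Q u u' = 0) (huw : polar Q u w = 0) (huw' : polar Q u w' = 0)
    (hu'w : polar Q u' w = 0) (hu'w' : polar Q u' w' = 0)
    (h1 : X Q hQ hn u w ∈ H) (h2 : X Q hQ hn u' w' ∈ H) :
    X Q hQ hn u' ((-polar Q w w') • u) ∈ H := by
  have hc := X_conj Q hQ hn (X Q hQ hn u w) u' w'
  have e1 : act Q (X Q hQ hn u w) u' = u' := by
    rw [act_X Q hQ hn hu huw]
    unfold siegT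
    rw [huu', polar_comm Q w u', hu'w]
    simp
  have e2 : act Q (X Q hQ hn u w) w' = w' + (-polar Q w w') • u := by
    rw [act_X Q hQ hn hu huw]
    unfold siegT
    rw [huw']
    simp
    module
  rw [e1, e2] at hc
  have h3 : polar Q u' ((-polar Q w w') • u) = 0 := by
    rw [polar_smul_right, polar_comm Q u' u, huu', smul_zero]
  rw [X_add Q hQ hn hu' hu'w' h3] at hc
  have : X Q hQ hn u' ((-polar Q w w') • u) =
      (X Q hQ hn u' w')⁻¹ * (X Q hQ hn u w * X Q hQ hn u' w' * (X Q hQ hn u w)⁻¹) := by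
    rw [hc]; group
  rw [this]
  exact H.mul_mem (H.inv_mem h2) (H.mul_mem (H.mul_mem h1 h2) (H.inv_mem h1))

end wrapper

end Cfsg.Agent.Lib.Helper11.OmGen
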