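import Mathlib
import Cfsg.Agent.Lib.Helper11.OmGenC

/-!
helper11: the Weyl-type elements of `Ω⁻_{2n+2}(q)` and their action on the standard basis:
long triples `mW k`, the cycle `Cyc k`, short triples `sW i w`.
-/

set_option autoImplicit false
set_option linter.unusedSimpArgs false
set_option linter.unusedSectionVars false
set_option linter.unusedVariables false
set_option linter.unnecessarySeqFocus false

namespace Cfsg.Agent.Lib.Helper11.OmGen

open QuadraticMap Cfsg.Agent.Lib.Helper18.OrthAut Cfsg.Agent.Lib.Helper14.OrthMinus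
  Cfsg.Agent.Lib.Helper25.CD Cfsg.Agent.Lib.Helper25.PS

variable {F : Type*} [Field F] [Fintype F] {n : ℕ} (a b : F) (hD : a ^ 2 - 4 * b ≠ 0)
  (h7 : 7 ≤ Fintype.card (Idx n))

/-- Siegel elements of `Ω⁻` -/
noncomputable abbrev XX (u w : Idx n → F) : ↥(Cfsg.Omega F ⇑(Qm n a b hD)) :=
  X (Qm n a b hD) (Qm_nondeg n a b hD) h7 u w

/-- the long Weyl triple moving the pair `k` to the pair `k+1` -/
noncomputable def mW (k : ℕ) : ↥(Cfsg.Omega F ⇑(Qm n a b hD)) :=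
  longE (Qm n a b hD) (Qm_nondeg n a b hD) h7 (E n k) (Fv n k) (E n (k + 1)) (Fv n (k + 1))

theorem act_mW (k : ℕ) (x : Idx n → F) :
    act (Qm n a b hD) (mW a b hD h7 k) x =
      longW (Qm n a b hD) (E n k) (Fv n k) (E n (k + 1)) (Fv n (k + 1)) x := by
  unfold mW
  exact act_longE _ _ _ (Q_E a b hD k) (Q_E a b hD (k + 1))
    (polar_E_Fv_ne a b hD (by omega)) (polar_Fv_E_ne a b hD (by omega)) x

section mWfacts
variable {k : ℕ} (hk : k + 1 < n)
include hk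

theorem act_mW_E_self : act (Qm n a b hD) (mW a b hD h7 k) (E n k) = E n (k + 1) := by
  rw [act_mW]
  exact longW_u _ (Q_E a b hD k) (Q_Fv a b hD k) (Q_E a b hD _) (Q_Fv a b hD _)
    (polar_E_Fv_self a b hD (by omega)) (polar_E_Fv_self a b hD hk) (polar_E_E a b hD _ _)
    (polar_E_Fv_ne a b hD (by omega)) (polar_Fv_E_ne a b hD (by omega)) (polar_Fv_Fv a b hD _ _)

theorem act_mW_E_succ : act (Qm n a b hD) (mW a b hD h7 k) (E n (k + 1)) = -E n k := by
  rw [act_mW]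
  exact longW_v _ (Q_E a b hD k) (Q_Fv a b hD k) (Q_E a b hD _) (Q_Fv a b hD _)
    (polar_E_Fv_self a b hD (by omega)) (polar_E_Fv_self a b hD hk) (polar_E_E a b hD _ _)
    (polar_E_Fv_ne a b hD (by omega)) (polar_Fv_E_ne a b hD (by omega)) (polar_Fv_Fv a b hD _ _)

theorem act_mW_Fv_self : act (Qm n a b hD) (mW a b hD h7 k) (Fv n k) = Fv n (k + 1) := by
  rw [act_mW]
  exact longW_u' _ (Q_E a b hD k) (Q_Fv a b hD k) (Q_E a b hD _) (Q_Fv a b hD _)
    (polar_E_Fv_self a b hD (by omega)) (polar_E_Fv_self a b hD hk) (polar_E_E a b hD _ _)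
    (polar_E_Fv_ne a b hD (by omega)) (polar_Fv_E_ne a b hD (by omega)) (polar_Fv_Fv a b hD _ _)

theorem act_mW_Fv_succ : act (Qm n a b hD) (mW a b hD h7 k) (Fv n (k + 1)) = -Fv n k := by
  rw [act_mW]
  exact longW_v' _ (Q_E a b hD k) (Q_Fv a b hD k) (Q_E a b hD _) (Q_Fv a b hD _)
    (polar_E_Fv_self a b hD (by omega)) (polar_E_Fv_self a b hD hk) (polar_E_E a b hD _ _)
    (polar_E_Fv_ne a b hD (by omega)) (polar_Fv_E_ne a b hD (by omega)) (polar_Fv_Fv a b hD _ _)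

end mWfacts

theorem act_mW_E_ne {k j : ℕ} (h1 : j ≠ k) (h2 : j ≠ k + 1) :
    act (Qm n a b hD) (mW a b hD h7 k) (E n j) = E n j := by
  rw [act_mW]
  exact longW_fix _ (Q_E a b hD k) (Q_Fv a b hD k) (Q_E a b hD _) (Q_Fv a b hD _)
    (polar_E_E a b hD _ _) (polar_Fv_E_ne a b hD (Ne.symm h1)) (polar_E_E a b hD _ _)
    (polar_Fv_E_ne a b hD (Ne.symm h2))

theorem act_mW_Fv_ne {k j : ℕ} (h1 : j ≠ k) (h2 : j ≠ k + 1) :
    act (Qm n a b hD) (mW a b hD h7 k) (Fv n j) = Fv n j := by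
  rw [act_mW]
  exact longW_fix _ (Q_E a b hD k) (Q_Fv a b hD k) (Q_E a b hD _) (Q_Fv a b hD _)
    (polar_E_Fv_ne a b hD (Ne.symm h1)) (polar_Fv_Fv a b hD _ _)
    (polar_E_Fv_ne a b hD (Ne.symm h2)) (polar_Fv_Fv a b hD _ _)

theorem act_mW_inWW (k : ℕ) {w : Idx n → F} (hw : InWW n w) :
    act (Qm n a b hD) (mW a b hD h7 k) w = w := by
  rw [act_mW]
  exact longW_fix _ (Q_E a b hD k) (Q_Fv a b hD k) (Q_E a b hD _) (Q_Fv a b hD _)
    (polar_E_inWW a b hD _ hw) (polar_Fv_inWW a b hD _ hw) (polar_E_inWW a b hD _ hw)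
    (polar_Fv_inWW a b hD _ hw)

/-- the partial cycles -/
noncomputable def Cyc : ℕ → ↥(Cfsg.Omega F ⇑(Qm n a b hD))
  | 0 => 1
  | k + 1 => mW a b hD h7 k * Cyc k

theorem Cyc_spec (k : ℕ) (hk : k < n) :
    act (Qm n a b hD) (Cyc a b hD h7 k) (E n 0) = E n k ∧
    (∀ j, 1 ≤ j → j ≤ k → act (Qm n a b hD) (Cyc a b hD h7 k) (E n j) = -E n (j - 1)) ∧
    (∀ j, k < j → act (Qm n a b hD) (Cyc a b hD h7 k) (E n j) = E n j) ∧
    act (Qm n a b hD) (Cyc a b hD h7 k) (Fv n 0) = Fv n k ∧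
    (∀ j, 1 ≤ j → j ≤ k → act (Qm n a b hD) (Cyc a b hD h7 k) (Fv n j) = -Fv n (j - 1)) ∧
    (∀ j, k < j → act (Qm n a b hD) (Cyc a b hD h7 k) (Fv n j) = Fv n j) ∧
    (∀ w, InWW n w → act (Qm n a b hD) (Cyc a b hD h7 k) w = w) := by
  induction k with
  | zero =>
    unfold Cyc
    refine ⟨act_one _ _, ?_, fun j _ => act_one _ _, act_one _ _, ?_, fun j _ => act_one _ _,
      fun w _ => act_one _ _⟩
    · intro j h1 h2; omega
    · intro j h1 h2; omega
  | succ k ih =>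
    obtain ⟨i1, i2, i3, i4, i5, i6, i7⟩ := ih (by omega)
    have hk' : k + 1 < n := hk
    refine ⟨?_, ?_, ?_, ?_, ?_, ?_, ?_⟩
    · show act _ (mW a b hD h7 k * Cyc a b hD h7 k) _ = _
      rw [act_mul, i1, act_mW_E_self a b hD h7 hk']
    · intro j h1 h2
      show act _ (mW a b hD h7 k * Cyc a b hD h7 k) _ = _
      rw [act_mul]
      by_cases hj : j ≤ k
      · rw [i2 j h1 hj, act_neg, act_mW_E_ne a b hD h7 (by omega) (by omega)]
      · have hj' : j = k + 1 := by omega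
        subst hj'
        rw [i3 _ (by omega), act_mW_E_succ a b hD h7 hk']
        rfl
    · intro j hj
      show act _ (mW a b hD h7 k * Cyc a b hD h7 k) _ = _
      rw [act_mul, i3 j (by omega), act_mW_E_ne a b hD h7 (by omega) (by omega)]
    · show act _ (mW a b hD h7 k * Cyc a b hD h7 k) _ = _
      rw [act_mul, i4, act_mW_Fv_self a b hD h7 hk']
    · intro j h1 h2
      show act _ (mW a b hD h7 k * Cyc a b hD h7 k) _ = _
      rw [act_mul]
      by_cases hj : j ≤ k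
      · rw [i5 j h1 hj, act_neg, act_mW_Fv_ne a b hD h7 (by omega) (by omega)]
      · have hj' : j = k + 1 := by omega
        subst hj'
        rw [i6 _ (by omega), act_mW_Fv_succ a b hD h7 hk']
        rfl
    · intro j hj
      show act _ (mW a b hD h7 k * Cyc a b hD h7 k) _ = _
      rw [act_mul, i6 j (by omega), act_mW_Fv_ne a b hD h7 (by omega) (by omega)]
    · intro w hw
      show act _ (mW a b hD h7 k * Cyc a b hD h7 k) _ = _
      rw [act_mul, i7 w hw, act_mW_inWW a b hD h7 k hw]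

/-- the short Weyl triple at the pair `i` -/
noncomputable def sW (i : ℕ) (w : Idx n → F) : ↥(Cfsg.Omega F ⇑(Qm n a b hD)) :=
  shortE (Qm n a b hD) (Qm_nondeg n a b hD) h7 (E n i) (Fv n i) w

section sWfacts
variable {i : ℕ} {w : Idx n → F} (hw : InWW n w)
include hw

theorem act_sW (x : Idx n → F) :
    act (Qm n a b hD) (sW a b hD h7 i w) x = shortW (Qm n a b hD) (E n i) (Fv n i) w x := by
  unfold sW
  exact act_shortE _ _ _ (Q_E a b hD i) (Q_Fv a b hD i) (polar_E_inWW a b hD _ hw)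
    (polar_Fv_inWW a b hD _ hw) x

theorem act_sW_E_self (hi : i < n) (hw0 : Qm n a b hD w ≠ 0) :
    act (Qm n a b hD) (sW a b hD h7 i w) (E n i) = (-(Qm n a b hD w)⁻¹) • Fv n i := by
  rw [act_sW a b hD h7 hw]
  exact shortW_e _ (Q_E a b hD i) (Q_Fv a b hD i) (polar_E_Fv_self a b hD hi)
    (polar_E_inWW a b hD _ hw) (polar_Fv_inWW a b hD _ hw) hw0

theorem act_sW_Fv_self (hi : i < n) (hw0 : Qm n a b hD w ≠ 0) :
    act (Qm n a b hD) (sW a b hD h7 i w) (Fv n i) = (-(Qm n a b hD w)) • E n i := by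
  rw [act_sW a b hD h7 hw]
  exact shortW_f _ (Q_E a b hD i) (Q_Fv a b hD i) (polar_E_Fv_self a b hD hi)
    (polar_E_inWW a b hD _ hw) (polar_Fv_inWW a b hD _ hw) hw0

theorem act_sW_perp (hi : i < n) (hw0 : Qm n a b hD w ≠ 0) {z : Idx n → F}
    (h1 : polar (Qm n a b hD) (E n i) z = 0) (h2 : polar (Qm n a b hD) (Fv n i) z = 0) :
    act (Qm n a b hD) (sW a b hD h7 i w) z = refl (Qm n a b hD) w z := by
  rw [act_sW a b hD h7 hw]
  exact shortW_perp _ (Q_E a b hD i) (Q_Fv a b hD i) (polar_E_Fv_self a b hD hi)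
    (polar_E_inWW a b hD _ hw) (polar_Fv_inWW a b hD _ hw) hw0 h1 h2

theorem act_sW_E_ne (hi : i < n) (hw0 : Qm n a b hD w ≠ 0) {j : ℕ} (hj : j ≠ i) :
    act (Qm n a b hD) (sW a b hD h7 i w) (E n j) = E n j := by
  rw [act_sW_perp a b hD h7 hw hi hw0 (polar_E_E a b hD _ _) (polar_Fv_E_ne a b hD (Ne.symm hj))]
  unfold refl
  rw [polar_inWW_E a b hD _ hw]
  simp

theorem act_sW_Fv_ne (hi : i < n) (hw0 : Qm n a b hD w ≠ 0) {j : ℕ} (hj : j ≠ i) :
    act (Qm n a b hD) (sW a b hD h7 i w) (Fv n j) = Fv n j := by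
  rw [act_sW_perp a b hD h7 hw hi hw0 (polar_E_Fv_ne a b hD (Ne.symm hj)) (polar_Fv_Fv a b hD _ _)]
  unfold refl
  rw [polar_inWW_Fv a b hD _ hw]
  simp

theorem act_sW_inWW (hi : i < n) (hw0 : Qm n a b hD w ≠ 0) {z : Idx n → F} (hz : InWW n z) :
    act (Qm n a b hD) (sW a b hD h7 i w) z = refl (Qm n a b hD) w z :=
  act_sW_perp a b hD h7 hw hi hw0 (polar_E_inWW a b hD _ hz) (polar_Fv_inWW a b hD _ hz)

end sWfacts

theorem inWW_refl {w z : Idx n → F} (hw : InWW n w) (hz : InWW n z) :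
    InWW n (refl (Qm n a b hD) w z) := by
  unfold refl
  exact hz.sub (hw.smul _)

end Cfsg.Agent.Lib.Helper11.OmGen
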