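import Mathlib
import Cfsg.Agent.Lib.Helper11.OmGenD

/-!
helper11: decomposition of vectors over the standard basis of the minus form, extensionality of
elements of `Ω⁻`, rank-one tori, rotations of the anisotropic plane without eigenvectors.
-/

set_option autoImplicit false
set_option linter.unusedSimpArgs false
set_option linter.unusedSectionVars false
set_option linter.unusedVariables false
set_option linter.unnecessarySeqFocus false

namespace Cfsg.Agent.Lib.Helper11.OmGen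

open QuadraticMap Cfsg.Agent.Lib.Helper18.OrthAut Cfsg.Agent.Lib.Helper14.OrthMinus
  Cfsg.Agent.Lib.Helper25.CD Cfsg.Agent.Lib.Helper25.PS Cfsg.Agent.Lib.Helper14.QuadExt

section decomp

variable {F : Type*} [Field F] {n : ℕ}

/-- coordinates over the standard basis -/
theorem decomp (x : Idx n → F) :
    x = (∑ j : Fin n, (x (Sum.inl (Sum.inl j)) • E n (j : ℕ) + x (Sum.inl (Sum.inr j)) • Fv n (j : ℕ)))
      + wV n (x (Sum.inr 0)) (x (Sum.inr 1)) := by
  funext k
  rw [Pi.add_apply, Finset.sum_apply]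
  rcases k with (i | i) | i
  · have : ∀ j : Fin n, ((x (Sum.inl (Sum.inl j)) • E n (j : ℕ) + x (Sum.inl (Sum.inr j)) • Fv n (j : ℕ) :
        Idx n → F)) (Sum.inl (Sum.inl i)) = if j = i then x (Sum.inl (Sum.inl j)) else 0 := by
      intro j
      rw [E_of_lt j.2, Fv_of_lt j.2]
      simp [Pi.single_apply, eq_comm]
    simp only [this, Finset.sum_ite_eq', Finset.mem_univ, if_true]
    simp [wV]
  · have : ∀ j : Fin n, ((x (Sum.inl (Sum.inl j)) • E n (j : ℕ) + x (Sum.inl (Sum.inr j)) • Fv n (j : ℕ) :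
        Idx n → F)) (Sum.inl (Sum.inr i)) = if j = i then x (Sum.inl (Sum.inr j)) else 0 := by
      intro j
      rw [E_of_lt j.2, Fv_of_lt j.2]
      simp [Pi.single_apply, eq_comm]
    simp only [this, Finset.sum_ite_eq', Finset.mem_univ, if_true]
    simp [wV]
  · have : ∀ j : Fin n, ((x (Sum.inl (Sum.inl j)) • E n (j : ℕ) + x (Sum.inl (Sum.inr j)) • Fv n (j : ℕ) :
        Idx n → F)) (Sum.inr i) = 0 := by
      intro j
      rw [E_of_lt j.2, Fv_of_lt j.2]
      simp [Pi.single_apply]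
    simp only [this, Finset.sum_const_zero, zero_add]
    fin_cases i <;> simp [wV]

/-- two additive maps compatible with scalars which agree on the basis agree everywhere -/
theorem lin_ext {M : Type*} [AddCommGroup M] [Module F M] (L L' : (Idx n → F) →ₗ[F] M)
    (hE : ∀ j, j < n → L (E n j) = L' (E n j)) (hF : ∀ j, j < n → L (Fv n j) = L' (Fv n j))
    (hW : ∀ z, InWW n z → L z = L' z) (x : Idx n → F) : L x = L' x := by
  rw [decomp x, map_add, map_add, map_sum, map_sum, hW _ (inWW_wV _ _)]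
  congr 1
  apply Finset.sum_congr rfl
  intro j _
  rw [map_add, map_add, map_smul, map_smul, map_smul, map_smul, hE _ j.2, hF _ j.2]

end decomp

variable {F : Type*} [Field F] [Fintype F] {n : ℕ} (a b : F) (hD : a ^ 2 - 4 * b ≠ 0)
  (h7 : 7 ≤ Fintype.card (Idx n))

/-- extensionality for elements of `Ω⁻` -/
theorem ext_basis {k k' : ↥(Cfsg.Omega F ⇑(Qm n a b hD))}
    (hE : ∀ j, j < n → act (Qm n a b hD) k (E n j) = act (Qm n a b hD) k' (E n j))
    (hF : ∀ j, j < n → act (Qm n a b hD) k (Fv n j) = act (Qm n a b hD) k' (Fv n j))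
    (hW : ∀ z, InWW n z → act (Qm n a b hD) k z = act (Qm n a b hD) k' z) : k = k' := by
  apply ext_act
  intro x
  exact lin_ext (toOG (Qm n a b hD) k.1).toLinearMap (toOG (Qm n a b hD) k'.1).toLinearMap
    hE hF hW x

/-- the distinguished anisotropic vector -/
def wρ (n : ℕ) (F : Type*) [Field F] : Idx n → F := wV n 1 0

theorem inWW_wρ : InWW n (wρ n F) := inWW_wV _ _

theorem Q_wρ : Qm n a b hD (wρ n F) = 1 := by
  rw [Q_inWW a b hD inWW_wρ]
  simp [wρ, wV]

theorem Q_wV (z₁ z₂ : F) : Qm n a b hD (wV n z₁ z₂) = z₁ ^ 2 + a * z₁ * z₂ + b * z₂ ^ 2 := by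
  rw [Q_inWW a b hD (inWW_wV _ _)]
  simp [wV]

/-- a rank-one torus element -/
noncomputable def tor (i : ℕ) (w w' : Idx n → F) : ↥(Cfsg.Omega F ⇑(Qm n a b hD)) :=
  sW a b hD h7 i w * sW a b hD h7 i w'

section torfacts
variable {i : ℕ} {w w' : Idx n → F} (hw : InWW n w) (hw' : InWW n w') (hi : i < n)
  (hw0 : Qm n a b hD w ≠ 0) (hw0' : Qm n a b hD w' ≠ 0)
include hw hw' hi hw0 hw0'

theorem act_tor_E_self : act (Qm n a b hD) (tor a b hD h7 i w w') (E n i) =
    (Qm n a b hD w * (Qm n a b hD w')⁻¹) • E n i := by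
  unfold tor
  rw [act_mul, act_sW_E_self a b hD h7 hw' hi hw0', act_smul, act_sW_Fv_self a b hD h7 hw hi hw0,
    smul_smul]
  congr 1
  ring

theorem act_tor_Fv_self : act (Qm n a b hD) (tor a b hD h7 i w w') (Fv n i) =
    (Qm n a b hD w' * (Qm n a b hD w)⁻¹) • Fv n i := by
  unfold tor
  rw [act_mul, act_sW_Fv_self a b hD h7 hw' hi hw0', act_smul, act_sW_E_self a b hD h7 hw hi hw0,
    smul_smul]
  congr 1
  ring

theorem act_tor_E_ne {j : ℕ} (hj : j ≠ i) :
    act (Qm n a b hD) (tor a b hD h7 i w w') (E n j) = E n j := by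
  unfold tor
  rw [act_mul, act_sW_E_ne a b hD h7 hw' hi hw0' hj, act_sW_E_ne a b hD h7 hw hi hw0 hj]

theorem act_tor_Fv_ne {j : ℕ} (hj : j ≠ i) :
    act (Qm n a b hD) (tor a b hD h7 i w w') (Fv n j) = Fv n j := by
  unfold tor
  rw [act_mul, act_sW_Fv_ne a b hD h7 hw' hi hw0' hj, act_sW_Fv_ne a b hD h7 hw hi hw0 hj]

theorem act_tor_inWW {z : Idx n → F} (hz : InWW n z) :
    act (Qm n a b hD) (tor a b hD h7 i w w') z =
      refl (Qm n a b hD) w (refl (Qm n a b hD) w' z) := by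
  unfold tor
  rw [act_mul, act_sW_inWW a b hD h7 hw' hi hw0' hz,
    act_sW_inWW a b hD h7 hw hi hw0 (inWW_refl a b hD hw' hz)]

end torfacts

/-- a rotation `r_{(s,1)} r_{(1,0)}` of the anisotropic plane has no eigenvector -/
theorem no_eigen (hab : Aniso a b) (s : F) (hs : 2 * s + a ≠ 0) {z : Idx n → F} (hz : InWW n z)
    (μ : F) (h : refl (Qm n a b hD) (wV n s 1) (refl (Qm n a b hD) (wρ n F) z) = μ • z) :
    z = 0 := by
  have hlam : s ^ 2 + a * s + b ≠ 0 := by
    intro h0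
    have := hab s 1 (by linear_combination h0)
    exact one_ne_zero this.2
  have h1 := congrFun h (Sum.inr 0)
  have h2 := congrFun h (Sum.inr 1)
  unfold refl at h1 h2
  rw [Q_wV, polar_inWW a b hD (inWW_wV _ _)] at h1 h2
  rw [Q_wρ, polar_inWW a b hD inWW_wρ] at h1 h2
  obtain ⟨li, hli⟩ : ∃ li, li = (s ^ 2 + a * s * 1 + b * 1 ^ 2)⁻¹ := ⟨_, rfl⟩
  rw [← hli] at h1 h2
  have hli' : li * (s ^ 2 + a * s + b) = 1 := by
    rw [hli]
    have : s ^ 2 + a * s * 1 + b * 1 ^ 2 = s ^ 2 + a * s + b := by ring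
    rw [this, inv_mul_cancel₀ hlam]
  simp only [wρ, wV, Pi.sub_apply, Pi.smul_apply, smul_eq_mul, Fin.isValue, if_true,
    one_ne_zero, if_false, mul_one, mul_zero, add_zero, inv_one, one_mul, one_pow, zero_add,
    sub_zero] at h1 h2
  have hN : (2 * s + a) * (z (Sum.inr 0) ^ 2 + a * z (Sum.inr 0) * z (Sum.inr 1) +
      b * z (Sum.inr 1) ^ 2) = 0 := by
    linear_combination (-(s ^ 2 + a * s + b) * z (Sum.inr 1)) * h1 +
      ((s ^ 2 + a * s + b) * z (Sum.inr 0)) * h2 -
      (((2 * s + a) * (-z (Sum.inr 0) - a * z (Sum.inr 1)) + (a * s + 2 * b) * z (Sum.inr 1)) *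
        (s * z (Sum.inr 1) - z (Sum.inr 0))) * hli'
  rcases mul_eq_zero.mp hN with h0 | h0
  · exact absurd h0 hs
  · obtain ⟨e1, e2⟩ := hab _ _ h0
    rw [eq_wV_of_inWW hz, e1, e2]
    funext k
    rcases k with i | i
    · rfl
    · fin_cases i <;> simp [wV]

end Cfsg.Agent.Lib.Helper11.OmGen
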