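import Mathlib
import Cfsg.Agent.Lib.Helper11.OmGenE
import Cfsg.Agent.Lib.Helper11.Gen2A

/-!
helper11: the two generators of `Ω⁻_{2n+2}(q)` and their action on the standard basis.
-/

set_option autoImplicit false
set_option linter.unusedSimpArgs false
set_option linter.unusedSectionVars false
set_option linter.unusedVariables false
set_option linter.unnecessarySeqFocus false

namespace Cfsg.Agent.Lib.Helper11.OmGen

open QuadraticMap Cfsg.Agent.Lib.Helper18.OrthAut Cfsg.Agent.Lib.Helper14.OrthMinus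
  Cfsg.Agent.Lib.Helper25.CD Cfsg.Agent.Lib.Helper25.PS Cfsg.Agent.Lib.Helper14.QuadExt

section plane

variable {F : Type*} [Field F] {n : ℕ}

theorem inWW_ext {u v : Idx n → F} (hu : InWW n u) (hv : InWW n v)
    (h0 : u (Sum.inr 0) = v (Sum.inr 0)) (h1 : u (Sum.inr 1) = v (Sum.inr 1)) : u = v := by
  rw [eq_wV_of_inWW hu, eq_wV_of_inWW hv, h0, h1]

/-- an `F`-subspace of the anisotropic plane containing two independent vectors is everything -/
theorem mem_of_indep {A : AddSubgroup (Idx n → F)} (hsm : ∀ c : F, ∀ w ∈ A, c • w ∈ A)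
    {p r : Idx n → F} (hp : InWW n p) (hr : InWW n r) (hpA : p ∈ A) (hrA : r ∈ A)
    (hind : ∀ μ : F, r ≠ μ • p) (hp0 : p ≠ 0) {z : Idx n → F} (hz : InWW n z) : z ∈ A := by
  have hDne : p (Sum.inr 0) * r (Sum.inr 1) - p (Sum.inr 1) * r (Sum.inr 0) ≠ 0 := by
    intro hD0
    by_cases h1 : p (Sum.inr 0) = 0
    · have h2 : p (Sum.inr 1) ≠ 0 := by
        intro h2
        apply hp0
        have := inWW_ext hp (InWW.zero (n := n) (F := F)) (by rw [h1]; rfl) (by rw [h2]; rfl)
        exact this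
      have h3 : r (Sum.inr 0) = 0 := by
        rw [h1, zero_mul, zero_sub, neg_eq_zero] at hD0
        rcases mul_eq_zero.mp hD0 with h | h
        · exact absurd h h2
        · exact h
      apply hind (r (Sum.inr 1) / p (Sum.inr 1))
      apply inWW_ext hr (hp.smul _)
      · rw [Pi.smul_apply, h1, h3, smul_zero]
      · rw [Pi.smul_apply, smul_eq_mul]; field_simp
    · apply hind (r (Sum.inr 0) / p (Sum.inr 0))
      apply inWW_ext hr (hp.smul _)
      · rw [Pi.smul_apply, smul_eq_mul]; field_simp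
      · rw [Pi.smul_apply, smul_eq_mul]; field_simp; linear_combination hD0
  obtain ⟨Di, hDi⟩ : ∃ Di : F, Di * (p (Sum.inr 0) * r (Sum.inr 1) - p (Sum.inr 1) * r (Sum.inr 0)) = 1 :=
    ⟨_, inv_mul_cancel₀ hDne⟩
  have e : z = ((z (Sum.inr 0) * r (Sum.inr 1) - z (Sum.inr 1) * r (Sum.inr 0)) * Di) • p +
      ((p (Sum.inr 0) * z (Sum.inr 1) - p (Sum.inr 1) * z (Sum.inr 0)) * Di) • r := by
    apply inWW_ext hz ((hp.smul _).add (hr.smul _))
    · rw [Pi.add_apply, Pi.smul_apply, Pi.smul_apply, smul_eq_mul, smul_eq_mul]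
      linear_combination (-z (Sum.inr 0)) * hDi
    · rw [Pi.add_apply, Pi.smul_apply, Pi.smul_apply, smul_eq_mul, smul_eq_mul]
      linear_combination (-z (Sum.inr 1)) * hDi
  rw [e]
  exact A.add_mem (hsm _ _ hpA) (hsm _ _ hrA)

end plane

variable {F : Type*} [Field F] [Fintype F] {n : ℕ} (a b : F) (hD : a ^ 2 - 4 * b ≠ 0)
  (h7 : 7 ≤ Fintype.card (Idx n))

/-- the vectors `w` of the anisotropic plane with `X u w ∈ H` -/
def AW (H : Subgroup ↥(Cfsg.Omega F ⇑(Qm n a b hD))) (u : Idx n → F)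
    (hu : Qm n a b hD u = 0) (hperp : ∀ w, InWW n w → polar (Qm n a b hD) u w = 0) :
    AddSubgroup (Idx n → F) where
  carrier := {w | InWW n w ∧ XX a b hD h7 u w ∈ H}
  zero_mem' := ⟨InWW.zero, by rw [XX, X_zero]; exact H.one_mem⟩
  add_mem' := by
    rintro w w' ⟨h1, h2⟩ ⟨h1', h2'⟩
    refine ⟨h1.add h1', ?_⟩
    rw [XX, X_add _ _ _ hu (hperp _ h1) (hperp _ h1')]
    exact H.mul_mem h2 h2'
  neg_mem' := by
    rintro w ⟨h1, h2⟩
    refine ⟨h1.neg, ?_⟩
    rw [XX, X_neg _ _ _ hu (hperp _ h1)]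
    exact H.inv_mem h2

theorem mem_AW {H : Subgroup ↥(Cfsg.Omega F ⇑(Qm n a b hD))} {u : Idx n → F}
    {hu : Qm n a b hD u = 0} {hperp : ∀ w, InWW n w → polar (Qm n a b hD) u w = 0}
    {w : Idx n → F} : w ∈ AW a b hD h7 H u hu hperp ↔ InWW n w ∧ XX a b hD h7 u w ∈ H := Iff.rfl

/-- closure under multiplication by the square of a generator gives closure under all scalars -/
theorem smul_closed (A : AddSubgroup (Idx n → F)) (g : Fˣ)
    (hg : ∀ y : Fˣ, y ∈ Subgroup.zpowers g)
    (h : ∀ w ∈ A, ((g : F) ^ 2) • w ∈ A) (c : F) (w : Idx n → F) (hw : w ∈ A) : c • w ∈ A := by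
  let S : AddSubgroup F :=
    { carrier := {c | c • w ∈ A}
      zero_mem' := by show (0 : F) • w ∈ A; rw [zero_smul]; exact A.zero_mem
      add_mem' := by
        intro x y hx hy
        show (x + y) • w ∈ A
        rw [add_smul]; exact A.add_mem hx hy
      neg_mem' := by
        intro x hx
        show (-x) • w ∈ A
        rw [neg_smul]; exact A.neg_mem hx }
  have hS : S = ⊤ := by
    apply Cfsg.Agent.Lib.Helper11.Gen2.addSubgroup_eq_top g hg 2 (Or.inr (Or.inr (Or.inl rfl)))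
    · show (1 : F) • w ∈ A
      rw [one_smul]; exact hw
    · intro x hx
      show ((g : F) ^ (2 : ℤ) * x) • w ∈ A
      rw [mul_smul]
      have := h _ hx
      rwa [zpow_ofNat] 
  have : c ∈ S := by rw [hS]; trivial
  exact this

end Cfsg.Agent.Lib.Helper11.OmGen
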