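import Mathlib
import Cfsg.Agent.Lib.Helper11.OmGenF

/-!
helper11: the two generators of `Ω⁻_{2n+2}(q)` and their action on the standard basis.
-/

set_option autoImplicit false
set_option linter.unusedSimpArgs false
set_option linter.unusedSectionVars false
set_option linter.unusedVariables false
set_option linter.unnecessarySeqFocus false

namespace Cfsg.Agent.Lib.Helper11.OmGen

open QuadraticMap Cfsg.Agent.Lib.Helper18.OrthAut Cfsg.Agent.Lib.Helper14.OrthMinus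
  Cfsg.Agent.Lib.Helper25.CD Cfsg.Agent.Lib.Helper25.PS Cfsg.Agent.Lib.Helper14.QuadExt

variable {F : Type*} [Field F] [Fintype F] {n : ℕ} (a b : F) (hD : a ^ 2 - 4 * b ≠ 0)
  (h7 : 7 ≤ Fintype.card (Idx n))

/-- the second anisotropic vector -/
def wa (n : ℕ) {F : Type*} [Field F] (s : F) : Idx n → F := wV n s 1

theorem inWW_wa (s : F) : InWW n (wa n s) := inWW_wV _ _

theorem Q_wa (s : F) : Qm n a b hD (wa n s) = s ^ 2 + a * s + b := by
  unfold wa
  rw [Q_wV]; ring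

theorem polar_wρ_wa (s : F) : polar (Qm n a b hD) (wρ n F) (wa n s) = 2 * s + a := by
  rw [polar_inWW a b hD inWW_wρ]
  simp [wρ, wa, wV]

theorem Q_smul_wρ (κ : F) : Qm n a b hD (κ • wρ n F) = κ ^ 2 := by
  rw [QuadraticMap.map_smul, Q_wρ, smul_eq_mul]; ring

/-- the torus generator -/
noncomputable def aEl (s κ : F) : ↥(Cfsg.Omega F ⇑(Qm n a b hD)) :=
  tor a b hD h7 2 (wa n s) (wρ n F) * tor a b hD h7 1 (κ • wρ n F) (wρ n F)

/-- the Coxeter-type element -/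
noncomputable def cEl : ↥(Cfsg.Omega F ⇑(Qm n a b hD)) :=
  Cyc a b hD h7 (n - 1) * sW a b hD h7 0 (wρ n F)

/-- the rotation induced by `aEl` on the anisotropic plane -/
noncomputable def Rot (s : F) (z : Idx n → F) : Idx n → F :=
  refl (Qm n a b hD) (wa n s) (refl (Qm n a b hD) (wρ n F) z)

theorem inWW_Rot (s : F) {z : Idx n → F} (hz : InWW n z) : InWW n (Rot a b hD s z) :=
  inWW_refl a b hD (inWW_wa s) (inWW_refl a b hD inWW_wρ hz)

/-- eigenvalues of `aEl` -/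
def chi (s κ : F) (j : ℕ) : F :=
  if j = 2 then s ^ 2 + a * s + b else if j = 1 then κ ^ 2 else 1

section afacts
variable (hn3 : 3 ≤ n) {s κ : F} (hlam : s ^ 2 + a * s + b ≠ 0) (hκ : κ ≠ 0)
include hn3 hlam hκ

theorem Q_wa_ne : Qm n a b hD (wa n s) ≠ 0 := by rw [Q_wa]; exact hlam

theorem Q_κ_ne : Qm n a b hD (κ • wρ n F) ≠ 0 := by
  rw [Q_smul_wρ]; exact pow_ne_zero 2 hκ

theorem Q_wρ_ne : Qm n a b hD (wρ n F) ≠ 0 := by rw [Q_wρ]; exact one_ne_zero

theorem act_a_E {j : ℕ} (hj : j < n) :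
    act (Qm n a b hD) (aEl a b hD h7 s κ) (E n j) = chi a b s κ j • E n j := by
  have q1 := Q_wa_ne a b hD hn3 hlam hκ
  have q2 := Q_κ_ne a b hD hn3 hlam hκ
  have q3 := Q_wρ_ne (n := n) a b hD hn3 hlam hκ
  unfold aEl chi
  rw [act_mul]
  by_cases h2 : j = 2
  · subst h2
    rw [act_tor_E_ne a b hD h7 (inWW_wρ.smul κ) inWW_wρ (by omega) q2 q3 (by omega),
      act_tor_E_self a b hD h7 (inWW_wa s) inWW_wρ (by omega) q1 q3, if_pos rfl, Q_wρ, Q_wa]
    simp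
  · by_cases h1 : j = 1
    · subst h1
      rw [act_tor_E_self a b hD h7 (inWW_wρ.smul κ) inWW_wρ (by omega) q2 q3, act_smul,
        act_tor_E_ne a b hD h7 (inWW_wa s) inWW_wρ (by omega) q1 q3 (by omega), if_neg h2,
        if_pos rfl, Q_wρ, Q_smul_wρ]
      simp
    · rw [act_tor_E_ne a b hD h7 (inWW_wρ.smul κ) inWW_wρ (by omega) q2 q3 h1,
        act_tor_E_ne a b hD h7 (inWW_wa s) inWW_wρ (by omega) q1 q3 h2, if_neg h2, if_neg h1,
        one_smul]

theorem act_a_Fv {j : ℕ} (hj : j < n) :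
    act (Qm n a b hD) (aEl a b hD h7 s κ) (Fv n j) = (chi a b s κ j)⁻¹ • Fv n j := by
  have q1 := Q_wa_ne a b hD hn3 hlam hκ
  have q2 := Q_κ_ne a b hD hn3 hlam hκ
  have q3 := Q_wρ_ne (n := n) a b hD hn3 hlam hκ
  unfold aEl chi
  rw [act_mul]
  by_cases h2 : j = 2
  · subst h2
    rw [act_tor_Fv_ne a b hD h7 (inWW_wρ.smul κ) inWW_wρ (by omega) q2 q3 (by omega),
      act_tor_Fv_self a b hD h7 (inWW_wa s) inWW_wρ (by omega) q1 q3, if_pos rfl, Q_wρ, Q_wa]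
    simp
  · by_cases h1 : j = 1
    · subst h1
      rw [act_tor_Fv_self a b hD h7 (inWW_wρ.smul κ) inWW_wρ (by omega) q2 q3, act_smul,
        act_tor_Fv_ne a b hD h7 (inWW_wa s) inWW_wρ (by omega) q1 q3 (by omega), if_neg h2,
        if_pos rfl, Q_wρ, Q_smul_wρ]
      simp
    · rw [act_tor_Fv_ne a b hD h7 (inWW_wρ.smul κ) inWW_wρ (by omega) q2 q3 h1,
        act_tor_Fv_ne a b hD h7 (inWW_wa s) inWW_wρ (by omega) q1 q3 h2, if_neg h2, if_neg h1,
        inv_one, one_smul]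

theorem act_a_W {z : Idx n → F} (hz : InWW n z) :
    act (Qm n a b hD) (aEl a b hD h7 s κ) z = Rot a b hD s z := by
  have q1 := Q_wa_ne a b hD hn3 hlam hκ
  have q2 := Q_κ_ne a b hD hn3 hlam hκ
  have q3 := Q_wρ_ne (n := n) a b hD hn3 hlam hκ
  unfold aEl Rot
  rw [act_mul, act_tor_inWW a b hD h7 (inWW_wρ.smul κ) inWW_wρ (by omega) q2 q3 hz,
    refl_smul _ hκ, refl_refl _ q3,
    act_tor_inWW a b hD h7 (inWW_wa s) inWW_wρ (by omega) q1 q3 hz]

end afacts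

section cfacts
variable (hn3 : 3 ≤ n)
include hn3

theorem act_c_E0 : act (Qm n a b hD) (cEl a b hD h7) (E n 0) = -Fv n (n - 1) := by
  have q3 : Qm n a b hD (wρ n F) ≠ 0 := by rw [Q_wρ]; exact one_ne_zero
  unfold cEl
  rw [act_mul, act_sW_E_self a b hD h7 inWW_wρ (by omega) q3, Q_wρ, inv_one, act_smul,
    (Cyc_spec a b hD h7 (n - 1) (by omega)).2.2.2.1]
  simp

theorem act_c_Fv0 : act (Qm n a b hD) (cEl a b hD h7) (Fv n 0) = -E n (n - 1) := by
  have q3 : Qm n a b hD (wρ n F) ≠ 0 := by rw [Q_wρ]; exact one_ne_zero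
  unfold cEl
  rw [act_mul, act_sW_Fv_self a b hD h7 inWW_wρ (by omega) q3, Q_wρ, act_smul,
    (Cyc_spec a b hD h7 (n - 1) (by omega)).1]
  simp

theorem act_c_E {j : ℕ} (h1 : 1 ≤ j) (hj : j < n) :
    act (Qm n a b hD) (cEl a b hD h7) (E n j) = -E n (j - 1) := by
  have q3 : Qm n a b hD (wρ n F) ≠ 0 := by rw [Q_wρ]; exact one_ne_zero
  unfold cEl
  rw [act_mul, act_sW_E_ne a b hD h7 inWW_wρ (by omega) q3 (by omega),
    (Cyc_spec a b hD h7 (n - 1) (by omega)).2.1 j h1 (by omega)]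

theorem act_c_Fv {j : ℕ} (h1 : 1 ≤ j) (hj : j < n) :
    act (Qm n a b hD) (cEl a b hD h7) (Fv n j) = -Fv n (j - 1) := by
  have q3 : Qm n a b hD (wρ n F) ≠ 0 := by rw [Q_wρ]; exact one_ne_zero
  unfold cEl
  rw [act_mul, act_sW_Fv_ne a b hD h7 inWW_wρ (by omega) q3 (by omega),
    (Cyc_spec a b hD h7 (n - 1) (by omega)).2.2.2.2.1 j h1 (by omega)]

theorem act_c_W {z : Idx n → F} (hz : InWW n z) :
    act (Qm n a b hD) (cEl a b hD h7) z = refl (Qm n a b hD) (wρ n F) z := by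
  have q3 : Qm n a b hD (wρ n F) ≠ 0 := by rw [Q_wρ]; exact one_ne_zero
  unfold cEl
  rw [act_mul, act_sW_inWW a b hD h7 inWW_wρ (by omega) q3 hz,
    (Cyc_spec a b hD h7 (n - 1) (by omega)).2.2.2.2.2.2 _ (inWW_refl a b hD inWW_wρ hz)]

theorem act_cinv_W {z : Idx n → F} (hz : InWW n z) :
    act (Qm n a b hD) (cEl a b hD h7)⁻¹ z = refl (Qm n a b hD) (wρ n F) z := by
  have q3 : Qm n a b hD (wρ n F) ≠ 0 := by rw [Q_wρ]; exact one_ne_zero
  apply act_injective _ (cEl a b hD h7)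
  rw [act_act_inv, act_c_W a b hD h7 hn3 (inWW_refl a b hD inWW_wρ hz), refl_refl _ q3]

end cfacts

/-- conjugating a diagonal action: if `c u = -v` and `k u = χ u` then `(c k c⁻¹) v = χ v` -/
theorem conj_diag (c k : ↥(Cfsg.Omega F ⇑(Qm n a b hD))) {u v : Idx n → F} {χ : F}
    (hc : act (Qm n a b hD) c u = -v) (hk : act (Qm n a b hD) k u = χ • u) :
    act (Qm n a b hD) (c * k * c⁻¹) v = χ • v := by
  have h1 : act (Qm n a b hD) c⁻¹ v = -u := by
    apply act_injective _ c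
    rw [act_act_inv, act_neg, hc, neg_neg]
  rw [act_mul, act_mul, h1, act_neg, hk, act_neg, act_smul, hc]
  simp

end Cfsg.Agent.Lib.Helper11.OmGen
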