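import Mathlib
import Cfsg.Agent.Lib.Helper11.OmGenG

/-!
helper11: main argument for the two-generation of `Ω⁻_{2n+2}(q)`, part 1: the conjugate torus
`a' = c a c⁻¹`, commutation with `a`, and the first full short root group.
-/

set_option autoImplicit false
set_option linter.unusedSimpArgs false
set_option linter.unusedSectionVars false
set_option linter.unusedVariables false
set_option linter.unnecessarySeqFocus false

namespace Cfsg.Agent.Lib.Helper11.OmGen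

open QuadraticMap Cfsg.Agent.Lib.Helper18.OrthAut Cfsg.Agent.Lib.Helper14.OrthMinus
  Cfsg.Agent.Lib.Helper25.CD Cfsg.Agent.Lib.Helper25.PS Cfsg.Agent.Lib.Helper14.QuadExt

variable {F : Type*} [Field F] [Fintype F] {n : ℕ} (a b : F) (hD : a ^ 2 - 4 * b ≠ 0)
  (h7 : 7 ≤ Fintype.card (Idx n))

/-- the conjugate torus -/
noncomputable def aEl' (s κ : F) : ↥(Cfsg.Omega F ⇑(Qm n a b hD)) :=
  cEl a b hD h7 * aEl a b hD h7 s κ * (cEl a b hD h7)⁻¹

/-- the rotation induced by `aEl'` -/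
noncomputable def Rot' (s : F) (z : Idx n → F) : Idx n → F :=
  refl (Qm n a b hD) (wρ n F) (Rot a b hD s (refl (Qm n a b hD) (wρ n F) z))

section main1
variable (hn3 : 3 ≤ n) {s κ : F} (hlam : s ^ 2 + a * s + b ≠ 0) (hκ : κ ≠ 0)
include hn3 hlam hκ

theorem rot1 (z : Idx n → F) : Rot a b hD s (Rot' a b hD s z) = z := by
  have q1 := Q_wa_ne a b hD hn3 hlam hκ
  have q3 := Q_wρ_ne (n := n) a b hD hn3 hlam hκ
  unfold Rot' Rot
  rw [refl_refl _ q3, refl_refl _ q3, refl_refl _ q1]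

theorem rot2 (z : Idx n → F) : Rot' a b hD s (Rot a b hD s z) = z := by
  have q1 := Q_wa_ne a b hD hn3 hlam hκ
  have q3 := Q_wρ_ne (n := n) a b hD hn3 hlam hκ
  unfold Rot' Rot
  rw [refl_refl _ q3, refl_refl _ q1, refl_refl _ q3]

theorem inWW_Rot' {z : Idx n → F} (hz : InWW n z) : InWW n (Rot' a b hD s z) :=
  inWW_refl a b hD inWW_wρ (inWW_Rot a b hD s (inWW_refl a b hD inWW_wρ hz))

theorem act_a'_E0 : act (Qm n a b hD) (aEl' a b hD h7 s κ) (E n 0) = (κ ^ 2) • E n 0 := by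
  unfold aEl'
  have h1 := act_c_E a b hD h7 hn3 (j := 1) le_rfl (by omega)
  have h2 := act_a_E a b hD h7 hn3 hlam hκ (j := 1) (by omega)
  have h3 : chi a b s κ 1 = κ ^ 2 := by unfold chi; simp
  rw [h3] at h2
  exact conj_diag a b hD _ _ h1 h2

theorem act_a'_E {j : ℕ} (hj : j < n) :
    ∃ χ : F, act (Qm n a b hD) (aEl' a b hD h7 s κ) (E n j) = χ • E n j := by
  unfold aEl'
  by_cases h : j + 1 < n
  · have h1 := act_c_E a b hD h7 hn3 (j := j + 1) (by omega) h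
    have h2 := act_a_E a b hD h7 hn3 hlam hκ (j := j + 1) h
    exact ⟨_, conj_diag a b hD _ _ h1 h2⟩
  · have hj' : j = n - 1 := by omega
    subst hj'
    have h1 := act_c_Fv0 a b hD h7 hn3
    have h2 := act_a_Fv a b hD h7 hn3 hlam hκ (j := 0) (by omega)
    exact ⟨_, conj_diag a b hD _ _ h1 h2⟩

theorem act_a'_Fv {j : ℕ} (hj : j < n) :
    ∃ χ : F, act (Qm n a b hD) (aEl' a b hD h7 s κ) (Fv n j) = χ • Fv n j := by
  unfold aEl'
  by_cases h : j + 1 < n
  · have h1 := act_c_Fv a b hD h7 hn3 (j := j + 1) (by omega) h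
    have h2 := act_a_Fv a b hD h7 hn3 hlam hκ (j := j + 1) h
    exact ⟨_, conj_diag a b hD _ _ h1 h2⟩
  · have hj' : j = n - 1 := by omega
    subst hj'
    have h1 := act_c_E0 a b hD h7 hn3
    have h2 := act_a_E a b hD h7 hn3 hlam hκ (j := 0) (by omega)
    exact ⟨_, conj_diag a b hD _ _ h1 h2⟩

theorem act_a'_W {z : Idx n → F} (hz : InWW n z) :
    act (Qm n a b hD) (aEl' a b hD h7 s κ) z = Rot' a b hD s z := by
  unfold aEl' Rot'
  rw [act_mul, act_mul, act_cinv_W a b hD h7 hn3 hz,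
    act_a_W a b hD h7 hn3 hlam hκ (inWW_refl a b hD inWW_wρ hz),
    act_c_W a b hD h7 hn3 (inWW_Rot a b hD s (inWW_refl a b hD inWW_wρ hz))]

theorem a_comm_a' : aEl a b hD h7 s κ * aEl' a b hD h7 s κ =
    aEl' a b hD h7 s κ * aEl a b hD h7 s κ := by
  apply ext_basis
  · intro j hj
    obtain ⟨χ, hχ⟩ := act_a'_E a b hD h7 hn3 hlam hκ hj
    rw [act_mul, act_mul, hχ, act_a_E a b hD h7 hn3 hlam hκ hj, act_smul, act_smul, hχ,
      act_a_E a b hD h7 hn3 hlam hκ hj, smul_comm]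
  · intro j hj
    obtain ⟨χ, hχ⟩ := act_a'_Fv a b hD h7 hn3 hlam hκ hj
    rw [act_mul, act_mul, hχ, act_a_Fv a b hD h7 hn3 hlam hκ hj, act_smul, act_smul, hχ,
      act_a_Fv a b hD h7 hn3 hlam hκ hj, smul_comm]
  · intro z hz
    rw [act_mul, act_mul, act_a'_W a b hD h7 hn3 hlam hκ hz,
      act_a_W a b hD h7 hn3 hlam hκ (inWW_Rot' a b hD hn3 hlam hκ hz),
      act_a_W a b hD h7 hn3 hlam hκ hz,
      act_a'_W a b hD h7 hn3 hlam hκ (inWW_Rot a b hD s hz), rot1 a b hD hn3 hlam hκ,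
      rot2 a b hD hn3 hlam hκ]

end main1

end Cfsg.Agent.Lib.Helper11.OmGen
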