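import Mathlib
import Cfsg.Agent.Lib.Helper11.OmGenH

/-!
helper11: main argument for the two-generation of `Ω⁻_{2n+2}(q)`, part 2: the first full short
root group.
-/

set_option autoImplicit false
set_option linter.unusedSimpArgs false
set_option linter.unusedSectionVars false
set_option linter.unusedVariables false
set_option linter.unnecessarySeqFocus false

namespace Cfsg.Agent.Lib.Helper11.OmGen

open QuadraticMap Cfsg.Agent.Lib.Helper18.OrthAut Cfsg.Agent.Lib.Helper14.OrthMinus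
  Cfsg.Agent.Lib.Helper25.CD Cfsg.Agent.Lib.Helper25.PS Cfsg.Agent.Lib.Helper14.QuadExt

variable {F : Type*} [Field F] [Fintype F] {n : ℕ} (a b : F) (hD : a ^ 2 - 4 * b ≠ 0)
  (h7 : 7 ≤ Fintype.card (Idx n))

theorem wρ_ne_zero : (wρ n F : Idx n → F) ≠ 0 := by
  intro h
  have := congrFun h (Sum.inr 0)
  simp [wρ, wV] at this

theorem lam_ne (hab : Aniso a b) (s : F) : s ^ 2 + a * s + b ≠ 0 := by
  intro h0
  have := hab s 1 (by linear_combination h0)
  exact one_ne_zero this.2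

/-- `Rot` has no eigenvector in the anisotropic plane -/
theorem rot_no_eigen (hab : Aniso a b) {s : F} (hs : 2 * s + a ≠ 0) {z : Idx n → F}
    (hz : InWW n z) (μ : F) (h : Rot a b hD s z = μ • z) : z = 0 :=
  no_eigen a b hD hab s hs hz μ h

theorem refl_eq_zero {w z : Idx n → F} (hw : Qm n a b hD w ≠ 0)
    (h : refl (Qm n a b hD) w z = 0) : z = 0 := by
  have := refl_refl (Qm n a b hD) hw z
  rw [h] at this
  rw [← this]
  unfold refl
  simp

/-- the auxiliary vectors -/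
noncomputable def v1 (s κ : F) : Idx n → F := wρ n F + -(κ ^ 2 • Rot a b hD s (wρ n F))

noncomputable def w1 (s κ : F) : Idx n → F := -(refl (Qm n a b hD) (wρ n F) (v1 a b hD s κ))

noncomputable def w2 (s κ : F) : Idx n → F := w1 a b hD s κ + -(Rot a b hD s (w1 a b hD s κ))

theorem inWW_v1 (s κ : F) : InWW n (v1 a b hD s κ) :=
  inWW_wρ.add ((inWW_Rot a b hD s inWW_wρ).smul _).neg

theorem inWW_w1 (s κ : F) : InWW n (w1 a b hD s κ) :=
  (inWW_refl a b hD inWW_wρ (inWW_v1 a b hD s κ)).neg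

theorem inWW_w2 (s κ : F) : InWW n (w2 a b hD s κ) :=
  (inWW_w1 a b hD s κ).add (inWW_Rot a b hD s (inWW_w1 a b hD s κ)).neg

theorem w2_ne_zero (hab : Aniso a b) {s κ : F} (hs : 2 * s + a ≠ 0) (hκ : κ ≠ 0) :
    (w2 a b hD s κ : Idx n → F) ≠ 0 := by
  intro h
  have q3 : Qm n a b hD (wρ n F) ≠ 0 := by rw [Q_wρ]; exact one_ne_zero
  -- `w1 = 0`
  have h1 : (w1 a b hD s κ : Idx n → F) = 0 := by
    apply rot_no_eigen a b hD hab hs (inWW_w1 a b hD s κ) 1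
    unfold w2 at h
    rw [one_smul]
    have := eq_neg_of_add_eq_zero_right h
    exact neg_injective this
  have h2 : (v1 a b hD s κ : Idx n → F) = 0 := by
    unfold w1 at h1
    exact refl_eq_zero a b hD q3 (neg_eq_zero.mp h1)
  apply wρ_ne_zero (n := n) (F := F)
  apply rot_no_eigen a b hD hab hs inWW_wρ ((κ ^ 2)⁻¹)
  unfold v1 at h2
  have h3 : (wρ n F : Idx n → F) = κ ^ 2 • Rot a b hD s (wρ n F) := by
    have := eq_neg_of_add_eq_zero_left h2
    rw [neg_neg] at this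
    exact this
  have hk2 : κ ^ 2 ≠ 0 := pow_ne_zero 2 hκ
  conv_rhs => rw [h3]
  rw [smul_smul, inv_mul_cancel₀ hk2, one_smul]

section main2
variable (hab : Aniso a b) (hn3 : 3 ≤ n) {s κ : F} (hκ : κ ≠ 0)
include hab hn3 hκ

/-- first conjugation: `b a b⁻¹ = X(e₀, w1) a'` -/
theorem y_form :
    (cEl a b hD h7 * XX a b hD h7 (E n 1) (wρ n F)) * aEl a b hD h7 s κ *
      (cEl a b hD h7 * XX a b hD h7 (E n 1) (wρ n F))⁻¹ =
    XX a b hD h7 (E n 0) (w1 a b hD s κ) * aEl' a b hD h7 s κ := by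
  have hlam := lam_ne a b hab s
  have hQ1 := Q_E (n := n) a b hD 1
  have hp1 : ∀ w, InWW n w → polar (Qm n a b hD) (E n 1) w = 0 :=
    fun w hw => polar_E_inWW a b hD 1 hw
  have e1 : aEl a b hD h7 s κ * XX a b hD h7 (E n 1) (wρ n F) * (aEl a b hD h7 s κ)⁻¹ =
      XX a b hD h7 (E n 1) (κ ^ 2 • Rot a b hD s (wρ n F)) := by
    rw [XX, X_conj, act_a_E a b hD h7 hn3 hlam hκ (by omega), act_a_W a b hD h7 hn3 hlam hκ inWW_wρ]
    have : chi a b s κ 1 = κ ^ 2 := by unfold chi; simp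
    rw [this]
    exact X_smul_left _ _ _ hQ1 (hp1 _ (inWW_Rot a b hD s inWW_wρ)) _
  have e3 : XX a b hD h7 (E n 1) (wρ n F) *
      (aEl a b hD h7 s κ * XX a b hD h7 (E n 1) (wρ n F) * (aEl a b hD h7 s κ)⁻¹)⁻¹ =
      XX a b hD h7 (E n 1) (v1 a b hD s κ) := by
    rw [e1]
    unfold v1
    rw [XX, XX, XX, X_add _ _ _ hQ1 (hp1 _ inWW_wρ)
      (hp1 _ ((inWW_Rot a b hD s inWW_wρ).smul _).neg),
      X_neg _ _ _ hQ1 (hp1 _ ((inWW_Rot a b hD s inWW_wρ).smul _))]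
  have e4 : cEl a b hD h7 * XX a b hD h7 (E n 1) (v1 a b hD s κ) * (cEl a b hD h7)⁻¹ =
      XX a b hD h7 (E n 0) (w1 a b hD s κ) := by
    rw [XX, X_conj, act_c_E a b hD h7 hn3 le_rfl (by omega),
      act_c_W a b hD h7 hn3 (inWW_v1 a b hD s κ)]
    unfold w1
    exact X_neg_left _ _ _ (Q_E a b hD 0)
      (polar_E_inWW a b hD 0 (inWW_refl a b hD inWW_wρ (inWW_v1 a b hD s κ)))
  unfold aEl'
  rw [← e4, ← e3]
  group

/-- second step: a pure short root element -/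
theorem z_form :
    (XX a b hD h7 (E n 0) (w1 a b hD s κ) * aEl' a b hD h7 s κ) * aEl a b hD h7 s κ *
      (XX a b hD h7 (E n 0) (w1 a b hD s κ) * aEl' a b hD h7 s κ)⁻¹ * (aEl a b hD h7 s κ)⁻¹ =
    XX a b hD h7 (E n 0) (w2 a b hD s κ) := by
  have hlam := lam_ne a b hab s
  have hQ0 := Q_E (n := n) a b hD 0
  have hp0 : ∀ w, InWW n w → polar (Qm n a b hD) (E n 0) w = 0 :=
    fun w hw => polar_E_inWW a b hD 0 hw
  have hc := a_comm_a' a b hD h7 hn3 hlam hκ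
  have e1 : aEl' a b hD h7 s κ * aEl a b hD h7 s κ * (aEl' a b hD h7 s κ)⁻¹ =
      aEl a b hD h7 s κ := by
    rw [← hc]; group
  have e2 : aEl a b hD h7 s κ * XX a b hD h7 (E n 0) (w1 a b hD s κ) * (aEl a b hD h7 s κ)⁻¹ =
      XX a b hD h7 (E n 0) (Rot a b hD s (w1 a b hD s κ)) := by
    rw [XX, X_conj, act_a_E a b hD h7 hn3 hlam hκ (by omega),
      act_a_W a b hD h7 hn3 hlam hκ (inWW_w1 a b hD s κ)]
    have : chi a b s κ 0 = 1 := by unfold chi; simp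
    rw [this, one_smul]
  have e3 : XX a b hD h7 (E n 0) (w2 a b hD s κ) =
      XX a b hD h7 (E n 0) (w1 a b hD s κ) *
        (aEl a b hD h7 s κ * XX a b hD h7 (E n 0) (w1 a b hD s κ) * (aEl a b hD h7 s κ)⁻¹)⁻¹ := by
    rw [e2]
    unfold w2
    rw [XX, XX, XX, X_add _ _ _ hQ0 (hp0 _ (inWW_w1 a b hD s κ))
      (hp0 _ (inWW_Rot a b hD s (inWW_w1 a b hD s κ)).neg),
      X_neg _ _ _ hQ0 (hp0 _ (inWW_Rot a b hD s (inWW_w1 a b hD s κ)))]
  rw [e3]
  have e4 : (XX a b hD h7 (E n 0) (w1 a b hD s κ) * aEl' a b hD h7 s κ) * aEl a b hD h7 s κ *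
      (XX a b hD h7 (E n 0) (w1 a b hD s κ) * aEl' a b hD h7 s κ)⁻¹ * (aEl a b hD h7 s κ)⁻¹ =
      XX a b hD h7 (E n 0) (w1 a b hD s κ) *
        (aEl' a b hD h7 s κ * aEl a b hD h7 s κ * (aEl' a b hD h7 s κ)⁻¹) *
        (XX a b hD h7 (E n 0) (w1 a b hD s κ))⁻¹ * (aEl a b hD h7 s κ)⁻¹ := by group
  rw [e4, e1]
  group

end main2

end Cfsg.Agent.Lib.Helper11.OmGen
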