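import Mathlib
import Cfsg.Agent.Lib.Helper11.OmGenI

/-!
helper11: main argument for the two-generation of `Ω⁻_{2n+2}(q)`, part 3: all short root groups
at the standard singular basis vectors lie in `H = ⟨a, b⟩`.
-/

set_option autoImplicit false
set_option linter.unusedSimpArgs false
set_option linter.unusedSectionVars false
set_option linter.unusedVariables false
set_option linter.unnecessarySeqFocus false

namespace Cfsg.Agent.Lib.Helper11.OmGen

open QuadraticMap Cfsg.Agent.Lib.Helper18.OrthAut Cfsg.Agent.Lib.Helper14.OrthMinus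
  Cfsg.Agent.Lib.Helper25.CD Cfsg.Agent.Lib.Helper25.PS Cfsg.Agent.Lib.Helper14.QuadExt

variable {F : Type*} [Field F] [Fintype F] {n : ℕ} (a b : F) (hD : a ^ 2 - 4 * b ≠ 0)
  (h7 : 7 ≤ Fintype.card (Idx n))

/-- all short root elements at `u` lie in `H` -/
def ShortIn (H : Subgroup ↥(Cfsg.Omega F ⇑(Qm n a b hD))) (u : Idx n → F) : Prop :=
  ∀ w, InWW n w → XX a b hD h7 u w ∈ H

/-- propagation of `ShortIn` along an element of `H` acting on the plane as a reflection -/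
theorem shortIn_conj (H : Subgroup ↥(Cfsg.Omega F ⇑(Qm n a b hD)))
    {c : ↥(Cfsg.Omega F ⇑(Qm n a b hD))} (hc : c ∈ H) {ρ : Idx n → F} (hρ : InWW n ρ)
    (hρ0 : Qm n a b hD ρ ≠ 0)
    (hcW : ∀ z, InWW n z → act (Qm n a b hD) c z = refl (Qm n a b hD) ρ z)
    {u v : Idx n → F} (hcu : act (Qm n a b hD) c u = -v) (hv : Qm n a b hD v = 0)
    (hvp : ∀ w, InWW n w → polar (Qm n a b hD) v w = 0)
    (hP : ShortIn a b hD h7 H u) : ShortIn a b hD h7 H v := by
  intro w hw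
  have hw' : InWW n (-(refl (Qm n a b hD) ρ w)) := (inWW_refl a b hD hρ hw).neg
  have h1 := hP _ hw'
  have h2 := X_conj (Qm n a b hD) (Qm_nondeg n a b hD) h7 c u (-(refl (Qm n a b hD) ρ w))
  rw [hcu, act_neg, hcW _ (inWW_refl a b hD hρ hw), refl_refl _ hρ0] at h2
  rw [X_neg_left _ _ _ hv (by rw [polar_neg_right, hvp _ hw, neg_zero]), neg_neg] at h2
  rw [XX, ← h2]
  exact H.mul_mem (H.mul_mem hc h1) (H.inv_mem hc)

section main3
variable (hab : Aniso a b) (hn3 : 3 ≤ n) {s : F} (hs : 2 * s + a ≠ 0) (g : Fˣ)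
  (hg : ∀ y : Fˣ, y ∈ Subgroup.zpowers g) (H : Subgroup ↥(Cfsg.Omega F ⇑(Qm n a b hD)))
  (haH : aEl a b hD h7 s (g : F) ∈ H)
  (hbH : cEl a b hD h7 * XX a b hD h7 (E n 1) (wρ n F) ∈ H)
include hab hn3 hs hg haH hbH

theorem short_E0 : ShortIn a b hD h7 H (E n 0) := by
  have hκ : (g : F) ≠ 0 := g.ne_zero
  have hlam := lam_ne a b hab s
  have hQ0 := Q_E (n := n) a b hD 0
  have hp0 : ∀ w, InWW n w → polar (Qm n a b hD) (E n 0) w = 0 :=
    fun w hw => polar_E_inWW a b hD 0 hw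
  have hy : XX a b hD h7 (E n 0) (w1 a b hD s (g : F)) * aEl' a b hD h7 s (g : F) ∈ H := by
    rw [← y_form a b hD h7 hab hn3 hκ]
    exact H.mul_mem (H.mul_mem hbH haH) (H.inv_mem hbH)
  have hz : XX a b hD h7 (E n 0) (w2 a b hD s (g : F)) ∈ H := by
    rw [← z_form a b hD h7 hab hn3 hκ]
    exact H.mul_mem (H.mul_mem (H.mul_mem hy haH) (H.inv_mem hy)) (H.inv_mem haH)
  have hRot : ∀ w ∈ AW a b hD h7 H (E n 0) hQ0 hp0, Rot a b hD s w ∈ AW a b hD h7 H (E n 0) hQ0 hp0 := by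
    rintro w ⟨hw1, hw2⟩
    refine ⟨inWW_Rot a b hD s hw1, ?_⟩
    have h2 := X_conj (Qm n a b hD) (Qm_nondeg n a b hD) h7 (aEl a b hD h7 s (g : F)) (E n 0) w
    rw [act_a_E a b hD h7 hn3 hlam hκ (by omega), act_a_W a b hD h7 hn3 hlam hκ hw1] at h2
    have hchi : chi a b s (g : F) 0 = 1 := by unfold chi; simp
    rw [hchi, one_smul] at h2
    rw [XX, ← h2]
    exact H.mul_mem (H.mul_mem haH hw2) (H.inv_mem haH)
  have hRot' : ∀ w ∈ AW a b hD h7 H (E n 0) hQ0 hp0,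
      ((g : F) ^ 2) • Rot' a b hD s w ∈ AW a b hD h7 H (E n 0) hQ0 hp0 := by
    rintro w ⟨hw1, hw2⟩
    have hr : InWW n (Rot' a b hD s w) := inWW_Rot' a b hD hn3 hlam hκ hw1
    refine ⟨hr.smul _, ?_⟩
    have h2 := X_conj (Qm n a b hD) (Qm_nondeg n a b hD) h7 (aEl' a b hD h7 s (g : F)) (E n 0) w
    rw [act_a'_E0 a b hD h7 hn3 hlam hκ, act_a'_W a b hD h7 hn3 hlam hκ hw1,
      X_smul_left _ _ _ hQ0 (hp0 _ hr)] at h2
    -- conjugate by `y = X₀ a'`
    have h3 : (XX a b hD h7 (E n 0) (w1 a b hD s (g : F)) * aEl' a b hD h7 s (g : F)) *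
        XX a b hD h7 (E n 0) w *
        (XX a b hD h7 (E n 0) (w1 a b hD s (g : F)) * aEl' a b hD h7 s (g : F))⁻¹ =
        XX a b hD h7 (E n 0) (((g : F) ^ 2) • Rot' a b hD s w) := by
      have e : (XX a b hD h7 (E n 0) (w1 a b hD s (g : F)) * aEl' a b hD h7 s (g : F)) *
          XX a b hD h7 (E n 0) w *
          (XX a b hD h7 (E n 0) (w1 a b hD s (g : F)) * aEl' a b hD h7 s (g : F))⁻¹ =
          XX a b hD h7 (E n 0) (w1 a b hD s (g : F)) *
          (aEl' a b hD h7 s (g : F) * XX a b hD h7 (E n 0) w * (aEl' a b hD h7 s (g : F))⁻¹) *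
          (XX a b hD h7 (E n 0) (w1 a b hD s (g : F)))⁻¹ := by group
      rw [e, XX, XX, h2, X_comm _ _ _ hQ0 (hp0 _ (inWW_w1 a b hD s (g : F))) (hp0 _ (hr.smul _))]
      group
    rw [← h3]
    exact H.mul_mem (H.mul_mem hy hw2) (H.inv_mem hy)
  have hsq : ∀ w ∈ AW a b hD h7 H (E n 0) hQ0 hp0,
      ((g : F) ^ 2) • w ∈ AW a b hD h7 H (E n 0) hQ0 hp0 := by
    intro w hw
    have := hRot' _ (hRot w hw)
    rwa [rot2 a b hD hn3 hlam hκ] at this
  have hsm := smul_closed (AW a b hD h7 H (E n 0) hQ0 hp0) g hg hsq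
  have hw2A : w2 a b hD s (g : F) ∈ AW a b hD h7 H (E n 0) hQ0 hp0 :=
    ⟨inWW_w2 a b hD s (g : F), hz⟩
  intro z hz'
  have := mem_of_indep (A := AW a b hD h7 H (E n 0) hQ0 hp0) hsm (inWW_w2 a b hD s (g : F))
    (inWW_Rot a b hD s (inWW_w2 a b hD s (g : F))) hw2A (hRot _ hw2A)
    (fun μ hμ => w2_ne_zero a b hD hab hs hκ
      (rot_no_eigen a b hD hab hs (inWW_w2 a b hD s (g : F)) μ hμ))
    (w2_ne_zero a b hD hab hs hκ) hz'
  exact this.2

theorem short_E1 : ShortIn a b hD h7 H (E n 1) := by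
  have h0 := short_E0 a b hD h7 hab hn3 hs g hg H haH hbH
  have q3 : Qm n a b hD (wρ n F) ≠ 0 := by rw [Q_wρ]; exact one_ne_zero
  have hQ1 := Q_E (n := n) a b hD 1
  have hp1 : ∀ w, InWW n w → polar (Qm n a b hD) (E n 1) w = 0 :=
    fun w hw => polar_E_inWW a b hD 1 hw
  intro w hw
  -- `b⁻¹ X(e₀, v) b` with `v = -refl w`
  have hv : InWW n (-(refl (Qm n a b hD) (wρ n F) w)) := (inWW_refl a b hD inWW_wρ hw).neg
  have h1 := h0 _ hv
  have hc1 : act (Qm n a b hD) (cEl a b hD h7)⁻¹ (E n 0) = -E n 1 := by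
    apply act_injective _ (cEl a b hD h7)
    rw [act_act_inv, act_neg, act_c_E a b hD h7 hn3 le_rfl (by omega), neg_neg]
  have h2 := X_conj (Qm n a b hD) (Qm_nondeg n a b hD) h7 (cEl a b hD h7)⁻¹ (E n 0)
    (-(refl (Qm n a b hD) (wρ n F) w))
  rw [hc1, act_neg, act_cinv_W a b hD h7 hn3 (inWW_refl a b hD inWW_wρ hw), refl_refl _ q3,
    X_neg_left _ _ _ hQ1 (by rw [polar_neg_right, hp1 _ hw, neg_zero]), neg_neg, inv_inv] at h2
  -- h2 : c⁻¹ * X (E 0) v * c = X (E 1) w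
  have h3 : (cEl a b hD h7 * XX a b hD h7 (E n 1) (wρ n F))⁻¹ *
      XX a b hD h7 (E n 0) (-(refl (Qm n a b hD) (wρ n F) w)) *
      (cEl a b hD h7 * XX a b hD h7 (E n 1) (wρ n F)) = XX a b hD h7 (E n 1) w := by
    have e : (cEl a b hD h7 * XX a b hD h7 (E n 1) (wρ n F))⁻¹ *
        XX a b hD h7 (E n 0) (-(refl (Qm n a b hD) (wρ n F) w)) *
        (cEl a b hD h7 * XX a b hD h7 (E n 1) (wρ n F)) =
        (XX a b hD h7 (E n 1) (wρ n F))⁻¹ * ((cEl a b hD h7)⁻¹ *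
        XX a b hD h7 (E n 0) (-(refl (Qm n a b hD) (wρ n F) w)) * cEl a b hD h7) *
        XX a b hD h7 (E n 1) (wρ n F) := by group
    rw [e, XX, XX, h2, mul_assoc, X_comm _ _ _ hQ1 (hp1 _ hw) (hp1 _ inWW_wρ), ← mul_assoc,
      inv_mul_cancel, one_mul]
  rw [← h3]
  exact H.mul_mem (H.mul_mem (H.inv_mem hbH) h1) hbH

theorem c_mem : cEl a b hD h7 ∈ H := by
  have h1 := short_E1 a b hD h7 hab hn3 hs g hg H haH hbH _ (inWW_wρ (n := n) (F := F))
  have : cEl a b hD h7 = (cEl a b hD h7 * XX a b hD h7 (E n 1) (wρ n F)) *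
      (XX a b hD h7 (E n 1) (wρ n F))⁻¹ := by group
  rw [this]
  exact H.mul_mem hbH (H.inv_mem h1)

theorem short_Fv {j : ℕ} (hj : j < n) : ShortIn a b hD h7 H (Fv n j) := by
  have h0 := short_E0 a b hD h7 hab hn3 hs g hg H haH hbH
  have hc := c_mem a b hD h7 hab hn3 hs g hg H haH hbH
  have q3 : Qm n a b hD (wρ n F) ≠ 0 := by rw [Q_wρ]; exact one_ne_zero
  have hcW : ∀ z, InWW n z → act (Qm n a b hD) (cEl a b hD h7) z = refl (Qm n a b hD) (wρ n F) z :=
    fun z hz => act_c_W a b hD h7 hn3 hz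
  have key : ∀ k, k < n → ShortIn a b hD h7 H (Fv n (n - 1 - k)) := by
    intro k
    induction k with
    | zero =>
      intro _
      exact shortIn_conj a b hD h7 H hc inWW_wρ q3 hcW (act_c_E0 a b hD h7 hn3) (Q_Fv a b hD _)
        (fun w hw => polar_Fv_inWW a b hD _ hw) h0
    | succ k ih =>
      intro hk
      have h1 := ih (by omega)
      have e : n - 1 - (k + 1) = (n - 1 - k) - 1 := by omega
      rw [e]
      exact shortIn_conj a b hD h7 H hc inWW_wρ q3 hcW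
        (act_c_Fv a b hD h7 hn3 (j := n - 1 - k) (by omega) (by omega)) (Q_Fv a b hD _)
        (fun w hw => polar_Fv_inWW a b hD _ hw) h1
  have := key (n - 1 - j) (by omega)
  have e : n - 1 - (n - 1 - j) = j := by omega
  rwa [e] at this

theorem short_E {j : ℕ} (hj : j < n) : ShortIn a b hD h7 H (E n j) := by
  have h0 := short_Fv a b hD h7 hab hn3 hs g hg H haH hbH (j := 0) (by omega)
  have hc := c_mem a b hD h7 hab hn3 hs g hg H haH hbH
  have q3 : Qm n a b hD (wρ n F) ≠ 0 := by rw [Q_wρ]; exact one_ne_zero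
  have hcW : ∀ z, InWW n z → act (Qm n a b hD) (cEl a b hD h7) z = refl (Qm n a b hD) (wρ n F) z :=
    fun z hz => act_c_W a b hD h7 hn3 hz
  have key : ∀ k, k < n → ShortIn a b hD h7 H (E n (n - 1 - k)) := by
    intro k
    induction k with
    | zero =>
      intro _
      exact shortIn_conj a b hD h7 H hc inWW_wρ q3 hcW (act_c_Fv0 a b hD h7 hn3) (Q_E a b hD _)
        (fun w hw => polar_E_inWW a b hD _ hw) h0
    | succ k ih =>
      intro hk
      have h1 := ih (by omega)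
      have e : n - 1 - (k + 1) = (n - 1 - k) - 1 := by omega
      rw [e]
      exact shortIn_conj a b hD h7 H hc inWW_wρ q3 hcW
        (act_c_E a b hD h7 hn3 (j := n - 1 - k) (by omega) (by omega)) (Q_E a b hD _)
        (fun w hw => polar_E_inWW a b hD _ hw) h1
  have := key (n - 1 - j) (by omega)
  have e : n - 1 - (n - 1 - j) = j := by omega
  rwa [e] at this

end main3

end Cfsg.Agent.Lib.Helper11.OmGen
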