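import Mathlib
import Cfsg.Agent.Lib.Helper11.OmGenJ

/-!
helper11: main argument for the two-generation of `Ω⁻_{2n+2}(q)`, part 4: long root elements,
the full root subgroups at `e₀`, `f₀`, and `H = ⊤`.
-/

set_option autoImplicit false
set_option linter.unusedSimpArgs false
set_option linter.unusedSectionVars false
set_option linter.unusedVariables false
set_option linter.unnecessarySeqFocus false

namespace Cfsg.Agent.Lib.Helper11.OmGen

open QuadraticMap Cfsg.Agent.Lib.Helper18.OrthAut Cfsg.Agent.Lib.Helper14.OrthMinus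
  Cfsg.Agent.Lib.Helper25.CD Cfsg.Agent.Lib.Helper25.PS Cfsg.Agent.Lib.Helper14.QuadExt

variable {F : Type*} [Field F] [Fintype F] {n : ℕ} (a b : F) (hD : a ^ 2 - 4 * b ≠ 0)
  (h7 : 7 ≤ Fintype.card (Idx n))

/-- long root elements from short ones -/
theorem long_mem (H : Subgroup ↥(Cfsg.Omega F ⇑(Qm n a b hD))) {u u' : Idx n → F}
    (hu : Qm n a b hD u = 0) (hu' : Qm n a b hD u' = 0) (huu' : polar (Qm n a b hD) u u' = 0)
    (hup : ∀ w, InWW n w → polar (Qm n a b hD) u w = 0)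
    (hup' : ∀ w, InWW n w → polar (Qm n a b hD) u' w = 0) {s : F} (hs : 2 * s + a ≠ 0)
    (hP : ShortIn a b hD h7 H u) (hP' : ShortIn a b hD h7 H u') (t : F) :
    XX a b hD h7 u' (t • u) ∈ H := by
  have hw' : InWW n ((-t / (2 * s + a)) • wa n s) := (inWW_wa s).smul _
  have h := long_of_short (Qm n a b hD) (Qm_nondeg n a b hD) h7 H hu hu' huu'
    (hup _ inWW_wρ) (hup _ hw') (hup' _ inWW_wρ) (hup' _ hw') (hP _ inWW_wρ) (hP' _ hw')
  have e : -polar (Qm n a b hD) (wρ n F) ((-t / (2 * s + a)) • wa n s) = t := by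
    rw [polar_smul_right, polar_wρ_wa, smul_eq_mul]
    field_simp
  rw [e] at h
  exact h

/-- the vectors `v ⊥ u` with `X u v ∈ H` -/
def AP (H : Subgroup ↥(Cfsg.Omega F ⇑(Qm n a b hD))) (u : Idx n → F)
    (hu : Qm n a b hD u = 0) : AddSubgroup (Idx n → F) where
  carrier := {v | polar (Qm n a b hD) u v = 0 ∧ XX a b hD h7 u v ∈ H}
  zero_mem' := ⟨by simp, by rw [XX, X_zero]; exact H.one_mem⟩
  add_mem' := by
    rintro w w' ⟨h1, h2⟩ ⟨h1', h2'⟩
    refine ⟨by rw [polar_add_right, h1, h1', add_zero], ?_⟩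
    rw [XX, X_add _ _ _ hu h1 h1']
    exact H.mul_mem h2 h2'
  neg_mem' := by
    rintro w ⟨h1, h2⟩
    refine ⟨by rw [polar_neg_right, h1, neg_zero], ?_⟩
    rw [XX, X_neg _ _ _ hu h1]
    exact H.inv_mem h2

theorem RU_le_of_terms (H : Subgroup ↥(Cfsg.Omega F ⇑(Qm n a b hD))) {u : Idx n → F}
    (hu : Qm n a b hD u = 0)
    (hE : ∀ j : Fin n, ∀ v, polar (Qm n a b hD) u v = 0 →
      (v (Sum.inl (Sum.inl j))) • E n (j : ℕ) ∈ AP a b hD h7 H u hu)
    (hF : ∀ j : Fin n, ∀ v, polar (Qm n a b hD) u v = 0 →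
      (v (Sum.inl (Sum.inr j))) • Fv n (j : ℕ) ∈ AP a b hD h7 H u hu)
    (hW : ∀ w, InWW n w → w ∈ AP a b hD h7 H u hu) : RU (Qm n a b hD) u hu ≤ H := by
  intro g hg
  obtain ⟨v, hv, hgv⟩ := hg
  have e : g = XX a b hD h7 u v := by
    apply Subtype.ext
    rw [XX, X_eq _ _ _ hu hv, TO_val]
    exact hgv
  rw [e]
  have hmem : v ∈ AP a b hD h7 H u hu := by
    rw [decomp v]
    apply AddSubgroup.add_mem
    · apply AddSubgroup.sum_mem
      intro j _
      exact AddSubgroup.add_mem _ (hE j v hv) (hF j v hv)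
    · exact hW _ (inWW_wV _ _)
  exact hmem.2

section main4
variable (hab : Aniso a b) (hn3 : 3 ≤ n) {s : F} (hs : 2 * s + a ≠ 0) (g : Fˣ)
  (hg : ∀ y : Fˣ, y ∈ Subgroup.zpowers g) (H : Subgroup ↥(Cfsg.Omega F ⇑(Qm n a b hD)))
  (haH : aEl a b hD h7 s (g : F) ∈ H)
  (hbH : cEl a b hD h7 * XX a b hD h7 (E n 1) (wρ n F) ∈ H)
include hab hn3 hs hg haH hbH

theorem RU_E0_le : RU (Qm n a b hD) (E n 0) (Q_E a b hD 0) ≤ H := by
  have hSE : ∀ j, j < n → ShortIn a b hD h7 H (E n j) :=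
    fun j hj => short_E a b hD h7 hab hn3 hs g hg H haH hbH hj
  have hSF : ∀ j, j < n → ShortIn a b hD h7 H (Fv n j) :=
    fun j hj => short_Fv a b hD h7 hab hn3 hs g hg H haH hbH hj
  have h0n : 0 < n := by omega
  apply RU_le_of_terms a b hD h7 H (Q_E a b hD 0)
  · intro j v hv
    refine ⟨by rw [polar_smul_right, polar_E_E, smul_zero], ?_⟩
    by_cases hj : (j : ℕ) = 0
    · rw [hj, XX, X_smul_self _ _ _ (Q_E a b hD 0)]
      exact H.one_mem
    · exact long_mem a b hD h7 H (Q_E a b hD _) (Q_E a b hD 0) (polar_E_E a b hD _ _)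
        (fun w hw => polar_E_inWW a b hD _ hw) (fun w hw => polar_E_inWW a b hD _ hw) hs
        (hSE _ j.2) (hSE _ h0n) _
  · intro j v hv
    by_cases hj : (j : ℕ) = 0
    · have hj' : j = ⟨0, h0n⟩ := Fin.ext hj
      rw [polar_E a b hD h0n] at hv
      rw [hj', hv, zero_smul]
      exact AddSubgroup.zero_mem _
    · refine ⟨by rw [polar_smul_right, polar_E_Fv_ne a b hD (Ne.symm hj), smul_zero], ?_⟩
      exact long_mem a b hD h7 H (Q_Fv a b hD _) (Q_E a b hD 0)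
        (polar_Fv_E_ne a b hD hj)
        (fun w hw => polar_Fv_inWW a b hD _ hw) (fun w hw => polar_E_inWW a b hD _ hw) hs
        (hSF _ j.2) (hSE _ h0n) _
  · intro w hw
    exact ⟨polar_E_inWW a b hD 0 hw, hSE 0 h0n w hw⟩

theorem RU_Fv0_le : RU (Qm n a b hD) (Fv n 0) (Q_Fv a b hD 0) ≤ H := by
  have hSE : ∀ j, j < n → ShortIn a b hD h7 H (E n j) :=
    fun j hj => short_E a b hD h7 hab hn3 hs g hg H haH hbH hj
  have hSF : ∀ j, j < n → ShortIn a b hD h7 H (Fv n j) :=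
    fun j hj => short_Fv a b hD h7 hab hn3 hs g hg H haH hbH hj
  have h0n : 0 < n := by omega
  apply RU_le_of_terms a b hD h7 H (Q_Fv a b hD 0)
  · intro j v hv
    by_cases hj : (j : ℕ) = 0
    · have hj' : j = ⟨0, h0n⟩ := Fin.ext hj
      rw [polar_Fv a b hD h0n] at hv
      rw [hj', hv, zero_smul]
      exact AddSubgroup.zero_mem _
    · refine ⟨by rw [polar_smul_right, polar_Fv_E_ne a b hD (Ne.symm hj), smul_zero], ?_⟩
      exact long_mem a b hD h7 H (Q_E a b hD _) (Q_Fv a b hD 0)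
        (polar_E_Fv_ne a b hD hj)
        (fun w hw => polar_E_inWW a b hD _ hw) (fun w hw => polar_Fv_inWW a b hD _ hw) hs
        (hSE _ j.2) (hSF _ h0n) _
  · intro j v hv
    refine ⟨by rw [polar_smul_right, polar_Fv_Fv, smul_zero], ?_⟩
    by_cases hj : (j : ℕ) = 0
    · rw [hj, XX, X_smul_self _ _ _ (Q_Fv a b hD 0)]
      exact H.one_mem
    · exact long_mem a b hD h7 H (Q_Fv a b hD _) (Q_Fv a b hD 0) (polar_Fv_Fv a b hD _ _)
        (fun w hw => polar_Fv_inWW a b hD _ hw) (fun w hw => polar_Fv_inWW a b hD _ hw) hs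
        (hSF _ j.2) (hSF _ h0n) _
  · intro w hw
    exact ⟨polar_Fv_inWW a b hD 0 hw, hSF 0 h0n w hw⟩

theorem H_eq_top : H = ⊤ := by
  have h0n : 0 < n := by omega
  have hp : HypPair (Qm n a b hD) (E n 0) (Fv n 0) :=
    ⟨Q_E a b hD 0, Q_Fv a b hD 0, polar_E_Fv_self a b hD h0n⟩
  exact gen_top (Qm n a b hD) (Qm_nondeg n a b hD) h7 hp H
    (RU_E0_le a b hD h7 hab hn3 hs g hg H haH hbH)
    (RU_Fv0_le a b hD h7 hab hn3 hs g hg H haH hbH)

end main4

/-- `Ω⁻_{2n+2}(q)` (`n ≥ 3`) is generated by two elements -/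
theorem omega_minus_two_gen (hab : Aniso a b) (hn3 : 3 ≤ n) :
    ∃ x y : ↥(Cfsg.Omega F ⇑(Qm n a b hD)), Subgroup.closure {x, y} = ⊤ := by
  obtain ⟨g, hg⟩ := IsCyclic.exists_generator (α := Fˣ)
  have h7 : 7 ≤ Fintype.card (Idx n) := by rw [card_Idx]; omega
  -- choose `s` with `2 s + a ≠ 0`
  obtain ⟨s, hs⟩ : ∃ s : F, 2 * s + a ≠ 0 := by
    by_cases ha : a = 0
    · refine ⟨1, ?_⟩
      rw [ha, add_zero, mul_one]
      intro h2
      apply hD
      rw [ha]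
      have : (4 : F) = 2 * 2 := by norm_num
      rw [this, h2]; ring
    · exact ⟨0, by rw [mul_zero, zero_add]; exact ha⟩
  refine ⟨aEl a b hD h7 s (g : F), cEl a b hD h7 * XX a b hD h7 (E n 1) (wρ n F), ?_⟩
  apply H_eq_top a b hD h7 hab hn3 hs g hg
  · exact Subgroup.subset_closure (Set.mem_insert _ _)
  · exact Subgroup.subset_closure (Set.mem_insert_of_mem _ rfl)

end Cfsg.Agent.Lib.Helper11.OmGen
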