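import Mathlib
import Cfsg.Agent.Lib.Helper4.OrdReach
import Cfsg.Agent.Lib.Helper11.FrobOTA

/-!
Helper lemmas (helper11) for S3998: a group with the order type of a supersolvable group is solvable.

For a threshold `t`, `St G t` is the set of elements all of whose prime divisors of the order are
`≥ t`. In a supersolvable group this set is a normal Hall subgroup; a group in which all these sets
are as small as possible has a Sylow tower, hence is solvable.
-/

set_option autoImplicit false

namespace Cfsg.Agent.Lib.Helper11.OrdTypeSS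

open Cfsg.Agent.Lib.Helper4

universe u v

/-- elements all of whose prime divisors of the order are at least `t` -/
def St (G : Type u) [Group G] (t : ℕ) : Set G :=
  {x | ∀ q : ℕ, q.Prime → q ∣ orderOf x → t ≤ q}

/-- the invariant along an ordered chain -/
theorem ordReach_inv {G : Type u} [Group G] [Finite G] (t : ℕ) {c b : ℕ} {K : Subgroup G}
    (h : OrdReach (⊥ : Subgroup G) c K b) :
    ∃ N : Subgroup G, N.Normal ∧ N ≤ K ∧ (∀ q : ℕ, q.Prime → q ∣ Nat.card N → t ≤ q) ∧
      (∀ q : ℕ, q.Prime → q ∣ N.relIndex K → q < t) ∧ (N = K ∨ b < t) := by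
  induction h with
  | base b hb =>
    refine ⟨⊥, inferInstance, le_rfl, ?_, ?_, Or.inl rfl⟩
    · intro q hq hqd
      rw [Subgroup.card_bot] at hqd
      exact absurd (Nat.dvd_one.mp hqd) hq.one_lt.ne'
    · intro q hq hqd
      rw [Subgroup.relIndex_self] at hqd
      exact absurd (Nat.dvd_one.mp hqd) hq.one_lt.ne'
  | step K₀ K' b₀ q b' h₀ hle hn hq hqp hqb hbq ih =>
    obtain ⟨N, hNn, hNK, hN1, hN2, hN3⟩ := ih
    by_cases hqt : q < t
    · refine ⟨N, hNn, hNK.trans hle, hN1, ?_, Or.inr (lt_of_le_of_lt hbq hqt)⟩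
      intro r hr hrd
      rw [← Subgroup.relIndex_mul_relIndex N K₀ K' hNK hle, hq] at hrd
      rcases (Nat.Prime.dvd_mul hr).mp hrd with h | h
      · exact hN2 r hr h
      · have : r = q := (Nat.prime_dvd_prime_iff_eq hr hqp).mp h
        rw [this]; exact hqt
    · push_neg at hqt
      have hNeq : N = K₀ := by
        rcases hN3 with h | h
        · exact h
        · omega
      refine ⟨K', hn, le_rfl, ?_, ?_, Or.inl rfl⟩
      · intro r hr hrd
        have hcard : Nat.card K₀ * q = Nat.card K' := by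
          have := Subgroup.relIndex_mul_relIndex ⊥ K₀ K' bot_le hle
          rw [Subgroup.relIndex_bot_left, Subgroup.relIndex_bot_left, hq] at this
          exact this
        rw [← hcard] at hrd
        rcases (Nat.Prime.dvd_mul hr).mp hrd with h | h
        · exact hN1 r hr (hNeq ▸ h)
        · have : r = q := (Nat.prime_dvd_prime_iff_eq hr hqp).mp h
          rw [this]; exact hqt
      · intro r hr hrd
        rw [Subgroup.relIndex_self] at hrd
        exact absurd (Nat.dvd_one.mp hrd) hr.one_lt.ne'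

/-- In a supersolvable group there is, for each `t`, a normal subgroup whose order has all prime
divisors `≥ t` and whose index has all prime divisors `< t`. -/
theorem exists_normal_part {G : Type u} [Group G] [Finite G] (hG : Cfsg.IsSupersolvable G) (t : ℕ) :
    ∃ N : Subgroup G, N.Normal ∧ (∀ q : ℕ, q.Prime → q ∣ Nat.card N → t ≤ q) ∧
      (∀ q : ℕ, q.Prime → q ∣ N.index → q < t) := by
  obtain ⟨b, hb⟩ := ordReach_top_aux _ G rfl hG (Nat.card G)
    (fun q _ hqd => Nat.le_of_dvd Nat.card_pos hqd)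
  obtain ⟨N, hNn, -, hN1, hN2, -⟩ := ordReach_inv t hb
  refine ⟨N, hNn, hN1, ?_⟩
  intro q hq hqd
  rw [← Subgroup.relIndex_top_right] at hqd
  exact hN2 q hq hqd

/-- such a normal subgroup contains `St G t` -/
theorem St_subset {G : Type u} [Group G] [Finite G] (t : ℕ) (N : Subgroup G) [hN : N.Normal]
    (h2 : ∀ q : ℕ, q.Prime → q ∣ N.index → q < t) : St G t ⊆ (N : Set G) := by
  intro x hx
  by_contra hxN
  have h1 : orderOf (QuotientGroup.mk' N x) ≠ 1 := by
    intro h
    rw [orderOf_eq_one_iff, QuotientGroup.mk'_apply, QuotientGroup.eq_one_iff] at h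
    exact hxN h
  obtain ⟨q, hq, hqd⟩ := Nat.exists_prime_and_dvd h1
  have h3 : q ∣ orderOf x := hqd.trans (orderOf_map_dvd _ x)
  have h4 : q ∣ N.index := by
    refine hqd.trans ?_
    have : Nat.card (G ⧸ N) = N.index := rfl
    rw [← this]
    exact orderOf_dvd_natCard _
  have := hx q hq h3
  have := h2 q hq h4
  omega

theorem card_St_le {G : Type u} [Group G] [Finite G] (t : ℕ) (N : Subgroup G) [hN : N.Normal]
    (h2 : ∀ q : ℕ, q.Prime → q ∣ N.index → q < t) : Nat.card (St G t) ≤ Nat.card N := by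
  have := Set.ncard_le_ncard (St_subset t N h2) (Set.toFinite _)
  rw [← Nat.card_coe_set_eq, ← Nat.card_coe_set_eq] at this
  exact this

/-- uniqueness of the `≥ t`-part of a number -/
theorem part_unique {n t c c' : ℕ} (hn : 0 < n) (hc : c ∣ n) (hc' : c' ∣ n)
    (h1 : ∀ q : ℕ, q.Prime → q ∣ c → t ≤ q) (h2 : ∀ q : ℕ, q.Prime → q ∣ n / c → q < t)
    (h1' : ∀ q : ℕ, q.Prime → q ∣ c' → t ≤ q) (h2' : ∀ q : ℕ, q.Prime → q ∣ n / c' → q < t) :
    c = c' := by
  have key : ∀ a b : ℕ, a ∣ n → b ∣ n → (∀ q : ℕ, q.Prime → q ∣ a → t ≤ q) →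
      (∀ q : ℕ, q.Prime → q ∣ n / b → q < t) → a ∣ b := by
    intro a b ha hb ha1 hb2
    have hcop : a.Coprime (n / b) := by
      apply Nat.Coprime.symm
      apply Nat.coprime_of_dvd
      intro k hk hk1 hk2
      have := ha1 k hk hk2
      have := hb2 k hk hk1
      omega
    have : a ∣ b * (n / b) := by rw [Nat.mul_div_cancel' hb]; exact ha
    exact hcop.dvd_of_dvd_mul_right this
  exact Nat.dvd_antisymm (key c c' hc hc' h1 h2') (key c' c hc' hc h1' h2)

theorem card_sup_dvd' {X : Type u} [Group X] (H K : Subgroup X) [K.Normal] :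
    Nat.card ↥(H ⊔ K) ∣ Nat.card ↥H * Nat.card ↥K := by
  have h := Subgroup.relIndex_mul_relIndex ⊥ K (H ⊔ K) bot_le le_sup_right
  rw [Subgroup.relIndex_bot_left, Subgroup.relIndex_bot_left, Subgroup.relIndex_sup_right] at h
  rw [← h, mul_comm]
  exact Nat.mul_dvd_mul (Subgroup.relIndex_dvd_card K H) dvd_rfl

/-- join of a solvable normal subgroup and a solvable subgroup is solvable -/
theorem isSolvable_sup {X : Type u} [Group X] (N Q : Subgroup X) [hN : N.Normal]
    (hNs : Group.IsSolvable N) (hQs : Group.IsSolvable Q) : Group.IsSolvable ↥(N ⊔ Q) := by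
  let f : N →* ↥(N ⊔ Q) := Subgroup.inclusion le_sup_left
  let g : ↥(N ⊔ Q) →* X ⧸ N := (QuotientGroup.mk' N).comp (N ⊔ Q).subtype
  have hrange : g.range = Q.map (QuotientGroup.mk' N) := by
    rw [MonoidHom.range_comp, Subgroup.range_subtype, Subgroup.map_sup,
      QuotientGroup.map_mk'_self, bot_sup_eq]
  have hs1 : Group.IsSolvable (Q.map (QuotientGroup.mk' N)) :=
    Group.isSolvable_of_surjective (f := (QuotientGroup.mk' N).subgroupMap Q)
      ((QuotientGroup.mk' N).subgroupMap_surjective Q)
  have hs2 : Group.IsSolvable g.range := by rw [hrange]; exact hs1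
  refine Group.isSolvable_of_ker_le_range f g.rangeRestrict ?_
  intro x hx
  rw [MonoidHom.mem_ker] at hx
  have hx' : g x = 1 := by
    have := congrArg Subtype.val hx
    simpa using this
  have hxN : (x : X) ∈ N := by
    rw [← QuotientGroup.eq_one_iff]
    exact hx'
  exact ⟨⟨x, hxN⟩, Subtype.ext rfl⟩

end Cfsg.Agent.Lib.Helper11.OrdTypeSS
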