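import Mathlib
import Cfsg.Agent.Lib.Helper11.OrdTypeSS

/-!
Helper lemmas (helper11) for S3998, part B: a finite group in which, for every threshold `t`, the
number of elements whose order has only prime divisors `≥ t` is at most the `≥ t`-part of the group
order has a Sylow tower, hence is solvable.
-/

set_option autoImplicit false

namespace Cfsg.Agent.Lib.Helper11.OrdTypeSS

universe u v

theorem orderOf_conj_eq'' {G : Type u} [Group G] (g x : G) :
    orderOf (g * x * g⁻¹) = orderOf x := by
  have := (MulAut.conj g).orderOf_eq x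
  rwa [MulAut.conj_apply] at this

/-- the inductive step: adjoin a Sylow `t`-subgroup -/
theorem tower_step {X : Type u} [Group X] [Finite X] (t : ℕ)
    (hyp : ∃ c : ℕ, c ∣ Nat.card X ∧ (∀ q : ℕ, q.Prime → q ∣ c → t ≤ q) ∧
      (∀ q : ℕ, q.Prime → q ∣ Nat.card X / c → q < t) ∧ Nat.card (St X t) ≤ c)
    (N : Subgroup X) (hNn : N.Normal) (hNs : Group.IsSolvable N)
    (hN1 : ∀ q : ℕ, q.Prime → q ∣ Nat.card N → t + 1 ≤ q)
    (hN2 : ∀ q : ℕ, q.Prime → q ∣ N.index → q < t + 1) :
    ∃ M : Subgroup X, M.Normal ∧ Group.IsSolvable M ∧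
      (∀ q : ℕ, q.Prime → q ∣ Nat.card M → t ≤ q) ∧ (∀ q : ℕ, q.Prime → q ∣ M.index → q < t) := by
  classical
  by_cases ht : t.Prime ∧ t ∣ Nat.card X
  · obtain ⟨htp, htd⟩ := ht
    haveI : Fact t.Prime := ⟨htp⟩
    let Q : Sylow t X := default
    obtain ⟨k, hk⟩ : ∃ k, Nat.card (Q : Subgroup X) = t ^ k := ⟨_, Q.card_eq_multiplicity⟩
    have hM1 : ∀ q : ℕ, q.Prime → q ∣ Nat.card ↥(N ⊔ (Q : Subgroup X)) → t ≤ q := by
      intro q hq hqd
      have h1 : q ∣ Nat.card (Q : Subgroup X) * Nat.card N := by
        have := card_sup_dvd' (Q : Subgroup X) N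
        rw [sup_comm] at this
        exact hqd.trans this
      rcases (Nat.Prime.dvd_mul hq).mp h1 with h | h
      · rw [hk] at h
        have := (Nat.prime_dvd_prime_iff_eq hq htp).mp (hq.dvd_of_dvd_pow h)
        omega
      · have := hN1 q hq h
        omega
    have hM2 : ∀ q : ℕ, q.Prime → q ∣ (N ⊔ (Q : Subgroup X)).index → q < t := by
      intro q hq hqd
      have h1 : q ∣ N.index := hqd.trans (Subgroup.index_dvd_of_le le_sup_left)
      have h2 := hN2 q hq h1
      have h3 : q ≠ t := by
        intro h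
        have h4 : t ∣ (Q : Subgroup X).index :=
          (h ▸ hqd).trans (Subgroup.index_dvd_of_le le_sup_right)
        exact Q.not_dvd_index h4
      omega
    obtain ⟨c, hc, hc1, hc2, hc3⟩ := hyp
    have hcard : c = Nat.card ↥(N ⊔ (Q : Subgroup X)) := by
      refine part_unique Nat.card_pos hc (Subgroup.card_subgroup_dvd_card _) hc1 hc2 hM1 ?_
      intro q hq hqd
      apply hM2 q hq
      have : Nat.card X / Nat.card ↥(N ⊔ (Q : Subgroup X)) = (N ⊔ (Q : Subgroup X)).index := by
        have h := (N ⊔ (Q : Subgroup X)).card_mul_index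
        rw [← h]
        exact Nat.mul_div_cancel_left _ Nat.card_pos
      rw [this] at hqd
      exact hqd
    have hsub : ((N ⊔ (Q : Subgroup X) : Subgroup X) : Set X) ⊆ St X t := by
      intro x hx q hq hqd
      exact hM1 q hq (hqd.trans (Subgroup.orderOf_dvd_natCard _ hx))
    have hle : Set.ncard (St X t) ≤ Set.ncard ((N ⊔ (Q : Subgroup X) : Subgroup X) : Set X) := by
      rw [← Nat.card_coe_set_eq, ← Nat.card_coe_set_eq]
      exact hc3.trans (le_of_eq hcard)
    have heq := Set.eq_of_subset_of_ncard_le hsub hle (Set.toFinite _)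
    refine ⟨N ⊔ (Q : Subgroup X), ⟨fun y hy g => ?_⟩, ?_, hM1, hM2⟩
    · have hy' : y ∈ St X t := hsub hy
      have : g * y * g⁻¹ ∈ St X t := by
        intro q hq hqd
        rw [orderOf_conj_eq''] at hqd
        exact hy' q hq hqd
      rw [← heq] at this
      exact this
    · haveI := hNn
      have hQs : Group.IsSolvable (Q : Subgroup X) := by
        haveI : Group.IsNilpotent (Q : Subgroup X) := Q.isPGroup'.isNilpotent
        infer_instance
      exact isSolvable_sup N (Q : Subgroup X) hNs hQs
  · refine ⟨N, hNn, hNs, fun q hq hqd => ?_, fun q hq hqd => ?_⟩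
    · have := hN1 q hq hqd
      omega
    · have h1 := hN2 q hq hqd
      have h2 : q ≠ t := by
        intro h
        apply ht
        rw [← h]
        exact ⟨hq, hqd.trans (Subgroup.index_dvd_card N)⟩
      omega

/-- a group with the counting property for all thresholds is solvable -/
theorem isSolvable_of_counts {X : Type u} [Group X] [Finite X]
    (hyp : ∀ t : ℕ, ∃ c : ℕ, c ∣ Nat.card X ∧ (∀ q : ℕ, q.Prime → q ∣ c → t ≤ q) ∧
      (∀ q : ℕ, q.Prime → q ∣ Nat.card X / c → q < t) ∧ Nat.card (St X t) ≤ c) :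
    Group.IsSolvable X := by
  have key : ∀ d t : ℕ, t + d = Nat.card X + 1 →
      ∃ M : Subgroup X, M.Normal ∧ Group.IsSolvable M ∧
        (∀ q : ℕ, q.Prime → q ∣ Nat.card M → t ≤ q) ∧
        (∀ q : ℕ, q.Prime → q ∣ M.index → q < t) := by
    intro d
    induction d with
    | zero =>
      intro t ht
      refine ⟨⊥, inferInstance, ?_, ?_, ?_⟩
      · infer_instance
      · intro q hq hqd
        rw [Subgroup.card_bot] at hqd
        exact absurd (Nat.dvd_one.mp hqd) hq.one_lt.ne'
      · intro q hq hqd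
        rw [Subgroup.index_bot] at hqd
        have := Nat.le_of_dvd Nat.card_pos hqd
        omega
    | succ d ih =>
      intro t ht
      obtain ⟨N, hNn, hNs, hN1, hN2⟩ := ih (t + 1) (by omega)
      exact tower_step t (hyp t) N hNn hNs hN1 hN2
  obtain ⟨M, hMn, hMs, -, hM2⟩ := key (Nat.card X + 1) 0 (by omega)
  have hidx : M.index = 1 := by
    by_contra h
    obtain ⟨q, hq, hqd⟩ := Nat.exists_prime_and_dvd h
    exact absurd (hM2 q hq hqd) (by omega)
  have htop : M = ⊤ := Subgroup.index_eq_one.mp hidx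
  rw [htop] at hMs
  exact Group.isSolvable_of_isSolvable_injective
    (f := (Subgroup.topEquiv : (⊤ : Subgroup X) ≃* X).symm.toMonoidHom)
    (Subgroup.topEquiv : (⊤ : Subgroup X) ≃* X).symm.injective

/-- a group with the order type of a supersolvable group is solvable -/
theorem isSolvable_of_orderEquiv {G : Type u} {X : Type v} [Group G] [Finite G] [Group X] [Finite X]
    (hG : Cfsg.IsSupersolvable G) (e : G ≃ X) (he : ∀ x, orderOf (e x) = orderOf x) :
    Group.IsSolvable X := by
  apply isSolvable_of_counts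
  intro t
  obtain ⟨N, hNn, hN1, hN2⟩ := exists_normal_part hG t
  have hcard : Nat.card X = Nat.card G := (Nat.card_congr e).symm
  refine ⟨Nat.card N, ?_, hN1, ?_, ?_⟩
  · rw [hcard]; exact Subgroup.card_subgroup_dvd_card N
  · intro q hq hqd
    apply hN2 q hq
    have : Nat.card X / Nat.card N = N.index := by
      rw [hcard, ← N.card_mul_index]
      exact Nat.mul_div_cancel_left _ Nat.card_pos
    rw [this] at hqd
    exact hqd
  · have h1 : Nat.card (St X t) = Nat.card (St G t) := by
      refine (Nat.card_congr (e.subtypeEquiv (fun x => ?_))).symm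
      simp only [St, Set.mem_ofPred_eq, he x]
    rw [h1]
    have := hNn
    exact card_St_le t N hN2

end Cfsg.Agent.Lib.Helper11.OrdTypeSS
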