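import Mathlib

set_option autoImplicit false

namespace Cfsg.Agent.Lib.Helper11.Pres2

open Polynomial

section Word

variable {G : Type*} [Group G]

/-- `g^m u g^-m` -/
def cj (g u : G) (m : ℕ) : G := g ^ m * u * (g ^ m)⁻¹

/-- `∏_{m<n} (v m)^(c m)` (in increasing order of `m`) -/
def wordF (v : ℕ → G) (c : ℕ → ℕ) : ℕ → G
  | 0 => 1
  | n + 1 => wordF v c n * v n ^ c n

@[simp] theorem wordF_zero (v : ℕ → G) (c : ℕ → ℕ) : wordF v c 0 = 1 := rfl

theorem wordF_succ (v : ℕ → G) (c : ℕ → ℕ) (n : ℕ) : wordF v c (n + 1) = wordF v c n * v n ^ c n := rfl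

theorem cj_zero (g u : G) : cj g u 0 = u := by simp [cj]

theorem map_cj {H : Type*} [Group H] (ρ : G →* H) (g u : G) (m : ℕ) :
    ρ (cj g u m) = cj (ρ g) (ρ u) m := by
  simp [cj]

theorem map_wordF {H : Type*} [Group H] (ρ : G →* H) (v : ℕ → G) (c : ℕ → ℕ) (n : ℕ) :
    ρ (wordF v c n) = wordF (fun m => ρ (v m)) c n := by
  induction n with
  | zero => simp
  | succ n ih => rw [wordF_succ, wordF_succ, map_mul, map_pow, ih]

theorem map_wordF_cj {H : Type*} [Group H] (ρ : G →* H) (g u : G) (c : ℕ → ℕ) (n : ℕ) :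
    ρ (wordF (cj g u) c n) = wordF (cj (ρ g) (ρ u)) c n := by
  rw [map_wordF]
  congr 1
  funext m
  exact map_cj ρ g u m

theorem conj_cj (g u : G) (k m : ℕ) : g ^ k * cj g u m * (g ^ k)⁻¹ = cj g u (k + m) := by
  unfold cj
  rw [pow_add]
  group

theorem conj_wordF_cj (g u : G) (c : ℕ → ℕ) (n k : ℕ) :
    g ^ k * wordF (cj g u) c n * (g ^ k)⁻¹ = wordF (fun m => cj g u (k + m)) c n := by
  have := map_wordF (MulAut.conj (g ^ k)).toMonoidHom (cj g u) c n
  simp only [MulEquiv.coe_toMonoidHom, MulAut.conj_apply] at this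
  rw [this]
  congr 1
  funext m
  exact conj_cj g u k m

theorem wordF_congr (v v' : ℕ → G) (c c' : ℕ → ℕ) (n : ℕ) (hv : ∀ m < n, v m = v' m)
    (hc : ∀ m < n, c m = c' m) : wordF v c n = wordF v' c' n := by
  induction n with
  | zero => rfl
  | succ n ih =>
    rw [wordF_succ, wordF_succ, ih (fun m hm => hv m (Nat.lt_succ_of_lt hm))
      (fun m hm => hc m (Nat.lt_succ_of_lt hm)), hv n (Nat.lt_succ_self n), hc n (Nat.lt_succ_self n)]

theorem wordF_mem (S : Subgroup G) (v : ℕ → G) (c : ℕ → ℕ) (n : ℕ) (hv : ∀ m < n, v m ∈ S) :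
    wordF v c n ∈ S := by
  induction n with
  | zero => exact S.one_mem
  | succ n ih =>
    rw [wordF_succ]
    exact S.mul_mem (ih fun m hm => hv m (Nat.lt_succ_of_lt hm)) (S.pow_mem (hv n (Nat.lt_succ_self n)) _)

end Word

section Module

variable (p : ℕ) [Fact p.Prime] {K : Type*} [Field K] [Algebra (ZMod p) K] {G : Type*} [Group G]

theorem add_hom_zero (x : K → G) (h : ∀ a b, x (a + b) = x a * x b) : x 0 = 1 := by
  have := h 0 0
  rw [add_zero] at this
  exact (mul_eq_left.mp this.symm)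

theorem add_hom_natCast (x : K → G) (h : ∀ a b, x (a + b) = x a * x b) (n : ℕ) :
    x (n : K) = x 1 ^ n := by
  induction n with
  | zero => rw [Nat.cast_zero, pow_zero]; exact add_hom_zero x h
  | succ n ih => rw [Nat.cast_succ, h, ih, pow_succ]

theorem add_hom_neg (x : K → G) (h : ∀ a b, x (a + b) = x a * x b) (a : K) : x (-a) = (x a)⁻¹ := by
  rw [eq_inv_iff_mul_eq_one, ← h, neg_add_cancel, add_hom_zero x h]

/-- two additive maps `K → G`, equivariant for multiplication by a generator `c` of `K` over the prime field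
and conjugation by `g`, agreeing at `1`, are equal -/
theorem x_unique (g : G) (c : K) (hgen : ∀ a : K, ∃ f : (ZMod p)[X], aeval c f = a)
    (x₁ x₂ : K → G) (h₁ : ∀ a b, x₁ (a + b) = x₁ a * x₁ b) (h₂ : ∀ a b, x₂ (a + b) = x₂ a * x₂ b)
    (e₁ : ∀ a, x₁ (c * a) = g * x₁ a * g⁻¹) (e₂ : ∀ a, x₂ (c * a) = g * x₂ a * g⁻¹)
    (h1 : x₁ 1 = x₂ 1) : x₁ = x₂ := by
  funext a
  obtain ⟨f, rfl⟩ := hgen a
  induction f using Polynomial.induction_on with
  | C r =>
    have hr : (aeval c (C r) : K) = ((r.val : ℕ) : K) := by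
      rw [aeval_C]
      conv_lhs => rw [← ZMod.natCast_zmod_val r]
      rw [map_natCast]
    rw [hr, add_hom_natCast x₁ h₁, add_hom_natCast x₂ h₂, h1]
  | add f f' hf hf' => rw [map_add, h₁, h₂, hf, hf']
  | monomial n r ih =>
    have : (aeval c (C r * X ^ (n + 1)) : K) = c * aeval c (C r * X ^ n) := by
      simp only [map_mul, map_pow, aeval_X, aeval_C]
      ring
    rw [this, e₁, e₂, ih]

/-- linear-algebra core: a cyclic `(ZMod p)[X]`-module killed by the minimal polynomial of `c` receives `K = F_p[c]` -/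
theorem exists_X {M : Type*} [AddCommGroup M] [Module (ZMod p) M]
    (σ : M →ₗ[ZMod p] M) (u0 : M) (c : K) (hμ : (aeval σ (minpoly (ZMod p) c)) u0 = 0)
    (hgen : ∀ a : K, ∃ f : (ZMod p)[X], aeval c f = a) :
    ∃ Y : K → M, (∀ a b, Y (a + b) = Y a + Y b) ∧ Y 1 = u0 ∧ (∀ a, Y (c * a) = σ (Y a)) ∧
      ∀ f : (ZMod p)[X], Y (aeval c f) = (aeval σ f) u0 := by
  classical
  have hΦdvd : ∀ f : (ZMod p)[X], minpoly (ZMod p) c ∣ f → (aeval σ f) u0 = 0 := by
    rintro f ⟨r, rfl⟩
    rw [mul_comm, map_mul, Module.End.mul_apply, hμ, map_zero]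
  have hΦwd : ∀ f f' : (ZMod p)[X], (aeval c f : K) = aeval c f' → (aeval σ f) u0 = (aeval σ f') u0 := by
    intro f f' hff
    have h0 : (aeval c (f - f') : K) = 0 := by rw [map_sub, hff, sub_self]
    have := hΦdvd _ (minpoly.dvd (ZMod p) c h0)
    rw [map_sub, LinearMap.sub_apply, sub_eq_zero] at this
    exact this
  let Y : K → M := fun a => (aeval σ (Classical.choose (hgen a))) u0
  have hX : ∀ f : (ZMod p)[X], Y (aeval c f) = (aeval σ f) u0 := by
    intro f
    exact hΦwd _ f (Classical.choose_spec (hgen (aeval c f)))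
  refine ⟨Y, ?_, ?_, ?_, hX⟩
  · intro a b
    obtain ⟨fa, rfl⟩ := hgen a
    obtain ⟨fb, rfl⟩ := hgen b
    rw [← map_add, hX, hX, hX, map_add, LinearMap.add_apply]
  · have h1 : (aeval c (1 : (ZMod p)[X]) : K) = 1 := map_one _
    rw [← h1, hX, map_one, Module.End.one_apply]
  · intro a
    obtain ⟨fa, rfl⟩ := hgen a
    have h1 : c * (aeval c fa : K) = aeval c (X * fa) := by rw [map_mul, aeval_X]
    rw [h1, hX, hX, map_mul, aeval_X, Module.End.mul_apply]

theorem aeval_apply_eq_sum {M : Type*} [AddCommGroup M] [Module (ZMod p) M]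
    (σ : M →ₗ[ZMod p] M) (u0 : M) (f : (ZMod p)[X]) :
    (aeval σ f) u0 = ∑ m ∈ Finset.range (f.natDegree + 1), (f.coeff m).val • (σ ^ m) u0 := by
  rw [aeval_eq_sum_range, LinearMap.sum_apply]
  apply Finset.sum_congr rfl
  intro m _
  rw [LinearMap.smul_apply]
  conv_lhs => rw [← ZMod.natCast_zmod_val (f.coeff m)]
  rw [Nat.cast_smul_eq_nsmul]

open scoped IsMulCommutative in
theorem exists_x_of_subgroup (g u : G) (c : K) (A : Subgroup G) [IsMulCommutative A]
    (hexp : ∀ a : G, a ∈ A → a ^ p = 1) (hconj : ∀ a : G, a ∈ A → g * a * g⁻¹ ∈ A)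
    (hv : ∀ m, cj g u m ∈ A)
    (hμ : wordF (cj g u) (fun m => ((minpoly (ZMod p) c).coeff m).val)
      ((minpoly (ZMod p) c).natDegree + 1) = 1)
    (hgen : ∀ a : K, ∃ f : (ZMod p)[X], aeval c f = a) :
    ∃ x : K → G, (∀ a b, x (a + b) = x a * x b) ∧ x 1 = u ∧ (∀ a, x (c * a) = g * x a * g⁻¹) ∧
      ∀ f : (ZMod p)[X], x (aeval c f) = wordF (cj g u) (fun m => (f.coeff m).val) (f.natDegree + 1) := by
  classical
  let σ : A →* A :=
    { toFun := fun a => ⟨g * a.1 * g⁻¹, hconj a.1 a.2⟩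
      map_one' := by ext; simp
      map_mul' := fun a b => by ext; simp only [Subgroup.coe_mul]; group }
  have hexp' : ∀ a : Additive A, p • a = 0 := by
    intro a
    have := hexp (Additive.toMul a).1 (Additive.toMul a).2
    apply Additive.toMul.injective
    rw [toMul_nsmul, toMul_zero]
    ext
    rw [Subgroup.coe_pow, this, Subgroup.coe_one]
  letI modI : Module (ZMod p) (Additive A) := AddCommGroup.zmodModule (n := p) hexp'
  let σL : Additive A →ₗ[ZMod p] Additive A := (MonoidHom.toAdditive σ).toZModLinearMap p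
  let u0 : Additive A := Additive.ofMul ⟨cj g u 0, hv 0⟩
  have hσpow : ∀ m, (σL ^ m) u0 = Additive.ofMul ⟨cj g u m, hv m⟩ := by
    intro m
    induction m with
    | zero => rfl
    | succ m ih =>
      rw [pow_succ', Module.End.mul_apply, ih]
      show Additive.ofMul (σ ⟨cj g u m, hv m⟩) = _
      congr 1
      ext
      show g * cj g u m * g⁻¹ = cj g u (m + 1)
      have := conj_cj g u 1 m
      rw [pow_one] at this
      rw [this, add_comm]
  have hsum : ∀ (cf : ℕ → ℕ) (n : ℕ),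
      ((Additive.toMul (∑ m ∈ Finset.range n, cf m • (σL ^ m) u0) : A) : G) =
        wordF (cj g u) cf n := by
    intro cf n
    induction n with
    | zero => simp
    | succ n ih =>
      rw [Finset.sum_range_succ, toMul_add, Subgroup.coe_mul, ih, wordF_succ, hσpow,
        toMul_nsmul, Subgroup.coe_pow]
      rfl
  have hΦ : ∀ f : (ZMod p)[X], ((Additive.toMul ((aeval σL f) u0) : A) : G) =
      wordF (cj g u) (fun m => (f.coeff m).val) (f.natDegree + 1) := by
    intro f
    rw [aeval_apply_eq_sum, hsum]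
  have hΦμ : (aeval σL (minpoly (ZMod p) c)) u0 = 0 := by
    apply Additive.toMul.injective
    ext
    rw [hΦ, hμ]
    rfl
  obtain ⟨Y, hXadd, hX1, hXc, hXf⟩ := exists_X p σL u0 c hΦμ hgen
  refine ⟨fun a => ((Additive.toMul (Y a) : A) : G), ?_, ?_, ?_, ?_⟩
  · intro a b
    show ((Additive.toMul (Y (a + b)) : A) : G) = _
    rw [hXadd, toMul_add, Subgroup.coe_mul]
  · show ((Additive.toMul (Y 1) : A) : G) = u
    rw [hX1]
    exact cj_zero g u
  · intro a
    show ((Additive.toMul (Y (c * a)) : A) : G) = _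
    rw [hXc]
    rfl
  · intro f
    show ((Additive.toMul (Y (aeval c f)) : A) : G) = _
    rw [hXf, hΦ]

/-- the subgroup generated by the conjugates `g^m u g^-m`, `m ∈ ℕ` -/
def famSub (g u : G) : Subgroup G := Subgroup.closure (Set.range (cj g u))

omit [Fact p.Prime] in
theorem cj_mem_famSub (g u : G) (m : ℕ) : cj g u m ∈ famSub g u :=
  Subgroup.subset_closure ⟨m, rfl⟩

omit [Fact p.Prime] in
theorem famSub_isMulCommutative (g u : G) (hcomm : ∀ m n, Commute (cj g u m) (cj g u n)) :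
    IsMulCommutative (famSub g u) :=
  Subgroup.isMulCommutative_closure (by
    rintro _ ⟨m, rfl⟩ _ ⟨n, rfl⟩; exact (hcomm m n).eq)

omit [Fact p.Prime] in
theorem famSub_comm (g u : G) (hcomm : ∀ m n, Commute (cj g u m) (cj g u n)) (a b : G)
    (ha : a ∈ famSub g u) (hb : b ∈ famSub g u) : Commute a b :=
  congrArg Subtype.val ((famSub_isMulCommutative g u hcomm).is_comm.comm
    (⟨a, ha⟩ : famSub g u) ⟨b, hb⟩)

omit [Fact p.Prime] in
theorem famSub_pow (g u : G) (hcomm : ∀ m n, Commute (cj g u m) (cj g u n)) (hp : u ^ p = 1)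
    (a : G) (ha : a ∈ famSub g u) : a ^ p = 1 := by
  unfold famSub at ha
  induction ha using Subgroup.closure_induction with
  | mem x hx =>
    obtain ⟨m, rfl⟩ := hx
    unfold cj
    rw [conj_pow, hp, mul_one, mul_inv_cancel]
  | one => exact one_pow _
  | mul x y hx hy ihx ihy => rw [(famSub_comm g u hcomm x y hx hy).mul_pow, ihx, ihy, one_mul]
  | inv x hx ih => rw [inv_pow, ih, inv_one]

omit [Fact p.Prime] in
theorem famSub_conj (g u : G) (a : G) (ha : a ∈ famSub g u) : g * a * g⁻¹ ∈ famSub g u := by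
  unfold famSub at ha ⊢
  induction ha using Subgroup.closure_induction with
  | mem x hx =>
    obtain ⟨m, rfl⟩ := hx
    have := conj_cj g u 1 m
    rw [pow_one] at this
    rw [this]
    exact Subgroup.subset_closure ⟨_, rfl⟩
  | one => simp
  | mul x y hx hy ihx ihy =>
    have : g * (x * y) * g⁻¹ = (g * x * g⁻¹) * (g * y * g⁻¹) := by group
    rw [this]; exact Subgroup.mul_mem _ ihx ihy
  | inv x hx ih =>
    have : g * x⁻¹ * g⁻¹ = (g * x * g⁻¹)⁻¹ := by group
    rw [this]; exact Subgroup.inv_mem _ ih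

omit [Fact p.Prime] in
theorem famSub_conj_pow (g u : G) (k : ℕ) (a : G) (ha : a ∈ famSub g u) :
    g ^ k * a * (g ^ k)⁻¹ ∈ famSub g u := by
  induction k with
  | zero => simpa using ha
  | succ k ih =>
    have : g ^ (k + 1) * a * (g ^ (k + 1))⁻¹ = g * (g ^ k * a * (g ^ k)⁻¹) * g⁻¹ := by
      rw [pow_succ']; group
    rw [this]
    exact famSub_conj g u _ ih

/-- existence of the root-subgroup parametrisation from the module relation -/
theorem exists_x (g u : G) (c : K)
    (hcomm : ∀ m n, Commute (cj g u m) (cj g u n)) (hp : u ^ p = 1)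
    (hμ : wordF (cj g u) (fun m => ((minpoly (ZMod p) c).coeff m).val)
      ((minpoly (ZMod p) c).natDegree + 1) = 1)
    (hgen : ∀ a : K, ∃ f : (ZMod p)[X], aeval c f = a) :
    ∃ x : K → G, (∀ a b, x (a + b) = x a * x b) ∧ x 1 = u ∧ (∀ a, x (c * a) = g * x a * g⁻¹) ∧
      ∀ f : (ZMod p)[X], x (aeval c f) = wordF (cj g u) (fun m => (f.coeff m).val) (f.natDegree + 1) := by
  haveI := famSub_isMulCommutative g u hcomm
  exact exists_x_of_subgroup p g u c (famSub g u) (famSub_pow p g u hcomm hp) (famSub_conj g u)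
    (cj_mem_famSub g u) hμ hgen

end Module

end Cfsg.Agent.Lib.Helper11.Pres2
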