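import Mathlib
import Cfsg.Agent.Lib.Helper11.Pres2A

set_option autoImplicit false

namespace Cfsg.Agent.Lib.Helper11.Pres2

section BCRW

variable {G : Type*} [Group G]

/-- conjugate of `u` by `g₁^m g₂^n` -/
def V (g₁ g₂ u : G) (m n : ℕ) : G := (g₁ ^ m * g₂ ^ n) * u * (g₁ ^ m * g₂ ^ n)⁻¹

theorem V_zero_right (g₁ g₂ u : G) (m : ℕ) : V g₁ g₂ u m 0 = cj g₁ u m := by
  simp [V, cj]

theorem conj₁_V (g₁ g₂ u : G) (m n : ℕ) : g₁ * V g₁ g₂ u m n * g₁⁻¹ = V g₁ g₂ u (m + 1) n := by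
  unfold V
  rw [pow_succ']
  group

theorem conj₂_V (g₁ g₂ u : G) (hg : Commute g₁ g₂) (m n : ℕ) :
    g₂ * V g₁ g₂ u m n * g₂⁻¹ = V g₁ g₂ u m (n + 1) := by
  unfold V
  have h : g₂ * (g₁ ^ m * g₂ ^ n) = g₁ ^ m * g₂ ^ (n + 1) := by
    rw [← mul_assoc, ((hg.pow_left m).eq).symm, mul_assoc, ← pow_succ']
  calc g₂ * (g₁ ^ m * g₂ ^ n * u * (g₁ ^ m * g₂ ^ n)⁻¹) * g₂⁻¹
      = (g₂ * (g₁ ^ m * g₂ ^ n)) * u * (g₂ * (g₁ ^ m * g₂ ^ n))⁻¹ := by group
    _ = _ := by rw [h]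

theorem V_split (g₁ g₂ u : G) (hg : Commute g₁ g₂) (hrel : u = (g₁ * u * g₁⁻¹) * (g₂ * u * g₂⁻¹))
    (m n : ℕ) : V g₁ g₂ u m n = V g₁ g₂ u (m + 1) n * V g₁ g₂ u m (n + 1) := by
  have h1 : g₁ ^ m * g₂ ^ n * g₁ = g₁ ^ (m + 1) * g₂ ^ n := by
    rw [mul_assoc, ((hg.pow_right n).eq).symm, ← mul_assoc, ← pow_succ]
  have h2 : g₁ ^ m * g₂ ^ n * g₂ = g₁ ^ m * g₂ ^ (n + 1) := by
    rw [mul_assoc, ← pow_succ]
  unfold V
  rw [← h1, ← h2]
  conv_lhs => rw [hrel]
  group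

theorem comm_ad {a b c d : G} (_hab : Commute a b) (hac : Commute a c) (hbc : Commute b c)
    (hbd : Commute b d) (hcd : Commute c d) (h : Commute (a * b) (c * d)) : Commute a d := by
  have hbcd : Commute (b * c) d := hbd.mul_left hcd
  have e1 : a * b * (c * d) = a * d * (b * c) := by
    calc a * b * (c * d) = a * (b * c * d) := by group
      _ = a * (d * (b * c)) := by rw [hbcd.eq]
      _ = a * d * (b * c) := by group
  have e2 : c * d * (a * b) = d * a * (b * c) := by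
    calc c * d * (a * b) = d * c * a * b := by rw [hcd.eq]; group
      _ = d * (c * a) * b := by group
      _ = d * (a * c) * b := by rw [hac.eq]
      _ = d * a * (c * b) := by group
      _ = d * a * (b * c) := by rw [hbc.eq]
  have := h.eq
  rw [e1, e2] at this
  exact mul_right_cancel this

theorem bcrw_level (g₁ g₂ u : G) (hg : Commute g₁ g₂)
    (hrel : u = (g₁ * u * g₁⁻¹) * (g₂ * u * g₂⁻¹))
    (hc : Commute (g₁ * u * g₁⁻¹) (g₂ * u * g₂⁻¹)) :
    ∀ s m n m' n' : ℕ, m + n = s → m' + n' = s → Commute (V g₁ g₂ u m n) (V g₁ g₂ u m' n') := by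
  have hV10 : V g₁ g₂ u 1 0 = g₁ * u * g₁⁻¹ := by simp [V]
  have hV01 : V g₁ g₂ u 0 1 = g₂ * u * g₂⁻¹ := by simp [V]
  intro s
  induction s with
  | zero =>
    intro m n m' n' h h'
    obtain ⟨rfl, rfl⟩ : m = 0 ∧ n = 0 := by omega
    obtain ⟨rfl, rfl⟩ : m' = 0 ∧ n' = 0 := by omega
    exact Commute.refl _
  | succ s ih =>
    -- conjugation cases
    have case1 : ∀ m n m' n' : ℕ, m + n = s + 1 → m' + n' = s + 1 → 1 ≤ m → 1 ≤ m' →
        Commute (V g₁ g₂ u m n) (V g₁ g₂ u m' n') := by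
      intro m n m' n' h h' hm hm'
      obtain ⟨k, rfl⟩ : ∃ k, m = k + 1 := ⟨m - 1, by omega⟩
      obtain ⟨k', rfl⟩ : ∃ k', m' = k' + 1 := ⟨m' - 1, by omega⟩
      rw [← conj₁_V, ← conj₁_V]
      have := ih k n k' n' (by omega) (by omega)
      show g₁ * V g₁ g₂ u k n * g₁⁻¹ * (g₁ * V g₁ g₂ u k' n' * g₁⁻¹) =
        g₁ * V g₁ g₂ u k' n' * g₁⁻¹ * (g₁ * V g₁ g₂ u k n * g₁⁻¹)
      calc g₁ * V g₁ g₂ u k n * g₁⁻¹ * (g₁ * V g₁ g₂ u k' n' * g₁⁻¹)
          = g₁ * (V g₁ g₂ u k n * V g₁ g₂ u k' n') * g₁⁻¹ := by group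
        _ = g₁ * (V g₁ g₂ u k' n' * V g₁ g₂ u k n) * g₁⁻¹ := by rw [this.eq]
        _ = _ := by group
    have case2 : ∀ m n m' n' : ℕ, m + n = s + 1 → m' + n' = s + 1 → 1 ≤ n → 1 ≤ n' →
        Commute (V g₁ g₂ u m n) (V g₁ g₂ u m' n') := by
      intro m n m' n' h h' hn hn'
      obtain ⟨k, rfl⟩ : ∃ k, n = k + 1 := ⟨n - 1, by omega⟩
      obtain ⟨k', rfl⟩ : ∃ k', n' = k' + 1 := ⟨n' - 1, by omega⟩
      rw [← conj₂_V g₁ g₂ u hg, ← conj₂_V g₁ g₂ u hg]
      have := ih m k m' k' (by omega) (by omega)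
      show g₂ * V g₁ g₂ u m k * g₂⁻¹ * (g₂ * V g₁ g₂ u m' k' * g₂⁻¹) =
        g₂ * V g₁ g₂ u m' k' * g₂⁻¹ * (g₂ * V g₁ g₂ u m k * g₂⁻¹)
      calc g₂ * V g₁ g₂ u m k * g₂⁻¹ * (g₂ * V g₁ g₂ u m' k' * g₂⁻¹)
          = g₂ * (V g₁ g₂ u m k * V g₁ g₂ u m' k') * g₂⁻¹ := by group
        _ = g₂ * (V g₁ g₂ u m' k' * V g₁ g₂ u m k) * g₂⁻¹ := by rw [this.eq]
        _ = _ := by group
    -- the corner pair
    have corner : Commute (V g₁ g₂ u (s + 1) 0) (V g₁ g₂ u 0 (s + 1)) := by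
      rcases Nat.eq_zero_or_pos s with hs | hs
      · subst hs
        rw [zero_add, hV10, hV01]
        exact hc
      · have hab := case1 (s + 1) 0 s 1 (by omega) (by omega) (by omega) (by omega)
        have hac := case1 (s + 1) 0 1 s (by omega) (by omega) (by omega) (by omega)
        have hbc := case1 s 1 1 s (by omega) (by omega) (by omega) (by omega)
        have hbd := case2 s 1 0 (s + 1) (by omega) (by omega) (by omega) (by omega)
        have hcd := case2 1 s 0 (s + 1) (by omega) (by omega) (by omega) (by omega)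
        have h := ih s 0 0 s (by omega) (by omega)
        rw [V_split g₁ g₂ u hg hrel s 0, V_split g₁ g₂ u hg hrel 0 s, zero_add] at h
        exact comm_ad hab hac hbc hbd hcd h
    intro m n m' n' h h'
    by_cases hm : 1 ≤ m
    · by_cases hm' : 1 ≤ m'
      · exact case1 m n m' n' h h' hm hm'
      · have hm'0 : m' = 0 := by omega
        subst hm'0
        by_cases hn : 1 ≤ n
        · exact case2 m n 0 n' h h' hn (by omega)
        · have hn0 : n = 0 := by omega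
          subst hn0
          obtain rfl : m = s + 1 := by omega
          obtain rfl : n' = s + 1 := by omega
          exact corner
    · have hm0 : m = 0 := by omega
      subst hm0
      by_cases hn' : 1 ≤ n'
      · exact case2 0 n m' n' h h' (by omega) hn'
      · have hn'0 : n' = 0 := by omega
        subst hn'0
        obtain rfl : n = s + 1 := by omega
        obtain rfl : m' = s + 1 := by omega
        exact corner.symm

theorem V_mem_level (g₁ g₂ u : G) (hg : Commute g₁ g₂)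
    (hrel : u = (g₁ * u * g₁⁻¹) * (g₂ * u * g₂⁻¹)) (s : ℕ) :
    ∀ k m n : ℕ, m + n + k = s →
      V g₁ g₂ u m n ∈ Subgroup.closure {x | ∃ m' n' : ℕ, m' + n' = s ∧ x = V g₁ g₂ u m' n'} := by
  intro k
  induction k with
  | zero =>
    intro m n h
    exact Subgroup.subset_closure ⟨m, n, by omega, rfl⟩
  | succ k ih =>
    intro m n h
    rw [V_split g₁ g₂ u hg hrel m n]
    exact Subgroup.mul_mem _ (ih (m + 1) n (by omega)) (ih m (n + 1) (by omega))

/-- the **BCRW trick** (two-parameter form): if `u = u^{g₁} u^{g₂}` with `g₁, g₂` commuting and `u^{g₁}, u^{g₂}`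
commuting, then all conjugates of `u` under powers of `g₁` commute -/
theorem bcrw (g₁ g₂ u : G) (hg : Commute g₁ g₂)
    (hrel : u = (g₁ * u * g₁⁻¹) * (g₂ * u * g₂⁻¹))
    (hc : Commute (g₁ * u * g₁⁻¹) (g₂ * u * g₂⁻¹)) :
    ∀ m n : ℕ, Commute (cj g₁ u m) (cj g₁ u n) := by
  intro m n
  rw [← V_zero_right g₁ g₂ u m, ← V_zero_right g₁ g₂ u n]
  set s := m + n with hs
  have hcm : IsMulCommutative
      (Subgroup.closure {x | ∃ m' n' : ℕ, m' + n' = s ∧ x = V g₁ g₂ u m' n'}) :=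
    Subgroup.isMulCommutative_closure (by
      rintro _ ⟨a, b, hab, rfl⟩ _ ⟨a', b', hab', rfl⟩
      exact (bcrw_level g₁ g₂ u hg hrel hc s a b a' b' hab hab').eq)
  have h1 := V_mem_level g₁ g₂ u hg hrel s n m 0 (by omega)
  have h2 := V_mem_level g₁ g₂ u hg hrel s m n 0 (by omega)
  exact congrArg Subtype.val (hcm.is_comm.comm
    (⟨_, h1⟩ : Subgroup.closure {x | ∃ m' n' : ℕ, m' + n' = s ∧ x = V g₁ g₂ u m' n'}) ⟨_, h2⟩)

/-- low degree: if the module relation has degree at most two and `u, u^g` commute, all conjugates commute -/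
theorem comm_of_deg_le_two (g u : G) (c : ℕ → ℕ) (d : ℕ) (hd1 : 1 ≤ d) (hd : d ≤ 2) (hcd : c d = 1)
    (hrel : wordF (cj g u) c (d + 1) = 1) (h01 : Commute u (g * u * g⁻¹)) :
    ∀ m n, Commute (cj g u m) (cj g u n) := by
  have hcj0 : cj g u 0 = u := cj_zero g u
  have hcj1 : cj g u 1 = g * u * g⁻¹ := by simp [cj]
  have hcm : IsMulCommutative (Subgroup.closure ({cj g u 0, cj g u 1} : Set G)) :=
    Subgroup.isMulCommutative_closure (by
      intro x hx y hy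
      rcases hx with rfl | rfl <;> rcases hy with rfl | rfl
      · rfl
      · rw [hcj0, hcj1]; exact h01.eq
      · rw [hcj0, hcj1]; exact h01.eq.symm
      · rfl)
  set B := Subgroup.closure ({cj g u 0, cj g u 1} : Set G) with hB
  have hrel' : ∀ k, wordF (fun j => cj g u (k + j)) c (d + 1) = 1 := by
    intro k
    rw [← conj_wordF_cj, hrel, mul_one, mul_inv_cancel]
  have hstep : ∀ k, cj g u k ∈ B → cj g u (k + 1) ∈ B → cj g u (k + 2) ∈ B := by
    intro k h0 h1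
    interval_cases d
    · -- d = 1
      have := hrel' (k + 1)
      simp only [wordF_succ, wordF_zero, one_mul, hcd, pow_one, add_zero] at this
      have e : cj g u (k + 2) = (cj g u (k + 1) ^ c 0)⁻¹ := eq_inv_of_mul_eq_one_right this
      rw [e]
      exact B.inv_mem (B.pow_mem h1 _)
    · -- d = 2
      have := hrel' k
      simp only [wordF_succ, wordF_zero, one_mul, hcd, pow_one, add_zero] at this
      have e : cj g u (k + 2) = (cj g u k ^ c 0 * cj g u (k + 1) ^ c 1)⁻¹ :=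
        eq_inv_of_mul_eq_one_right this
      rw [e]
      exact B.inv_mem (B.mul_mem (B.pow_mem h0 _) (B.pow_mem h1 _))
  have hall : ∀ m, cj g u m ∈ B ∧ cj g u (m + 1) ∈ B := by
    intro m
    induction m with
    | zero =>
      exact ⟨Subgroup.subset_closure (by simp), Subgroup.subset_closure (by simp)⟩
    | succ m ih => exact ⟨ih.2, hstep m ih.1 ih.2⟩
  intro m n
  exact congrArg Subtype.val (hcm.is_comm.comm (⟨_, (hall m).1⟩ : B) ⟨_, (hall n).1⟩)

/-- involutions: if `u² = 1` and `u = a b` with `a, b` conjugates of `u`, then `a, b` commute -/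
theorem comm_of_invol (g₁ g₂ u : G) (hu : u ^ 2 = 1)
    (hrel : u = (g₁ * u * g₁⁻¹) * (g₂ * u * g₂⁻¹)) :
    Commute (g₁ * u * g₁⁻¹) (g₂ * u * g₂⁻¹) := by
  have ha : (g₁ * u * g₁⁻¹) ^ 2 = 1 := by rw [conj_pow, hu, mul_one, mul_inv_cancel]
  have hb : (g₂ * u * g₂⁻¹) ^ 2 = 1 := by rw [conj_pow, hu, mul_one, mul_inv_cancel]
  set a := g₁ * u * g₁⁻¹
  set b := g₂ * u * g₂⁻¹
  have hab : (a * b) ^ 2 = 1 := by rw [← hrel, hu]
  show a * b = b * a
  have h1 : a⁻¹ = a := by rw [inv_eq_iff_mul_eq_one, ← pow_two, ha]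
  have h2 : b⁻¹ = b := by rw [inv_eq_iff_mul_eq_one, ← pow_two, hb]
  have h3 : (a * b)⁻¹ = a * b := by rw [inv_eq_iff_mul_eq_one, ← pow_two, hab]
  rw [← h3, mul_inv_rev, h1, h2]

end BCRW

end Cfsg.Agent.Lib.Helper11.Pres2
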