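import Mathlib
import Cfsg.Agent.Lib.Helper11.SL2Hom

set_option autoImplicit false

namespace Cfsg.Agent.Lib.Helper11.Steinberg2

open Cfsg.Agent.Lib.Helper11.SL2Hom

/-- a pair of "opposite root subgroups" `x, y : K → Γ` satisfying the rank-one Steinberg relations -/
structure StPair (K : Type*) [Field K] (Γ : Type*) [Group Γ] where
  x : K → Γ
  y : K → Γ
  x_add : ∀ t u, x t * x u = x (t + u)
  y_add : ∀ t u, y t * y u = y (t + u)
  rel : ∀ t u, t ≠ 0 → (x t * y (-t⁻¹) * x t) * x u * (x t * y (-t⁻¹) * x t)⁻¹ = y (-(t⁻¹ ^ 2 * u))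

variable {K : Type*} [Field K] {Γ : Type*} [Group Γ] (S : StPair K Γ)

namespace StPair

/-- `w(t) = x(t) y(-t⁻¹) x(t)` -/
def w (t : K) : Γ := S.x t * S.y (-t⁻¹) * S.x t

/-- `h(t) = w(t) w(1)⁻¹` -/
def h (t : K) : Γ := S.w t * (S.w 1)⁻¹

theorem x_zero : S.x 0 = 1 := by
  have := S.x_add 0 0
  rw [add_zero] at this
  exact mul_eq_left.mp this

theorem y_zero : S.y 0 = 1 := by
  have := S.y_add 0 0
  rw [add_zero] at this
  exact mul_eq_left.mp this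

theorem x_inv (t : K) : (S.x t)⁻¹ = S.x (-t) := by
  rw [inv_eq_iff_mul_eq_one, S.x_add, add_neg_cancel, S.x_zero]

theorem y_inv (t : K) : (S.y t)⁻¹ = S.y (-t) := by
  rw [inv_eq_iff_mul_eq_one, S.y_add, add_neg_cancel, S.y_zero]

theorem w_inv (t : K) : (S.w t)⁻¹ = S.w (-t) := by
  unfold w
  rw [mul_inv_rev, mul_inv_rev, S.x_inv, S.y_inv, neg_neg, inv_neg, neg_neg, mul_assoc]

theorem h_one : S.h 1 = 1 := by
  unfold h; exact mul_inv_cancel _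

/-- `w(t) x(u) w(t)⁻¹ = y(-t⁻²u)` -/
theorem w_x (t u : K) (ht : t ≠ 0) : MulAut.conj (S.w t) (S.x u) = S.y (-(t⁻¹ ^ 2 * u)) := by
  rw [MulAut.conj_apply]
  exact S.rel t u ht

/-- `w(t) y(v) w(t)⁻¹ = x(-t²v)` -/
theorem w_y (t v : K) (ht : t ≠ 0) : MulAut.conj (S.w t) (S.y v) = S.x (-(t ^ 2 * v)) := by
  have h1 := S.w_x (-t) (-(t ^ 2 * v)) (neg_ne_zero.mpr ht)
  rw [← S.w_inv] at h1
  simp only [MulAut.conj_apply, inv_inv] at h1
  have e : -((-t)⁻¹ ^ 2 * -(t ^ 2 * v)) = v := by field_simp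
  rw [e] at h1
  rw [MulAut.conj_apply, ← h1]
  group

theorem conj_w (g : Γ) (t : K) : MulAut.conj g (S.w t) =
    MulAut.conj g (S.x t) * MulAut.conj g (S.y (-t⁻¹)) * MulAut.conj g (S.x t) := by
  show MulAut.conj g (S.x t * S.y (-t⁻¹) * S.x t) = _
  rw [map_mul, map_mul]

/-- `w(t) = y(-t⁻¹) x(t) y(-t⁻¹)` -/
theorem w_eq (t : K) (ht : t ≠ 0) : S.w t = S.y (-t⁻¹) * S.x t * S.y (-t⁻¹) := by
  have h1 : MulAut.conj (S.w t) (S.w t) = S.w t := by simp [MulAut.conj_apply]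
  conv_lhs => rw [← h1]
  rw [S.conj_w, S.w_x t t ht, S.w_y t _ ht]
  congr 2
  · congr 1; field_simp
  · congr 1; field_simp
  · congr 1; field_simp

/-- `w(t) w(u) w(t)⁻¹ = w(t²u⁻¹)` -/
theorem w_w (t u : K) (ht : t ≠ 0) (hu : u ≠ 0) :
    MulAut.conj (S.w t) (S.w u) = S.w (t ^ 2 * u⁻¹) := by
  have hne : t ^ 2 * u⁻¹ ≠ 0 := mul_ne_zero (pow_ne_zero 2 ht) (inv_ne_zero hu)
  rw [S.conj_w, S.w_x t u ht, S.w_y t _ ht, S.w_eq _ hne]
  congr 2
  · congr 1; field_simp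
  · congr 1; field_simp
  · congr 1; field_simp

theorem h_mul_w1 (t : K) : S.h t * S.w 1 = S.w t := by
  unfold h; group

/-- `h(t) x(u) h(t)⁻¹ = x(t²u)` -/
theorem h_x (t u : K) (ht : t ≠ 0) : MulAut.conj (S.h t) (S.x u) = S.x (t ^ 2 * u) := by
  unfold h
  rw [map_mul, MulAut.mul_apply, S.w_inv, S.w_x (-1) u (by simp), S.w_y t _ ht]
  congr 1; field_simp

/-- `h(t) y(u) h(t)⁻¹ = y(t⁻²u)` -/
theorem h_y (t u : K) (ht : t ≠ 0) : MulAut.conj (S.h t) (S.y u) = S.y ((t ^ 2)⁻¹ * u) := by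
  unfold h
  rw [map_mul, MulAut.mul_apply, S.w_inv, S.w_y (-1) u (by simp), S.w_x t _ ht]
  congr 1; field_simp

/-- `h(t) w(u) h(t)⁻¹ = w(t²u)` -/
theorem h_w (t u : K) (ht : t ≠ 0) (hu : u ≠ 0) : MulAut.conj (S.h t) (S.w u) = S.w (t ^ 2 * u) := by
  rw [S.conj_w, S.h_x t u ht, S.h_y t _ ht]
  unfold w
  congr 2
  congr 1; field_simp

/-- `h(t) h(u) h(t)⁻¹ = h(t²u) h(t²)⁻¹` -/
theorem h_h (t u : K) (ht : t ≠ 0) (hu : u ≠ 0) :
    MulAut.conj (S.h t) (S.h u) = S.h (t ^ 2 * u) * (S.h (t ^ 2))⁻¹ := by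
  have h1 : MulAut.conj (S.h t) (S.h u) =
      MulAut.conj (S.h t) (S.w u) * (MulAut.conj (S.h t) (S.w 1))⁻¹ := by
    show MulAut.conj (S.h t) (S.w u * (S.w 1)⁻¹) = _
    rw [map_mul, map_inv]
  rw [h1, S.h_w t u ht hu, S.h_w t 1 ht one_ne_zero, mul_one]
  unfold h
  group

/-- `w(1) h(t) w(1)⁻¹ = h(t⁻¹)` -/
theorem w1_h (t : K) (ht : t ≠ 0) : MulAut.conj (S.w 1) (S.h t) = S.h t⁻¹ := by
  have h1 : MulAut.conj (S.w 1) (S.h t) =
      MulAut.conj (S.w 1) (S.w t) * (MulAut.conj (S.w 1) (S.w 1))⁻¹ := by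
    show MulAut.conj (S.w 1) (S.w t * (S.w 1)⁻¹) = _
    rw [map_mul, map_inv]
  rw [h1, S.w_w 1 t one_ne_zero ht, S.w_w 1 1 one_ne_zero one_ne_zero]
  unfold h
  simp

theorem w1_mul_h (t : K) (ht : t ≠ 0) : S.w 1 * S.h t = S.h t⁻¹ * S.w 1 := by
  have := S.w1_h t ht
  rw [MulAut.conj_apply] at this
  rw [← this]; group

theorem h_neg_one : S.h (-1) = (S.w 1)⁻¹ * (S.w 1)⁻¹ := by
  unfold h
  rw [← S.w_inv]

/-- the relation `w(p) w(-(p+q)) w(q) = w(pq/(p+q))` -/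
theorem www (p q : K) (hp : p ≠ 0) (hq : q ≠ 0) (hs : p + q ≠ 0) :
    S.w p * S.w (-(p + q)) * S.w q = S.w (p * q / (p + q)) := by
  set s := p + q with hsdef
  set B := p * q / s with hB
  have hB0 : B ≠ 0 := div_ne_zero (mul_ne_zero hp hq) hs
  have e1 : S.y (-p⁻¹) = (S.x p)⁻¹ * S.w p * (S.x p)⁻¹ := by unfold w; group
  have e2 : S.y (-q⁻¹) = (S.x q)⁻¹ * S.w q * (S.x q)⁻¹ := by unfold w; group
  have e3 : S.y (-B⁻¹) = (S.x B)⁻¹ * S.w B * (S.x B)⁻¹ := by unfold w; group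
  have e4 : S.x (-s) = S.y (-s⁻¹) * S.w (-s) * S.y (-s⁻¹) := by
    rw [S.w_eq (-s) (neg_ne_zero.mpr hs)]
    have : -(-s)⁻¹ = -(-s⁻¹) := by rw [inv_neg]
    rw [this, ← S.y_inv]
    group
  have e5 : S.w p * S.y (-s⁻¹) = S.x (p ^ 2 / s) * S.w p := by
    have := S.w_y p (-s⁻¹) hp
    rw [MulAut.conj_apply] at this
    have e : -(p ^ 2 * -s⁻¹) = p ^ 2 / s := by field_simp
    rw [e] at this
    rw [← this]; group
  have e6 : S.y (-s⁻¹) * S.w q = S.w q * S.x (q ^ 2 / s) := by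
    have := S.w_y (-q) (-s⁻¹) (neg_ne_zero.mpr hq)
    rw [MulAut.conj_apply, ← S.w_inv] at this
    have e : -((-q) ^ 2 * -s⁻¹) = q ^ 2 / s := by field_simp
    rw [e] at this
    rw [← this]; group
  have e7 : S.y (-p⁻¹) * S.y (-q⁻¹) = S.y (-B⁻¹) := by
    rw [S.y_add]
    congr 1
    rw [hB]
    field_simp
    ring
  have e8 : (S.x p)⁻¹ * (S.x q)⁻¹ = S.x (-s) := by
    rw [S.x_inv, S.x_inv, S.x_add]
    congr 1
    rw [hsdef]; ring
  have e9 : (S.x p)⁻¹ * S.x (p ^ 2 / s) = (S.x B)⁻¹ := by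
    rw [S.x_inv, S.x_inv, S.x_add]
    congr 1
    rw [hB]
    field_simp
    rw [hsdef]; ring
  have e10 : S.x (q ^ 2 / s) * (S.x q)⁻¹ = (S.x B)⁻¹ := by
    rw [S.x_inv, S.x_inv, S.x_add]
    congr 1
    rw [hB]
    field_simp
    rw [hsdef]; ring
  calc S.w p * S.w (-s) * S.w q
      = S.x B * ((S.x p)⁻¹ * S.x (p ^ 2 / s)) * S.w p * S.w (-s) * S.w q *
          (S.x (q ^ 2 / s) * (S.x q)⁻¹) * S.x B := by rw [e9, e10]; group
    _ = S.x B * (S.x p)⁻¹ * (S.x (p ^ 2 / s) * S.w p) * S.w (-s) * (S.w q * S.x (q ^ 2 / s)) *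
          (S.x q)⁻¹ * S.x B := by group
    _ = S.x B * (S.x p)⁻¹ * (S.w p * S.y (-s⁻¹)) * S.w (-s) * (S.y (-s⁻¹) * S.w q) *
          (S.x q)⁻¹ * S.x B := by rw [e5, e6]
    _ = S.x B * (S.x p)⁻¹ * S.w p * (S.y (-s⁻¹) * S.w (-s) * S.y (-s⁻¹)) * S.w q *
          (S.x q)⁻¹ * S.x B := by group
    _ = S.x B * (S.x p)⁻¹ * S.w p * ((S.x p)⁻¹ * (S.x q)⁻¹) * S.w q *
          (S.x q)⁻¹ * S.x B := by rw [← e4, e8]
    _ = S.x B * (((S.x p)⁻¹ * S.w p * (S.x p)⁻¹) * ((S.x q)⁻¹ * S.w q * (S.x q)⁻¹)) * S.x B := by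
          group
    _ = S.x B * ((S.x B)⁻¹ * S.w B * (S.x B)⁻¹) * S.x B := by rw [← e1, ← e2, e7, e3]
    _ = S.w B := by group

/-- the relation `h(p) h(-(p+q)⁻¹) h(q) = h(pq/(p+q)) h(-1)` -/
theorem hhh (p q : K) (hp : p ≠ 0) (hq : q ≠ 0) (hs : p + q ≠ 0) :
    S.h p * S.h (-(p + q)⁻¹) * S.h q = S.h (p * q / (p + q)) * S.h (-1) := by
  have h0 := S.www p q hp hq hs
  rw [← S.h_mul_w1 p, ← S.h_mul_w1 (-(p + q)), ← S.h_mul_w1 q, ← S.h_mul_w1 (p * q / (p + q))] at h0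
  have h1 : S.w 1 * S.h (-(p + q)) = S.h (-(p + q)⁻¹) * S.w 1 := by
    rw [S.w1_mul_h _ (neg_ne_zero.mpr hs), inv_neg]
  have h2 : S.w 1 * S.w 1 * S.h q = S.h q * (S.w 1 * S.w 1) := by
    rw [mul_assoc, S.w1_mul_h q hq, ← mul_assoc, S.w1_mul_h _ (inv_ne_zero hq), inv_inv, mul_assoc]
  have h3 : S.h p * S.w 1 * (S.h (-(p + q)) * S.w 1) * (S.h q * S.w 1) =
      S.h p * S.h (-(p + q)⁻¹) * S.h q * (S.w 1 * S.w 1 * S.w 1) := by
    calc S.h p * S.w 1 * (S.h (-(p + q)) * S.w 1) * (S.h q * S.w 1)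
        = S.h p * (S.w 1 * S.h (-(p + q))) * S.w 1 * S.h q * S.w 1 := by group
      _ = S.h p * S.h (-(p + q)⁻¹) * (S.w 1 * S.w 1 * S.h q) * S.w 1 := by rw [h1]; group
      _ = S.h p * S.h (-(p + q)⁻¹) * S.h q * (S.w 1 * S.w 1 * S.w 1) := by rw [h2]; group
  rw [h3] at h0
  rw [S.h_neg_one]
  calc S.h p * S.h (-(p + q)⁻¹) * S.h q
      = S.h p * S.h (-(p + q)⁻¹) * S.h q * (S.w 1 * S.w 1 * S.w 1) * ((S.w 1)⁻¹ * (S.w 1)⁻¹ * (S.w 1)⁻¹) := by
        group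
    _ = S.h (p * q / (p + q)) * ((S.w 1)⁻¹ * (S.w 1)⁻¹) := by rw [h0]; group

theorem h_mul_x (t u : K) (ht : t ≠ 0) : S.h t * S.x u = S.x (t ^ 2 * u) * S.h t := by
  have := S.h_x t u ht
  rw [MulAut.conj_apply] at this
  rw [← this]; group

theorem h_mul_y (t u : K) (ht : t ≠ 0) : S.h t * S.y u = S.y ((t ^ 2)⁻¹ * u) * S.h t := by
  have := S.h_y t u ht
  rw [MulAut.conj_apply] at this
  rw [← this]; group

theorem hinv_mul_x (t u : K) (ht : t ≠ 0) : (S.h t)⁻¹ * S.x u = S.x ((t ^ 2)⁻¹ * u) * (S.h t)⁻¹ := by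
  have := S.h_mul_x t ((t ^ 2)⁻¹ * u) ht
  have e : t ^ 2 * ((t ^ 2)⁻¹ * u) = u := by field_simp
  rw [e] at this
  calc (S.h t)⁻¹ * S.x u = (S.h t)⁻¹ * (S.x u * S.h t) * (S.h t)⁻¹ := by group
    _ = (S.h t)⁻¹ * (S.h t * S.x ((t ^ 2)⁻¹ * u)) * (S.h t)⁻¹ := by rw [this]
    _ = _ := by group

theorem hinv_mul_y (t u : K) (ht : t ≠ 0) : (S.h t)⁻¹ * S.y u = S.y (t ^ 2 * u) * (S.h t)⁻¹ := by
  have := S.h_mul_y t (t ^ 2 * u) ht
  have e : (t ^ 2)⁻¹ * (t ^ 2 * u) = u := by field_simp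
  rw [e] at this
  calc (S.h t)⁻¹ * S.y u = (S.h t)⁻¹ * (S.y u * S.h t) * (S.h t)⁻¹ := by group
    _ = (S.h t)⁻¹ * (S.h t * S.y (t ^ 2 * u)) * (S.h t)⁻¹ := by rw [this]
    _ = _ := by group

/-- `c(t,u) = h(t) h(u) h(tu)⁻¹` -/
def c (t u : K) : Γ := S.h t * S.h u * (S.h (t * u))⁻¹

theorem h_mul (t u : K) : S.h (t * u) = (S.c t u)⁻¹ * (S.h t * S.h u) := by
  unfold c; group

theorem c_x (t u v : K) (ht : t ≠ 0) (hu : u ≠ 0) : Commute (S.c t u) (S.x v) := by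
  show S.c t u * S.x v = S.x v * S.c t u
  unfold c
  have htu : t * u ≠ 0 := mul_ne_zero ht hu
  calc S.h t * S.h u * (S.h (t * u))⁻¹ * S.x v
      = S.h t * S.h u * ((S.h (t * u))⁻¹ * S.x v) := by group
    _ = S.h t * (S.h u * S.x (((t * u) ^ 2)⁻¹ * v)) * (S.h (t * u))⁻¹ := by
        rw [S.hinv_mul_x _ _ htu]; group
    _ = (S.h t * S.x (u ^ 2 * (((t * u) ^ 2)⁻¹ * v))) * S.h u * (S.h (t * u))⁻¹ := by
        rw [S.h_mul_x _ _ hu]; group
    _ = S.x (t ^ 2 * (u ^ 2 * (((t * u) ^ 2)⁻¹ * v))) * S.h t * S.h u * (S.h (t * u))⁻¹ := by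
        rw [S.h_mul_x _ _ ht]
    _ = S.x v * (S.h t * S.h u * (S.h (t * u))⁻¹) := by
        have e : t ^ 2 * (u ^ 2 * (((t * u) ^ 2)⁻¹ * v)) = v := by field_simp
        rw [e]; group

theorem c_y (t u v : K) (ht : t ≠ 0) (hu : u ≠ 0) : Commute (S.c t u) (S.y v) := by
  show S.c t u * S.y v = S.y v * S.c t u
  unfold c
  have htu : t * u ≠ 0 := mul_ne_zero ht hu
  calc S.h t * S.h u * (S.h (t * u))⁻¹ * S.y v
      = S.h t * S.h u * ((S.h (t * u))⁻¹ * S.y v) := by group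
    _ = S.h t * (S.h u * S.y ((t * u) ^ 2 * v)) * (S.h (t * u))⁻¹ := by
        rw [S.hinv_mul_y _ _ htu]; group
    _ = (S.h t * S.y ((u ^ 2)⁻¹ * ((t * u) ^ 2 * v))) * S.h u * (S.h (t * u))⁻¹ := by
        rw [S.h_mul_y _ _ hu]; group
    _ = S.y ((t ^ 2)⁻¹ * ((u ^ 2)⁻¹ * ((t * u) ^ 2 * v))) * S.h t * S.h u * (S.h (t * u))⁻¹ := by
        rw [S.h_mul_y _ _ ht]
    _ = S.y v * (S.h t * S.h u * (S.h (t * u))⁻¹) := by
        have e : (t ^ 2)⁻¹ * ((u ^ 2)⁻¹ * ((t * u) ^ 2 * v)) = v := by field_simp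
        rw [e]; group

theorem c_w (t u v : K) (ht : t ≠ 0) (hu : u ≠ 0) : Commute (S.c t u) (S.w v) := by
  unfold w
  exact ((S.c_x t u v ht hu).mul_right (S.c_y t u _ ht hu)).mul_right (S.c_x t u v ht hu)

theorem c_h (t u v : K) (ht : t ≠ 0) (hu : u ≠ 0) : Commute (S.c t u) (S.h v) := by
  unfold h
  exact (S.c_w t u v ht hu).mul_right (S.c_w t u 1 ht hu).inv_right

theorem exists_gen [Finite K] : ∃ v : K, v ≠ 0 ∧ ∀ t : K, t ≠ 0 → ∃ n : ℕ, t = v ^ n := by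
  obtain ⟨g, hg⟩ := IsCyclic.exists_monoid_generator (α := Kˣ)
  refine ⟨g, g.ne_zero, fun t ht => ?_⟩
  obtain ⟨n, hn⟩ := hg (Units.mk0 t ht)
  refine ⟨n, ?_⟩
  have := congrArg Units.val hn
  simpa using this.symm

theorem nonsq_mul_nonsq [Finite K] {a b : K} (ha : ¬IsSquare a) (hb : ¬IsSquare b) :
    IsSquare (a * b) := by
  classical
  have := Fintype.ofFinite K
  have ha0 : a ≠ 0 := fun h => ha (h ▸ IsSquare.zero)
  have hb0 : b ≠ 0 := fun h => hb (h ▸ IsSquare.zero)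
  rw [← quadraticChar_neg_one_iff_not_isSquare] at ha hb
  rw [← quadraticChar_one_iff_isSquare (mul_ne_zero ha0 hb0), map_mul, ha, hb]
  norm_num

section FiniteField

variable [Finite K]

/-- over a finite field the `h(t)` commute with each other -/
theorem h_comm (t u : K) (ht : t ≠ 0) (hu : u ≠ 0) : Commute (S.h t) (S.h u) := by
  obtain ⟨v, hv, hgen⟩ := exists_gen (K := K)
  have step : ∀ n : ℕ, S.h (v ^ (n + 1)) = (S.c (v ^ n) v)⁻¹ * (S.h (v ^ n) * S.h v) := by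
    intro n
    rw [pow_succ, S.h_mul]
  have Q : ∀ n : ℕ, Commute (S.h (v ^ n)) (S.h v) := by
    intro n
    induction n with
    | zero => rw [pow_zero, S.h_one]; exact Commute.one_left _
    | succ n ih =>
      rw [step]
      exact (S.c_h _ _ _ (pow_ne_zero n hv) hv).inv_left.mul_left (ih.mul_left (Commute.refl _))
  have R : ∀ n : ℕ, ∀ u : K, u ≠ 0 → Commute (S.h (v ^ n)) (S.h u) := by
    intro n
    induction n with
    | zero => intro u _; rw [pow_zero, S.h_one]; exact Commute.one_left _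
    | succ n ih =>
      intro u hu
      rw [step]
      obtain ⟨m, rfl⟩ := hgen u hu
      exact (S.c_h _ _ _ (pow_ne_zero n hv) hv).inv_left.mul_left
        ((ih _ hu).mul_left (Q m).symm)
  obtain ⟨n, rfl⟩ := hgen t ht
  exact R n u hu

/-- `h(t²u) = h(t²) h(u)` over a finite field -/
theorem h_sq_mul (t u : K) (ht : t ≠ 0) (hu : u ≠ 0) : S.h (t ^ 2 * u) = S.h (t ^ 2) * S.h u := by
  have h1 := S.h_h t u ht hu
  rw [MulAut.conj_apply, (S.h_comm t u ht hu).eq, mul_assoc, mul_inv_cancel, mul_one] at h1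
  have h2 : S.h (t ^ 2 * u) = S.h u * S.h (t ^ 2) := by rw [h1]; group
  rw [h2, (S.h_comm u (t ^ 2) hu (pow_ne_zero 2 ht)).eq]

theorem h_mul_self_of_sq_neg_one (hc : ringChar K ≠ 2) (i : K) (hi : i * i = -1) (a : K) (ha : a ≠ 0) :
    S.h a * S.h a = S.h (a ^ 2) := by
  have h2 : (2 : K) ≠ 0 := Ring.two_ne_zero hc
  have hi0 : i ≠ 0 := by
    rintro rfl
    rw [mul_zero] at hi
    exact one_ne_zero (neg_eq_zero.mp hi.symm)
  have h2a : 2 * a ≠ 0 := mul_ne_zero h2 ha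
  have hq : -(2 * a) ≠ 0 := neg_ne_zero.mpr h2a
  have hs : a + -(2 * a) ≠ 0 := by
    have : a + -(2 * a) = -a := by ring
    rw [this]; exact neg_ne_zero.mpr ha
  have h0 := S.hhh a (-(2 * a)) ha hq hs
  have e1 : -(a + -(2 * a))⁻¹ = a⁻¹ := by
    have : a + -(2 * a) = -a := by ring
    rw [this, inv_neg, neg_neg]
  have e2 : a * -(2 * a) / (a + -(2 * a)) = 2 * a := by
    have : a + -(2 * a) = -a := by ring
    rw [this]; field_simp
  have e3 : -(2 * a) = i ^ 2 * (2 * a) := by rw [pow_two, hi]; ring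
  have e4 : (-1 : K) = i ^ 2 := by rw [pow_two, hi]
  rw [e1, e2, e3, S.h_sq_mul i (2 * a) hi0 h2a, e4] at h0
  have hcm := S.h_comm (i ^ 2) (2 * a) (pow_ne_zero 2 hi0) h2a
  rw [hcm.eq] at h0
  have h3 : S.h a * S.h a⁻¹ = 1 := by
    exact mul_right_cancel (b := S.h (2 * a) * S.h (i ^ 2)) (h0.trans (one_mul _).symm)
  have e5 : a⁻¹ = (a⁻¹) ^ 2 * a := by field_simp
  have hai : a⁻¹ ≠ 0 := inv_ne_zero ha
  rw [e5, S.h_sq_mul a⁻¹ a hai ha] at h3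
  have h4 : S.h ((a⁻¹) ^ 2) * S.h (a ^ 2) = 1 := by
    rw [← S.h_sq_mul a⁻¹ (a ^ 2) hai (pow_ne_zero 2 ha)]
    have : (a⁻¹) ^ 2 * a ^ 2 = 1 := by field_simp
    rw [this, S.h_one]
  have hcm2 := S.h_comm a ((a⁻¹) ^ 2) ha (pow_ne_zero 2 hai)
  calc S.h a * S.h a = S.h a * S.h a * (S.h ((a⁻¹) ^ 2) * S.h (a ^ 2)) := by rw [h4, mul_one]
    _ = S.h a * (S.h a * S.h ((a⁻¹) ^ 2)) * S.h (a ^ 2) := by group
    _ = S.h a * (S.h ((a⁻¹) ^ 2) * S.h a) * S.h (a ^ 2) := by rw [hcm2.eq]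
    _ = S.h (a ^ 2) := by rw [h3, one_mul]

theorem h_neg_one_mul_self (hns : ¬IsSquare (-1 : K)) : S.h (-1) * S.h (-1) = 1 := by
  have : NeZero (ringChar K) := ⟨(CharP.char_is_prime K (ringChar K)).ne_zero⟩
  obtain ⟨a', b', hab⟩ := CharP.sq_add_sq K (ringChar K) (-1)
  rw [Int.cast_neg, Int.cast_one] at hab
  set a : K := (a' : K) with ha'
  set b : K := (b' : K) with hb'
  have ha : a ≠ 0 := by
    intro h
    rw [h] at hab
    exact hns ⟨b, by rw [← hab]; ring⟩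
  have hb : b ≠ 0 := by
    intro h
    rw [h] at hab
    exact hns ⟨a, by rw [← hab]; ring⟩
  have hs : a ^ 2 + b ^ 2 ≠ 0 := by rw [hab]; exact neg_ne_zero.mpr one_ne_zero
  have h0 := S.hhh (a ^ 2) (b ^ 2) (pow_ne_zero 2 ha) (pow_ne_zero 2 hb) hs
  have e1 : -(a ^ 2 + b ^ 2)⁻¹ = 1 := by rw [hab, inv_neg, inv_one, neg_neg]
  have e2 : a ^ 2 * b ^ 2 / (a ^ 2 + b ^ 2) = (a * b) ^ 2 * (-1) := by
    rw [hab]; field_simp
  rw [e1, e2, S.h_one, mul_one, ← S.h_sq_mul a (b ^ 2) ha (pow_ne_zero 2 hb),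
    S.h_sq_mul (a * b) (-1) (mul_ne_zero ha hb) (neg_ne_zero.mpr one_ne_zero)] at h0
  have e3 : a ^ 2 * b ^ 2 = (a * b) ^ 2 := by ring
  rw [e3, mul_assoc] at h0
  exact (mul_eq_left.mp h0.symm)

theorem h_mul_self (hc : ringChar K ≠ 2) (a : K) (ha : a ≠ 0) : S.h a * S.h a = S.h (a ^ 2) := by
  by_cases hm : IsSquare (-1 : K)
  · obtain ⟨i, hi⟩ := hm
    exact S.h_mul_self_of_sq_neg_one hc i hi.symm a ha
  · have hm1 := S.h_neg_one_mul_self hm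
    by_cases hsq : IsSquare a
    · obtain ⟨r, rfl⟩ := hsq
      have hr : r ≠ 0 := fun h => ha (by rw [h, mul_zero])
      have := S.h_sq_mul r (r ^ 2) hr (pow_ne_zero 2 hr)
      have e1 : r * r = r ^ 2 := by ring
      have e2 : (r ^ 2) ^ 2 = r ^ 2 * r ^ 2 := by ring
      rw [e1, e2, this]
    · obtain ⟨r, hr⟩ := nonsq_mul_nonsq hm hsq
      have hr0 : r ≠ 0 := by
        rintro rfl
        rw [mul_zero] at hr
        apply ha
        have : a = -(-1 * a) := by ring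
        rw [this, hr, neg_zero]
      have e1 : a = r ^ 2 * (-1) := by
        have : a = -(-1 * a) := by ring
        rw [this, hr]; ring
      have hm0 : (-1 : K) ≠ 0 := neg_ne_zero.mpr one_ne_zero
      have e2 : a ^ 2 = r ^ 2 * r ^ 2 := by rw [e1]; ring
      rw [e2, S.h_sq_mul r (r ^ 2) hr0 (pow_ne_zero 2 hr0), e1, S.h_sq_mul r (-1) hr0 hm0]
      have hcm := S.h_comm (-1) (r ^ 2) hm0 (pow_ne_zero 2 hr0)
      calc S.h (r ^ 2) * S.h (-1) * (S.h (r ^ 2) * S.h (-1))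
          = S.h (r ^ 2) * (S.h (-1) * S.h (r ^ 2)) * S.h (-1) := by group
        _ = S.h (r ^ 2) * S.h (r ^ 2) * (S.h (-1) * S.h (-1)) := by rw [hcm.eq]; group
        _ = S.h (r ^ 2) * S.h (r ^ 2) := by rw [hm1, mul_one]

/-- **Steinberg**: over a finite field, the relation `h(s s') = h(s) h(s')` follows from the rank-one relations -/
theorem H_mul (s s' : K) (hs : s ≠ 0) (hs' : s' ≠ 0) : S.h (s * s') = S.h s * S.h s' := by
  have sqcase : ∀ r u : K, r ≠ 0 → u ≠ 0 → S.h (r * r * u) = S.h (r * r) * S.h u := by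
    intro r u hr hu
    have e : r * r = r ^ 2 := by ring
    rw [e]
    exact S.h_sq_mul r u hr hu
  by_cases hc : ringChar K = 2
  · obtain ⟨r, rfl⟩ := FiniteField.isSquare_of_char_two hc s
    have hr : r ≠ 0 := fun h => hs (by rw [h, mul_zero])
    exact sqcase r s' hr hs'
  · by_cases h1 : IsSquare s
    · obtain ⟨r, rfl⟩ := h1
      have hr : r ≠ 0 := fun h => hs (by rw [h, mul_zero])
      exact sqcase r s' hr hs'
    · by_cases h2 : IsSquare s'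
      · obtain ⟨r, rfl⟩ := h2
        have hr : r ≠ 0 := fun h => hs' (by rw [h, mul_zero])
        rw [mul_comm s, sqcase r s hr hs]
        exact (S.h_comm _ _ hs' hs).eq
      · obtain ⟨r, hr⟩ := nonsq_mul_nonsq h1 h2
        have hr0 : r ≠ 0 := by
          rintro rfl
          rw [mul_zero] at hr
          exact (mul_ne_zero hs hs') hr
        have e1 : s' = (r / s) ^ 2 * s := by
          field_simp
          rw [mul_comm, hr]; ring
        have hrs : r / s ≠ 0 := div_ne_zero hr0 hs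
        have e2 : s * s' = (r / s) ^ 2 * s ^ 2 := by
          rw [hr]; field_simp
        have hcm := S.h_comm s ((r / s) ^ 2) hs (pow_ne_zero 2 hrs)
        rw [e2, S.h_sq_mul _ _ hrs (pow_ne_zero 2 hs), ← S.h_mul_self hc s hs]
        conv_rhs => rw [e1, S.h_sq_mul _ _ hrs hs, ← mul_assoc, hcm.eq, mul_assoc]

/-- the rank-one data of a Steinberg pair over a finite field -/
def toPre : RankOnePre K Γ where
  X := S.x
  Y := S.y
  N := S.w 1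
  H := S.h
  X_add := fun t u => (S.x_add t u).symm
  H_mul := S.H_mul
  H_X := S.h_mul_x
  H_Y := S.h_mul_y
  n_eq := fun c _ => by rw [S.h_mul_w1]; rfl
  N_X := fun t => by
    have := S.w_x 1 t one_ne_zero
    rw [MulAut.conj_apply] at this
    have e : -((1 : K)⁻¹ ^ 2 * t) = -t := by simp
    rw [e] at this
    rw [← this]; group
  N_sq := by
    have h1 := S.H_mul (-1) (-1) (neg_ne_zero.mpr one_ne_zero) (neg_ne_zero.mpr one_ne_zero)
    have e : (-1 : K) * -1 = 1 := by ring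
    rw [e, S.h_one] at h1
    have h2 : S.h (-1) = (S.h (-1))⁻¹ := eq_inv_of_mul_eq_one_left h1.symm
    rw [h2, S.h_neg_one, mul_inv_rev, inv_inv]

/-- **Steinberg**: a pair of root subgroups over a finite field `K` satisfying the rank-one Steinberg relations
is a homomorphic image of `SL₂(K)` -/
theorem exists_hom : ∃ φ : Matrix.SpecialLinearGroup (Fin 2) K →* Γ,
    (∀ t, φ (xS t) = S.x t) ∧ (∀ t, φ (yS t) = S.y t) :=
  ⟨S.toPre.hom, S.toPre.hom_xS, S.toPre.hom_yS⟩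

end FiniteField

end StPair

end Cfsg.Agent.Lib.Helper11.Steinberg2
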