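import Mathlib
import Cfsg.Agent.Lib.Helper11.SL2Hom
import Cfsg.Agent.Lib.Helper11.Steinberg2
import Cfsg.Agent.Lib.Helper11.Pres2A

set_option autoImplicit false

namespace Cfsg.Agent.Lib.Helper11.Pres2

open Cfsg.Agent.Lib.Helper11.SL2Hom Cfsg.Agent.Lib.Helper11.Steinberg2 Matrix Polynomial

section MatrixIds

variable {K : Type*} [Field K]

local notation:1024 "↑ₘ" A:1024 => ((A : SpecialLinearGroup (Fin 2) K) : Matrix (Fin 2) (Fin 2) K)

theorem wS_eq : (wS : SpecialLinearGroup (Fin 2) K) = xS 1 * yS (-1) * xS 1 := by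
  apply Matrix.SpecialLinearGroup.ext
  intro i j
  show (↑ₘ(wS : SpecialLinearGroup (Fin 2) K)) i j = (↑ₘ(xS 1 * yS (-1) * xS 1)) i j
  fin_cases i <;> fin_cases j <;>
    simp [coe_xS, coe_yS, coe_wS, Matrix.mul_apply, Fin.sum_univ_two]

theorem hS_mul_wS (s : K) (hs : s ≠ 0) : hS s hs * wS = xS s * yS (-s⁻¹) * xS s := by
  apply Matrix.SpecialLinearGroup.ext
  intro i j
  show (↑ₘ(hS s hs * wS)) i j = (↑ₘ(xS s * yS (-s⁻¹) * xS s)) i j
  fin_cases i <;> fin_cases j <;>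
    simp [coe_xS, coe_yS, coe_wS, coe_hS, Matrix.mul_apply, Fin.sum_univ_two, hs]

theorem wS_mul_xS (a : K) : (wS : SpecialLinearGroup (Fin 2) K) * xS a = yS (-a) * wS := by
  apply Matrix.SpecialLinearGroup.ext
  intro i j
  show (↑ₘ(wS * xS a)) i j = (↑ₘ(yS (-a) * wS)) i j
  fin_cases i <;> fin_cases j <;>
    simp [coe_xS, coe_yS, coe_wS, Matrix.mul_apply, Fin.sum_univ_two]

theorem hS_mul_xS (s : K) (hs : s ≠ 0) (a : K) : hS s hs * xS a = xS (s ^ 2 * a) * hS s hs := by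
  apply Matrix.SpecialLinearGroup.ext
  intro i j
  show (↑ₘ(hS s hs * xS a)) i j = (↑ₘ(xS (s ^ 2 * a) * hS s hs)) i j
  fin_cases i <;> fin_cases j <;>
    simp [coe_xS, coe_hS, Matrix.mul_apply, Fin.sum_univ_two] <;> field_simp

theorem hS_wS_hS (s : K) (hs : s ≠ 0) : hS s hs * wS * hS s hs = wS := by
  apply Matrix.SpecialLinearGroup.ext
  intro i j
  show (↑ₘ(hS s hs * wS * hS s hs)) i j = (↑ₘ(wS : SpecialLinearGroup (Fin 2) K)) i j
  fin_cases i <;> fin_cases j <;>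
    simp [coe_wS, coe_hS, Matrix.mul_apply, Fin.sum_univ_two, hs]

theorem xS_add (a b : K) : (xS (a + b) : SpecialLinearGroup (Fin 2) K) = xS a * xS b := by
  apply Matrix.SpecialLinearGroup.ext
  intro i j
  show (↑ₘ(xS (a + b))) i j = (↑ₘ(xS a * xS b)) i j
  fin_cases i <;> fin_cases j <;>
    simp [coe_xS, Matrix.mul_apply, Fin.sum_univ_two, add_comm]

theorem wS_conj_xS (a : K) : (wS : SpecialLinearGroup (Fin 2) K) * xS a * wS⁻¹ = yS (-a) := by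
  rw [wS_mul_xS]; group

theorem hS_conj_xS (s : K) (hs : s ≠ 0) (a : K) : hS s hs * xS a * (hS s hs)⁻¹ = xS (s ^ 2 * a) := by
  rw [hS_mul_xS]; group

theorem wS_conj_hS (s : K) (hs : s ≠ 0) : (wS : SpecialLinearGroup (Fin 2) K) * hS s hs * wS⁻¹ = (hS s hs)⁻¹ := by
  have := hS_wS_hS s hs
  calc (wS : SpecialLinearGroup (Fin 2) K) * hS s hs * wS⁻¹
      = (hS s hs)⁻¹ * (hS s hs * wS * hS s hs) * wS⁻¹ := by group
    _ = (hS s hs)⁻¹ := by rw [this]; group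

end MatrixIds

/-- a root subgroup `x`, a Weyl element `t` and a torus element `h` acting through `ζ²` -/
structure TorusBase (K : Type*) [Field K] (Γ : Type*) [Group Γ] where
  x : K → Γ
  t : Γ
  h : Γ
  ζ : K
  hζ : ζ ≠ 0
  x_add : ∀ a b, x (a + b) = x a * x b
  h_x : ∀ a, h * x a * h⁻¹ = x (ζ ^ 2 * a)
  t_h : t * h * t⁻¹ = h⁻¹

/-- torus data with `ζ` a generator of `Kˣ` and the two rank-one relations `w(1) = t`, `w(ζ) = h t` -/
structure TorusData (K : Type*) [Field K] (Γ : Type*) [Group Γ] extends TorusBase K Γ where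
  hgenζ : ∀ a : K, a ≠ 0 → ∃ n : ℕ, a = ζ ^ n
  w_one : x 1 * (t * x 1 * t⁻¹) * x 1 = t
  w_zeta : x ζ * (t * x ζ⁻¹ * t⁻¹) * x ζ = h * t

namespace TorusBase

variable {K : Type*} [Field K] {Γ : Type*} [Group Γ] (D : TorusBase K Γ)

/-- the opposite root subgroup -/
def y (a : K) : Γ := D.t * D.x (-a) * D.t⁻¹

/-- `w(a) = x(a) y(-a⁻¹) x(a)` -/
def w (a : K) : Γ := D.x a * (D.t * D.x a⁻¹ * D.t⁻¹) * D.x a

theorem x_zero : D.x 0 = 1 := add_hom_zero D.x D.x_add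

theorem x_neg (a : K) : D.x (-a) = (D.x a)⁻¹ := add_hom_neg D.x D.x_add a

theorem hinv_x (a : K) : D.h⁻¹ * D.x a * D.h = D.x ((D.ζ ^ 2)⁻¹ * a) := by
  have h1 := D.h_x ((D.ζ ^ 2)⁻¹ * a)
  have hz : D.ζ ^ 2 ≠ 0 := pow_ne_zero 2 D.hζ
  rw [mul_inv_cancel_left₀ hz a] at h1
  rw [← h1]; group

theorem h_eq : D.h = D.t * D.h⁻¹ * D.t⁻¹ := by
  have := congrArg Inv.inv D.t_h
  rw [inv_inv] at this
  calc D.h = (D.t * D.h * D.t⁻¹)⁻¹ := this.symm
    _ = D.t * D.h⁻¹ * D.t⁻¹ := by group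

theorem h_t : D.h * D.t = D.t * D.h⁻¹ := by
  conv_lhs => rw [D.h_eq]
  group

theorem hinv_tinv : D.t⁻¹ * D.h⁻¹ = D.h * D.t⁻¹ := by
  have := congrArg Inv.inv D.h_t
  rw [_root_.mul_inv_rev, _root_.mul_inv_rev, inv_inv] at this
  exact this

theorem h_y (a : K) : D.h * D.y a * D.h⁻¹ = D.y ((D.ζ ^ 2)⁻¹ * a) := by
  unfold y
  calc D.h * (D.t * D.x (-a) * D.t⁻¹) * D.h⁻¹
      = (D.h * D.t) * D.x (-a) * (D.t⁻¹ * D.h⁻¹) := by group
    _ = D.t * (D.h⁻¹ * D.x (-a) * D.h) * D.t⁻¹ := by rw [D.h_t, D.hinv_tinv]; group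
    _ = D.t * D.x (-((D.ζ ^ 2)⁻¹ * a)) * D.t⁻¹ := by rw [D.hinv_x, mul_neg]

theorem y_neg_inv (a : K) : D.y (-a⁻¹) = D.t * D.x a⁻¹ * D.t⁻¹ := by
  unfold y; rw [neg_neg]

theorem w_eq (a : K) : D.w a = D.x a * D.y (-a⁻¹) * D.x a := by
  rw [D.y_neg_inv]; rfl

theorem h_w (a : K) : D.h * D.w a * D.h⁻¹ = D.w (D.ζ ^ 2 * a) := by
  rw [D.w_eq, D.w_eq]
  calc D.h * (D.x a * D.y (-a⁻¹) * D.x a) * D.h⁻¹
      = (D.h * D.x a * D.h⁻¹) * (D.h * D.y (-a⁻¹) * D.h⁻¹) * (D.h * D.x a * D.h⁻¹) := by group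
    _ = D.x (D.ζ ^ 2 * a) * D.y (-(D.ζ ^ 2 * a)⁻¹) * D.x (D.ζ ^ 2 * a) := by
        rw [D.h_x, D.h_y]
        congr 3
        rw [mul_inv, mul_neg]

theorem hpow_w (n : ℕ) (a : K) : D.h ^ n * D.w a * (D.h ^ n)⁻¹ = D.w ((D.ζ ^ 2) ^ n * a) := by
  induction n with
  | zero => simp
  | succ n ih =>
    have : D.h ^ (n + 1) * D.w a * (D.h ^ (n + 1))⁻¹ = D.h * (D.h ^ n * D.w a * (D.h ^ n)⁻¹) * D.h⁻¹ := by
      rw [pow_succ']; group
    rw [this, ih, D.h_w, pow_succ]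
    congr 1
    ring

theorem hpow_t (n : ℕ) : D.h ^ n * D.t = D.t * (D.h ^ n)⁻¹ := by
  induction n with
  | zero => simp
  | succ n ih =>
    rw [pow_succ', mul_assoc, ih, ← mul_assoc, D.h_t]
    group

end TorusBase

namespace TorusData

variable {K : Type*} [Field K] {Γ : Type*} [Group Γ] (D : TorusData K Γ)

/-- the rank-one relation at `a` -/
def P (a : K) : Prop := ∀ b, D.w a * D.x b * (D.w a)⁻¹ = D.y (-((a⁻¹) ^ 2 * b))

theorem P_one : D.P 1 := by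
  intro b
  have hw : D.w 1 = D.t := by
    unfold TorusBase.w; rw [inv_one]; exact D.w_one
  rw [hw]
  unfold TorusBase.y
  rw [neg_neg, inv_one, one_pow, one_mul]

theorem P_zeta : D.P D.ζ := by
  intro b
  have hw : D.w D.ζ = D.h * D.t := D.w_zeta
  rw [hw]
  calc D.h * D.t * D.x b * (D.h * D.t)⁻¹ = D.h * D.y (-b) * D.h⁻¹ := by
        unfold TorusBase.y; rw [neg_neg]; group
    _ = D.y (-((D.ζ⁻¹) ^ 2 * b)) := by
        rw [D.h_y]; congr 1; rw [inv_pow, mul_neg]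

theorem P_step (a : K) (ha : D.P a) : D.P (D.ζ ^ 2 * a) := by
  intro b
  rw [← D.h_w]
  have hz : D.ζ ^ 2 ≠ 0 := pow_ne_zero 2 D.hζ
  calc D.h * D.w a * D.h⁻¹ * D.x b * (D.h * D.w a * D.h⁻¹)⁻¹
      = D.h * (D.w a * (D.h⁻¹ * D.x b * D.h) * (D.w a)⁻¹) * D.h⁻¹ := by group
    _ = D.h * D.y (-((a⁻¹) ^ 2 * ((D.ζ ^ 2)⁻¹ * b))) * D.h⁻¹ := by rw [D.hinv_x, ha]
    _ = D.y (-(((D.ζ ^ 2 * a)⁻¹) ^ 2 * b)) := by
        rw [D.h_y]; congr 1
        rw [mul_inv, mul_pow]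
        ring

theorem P_all (a : K) (ha : a ≠ 0) : D.P a := by
  obtain ⟨n, rfl⟩ := D.hgenζ a ha
  have key : ∀ k : ℕ, D.P (D.ζ ^ (2 * k)) ∧ D.P (D.ζ ^ (2 * k + 1)) := by
    intro k
    induction k with
    | zero => simpa using ⟨D.P_one, D.P_zeta⟩
    | succ k ih =>
      constructor
      · have := D.P_step _ ih.1
        have e : D.ζ ^ 2 * D.ζ ^ (2 * k) = D.ζ ^ (2 * (k + 1)) := by ring
        rwa [e] at this
      · have := D.P_step _ ih.2
        have e : D.ζ ^ 2 * D.ζ ^ (2 * k + 1) = D.ζ ^ (2 * (k + 1) + 1) := by ring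
        rwa [e] at this
  rcases Nat.even_or_odd' n with ⟨k, rfl | rfl⟩
  · exact (key k).1
  · exact (key k).2

/-- the Steinberg pair of torus data -/
def toStPair : StPair K Γ where
  x := D.x
  y := D.y
  x_add := fun a b => (D.x_add a b).symm
  y_add := fun a b => by
    unfold TorusBase.y
    rw [neg_add, D.x_add]
    group
  rel := fun a b ha => by
    have := D.P_all a ha b
    rw [D.w_eq] at this
    exact this

section Finite

variable [Finite K]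

theorem exists_hom' : ∃ φ : SpecialLinearGroup (Fin 2) K →* Γ,
    (∀ a, φ (xS a) = D.x a) ∧ (∀ a, φ (yS a) = D.y a) := D.toStPair.exists_hom

/-- the homomorphism `SL₂(K) → Γ` -/
noncomputable def hom : SpecialLinearGroup (Fin 2) K →* Γ := Classical.choose D.exists_hom'

theorem hom_xS (a : K) : D.hom (xS a) = D.x a := (Classical.choose_spec D.exists_hom').1 a

theorem hom_yS (a : K) : D.hom (yS a) = D.y a := (Classical.choose_spec D.exists_hom').2 a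

theorem hom_wS : D.hom (wS : SpecialLinearGroup (Fin 2) K) = D.t := by
  rw [wS_eq, map_mul, map_mul, D.hom_xS, D.hom_yS]
  unfold TorusBase.y
  rw [neg_neg]
  exact D.w_one

theorem hom_hS : D.hom (hS D.ζ D.hζ) = D.h := by
  have h1 := congrArg D.hom (hS_mul_wS D.ζ D.hζ)
  rw [map_mul, map_mul, map_mul, D.hom_xS, D.hom_yS, D.hom_wS, D.y_neg_inv, D.w_zeta] at h1
  exact mul_right_cancel h1

/-- recognition: a group generated by torus data which maps compatibly onto a quotient `P` of `SL₂(K)` killing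
the kernel of `SL₂(K) → Γ` is isomorphic to `P` -/
theorem nonempty_mulEquiv (p : ℕ) [Fact p.Prime] [Algebra (ZMod p) K]
    (hgen : ∀ a : K, ∃ f : (ZMod p)[X], aeval (D.ζ ^ 2) f = a)
    {P : Type*} [Group P] (π : SpecialLinearGroup (Fin 2) K →* P) (hπ : Function.Surjective π)
    (hker : π.ker ≤ D.hom.ker) (ψ : Γ →* P)
    (hψu : ψ (D.x 1) = π (xS 1)) (hψt : ψ D.t = π wS) (hψh : ψ D.h = π (hS D.ζ D.hζ))
    (hΓ : Subgroup.closure ({D.x 1, D.t, D.h} : Set Γ) = ⊤) : Nonempty (Γ ≃* P) := by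
  -- ψ ∘ x = π ∘ xS
  have hψx : ∀ a, ψ (D.x a) = π (xS a) := by
    have := x_unique p (π (hS D.ζ D.hζ)) (D.ζ ^ 2) hgen (fun a => ψ (D.x a)) (fun a => π (xS a))
      (fun a b => by rw [D.x_add, map_mul]) (fun a b => by rw [xS_add, map_mul])
      (fun a => by rw [← D.h_x, map_mul, map_mul, map_inv, hψh])
      (fun a => by rw [← hS_conj_xS D.ζ D.hζ a, map_mul, map_mul, map_inv])
      hψu
    exact fun a => congrFun this a
  let φ' : P →* Γ := (MonoidHom.liftOfRightInverse π (Function.surjInv hπ)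
    (Function.rightInverse_surjInv hπ)) ⟨D.hom, hker⟩
  have hφ' : ∀ g, φ' (π g) = D.hom g := fun g =>
    MonoidHom.liftOfRightInverse_comp_apply π (Function.surjInv hπ)
      (Function.rightInverse_surjInv hπ) ⟨D.hom, hker⟩ g
  have h1 : ψ.comp D.hom = π := by
    apply MonoidHom.eq_of_eqOn_dense (closure_xS_yS (F := K))
    rintro g (⟨a, rfl⟩ | ⟨a, rfl⟩)
    · show ψ (D.hom (xS a)) = π (xS a)
      rw [D.hom_xS, hψx]
    · show ψ (D.hom (yS a)) = π (yS a)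
      rw [D.hom_yS]
      unfold TorusBase.y
      rw [map_mul, map_mul, map_inv, hψt, hψx, ← map_inv, ← map_mul, ← map_mul, wS_conj_xS, neg_neg]
  have h2 : ψ.comp φ' = MonoidHom.id P := by
    ext y
    obtain ⟨g, rfl⟩ := hπ y
    show ψ (φ' (π g)) = π g
    rw [hφ']
    exact congrFun (congrArg DFunLike.coe h1) g
  have h3 : φ'.comp ψ = MonoidHom.id Γ := by
    apply MonoidHom.eq_of_eqOn_dense hΓ
    rintro g (rfl | rfl | rfl)
    · show φ' (ψ (D.x 1)) = D.x 1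
      rw [hψu, hφ', D.hom_xS]
    · show φ' (ψ D.t) = D.t
      rw [hψt, hφ', D.hom_wS]
    · show φ' (ψ D.h) = D.h
      rw [hψh, hφ', D.hom_hS]
  exact ⟨MonoidHom.toMulEquiv ψ φ' h3 h2⟩

end Finite

end TorusData


end Cfsg.Agent.Lib.Helper11.Pres2
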