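import Mathlib
import Cfsg.Agent.Lib.Helper11.Pres2A

set_option autoImplicit false

namespace Cfsg.Agent.Lib.Helper11.Pres2

open Polynomial

section FieldFacts

variable {p : ℕ} [Fact p.Prime] {K : Type*} [Field K] [Fintype K] [Algebra (ZMod p) K]

/-- a generator of the multiplicative group, with its order -/
theorem exists_zeta (K : Type*) [Field K] [Fintype K] : ∃ ζ : K, ζ ≠ 0 ∧ (∀ a : K, a ≠ 0 → ∃ n : ℕ, a = ζ ^ n) ∧
    orderOf ζ = Fintype.card K - 1 := by
  obtain ⟨g, hg⟩ := IsCyclic.exists_monoid_generator (α := Kˣ)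
  refine ⟨g, g.ne_zero, fun t ht => ?_, ?_⟩
  · obtain ⟨n, hn⟩ := hg (Units.mk0 t ht)
    refine ⟨n, ?_⟩
    have := congrArg Units.val hn
    simpa using this.symm
  · have hz : ∀ x : Kˣ, x ∈ Subgroup.zpowers g := by
      intro x
      obtain ⟨n, hn⟩ := hg x
      exact ⟨n, by simpa using hn⟩
    rw [orderOf_units, orderOf_eq_card_of_forall_mem_zpowers hz, Nat.card_units, Nat.card_eq_fintype_card]

/-- `c` generates `K` over the prime field as soon as no proper Frobenius power fixes it -/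
theorem gen_of_frob (e : ℕ) (he : Fintype.card K = p ^ e) (c : K)
    (hc : ∀ i, 0 < i → i < e → c ^ (p ^ i) ≠ c) : ∀ a : K, ∃ f : (ZMod p)[X], aeval c f = a := by
  classical
  have hp : p.Prime := Fact.out
  set L := IntermediateField.adjoin (ZMod p) ({c} : Set K) with hL
  set d := Module.finrank (ZMod p) L with hd
  have hcardL : Fintype.card L = p ^ d := by
    rw [Module.card_eq_pow_finrank (K := ZMod p) (V := L), ZMod.card]
  have hcL : c ∈ L := IntermediateField.mem_adjoin_simple_self (ZMod p) c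
  have hcd : c ^ (p ^ d) = c := by
    have := FiniteField.pow_card (⟨c, hcL⟩ : L)
    rw [hcardL] at this
    exact congrArg Subtype.val this
  have hd0 : 0 < d := Module.finrank_pos
  have hde : d ≤ e := by
    have h1 : Fintype.card L ≤ Fintype.card K := Fintype.card_le_of_injective _ Subtype.val_injective
    rw [hcardL, he] at h1
    exact (Nat.pow_le_pow_iff_right hp.one_lt).mp h1
  have hde' : d = e := by
    by_contra hne
    exact hc d hd0 (lt_of_le_of_ne hde hne) hcd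
  have hfr : Module.finrank (ZMod p) K = e := by
    have := Module.card_eq_pow_finrank (K := ZMod p) (V := K)
    rw [ZMod.card, he] at this
    exact (Nat.pow_right_injective hp.two_le this).symm
  have hLtop : L = ⊤ := by
    apply IntermediateField.eq_of_le_of_finrank_eq le_top
    rw [IntermediateField.finrank_top', hfr, ← hde']
  intro a
  have ha : a ∈ L := by rw [hLtop]; exact IntermediateField.mem_top
  have ha' : a ∈ L.toSubalgebra := ha
  rw [hL, IntermediateField.adjoin_simple_toSubalgebra_of_isAlgebraic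
    (Algebra.IsAlgebraic.isAlgebraic c), Algebra.adjoin_singleton_eq_range_aeval] at ha'
  exact ha'

theorem pow_eq_one_imp_le (ζ : K) (hord : orderOf ζ = Fintype.card K - 1) (n : ℕ) (hn : 0 < n)
    (h : ζ ^ n = 1) : Fintype.card K - 1 ≤ n := by
  rw [← hord]
  exact Nat.le_of_dvd hn (orderOf_dvd_of_pow_eq_one h)

omit [Algebra (ZMod p) K] in
theorem zeta_sq_frob_ne (e : ℕ) (he : Fintype.card K = p ^ e) (ζ : K) (hζ : ζ ≠ 0)
    (hord : orderOf ζ = Fintype.card K - 1) (i : ℕ) (hi0 : 0 < i) (hie : i < e) :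
    (ζ ^ 2) ^ (p ^ i) ≠ ζ ^ 2 := by
  have hp : p.Prime := Fact.out
  intro h
  have hX : 2 ≤ p ^ i := le_trans hp.two_le (Nat.le_self_pow hi0.ne' p)
  have h1 : ζ ^ (2 * (p ^ i - 1)) = 1 := by
    have h2 : ζ ^ (2 * (p ^ i - 1)) * ζ ^ 2 = ζ ^ 2 := by
      rw [← pow_add]
      have : 2 * (p ^ i - 1) + 2 = 2 * p ^ i := by omega
      rw [this, pow_mul]
      exact h
    exact mul_left_cancel₀ (pow_ne_zero 2 hζ) (by rw [mul_comm, h2, mul_one])
  have h3 := pow_eq_one_imp_le ζ hord _ (by omega) h1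
  have h4 : p ^ (i + 1) ≤ p ^ e := Nat.pow_le_pow_right hp.pos (by omega)
  rw [pow_succ] at h4
  have h5 : p ^ i * 2 ≤ p ^ i * p := Nat.mul_le_mul_left _ hp.two_le
  rw [he] at h3
  omega

theorem gen_zeta_sq (e : ℕ) (he : Fintype.card K = p ^ e) (ζ : K) (hζ : ζ ≠ 0)
    (hord : orderOf ζ = Fintype.card K - 1) : ∀ a : K, ∃ f : (ZMod p)[X], aeval (ζ ^ 2) f = a :=
  gen_of_frob e he (ζ ^ 2) (fun i hi0 hie => zeta_sq_frob_ne e he ζ hζ hord i hi0 hie)

/-- the element `c` for the two-parameter BCRW relation in odd characteristic -/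
theorem exists_c [CharP K p] (hp2 : p ≠ 2) (e : ℕ) (he : Fintype.card K = p ^ e) (he3 : 3 ≤ e) (ζ : K)
    (hζ : ζ ≠ 0) (hgenζ : ∀ a : K, a ≠ 0 → ∃ n : ℕ, a = ζ ^ n)
    (hord : orderOf ζ = Fintype.card K - 1) :
    ∃ (c : K) (i j : ℕ), (ζ ^ 2) ^ i = c ∧ (ζ ^ 2) ^ j = 1 - c ∧
      ∀ a : K, ∃ f : (ZMod p)[X], aeval c f = a := by
  have hp : p.Prime := Fact.out
  have hp3 : 3 ≤ p := by
    have := hp.two_le
    omega
  have hq27 : 27 ≤ p ^ e := by
    calc 27 = 3 ^ 3 := by norm_num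
      _ ≤ p ^ 3 := Nat.pow_le_pow_left hp3 3
      _ ≤ p ^ e := Nat.pow_le_pow_right hp.pos he3
  have h2 : (2 : K) ≠ 0 := by
    intro h
    have : ((2 : ℕ) : K) = 0 := by exact_mod_cast h
    rw [CharP.cast_eq_zero_iff K p] at this
    have := Nat.le_of_dvd (by norm_num) this
    omega
  have hlam0 : ζ ^ 2 ≠ 0 := pow_ne_zero 2 hζ
  have h1l : 1 + ζ ^ 2 ≠ 0 := by
    intro h
    have h4 : ζ ^ 4 = 1 := by
      have h' : ζ ^ 2 = -1 := by
        rw [← add_eq_zero_iff_eq_neg']; exact h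
      have : ζ ^ 4 = (ζ ^ 2) ^ 2 := by ring
      rw [this, h']; ring
    have := pow_eq_one_imp_le ζ hord 4 (by norm_num) h4
    rw [he] at this
    omega
  have hl1 : ζ ^ 2 ≠ 1 := by
    intro h
    have := pow_eq_one_imp_le ζ hord 2 (by norm_num) h
    rw [he] at this
    omega
  have hl1' : 1 - ζ ^ 2 ≠ 0 := sub_ne_zero.mpr (Ne.symm hl1)
  obtain ⟨a0, ha0⟩ : ∃ a0 : K, a0 = (1 - ζ ^ 2) / (1 + ζ ^ 2) := ⟨_, rfl⟩
  have ha00 : a0 ≠ 0 := by rw [ha0]; exact div_ne_zero hl1' h1l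
  obtain ⟨b0, hb0⟩ : ∃ b0 : K, b0 = 2 * ζ / (1 + ζ ^ 2) := ⟨_, rfl⟩
  have hb00 : b0 ≠ 0 := by rw [hb0]; exact div_ne_zero (mul_ne_zero h2 hζ) h1l
  have hcb : 1 - a0 ^ 2 = b0 ^ 2 := by
    rw [ha0, hb0]
    field_simp
    ring
  have h1a : 1 + a0 ≠ 0 := by
    intro h
    have : (1 + a0) * (1 + ζ ^ 2) = 2 := by
      rw [ha0]; field_simp; ring
    rw [h, zero_mul] at this
    exact h2 this.symm
  have h1a' : 1 - a0 ≠ 0 := by
    intro h
    have : (1 - a0) * (1 + ζ ^ 2) = 2 * ζ ^ 2 := by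
      rw [ha0]; field_simp; ring
    rw [h, zero_mul] at this
    exact (mul_ne_zero h2 hlam0) this.symm
  have hlam_eq : ζ ^ 2 = (1 - a0) / (1 + a0) := by
    rw [eq_div_iff h1a, ha0]
    field_simp
    ring
  obtain ⟨n, hn⟩ := hgenζ a0 ha00
  obtain ⟨m, hm⟩ := hgenζ b0 hb00
  refine ⟨a0 ^ 2, n, m, ?_, ?_, ?_⟩
  · rw [hn]; ring
  · rw [hcb, hm]; ring
  · apply gen_of_frob e he
    intro i hi0 hie h
    obtain ⟨Fr, hFrdef⟩ : ∃ Fr : K →+* K, ∀ x : K, Fr x = x ^ p ^ i :=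
      ⟨iterateFrobenius K p i, fun x => iterateFrobenius_def p i x⟩
    have hX : 3 ≤ p ^ i := le_trans hp3 (Nat.le_self_pow hi0.ne' p)
    have h4 : p ^ (i + 1) ≤ p ^ e := Nat.pow_le_pow_right hp.pos (by omega)
    rw [pow_succ] at h4
    have h5 : p ^ i * 3 ≤ p ^ i * p := Nat.mul_le_mul_left _ hp3
    have hsq : (Fr a0) ^ 2 = a0 ^ 2 := by
      rw [← map_pow, hFrdef]; exact h
    have hFrlam : Fr (ζ ^ 2) = (1 - Fr a0) / (1 + Fr a0) := by
      conv_lhs => rw [hlam_eq]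
      rw [map_div₀, map_sub, map_add, map_one]
    rcases sq_eq_sq_iff_eq_or_eq_neg.mp hsq with h6 | h6
    · rw [h6, ← hlam_eq, hFrdef] at hFrlam
      exact zeta_sq_frob_ne e he ζ hζ hord i hi0 hie hFrlam
    · rw [h6, hFrdef] at hFrlam
      have h7 : (ζ ^ 2) ^ p ^ i * ζ ^ 2 = 1 := by
        rw [hFrlam]
        have : 1 - -a0 = 1 + a0 := by ring
        rw [this]
        have : 1 + -a0 = 1 - a0 := by ring
        rw [this]
        conv_lhs => rw [hlam_eq]
        field_simp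
      have h8 : ζ ^ (2 * (p ^ i + 1)) = 1 := by
        rw [pow_mul, pow_succ]; exact h7
      have := pow_eq_one_imp_le ζ hord _ (by omega) h8
      rw [he] at this
      omega

end FieldFacts

end Cfsg.Agent.Lib.Helper11.Pres2
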