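import Mathlib
import Cfsg.Agent.Lib.Helper11.Pres2A
import Cfsg.Agent.Lib.Helper11.Pres2B
import Cfsg.Agent.Lib.Helper11.Pres2C
import Cfsg.Agent.Lib.Helper11.Pres2D

set_option autoImplicit false

namespace Cfsg.Agent.Lib.Helper11.Pres2

open Polynomial Cfsg.Agent.Lib.Helper11.SL2Hom Matrix


theorem cj_conj_three {G : Type*} [Group G] (h g u : G) (m : ℕ) (hg : Commute g h) :
    cj h u m * (h * cj h u m * h⁻¹) * (g * cj h u m * g⁻¹) =
      h ^ m * (u * (h * u * h⁻¹) * (g * u * g⁻¹)) * (h ^ m)⁻¹ := by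
  have hgm : g * h ^ m = h ^ m * g := (hg.pow_right m).eq
  have h1 : g * cj h u m * g⁻¹ = h ^ m * (g * u * g⁻¹) * (h ^ m)⁻¹ := by
    unfold cj
    calc g * (h ^ m * u * (h ^ m)⁻¹) * g⁻¹ = (g * h ^ m) * u * (g * h ^ m)⁻¹ := by group
      _ = (h ^ m * g) * u * (h ^ m * g)⁻¹ := by rw [hgm]
      _ = h ^ m * (g * u * g⁻¹) * (h ^ m)⁻¹ := by group
  have h2 : h * cj h u m * h⁻¹ = h ^ m * (h * u * h⁻¹) * (h ^ m)⁻¹ := by
    unfold cj
    have : h * h ^ m = h ^ m * h := ((Commute.refl h).pow_right m).eq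
    calc h * (h ^ m * u * (h ^ m)⁻¹) * h⁻¹ = (h * h ^ m) * u * (h * h ^ m)⁻¹ := by group
      _ = (h ^ m * h) * u * (h ^ m * h)⁻¹ := by rw [this]
      _ = h ^ m * (h * u * h⁻¹) * (h ^ m)⁻¹ := by group
  rw [h1, h2]
  unfold cj
  group

/-- the five relations in characteristic two -/
structure T1Rel {G : Type*} [Group G] (u t h : G) (k : ℕ) (μc : ℕ → ℕ) (d q : ℕ) : Prop where
  r1 : u ^ 2 = 1
  r2 : u * t * u = t * u * t
  r3 : (t * h) ^ 2 = 1
  r4 : u = (h * u * h⁻¹) * (h ^ k * u * (h ^ k)⁻¹)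
  r5 : wordF (cj h u) μc (d + 1) = h ^ (q - 1)

theorem T1Rel.map {G H : Type*} [Group G] [Group H] (ρ : G →* H) {u t h : G} {k : ℕ} {μc : ℕ → ℕ}
    {d q : ℕ} (R : T1Rel u t h k μc d q) : T1Rel (ρ u) (ρ t) (ρ h) k μc d q where
  r1 := by rw [← map_pow, R.r1, map_one]
  r2 := by rw [← map_mul, ← map_mul, R.r2, map_mul, map_mul]
  r3 := by rw [← map_mul, ← map_pow, R.r3, map_one]
  r4 := by
    conv_lhs => rw [R.r4]
    simp only [map_mul, map_inv, map_pow]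
  r5 := by rw [← map_wordF_cj, R.r5, map_pow]

section

variable {K : Type*} [Field K] [Fintype K] [Algebra (ZMod 2) K]

theorem T1Rel.torusData (e : ℕ) (he : Fintype.card K = 2 ^ e) (ζ : K) (hζ : ζ ≠ 0)
    (hgenζ : ∀ a : K, a ≠ 0 → ∃ n : ℕ, a = ζ ^ n) (hord : orderOf ζ = Fintype.card K - 1)
    (k : ℕ)
    {Γ : Type*} [Group Γ] {u t h : Γ}
    (R : T1Rel u t h k (fun m => ((minpoly (ZMod 2) (ζ ^ 2)).coeff m).val)
      (minpoly (ZMod 2) (ζ ^ 2)).natDegree (2 ^ e)) :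
    ∃ D : TorusData K Γ, D.x 1 = u ∧ D.t = t ∧ D.h = h ∧ D.ζ = ζ := by
  have hu2 : u * u = 1 := by rw [← pow_two]; exact R.r1
  have hui : u⁻¹ = u := inv_eq_of_mul_eq_one_right hu2
  have ht_conj : t = (u * t) * u * (u * t)⁻¹ := by
    calc t = t * u * t * t⁻¹ * u⁻¹ := by group
      _ = u * t * u * t⁻¹ * u⁻¹ := by rw [← R.r2]
      _ = (u * t) * u * (u * t)⁻¹ := by group
  have ht2 : t * t = 1 := by
    have : t * t = (u * t) * (u * u) * (u * t)⁻¹ := by
      conv_lhs => rw [ht_conj]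
      group
    rw [this, hu2]; group
  have hti : t⁻¹ = t := inv_eq_of_mul_eq_one_right ht2
  have hth : t * h * t⁻¹ = h⁻¹ := by
    have h3 : t * h * (t * h) = 1 := by rw [← pow_two]; exact R.r3
    rw [hti]
    calc t * h * t = (t * h * (t * h)) * h⁻¹ := by group
      _ = h⁻¹ := by rw [h3, one_mul]
  have hc := comm_of_invol h (h ^ k) u R.r1 R.r4
  have hcomm := bcrw h (h ^ k) u ((Commute.refl h).pow_right k) R.r4 hc
  -- the element `z = h^(q-1)`
  have hzA : h ^ (2 ^ e - 1) ∈ famSub h u := by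
    rw [← R.r5]
    exact wordF_mem _ _ _ _ (fun m _ => cj_mem_famSub h u m)
  have hP : ∀ a : Γ, a ∈ famSub h u → a * (h * a * h⁻¹) * (h ^ k * a * (h ^ k)⁻¹) = 1 := by
    intro a ha
    have ha' := ha
    unfold famSub at ha
    induction ha using Subgroup.closure_induction with
    | mem x hx =>
      obtain ⟨m, rfl⟩ := hx
      rw [cj_conj_three h (h ^ k) u m ((Commute.refl h).pow_left k), mul_assoc u, ← R.r4, hu2]
      group
    | one => simp
    | mul x y hx hy ihx ihy =>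
      have hx' : x ∈ famSub h u := hx
      have hy' : y ∈ famSub h u := hy
      have c1 := famSub_comm h u hcomm y (h * x * h⁻¹) hy' (famSub_conj h u x hx')
      have c2 := famSub_comm h u hcomm y (h ^ k * x * (h ^ k)⁻¹) hy' (famSub_conj_pow h u k x hx')
      have c3 := famSub_comm h u hcomm (h * y * h⁻¹) (h ^ k * x * (h ^ k)⁻¹)
        (famSub_conj h u y hy') (famSub_conj_pow h u k x hx')
      calc x * y * (h * (x * y) * h⁻¹) * (h ^ k * (x * y) * (h ^ k)⁻¹)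
          = x * (y * (h * x * h⁻¹)) * (h * y * h⁻¹) * (h ^ k * x * (h ^ k)⁻¹) * (h ^ k * y * (h ^ k)⁻¹) := by
            group
        _ = x * (h * x * h⁻¹) * (y * ((h * y * h⁻¹) * (h ^ k * x * (h ^ k)⁻¹))) * (h ^ k * y * (h ^ k)⁻¹) := by
            rw [c1.eq]; group
        _ = x * (h * x * h⁻¹) * ((y * (h ^ k * x * (h ^ k)⁻¹)) * (h * y * h⁻¹)) * (h ^ k * y * (h ^ k)⁻¹) := by
            rw [c3.eq]; group
        _ = (x * (h * x * h⁻¹) * (h ^ k * x * (h ^ k)⁻¹)) * (y * (h * y * h⁻¹) * (h ^ k * y * (h ^ k)⁻¹)) := by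
            rw [c2.eq]; group
        _ = 1 := by rw [ihx hx', ihy hy', one_mul]
    | inv x hx ih =>
      have hx' : x ∈ famSub h u := hx
      have hxi : x⁻¹ = x := by
        have := famSub_pow 2 h u hcomm R.r1 x hx'
        rw [pow_two] at this
        exact inv_eq_of_mul_eq_one_right this
      rw [hxi]
      exact ih hx'
  have hz1 : h ^ (2 ^ e - 1) = 1 := by
    have h1 := hP _ hzA
    have h2 : h * h ^ (2 ^ e - 1) * h⁻¹ = h ^ (2 ^ e - 1) := by
      rw [← pow_succ', pow_succ]; group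
    have h3 : h ^ k * h ^ (2 ^ e - 1) * (h ^ k)⁻¹ = h ^ (2 ^ e - 1) := by
      rw [← pow_add, add_comm, pow_add]; group
    rw [h2, h3] at h1
    have h4 := famSub_pow 2 h u hcomm R.r1 _ hzA
    rw [pow_two] at h4
    rw [h4, one_mul] at h1
    exact h1
  have hμ : wordF (cj h u) (fun m => ((minpoly (ZMod 2) (ζ ^ 2)).coeff m).val)
      ((minpoly (ZMod 2) (ζ ^ 2)).natDegree + 1) = 1 := R.r5.trans hz1
  obtain ⟨x, hxadd, hx1, hxc, -⟩ := exists_x 2 h u (ζ ^ 2) hcomm R.r1 hμ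
    (gen_zeta_sq e he ζ hζ hord)
  let B : TorusBase K Γ :=
    { x := x, t := t, h := h, ζ := ζ, hζ := hζ, x_add := hxadd, h_x := fun a => (hxc a).symm, t_h := hth }
  have hw1 : B.w 1 = t := by
    show x 1 * (t * x (1 : K)⁻¹ * t⁻¹) * x 1 = t
    rw [inv_one, hx1, hti]
    calc u * (t * u * t) * u = (u * t * u) * t * u := by group
      _ = t * u * (t * t) * u := by rw [R.r2]; group
      _ = t := by rw [ht2, mul_one, mul_assoc, hu2, mul_one]
  have he1 : 1 ≤ e := by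
    by_contra hlt
    have : e = 0 := by omega
    subst this
    have := Fintype.one_lt_card (α := K)
    rw [he] at this
    omega
  have hq : 2 * 2 ^ (e - 1) = 2 ^ e := by
    rw [← pow_succ']; congr 1; omega
  have hζq : (ζ ^ 2) ^ (2 ^ (e - 1)) = ζ := by
    rw [← pow_mul, hq, ← he]
    exact FiniteField.pow_card ζ
  have hwz : B.w ζ = h * t := by
    have h1 := B.hpow_w (2 ^ (e - 1)) 1
    rw [mul_one] at h1
    have h1' : B.w ((B.ζ ^ 2) ^ 2 ^ (e - 1)) = B.w ζ := congrArg B.w hζq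
    rw [h1', hw1] at h1
    rw [← h1]
    have h2 := B.hpow_t (2 ^ (e - 1))
    have h3 : (B.h ^ 2 ^ (e - 1))⁻¹ * (B.h ^ 2 ^ (e - 1))⁻¹ = h⁻¹ := by
      show (h ^ 2 ^ (e - 1))⁻¹ * (h ^ 2 ^ (e - 1))⁻¹ = h⁻¹
      rw [← _root_.mul_inv_rev, ← pow_add, ← two_mul, hq]
      have : h ^ 2 ^ e = h ^ (2 ^ e - 1) * h := by
        rw [← pow_succ]; congr 1
        have := Nat.one_le_two_pow (n := e)
        omega
      rw [this, hz1, one_mul]
    calc B.h ^ 2 ^ (e - 1) * B.t * (B.h ^ 2 ^ (e - 1))⁻¹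
        = B.t * ((B.h ^ 2 ^ (e - 1))⁻¹ * (B.h ^ 2 ^ (e - 1))⁻¹) := by rw [h2]; group
      _ = t * h⁻¹ := by rw [h3]
      _ = h * t := (B.h_t).symm
  exact ⟨{ B with hgenζ := hgenζ, w_one := by simpa [TorusBase.w] using hw1, w_zeta := hwz }, hx1, rfl, rfl, rfl⟩

end

end Cfsg.Agent.Lib.Helper11.Pres2
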