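import Mathlib
import Cfsg.Agent.Lib.Helper11.Pres2A
import Cfsg.Agent.Lib.Helper11.Pres2B
import Cfsg.Agent.Lib.Helper11.Pres2C
import Cfsg.Agent.Lib.Helper11.Pres2D

set_option autoImplicit false

namespace Cfsg.Agent.Lib.Helper11.Pres2

open Polynomial Cfsg.Agent.Lib.Helper11.SL2Hom Matrix

/-- coefficient function of a polynomial over `ZMod p` -/
def cf {p : ℕ} (f : (ZMod p)[X]) : ℕ → ℕ := fun m => (f.coeff m).val

/-- the three relations tying `t` and `h` to the root subgroup -/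
structure TailRel {G : Type*} [Group G] (u t h g : G) (cζ : ℕ → ℕ) (dζ : ℕ) (cζi : ℕ → ℕ) (dζi : ℕ) :
    Prop where
  th : t * h * t⁻¹ = h⁻¹
  w1 : u * (t * u * t⁻¹) * u = t
  wζ : wordF (cj g u) cζ (dζ + 1) * (t * wordF (cj g u) cζi (dζi + 1) * t⁻¹) *
    wordF (cj g u) cζ (dζ + 1) = h * t

theorem TailRel.map {G H : Type*} [Group G] [Group H] (ρ : G →* H) {u t h g : G} {cζ : ℕ → ℕ} {dζ : ℕ}
    {cζi : ℕ → ℕ} {dζi : ℕ} (R : TailRel u t h g cζ dζ cζi dζi) :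
    TailRel (ρ u) (ρ t) (ρ h) (ρ g) cζ dζ cζi dζi where
  th := by rw [← map_inv, ← map_mul, ← map_mul, R.th, map_inv]
  w1 := by
    conv_rhs => rw [← R.w1]
    simp only [map_mul, map_inv]
  wζ := by
    rw [← map_wordF_cj, ← map_wordF_cj, ← map_inv, ← map_mul, ← map_mul, ← map_mul, ← map_mul, R.wζ,
      map_mul]

theorem TailRel.torusData {K : Type*} [Field K] {Γ : Type*} [Group Γ] {u t h g : Γ} {cζ : ℕ → ℕ} {dζ : ℕ}
    {cζi : ℕ → ℕ} {dζi : ℕ} (R : TailRel u t h g cζ dζ cζi dζi) (x : K → Γ) (ζ : K) (hζ : ζ ≠ 0)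
    (hgenζ : ∀ a : K, a ≠ 0 → ∃ n : ℕ, a = ζ ^ n)
    (hxadd : ∀ a b, x (a + b) = x a * x b) (hx1 : x 1 = u)
    (hxh : ∀ a, h * x a * h⁻¹ = x (ζ ^ 2 * a))
    (hxζ : x ζ = wordF (cj g u) cζ (dζ + 1)) (hxζi : x ζ⁻¹ = wordF (cj g u) cζi (dζi + 1)) :
    ∃ D : TorusData K Γ, D.x 1 = u ∧ D.t = t ∧ D.h = h ∧ D.ζ = ζ :=
  ⟨{ x := x, t := t, h := h, ζ := ζ, hζ := hζ, x_add := hxadd, h_x := hxh, t_h := R.th,
     hgenζ := hgenζ, w_one := by rw [hx1]; exact R.w1,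
     w_zeta := by rw [hxζ, hxζi]; exact R.wζ }, hx1, rfl, rfl, rfl⟩

/-- the relations for odd `q` when `ζ^2` has degree at most two over the prime field -/
structure T2Rel {G : Type*} [Group G] (u t h : G) (p : ℕ) (μc : ℕ → ℕ) (d : ℕ)
    (cζ : ℕ → ℕ) (dζ : ℕ) (cζi : ℕ → ℕ) (dζi : ℕ) : Prop where
  r1 : u ^ p = 1
  r2 : Commute u (h * u * h⁻¹)
  r3 : wordF (cj h u) μc (d + 1) = 1
  tail : TailRel u t h h cζ dζ cζi dζi

theorem T2Rel.map {G H : Type*} [Group G] [Group H] (ρ : G →* H) {u t h : G} {p : ℕ} {μc : ℕ → ℕ} {d : ℕ}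
    {cζ : ℕ → ℕ} {dζ : ℕ} {cζi : ℕ → ℕ} {dζi : ℕ} (R : T2Rel u t h p μc d cζ dζ cζi dζi) :
    T2Rel (ρ u) (ρ t) (ρ h) p μc d cζ dζ cζi dζi where
  r1 := by rw [← map_pow, R.r1, map_one]
  r2 := by
    have := R.r2.map ρ
    simpa only [map_mul, map_inv] using this
  r3 := by rw [← map_wordF_cj, R.r3, map_one]
  tail := R.tail.map ρ

/-- the relations for odd `q = p^e`, `e ≥ 3` -/
structure T3Rel {G : Type*} [Group G] (u t h : G) (p i j : ℕ) (μc : ℕ → ℕ) (d : ℕ) (cl : ℕ → ℕ) (dl : ℕ)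
    (cζ : ℕ → ℕ) (dζ : ℕ) (cζi : ℕ → ℕ) (dζi : ℕ) : Prop where
  r1 : u ^ p = 1
  r2 : Commute (h ^ i * u * (h ^ i)⁻¹) (h ^ j * u * (h ^ j)⁻¹)
  r3 : u = (h ^ i * u * (h ^ i)⁻¹) * (h ^ j * u * (h ^ j)⁻¹)
  r4 : wordF (cj (h ^ i) u) μc (d + 1) = 1
  r5 : h * u * h⁻¹ = wordF (cj (h ^ i) u) cl (dl + 1)
  tail : TailRel u t h (h ^ i) cζ dζ cζi dζi

theorem T3Rel.map {G H : Type*} [Group G] [Group H] (ρ : G →* H) {u t h : G} {p i j : ℕ} {μc : ℕ → ℕ} {d : ℕ}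
    {cl : ℕ → ℕ} {dl : ℕ} {cζ : ℕ → ℕ} {dζ : ℕ} {cζi : ℕ → ℕ} {dζi : ℕ}
    (R : T3Rel u t h p i j μc d cl dl cζ dζ cζi dζi) :
    T3Rel (ρ u) (ρ t) (ρ h) p i j μc d cl dl cζ dζ cζi dζi where
  r1 := by rw [← map_pow, R.r1, map_one]
  r2 := by
    have := R.r2.map ρ
    simpa only [map_mul, map_inv, map_pow] using this
  r3 := by
    conv_lhs => rw [R.r3]
    simp only [map_mul, map_inv, map_pow]
  r4 := by rw [← map_pow, ← map_wordF_cj, R.r4, map_one]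
  r5 := by rw [← map_pow, ← map_wordF_cj, ← R.r5, map_mul, map_mul, map_inv]
  tail := by
    have := R.tail.map ρ
    rwa [map_pow] at this

section

variable {p : ℕ} [Fact p.Prime] {K : Type*} [Field K] [Fintype K] [Algebra (ZMod p) K]

theorem T2Rel.torusData (ζ : K) (hζ : ζ ≠ 0)
    (hgenζ : ∀ a : K, a ≠ 0 → ∃ n : ℕ, a = ζ ^ n)
    (hgen : ∀ a : K, ∃ f : (ZMod p)[X], aeval (ζ ^ 2) f = a)
    (hdeg : (minpoly (ZMod p) (ζ ^ 2)).natDegree ≤ 2)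
    (Gζ Gζi : (ZMod p)[X]) (hGζ : aeval (ζ ^ 2) Gζ = ζ) (hGζi : aeval (ζ ^ 2) Gζi = ζ⁻¹)
    {Γ : Type*} [Group Γ] {u t h : Γ}
    (R : T2Rel u t h p (cf (minpoly (ZMod p) (ζ ^ 2))) (minpoly (ZMod p) (ζ ^ 2)).natDegree
      (cf Gζ) Gζ.natDegree (cf Gζi) Gζi.natDegree) :
    ∃ D : TorusData K Γ, D.x 1 = u ∧ D.t = t ∧ D.h = h ∧ D.ζ = ζ := by
  have hint : IsIntegral (ZMod p) (ζ ^ 2) := Algebra.IsIntegral.isIntegral _
  have hd1 : 1 ≤ (minpoly (ZMod p) (ζ ^ 2)).natDegree := minpoly.natDegree_pos hint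
  have hlead : cf (minpoly (ZMod p) (ζ ^ 2)) (minpoly (ZMod p) (ζ ^ 2)).natDegree = 1 := by
    unfold cf
    rw [coeff_natDegree, (minpoly.monic hint).leadingCoeff]
    exact ZMod.val_one p
  have hcomm := comm_of_deg_le_two h u _ _ hd1 hdeg hlead R.r3 R.r2
  obtain ⟨x, hxadd, hx1, hxc, hxf⟩ := exists_x p h u (ζ ^ 2) hcomm R.r1 R.r3 hgen
  refine R.tail.torusData x ζ hζ hgenζ hxadd hx1 (fun a => (hxc a).symm) ?_ ?_
  · rw [← hGζ, hxf]; rfl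
  · rw [← hGζi, hxf]; rfl

omit [Fintype K] in
theorem T3Rel.torusData (ζ : K) (hζ : ζ ≠ 0)
    (hgenζ : ∀ a : K, a ≠ 0 → ∃ n : ℕ, a = ζ ^ n)
    (i j : ℕ) (c : K)
    (hgen : ∀ a : K, ∃ f : (ZMod p)[X], aeval c f = a)
    (Gl Gζ Gζi : (ZMod p)[X]) (hGl : aeval c Gl = ζ ^ 2) (hGζ : aeval c Gζ = ζ) (hGζi : aeval c Gζi = ζ⁻¹)
    {Γ : Type*} [Group Γ] {u t h : Γ}
    (R : T3Rel u t h p i j (cf (minpoly (ZMod p) c)) (minpoly (ZMod p) c).natDegree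
      (cf Gl) Gl.natDegree (cf Gζ) Gζ.natDegree (cf Gζi) Gζi.natDegree) :
    ∃ D : TorusData K Γ, D.x 1 = u ∧ D.t = t ∧ D.h = h ∧ D.ζ = ζ := by
  have hg : Commute (h ^ i) (h ^ j) := ((Commute.refl h).pow_left i).pow_right j
  have hcomm := bcrw (h ^ i) (h ^ j) u hg R.r3 R.r2
  obtain ⟨x, hxadd, hx1, hxc, hxf⟩ := exists_x p (h ^ i) u c hcomm R.r1 R.r4 hgen
  have hhg : h * h ^ i = h ^ i * h := ((Commute.refl h).pow_right i).eq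
  have hxh : (fun a => h * x a * h⁻¹) = fun a => x (ζ ^ 2 * a) := by
    apply x_unique p (h ^ i) c hgen
    · intro a b
      show h * x (a + b) * h⁻¹ = (h * x a * h⁻¹) * (h * x b * h⁻¹)
      rw [hxadd]; group
    · intro a b
      show x (ζ ^ 2 * (a + b)) = x (ζ ^ 2 * a) * x (ζ ^ 2 * b)
      rw [mul_add, hxadd]
    · intro a
      show h * x (c * a) * h⁻¹ = h ^ i * (h * x a * h⁻¹) * (h ^ i)⁻¹
      rw [hxc]
      calc h * (h ^ i * x a * (h ^ i)⁻¹) * h⁻¹ = (h * h ^ i) * x a * (h * h ^ i)⁻¹ := by group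
        _ = (h ^ i * h) * x a * (h ^ i * h)⁻¹ := by rw [hhg]
        _ = h ^ i * (h * x a * h⁻¹) * (h ^ i)⁻¹ := by group
    · intro a
      show x (ζ ^ 2 * (c * a)) = h ^ i * x (ζ ^ 2 * a) * (h ^ i)⁻¹
      rw [← hxc, mul_left_comm]
    · show h * x 1 * h⁻¹ = x (ζ ^ 2 * 1)
      rw [hx1, R.r5, mul_one, ← hGl, hxf]; rfl
  refine R.tail.torusData x ζ hζ hgenζ hxadd hx1 (fun a => congrFun hxh a) ?_ ?_
  · rw [← hGζ, hxf]; rfl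
  · rw [← hGζi, hxf]; rfl

end

end Cfsg.Agent.Lib.Helper11.Pres2
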