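import Mathlib
import Cfsg.Agent.Lib.Helper11.Pres2A
import Cfsg.Agent.Lib.Helper11.Pres2B
import Cfsg.Agent.Lib.Helper11.Pres2C
import Cfsg.Agent.Lib.Helper11.Pres2D
import Cfsg.Agent.Lib.Helper11.Pres2E
import Cfsg.Agent.Lib.Helper11.Pres2F

set_option autoImplicit false

namespace Cfsg.Agent.Lib.Helper11.Pres2

open Polynomial Cfsg.Agent.Lib.Helper11.SL2Hom Matrix

section SLside

variable {K : Type*} [Field K]

local notation:1024 "↑ₘ" A:1024 => ((A : SpecialLinearGroup (Fin 2) K) : Matrix (Fin 2) (Fin 2) K)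

theorem xS_zero : (xS 0 : SpecialLinearGroup (Fin 2) K) = 1 := by
  apply Matrix.SpecialLinearGroup.ext
  intro i j
  show (↑ₘ(xS 0)) i j = (↑ₘ(1 : SpecialLinearGroup (Fin 2) K)) i j
  fin_cases i <;> fin_cases j <;> simp [coe_xS]

theorem hS_one' : (hS 1 one_ne_zero : SpecialLinearGroup (Fin 2) K) = 1 := by
  apply Matrix.SpecialLinearGroup.ext
  intro i j
  show (↑ₘ(hS 1 one_ne_zero)) i j = (↑ₘ(1 : SpecialLinearGroup (Fin 2) K)) i j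
  fin_cases i <;> fin_cases j <;> simp [coe_hS]

theorem hS_mul' (a b : K) (ha : a ≠ 0) (hb : b ≠ 0) :
    (hS a ha * hS b hb : SpecialLinearGroup (Fin 2) K) = hS (a * b) (mul_ne_zero ha hb) := by
  apply Matrix.SpecialLinearGroup.ext
  intro i j
  show (↑ₘ(hS a ha * hS b hb)) i j = (↑ₘ(hS (a * b) (mul_ne_zero ha hb))) i j
  fin_cases i <;> fin_cases j <;> simp [coe_hS, Matrix.mul_apply, Fin.sum_univ_two, mul_comm]

theorem hS_pow' (a : K) (ha : a ≠ 0) (n : ℕ) :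
    (hS a ha : SpecialLinearGroup (Fin 2) K) ^ n = hS (a ^ n) (pow_ne_zero n ha) := by
  induction n with
  | zero => simp only [pow_zero]; exact hS_one'.symm
  | succ n ih =>
    rw [pow_succ, ih, hS_mul']
    congr 1
    exact (pow_succ a n).symm

theorem hS_pow_conj_xS (ζ : K) (hζ : ζ ≠ 0) (n : ℕ) (a : K) :
    (hS ζ hζ) ^ n * xS a * ((hS ζ hζ) ^ n)⁻¹ = xS ((ζ ^ 2) ^ n * a) := by
  rw [hS_pow', hS_conj_xS]
  congr 1
  ring

theorem cj_hS_xS (ζ : K) (hζ : ζ ≠ 0) (i m : ℕ) (a : K) :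
    cj (hS ζ hζ ^ i) (xS a) m = xS (((ζ ^ 2) ^ i) ^ m * a) := by
  unfold cj
  rw [← pow_mul, hS_pow_conj_xS, pow_mul]

theorem xS_pow (a : K) (n : ℕ) : (xS a : SpecialLinearGroup (Fin 2) K) ^ n = xS ((n : K) * a) := by
  induction n with
  | zero => simp [xS_zero]
  | succ n ih =>
    rw [pow_succ, ih, ← xS_add]
    congr 1
    push_cast
    ring

theorem xS_comm (a b : K) : Commute (xS a : SpecialLinearGroup (Fin 2) K) (xS b) := by
  show xS a * xS b = xS b * xS a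
  rw [← xS_add, ← xS_add, add_comm]

theorem wordF_xS (v : ℕ → K) (c : ℕ → ℕ) (n : ℕ) :
    wordF (fun m => (xS (v m) : SpecialLinearGroup (Fin 2) K)) c n =
      xS (∑ m ∈ Finset.range n, (c m : K) * v m) := by
  induction n with
  | zero => simp [xS_zero]
  | succ n ih =>
    rw [wordF_succ, ih, xS_pow, ← xS_add, Finset.sum_range_succ]

theorem aeval_eq_sum_cf (p : ℕ) [Fact p.Prime] [Algebra (ZMod p) K] (c : K) (f : (ZMod p)[X]) :
    aeval c f = ∑ m ∈ Finset.range (f.natDegree + 1), ((cf f m : ℕ) : K) * c ^ m := by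
  rw [aeval_eq_sum_range]
  apply Finset.sum_congr rfl
  intro m _
  unfold cf
  conv_lhs => rw [← ZMod.natCast_zmod_val (f.coeff m)]
  rw [Nat.cast_smul_eq_nsmul, nsmul_eq_mul]

theorem wordF_cj_hS (p : ℕ) [Fact p.Prime] [Algebra (ZMod p) K] (ζ : K) (hζ : ζ ≠ 0) (i : ℕ)
    (f : (ZMod p)[X]) :
    wordF (cj (hS ζ hζ ^ i) (xS 1)) (cf f) (f.natDegree + 1) = xS (aeval ((ζ ^ 2) ^ i) f) := by
  have : cj (hS ζ hζ ^ i) (xS (1 : K)) = fun m => xS (((ζ ^ 2) ^ i) ^ m) := by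
    funext m
    rw [cj_hS_xS, mul_one]
  rw [this, wordF_xS, aeval_eq_sum_cf]

theorem wordF_cj_hS_one (p : ℕ) [Fact p.Prime] [Algebra (ZMod p) K] (ζ : K) (hζ : ζ ≠ 0)
    (f : (ZMod p)[X]) :
    wordF (cj (hS ζ hζ) (xS 1)) (cf f) (f.natDegree + 1) = xS (aeval (ζ ^ 2) f) := by
  have := wordF_cj_hS p ζ hζ 1 f
  rwa [pow_one, pow_one] at this

theorem tail_SL (p : ℕ) [Fact p.Prime] [Algebra (ZMod p) K] (ζ : K) (hζ : ζ ≠ 0) (i : ℕ)
    (Gζ Gζi : (ZMod p)[X]) (hGζ : aeval ((ζ ^ 2) ^ i) Gζ = ζ) (hGζi : aeval ((ζ ^ 2) ^ i) Gζi = ζ⁻¹) :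
    TailRel (xS 1 : SpecialLinearGroup (Fin 2) K) wS (hS ζ hζ) (hS ζ hζ ^ i) (cf Gζ) Gζ.natDegree
      (cf Gζi) Gζi.natDegree where
  th := wS_conj_hS ζ hζ
  w1 := by rw [wS_conj_xS]; exact wS_eq.symm
  wζ := by
    rw [wordF_cj_hS, wordF_cj_hS, hGζ, hGζi, wS_conj_xS]
    exact (hS_mul_wS ζ hζ).symm

theorem T2_SL (p : ℕ) [Fact p.Prime] [Algebra (ZMod p) K] [CharP K p] (ζ : K) (hζ : ζ ≠ 0)
    (Gζ Gζi : (ZMod p)[X]) (hGζ : aeval (ζ ^ 2) Gζ = ζ) (hGζi : aeval (ζ ^ 2) Gζi = ζ⁻¹) :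
    T2Rel (xS 1 : SpecialLinearGroup (Fin 2) K) wS (hS ζ hζ) p (cf (minpoly (ZMod p) (ζ ^ 2)))
      (minpoly (ZMod p) (ζ ^ 2)).natDegree (cf Gζ) Gζ.natDegree (cf Gζi) Gζi.natDegree where
  r1 := by rw [xS_pow, CharP.cast_eq_zero, zero_mul, xS_zero]
  r2 := by rw [hS_conj_xS]; exact xS_comm _ _
  r3 := by rw [wordF_cj_hS_one, minpoly.aeval, xS_zero]
  tail := by
    have := tail_SL p ζ hζ 1 Gζ Gζi (by rwa [pow_one]) (by rwa [pow_one])
    rwa [pow_one] at this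

theorem T3_SL (p : ℕ) [Fact p.Prime] [Algebra (ZMod p) K] [CharP K p] (ζ : K) (hζ : ζ ≠ 0)
    (i j : ℕ) (c : K) (hi : (ζ ^ 2) ^ i = c) (hj : (ζ ^ 2) ^ j = 1 - c)
    (Gl Gζ Gζi : (ZMod p)[X]) (hGl : aeval c Gl = ζ ^ 2) (hGζ : aeval c Gζ = ζ) (hGζi : aeval c Gζi = ζ⁻¹) :
    T3Rel (xS 1 : SpecialLinearGroup (Fin 2) K) wS (hS ζ hζ) p i j (cf (minpoly (ZMod p) c))
      (minpoly (ZMod p) c).natDegree (cf Gl) Gl.natDegree (cf Gζ) Gζ.natDegree (cf Gζi) Gζi.natDegree where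
  r1 := by rw [xS_pow, CharP.cast_eq_zero, zero_mul, xS_zero]
  r2 := by rw [hS_pow_conj_xS, hS_pow_conj_xS]; exact xS_comm _ _
  r3 := by
    rw [hS_pow_conj_xS, hS_pow_conj_xS, ← xS_add, hi, hj]
    congr 1
    ring
  r4 := by rw [wordF_cj_hS, hi, minpoly.aeval, xS_zero]
  r5 := by rw [wordF_cj_hS, hi, hGl, hS_conj_xS, mul_one]
  tail := tail_SL p ζ hζ i Gζ Gζi (by rw [hi]; exact hGζ) (by rw [hi]; exact hGζi)

theorem wS_mul_self_of_char_two [CharP K 2] : (wS : SpecialLinearGroup (Fin 2) K) * wS = 1 := by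
  apply Matrix.SpecialLinearGroup.ext
  intro i j
  show (↑ₘ(wS * wS)) i j = (↑ₘ(1 : SpecialLinearGroup (Fin 2) K)) i j
  fin_cases i <;> fin_cases j <;>
    simp [coe_wS, Matrix.mul_apply, Fin.sum_univ_two, CharTwo.neg_eq]

theorem T1_SL [Fintype K] [Algebra (ZMod 2) K] [CharP K 2] (e : ℕ) (he : Fintype.card K = 2 ^ e)
    (ζ : K) (hζ : ζ ≠ 0) (k : ℕ) (hk : (ζ ^ 2) ^ k = 1 + ζ ^ 2) :
    T1Rel (xS 1 : SpecialLinearGroup (Fin 2) K) wS (hS ζ hζ) k (cf (minpoly (ZMod 2) (ζ ^ 2)))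
      (minpoly (ZMod 2) (ζ ^ 2)).natDegree (2 ^ e) := by
  have hu2 : (xS 1 : SpecialLinearGroup (Fin 2) K) * xS 1 = 1 := by
    rw [← xS_add, CharTwo.add_self_eq_zero, xS_zero]
  have ht2 := wS_mul_self_of_char_two (K := K)
  have hti : (wS : SpecialLinearGroup (Fin 2) K)⁻¹ = wS := inv_eq_of_mul_eq_one_right ht2
  have hui : (xS 1 : SpecialLinearGroup (Fin 2) K)⁻¹ = xS 1 := inv_eq_of_mul_eq_one_right hu2
  have hw1 : (xS 1 : SpecialLinearGroup (Fin 2) K) * (wS * xS 1 * wS⁻¹) * xS 1 = wS := by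
    rw [wS_conj_xS]; exact wS_eq.symm
  refine ⟨?_, ?_, ?_, ?_, ?_⟩
  · rw [pow_two]; exact hu2
  · rw [hti] at hw1
    calc (xS 1 : SpecialLinearGroup (Fin 2) K) * wS * xS 1
        = (xS 1 * (wS * xS 1 * wS) * xS 1) * (xS 1)⁻¹ * wS⁻¹ := by group
      _ = wS * xS 1 * wS := by rw [hw1, hui, hti]
  · have := wS_conj_hS ζ hζ
    rw [hti] at this
    rw [pow_two]
    calc (wS : SpecialLinearGroup (Fin 2) K) * hS ζ hζ * (wS * hS ζ hζ)
        = (wS * hS ζ hζ * wS) * hS ζ hζ := by group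
      _ = 1 := by rw [this]; group
  · rw [hS_conj_xS, hS_pow_conj_xS, ← xS_add, hk, mul_one]
    congr 1
    have h2 : (1 : K) + 1 = 0 := CharTwo.add_self_eq_zero 1
    linear_combination (-(ζ ^ 2)) * h2
  · rw [wordF_cj_hS_one, minpoly.aeval, xS_zero, hS_pow']
    have : ζ ^ (2 ^ e - 1) = 1 := by
      rw [← he]
      exact FiniteField.pow_card_sub_one_eq_one ζ hζ
    symm
    apply Matrix.SpecialLinearGroup.ext
    intro a b
    show (↑ₘ(hS (ζ ^ (2 ^ e - 1)) _)) a b = (↑ₘ(1 : SpecialLinearGroup (Fin 2) K)) a b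
    fin_cases a <;> fin_cases b <;> simp [coe_hS, this]

end SLside

end Cfsg.Agent.Lib.Helper11.Pres2
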