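import Mathlib
import Cfsg.Agent.Lib.Helper11.Pres2A
import Cfsg.Agent.Lib.Helper11.Pres2B
import Cfsg.Agent.Lib.Helper11.Pres2C
import Cfsg.Agent.Lib.Helper11.Pres2D
import Cfsg.Agent.Lib.Helper11.Pres2E
import Cfsg.Agent.Lib.Helper11.Pres2F
import Cfsg.Agent.Lib.Helper11.Pres2G

set_option autoImplicit false

namespace Cfsg.Agent.Lib.Helper11.Pres2

open Polynomial Cfsg.Agent.Lib.Helper11.SL2Hom Matrix

/-- the relations for `q = 2` -/
structure T0Rel {G : Type*} [Group G] (u t h : G) : Prop where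
  r1 : u ^ 2 = 1
  r2 : t ^ 2 = 1
  r3 : (u * t) ^ 3 = 1
  r4 : h = 1

theorem T0Rel.map {G H : Type*} [Group G] [Group H] (ρ : G →* H) {u t h : G} (R : T0Rel u t h) :
    T0Rel (ρ u) (ρ t) (ρ h) where
  r1 := by rw [← map_pow, R.r1, map_one]
  r2 := by rw [← map_pow, R.r2, map_one]
  r3 := by rw [← map_mul, ← map_pow, R.r3, map_one]
  r4 := by rw [R.r4, map_one]

theorem T0Rel.t_sq {G : Type*} [Group G] {u t h : G} (R : T0Rel u t h) : t * t = 1 := by
  rw [← pow_two]; exact R.r2

theorem T1Rel.t_sq {G : Type*} [Group G] {u t h : G} {k : ℕ} {μc : ℕ → ℕ} {d q : ℕ}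
    (R : T1Rel u t h k μc d q) : t * t = 1 := by
  have hu2 : u * u = 1 := by rw [← pow_two]; exact R.r1
  have ht_conj : t = (u * t) * u * (u * t)⁻¹ := by
    calc t = t * u * t * t⁻¹ * u⁻¹ := by group
      _ = u * t * u * t⁻¹ * u⁻¹ := by rw [← R.r2]
      _ = (u * t) * u * (u * t)⁻¹ := by group
  have : t * t = (u * t) * (u * u) * (u * t)⁻¹ := by
    conv_lhs => rw [ht_conj]
    group
  rw [this, hu2]; group

section Two

variable {K : Type*} [Field K] [Fintype K]

theorem eq_zero_or_one_of_card_two (hK : Fintype.card K = 2) (a : K) : a = 0 ∨ a = 1 := by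
  by_cases ha : a = 0
  · exact Or.inl ha
  · right
    have := FiniteField.pow_card_sub_one_eq_one a ha
    rwa [hK, show 2 - 1 = 1 from rfl, pow_one] at this

theorem one_add_one_of_card_two (hK : Fintype.card K = 2) : (1 : K) + 1 = 0 := by
  rcases eq_zero_or_one_of_card_two hK ((1 : K) + 1) with h | h
  · exact h
  · exfalso
    have : (1 : K) = 0 := by
      have h' := congrArg (fun z => z - 1) h
      simp only [add_sub_cancel_right, sub_self] at h'
      exact h'
    exact one_ne_zero this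

open Classical in
theorem T0Rel.torusData (hK : Fintype.card K = 2) {Γ : Type*} [Group Γ] {u t h : Γ} (R : T0Rel u t h) :
    ∃ D : TorusData K Γ, D.x 1 = u ∧ D.t = t ∧ D.h = h ∧ D.ζ = 1 := by
  have hu2 : u * u = 1 := by rw [← pow_two]; exact R.r1
  have ht2 : t * t = 1 := R.t_sq
  have hti : t⁻¹ = t := inv_eq_of_mul_eq_one_right ht2
  have h3 : u * t * (u * t) * (u * t) = 1 := by
    have := R.r3
    rwa [pow_succ, pow_two] at this
  have hw : u * (t * u * t⁻¹) * u = t := by
    rw [hti]
    calc u * (t * u * t) * u = (u * t * (u * t) * (u * t)) * t⁻¹ := by group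
      _ = t := by rw [h3, one_mul, hti]
  let x : K → Γ := fun a => if a = 0 then 1 else u
  have hx0 : x 0 = 1 := if_pos rfl
  have hx1 : x 1 = u := if_neg one_ne_zero
  have h11 := one_add_one_of_card_two hK
  have hxadd : ∀ a b, x (a + b) = x a * x b := by
    intro a b
    rcases eq_zero_or_one_of_card_two hK a with rfl | rfl
    · rw [zero_add, hx0, one_mul]
    · rcases eq_zero_or_one_of_card_two hK b with rfl | rfl
      · rw [add_zero, hx0, mul_one]
      · rw [h11, hx0, hx1, hu2]
  have hh : h = 1 := R.r4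
  refine ⟨{ x := x, t := t, h := h, ζ := 1, hζ := one_ne_zero, x_add := hxadd,
            h_x := fun a => by rw [hh, one_pow, one_mul, one_mul, inv_one, mul_one],
            t_h := by rw [hh, mul_one, mul_inv_cancel, inv_one],
            hgenζ := fun a ha => ⟨0, by
              rcases eq_zero_or_one_of_card_two hK a with h0 | h1
              · exact absurd h0 ha
              · rw [h1, pow_zero]⟩,
            w_one := by rw [hx1]; exact hw,
            w_zeta := by rw [inv_one, hx1, hh, one_mul]; exact hw }, hx1, rfl, rfl, rfl⟩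

theorem gen_of_card_two (p : ℕ) [Fact p.Prime] [Algebra (ZMod p) K] (hK : Fintype.card K = 2) (c : K) :
    ∀ a : K, ∃ f : (ZMod p)[X], aeval c f = a := by
  intro a
  rcases eq_zero_or_one_of_card_two hK a with rfl | rfl
  · exact ⟨0, map_zero _⟩
  · exact ⟨1, map_one _⟩

omit [Fintype K] in
theorem T0_SL [CharP K 2] :
    T0Rel (xS 1 : SpecialLinearGroup (Fin 2) K) wS (hS 1 one_ne_zero) := by
  have hu2 : (xS 1 : SpecialLinearGroup (Fin 2) K) * xS 1 = 1 := by
    rw [← xS_add, CharTwo.add_self_eq_zero, xS_zero]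
  have ht2 := wS_mul_self_of_char_two (K := K)
  have hti : (wS : SpecialLinearGroup (Fin 2) K)⁻¹ = wS := inv_eq_of_mul_eq_one_right ht2
  have hw1 : (xS 1 : SpecialLinearGroup (Fin 2) K) * (wS * xS 1 * wS⁻¹) * xS 1 = wS := by
    rw [wS_conj_xS]; exact wS_eq.symm
  refine ⟨?_, ?_, ?_, hS_one'⟩
  · rw [pow_two]; exact hu2
  · rw [pow_two]; exact ht2
  · rw [hti] at hw1
    rw [pow_succ, pow_two]
    calc (xS 1 : SpecialLinearGroup (Fin 2) K) * wS * (xS 1 * wS) * (xS 1 * wS)
        = (xS 1 * (wS * xS 1 * wS) * xS 1) * wS := by group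
      _ = 1 := by rw [hw1, ht2]

end Two

section Kernel

variable {K : Type*} [Field K] [Finite K] {Γ : Type*} [Group Γ]

theorem center_le_ker (D : TorusData K Γ) (ht : D.t * D.t = 1) :
    (QuotientGroup.mk' (Subgroup.center (SpecialLinearGroup (Fin 2) K))).ker ≤ D.hom.ker := by
  rw [QuotientGroup.ker_mk']
  intro g hg
  rw [Matrix.SpecialLinearGroup.mem_center_iff] at hg
  obtain ⟨r, hr, hg⟩ := hg
  rw [Fintype.card_fin, sq_eq_one_iff] at hr
  rw [MonoidHom.mem_ker]
  rcases hr with rfl | rfl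
  · have : g = 1 := by
      apply Matrix.SpecialLinearGroup.ext
      intro i j
      rw [← hg]
      simp [Matrix.one_apply]
    rw [this, map_one]
  · have : g = wS * wS := by
      apply Matrix.SpecialLinearGroup.ext
      intro i j
      rw [← hg]
      show _ = ((wS * wS : SpecialLinearGroup (Fin 2) K) : Matrix (Fin 2) (Fin 2) K) i j
      fin_cases i <;> fin_cases j <;>
        simp [coe_wS, Matrix.mul_apply, Fin.sum_univ_two]
    rw [this, map_mul, D.hom_wS, ht]

end Kernel

section Main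

variable {K : Type*} [Field K] [Fintype K]

theorem range_of_fin3 (rels : Set (FreeGroup (Fin 3))) :
    Set.range (PresentedGroup.of : Fin 3 → PresentedGroup rels) =
      {PresentedGroup.of 0, PresentedGroup.of 1, PresentedGroup.of 2} := by
  ext g
  constructor
  · rintro ⟨i, rfl⟩
    fin_cases i
    · exact Or.inl rfl
    · exact Or.inr (Or.inl rfl)
    · exact Or.inr (Or.inr rfl)
  · rintro (rfl | rfl | rfl)
    · exact ⟨0, rfl⟩
    · exact ⟨1, rfl⟩
    · exact ⟨2, rfl⟩

theorem pres_main (p : ℕ) [Fact p.Prime] [Algebra (ZMod p) K]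
    (rels : Set (FreeGroup (Fin 3))) (D : TorusData K (PresentedGroup rels))
    (hgen : ∀ a : K, ∃ f : (ZMod p)[X], aeval (D.ζ ^ 2) f = a)
    (hu : D.x 1 = PresentedGroup.of 0) (ht : D.t = PresentedGroup.of 1) (hh : D.h = PresentedGroup.of 2)
    {P : Type*} [Group P] (π : SpecialLinearGroup (Fin 2) K →* P) (hπ : Function.Surjective π)
    (hker : π.ker ≤ D.hom.ker)
    (hrelP : ∀ r ∈ rels, FreeGroup.lift ![π (xS 1), π wS, π (hS D.ζ D.hζ)] r = 1) :
    Nonempty (PresentedGroup rels ≃* P) := by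
  refine D.nonempty_mulEquiv p hgen π hπ hker (PresentedGroup.toGroup hrelP) ?_ ?_ ?_ ?_
  · rw [hu, PresentedGroup.toGroup.of]; rfl
  · rw [ht, PresentedGroup.toGroup.of]; rfl
  · rw [hh, PresentedGroup.toGroup.of]; rfl
  · rw [hu, ht, hh, ← range_of_fin3]
    exact PresentedGroup.closure_range_of rels

theorem lift_comp {G H : Type*} [Group G] [Group H] (ρ : G →* H) (u t h : G) (r : FreeGroup (Fin 3)) :
    FreeGroup.lift ![ρ u, ρ t, ρ h] r = ρ (FreeGroup.lift ![u, t, h] r) := by
  have : FreeGroup.lift ![ρ u, ρ t, ρ h] = ρ.comp (FreeGroup.lift ![u, t, h]) := by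
    apply FreeGroup.ext_hom
    intro i
    rw [MonoidHom.comp_apply, FreeGroup.lift_apply_of, FreeGroup.lift_apply_of]
    fin_cases i <;> rfl
  rw [this]; rfl

/-- the three generators of the free group -/
def fu : FreeGroup (Fin 3) := FreeGroup.of 0
/-- second generator -/
def ft : FreeGroup (Fin 3) := FreeGroup.of 1
/-- third generator -/
def fh : FreeGroup (Fin 3) := FreeGroup.of 2

theorem lift_fu {G : Type*} [Group G] (u t h : G) : FreeGroup.lift ![u, t, h] fu = u := by
  unfold fu; rw [FreeGroup.lift_apply_of]; rfl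
theorem lift_ft {G : Type*} [Group G] (u t h : G) : FreeGroup.lift ![u, t, h] ft = t := by
  unfold ft; rw [FreeGroup.lift_apply_of]; rfl
theorem lift_fh {G : Type*} [Group G] (u t h : G) : FreeGroup.lift ![u, t, h] fh = h := by
  unfold fh; rw [FreeGroup.lift_apply_of]; rfl

/-- the main assembly: a list of relators which hold in `SL₂(K)` and force torus data gives presentations of
`SL₂(K)` and `PSL₂(K)` -/
theorem pres_of_rels (p : ℕ) [Fact p.Prime] [Algebra (ZMod p) K] (ζ : K) (hζ : ζ ≠ 0)
    (hgen : ∀ a : K, ∃ f : (ZMod p)[X], aeval (ζ ^ 2) f = a)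
    (L : List (FreeGroup (Fin 3)))
    (hSL : ∀ r ∈ L, FreeGroup.lift ![(xS 1 : SpecialLinearGroup (Fin 2) K), wS, hS ζ hζ] r = 1)
    (hD : ∀ (Γ : Type) [Group Γ] (u t h : Γ), (∀ r ∈ L, FreeGroup.lift ![u, t, h] r = 1) →
      ∃ D : TorusData K Γ, D.x 1 = u ∧ D.t = t ∧ D.h = h ∧ D.ζ = ζ) :
    Nonempty (PresentedGroup (↑L.toFinset : Set (FreeGroup (Fin 3))) ≃* SpecialLinearGroup (Fin 2) K) ∧
    ((∀ (Γ : Type) [Group Γ] (u t h : Γ), (∀ r ∈ L, FreeGroup.lift ![u, t, h] r = 1) → t * t = 1) →
      Nonempty (PresentedGroup (↑L.toFinset : Set (FreeGroup (Fin 3))) ≃*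
        Matrix.ProjectiveSpecialLinearGroup (Fin 2) K)) ∧
    Nonempty (PresentedGroup (↑(ft ^ 2 :: L).toFinset : Set (FreeGroup (Fin 3))) ≃*
        Matrix.ProjectiveSpecialLinearGroup (Fin 2) K) := by
  -- relators hold in any presented group
  have hpres : ∀ (L' : List (FreeGroup (Fin 3))), ∀ r ∈ L',
      FreeGroup.lift ![(PresentedGroup.of 0 : PresentedGroup (↑L'.toFinset : Set (FreeGroup (Fin 3)))),
        PresentedGroup.of 1, PresentedGroup.of 2] r = 1 := by
    intro L' r hr
    have h1 : FreeGroup.lift ![(PresentedGroup.of 0 : PresentedGroup (↑L'.toFinset : Set (FreeGroup (Fin 3)))),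
        PresentedGroup.of 1, PresentedGroup.of 2] = PresentedGroup.mk _ := by
      apply FreeGroup.ext_hom
      intro i
      rw [FreeGroup.lift_apply_of]
      fin_cases i <;> rfl
    rw [h1]
    apply PresentedGroup.one_of_mem
    rw [Finset.mem_coe, List.mem_toFinset]
    exact hr
  refine ⟨?_, ?_, ?_⟩
  · obtain ⟨D, hu, ht, hh, hz⟩ := hD _ _ _ _ (hpres L)
    subst hz
    refine pres_main p _ D hgen hu ht hh (MonoidHom.id _) Function.surjective_id ?_ ?_
    · intro g hg
      rw [MonoidHom.mem_ker, MonoidHom.id_apply] at hg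
      rw [hg]; exact Subgroup.one_mem _
    · intro r hr
      rw [Finset.mem_coe, List.mem_toFinset] at hr
      exact hSL r hr
  · intro htt
    obtain ⟨D, hu, ht, hh, hz⟩ := hD _ _ _ _ (hpres L)
    subst hz
    have ht2 : D.t * D.t = 1 := by
      rw [ht]
      exact htt _ _ _ _ (hpres L)
    refine pres_main p _ D hgen hu ht hh (QuotientGroup.mk' _) (QuotientGroup.mk'_surjective _)
      (center_le_ker D ht2) ?_
    intro r hr
    rw [Finset.mem_coe, List.mem_toFinset] at hr
    rw [lift_comp, hSL r hr, map_one]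
  · have hall := hpres (ft ^ 2 :: L)
    obtain ⟨D, hu, ht, hh, hz⟩ := hD _ _ _ _ (fun r hr => hall r (List.mem_cons_of_mem _ hr))
    subst hz
    have ht2 : D.t * D.t = 1 := by
      rw [ht]
      have := hall (ft ^ 2) List.mem_cons_self
      rwa [map_pow, lift_ft, pow_two] at this
    refine pres_main p _ D hgen hu ht hh (QuotientGroup.mk' _) (QuotientGroup.mk'_surjective _)
      (center_le_ker D ht2) ?_
    intro r hr
    rw [Finset.mem_coe, List.mem_toFinset, List.mem_cons] at hr
    rw [lift_comp]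
    rcases hr with rfl | hr
    · rw [map_pow, lift_ft, pow_two]
      have : (wS : SpecialLinearGroup (Fin 2) K) * wS ∈
          (QuotientGroup.mk' (Subgroup.center (SpecialLinearGroup (Fin 2) K))).ker := by
        rw [QuotientGroup.ker_mk', Matrix.SpecialLinearGroup.mem_center_iff]
        refine ⟨-1, by simp, ?_⟩
        ext i j
        show _ = ((wS * wS : SpecialLinearGroup (Fin 2) K) : Matrix (Fin 2) (Fin 2) K) i j
        fin_cases i <;> fin_cases j <;>
          simp [coe_wS, Matrix.mul_apply, Fin.sum_univ_two]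
      exact this
    · rw [hSL r hr, map_one]

end Main

end Cfsg.Agent.Lib.Helper11.Pres2
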