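import Mathlib
import Cfsg.Agent.Lib.Helper11.Pres2A
import Cfsg.Agent.Lib.Helper11.Pres2B
import Cfsg.Agent.Lib.Helper11.Pres2C
import Cfsg.Agent.Lib.Helper11.Pres2D
import Cfsg.Agent.Lib.Helper11.Pres2E
import Cfsg.Agent.Lib.Helper11.Pres2F
import Cfsg.Agent.Lib.Helper11.Pres2G
import Cfsg.Agent.Lib.Helper11.Pres2H

set_option autoImplicit false

namespace Cfsg.Agent.Lib.Helper11.Pres2

open Polynomial Cfsg.Agent.Lib.Helper11.SL2Hom Matrix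

section Lists

/-- relators for `q = 2` -/
def t0rels : List (FreeGroup (Fin 3)) := [fu ^ 2, ft ^ 2, (fu * ft) ^ 3, fh]

/-- relators in characteristic two, `q ≥ 4` -/
def t1rels (k : ℕ) (μc : ℕ → ℕ) (d q : ℕ) : List (FreeGroup (Fin 3)) :=
  [fu ^ 2, (fu * ft * fu) * (ft * fu * ft)⁻¹, (ft * fh) ^ 2,
   fu * ((fh * fu * fh⁻¹) * (fh ^ k * fu * (fh ^ k)⁻¹))⁻¹,
   wordF (cj fh fu) μc (d + 1) * (fh ^ (q - 1))⁻¹]

/-- the three relators involving `t` -/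
def tailrels (g : FreeGroup (Fin 3)) (cζ : ℕ → ℕ) (dζ : ℕ) (cζi : ℕ → ℕ) (dζi : ℕ) :
    List (FreeGroup (Fin 3)) :=
  [(ft * fh * ft⁻¹) * (fh⁻¹)⁻¹, (fu * (ft * fu * ft⁻¹) * fu) * ft⁻¹,
   (wordF (cj g fu) cζ (dζ + 1) * (ft * wordF (cj g fu) cζi (dζi + 1) * ft⁻¹) *
      wordF (cj g fu) cζ (dζ + 1)) * (fh * ft)⁻¹]

/-- relators for odd `q`, small degree -/
def t2rels (p : ℕ) (μc : ℕ → ℕ) (d : ℕ) (cζ : ℕ → ℕ) (dζ : ℕ) (cζi : ℕ → ℕ) (dζi : ℕ) :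
    List (FreeGroup (Fin 3)) :=
  [fu ^ p, (fu * (fh * fu * fh⁻¹)) * ((fh * fu * fh⁻¹) * fu)⁻¹, wordF (cj fh fu) μc (d + 1)] ++
    tailrels fh cζ dζ cζi dζi

/-- relators for odd `q`, degree at least three -/
def t3rels (p i j : ℕ) (μc : ℕ → ℕ) (d : ℕ) (cl : ℕ → ℕ) (dl : ℕ) (cζ : ℕ → ℕ) (dζ : ℕ) (cζi : ℕ → ℕ)
    (dζi : ℕ) : List (FreeGroup (Fin 3)) :=
  [fu ^ p,
   ((fh ^ i * fu * (fh ^ i)⁻¹) * (fh ^ j * fu * (fh ^ j)⁻¹)) *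
     ((fh ^ j * fu * (fh ^ j)⁻¹) * (fh ^ i * fu * (fh ^ i)⁻¹))⁻¹,
   fu * ((fh ^ i * fu * (fh ^ i)⁻¹) * (fh ^ j * fu * (fh ^ j)⁻¹))⁻¹,
   wordF (cj (fh ^ i) fu) μc (d + 1),
   (fh * fu * fh⁻¹) * (wordF (cj (fh ^ i) fu) cl (dl + 1))⁻¹] ++
    tailrels (fh ^ i) cζ dζ cζi dζi

variable {G : Type*} [Group G] (u t h : G)

theorem t0rels_iff : (∀ r ∈ t0rels, FreeGroup.lift ![u, t, h] r = 1) ↔ T0Rel u t h := by
  unfold t0rels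
  simp only [List.forall_mem_cons, List.not_mem_nil, false_imp_iff, implies_true, and_true, map_mul, map_pow,
    lift_fu, lift_ft, lift_fh]
  exact ⟨fun ⟨a, b, c, d⟩ => ⟨a, b, c, d⟩, fun R => ⟨R.r1, R.r2, R.r3, R.r4⟩⟩

theorem t1rels_iff (k : ℕ) (μc : ℕ → ℕ) (d q : ℕ) :
    (∀ r ∈ t1rels k μc d q, FreeGroup.lift ![u, t, h] r = 1) ↔ T1Rel u t h k μc d q := by
  unfold t1rels
  simp only [List.forall_mem_cons, List.not_mem_nil, false_imp_iff, implies_true, and_true, map_mul, map_pow,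
    map_inv, map_wordF_cj, lift_fu, lift_ft, lift_fh, mul_inv_eq_one]
  exact ⟨fun ⟨a, b, c, d, e⟩ => ⟨a, b, c, d, e⟩, fun R => ⟨R.r1, R.r2, R.r3, R.r4, R.r5⟩⟩

theorem tailrels_iff (g : FreeGroup (Fin 3)) (cζ : ℕ → ℕ) (dζ : ℕ) (cζi : ℕ → ℕ) (dζi : ℕ) :
    (∀ r ∈ tailrels g cζ dζ cζi dζi, FreeGroup.lift ![u, t, h] r = 1) ↔
      TailRel u t h (FreeGroup.lift ![u, t, h] g) cζ dζ cζi dζi := by
  unfold tailrels
  simp only [List.forall_mem_cons, List.not_mem_nil, false_imp_iff, implies_true, and_true, map_mul,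
    map_inv, map_wordF_cj, lift_fu, lift_ft, lift_fh, mul_inv_eq_one]
  exact ⟨fun ⟨a, b, c⟩ => ⟨a, b, c⟩, fun R => ⟨R.th, R.w1, R.wζ⟩⟩

theorem t2rels_iff (p : ℕ) (μc : ℕ → ℕ) (d : ℕ) (cζ : ℕ → ℕ) (dζ : ℕ) (cζi : ℕ → ℕ) (dζi : ℕ) :
    (∀ r ∈ t2rels p μc d cζ dζ cζi dζi, FreeGroup.lift ![u, t, h] r = 1) ↔
      T2Rel u t h p μc d cζ dζ cζi dζi := by
  unfold t2rels
  rw [List.forall_mem_append, tailrels_iff, lift_fh]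
  simp only [List.forall_mem_cons, List.not_mem_nil, false_imp_iff, implies_true, and_true, map_mul, map_pow,
    map_inv, map_wordF_cj, lift_fu, lift_ft, lift_fh, mul_inv_eq_one]
  exact ⟨fun ⟨⟨a, b, c⟩, d⟩ => ⟨a, b, c, d⟩, fun R => ⟨⟨R.r1, R.r2, R.r3⟩, R.tail⟩⟩

theorem t3rels_iff (p i j : ℕ) (μc : ℕ → ℕ) (d : ℕ) (cl : ℕ → ℕ) (dl : ℕ) (cζ : ℕ → ℕ) (dζ : ℕ)
    (cζi : ℕ → ℕ) (dζi : ℕ) :
    (∀ r ∈ t3rels p i j μc d cl dl cζ dζ cζi dζi, FreeGroup.lift ![u, t, h] r = 1) ↔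
      T3Rel u t h p i j μc d cl dl cζ dζ cζi dζi := by
  unfold t3rels
  rw [List.forall_mem_append, tailrels_iff, map_pow, lift_fh]
  simp only [List.forall_mem_cons, List.not_mem_nil, false_imp_iff, implies_true, and_true, map_mul, map_pow,
    map_inv, map_wordF_cj, lift_fu, lift_ft, lift_fh, mul_inv_eq_one]
  exact ⟨fun ⟨⟨a, b, c, d, e⟩, f⟩ => ⟨a, b, c, d, e, f⟩, fun R => ⟨⟨R.r1, R.r2, R.r3, R.r4, R.r5⟩, R.tail⟩⟩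

end Lists

end Cfsg.Agent.Lib.Helper11.Pres2
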