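import Mathlib
import Cfsg.Agent.Lib.Helper11.SL2Hom
import Cfsg.Agent.Lib.Helper11.Pres2C
import Cfsg.Agent.Lib.Helper11.Pres2G

set_option autoImplicit false

namespace Cfsg.Agent.Lib.Helper11.Pres3

open Cfsg.Agent.Lib.Helper11.SL2Hom Cfsg.Agent.Lib.Helper11.Pres2 Matrix

section SL2

variable {K : Type*} [Field K]

local notation:1024 "↑ₘ" A:1024 => ((A : SpecialLinearGroup (Fin 2) K) : Matrix (Fin 2) (Fin 2) K)

/-- the diagonal element `diag(s, s⁻¹)` for a unit `s` -/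
def hU (s : Kˣ) : SpecialLinearGroup (Fin 2) K := hS (s : K) s.ne_zero

theorem coe_hU (s : Kˣ) : (↑ₘ(hU s)) = !![(s : K), 0; 0, (s : K)⁻¹] := rfl

theorem hU_mul (s s' : Kˣ) : (hU (s * s') : SpecialLinearGroup (Fin 2) K) = hU s * hU s' := by
  unfold hU
  rw [hS_mul']
  congr 1

theorem hU_one : (hU 1 : SpecialLinearGroup (Fin 2) K) = 1 := by
  unfold hU
  exact hS_one'

/-- `hU` as a homomorphism -/
def hUHom : Kˣ →* SpecialLinearGroup (Fin 2) K where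
  toFun := hU
  map_one' := hU_one
  map_mul' := hU_mul

theorem hUHom_apply (s : Kˣ) : (hUHom s : SpecialLinearGroup (Fin 2) K) = hU s := rfl

theorem hU_inv (s : Kˣ) : (hU s : SpecialLinearGroup (Fin 2) K)⁻¹ = hU s⁻¹ := by
  rw [← hUHom_apply, ← hUHom_apply, map_inv]

theorem hU_pow (s : Kˣ) (n : ℕ) : (hU s : SpecialLinearGroup (Fin 2) K) ^ n = hU (s ^ n) := by
  rw [← hUHom_apply, ← hUHom_apply, map_pow]

theorem hU_comm (s s' : Kˣ) : Commute (hU s : SpecialLinearGroup (Fin 2) K) (hU s') := by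
  unfold Commute SemiconjBy
  rw [← hU_mul, ← hU_mul, mul_comm]

theorem hU_conj_xS (s : Kˣ) (a : K) : hU s * xS a * (hU s)⁻¹ = xS ((s : K) ^ 2 * a) :=
  hS_conj_xS _ _ _

theorem yS_add (a b : K) : (yS (a + b) : SpecialLinearGroup (Fin 2) K) = yS a * yS b := by
  apply Matrix.SpecialLinearGroup.ext
  intro i j
  show (↑ₘ(yS (a + b))) i j = (↑ₘ(yS a * yS b)) i j
  fin_cases i <;> fin_cases j <;>
    simp [coe_yS, Matrix.mul_apply, Fin.sum_univ_two, add_comm]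

theorem yS_zero : (yS 0 : SpecialLinearGroup (Fin 2) K) = 1 := by
  apply Matrix.SpecialLinearGroup.ext
  intro i j
  show (↑ₘ(yS 0)) i j = (↑ₘ(1 : SpecialLinearGroup (Fin 2) K)) i j
  fin_cases i <;> fin_cases j <;> simp [coe_yS]

theorem xS_inv (a : K) : (xS a : SpecialLinearGroup (Fin 2) K)⁻¹ = xS (-a) := by
  rw [inv_eq_iff_mul_eq_one, ← xS_add, add_neg_cancel, xS_zero]

theorem yS_inv (a : K) : (yS a : SpecialLinearGroup (Fin 2) K)⁻¹ = yS (-a) := by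
  rw [inv_eq_iff_mul_eq_one, ← yS_add, add_neg_cancel, yS_zero]

theorem hU_mul_yS (s : Kˣ) (a : K) : hU s * yS a = yS (((s : K) ^ 2)⁻¹ * a) * hU s := by
  apply Matrix.SpecialLinearGroup.ext
  intro i j
  show (↑ₘ(hU s * yS a)) i j = (↑ₘ(yS (((s : K) ^ 2)⁻¹ * a) * hU s)) i j
  have hs : (s : K) ≠ 0 := s.ne_zero
  fin_cases i <;> fin_cases j <;>
    simp [coe_yS, coe_hU, Matrix.mul_apply, Fin.sum_univ_two] <;> field_simp

theorem hU_conj_yS (s : Kˣ) (a : K) : hU s * yS a * (hU s)⁻¹ = yS (((s : K) ^ 2)⁻¹ * a) := by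
  rw [hU_mul_yS]; group

theorem wS_conj_hU (s : Kˣ) : (wS : SpecialLinearGroup (Fin 2) K) * hU s * wS⁻¹ = hU s⁻¹ := by
  rw [← hU_inv]
  exact wS_conj_hS _ _

theorem wS_sq : (wS : SpecialLinearGroup (Fin 2) K) * wS = hU (-1) := by
  apply Matrix.SpecialLinearGroup.ext
  intro i j
  show (↑ₘ(wS * wS)) i j = (↑ₘ(hU (-1))) i j
  fin_cases i <;> fin_cases j <;>
    simp [coe_wS, coe_hU, Matrix.mul_apply, Fin.sum_univ_two]

theorem wS_inv : (wS : SpecialLinearGroup (Fin 2) K)⁻¹ = hU (-1) * wS := by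
  rw [inv_eq_iff_mul_eq_one, ← mul_assoc, mul_assoc wS, ← wS_sq]
  have h4 : (hU (-1) : SpecialLinearGroup (Fin 2) K) * hU (-1) = 1 := by
    rw [← hU_mul]
    have : (-1 : Kˣ) * (-1) = 1 := by simp
    rw [this, hU_one]
  rw [← wS_sq] at h4
  calc (wS : SpecialLinearGroup (Fin 2) K) * (wS * wS * wS) = (wS * wS) * (wS * wS) := by group
    _ = 1 := h4

theorem wS_conj_yS (a : K) : (wS : SpecialLinearGroup (Fin 2) K) * yS a * wS⁻¹ = xS (-a) := by
  apply Matrix.SpecialLinearGroup.ext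
  intro i j
  rw [wS_inv]
  show (↑ₘ(wS * yS a * (hU (-1) * wS))) i j = (↑ₘ(xS (-a))) i j
  fin_cases i <;> fin_cases j <;>
    simp [coe_xS, coe_yS, coe_wS, coe_hU, Matrix.mul_apply, Fin.sum_univ_two]

theorem wS_inv_conj_xS (a : K) : (wS : SpecialLinearGroup (Fin 2) K)⁻¹ * xS a * wS = yS (-a) := by
  have := wS_conj_yS (K := K) (-a)
  rw [neg_neg] at this
  rw [← this]; group

theorem wS_inv_conj_yS (a : K) : (wS : SpecialLinearGroup (Fin 2) K)⁻¹ * yS a * wS = xS (-a) := by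
  have := wS_conj_xS (K := K) (-a)
  rw [neg_neg] at this
  rw [← this]; group

/-- Bruhat form of a lower unitriangular element -/
theorem yS_eq (b : Kˣ) : (yS (b : K) : SpecialLinearGroup (Fin 2) K) =
    xS (b : K)⁻¹ * wS * hU (-b) * xS (b : K)⁻¹ := by
  apply Matrix.SpecialLinearGroup.ext
  intro i j
  show (↑ₘ(yS (b : K))) i j = (↑ₘ(xS (b : K)⁻¹ * wS * hU (-b) * xS (b : K)⁻¹)) i j
  have hb : (b : K) ≠ 0 := b.ne_zero
  fin_cases i <;> fin_cases j <;>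
    simp [coe_xS, coe_yS, coe_wS, coe_hU, Matrix.mul_apply, Fin.sum_univ_two]

/-- opposite Bruhat form of an upper unitriangular element -/
theorem xS_eq (a : Kˣ) : (xS (a : K) : SpecialLinearGroup (Fin 2) K) =
    yS (a : K)⁻¹ * wS * hU a⁻¹ * yS (a : K)⁻¹ := by
  apply Matrix.SpecialLinearGroup.ext
  intro i j
  show (↑ₘ(xS (a : K))) i j = (↑ₘ(yS (a : K)⁻¹ * wS * hU a⁻¹ * yS (a : K)⁻¹)) i j
  have ha : (a : K) ≠ 0 := a.ne_zero
  fin_cases i <;> fin_cases j <;>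
    simp [coe_xS, coe_yS, coe_wS, coe_hU, Matrix.mul_apply, Fin.sum_univ_two]

theorem hU_mul_wS (s : Kˣ) : hU s * wS = xS (s : K) * yS (-(s : K)⁻¹) * xS (s : K) :=
  hS_mul_wS _ _

/-- `hU s` is a word in `xS`, `wS` -/
theorem hU_eq (s : Kˣ) : (hU s : SpecialLinearGroup (Fin 2) K) =
    xS (s : K) * (wS * xS ((s : K)⁻¹) * wS⁻¹) * xS (s : K) * wS⁻¹ := by
  rw [wS_conj_xS, ← hU_mul_wS]; group

/-- induction principle: `SL₂(K)` is generated by the `xS r` and `wS` -/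
theorem sl2_induction (P : SpecialLinearGroup (Fin 2) K → Prop) (hx : ∀ r, P (xS r)) (hw : P wS)
    (hmul : ∀ g g', P g → P g' → P (g * g')) (g : SpecialLinearGroup (Fin 2) K) : P g := by
  have hwi : P (wS⁻¹ : SpecialLinearGroup (Fin 2) K) := by
    rw [wS_inv, ← wS_sq]
    exact hmul _ _ (hmul _ _ hw hw) hw
  have hh : ∀ s : Kˣ, P (hU s) := by
    intro s
    rw [hU_eq]
    exact hmul _ _ (hmul _ _ (hmul _ _ (hx _) (hmul _ _ (hmul _ _ hw (hx _)) hwi)) (hx _)) hwi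
  by_cases hc : (↑ₘg) 1 0 = 0
  · have ha : (↑ₘg) 0 0 ≠ 0 := by
      intro h0
      have := det_eq g
      rw [hc, h0] at this
      simp at this
    rw [RankOneData.eq_of_lower_zero g hc ha]
    exact hmul _ _ (hx _) (hh (Units.mk0 _ ha))
  · rw [RankOneData.eq_of_lower_ne_zero g hc]
    exact hmul _ _ (hmul _ _ (hmul _ _ (hx _) hw) (hh (Units.mk0 _ (neg_ne_zero.mpr hc)))) (hx _)

end SL2

end Cfsg.Agent.Lib.Helper11.Pres3
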