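import Mathlib
import Cfsg.Agent.Lib.Helper11.Pres3A

set_option autoImplicit false

namespace Cfsg.Agent.Lib.Helper11.Pres3

open Cfsg.Agent.Lib.Helper11.SL2Hom Cfsg.Agent.Lib.Helper11.Pres2 Matrix

/-- an image of `SL₂(F)` together with an element `c` of order dividing three with
`(t c⁻¹)² = 1` -/
structure A2Data (F : Type*) [Field F] (Γ : Type*) [Group Γ] where
  φ : SpecialLinearGroup (Fin 2) F →* Γ
  c : Γ
  c3 : c * c * c = 1
  nrel : φ wS * c⁻¹ * (φ wS * c⁻¹) = 1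

namespace A2Data

variable {F : Type*} [Field F] {Γ : Type*} [Group Γ] (D : A2Data F Γ)

/-- root elements `x₁₂` -/
def x0 (r : F) : Γ := D.φ (xS r)
/-- root elements `x₂₁` -/
def y0 (r : F) : Γ := D.φ (yS r)
/-- the Weyl element `n₁₂` -/
def t : Γ := D.φ wS
/-- torus elements `diag(s, s⁻¹, 1)` -/
def h0 (s : Fˣ) : Γ := D.φ (hU s)
/-- root elements `x₂₃` -/
def x1 (r : F) : Γ := D.c * D.x0 r * D.c⁻¹
/-- root elements `x₁₃` -/
def y2 (r : F) : Γ := D.c⁻¹ * D.y0 r * D.c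
/-- torus elements `diag(1, s, s⁻¹)` -/
def h1 (s : Fˣ) : Γ := D.c * D.h0 s * D.c⁻¹
/-- torus elements `diag(s⁻¹, 1, s)` -/
def h2 (s : Fˣ) : Γ := D.c⁻¹ * D.h0 s * D.c

theorem c_inv : D.c⁻¹ = D.c * D.c := by
  rw [inv_eq_iff_mul_eq_one, ← mul_assoc]
  exact D.c3

theorem c_mul_c_mul_c : D.c * (D.c * D.c) = 1 := by rw [← mul_assoc]; exact D.c3

theorem x0_add (a b : F) : D.x0 (a + b) = D.x0 a * D.x0 b := by
  unfold x0; rw [xS_add, map_mul]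

theorem x0_zero : D.x0 0 = 1 := by
  unfold x0; rw [xS_zero, map_one]

theorem x0_inv (a : F) : (D.x0 a)⁻¹ = D.x0 (-a) := by
  unfold x0; rw [← map_inv, xS_inv]

theorem y0_add (a b : F) : D.y0 (a + b) = D.y0 a * D.y0 b := by
  unfold y0; rw [yS_add, map_mul]

theorem y0_zero : D.y0 0 = 1 := by
  unfold y0; rw [yS_zero, map_one]

theorem y0_inv (a : F) : (D.y0 a)⁻¹ = D.y0 (-a) := by
  unfold y0; rw [← map_inv, yS_inv]

theorem x1_add (a b : F) : D.x1 (a + b) = D.x1 a * D.x1 b := by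
  unfold x1; rw [x0_add]; group

theorem x1_zero : D.x1 0 = 1 := by
  unfold x1; rw [x0_zero]; group

theorem x1_inv (a : F) : (D.x1 a)⁻¹ = D.x1 (-a) := by
  unfold x1; rw [← x0_inv]; group

theorem y2_add (a b : F) : D.y2 (a + b) = D.y2 a * D.y2 b := by
  unfold y2; rw [y0_add]; group

theorem y2_zero : D.y2 0 = 1 := by
  unfold y2; rw [y0_zero]; group

theorem y2_inv (a : F) : (D.y2 a)⁻¹ = D.y2 (-a) := by
  unfold y2; rw [← y0_inv]; group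

theorem h0_mul (s s' : Fˣ) : D.h0 (s * s') = D.h0 s * D.h0 s' := by
  unfold h0; rw [hU_mul, map_mul]

theorem h0_one : D.h0 1 = 1 := by
  unfold h0; rw [hU_one, map_one]

theorem h0_inv (s : Fˣ) : (D.h0 s)⁻¹ = D.h0 s⁻¹ := by
  unfold h0; rw [← map_inv, hU_inv]

theorem h1_mul (s s' : Fˣ) : D.h1 (s * s') = D.h1 s * D.h1 s' := by
  unfold h1; rw [h0_mul]; group

theorem h1_one : D.h1 1 = 1 := by
  unfold h1; rw [h0_one]; group

theorem h1_inv (s : Fˣ) : (D.h1 s)⁻¹ = D.h1 s⁻¹ := by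
  unfold h1; rw [← h0_inv]; group

theorem h2_inv (s : Fˣ) : (D.h2 s)⁻¹ = D.h2 s⁻¹ := by
  unfold h2; rw [← h0_inv]; group

theorem t_sq : D.t * D.t = D.h0 (-1) := by
  unfold t h0; rw [← map_mul, wS_sq]

theorem t_x0 (r : F) : D.t * D.x0 r * D.t⁻¹ = D.y0 (-r) := by
  unfold t x0 y0; rw [← map_inv, ← map_mul, ← map_mul, wS_conj_xS]

theorem t_y0 (r : F) : D.t * D.y0 r * D.t⁻¹ = D.x0 (-r) := by
  unfold t x0 y0; rw [← map_inv, ← map_mul, ← map_mul, wS_conj_yS]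

theorem h0_x0 (s : Fˣ) (r : F) : D.h0 s * D.x0 r * (D.h0 s)⁻¹ = D.x0 ((s : F) ^ 2 * r) := by
  unfold h0 x0; rw [← map_inv, ← map_mul, ← map_mul, hU_conj_xS]

theorem h1_x1 (s : Fˣ) (r : F) : D.h1 s * D.x1 r * (D.h1 s)⁻¹ = D.x1 ((s : F) ^ 2 * r) := by
  unfold h1 x1
  rw [← h0_x0]; group

/-- `t c⁻¹ = c t⁻¹` -/
theorem t_cinv : D.t * D.c⁻¹ = D.c * D.t⁻¹ := by
  have h := D.nrel
  change D.t * D.c⁻¹ * (D.t * D.c⁻¹) = 1 at h
  have : D.t * D.c⁻¹ = (D.t * D.c⁻¹)⁻¹ := eq_inv_of_mul_eq_one_left h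
  rw [this]; group

/-- `t c = c² h₁(-1) t` -/
theorem t_c : D.t * D.c = D.c * D.c * D.h1 (-1) * D.t := by
  have hc1 : D.c = D.t * D.c⁻¹ * D.t := by
    have h := D.nrel
    change D.t * D.c⁻¹ * (D.t * D.c⁻¹) = 1 at h
    calc D.c = (D.t * D.c⁻¹ * (D.t * D.c⁻¹)) * D.c := by rw [h, one_mul]
      _ = D.t * D.c⁻¹ * D.t := by group
  unfold h1
  rw [← t_sq]
  have hc := D.c_inv
  calc D.t * D.c = D.t * (D.t * D.c⁻¹ * D.t) := by rw [← hc1]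
    _ = D.t * D.t * D.c⁻¹ * D.t := by group
    _ = (D.c * D.c * D.c) * D.t * D.t * D.c⁻¹ * D.t := by rw [D.c3, one_mul]
    _ = D.c * D.c * (D.c * (D.t * D.t) * D.c⁻¹) * D.t := by group

/-- the full set of relations (all parameters) -/
structure Full : Prop where
  e5 : ∀ r r', D.x0 r * D.x1 r' = D.y2 (r * r') * D.x1 r' * D.x0 r
  e6 : ∀ r r', Commute (D.x0 r) (D.y2 r')
  e7 : ∀ r r', Commute (D.x1 r) (D.y2 r')
  h1_x0 : ∀ (s : Fˣ) r, D.h1 s * D.x0 r * (D.h1 s)⁻¹ = D.x0 ((s : F)⁻¹ * r)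
  h1_y0 : ∀ (s : Fˣ) r, D.h1 s * D.y0 r * (D.h1 s)⁻¹ = D.y0 ((s : F) * r)
  h1_y2 : ∀ (s : Fˣ) r, D.h1 s * D.y2 r * (D.h1 s)⁻¹ = D.y2 ((s : F) * r)
  h0_x1 : ∀ (s : Fˣ) r, D.h0 s * D.x1 r * (D.h0 s)⁻¹ = D.x1 ((s : F)⁻¹ * r)
  h0_y2 : ∀ (s : Fˣ) r, D.h0 s * D.y2 r * (D.h0 s)⁻¹ = D.y2 ((s : F) * r)
  e8 : ∀ s : Fˣ, D.h0 s * D.h1 s * D.h2 s = 1
  t_x1 : ∀ r, D.t * D.x1 r * D.t⁻¹ = D.y2 r
  t_y2 : ∀ r, D.t * D.y2 r * D.t⁻¹ = D.x1 (-r)

/-- the parametrisation of the parabolic subgroup -/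
def pfun (z : F × F × SpecialLinearGroup (Fin 2) F × Fˣ) : Γ :=
  D.y2 z.1 * D.x1 z.2.1 * D.φ z.2.2.1 * D.h1 z.2.2.2

/-- the set of values of `pfun` -/
def pset : Set Γ := Set.range D.pfun

theorem mem_pset (a b : F) (g : SpecialLinearGroup (Fin 2) F) (s : Fˣ) :
    D.y2 a * D.x1 b * D.φ g * D.h1 s ∈ D.pset := ⟨(a, b, g, s), rfl⟩

variable {D}

theorem y2_mul_mem (a : F) {x : Γ} (hx : x ∈ D.pset) : D.y2 a * x ∈ D.pset := by
  obtain ⟨⟨a', b, g, s⟩, rfl⟩ := hx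
  have : D.y2 a * D.pfun (a', b, g, s) = D.y2 (a + a') * D.x1 b * D.φ g * D.h1 s := by
    unfold pfun; rw [y2_add]; group
  rw [this]; exact D.mem_pset _ _ _ _

theorem Full.x1_mul_mem (hD : D.Full) (b : F) {x : Γ} (hx : x ∈ D.pset) : D.x1 b * x ∈ D.pset := by
  obtain ⟨⟨a, b', g, s⟩, rfl⟩ := hx
  have : D.x1 b * D.pfun (a, b', g, s) = D.y2 a * D.x1 (b + b') * D.φ g * D.h1 s := by
    unfold pfun
    rw [x1_add]
    have := (hD.e7 b a).eq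
    calc D.x1 b * (D.y2 a * D.x1 b' * D.φ g * D.h1 s)
        = (D.x1 b * D.y2 a) * D.x1 b' * D.φ g * D.h1 s := by group
      _ = (D.y2 a * D.x1 b) * D.x1 b' * D.φ g * D.h1 s := by rw [this]
      _ = _ := by group
  rw [this]; exact D.mem_pset _ _ _ _

/-- `φ g` normalises the unipotent radical -/
theorem Full.phi_conj (hD : D.Full) (g : SpecialLinearGroup (Fin 2) F) :
    ∀ a b : F, ∃ a' b' : F, D.φ g * (D.y2 a * D.x1 b) * (D.φ g)⁻¹ = D.y2 a' * D.x1 b' := by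
  induction g using sl2_induction with
  | hx r =>
    intro a b
    refine ⟨a + r * b, b, ?_⟩
    have h5 := hD.e5 r b
    have h6 := (hD.e6 r a).eq
    rw [y2_add]
    change D.x0 r * (D.y2 a * D.x1 b) * (D.x0 r)⁻¹ = _
    calc D.x0 r * (D.y2 a * D.x1 b) * (D.x0 r)⁻¹
        = (D.x0 r * D.y2 a) * D.x1 b * (D.x0 r)⁻¹ := by group
      _ = (D.y2 a * D.x0 r) * D.x1 b * (D.x0 r)⁻¹ := by rw [h6]
      _ = D.y2 a * (D.x0 r * D.x1 b) * (D.x0 r)⁻¹ := by group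
      _ = D.y2 a * (D.y2 (r * b) * D.x1 b * D.x0 r) * (D.x0 r)⁻¹ := by rw [h5]
      _ = _ := by group
  | hw =>
    intro a b
    refine ⟨b, -a, ?_⟩
    change D.t * (D.y2 a * D.x1 b) * D.t⁻¹ = _
    have h7 := (hD.e7 (-a) b).eq
    calc D.t * (D.y2 a * D.x1 b) * D.t⁻¹
        = (D.t * D.y2 a * D.t⁻¹) * (D.t * D.x1 b * D.t⁻¹) := by group
      _ = D.x1 (-a) * D.y2 b := by rw [hD.t_y2, hD.t_x1]
      _ = _ := h7
  | hmul g g' ih ih' =>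
    intro a b
    obtain ⟨a', b', h'⟩ := ih' a b
    obtain ⟨a'', b'', h''⟩ := ih a' b'
    refine ⟨a'', b'', ?_⟩
    rw [map_mul]
    calc D.φ g * D.φ g' * (D.y2 a * D.x1 b) * (D.φ g * D.φ g')⁻¹
        = D.φ g * (D.φ g' * (D.y2 a * D.x1 b) * (D.φ g')⁻¹) * (D.φ g)⁻¹ := by group
      _ = _ := by rw [h', h'']

theorem Full.phi_mul_mem (hD : D.Full) (g : SpecialLinearGroup (Fin 2) F) {x : Γ} (hx : x ∈ D.pset) :
    D.φ g * x ∈ D.pset := by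
  obtain ⟨⟨a, b, g', s⟩, rfl⟩ := hx
  obtain ⟨a', b', h⟩ := hD.phi_conj g a b
  have : D.φ g * D.pfun (a, b, g', s) = D.y2 a' * D.x1 b' * D.φ (g * g') * D.h1 s := by
    unfold pfun
    rw [map_mul, ← h]; group
  rw [this]; exact D.mem_pset _ _ _ _

/-- `h₁(s)` normalises the image of `SL₂` -/
theorem Full.h1_conj (hD : D.Full) (s : Fˣ) (g : SpecialLinearGroup (Fin 2) F) :
    ∃ g' : SpecialLinearGroup (Fin 2) F, D.h1 s * D.φ g * (D.h1 s)⁻¹ = D.φ g' := by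
  induction g using sl2_induction with
  | hx r => exact ⟨xS ((s : F)⁻¹ * r), hD.h1_x0 s r⟩
  | hw =>
    refine ⟨xS ((s : F)⁻¹ * 1) * yS ((s : F) * (-1)) * xS ((s : F)⁻¹ * 1), ?_⟩
    rw [wS_eq, map_mul, map_mul, map_mul, map_mul]
    have h1 := hD.h1_x0 s 1
    have h2 := hD.h1_y0 s (-1)
    unfold x0 at h1
    unfold y0 at h2
    rw [← h1, ← h2]; group
  | hmul g g' ih ih' =>
    obtain ⟨g₁, h₁⟩ := ih
    obtain ⟨g₂, h₂⟩ := ih'
    refine ⟨g₁ * g₂, ?_⟩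
    rw [map_mul, map_mul, ← h₁, ← h₂]; group

theorem Full.h1_mul_mem (hD : D.Full) (s : Fˣ) {x : Γ} (hx : x ∈ D.pset) : D.h1 s * x ∈ D.pset := by
  obtain ⟨⟨a, b, g, s'⟩, rfl⟩ := hx
  obtain ⟨g', h⟩ := hD.h1_conj s g
  have : D.h1 s * D.pfun (a, b, g, s') =
      D.y2 ((s : F) * a) * D.x1 ((s : F) ^ 2 * b) * D.φ g' * D.h1 (s * s') := by
    unfold pfun
    rw [← h, ← hD.h1_y2, ← h1_x1, h1_mul]; group
  rw [this]; exact D.mem_pset _ _ _ _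

/-- the parabolic subgroup -/
def par (D : A2Data F Γ) : Subgroup Γ :=
  Subgroup.closure (Set.range D.y2 ∪ Set.range D.x1 ∪ Set.range D.φ ∪ Set.range D.h1)

theorem y2_mem_par (a : F) : D.y2 a ∈ D.par :=
  Subgroup.subset_closure (Or.inl (Or.inl (Or.inl ⟨a, rfl⟩)))

theorem x1_mem_par (a : F) : D.x1 a ∈ D.par :=
  Subgroup.subset_closure (Or.inl (Or.inl (Or.inr ⟨a, rfl⟩)))

theorem phi_mem_par (g : SpecialLinearGroup (Fin 2) F) : D.φ g ∈ D.par :=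
  Subgroup.subset_closure (Or.inl (Or.inr ⟨g, rfl⟩))

theorem h1_mem_par (s : Fˣ) : D.h1 s ∈ D.par :=
  Subgroup.subset_closure (Or.inr ⟨s, rfl⟩)

theorem x0_mem_par (a : F) : D.x0 a ∈ D.par := phi_mem_par _
theorem y0_mem_par (a : F) : D.y0 a ∈ D.par := phi_mem_par _
theorem t_mem_par : D.t ∈ D.par := phi_mem_par _
theorem h0_mem_par (s : Fˣ) : D.h0 s ∈ D.par := phi_mem_par _

theorem Full.h2_mem_par (hD : D.Full) (s : Fˣ) : D.h2 s ∈ D.par := by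
  have h := hD.e8 s
  have : D.h2 s = (D.h0 s * D.h1 s)⁻¹ := eq_inv_of_mul_eq_one_right h
  rw [this]
  exact inv_mem (mul_mem (h0_mem_par s) (h1_mem_par s))

theorem one_mem_pset : (1 : Γ) ∈ D.pset := by
  have := D.mem_pset 0 0 1 1
  rwa [y2_zero, x1_zero, map_one, h1_one, mul_one, mul_one, mul_one] at this

theorem Full.par_subset (hD : D.Full) : (D.par : Set Γ) ⊆ D.pset := by
  intro p hp
  have key : ∀ x ∈ D.pset, p * x ∈ D.pset := by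
    unfold par at hp
    induction hp using Subgroup.closure_induction'' with
    | mem z hz =>
      intro x hx
      rcases hz with ((⟨a, rfl⟩ | ⟨a, rfl⟩) | ⟨g, rfl⟩) | ⟨s, rfl⟩
      · exact y2_mul_mem a hx
      · exact hD.x1_mul_mem a hx
      · exact hD.phi_mul_mem g hx
      · exact hD.h1_mul_mem s hx
    | inv_mem z hz =>
      intro x hx
      rcases hz with ((⟨a, rfl⟩ | ⟨a, rfl⟩) | ⟨g, rfl⟩) | ⟨s, rfl⟩
      · rw [y2_inv]; exact y2_mul_mem _ hx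
      · rw [x1_inv]; exact hD.x1_mul_mem _ hx
      · rw [← map_inv]; exact hD.phi_mul_mem _ hx
      · rw [h1_inv]; exact hD.h1_mul_mem _ hx
    | one => intro x hx; rwa [one_mul]
    | mul y z _ _ hy hz =>
      intro x hx
      rw [mul_assoc]
      exact hy _ (hz _ hx)
  have := key 1 one_mem_pset
  rwa [mul_one] at this

end A2Data

end Cfsg.Agent.Lib.Helper11.Pres3
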