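import Mathlib
import Cfsg.Agent.Lib.Helper11.Pres3B

set_option autoImplicit false

namespace Cfsg.Agent.Lib.Helper11.Pres3

open Cfsg.Agent.Lib.Helper11.SL2Hom Cfsg.Agent.Lib.Helper11.Pres2 Matrix

namespace A2Data

variable {F : Type*} [Field F] {Γ : Type*} [Group Γ] (D : A2Data F Γ)

/-- coset representatives of the parabolic subgroup -/
def rep : Option (F ⊕ F × F) → Γ
  | none => 1
  | some (Sum.inl a) => D.x1 a * D.c * D.c
  | some (Sum.inr (a, b)) => D.x0 a * D.y2 b * D.c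

/-- the cell of the identity -/
abbrev c0 : Option (F ⊕ F × F) := none
/-- the cells `x₂₃(a) c² P` -/
abbrev c1 (a : F) : Option (F ⊕ F × F) := some (Sum.inl a)
/-- the cells `x₁₂(a) x₁₃(b) c P` -/
abbrev c2 (a b : F) : Option (F ⊕ F × F) := some (Sum.inr (a, b))

theorem rep_c0 : D.rep c0 = 1 := rfl
theorem rep_c1 (a : F) : D.rep (c1 a) = D.x1 a * D.c * D.c := rfl
theorem rep_c2 (a b : F) : D.rep (c2 a b) = D.x0 a * D.y2 b * D.c := rfl

/-- left multiplication by `z` maps the coset of `rep ω` to another of the listed cosets -/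
def Good (z : Γ) (ω : Option (F ⊕ F × F)) : Prop :=
  ∃ ω' : Option (F ⊕ F × F), ∃ p ∈ D.par, z * D.rep ω = D.rep ω' * p

variable {D}

theorem good_of_eq {z : Γ} {ω ω' : Option (F ⊕ F × F)} {p : Γ} (hp : p ∈ D.par)
    (h : z * D.rep ω = D.rep ω' * p) : D.Good z ω := ⟨ω', p, hp, h⟩

theorem good_comp {z z' : Γ} {ω ω' : Option (F ⊕ F × F)} {p' : Γ} (hp' : p' ∈ D.par)
    (h1 : z' * D.rep ω = D.rep ω' * p') (h2 : D.Good z ω') : D.Good (z * z') ω := by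
  obtain ⟨ω'', p'', hp'', h⟩ := h2
  refine ⟨ω'', p'' * p', mul_mem hp'' hp', ?_⟩
  rw [mul_assoc, h1, ← mul_assoc, h, mul_assoc]

theorem good_mul {z z' : Γ} (hz : ∀ ω, D.Good z ω) (hz' : ∀ ω, D.Good z' ω) : ∀ ω, D.Good (z * z') ω := by
  intro ω
  obtain ⟨ω', p', hp', h⟩ := hz' ω
  exact good_comp hp' h (hz ω')

theorem good_one : ∀ ω, D.Good 1 ω := fun ω => ⟨ω, 1, one_mem _, by rw [one_mul, mul_one]⟩

/-! ### the basic identities -/

theorem g1 (p : Γ) : p * D.rep c0 = D.rep c0 * p := by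
  rw [rep_c0, mul_one, one_mul]

theorem Full.g2 (hD : D.Full) (r a : F) :
    D.x0 r * D.rep (c1 a) = D.rep (c1 a) * (D.y0 (r * a) * D.x1 r) := by
  rw [rep_c1]
  have h5 := hD.e5 r a
  have h7 := (hD.e7 a (r * a)).eq
  have hy : D.y2 (r * a) = D.c * D.c * D.y0 (r * a) * D.c := by
    unfold y2; rw [D.c_inv]
  have hx : D.x1 r = D.c * D.x0 r * (D.c * D.c) := by
    unfold x1; rw [D.c_inv]
  calc D.x0 r * (D.x1 a * D.c * D.c) = (D.x0 r * D.x1 a) * D.c * D.c := by group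
    _ = (D.y2 (r * a) * D.x1 a * D.x0 r) * D.c * D.c := by rw [h5]
    _ = (D.x1 a * D.y2 (r * a)) * D.x0 r * D.c * D.c := by rw [h7]
    _ = D.x1 a * (D.c * D.c * D.y0 (r * a) * D.c) * D.x0 r * D.c * D.c := by rw [hy]
    _ = D.x1 a * D.c * D.c * (D.y0 (r * a) * (D.c * D.x0 r * (D.c * D.c))) := by
      simp only [mul_assoc]
    _ = _ := by rw [← hx]

theorem g3 (r a b : F) : D.x0 r * D.rep (c2 a b) = D.rep (c2 (r + a) b) * 1 := by
  rw [rep_c2, rep_c2, x0_add, mul_one]; group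

theorem Full.g5 (hD : D.Full) (a : F) : D.t * D.rep (c1 a) = D.rep (c2 0 a) * D.t⁻¹ := by
  rw [rep_c1, rep_c2, x0_zero, one_mul]
  have h1 : D.t * D.x1 a = D.y2 a * D.t := by
    rw [← hD.t_x1]; group
  have h2 : D.t * (D.c * D.c) = D.c * D.t⁻¹ := by
    rw [← D.c_inv]; exact D.t_cinv
  calc D.t * (D.x1 a * D.c * D.c) = (D.t * D.x1 a) * (D.c * D.c) := by group
    _ = D.y2 a * (D.t * (D.c * D.c)) := by rw [h1]; group
    _ = _ := by rw [h2]; group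

theorem Full.g6 (hD : D.Full) (b : F) :
    D.t * D.rep (c2 0 b) = D.rep (c1 (-b)) * (D.h1 (-1) * D.t) := by
  rw [rep_c1, rep_c2, x0_zero, one_mul]
  have h1 : D.t * D.y2 b = D.x1 (-b) * D.t := by
    rw [← hD.t_y2]; group
  calc D.t * (D.y2 b * D.c) = (D.t * D.y2 b) * D.c := by group
    _ = D.x1 (-b) * (D.t * D.c) := by rw [h1]; group
    _ = _ := by rw [D.t_c]; group

theorem Full.g8 (hD : D.Full) (s : Fˣ) (a : F) :
    D.h0 s * D.rep (c1 a) = D.rep (c1 ((s : F)⁻¹ * a)) * D.h1 s := by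
  rw [rep_c1, rep_c1]
  have e1 : D.h0 s * D.x1 a = D.x1 ((s : F)⁻¹ * a) * D.h0 s := by
    rw [← hD.h0_x1]; group
  have h2 : D.h1 s = D.c * D.h0 s * (D.c * D.c) := by
    unfold h1; rw [D.c_inv]
  calc D.h0 s * (D.x1 a * D.c * D.c) = (D.h0 s * D.x1 a) * D.c * D.c := by group
    _ = D.x1 ((s : F)⁻¹ * a) * (1 * D.h0 s) * D.c * D.c := by rw [e1]; group
    _ = D.x1 ((s : F)⁻¹ * a) * ((D.c * D.c * D.c) * D.h0 s) * D.c * D.c := by rw [D.c3]
    _ = D.x1 ((s : F)⁻¹ * a) * D.c * D.c * (D.c * D.h0 s * (D.c * D.c)) := by simp only [mul_assoc]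
    _ = _ := by rw [← h2]

theorem g9 : D.c * D.rep c0 = D.rep (c2 0 0) * 1 := by
  rw [rep_c0, rep_c2, x0_zero, y2_zero]; group

theorem g10 : D.c * D.rep (c1 0) = D.rep c0 * 1 := by
  rw [rep_c0, rep_c1, x1_zero]
  simp only [one_mul, mul_one]
  exact D.c_mul_c_mul_c

/-- `c⁻¹ t c = c h₁(-1) t` -/
theorem cinv_t_c : D.c⁻¹ * D.t * D.c = D.c * D.h1 (-1) * D.t := by
  calc D.c⁻¹ * D.t * D.c = D.c⁻¹ * (D.t * D.c) := by group
    _ = D.c⁻¹ * (D.c * D.c * D.h1 (-1) * D.t) := by rw [D.t_c]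
    _ = _ := by group

theorem g11 (a : Fˣ) :
    D.c * D.rep (c1 (a : F)) =
      D.rep (c2 0 (a : F)⁻¹) * (D.h1 (-1) * D.t * (D.h2 a⁻¹ * D.y2 (a : F)⁻¹)) := by
  rw [rep_c1, rep_c2, x0_zero, one_mul]
  have h1 : D.c * (D.x1 (a : F) * D.c * D.c) = D.c⁻¹ * D.x0 (a : F) * D.c := by
    unfold x1
    calc D.c * (D.c * D.x0 (a : F) * D.c⁻¹ * D.c * D.c) = (D.c * D.c) * D.x0 (a : F) * D.c := by group
      _ = _ := by rw [← D.c_inv]
  have h2 : D.x0 (a : F) = D.y0 (a : F)⁻¹ * D.t * D.h0 a⁻¹ * D.y0 (a : F)⁻¹ := by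
    unfold x0 y0 t h0
    rw [← map_mul, ← map_mul, ← map_mul, ← xS_eq]
  rw [h1, h2]
  calc D.c⁻¹ * (D.y0 (a : F)⁻¹ * D.t * D.h0 a⁻¹ * D.y0 (a : F)⁻¹) * D.c
      = (D.c⁻¹ * D.y0 (a : F)⁻¹ * D.c) * (D.c⁻¹ * D.t * D.c) * (D.c⁻¹ * D.h0 a⁻¹ * D.c) *
          (D.c⁻¹ * D.y0 (a : F)⁻¹ * D.c) := by group
    _ = D.y2 (a : F)⁻¹ * (D.c * D.h1 (-1) * D.t) * D.h2 a⁻¹ * D.y2 (a : F)⁻¹ := by
      rw [cinv_t_c]; rfl
    _ = _ := by group

theorem g12 (a : F) : D.c * D.rep (c2 a 0) = D.rep (c1 a) * 1 := by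
  rw [rep_c1, rep_c2, y2_zero, mul_one, mul_one]
  unfold x1; group

theorem Full.g14 (hD : D.Full) (a α b : F) :
    D.x1 a * D.rep (c2 α b) = D.rep (c2 α (b - α * a)) * D.x0 a := by
  rw [rep_c2, rep_c2]
  have h5 := hD.e5 α a
  have h6 := (hD.e6 α (-(α * a))).eq
  have h7 := (hD.e7 a b).eq
  -- `x1 a * x0 α = x0 α * y2 (-(α a)) * x1 a`
  have h1 : D.x1 a * D.x0 α = D.x0 α * D.y2 (-(α * a)) * D.x1 a := by
    rw [h6, ← y2_inv]
    calc D.x1 a * D.x0 α = (D.y2 (α * a))⁻¹ * (D.y2 (α * a) * D.x1 a * D.x0 α) := by group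
      _ = (D.y2 (α * a))⁻¹ * (D.x0 α * D.x1 a) := by rw [h5]
      _ = _ := by group
  have h2 : D.x1 a * D.c = D.c * D.x0 a := by
    unfold x1; group
  calc D.x1 a * (D.x0 α * D.y2 b * D.c) = (D.x1 a * D.x0 α) * D.y2 b * D.c := by group
    _ = D.x0 α * D.y2 (-(α * a)) * (D.x1 a * D.y2 b) * D.c := by rw [h1]; group
    _ = D.x0 α * D.y2 (-(α * a)) * (D.y2 b * D.x1 a) * D.c := by rw [h7]
    _ = D.x0 α * (D.y2 (-(α * a)) * D.y2 b) * (D.x1 a * D.c) := by group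
    _ = _ := by rw [h2, ← y2_add, sub_eq_add_neg, add_comm]; group

/-! ### composite steps -/

theorem Full.y0_c1 (hD : D.Full) (a : Fˣ) (b : F) :
    ∃ α b' : F, ∃ p ∈ D.par, D.y0 (a : F) * D.rep (c1 b) = D.rep (c2 α b') * p := by
  have hy : D.y0 (a : F) = D.x0 (a : F)⁻¹ * D.t * D.h0 (-a) * D.x0 (a : F)⁻¹ := by
    unfold x0 y0 t h0
    rw [← map_mul, ← map_mul, ← map_mul, ← yS_eq]
  have e1 := hD.g2 (a : F)⁻¹ b
  have e2 := hD.g8 (-a) b
  have e3 := hD.g5 (((-a : Fˣ) : F)⁻¹ * b)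
  have e4 := g3 (D := D) (a : F)⁻¹ 0 (((-a : Fˣ) : F)⁻¹ * b)
  refine ⟨(a : F)⁻¹ + 0, ((-a : Fˣ) : F)⁻¹ * b,
    1 * D.t⁻¹ * D.h1 (-a) * (D.y0 ((a : F)⁻¹ * b) * D.x1 (a : F)⁻¹), ?_, ?_⟩
  · exact mul_mem (mul_mem (mul_mem (one_mem _) (inv_mem t_mem_par)) (h1_mem_par _))
      (mul_mem (y0_mem_par _) (x1_mem_par _))
  · rw [hy]
    calc D.x0 (a : F)⁻¹ * D.t * D.h0 (-a) * D.x0 (a : F)⁻¹ * D.rep (c1 b)
        = D.x0 (a : F)⁻¹ * D.t * D.h0 (-a) * (D.x0 (a : F)⁻¹ * D.rep (c1 b)) := by group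
      _ = D.x0 (a : F)⁻¹ * D.t * (D.h0 (-a) * D.rep (c1 b)) *
            (D.y0 ((a : F)⁻¹ * b) * D.x1 (a : F)⁻¹) := by rw [e1]; group
      _ = D.x0 (a : F)⁻¹ * (D.t * D.rep (c1 (((-a : Fˣ) : F)⁻¹ * b))) * D.h1 (-a) *
            (D.y0 ((a : F)⁻¹ * b) * D.x1 (a : F)⁻¹) := by rw [e2]; group
      _ = (D.x0 (a : F)⁻¹ * D.rep (c2 0 (((-a : Fˣ) : F)⁻¹ * b))) * D.t⁻¹ * D.h1 (-a) *
            (D.y0 ((a : F)⁻¹ * b) * D.x1 (a : F)⁻¹) := by rw [e3]; group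
      _ = _ := by rw [e4]; group

theorem Full.good_x0 (hD : D.Full) (r : F) : ∀ ω, D.Good (D.x0 r) ω
  | none => good_of_eq (x0_mem_par r) (g1 _)
  | some (Sum.inl a) => good_of_eq (mul_mem (y0_mem_par _) (x1_mem_par _)) (hD.g2 r a)
  | some (Sum.inr (a, b)) => good_of_eq (one_mem _) (g3 r a b)

theorem Full.good_t (hD : D.Full) : ∀ ω, D.Good D.t ω
  | none => good_of_eq t_mem_par (g1 _)
  | some (Sum.inl a) => good_of_eq (inv_mem t_mem_par) (hD.g5 a)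
  | some (Sum.inr (a, b)) => by
    by_cases ha : a = 0
    · subst ha
      exact good_of_eq (mul_mem (h1_mem_par _) t_mem_par) (hD.g6 b)
    · obtain ⟨α, b', p, hp, h⟩ := hD.y0_c1 (Units.mk0 (-a) (neg_ne_zero.mpr ha)) (-b)
      rw [Units.val_mk0] at h
      refine ⟨c2 α b', p * (D.h1 (-1) * D.t), mul_mem hp (mul_mem (h1_mem_par _) t_mem_par), ?_⟩
      have e : D.t * D.rep (c2 a b) = D.y0 (-a) * (D.t * D.rep (c2 0 b)) := by
        rw [rep_c2, rep_c2, x0_zero, one_mul, ← t_x0]; group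
      show D.t * D.rep (c2 a b) = D.rep (c2 α b') * (p * (D.h1 (-1) * D.t))
      rw [e, hD.g6, ← mul_assoc, h, mul_assoc]

theorem Full.good_c (hD : D.Full) : ∀ ω, D.Good D.c ω
  | none => good_of_eq (one_mem _) g9
  | some (Sum.inl a) => by
    by_cases ha : a = 0
    · subst ha
      exact good_of_eq (one_mem _) g10
    · have := g11 (D := D) (Units.mk0 a ha)
      rw [Units.val_mk0] at this
      exact good_of_eq (mul_mem (mul_mem (h1_mem_par _) t_mem_par)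
        (mul_mem (hD.h2_mem_par _) (y2_mem_par _))) this
  | some (Sum.inr (a, b)) => by
    by_cases hb : b = 0
    · subst hb
      exact good_of_eq (one_mem _) (g12 a)
    · obtain ⟨α, b', p, hp, h⟩ := hD.y0_c1 (Units.mk0 b hb) 0
      rw [Units.val_mk0] at h
      refine ⟨c2 α (b' - α * a), D.x0 a * p, mul_mem (x0_mem_par _) hp, ?_⟩
      have e : D.c * D.rep (c2 a b) = D.x1 a * (D.y0 b * D.rep (c1 0)) := by
        rw [rep_c2, rep_c1, x1_zero, one_mul]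
        unfold x1 y2; group
      show D.c * D.rep (c2 a b) = D.rep (c2 α (b' - α * a)) * (D.x0 a * p)
      rw [e, h, ← mul_assoc, hD.g14, mul_assoc]

theorem Full.good_phi (hD : D.Full) (g : SpecialLinearGroup (Fin 2) F) : ∀ ω, D.Good (D.φ g) ω := by
  induction g using sl2_induction with
  | hx r => exact hD.good_x0 r
  | hw => exact hD.good_t
  | hmul g g' ih ih' =>
    rw [map_mul]
    exact good_mul ih ih'

theorem Full.good_all (hD : D.Full) (hgen : Subgroup.closure (Set.range D.φ ∪ {D.c}) = ⊤) (z : Γ) :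
    ∀ ω, D.Good z ω := by
  have hz : z ∈ Subgroup.closure (Set.range D.φ ∪ {D.c}) := by rw [hgen]; trivial
  induction hz using Subgroup.closure_induction'' with
  | mem x hx =>
    rcases hx with ⟨g, rfl⟩ | hx
    · exact hD.good_phi g
    · rw [Set.mem_singleton_iff] at hx
      subst hx
      exact hD.good_c
  | inv_mem x hx =>
    rcases hx with ⟨g, rfl⟩ | hx
    · rw [← map_inv]
      exact hD.good_phi _
    · rw [Set.mem_singleton_iff] at hx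
      subst hx
      rw [D.c_inv]
      exact good_mul hD.good_c hD.good_c
  | one => exact good_one
  | mul x y _ _ hx hy => exact good_mul hx hy

theorem Full.surj (hD : D.Full) (hgen : Subgroup.closure (Set.range D.φ ∪ {D.c}) = ⊤) :
    Function.Surjective (fun x : Option (F ⊕ F × F) × (F × F × SpecialLinearGroup (Fin 2) F × Fˣ) =>
      D.rep x.1 * D.pfun x.2) := by
  intro z
  obtain ⟨ω, p, hp, h⟩ := hD.good_all hgen z c0
  rw [rep_c0, mul_one] at h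
  obtain ⟨y, hy⟩ := hD.par_subset hp
  exact ⟨(ω, y), by rw [h, ← hy]⟩

theorem Full.finite_and_card [Finite F] (hD : D.Full)
    (hgen : Subgroup.closure (Set.range D.φ ∪ {D.c}) = ⊤) :
    Finite Γ ∧ Nat.card Γ ≤
      Nat.card (Option (F ⊕ F × F)) * Nat.card (F × F × SpecialLinearGroup (Fin 2) F × Fˣ) := by
  classical
  have : Fintype F := Fintype.ofFinite F
  have : Finite (SpecialLinearGroup (Fin 2) F) := Subtype.finite
  have hs := hD.surj hgen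
  refine ⟨Finite.of_surjective _ hs, ?_⟩
  rw [← Nat.card_prod]
  exact Nat.card_le_card_of_surjective _ hs

end A2Data

end Cfsg.Agent.Lib.Helper11.Pres3
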