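import Mathlib
import Cfsg.Agent.Lib.Helper11.Pres3B

set_option autoImplicit false

namespace Cfsg.Agent.Lib.Helper11.Pres3

open Cfsg.Agent.Lib.Helper11.SL2Hom Cfsg.Agent.Lib.Helper11.Pres2 Matrix

namespace A2Data

variable {F : Type*} [Field F] {Γ : Type*} [Group Γ] (D : A2Data F Γ)

/-- the data conjugated by `c` -/
def rot : A2Data F Γ where
  φ :=
    { toFun := fun g => D.c * D.φ g * D.c⁻¹
      map_one' := by rw [map_one]; group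
      map_mul' := fun a b => by rw [map_mul]; group }
  c := D.c
  c3 := D.c3
  nrel := by
    show D.c * D.φ wS * D.c⁻¹ * D.c⁻¹ * (D.c * D.φ wS * D.c⁻¹ * D.c⁻¹) = 1
    have := D.nrel
    calc D.c * D.φ wS * D.c⁻¹ * D.c⁻¹ * (D.c * D.φ wS * D.c⁻¹ * D.c⁻¹)
        = D.c * (D.φ wS * D.c⁻¹ * (D.φ wS * D.c⁻¹)) * D.c⁻¹ := by group
      _ = 1 := by rw [this]; group

theorem rot_c : D.rot.c = D.c := rfl
theorem rot_phi (g : SpecialLinearGroup (Fin 2) F) : D.rot.φ g = D.c * D.φ g * D.c⁻¹ := rfl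
theorem rot_x0 (r : F) : D.rot.x0 r = D.x1 r := rfl
theorem rot_y0 (r : F) : D.rot.y0 r = D.c * D.y0 r * D.c⁻¹ := rfl
theorem rot_t : D.rot.t = D.c * D.t * D.c⁻¹ := rfl
theorem rot_h0 (s : Fˣ) : D.rot.h0 s = D.h1 s := rfl
theorem rot_x1 (r : F) : D.rot.x1 r = D.c * D.x1 r * D.c⁻¹ := rfl
theorem rot_h1 (s : Fˣ) : D.rot.h1 s = D.c * D.h1 s * D.c⁻¹ := rfl
theorem rot_y2 (r : F) : D.rot.y2 r = D.y0 r := by
  show D.c⁻¹ * (D.c * D.y0 r * D.c⁻¹) * D.c = D.y0 r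
  group
theorem rot_h2 (s : Fˣ) : D.rot.h2 s = D.h0 s := by
  show D.c⁻¹ * (D.c * D.h0 s * D.c⁻¹) * D.c = D.h0 s
  group

theorem c_conj_h1 (s : Fˣ) : D.c * D.h1 s * D.c⁻¹ = D.h2 s := by
  unfold h1 h2
  have := D.c_inv
  calc D.c * (D.c * D.h0 s * D.c⁻¹) * D.c⁻¹ = (D.c * D.c) * D.h0 s * (D.c * D.c)⁻¹ := by group
    _ = _ := by rw [← this, inv_inv]

theorem c_conj_h2 (s : Fˣ) : D.c * D.h2 s * D.c⁻¹ = D.h0 s := by
  unfold h2; group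

theorem rr_h0 (s : Fˣ) : D.rot.rot.h0 s = D.h2 s := by
  rw [rot_h0, rot_h1, c_conj_h1]

theorem rr_h1 (s : Fˣ) : D.rot.rot.h1 s = D.h0 s := by
  rw [rot_h1, rot_h1, rot_c, c_conj_h1, c_conj_h2]

theorem rr_x1 (r : F) : D.rot.rot.x1 r = D.x0 r := by
  rw [rot_x1, rot_x1]
  unfold x1
  have h3 : D.c * D.c * D.c = 1 := D.c3
  calc D.c * (D.c * (D.c * D.x0 r * D.c⁻¹) * D.c⁻¹) * D.c⁻¹
      = (D.c * D.c * D.c) * D.x0 r * (D.c * D.c * D.c)⁻¹ := by group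
    _ = _ := by rw [h3]; group

/-- `h₀`, `h₁`, `h₂` as homomorphisms -/
def h0Hom : Fˣ →* Γ := D.φ.comp hUHom

theorem h0Hom_apply (s : Fˣ) : D.h0Hom s = D.h0 s := rfl

theorem h0_pow (s : Fˣ) (n : ℕ) : D.h0 (s ^ n) = D.h0 s ^ n := by
  rw [← h0Hom_apply, ← h0Hom_apply, map_pow]

theorem h1_pow (s : Fˣ) (n : ℕ) : D.h1 (s ^ n) = D.h1 s ^ n := by
  rw [← rot_h0, ← rot_h0, h0_pow]

/-- torus relations for a generator `ζ` of `Fˣ` -/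
structure Torus (ζ : Fˣ) : Prop where
  hgen : ∀ s : Fˣ, ∃ n : ℕ, s = ζ ^ n
  e4 : Commute (D.h0 ζ) (D.h1 ζ)
  f1 : D.h0 ζ * D.x1 1 * (D.h0 ζ)⁻¹ = D.x1 ((ζ : F)⁻¹)
  f2 : D.h1 ζ * D.x0 1 * (D.h1 ζ)⁻¹ = D.x0 ((ζ : F)⁻¹)

variable {D}

theorem Torus.rot {ζ : Fˣ} (hT : D.Torus ζ) : D.rot.Torus ζ where
  hgen := hT.hgen
  e4 := by
    rw [rot_h0, rot_h1]
    have := hT.e4.eq
    unfold Commute SemiconjBy
    show D.c * D.h0 ζ * D.c⁻¹ * (D.c * D.h1 ζ * D.c⁻¹) = D.c * D.h1 ζ * D.c⁻¹ * (D.c * D.h0 ζ * D.c⁻¹)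
    calc D.c * D.h0 ζ * D.c⁻¹ * (D.c * D.h1 ζ * D.c⁻¹) = D.c * (D.h0 ζ * D.h1 ζ) * D.c⁻¹ := by group
      _ = D.c * (D.h1 ζ * D.h0 ζ) * D.c⁻¹ := by rw [this]
      _ = _ := by group
  f1 := by
    rw [rot_h0, rot_x1, rot_x1]
    have := hT.f1
    show D.c * D.h0 ζ * D.c⁻¹ * (D.c * D.x1 1 * D.c⁻¹) * (D.c * D.h0 ζ * D.c⁻¹)⁻¹ = _
    rw [← this]; group
  f2 := by
    rw [rot_h1, rot_x0, rot_x0]
    have := hT.f2
    show D.c * D.h1 ζ * D.c⁻¹ * (D.c * D.x0 1 * D.c⁻¹) * (D.c * D.h1 ζ * D.c⁻¹)⁻¹ = D.c * D.x0 _ * D.c⁻¹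
    rw [← this]; group

theorem Torus.comm01 {ζ : Fˣ} (hT : D.Torus ζ) (s s' : Fˣ) : Commute (D.h0 s) (D.h1 s') := by
  obtain ⟨m, rfl⟩ := hT.hgen s
  obtain ⟨n, rfl⟩ := hT.hgen s'
  rw [h0_pow, h1_pow]
  exact hT.e4.pow_pow m n

theorem Torus.comm12 {ζ : Fˣ} (hT : D.Torus ζ) (s s' : Fˣ) : Commute (D.h1 s) (D.h2 s') := by
  have := hT.rot.comm01 s s'
  rwa [rot_h0, rot_h1, c_conj_h1] at this

theorem Torus.comm20 {ζ : Fˣ} (hT : D.Torus ζ) (s s' : Fˣ) : Commute (D.h2 s) (D.h0 s') := by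
  have := hT.rot.rot.comm01 s s'
  rwa [rr_h0, rr_h1] at this

end A2Data

/-- an additive subgroup of a finite field containing all squares is everything -/
theorem addSubgroup_eq_top_of_sq {F : Type*} [Field F] [Finite F] (A : AddSubgroup F)
    (h : ∀ y : F, y ^ 2 ∈ A) (x : F) : x ∈ A := by
  by_cases h2 : (2 : F) = 0
  · -- characteristic two: squaring is surjective
    have : CharP F 2 := by
      refine CharTwo.of_one_ne_zero_of_two_eq_zero one_ne_zero h2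
    have hs : Function.Surjective (frobenius F 2) := by
      apply Finite.surjective_of_injective
      exact frobenius_inj F 2
    obtain ⟨y, hy⟩ := hs x
    rw [frobenius_def] at hy
    rw [← hy]; exact h y
  · have : x = ((x + 1) / 2) ^ 2 - ((x - 1) / 2) ^ 2 := by
      field_simp; ring
    rw [this]
    exact A.sub_mem (h _) (h _)


section Spread

variable {F : Type*} [Field F] {Γ : Type*} [Group Γ]

/-- if `g x(r) g⁻¹ = x(l r)` for all `r` then `gⁿ` acts through `lⁿ` -/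
theorem conj_pow_act (x : F → Γ) (g : Γ) (l : F) (h : ∀ r, g * x r * g⁻¹ = x (l * r)) (n : ℕ) (r : F) :
    g ^ n * x r * (g ^ n)⁻¹ = x (l ^ n * r) := by
  induction n generalizing r with
  | zero => simp
  | succ n ih =>
    calc g ^ (n + 1) * x r * (g ^ (n + 1))⁻¹ = g ^ n * (g * x r * g⁻¹) * (g ^ n)⁻¹ := by
          rw [pow_succ]; group
      _ = x (l ^ (n + 1) * r) := by rw [h, ih]; congr 1; ring

/-- spreading the action of `g` on `x 1` to all of the root group, using a commuting element `k`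
acting through `m`, when every square is a power of `m` -/
theorem spread [Finite F] (x : F → Γ) (hx : ∀ a b, x (a + b) = x a * x b) (g k : Γ) (hgk : Commute g k)
    (l m : F) (hk : ∀ r, k * x r * k⁻¹ = x (m * r)) (h1 : g * x 1 * g⁻¹ = x l)
    (hm : ∀ y : F, y ≠ 0 → ∃ n : ℕ, y ^ 2 = m ^ n) (r : F) : g * x r * g⁻¹ = x (l * r) := by
  have hx0 : x 0 = 1 := add_hom_zero x hx
  have hxneg : ∀ a, x (-a) = (x a)⁻¹ := add_hom_neg x hx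
  let A : AddSubgroup F :=
    { carrier := {r | g * x r * g⁻¹ = x (l * r)}
      zero_mem' := by
        show g * x 0 * g⁻¹ = x (l * 0)
        rw [mul_zero, hx0]; group
      add_mem' := by
        intro a b ha hb
        show g * x (a + b) * g⁻¹ = x (l * (a + b))
        rw [mul_add, hx, hx, ← (show g * x a * g⁻¹ = x (l * a) from ha),
          ← (show g * x b * g⁻¹ = x (l * b) from hb)]
        group
      neg_mem' := by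
        intro a ha
        show g * x (-a) * g⁻¹ = x (l * -a)
        rw [mul_neg, hxneg, hxneg, ← (show g * x a * g⁻¹ = x (l * a) from ha)]
        group }
  have hstep : ∀ r, r ∈ A → m * r ∈ A := by
    intro r hr
    show g * x (m * r) * g⁻¹ = x (l * (m * r))
    have hr' : g * x r * g⁻¹ = x (l * r) := hr
    have e : l * (m * r) = m * (l * r) := by ring
    rw [e, ← hk, ← hk, ← hr']
    have := hgk.eq
    calc g * (k * x r * k⁻¹) * g⁻¹ = (g * k) * x r * (g * k)⁻¹ := by group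
      _ = (k * g) * x r * (k * g)⁻¹ := by rw [this]
      _ = _ := by group
  have hpow : ∀ n : ℕ, m ^ n ∈ A := by
    intro n
    induction n with
    | zero =>
      show g * x (m ^ 0) * g⁻¹ = x (l * m ^ 0)
      rw [pow_zero, mul_one]; exact h1
    | succ n ih => rw [pow_succ']; exact hstep _ ih
  have hsq : ∀ y : F, y ^ 2 ∈ A := by
    intro y
    by_cases hy : y = 0
    · rw [hy]; simp
    · obtain ⟨n, hn⟩ := hm y hy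
      rw [hn]; exact hpow n
  exact addSubgroup_eq_top_of_sq A hsq r

end Spread

namespace A2Data

variable {F : Type*} [Field F] {Γ : Type*} [Group Γ] {D : A2Data F Γ}

theorem Torus.sq_pow {ζ : Fˣ} (hT : D.Torus ζ) (y : F) (hy : y ≠ 0) : ∃ n : ℕ, y ^ 2 = ((ζ : F) ^ 2) ^ n := by
  obtain ⟨n, hn⟩ := hT.hgen (Units.mk0 y hy)
  refine ⟨n, ?_⟩
  have : y = (ζ : F) ^ n := by
    have := congrArg Units.val hn
    rwa [Units.val_mk0, Units.val_pow_eq_pow_val] at this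
  rw [this]; ring

theorem Torus.h0_x1 [Finite F] {ζ : Fˣ} (hT : D.Torus ζ) (s : Fˣ) (r : F) :
    D.h0 s * D.x1 r * (D.h0 s)⁻¹ = D.x1 ((s : F)⁻¹ * r) := by
  have hz : ∀ r, D.h0 ζ * D.x1 r * (D.h0 ζ)⁻¹ = D.x1 ((ζ : F)⁻¹ * r) :=
    spread D.x1 D.x1_add (D.h0 ζ) (D.h1 ζ) hT.e4 _ ((ζ : F) ^ 2) (fun r => D.h1_x1 ζ r) hT.f1 hT.sq_pow
  obtain ⟨n, rfl⟩ := hT.hgen s
  rw [h0_pow, conj_pow_act D.x1 _ _ hz, Units.val_pow_eq_pow_val, inv_pow]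

theorem Torus.h1_x0 [Finite F] {ζ : Fˣ} (hT : D.Torus ζ) (s : Fˣ) (r : F) :
    D.h1 s * D.x0 r * (D.h1 s)⁻¹ = D.x0 ((s : F)⁻¹ * r) := by
  have hz : ∀ r, D.h1 ζ * D.x0 r * (D.h1 ζ)⁻¹ = D.x0 ((ζ : F)⁻¹ * r) :=
    spread D.x0 D.x0_add (D.h1 ζ) (D.h0 ζ) hT.e4.symm _ ((ζ : F) ^ 2) (fun r => D.h0_x0 ζ r) hT.f2
      hT.sq_pow
  obtain ⟨n, rfl⟩ := hT.hgen s
  rw [h1_pow, conj_pow_act D.x0 _ _ hz, Units.val_pow_eq_pow_val, inv_pow]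

theorem Torus.h2_x0 [Finite F] {ζ : Fˣ} (hT : D.Torus ζ) (s : Fˣ) (r : F) :
    D.h2 s * D.x0 r * (D.h2 s)⁻¹ = D.x0 ((s : F)⁻¹ * r) := by
  have := hT.rot.rot.h0_x1 s r
  rwa [rr_h0, rr_x1, rr_x1] at this

theorem tinv_h0 (s : Fˣ) : D.t⁻¹ * D.h0 s * D.t = D.h0 s⁻¹ := by
  unfold t h0
  rw [← map_inv, ← map_mul, ← map_mul]
  congr 1
  have := wS_conj_hU (K := F) s⁻¹
  rw [inv_inv] at this
  rw [← this]; group

theorem t_h2 (s : Fˣ) : D.t * D.h2 s * D.t⁻¹ = (D.h1 s)⁻¹ := by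
  have e1 := D.t_cinv
  have e2 := tinv_h0 (D := D) s
  unfold h2 h1
  calc D.t * (D.c⁻¹ * D.h0 s * D.c) * D.t⁻¹ = (D.t * D.c⁻¹) * D.h0 s * (D.t * D.c⁻¹)⁻¹ := by group
    _ = (D.c * D.t⁻¹) * D.h0 s * (D.c * D.t⁻¹)⁻¹ := by rw [e1]
    _ = D.c * (D.t⁻¹ * D.h0 s * D.t) * D.c⁻¹ := by group
    _ = _ := by rw [e2, ← h0_inv]; group

theorem tinv_h1 (s : Fˣ) : D.t⁻¹ * D.h1 s * D.t = (D.h2 s)⁻¹ := by
  have := t_h2 (D := D) s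
  calc D.t⁻¹ * D.h1 s * D.t = (D.t⁻¹ * (D.h1 s)⁻¹ * D.t)⁻¹ := by group
    _ = (D.t⁻¹ * (D.t * D.h2 s * D.t⁻¹) * D.t)⁻¹ := by rw [this]
    _ = _ := by group

theorem Torus.t_h1 {ζ : Fˣ} (hT : D.Torus ζ) (s : Fˣ) : D.t * D.h1 s * D.t⁻¹ = (D.h2 s)⁻¹ := by
  have h1 := tinv_h1 (D := D) s
  have h2 := D.t_sq
  have h3 := (hT.comm20 s (-1)).eq
  calc D.t * D.h1 s * D.t⁻¹ = (D.t * D.t) * (D.t⁻¹ * D.h1 s * D.t) * (D.t * D.t)⁻¹ := by group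
    _ = D.h0 (-1) * (D.h2 s)⁻¹ * (D.h0 (-1))⁻¹ := by rw [h1, h2]
    _ = (D.h0 (-1) * D.h2 s * (D.h0 (-1))⁻¹)⁻¹ := by group
    _ = (D.h2 s * D.h0 (-1) * (D.h0 (-1))⁻¹)⁻¹ := by rw [h3]
    _ = _ := by group

theorem Torus.tinv_h2 {ζ : Fˣ} (hT : D.Torus ζ) (s : Fˣ) : D.t⁻¹ * D.h2 s * D.t = (D.h1 s)⁻¹ := by
  have := hT.t_h1 s
  calc D.t⁻¹ * D.h2 s * D.t = (D.t⁻¹ * (D.h2 s)⁻¹ * D.t)⁻¹ := by group
    _ = (D.t⁻¹ * (D.t * D.h1 s * D.t⁻¹) * D.t)⁻¹ := by rw [this]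
    _ = _ := by group

theorem y0_eq_t (r : F) : D.y0 r = D.t * D.x0 (-r) * D.t⁻¹ := by
  rw [t_x0, neg_neg]

theorem Torus.h1_y0 [Finite F] {ζ : Fˣ} (hT : D.Torus ζ) (s : Fˣ) (r : F) :
    D.h1 s * D.y0 r * (D.h1 s)⁻¹ = D.y0 ((s : F) * r) := by
  have e1 := tinv_h1 (D := D) s
  have e2 := hT.h2_x0 s⁻¹ (-r)
  rw [y0_eq_t, y0_eq_t]
  calc D.h1 s * (D.t * D.x0 (-r) * D.t⁻¹) * (D.h1 s)⁻¹
      = D.t * ((D.t⁻¹ * D.h1 s * D.t) * D.x0 (-r) * (D.t⁻¹ * D.h1 s * D.t)⁻¹) * D.t⁻¹ := by group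
    _ = D.t * ((D.h2 s)⁻¹ * D.x0 (-r) * ((D.h2 s)⁻¹)⁻¹) * D.t⁻¹ := by rw [e1]
    _ = D.t * (D.h2 s⁻¹ * D.x0 (-r) * (D.h2 s⁻¹)⁻¹) * D.t⁻¹ := by rw [h2_inv]
    _ = _ := by
      rw [e2]
      congr 3
      simp

theorem Torus.h2_y0 [Finite F] {ζ : Fˣ} (hT : D.Torus ζ) (s : Fˣ) (r : F) :
    D.h2 s * D.y0 r * (D.h2 s)⁻¹ = D.y0 ((s : F) * r) := by
  have e1 := hT.tinv_h2 s
  have e2 := hT.h1_x0 s⁻¹ (-r)
  rw [y0_eq_t, y0_eq_t]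
  calc D.h2 s * (D.t * D.x0 (-r) * D.t⁻¹) * (D.h2 s)⁻¹
      = D.t * ((D.t⁻¹ * D.h2 s * D.t) * D.x0 (-r) * (D.t⁻¹ * D.h2 s * D.t)⁻¹) * D.t⁻¹ := by group
    _ = D.t * ((D.h1 s)⁻¹ * D.x0 (-r) * ((D.h1 s)⁻¹)⁻¹) * D.t⁻¹ := by rw [e1]
    _ = D.t * (D.h1 s⁻¹ * D.x0 (-r) * (D.h1 s⁻¹)⁻¹) * D.t⁻¹ := by rw [h1_inv]
    _ = _ := by
      rw [e2]
      congr 3
      simp

theorem Torus.h1_y2 [Finite F] {ζ : Fˣ} (hT : D.Torus ζ) (s : Fˣ) (r : F) :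
    D.h1 s * D.y2 r * (D.h1 s)⁻¹ = D.y2 ((s : F) * r) := by
  have h := hT.h2_y0 s r
  have e : D.h1 s = D.c⁻¹ * D.h2 s * D.c := by
    rw [← c_conj_h1]; group
  rw [e]
  unfold y2
  rw [← h]; group

theorem Torus.h0_y2 [Finite F] {ζ : Fˣ} (hT : D.Torus ζ) (s : Fˣ) (r : F) :
    D.h0 s * D.y2 r * (D.h0 s)⁻¹ = D.y2 ((s : F) * r) := by
  have h := hT.h1_y0 s r
  unfold y2
  rw [← h]
  unfold h1; group

theorem t_y2 (r : F) : D.t * D.y2 r * D.t⁻¹ = D.x1 (-r) := by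
  have h1 := D.t_cinv
  have h2 : D.t⁻¹ * D.y0 r * D.t = D.x0 (-r) := by
    unfold t x0 y0
    rw [← map_inv, ← map_mul, ← map_mul, wS_inv_conj_yS]
  unfold y2 x1
  calc D.t * (D.c⁻¹ * D.y0 r * D.c) * D.t⁻¹ = (D.t * D.c⁻¹) * D.y0 r * (D.t * D.c⁻¹)⁻¹ := by group
    _ = (D.c * D.t⁻¹) * D.y0 r * (D.c * D.t⁻¹)⁻¹ := by rw [h1]
    _ = D.c * (D.t⁻¹ * D.y0 r * D.t) * D.c⁻¹ := by group
    _ = _ := by rw [h2]

theorem Torus.t_x1 [Finite F] {ζ : Fˣ} (hT : D.Torus ζ) (r : F) : D.t * D.x1 r * D.t⁻¹ = D.y2 r := by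
  have h1 := t_y2 (D := D) (-r)
  rw [neg_neg] at h1
  have h2 := D.t_sq
  have h3 := hT.h0_y2 (-1) (-r)
  have e : ((-1 : Fˣ) : F) * -r = r := by simp
  rw [e] at h3
  calc D.t * D.x1 r * D.t⁻¹ = D.t * (D.t * D.y2 (-r) * D.t⁻¹) * D.t⁻¹ := by rw [h1]
    _ = (D.t * D.t) * D.y2 (-r) * (D.t * D.t)⁻¹ := by group
    _ = _ := by rw [h2, h3]

theorem Torus.h1_t [Finite F] {ζ : Fˣ} (hT : D.Torus ζ) (s : Fˣ) : D.h1 s * D.t * (D.h1 s)⁻¹ = D.h0 s⁻¹ * D.t := by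
  have h1 := hT.h1_x0 s 1
  have h2 := hT.h1_y0 s (-1)
  have e : D.t = D.x0 1 * D.y0 (-1) * D.x0 1 := by
    unfold t x0 y0
    rw [← map_mul, ← map_mul, ← wS_eq]
  have e2 : D.h0 s⁻¹ * D.t = D.x0 ((s : F)⁻¹ * 1) * D.y0 ((s : F) * -1) * D.x0 ((s : F)⁻¹ * 1) := by
    unfold t x0 y0 h0
    rw [← map_mul, ← map_mul, ← map_mul, hU_mul_wS]
    congr 3 <;> simp
  rw [e2, ← h1, ← h2]
  conv_lhs => rw [e]
  group

theorem Torus.e8 [Finite F] {ζ : Fˣ} (hT : D.Torus ζ) (s : Fˣ) : D.h0 s * D.h1 s * D.h2 s = 1 := by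
  have h1 := tinv_h1 (D := D) s
  have h2 := hT.h1_t s
  have h3 := tinv_h0 (D := D) s
  -- `h2 s = (t⁻¹ h1 s t)⁻¹ = t⁻¹ (h1 s)⁻¹ t = (h1 s)⁻¹ (h1 s t⁻¹ (h1 s)⁻¹) t`
  have e : D.h2 s = (D.h1 s)⁻¹ * (D.h0 s)⁻¹ := by
    calc D.h2 s = (D.t⁻¹ * D.h1 s * D.t)⁻¹ := by rw [h1, inv_inv]
      _ = (D.h1 s)⁻¹ * (D.h1 s * D.t * (D.h1 s)⁻¹)⁻¹ * D.t := by group
      _ = (D.h1 s)⁻¹ * (D.h0 s⁻¹ * D.t)⁻¹ * D.t := by rw [h2]
      _ = (D.h1 s)⁻¹ * (D.t⁻¹ * D.h0 s * D.t) := by rw [← h0_inv]; group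
      _ = _ := by rw [h3, h0_inv]
  rw [e]; group

end A2Data

end Cfsg.Agent.Lib.Helper11.Pres3
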