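import Mathlib
import Cfsg.Agent.Lib.Helper11.Pres3D
import Cfsg.Agent.Lib.Helper11.Pres2H

set_option autoImplicit false

namespace Cfsg.Agent.Lib.Helper11.Pres3

open Cfsg.Agent.Lib.Helper11.SL2Hom Cfsg.Agent.Lib.Helper11.Pres2 Matrix

/-- in a finite field of characteristic `≠ 2`, an additive subgroup containing `r₀ κ³` for all units `κ`
is everything -/
theorem cube_span {F : Type*} [Field F] [Finite F] (A : AddSubgroup F) (r0 : F) (hr0 : r0 ≠ 0)
    (h : ∀ κ : Fˣ, r0 * (κ : F) ^ 3 ∈ A) (h2 : (2 : F) ≠ 0) (x : F) : x ∈ A := by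
  have h' : ∀ z : F, r0 * z ^ 3 ∈ A := by
    intro z
    by_cases hz : z = 0
    · rw [hz]; simp
    · exact h (Units.mk0 z hz)
  by_cases h3 : (3 : F) = 0
  · -- characteristic three: cubing is surjective
    have : CharP F 3 := by
      obtain ⟨p, hp⟩ := CharP.exists F
      have hp3 : ((3 : ℕ) : F) = 0 := by exact_mod_cast h3
      have hdvd := (CharP.cast_eq_zero_iff F p 3).mp hp3
      have hpr : p.Prime := by
        rcases CharP.char_is_prime_or_zero F p with h | h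
        · exact h
        · exfalso
          subst h
          have : CharZero F := CharP.charP_to_charZero F
          exact absurd h3 (by norm_num)
      have : p = 3 := ((Nat.prime_dvd_prime_iff_eq hpr (by norm_num)).mp hdvd)
      subst this; exact hp
    have : Fact (Nat.Prime 3) := ⟨by norm_num⟩
    have hs : Function.Surjective (frobenius F 3) :=
      Finite.surjective_of_injective (frobenius_inj F 3)
    obtain ⟨y, hy⟩ := hs (x / r0)
    rw [frobenius_def] at hy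
    have := h' y
    rwa [hy, mul_div_cancel₀ _ hr0] at this
  · have h6 : (6 : F) ≠ 0 := by
      have : (6 : F) = 2 * 3 := by norm_num
      rw [this]; exact mul_ne_zero h2 h3
    have hx6 : 6 * x ∈ A := by
      have e : 6 * x = r0 * (x / r0 + 1) ^ 3 + r0 * (x / r0 - 1) ^ 3 - r0 * (x / r0) ^ 3 -
          r0 * (x / r0) ^ 3 := by
        field_simp; ring
      rw [e]
      exact A.sub_mem (A.sub_mem (A.add_mem (h' _) (h' _)) (h' _)) (h' _)
    -- divide by six
    obtain ⟨p, hp⟩ := CharP.exists F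
    have hpr : p.Prime := by
      rcases CharP.char_is_prime_or_zero F p with h | h
      · exact h
      · exfalso
        subst h
        have : CharZero F := CharP.charP_to_charZero F
        have : Infinite F := CharZero.infinite F
        exact not_finite F
    have hcop : Nat.Coprime 6 p := by
      rw [Nat.coprime_comm, Nat.Prime.coprime_iff_not_dvd hpr]
      intro hd
      have := (CharP.cast_eq_zero_iff F p 6).mpr hd
      exact h6 (by exact_mod_cast this)
    obtain ⟨n, -, hn⟩ := Nat.exists_mul_mod_eq_one_of_coprime hcop hpr.one_lt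
    have hcast : ((6 * n : ℕ) : F) = 1 := by
      have h1 : ((6 * n : ℕ) : F) = ((6 * n % p : ℕ) : F) := by
        rw [CharP.natCast_eq_natCast F p]
        exact (Nat.mod_modEq _ _).symm
      rw [h1, hn, Nat.cast_one]
    have : x = n • (6 * x) := by
      rw [nsmul_eq_mul, ← mul_assoc]
      have : (n : F) * 6 = 1 := by
        rw [mul_comm]; exact_mod_cast hcast
      rw [this, one_mul]
    rw [this]
    exact A.nsmul_mem hx6 n

namespace A2Data

variable {F : Type*} [Field F] {Γ : Type*} [Group Γ] {D : A2Data F Γ}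

section Act

variable [Finite F] {ζ : Fˣ}

theorem Torus.act_x0 (hT : D.Torus ζ) (s s' : Fˣ) (r : F) :
    (D.h0 s * D.h1 s') * D.x0 r * (D.h0 s * D.h1 s')⁻¹ = D.x0 ((s : F) ^ 2 * (s' : F)⁻¹ * r) := by
  have e1 := hT.h1_x0 s' r
  have e2 := D.h0_x0 s ((s' : F)⁻¹ * r)
  calc (D.h0 s * D.h1 s') * D.x0 r * (D.h0 s * D.h1 s')⁻¹
      = D.h0 s * (D.h1 s' * D.x0 r * (D.h1 s')⁻¹) * (D.h0 s)⁻¹ := by group
    _ = _ := by rw [e1, e2, mul_assoc]

theorem Torus.act_x1 (hT : D.Torus ζ) (s s' : Fˣ) (r : F) :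
    (D.h0 s * D.h1 s') * D.x1 r * (D.h0 s * D.h1 s')⁻¹ = D.x1 ((s : F)⁻¹ * (s' : F) ^ 2 * r) := by
  have e1 := D.h1_x1 s' r
  have e2 := hT.h0_x1 s ((s' : F) ^ 2 * r)
  calc (D.h0 s * D.h1 s') * D.x1 r * (D.h0 s * D.h1 s')⁻¹
      = D.h0 s * (D.h1 s' * D.x1 r * (D.h1 s')⁻¹) * (D.h0 s)⁻¹ := by group
    _ = _ := by rw [e1, e2, mul_assoc]

theorem Torus.act_y2 (hT : D.Torus ζ) (s s' : Fˣ) (r : F) :
    (D.h0 s * D.h1 s') * D.y2 r * (D.h0 s * D.h1 s')⁻¹ = D.y2 ((s : F) * (s' : F) * r) := by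
  have e1 := hT.h1_y2 s' r
  have e2 := hT.h0_y2 s ((s' : F) * r)
  calc (D.h0 s * D.h1 s') * D.y2 r * (D.h0 s * D.h1 s')⁻¹
      = D.h0 s * (D.h1 s' * D.y2 r * (D.h1 s')⁻¹) * (D.h0 s)⁻¹ := by group
    _ = _ := by rw [e1, e2, mul_assoc]

/-- torus orbit of a Steinberg commutator relation -/
theorem Torus.e5_orbit (hT : D.Torus ζ) {a b : F}
    (h : D.x0 a * D.x1 b = D.y2 (a * b) * D.x1 b * D.x0 a) (r κ : Fˣ) :
    D.x0 ((r : F) * a) * D.x1 ((κ : F) ^ 3 * (r : F) * b) =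
      D.y2 (((r : F) * a) * ((κ : F) ^ 3 * (r : F) * b)) * D.x1 ((κ : F) ^ 3 * (r : F) * b) *
        D.x0 ((r : F) * a) := by
  have hr : (r : F) ≠ 0 := r.ne_zero
  have hκ : (κ : F) ≠ 0 := κ.ne_zero
  have e0 := hT.act_x0 (κ * r) (κ ^ 2 * r) a
  have e1 := hT.act_x1 (κ * r) (κ ^ 2 * r) b
  have e2 := hT.act_y2 (κ * r) (κ ^ 2 * r) (a * b)
  have c0 : ((κ * r : Fˣ) : F) ^ 2 * ((κ ^ 2 * r : Fˣ) : F)⁻¹ * a = (r : F) * a := by
    push_cast; field_simp
  have c1 : ((κ * r : Fˣ) : F)⁻¹ * ((κ ^ 2 * r : Fˣ) : F) ^ 2 * b = (κ : F) ^ 3 * (r : F) * b := by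
    push_cast; field_simp
  have c2 : ((κ * r : Fˣ) : F) * ((κ ^ 2 * r : Fˣ) : F) * (a * b) =
      ((r : F) * a) * ((κ : F) ^ 3 * (r : F) * b) := by
    push_cast; ring
  rw [c0] at e0
  rw [c1] at e1
  rw [c2] at e2
  rw [← e0, ← e1, ← e2]
  set g := D.h0 (κ * r) * D.h1 (κ ^ 2 * r)
  calc g * D.x0 a * g⁻¹ * (g * D.x1 b * g⁻¹) = g * (D.x0 a * D.x1 b) * g⁻¹ := by group
    _ = g * (D.y2 (a * b) * D.x1 b * D.x0 a) * g⁻¹ := by rw [h]
    _ = _ := by group

/-- torus orbit of a commutation relation between `x₁₂` and `x₁₃` -/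
theorem Torus.e6_orbit (hT : D.Torus ζ) {a b : F} (h : Commute (D.x0 a) (D.y2 b)) (r κ : Fˣ) :
    Commute (D.x0 ((r : F) * a)) (D.y2 ((κ : F) ^ 3 * (r : F) ^ 2 * b)) := by
  have e0 := hT.act_x0 (κ * r) (κ ^ 2 * r) a
  have e2 := hT.act_y2 (κ * r) (κ ^ 2 * r) b
  have c0 : ((κ * r : Fˣ) : F) ^ 2 * ((κ ^ 2 * r : Fˣ) : F)⁻¹ * a = (r : F) * a := by
    have hr : (r : F) ≠ 0 := r.ne_zero
    have hκ : (κ : F) ≠ 0 := κ.ne_zero
    push_cast; field_simp
  have c2 : ((κ * r : Fˣ) : F) * ((κ ^ 2 * r : Fˣ) : F) * b = (κ : F) ^ 3 * (r : F) ^ 2 * b := by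
    push_cast; ring
  rw [c0] at e0
  rw [c2] at e2
  rw [← e0, ← e2]
  set g := D.h0 (κ * r) * D.h1 (κ ^ 2 * r)
  have := h.eq
  unfold Commute SemiconjBy
  calc g * D.x0 a * g⁻¹ * (g * D.y2 b * g⁻¹) = g * (D.x0 a * D.y2 b) * g⁻¹ := by group
    _ = g * (D.y2 b * D.x0 a) * g⁻¹ := by rw [this]
    _ = _ := by group

/-- torus orbit of a commutation relation between `x₂₃` and `x₁₃` -/
theorem Torus.e7_orbit (hT : D.Torus ζ) {a b : F} (h : Commute (D.x1 a) (D.y2 b)) (r κ : Fˣ) :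
    Commute (D.x1 ((r : F) * a)) (D.y2 ((κ : F) ^ 3 * (r : F) ^ 2 * b)) := by
  have e1 := hT.act_x1 (κ ^ 2 * r) (κ * r) a
  have e2 := hT.act_y2 (κ ^ 2 * r) (κ * r) b
  have c1 : ((κ ^ 2 * r : Fˣ) : F)⁻¹ * ((κ * r : Fˣ) : F) ^ 2 * a = (r : F) * a := by
    have hr : (r : F) ≠ 0 := r.ne_zero
    have hκ : (κ : F) ≠ 0 := κ.ne_zero
    push_cast; field_simp
  have c2 : ((κ ^ 2 * r : Fˣ) : F) * ((κ * r : Fˣ) : F) * b = (κ : F) ^ 3 * (r : F) ^ 2 * b := by
    push_cast; ring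
  rw [c1] at e1
  rw [c2] at e2
  rw [← e1, ← e2]
  set g := D.h0 (κ ^ 2 * r) * D.h1 (κ * r)
  have := h.eq
  unfold Commute SemiconjBy
  calc g * D.x1 a * g⁻¹ * (g * D.y2 b * g⁻¹) = g * (D.x1 a * D.y2 b) * g⁻¹ := by group
    _ = g * (D.y2 b * D.x1 a) * g⁻¹ := by rw [this]
    _ = _ := by group

end Act


section Paths

variable [Finite F] {ζ : Fˣ}

/-- assembling the full set of relations from the torus relations and the commutator relations -/
theorem Torus.full (hT : D.Torus ζ)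
    (e5 : ∀ r r', D.x0 r * D.x1 r' = D.y2 (r * r') * D.x1 r' * D.x0 r)
    (e6 : ∀ r r', Commute (D.x0 r) (D.y2 r')) (e7 : ∀ r r', Commute (D.x1 r) (D.y2 r')) : D.Full where
  e5 := e5
  e6 := e6
  e7 := e7
  h1_x0 := hT.h1_x0
  h1_y0 := hT.h1_y0
  h1_y2 := hT.h1_y2
  h0_x1 := hT.h0_x1
  h0_y2 := hT.h0_y2
  e8 := hT.e8
  t_x1 := hT.t_x1
  t_y2 := fun r => t_y2 r

/-- the additive subgroup of parameters `y` with `x₁₂(r)` commuting with `x₁₃(y)` -/
def commSub0 (D : A2Data F Γ) (r : F) : AddSubgroup F where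
  carrier := {y | Commute (D.x0 r) (D.y2 y)}
  zero_mem' := by
    show Commute (D.x0 r) (D.y2 0)
    rw [y2_zero]; exact Commute.one_right _
  add_mem' := by
    intro a b ha hb
    show Commute (D.x0 r) (D.y2 (a + b))
    rw [y2_add]; exact Commute.mul_right ha hb
  neg_mem' := by
    intro a ha
    show Commute (D.x0 r) (D.y2 (-a))
    rw [← y2_inv]; exact Commute.inv_right ha

/-- the additive subgroup of parameters `y` with `x₂₃(r)` commuting with `x₁₃(y)` -/
def commSub1 (D : A2Data F Γ) (r : F) : AddSubgroup F where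
  carrier := {y | Commute (D.x1 r) (D.y2 y)}
  zero_mem' := by
    show Commute (D.x1 r) (D.y2 0)
    rw [y2_zero]; exact Commute.one_right _
  add_mem' := by
    intro a b ha hb
    show Commute (D.x1 r) (D.y2 (a + b))
    rw [y2_add]; exact Commute.mul_right ha hb
  neg_mem' := by
    intro a ha
    show Commute (D.x1 r) (D.y2 (-a))
    rw [← y2_inv]; exact Commute.inv_right ha

/-- the additive subgroup of parameters `r` for which the Steinberg relation holds against `x₂₃(r')`,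
given that `x₁₂` commutes with `x₁₃` -/
def e5Sub (D : A2Data F Γ) (e6 : ∀ r r', Commute (D.x0 r) (D.y2 r')) (r' : F) : AddSubgroup F where
  carrier := {r | D.x0 r * D.x1 r' = D.y2 (r * r') * D.x1 r' * D.x0 r}
  zero_mem' := by
    show D.x0 0 * D.x1 r' = D.y2 (0 * r') * D.x1 r' * D.x0 0
    rw [zero_mul, x0_zero, y2_zero]; group
  add_mem' := by
    intro a b ha hb
    have ha' : D.x0 a * D.x1 r' = D.y2 (a * r') * D.x1 r' * D.x0 a := ha
    have hb' : D.x0 b * D.x1 r' = D.y2 (b * r') * D.x1 r' * D.x0 b := hb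
    show D.x0 (a + b) * D.x1 r' = D.y2 ((a + b) * r') * D.x1 r' * D.x0 (a + b)
    have h6 := (e6 a (b * r')).eq
    rw [x0_add, add_mul, add_comm (a * r'), y2_add]
    calc D.x0 a * D.x0 b * D.x1 r' = D.x0 a * (D.x0 b * D.x1 r') := by group
      _ = (D.x0 a * D.y2 (b * r')) * D.x1 r' * D.x0 b := by rw [hb']; group
      _ = D.y2 (b * r') * (D.x0 a * D.x1 r') * D.x0 b := by rw [h6]; group
      _ = _ := by rw [ha']; group
  neg_mem' := by
    intro a ha
    have ha' : D.x0 a * D.x1 r' = D.y2 (a * r') * D.x1 r' * D.x0 a := ha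
    show D.x0 (-a) * D.x1 r' = D.y2 (-a * r') * D.x1 r' * D.x0 (-a)
    have h6 := (e6 a (a * r')).eq
    rw [neg_mul, ← x0_inv, ← y2_inv]
    have h1 : D.x1 r' = (D.x0 a)⁻¹ * (D.y2 (a * r') * D.x1 r' * D.x0 a) := by
      rw [← ha']; group
    calc (D.x0 a)⁻¹ * D.x1 r'
        = (D.y2 (a * r'))⁻¹ * ((D.x0 a)⁻¹ * (D.x0 a * D.y2 (a * r')) * (D.x0 a)⁻¹) * D.x1 r' := by group
      _ = (D.y2 (a * r'))⁻¹ * ((D.x0 a)⁻¹ * (D.y2 (a * r') * D.x1 r' * D.x0 a)) * (D.x0 a)⁻¹ := by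
          rw [h6]; group
      _ = _ := by rw [← h1]

/-- odd characteristic: the involution trick gives the two commutation relations at parameter one -/
theorem Torus.e6_one (hT : D.Torus ζ) (e5 : D.x0 1 * D.x1 1 = D.y2 1 * D.x1 1 * D.x0 1) :
    Commute (D.x0 1) (D.y2 1) := by
  have a0 := hT.h1_x0 (-1) 1
  have a1 := D.h1_x1 (-1) 1
  have a2 := hT.h1_y2 (-1) 1
  have c0 : ((-1 : Fˣ) : F)⁻¹ * 1 = -1 := by simp
  have c1 : ((-1 : Fˣ) : F) ^ 2 * 1 = 1 := by simp
  have c2 : ((-1 : Fˣ) : F) * 1 = -1 := by simp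
  rw [c0, ← x0_inv] at a0
  rw [c1] at a1
  rw [c2, ← y2_inv] at a2
  set g := D.h1 (-1)
  set u := D.x0 1
  set v := D.x1 1
  set w := D.y2 1
  have h1 : u⁻¹ * v = w⁻¹ * v * u⁻¹ := by
    rw [← a0, ← a2]
    nth_rewrite 1 [← a1]
    nth_rewrite 2 [← a1]
    calc g * u * g⁻¹ * (g * v * g⁻¹) = g * (u * v) * g⁻¹ := by group
      _ = g * (w * v * u) * g⁻¹ := by rw [e5]
      _ = _ := by group
  have hw1 : w = u * v * u⁻¹ * v⁻¹ := by
    calc w = (w * v * u) * u⁻¹ * v⁻¹ := by group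
      _ = _ := by rw [← e5]
  have hw2 : w = v * u⁻¹ * v⁻¹ * u := by
    calc w = ((w⁻¹ * v * u⁻¹) * u * v⁻¹)⁻¹ := by group
      _ = ((u⁻¹ * v) * u * v⁻¹)⁻¹ := by rw [← h1]
      _ = _ := by group
  unfold Commute SemiconjBy
  calc u * w = u * (v * u⁻¹ * v⁻¹ * u) := by rw [← hw2]
    _ = (u * v * u⁻¹ * v⁻¹) * u := by group
    _ = _ := by rw [← hw1]

theorem Torus.e7_one (hT : D.Torus ζ) (e5 : D.x0 1 * D.x1 1 = D.y2 1 * D.x1 1 * D.x0 1) :
    Commute (D.x1 1) (D.y2 1) := by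
  have a0 := D.h0_x0 (-1) 1
  have a1 := hT.h0_x1 (-1) 1
  have a2 := hT.h0_y2 (-1) 1
  have c0 : ((-1 : Fˣ) : F) ^ 2 * 1 = 1 := by simp
  have c1 : ((-1 : Fˣ) : F)⁻¹ * 1 = -1 := by simp
  have c2 : ((-1 : Fˣ) : F) * 1 = -1 := by simp
  rw [c0] at a0
  rw [c1, ← x1_inv] at a1
  rw [c2, ← y2_inv] at a2
  set g := D.h0 (-1)
  set u := D.x0 1
  set v := D.x1 1
  set w := D.y2 1
  have h1 : u * v⁻¹ = w⁻¹ * v⁻¹ * u := by
    rw [← a1, ← a2]
    nth_rewrite 1 [← a0]
    nth_rewrite 2 [← a0]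
    calc g * u * g⁻¹ * (g * v * g⁻¹) = g * (u * v) * g⁻¹ := by group
      _ = g * (w * v * u) * g⁻¹ := by rw [e5]
      _ = _ := by group
  have hw1 : w = u * v * u⁻¹ * v⁻¹ := by
    calc w = (w * v * u) * u⁻¹ * v⁻¹ := by group
      _ = _ := by rw [← e5]
  have hw2 : w = v⁻¹ * u * v * u⁻¹ := by
    calc w = ((w⁻¹ * v⁻¹ * u) * u⁻¹ * v)⁻¹ := by group
      _ = ((u * v⁻¹) * u⁻¹ * v)⁻¹ := by rw [← h1]
      _ = _ := by group
  unfold Commute SemiconjBy
  calc v * w = v * (v⁻¹ * u * v * u⁻¹) := by rw [← hw2]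
    _ = (u * v * u⁻¹ * v⁻¹) * v := by group
    _ = _ := by rw [← hw1]

/-- odd characteristic: the full relations from the torus relations and one Steinberg relation -/
theorem Torus.full_odd (hT : D.Torus ζ) (h2 : (2 : F) ≠ 0)
    (e5 : D.x0 1 * D.x1 1 = D.y2 1 * D.x1 1 * D.x0 1) : D.Full := by
  have e6 : ∀ r r', Commute (D.x0 r) (D.y2 r') := by
    intro r r'
    by_cases hr : r = 0
    · rw [hr, x0_zero]; exact Commute.one_left _
    · have : r' ∈ D.commSub0 r := by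
        apply cube_span (D.commSub0 r) (r ^ 2) (pow_ne_zero 2 hr) _ h2
        intro κ
        have := hT.e6_orbit (hT.e6_one e5) (Units.mk0 r hr) κ
        rw [Units.val_mk0, mul_one, mul_one] at this
        show Commute (D.x0 r) (D.y2 (r ^ 2 * (κ : F) ^ 3))
        rwa [mul_comm]
      exact this
  have e7 : ∀ r r', Commute (D.x1 r) (D.y2 r') := by
    intro r r'
    by_cases hr : r = 0
    · rw [hr, x1_zero]; exact Commute.one_left _
    · have : r' ∈ D.commSub1 r := by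
        apply cube_span (D.commSub1 r) (r ^ 2) (pow_ne_zero 2 hr) _ h2
        intro κ
        have := hT.e7_orbit (hT.e7_one e5) (Units.mk0 r hr) κ
        rw [Units.val_mk0, mul_one, mul_one] at this
        show Commute (D.x1 r) (D.y2 (r ^ 2 * (κ : F) ^ 3))
        rwa [mul_comm]
      exact this
  refine hT.full ?_ e6 e7
  intro r r'
  by_cases hr' : r' = 0
  · rw [hr', mul_zero, x1_zero, y2_zero]; group
  · have : r ∈ D.e5Sub e6 r' := by
      apply cube_span (D.e5Sub e6 r') r' hr' _ h2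
      intro κ
      have e51 : D.x0 1 * D.x1 1 = D.y2 (1 * 1) * D.x1 1 * D.x0 1 := by rw [mul_one]; exact e5
      have := hT.e5_orbit e51 (Units.mk0 r' hr' * (κ ^ 3)) κ⁻¹
      have hκ : (κ : F) ≠ 0 := κ.ne_zero
      have c1 : ((Units.mk0 r' hr' * κ ^ 3 : Fˣ) : F) * 1 = r' * (κ : F) ^ 3 := by
        simp only [Units.val_mul, Units.val_pow_eq_pow_val, Units.val_mk0, mul_one]
      have c2 : ((κ⁻¹ : Fˣ) : F) ^ 3 * ((Units.mk0 r' hr' * κ ^ 3 : Fˣ) : F) * 1 = r' := by
        simp only [Units.val_mul, Units.val_pow_eq_pow_val, Units.val_mk0, Units.val_inv_eq_inv_val, mul_one]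
        field_simp
      rw [c1, c2] at this
      exact this
    exact this

end Paths


section Even

variable [Finite F] {ζ : Fˣ}

omit [Finite F] in
/-- the Steinberg relation on all pairs of units gives the commutation of `x₁₂` with `x₁₃` -/
theorem e6_of_units (hbig : ∀ r1 : Fˣ, ∃ r2 : Fˣ, (r1 : F) + (r2 : F) ≠ 0)
    (e5u : ∀ r r' : Fˣ, D.x0 (r : F) * D.x1 (r' : F) =
      D.y2 ((r : F) * (r' : F)) * D.x1 (r' : F) * D.x0 (r : F)) :
    ∀ r r' : F, Commute (D.x0 r) (D.y2 r') := by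
  intro r r'
  by_cases hr : r = 0
  · rw [hr, x0_zero]; exact Commute.one_left _
  by_cases hr' : r' = 0
  · rw [hr', y2_zero]; exact Commute.one_right _
  obtain ⟨r2, h12⟩ := hbig (Units.mk0 r hr)
  rw [Units.val_mk0] at h12
  -- `s = r' / r2`
  set s : Fˣ := Units.mk0 r' hr' * r2⁻¹ with hs
  have hs' : (r2 : F) * (s : F) = r' := by
    rw [hs]
    simp only [Units.val_mul, Units.val_mk0, Units.val_inv_eq_inv_val]
    have : (r2 : F) ≠ 0 := r2.ne_zero
    field_simp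
  have e1 := e5u (Units.mk0 r hr) s
  have e2 := e5u r2 s
  have e3 := e5u (Units.mk0 (r + r2) h12) s
  rw [Units.val_mk0] at e1 e3
  rw [x0_add, add_mul, y2_add] at e3
  rw [← hs']
  set a := D.x0 r
  set b := D.x0 (r2 : F)
  set v := D.x1 (s : F)
  set w1 := D.y2 (r * (s : F))
  set w2 := D.y2 ((r2 : F) * (s : F))
  have hww : w1 * w2 = w2 * w1 := by
    rw [← y2_add, ← y2_add, add_comm]
  -- `a b v = a w2 v b` and `a b v = w1 w2 v a b = w2 (w1 v a) b = w2 a v b`
  have h1 : a * w2 * (v * b) = w2 * a * (v * b) := by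
    calc a * w2 * (v * b) = a * (w2 * v * b) := by group
      _ = a * (b * v) := by rw [e2]
      _ = a * b * v := by group
      _ = w1 * w2 * v * (a * b) := e3
      _ = w2 * (w1 * v * a) * b := by rw [hww]; group
      _ = w2 * (a * v) * b := by rw [e1]
      _ = _ := by group
  exact mul_right_cancel h1

omit [Finite F] in
/-- the Steinberg relation on all pairs of units gives the commutation of `x₂₃` with `x₁₃` -/
theorem e7_of_units (hbig : ∀ r1 : Fˣ, ∃ r2 : Fˣ, (r1 : F) + (r2 : F) ≠ 0)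
    (e5u : ∀ r r' : Fˣ, D.x0 (r : F) * D.x1 (r' : F) =
      D.y2 ((r : F) * (r' : F)) * D.x1 (r' : F) * D.x0 (r : F)) :
    ∀ r r' : F, Commute (D.x1 r) (D.y2 r') := by
  intro s1 r'
  by_cases hr : s1 = 0
  · rw [hr, x1_zero]; exact Commute.one_left _
  by_cases hr' : r' = 0
  · rw [hr', y2_zero]; exact Commute.one_right _
  obtain ⟨s2, h12⟩ := hbig (Units.mk0 s1 hr)
  rw [Units.val_mk0] at h12
  -- `r = r' / s2`
  set r : Fˣ := Units.mk0 r' hr' * s2⁻¹ with hr0
  have hs' : (r : F) * (s2 : F) = r' := by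
    rw [hr0]
    simp only [Units.val_mul, Units.val_mk0, Units.val_inv_eq_inv_val]
    have : (s2 : F) ≠ 0 := s2.ne_zero
    field_simp
  have e1 := e5u r (Units.mk0 s1 hr)
  have e2 := e5u r s2
  have e3 := e5u r (Units.mk0 (s1 + s2) h12)
  rw [Units.val_mk0] at e1 e3
  rw [x1_add, mul_add, y2_add] at e3
  rw [← hs']
  set a := D.x0 (r : F)
  set v1 := D.x1 s1
  set v2 := D.x1 (s2 : F)
  set w1 := D.y2 ((r : F) * s1)
  set w2 := D.y2 ((r : F) * (s2 : F))
  -- `a v1 v2 = w1 v1 a v2 = w1 v1 w2 v2 a` and `a v1 v2 = w1 w2 v1 v2 a`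
  have h1 : w1 * (v1 * w2) * (v2 * a) = w1 * (w2 * v1) * (v2 * a) := by
    calc w1 * (v1 * w2) * (v2 * a) = w1 * v1 * (w2 * v2 * a) := by group
      _ = w1 * v1 * (a * v2) := by rw [e2]
      _ = (w1 * v1 * a) * v2 := by group
      _ = (a * v1) * v2 := by rw [e1]
      _ = a * (v1 * v2) := by group
      _ = w1 * w2 * (v1 * v2) * a := e3
      _ = _ := by group
  exact mul_left_cancel (mul_right_cancel h1)

/-- the full relations from the Steinberg relation on all pairs of units -/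
theorem Torus.full_of_units (hT : D.Torus ζ) (hbig : ∀ r1 : Fˣ, ∃ r2 : Fˣ, (r1 : F) + (r2 : F) ≠ 0)
    (e5u : ∀ r r' : Fˣ, D.x0 (r : F) * D.x1 (r' : F) =
      D.y2 ((r : F) * (r' : F)) * D.x1 (r' : F) * D.x0 (r : F)) : D.Full := by
  refine hT.full ?_ (e6_of_units hbig e5u) (e7_of_units hbig e5u)
  intro r r'
  by_cases hr : r = 0
  · rw [hr, zero_mul, x0_zero, y2_zero]; group
  by_cases hr' : r' = 0
  · rw [hr', mul_zero, x1_zero, y2_zero]; group
  have := e5u (Units.mk0 r hr) (Units.mk0 r' hr')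
  rwa [Units.val_mk0, Units.val_mk0] at this

/-- three Steinberg relations give the relation on all pairs of units -/
theorem Torus.e5_units (hT : D.Torus ζ)
    (e5z : ∀ i : ℕ, i < 3 → D.x0 1 * D.x1 ((ζ : F) ^ i) = D.y2 ((ζ : F) ^ i) * D.x1 ((ζ : F) ^ i) * D.x0 1)
    (r r' : Fˣ) : D.x0 (r : F) * D.x1 (r' : F) = D.y2 ((r : F) * (r' : F)) * D.x1 (r' : F) * D.x0 (r : F) := by
  obtain ⟨m, hm⟩ := hT.hgen (r' * r⁻¹)
  have h0 := e5z (m % 3) (Nat.mod_lt _ (by norm_num))
  have h0' : D.x0 1 * D.x1 ((ζ : F) ^ (m % 3)) =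
      D.y2 (1 * (ζ : F) ^ (m % 3)) * D.x1 ((ζ : F) ^ (m % 3)) * D.x0 1 := by rw [one_mul]; exact h0
  have := hT.e5_orbit h0' r (ζ ^ (m / 3))
  have c1 : ((ζ ^ (m / 3) : Fˣ) : F) ^ 3 * (r : F) * (ζ : F) ^ (m % 3) = (r' : F) := by
    have h1 : (r' : F) = (ζ : F) ^ m * (r : F) := by
      have := congrArg Units.val hm
      simp only [Units.val_mul, Units.val_pow_eq_pow_val, Units.val_inv_eq_inv_val] at this
      have hr : (r : F) ≠ 0 := r.ne_zero
      field_simp at this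
      rw [this]; ring
    rw [h1, Units.val_pow_eq_pow_val]
    conv_rhs => rw [← Nat.div_add_mod m 3]
    rw [pow_add, pow_mul]
    ring
  rw [c1, mul_one] at this
  exact this

/-- characteristic two with at least four elements: every unit has another unit with nonzero sum -/
theorem exists_unit_add_ne (hF : 3 < Nat.card F) (r1 : Fˣ) : ∃ r2 : Fˣ, (r1 : F) + (r2 : F) ≠ 0 := by
  classical
  have : Fintype F := Fintype.ofFinite F
  -- there is an element outside `{0, -r1}`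
  have hcard : ({0, -(r1 : F)} : Finset F).card < Fintype.card F := by
    rw [Nat.card_eq_fintype_card] at hF
    calc ({0, -(r1 : F)} : Finset F).card ≤ 2 := Finset.card_le_two
      _ < Fintype.card F := by omega
  obtain ⟨x, hx⟩ : ∃ x : F, x ∉ ({0, -(r1 : F)} : Finset F) := by
    by_contra hcon
    push Not at hcon
    have : Finset.univ ⊆ ({0, -(r1 : F)} : Finset F) := fun x _ => hcon x
    have := Finset.card_le_card this
    rw [Finset.card_univ] at this
    omega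
  rw [Finset.mem_insert, Finset.mem_singleton, not_or] at hx
  refine ⟨Units.mk0 x hx.1, ?_⟩
  rw [Units.val_mk0]
  intro h
  apply hx.2
  linear_combination h

/-- the field with two elements: the relations at parameter one are all the relations -/
theorem full_two (hF : Nat.card F = 2)
    (e5 : D.x0 1 * D.x1 1 = D.y2 1 * D.x1 1 * D.x0 1)
    (e6 : Commute (D.x0 1) (D.y2 1)) (e7 : Commute (D.x1 1) (D.y2 1)) : D.Full := by
  classical
  have : Fintype F := Fintype.ofFinite F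
  have h01 : ∀ a : F, a = 0 ∨ a = 1 := by
    apply Cfsg.Agent.Lib.Helper11.Pres2.eq_zero_or_one_of_card_two
    rw [← Nat.card_eq_fintype_card]; exact hF
  have hu : ∀ s : Fˣ, s = 1 := by
    intro s
    rcases h01 (s : F) with h | h
    · exact absurd h s.ne_zero
    · exact Units.ext h
  have hT : D.Torus 1 :=
    { hgen := fun s => ⟨0, by rw [hu s, pow_zero]⟩
      e4 := by rw [h0_one]; exact Commute.one_left _
      f1 := by rw [h0_one]; simp
      f2 := by rw [h1_one]; simp }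
  refine hT.full ?_ ?_ ?_
  · intro r r'
    rcases h01 r with rfl | rfl
    · rw [zero_mul, x0_zero, y2_zero]; group
    · rcases h01 r' with rfl | rfl
      · rw [mul_zero, x1_zero, y2_zero]; group
      · rw [mul_one]; exact e5
  · intro r r'
    rcases h01 r with rfl | rfl
    · rw [x0_zero]; exact Commute.one_left _
    · rcases h01 r' with rfl | rfl
      · rw [y2_zero]; exact Commute.one_right _
      · exact e6
  · intro r r'
    rcases h01 r with rfl | rfl
    · rw [x1_zero]; exact Commute.one_left _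
    · rcases h01 r' with rfl | rfl
      · rw [y2_zero]; exact Commute.one_right _
      · exact e7

end Even

end A2Data

end Cfsg.Agent.Lib.Helper11.Pres3
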