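import Mathlib
import Cfsg.Agent.Lib.Helper11.Pres3B
import Cfsg.Agent.Lib.Helper11.Pres3D
import Cfsg.Agent.Lib.Helper2.SLGen
import Cfsg.Agent.Lib.Helper2.GLCard

set_option autoImplicit false

namespace Cfsg.Agent.Lib.Helper11.Pres3

open Cfsg.Agent.Lib.Helper11.SL2Hom Cfsg.Agent.Lib.Helper11.Pres2 Matrix

section Mat

variable {F : Type*} [Field F]

local notation:1024 "↑₂" A:1024 => ((A : SpecialLinearGroup (Fin 2) F) : Matrix (Fin 2) (Fin 2) F)
local notation:1024 "↑₃" A:1024 => ((A : SpecialLinearGroup (Fin 3) F) : Matrix (Fin 3) (Fin 3) F)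

/-- the block embedding of `SL₂` into `SL₃` (upper left corner) -/
def iotaMat (g : SpecialLinearGroup (Fin 2) F) : Matrix (Fin 3) (Fin 3) F :=
  !![(↑₂g) 0 0, (↑₂g) 0 1, 0; (↑₂g) 1 0, (↑₂g) 1 1, 0; 0, 0, 1]

theorem det_iotaMat (g : SpecialLinearGroup (Fin 2) F) : (iotaMat g).det = 1 := by
  have := det_eq g
  rw [iotaMat, det_fin_three]
  simp
  linear_combination this

/-- the block embedding as a homomorphism -/
def iota : SpecialLinearGroup (Fin 2) F →* SpecialLinearGroup (Fin 3) F where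
  toFun g := ⟨iotaMat g, det_iotaMat g⟩
  map_one' := by
    apply Matrix.SpecialLinearGroup.ext
    intro i j
    show iotaMat 1 i j = (1 : Matrix (Fin 3) (Fin 3) F) i j
    fin_cases i <;> fin_cases j <;> simp [iotaMat]
  map_mul' a b := by
    apply Matrix.SpecialLinearGroup.ext
    intro i j
    show iotaMat (a * b) i j = (iotaMat a * iotaMat b) i j
    fin_cases i <;> fin_cases j <;>
      simp [iotaMat, Matrix.mul_apply, Fin.sum_univ_three, Fin.sum_univ_two]

theorem coe_iota (g : SpecialLinearGroup (Fin 2) F) : (↑₃(iota g)) = iotaMat g := rfl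

/-- the permutation matrix of the three-cycle `e₁ → e₂ → e₃ → e₁` -/
def cM : SpecialLinearGroup (Fin 3) F := ⟨!![0, 0, 1; 1, 0, 0; 0, 1, 0], by simp [det_fin_three]⟩

theorem coe_cM : (↑₃(cM : SpecialLinearGroup (Fin 3) F)) = !![0, 0, 1; 1, 0, 0; 0, 1, 0] := rfl

theorem cM_cube : (cM : SpecialLinearGroup (Fin 3) F) * cM * cM = 1 := by
  apply Matrix.SpecialLinearGroup.ext
  intro i j
  show (↑₃(cM * cM * cM)) i j = (1 : Matrix (Fin 3) (Fin 3) F) i j
  fin_cases i <;> fin_cases j <;> simp [coe_cM, Matrix.mul_apply, Fin.sum_univ_three]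

theorem cM_inv : (cM : SpecialLinearGroup (Fin 3) F)⁻¹ = cM * cM := by
  rw [inv_eq_iff_mul_eq_one, ← mul_assoc]; exact cM_cube

theorem wS_cM : iota (wS : SpecialLinearGroup (Fin 2) F) * cM * cM * iota wS = cM := by
  apply Matrix.SpecialLinearGroup.ext
  intro i j
  show (↑₃(iota wS * cM * cM * iota wS)) i j = (↑₃(cM : SpecialLinearGroup (Fin 3) F)) i j
  fin_cases i <;> fin_cases j <;>
    simp [coe_cM, coe_iota, iotaMat, coe_wS, Matrix.mul_apply, Fin.sum_univ_three]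

/-- the standard data in `SL₃(F)` -/
def std : A2Data F (SpecialLinearGroup (Fin 3) F) where
  φ := iota
  c := cM
  c3 := cM_cube
  nrel := by
    rw [cM_inv]
    have h := wS_cM (F := F)
    have h3 := cM_cube (F := F)
    calc iota wS * (cM * cM) * (iota wS * (cM * cM))
        = (iota (wS : SpecialLinearGroup (Fin 2) F) * cM * cM * iota wS) * cM * cM := by group
      _ = 1 := by rw [h]; exact h3

/-- `x₁₂(r)` -/
def m12 (r : F) : SpecialLinearGroup (Fin 3) F := ⟨!![1, r, 0; 0, 1, 0; 0, 0, 1], by simp [det_fin_three]⟩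
/-- `x₂₁(r)` -/
def m21 (r : F) : SpecialLinearGroup (Fin 3) F := ⟨!![1, 0, 0; r, 1, 0; 0, 0, 1], by simp [det_fin_three]⟩
/-- `x₂₃(r)` -/
def m23 (r : F) : SpecialLinearGroup (Fin 3) F := ⟨!![1, 0, 0; 0, 1, r; 0, 0, 1], by simp [det_fin_three]⟩
/-- `x₁₃(r)` -/
def m13 (r : F) : SpecialLinearGroup (Fin 3) F := ⟨!![1, 0, r; 0, 1, 0; 0, 0, 1], by simp [det_fin_three]⟩
/-- `diag(s, s⁻¹, 1)` -/
def d0 (s : Fˣ) : SpecialLinearGroup (Fin 3) F :=
  ⟨!![(s : F), 0, 0; 0, (s : F)⁻¹, 0; 0, 0, 1], by simp [det_fin_three]⟩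
/-- `diag(1, s, s⁻¹)` -/
def d1 (s : Fˣ) : SpecialLinearGroup (Fin 3) F :=
  ⟨!![1, 0, 0; 0, (s : F), 0; 0, 0, (s : F)⁻¹], by simp [det_fin_three]⟩

theorem coe_m12 (r : F) : (↑₃(m12 r)) = !![1, r, 0; 0, 1, 0; 0, 0, 1] := rfl
theorem coe_m21 (r : F) : (↑₃(m21 r)) = !![1, 0, 0; r, 1, 0; 0, 0, 1] := rfl
theorem coe_m23 (r : F) : (↑₃(m23 r)) = !![1, 0, 0; 0, 1, r; 0, 0, 1] := rfl
theorem coe_m13 (r : F) : (↑₃(m13 r)) = !![1, 0, r; 0, 1, 0; 0, 0, 1] := rfl
theorem coe_d0 (s : Fˣ) : (↑₃(d0 s)) = !![(s : F), 0, 0; 0, (s : F)⁻¹, 0; 0, 0, 1] := rfl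
theorem coe_d1 (s : Fˣ) : (↑₃(d1 s)) = !![1, 0, 0; 0, (s : F), 0; 0, 0, (s : F)⁻¹] := rfl

theorem std_x0 (r : F) : (std (F := F)).x0 r = m12 r := by
  apply Matrix.SpecialLinearGroup.ext
  intro i j
  show iotaMat (xS r) i j = (↑₃(m12 r)) i j
  fin_cases i <;> fin_cases j <;> simp [iotaMat, coe_xS, coe_m12]

theorem std_y0 (r : F) : (std (F := F)).y0 r = m21 r := by
  apply Matrix.SpecialLinearGroup.ext
  intro i j
  show iotaMat (yS r) i j = (↑₃(m21 r)) i j
  fin_cases i <;> fin_cases j <;> simp [iotaMat, coe_yS, coe_m21]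

theorem std_h0 (s : Fˣ) : (std (F := F)).h0 s = d0 s := by
  apply Matrix.SpecialLinearGroup.ext
  intro i j
  show iotaMat (hU s) i j = (↑₃(d0 s)) i j
  fin_cases i <;> fin_cases j <;> simp [iotaMat, coe_hU, coe_d0]

theorem cM_m12 (r : F) : cM * m12 r = m23 r * cM := by
  apply Matrix.SpecialLinearGroup.ext
  intro i j
  show (↑₃(cM * m12 r)) i j = (↑₃(m23 r * cM)) i j
  fin_cases i <;> fin_cases j <;>
    simp [coe_cM, coe_m12, coe_m23, Matrix.mul_apply, Fin.sum_univ_three]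

theorem cM_m13 (r : F) : cM * m13 r = m21 r * cM := by
  apply Matrix.SpecialLinearGroup.ext
  intro i j
  show (↑₃(cM * m13 r)) i j = (↑₃(m21 r * cM)) i j
  fin_cases i <;> fin_cases j <;>
    simp [coe_cM, coe_m13, coe_m21, Matrix.mul_apply, Fin.sum_univ_three]

theorem cM_d0 (s : Fˣ) : cM * d0 s = d1 s * cM := by
  apply Matrix.SpecialLinearGroup.ext
  intro i j
  show (↑₃(cM * d0 s)) i j = (↑₃(d1 s * cM)) i j
  fin_cases i <;> fin_cases j <;>
    simp [coe_cM, coe_d0, coe_d1, Matrix.mul_apply, Fin.sum_univ_three]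

theorem std_x1 (r : F) : (std (F := F)).x1 r = m23 r := by
  unfold A2Data.x1
  rw [std_x0]
  show cM * m12 r * cM⁻¹ = m23 r
  rw [cM_m12]; group

theorem std_y2 (r : F) : (std (F := F)).y2 r = m13 r := by
  unfold A2Data.y2
  rw [std_y0]
  show cM⁻¹ * m21 r * cM = m13 r
  rw [mul_assoc, ← cM_m13]; group

theorem std_h1 (s : Fˣ) : (std (F := F)).h1 s = d1 s := by
  unfold A2Data.h1
  rw [std_h0]
  show cM * d0 s * cM⁻¹ = d1 s
  rw [cM_d0]; group

theorem std_e5 (r r' : F) :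
    (std (F := F)).x0 r * (std (F := F)).x1 r' =
      (std (F := F)).y2 (r * r') * (std (F := F)).x1 r' * (std (F := F)).x0 r := by
  rw [std_x0, std_x1, std_y2]
  apply Matrix.SpecialLinearGroup.ext
  intro i j
  show (↑₃(m12 r * m23 r')) i j = (↑₃(m13 (r * r') * m23 r' * m12 r)) i j
  fin_cases i <;> fin_cases j <;>
    simp [coe_m12, coe_m23, coe_m13, Matrix.mul_apply, Fin.sum_univ_three]

theorem std_e6 (r r' : F) : Commute ((std (F := F)).x0 r) ((std (F := F)).y2 r') := by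
  rw [std_x0, std_y2]
  unfold Commute SemiconjBy
  apply Matrix.SpecialLinearGroup.ext
  intro i j
  show (↑₃(m12 r * m13 r')) i j = (↑₃(m13 r' * m12 r)) i j
  fin_cases i <;> fin_cases j <;>
    simp [coe_m12, coe_m13, Matrix.mul_apply, Fin.sum_univ_three]

theorem std_e7 (r r' : F) : Commute ((std (F := F)).x1 r) ((std (F := F)).y2 r') := by
  rw [std_x1, std_y2]
  unfold Commute SemiconjBy
  apply Matrix.SpecialLinearGroup.ext
  intro i j
  show (↑₃(m23 r * m13 r')) i j = (↑₃(m13 r' * m23 r)) i j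
  fin_cases i <;> fin_cases j <;>
    simp [coe_m23, coe_m13, Matrix.mul_apply, Fin.sum_univ_three]

theorem std_e4 (s s' : Fˣ) : Commute ((std (F := F)).h0 s) ((std (F := F)).h1 s') := by
  rw [std_h0, std_h1]
  unfold Commute SemiconjBy
  apply Matrix.SpecialLinearGroup.ext
  intro i j
  show (↑₃(d0 s * d1 s')) i j = (↑₃(d1 s' * d0 s)) i j
  fin_cases i <;> fin_cases j <;>
    simp [coe_d0, coe_d1, Matrix.mul_apply, Fin.sum_univ_three, mul_comm]

theorem std_f1 (s : Fˣ) (r : F) :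
    (std (F := F)).h0 s * (std (F := F)).x1 r * ((std (F := F)).h0 s)⁻¹ =
      (std (F := F)).x1 ((s : F)⁻¹ * r) := by
  rw [std_h0, std_x1, std_x1]
  have : d0 s * m23 r = m23 ((s : F)⁻¹ * r) * d0 s := by
    apply Matrix.SpecialLinearGroup.ext
    intro i j
    show (↑₃(d0 s * m23 r)) i j = (↑₃(m23 ((s : F)⁻¹ * r) * d0 s)) i j
    fin_cases i <;> fin_cases j <;>
      simp [coe_d0, coe_m23, Matrix.mul_apply, Fin.sum_univ_three]
  rw [this]; group

theorem std_f2 (s : Fˣ) (r : F) :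
    (std (F := F)).h1 s * (std (F := F)).x0 r * ((std (F := F)).h1 s)⁻¹ =
      (std (F := F)).x0 ((s : F)⁻¹ * r) := by
  rw [std_h1, std_x0, std_x0]
  have : d1 s * m12 r = m12 ((s : F)⁻¹ * r) * d1 s := by
    apply Matrix.SpecialLinearGroup.ext
    intro i j
    show (↑₃(d1 s * m12 r)) i j = (↑₃(m12 ((s : F)⁻¹ * r) * d1 s)) i j
    fin_cases i <;> fin_cases j <;>
      simp [coe_d1, coe_m12, Matrix.mul_apply, Fin.sum_univ_three, mul_comm]
  rw [this]; group


/-- `x₃₁(r)` -/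
def m31 (r : F) : SpecialLinearGroup (Fin 3) F := ⟨!![1, 0, 0; 0, 1, 0; r, 0, 1], by simp [det_fin_three]⟩
/-- `x₃₂(r)` -/
def m32 (r : F) : SpecialLinearGroup (Fin 3) F := ⟨!![1, 0, 0; 0, 1, 0; 0, r, 1], by simp [det_fin_three]⟩

theorem coe_m31 (r : F) : (↑₃(m31 r)) = !![1, 0, 0; 0, 1, 0; r, 0, 1] := rfl
theorem coe_m32 (r : F) : (↑₃(m32 r)) = !![1, 0, 0; 0, 1, 0; 0, r, 1] := rfl

theorem cM_m23 (r : F) : cM * m23 r = m31 r * cM := by
  apply Matrix.SpecialLinearGroup.ext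
  intro i j
  show (↑₃(cM * m23 r)) i j = (↑₃(m31 r * cM)) i j
  fin_cases i <;> fin_cases j <;>
    simp [coe_cM, coe_m23, coe_m31, Matrix.mul_apply, Fin.sum_univ_three]

theorem cM_m21 (r : F) : cM * m21 r = m32 r * cM := by
  apply Matrix.SpecialLinearGroup.ext
  intro i j
  show (↑₃(cM * m21 r)) i j = (↑₃(m32 r * cM)) i j
  fin_cases i <;> fin_cases j <;>
    simp [coe_cM, coe_m21, coe_m32, Matrix.mul_apply, Fin.sum_univ_three]

theorem m12_eq (r : F) : m12 r = iota (xS r) := by rw [← std_x0]; rfl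
theorem m21_eq (r : F) : m21 r = iota (yS r) := by rw [← std_y0]; rfl

theorem transvection_mem (S : Subgroup (SpecialLinearGroup (Fin 3) F))
    (hι : ∀ g, iota g ∈ S) (hc : (cM : SpecialLinearGroup (Fin 3) F) ∈ S)
    (i j : Fin 3) (h : i ≠ j) (r : F) : SpecialLinearGroup.transvection h r ∈ S := by
  have h12 : ∀ r, m12 r ∈ S := fun r => by rw [m12_eq]; exact hι _
  have h21 : ∀ r, m21 r ∈ S := fun r => by rw [m21_eq]; exact hι _
  have h23 : ∀ r, m23 r ∈ S := fun r => by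
    have : m23 r = cM * m12 r * cM⁻¹ := by rw [cM_m12]; group
    rw [this]; exact mul_mem (mul_mem hc (h12 r)) (inv_mem hc)
  have h13 : ∀ r, m13 r ∈ S := fun r => by
    have : m13 r = cM⁻¹ * m21 r * cM := by rw [mul_assoc, ← cM_m13]; group
    rw [this]; exact mul_mem (mul_mem (inv_mem hc) (h21 r)) hc
  have h31 : ∀ r, m31 r ∈ S := fun r => by
    have : m31 r = cM * m23 r * cM⁻¹ := by rw [cM_m23]; group
    rw [this]; exact mul_mem (mul_mem hc (h23 r)) (inv_mem hc)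
  have h32 : ∀ r, m32 r ∈ S := fun r => by
    have : m32 r = cM * m21 r * cM⁻¹ := by rw [cM_m21]; group
    rw [this]; exact mul_mem (mul_mem hc (h21 r)) (inv_mem hc)
  have key : ∀ (m : F → SpecialLinearGroup (Fin 3) F), (∀ r, m r ∈ S) →
      (∀ a b, (↑₃(m r)) a b = (1 + Matrix.single i j r : Matrix (Fin 3) (Fin 3) F) a b) →
      SpecialLinearGroup.transvection h r ∈ S := by
    intro m hm he
    have : SpecialLinearGroup.transvection h r = m r := by
      apply Matrix.SpecialLinearGroup.ext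
      intro a b
      rw [he]; rfl
    rw [this]; exact hm r
  fin_cases i <;> fin_cases j
  · exact absurd rfl h
  · refine key m12 h12 ?_
    intro a b
    fin_cases a <;> fin_cases b <;> simp [coe_m12]
  · refine key m13 h13 ?_
    intro a b
    fin_cases a <;> fin_cases b <;> simp [coe_m13]
  · refine key m21 h21 ?_
    intro a b
    fin_cases a <;> fin_cases b <;> simp [coe_m21]
  · exact absurd rfl h
  · refine key m23 h23 ?_
    intro a b
    fin_cases a <;> fin_cases b <;> simp [coe_m23]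
  · refine key m31 h31 ?_
    intro a b
    fin_cases a <;> fin_cases b <;> simp [coe_m31]
  · refine key m32 h32 ?_
    intro a b
    fin_cases a <;> fin_cases b <;> simp [coe_m32]
  · exact absurd rfl h

theorem closure_iota_cM :
    Subgroup.closure (Set.range (iota (F := F)) ∪ {cM}) = ⊤ := by
  rw [eq_top_iff]
  intro g _
  set S := Subgroup.closure (Set.range (iota (F := F)) ∪ {cM})
  have hι : ∀ g, iota g ∈ S := fun g => Subgroup.subset_closure (Or.inl ⟨g, rfl⟩)
  have hc : (cM : SpecialLinearGroup (Fin 3) F) ∈ S := Subgroup.subset_closure (Or.inr rfl)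
  exact Cfsg.Agent.Lib.Helper2.sl_transvection_induction (fun g => g ∈ S)
    (fun i j h c => transvection_mem S hι hc i j h c) (fun A B hA hB => mul_mem hA hB) g

end Mat

section Card

variable {F : Type*} [Field F] [Fintype F]

theorem card_SL3_eq :
    Nat.card (SpecialLinearGroup (Fin 3) F) =
      Nat.card (Option (F ⊕ F × F)) * Nat.card (F × F × SpecialLinearGroup (Fin 2) F × Fˣ) := by
  classical
  have h2 := Cfsg.Agent.Lib.Helper2.card_SL_field (F := F) 2 (by norm_num)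
  have h3 := Cfsg.Agent.Lib.Helper2.card_SL_field (F := F) 3 (by norm_num)
  have hu := Cfsg.Agent.Lib.Helper2.card_units_field (F := F)
  rw [Fin.prod_univ_two] at h2
  rw [Fin.prod_univ_three] at h3
  simp only [Fin.val_zero, Fin.val_one, Fin.val_two, pow_zero, pow_one] at h2 h3
  have hq : 1 < Fintype.card F := Fintype.one_lt_card
  set q := Fintype.card F with hq_def
  have hopt : Nat.card (Option (F ⊕ F × F)) = q + q * q + 1 := by
    rw [Nat.card_eq_fintype_card, Fintype.card_option, Fintype.card_sum, Fintype.card_prod]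
  rw [hopt, Nat.card_prod, Nat.card_prod, Nat.card_prod, hu, Nat.card_eq_fintype_card (α := F), ← hq_def]
  set a := Nat.card (SpecialLinearGroup (Fin 2) F)
  set b := Nat.card (SpecialLinearGroup (Fin 3) F)
  obtain ⟨k, hk⟩ : ∃ k, q = k + 2 := ⟨q - 2, by omega⟩
  rw [hk] at h2 h3 ⊢
  have e1 : k + 2 - 1 = k + 1 := by omega
  have e2 : (k + 2) ^ 2 - 1 = (k + 1) * (k + 3) := by
    apply Nat.sub_eq_of_eq_add; ring
  have e3 : (k + 2) ^ 2 - (k + 2) = (k + 2) * (k + 1) := by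
    apply Nat.sub_eq_of_eq_add; ring
  have e4 : (k + 2) ^ 3 - 1 = (k + 1) * ((k + 2) + (k + 2) * (k + 2) + 1) := by
    apply Nat.sub_eq_of_eq_add; ring
  have e5 : (k + 2) ^ 3 - (k + 2) = (k + 2) * ((k + 1) * (k + 3)) := by
    apply Nat.sub_eq_of_eq_add; ring
  have e6 : (k + 2) ^ 3 - (k + 2) ^ 2 = (k + 2) * (k + 2) * (k + 1) := by
    apply Nat.sub_eq_of_eq_add; ring
  rw [e1, e2, e3] at h2
  rw [e1, e4, e5, e6] at h3
  rw [e1]
  have hk1 : 0 < k + 1 := by omega
  apply Nat.eq_of_mul_eq_mul_left hk1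
  rw [h3]
  have h2' : a = (k + 3) * ((k + 2) * (k + 1)) := by
    apply Nat.eq_of_mul_eq_mul_left hk1
    rw [h2]; ring
  rw [h2']
  ring

end Card

end Cfsg.Agent.Lib.Helper11.Pres3
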