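import Mathlib
import Cfsg.Agent.Lib.Helper11.Pres2I
import Cfsg.Agent.Lib.Helper11.Pres3C
import Cfsg.Agent.Lib.Helper11.Pres3E
import Cfsg.Agent.Lib.Helper11.Pres3F

set_option autoImplicit false

namespace Cfsg.Agent.Lib.Helper11.Pres3

open Polynomial Cfsg.Agent.Lib.Helper11.SL2Hom Cfsg.Agent.Lib.Helper11.Pres2 Matrix

section Free

/-- the embedding of the free group on three generators into the free group on four -/
def emb : FreeGroup (Fin 3) →* FreeGroup (Fin 4) := FreeGroup.map Fin.castSucc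

theorem lift_emb {G : Type*} [Group G] (u t h c : G) (r : FreeGroup (Fin 3)) :
    FreeGroup.lift ![u, t, h, c] (emb r) = FreeGroup.lift ![u, t, h] r := by
  have : (FreeGroup.lift ![u, t, h, c]).comp emb = FreeGroup.lift ![u, t, h] := by
    apply FreeGroup.ext_hom
    intro i
    rw [MonoidHom.comp_apply]
    unfold emb
    rw [FreeGroup.map.of, FreeGroup.lift_apply_of, FreeGroup.lift_apply_of]
    fin_cases i <;> rfl
  rw [← this]; rfl

/-- the four generators of the free group -/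
def gu : FreeGroup (Fin 4) := FreeGroup.of 0
/-- second generator -/
def gt : FreeGroup (Fin 4) := FreeGroup.of 1
/-- third generator -/
def gh : FreeGroup (Fin 4) := FreeGroup.of 2
/-- fourth generator -/
def gc : FreeGroup (Fin 4) := FreeGroup.of 3

theorem lift_gu {G : Type*} [Group G] (u t h c : G) : FreeGroup.lift ![u, t, h, c] gu = u := by
  unfold gu; rw [FreeGroup.lift_apply_of]; rfl
theorem lift_gt {G : Type*} [Group G] (u t h c : G) : FreeGroup.lift ![u, t, h, c] gt = t := by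
  unfold gt; rw [FreeGroup.lift_apply_of]; rfl
theorem lift_gh {G : Type*} [Group G] (u t h c : G) : FreeGroup.lift ![u, t, h, c] gh = h := by
  unfold gh; rw [FreeGroup.lift_apply_of]; rfl
theorem lift_gc {G : Type*} [Group G] (u t h c : G) : FreeGroup.lift ![u, t, h, c] gc = c := by
  unfold gc; rw [FreeGroup.lift_apply_of]; rfl

theorem emb_fu : emb fu = gu := by unfold emb fu gu; rw [FreeGroup.map.of]; rfl
theorem emb_ft : emb ft = gt := by unfold emb ft gt; rw [FreeGroup.map.of]; rfl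
theorem emb_fh : emb fh = gh := by unfold emb fh gh; rw [FreeGroup.map.of]; rfl

theorem lift_comp4 {G H : Type*} [Group G] [Group H] (ρ : G →* H) (u t h c : G) (r : FreeGroup (Fin 4)) :
    FreeGroup.lift ![ρ u, ρ t, ρ h, ρ c] r = ρ (FreeGroup.lift ![u, t, h, c] r) := by
  have : FreeGroup.lift ![ρ u, ρ t, ρ h, ρ c] = ρ.comp (FreeGroup.lift ![u, t, h, c]) := by
    apply FreeGroup.ext_hom
    intro i
    rw [MonoidHom.comp_apply, FreeGroup.lift_apply_of, FreeGroup.lift_apply_of]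
    fin_cases i <;> rfl
  rw [this]; rfl

/-- the five relators tying the three-cycle `c` to the rank one subgroup; `W` is a word for `x₁₂(ζ⁻¹)` -/
def extraRels (W : FreeGroup (Fin 4)) : List (FreeGroup (Fin 4)) :=
  [gc * gc * gc, gt * gc⁻¹ * (gt * gc⁻¹),
   (gh * (gc * gh * gc⁻¹)) * ((gc * gh * gc⁻¹) * gh)⁻¹,
   (gh * (gc * gu * gc⁻¹) * gh⁻¹) * (gc * W * gc⁻¹)⁻¹,
   ((gc * gh * gc⁻¹) * gu * (gc * gh * gc⁻¹)⁻¹) * W⁻¹]

/-- the five extra relations -/
structure ExtraRel {G : Type*} [Group G] (u t h c W : G) : Prop where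
  c3 : c * c * c = 1
  nrel : t * c⁻¹ * (t * c⁻¹) = 1
  e4 : h * (c * h * c⁻¹) = (c * h * c⁻¹) * h
  f1 : h * (c * u * c⁻¹) * h⁻¹ = c * W * c⁻¹
  f2 : (c * h * c⁻¹) * u * (c * h * c⁻¹)⁻¹ = W

theorem extraRels_iff {G : Type*} [Group G] (u t h c : G) (W : FreeGroup (Fin 4)) :
    (∀ r ∈ extraRels W, FreeGroup.lift ![u, t, h, c] r = 1) ↔
      ExtraRel u t h c (FreeGroup.lift ![u, t, h, c] W) := by
  unfold extraRels
  simp only [List.forall_mem_cons, List.not_mem_nil, false_imp_iff, implies_true, and_true, map_mul,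
    map_inv, lift_gu, lift_gt, lift_gh, lift_gc, mul_inv_eq_one]
  exact ⟨fun ⟨a, b, c, d, e⟩ => ⟨a, b, c, d, e⟩, fun R => ⟨R.c3, R.nrel, R.e4, R.f1, R.f2⟩⟩

/-- the Steinberg commutator relator `[x₁₂(1), x₂₃(a)] = x₁₃(a)`, where `U` is a word for `x₁₂(a)` -/
def stRel (U : FreeGroup (Fin 4)) : FreeGroup (Fin 4) :=
  (gu * (gc * U * gc⁻¹)) * ((gc⁻¹ * (gt * U⁻¹ * gt⁻¹) * gc) * (gc * U * gc⁻¹) * gu)⁻¹

theorem lift_stRel {G : Type*} [Group G] (u t h c : G) (U : FreeGroup (Fin 4)) :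
    FreeGroup.lift ![u, t, h, c] (stRel U) = 1 ↔
      u * (c * FreeGroup.lift ![u, t, h, c] U * c⁻¹) =
        (c⁻¹ * (t * (FreeGroup.lift ![u, t, h, c] U)⁻¹ * t⁻¹) * c) *
          (c * FreeGroup.lift ![u, t, h, c] U * c⁻¹) * u := by
  unfold stRel
  simp only [map_mul, map_inv, lift_gu, lift_gt, lift_gc, mul_inv_eq_one]

/-- the word for `x₁₃(1)` -/
def yWord : FreeGroup (Fin 4) := gc⁻¹ * (gt * gu⁻¹ * gt⁻¹) * gc

/-- the relator `[x₁₂(1), x₁₃(1)] = 1` -/
def e6rel : FreeGroup (Fin 4) := (gu * yWord) * (yWord * gu)⁻¹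

/-- the relator `[x₂₃(1), x₁₃(1)] = 1` -/
def e7rel : FreeGroup (Fin 4) := ((gc * gu * gc⁻¹) * yWord) * (yWord * (gc * gu * gc⁻¹))⁻¹

theorem lift_e6rel {G : Type*} [Group G] (u t h c : G) :
    FreeGroup.lift ![u, t, h, c] e6rel = 1 ↔
      u * (c⁻¹ * (t * u⁻¹ * t⁻¹) * c) = (c⁻¹ * (t * u⁻¹ * t⁻¹) * c) * u := by
  unfold e6rel yWord
  simp only [map_mul, map_inv, lift_gu, lift_gt, lift_gc, mul_inv_eq_one]

theorem lift_e7rel {G : Type*} [Group G] (u t h c : G) :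
    FreeGroup.lift ![u, t, h, c] e7rel = 1 ↔
      (c * u * c⁻¹) * (c⁻¹ * (t * u⁻¹ * t⁻¹) * c) = (c⁻¹ * (t * u⁻¹ * t⁻¹) * c) * (c * u * c⁻¹) := by
  unfold e7rel yWord
  simp only [map_mul, map_inv, lift_gu, lift_gt, lift_gc, mul_inv_eq_one]

end Free

namespace A2Data

variable {F : Type*} [Field F] {Γ : Type*} [Group Γ] (D : A2Data F Γ)

theorem y2_eq_word (a : F) : D.y2 a = D.c⁻¹ * (D.t * (D.x0 a)⁻¹ * D.t⁻¹) * D.c := by
  unfold y2
  rw [y0_eq_t, x0_inv]

/-- the Steinberg relation in terms of words -/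
theorem st_iff (a : F) :
    D.x0 1 * (D.c * D.x0 a * D.c⁻¹) =
        (D.c⁻¹ * (D.t * (D.x0 a)⁻¹ * D.t⁻¹) * D.c) * (D.c * D.x0 a * D.c⁻¹) * D.x0 1 ↔
      D.x0 1 * D.x1 a = D.y2 a * D.x1 a * D.x0 1 := by
  rw [y2_eq_word]; rfl

theorem e6_iff :
    D.x0 1 * (D.c⁻¹ * (D.t * (D.x0 1)⁻¹ * D.t⁻¹) * D.c) =
        (D.c⁻¹ * (D.t * (D.x0 1)⁻¹ * D.t⁻¹) * D.c) * D.x0 1 ↔ Commute (D.x0 1) (D.y2 1) := by
  rw [y2_eq_word]; rfl

theorem e7_iff :
    (D.c * D.x0 1 * D.c⁻¹) * (D.c⁻¹ * (D.t * (D.x0 1)⁻¹ * D.t⁻¹) * D.c) =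
        (D.c⁻¹ * (D.t * (D.x0 1)⁻¹ * D.t⁻¹) * D.c) * (D.c * D.x0 1 * D.c⁻¹) ↔
      Commute (D.x1 1) (D.y2 1) := by
  rw [y2_eq_word]; rfl

end A2Data

section ELists

/-- conjugates of `u` by powers of `h` -/
def UW (k : ℕ) : FreeGroup (Fin 4) := gh ^ k * gu * (gh ^ k)⁻¹

/-- the Steinberg relator for odd `q` -/
def oddE : List (FreeGroup (Fin 4)) := [stRel gu]

/-- the Steinberg relators for even `q ≥ 4` -/
def evenE (k : ℕ) : List (FreeGroup (Fin 4)) := [stRel (UW 0), stRel (UW k), stRel (UW (2 * k))]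

/-- the Steinberg relators for `q = 2` -/
def twoE : List (FreeGroup (Fin 4)) := [stRel gu, e6rel, e7rel]

namespace A2Data

variable {F : Type*} [Field F] {Γ : Type*} [Group Γ] (D : A2Data F Γ)

theorem lift_stRel_iff (s : Fˣ) (U : FreeGroup (Fin 4)) (a : F)
    (hU : FreeGroup.lift ![D.x0 1, D.t, D.h0 s, D.c] U = D.x0 a) :
    FreeGroup.lift ![D.x0 1, D.t, D.h0 s, D.c] (stRel U) = 1 ↔
      D.x0 1 * D.x1 a = D.y2 a * D.x1 a * D.x0 1 := by
  rw [lift_stRel, hU, st_iff]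

theorem lift_e6rel_iff (s : Fˣ) :
    FreeGroup.lift ![D.x0 1, D.t, D.h0 s, D.c] e6rel = 1 ↔ Commute (D.x0 1) (D.y2 1) := by
  rw [lift_e6rel, e6_iff]

theorem lift_e7rel_iff (s : Fˣ) :
    FreeGroup.lift ![D.x0 1, D.t, D.h0 s, D.c] e7rel = 1 ↔ Commute (D.x1 1) (D.y2 1) := by
  rw [lift_e7rel, e7_iff]

theorem lift_UW (s : Fˣ) (k : ℕ) :
    FreeGroup.lift ![D.x0 1, D.t, D.h0 s, D.c] (UW k) = D.x0 (((s ^ k : Fˣ) : F) ^ 2) := by
  unfold UW
  rw [map_mul, map_mul, map_inv, map_pow, lift_gh, lift_gu, ← h0_pow, h0_x0, mul_one]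

theorem e5_one {a : F} (e5 : ∀ r r', D.x0 r * D.x1 r' = D.y2 (r * r') * D.x1 r' * D.x0 r) :
    D.x0 1 * D.x1 a = D.y2 a * D.x1 a * D.x0 1 := by
  have := e5 1 a
  rwa [one_mul] at this

theorem oddE_of (e5 : ∀ r r', D.x0 r * D.x1 r' = D.y2 (r * r') * D.x1 r' * D.x0 r) (s : Fˣ) :
    ∀ r ∈ oddE, FreeGroup.lift ![D.x0 1, D.t, D.h0 s, D.c] r = 1 := by
  unfold oddE
  simp only [List.forall_mem_cons, List.not_mem_nil, false_imp_iff, implies_true, and_true]
  exact (D.lift_stRel_iff s gu 1 (lift_gu _ _ _ _)).mpr (D.e5_one e5)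

theorem evenE_of (e5 : ∀ r r', D.x0 r * D.x1 r' = D.y2 (r * r') * D.x1 r' * D.x0 r) (s : Fˣ) (k : ℕ) :
    ∀ r ∈ evenE k, FreeGroup.lift ![D.x0 1, D.t, D.h0 s, D.c] r = 1 := by
  unfold evenE
  simp only [List.forall_mem_cons, List.not_mem_nil, false_imp_iff, implies_true, and_true]
  exact ⟨(D.lift_stRel_iff s _ _ (D.lift_UW s _)).mpr (D.e5_one e5),
    (D.lift_stRel_iff s _ _ (D.lift_UW s _)).mpr (D.e5_one e5),
    (D.lift_stRel_iff s _ _ (D.lift_UW s _)).mpr (D.e5_one e5)⟩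

theorem twoE_of (e5 : ∀ r r', D.x0 r * D.x1 r' = D.y2 (r * r') * D.x1 r' * D.x0 r)
    (e6 : ∀ r r', Commute (D.x0 r) (D.y2 r')) (e7 : ∀ r r', Commute (D.x1 r) (D.y2 r')) (s : Fˣ) :
    ∀ r ∈ twoE, FreeGroup.lift ![D.x0 1, D.t, D.h0 s, D.c] r = 1 := by
  unfold twoE
  simp only [List.forall_mem_cons, List.not_mem_nil, false_imp_iff, implies_true, and_true]
  exact ⟨(D.lift_stRel_iff s gu 1 (lift_gu _ _ _ _)).mpr (D.e5_one e5),
    (D.lift_e6rel_iff s).mpr (e6 1 1), (D.lift_e7rel_iff s).mpr (e7 1 1)⟩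

variable {D}

theorem full_of_oddE [Finite F] {ζ : Fˣ} (hT : D.Torus ζ) (h2 : (2 : F) ≠ 0)
    (hall : ∀ r ∈ oddE, FreeGroup.lift ![D.x0 1, D.t, D.h0 ζ, D.c] r = 1) : D.Full := by
  apply hT.full_odd h2
  exact (D.lift_stRel_iff ζ gu 1 (lift_gu _ _ _ _)).mp (hall _ (by simp [oddE]))

theorem full_of_evenE [Finite F] {ζ : Fˣ} (hT : D.Torus ζ) (hF : 3 < Nat.card F) (k : ℕ)
    (hk : ∀ i : ℕ, (((ζ ^ (i * k) : Fˣ) : F)) ^ 2 = (ζ : F) ^ i)
    (hall : ∀ r ∈ evenE k, FreeGroup.lift ![D.x0 1, D.t, D.h0 ζ, D.c] r = 1) : D.Full := by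
  apply hT.full_of_units (exists_unit_add_ne hF)
  apply hT.e5_units
  intro i hi
  have h0 := (D.lift_stRel_iff ζ _ _ (D.lift_UW ζ _)).mp (hall (stRel (UW 0)) (by simp [evenE]))
  have h1 := (D.lift_stRel_iff ζ _ _ (D.lift_UW ζ _)).mp (hall (stRel (UW k)) (by simp [evenE]))
  have h2 := (D.lift_stRel_iff ζ _ _ (D.lift_UW ζ _)).mp (hall (stRel (UW (2 * k))) (by simp [evenE]))
  have k0 := hk 0
  have k1 := hk 1
  have k2 := hk 2
  rw [zero_mul] at k0
  rw [one_mul] at k1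
  rw [k0] at h0
  rw [k1] at h1
  rw [k2] at h2
  interval_cases i
  · exact h0
  · exact h1
  · exact h2

theorem full_of_twoE [Finite F] (hF : Nat.card F = 2) (s : Fˣ)
    (hall : ∀ r ∈ twoE, FreeGroup.lift ![D.x0 1, D.t, D.h0 s, D.c] r = 1) : D.Full := by
  apply full_two hF
  · exact (D.lift_stRel_iff s gu 1 (lift_gu _ _ _ _)).mp (hall _ (by simp [twoE]))
  · exact (D.lift_e6rel_iff s).mp (hall _ (by simp [twoE]))
  · exact (D.lift_e7rel_iff s).mp (hall _ (by simp [twoE]))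

end A2Data

end ELists

section Main

variable {F : Type*} [Field F] [Fintype F]

/-- the `A₂` data from torus data and an element `c` -/
noncomputable def ofTorus {Γ : Type*} [Group Γ] (T : TorusData F Γ) (c : Γ) (c3 : c * c * c = 1)
    (nrel : T.t * c⁻¹ * (T.t * c⁻¹) = 1) : A2Data F Γ where
  φ := T.hom
  c := c
  c3 := c3
  nrel := by rw [T.hom_wS]; exact nrel

section OfTorus

variable {Γ : Type*} [Group Γ] (T : TorusData F Γ) (c : Γ) (c3 : c * c * c = 1)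
  (nrel : T.t * c⁻¹ * (T.t * c⁻¹) = 1)

theorem ofTorus_x0 (r : F) : (ofTorus T c c3 nrel).x0 r = T.x r := T.hom_xS r

theorem ofTorus_t : (ofTorus T c c3 nrel).t = T.t := T.hom_wS

theorem ofTorus_h0 : (ofTorus T c c3 nrel).h0 (Units.mk0 T.ζ T.hζ) = T.h := T.hom_hS

theorem ofTorus_c : (ofTorus T c c3 nrel).c = c := rfl

theorem ofTorus_torus (R : ExtraRel (T.x 1) T.t T.h c (T.x T.ζ⁻¹)) :
    (ofTorus T c R.c3 R.nrel).Torus (Units.mk0 T.ζ T.hζ) where
  hgen := by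
    intro s
    obtain ⟨n, hn⟩ := T.hgenζ (s : F) s.ne_zero
    refine ⟨n, Units.ext ?_⟩
    rw [Units.val_pow_eq_pow_val, Units.val_mk0]
    exact hn
  e4 := by
    unfold A2Data.h1
    rw [ofTorus_h0, ofTorus_c]
    exact R.e4
  f1 := by
    unfold A2Data.x1
    rw [ofTorus_h0, ofTorus_c, ofTorus_x0, ofTorus_x0, Units.val_mk0]
    exact R.f1
  f2 := by
    unfold A2Data.h1
    rw [ofTorus_h0, ofTorus_c, ofTorus_x0, ofTorus_x0, Units.val_mk0]
    exact R.f2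

end OfTorus


omit [Fintype F] in
/-- the extra relations hold in `SL₃(F)` -/
theorem extra_SL (ζ : F) (hζ : ζ ≠ 0) :
    ExtraRel (iota (xS 1)) (iota wS) (iota (hS ζ hζ)) (cM : SpecialLinearGroup (Fin 3) F)
      (iota (xS ζ⁻¹)) where
  c3 := cM_cube
  nrel := (std (F := F)).nrel
  e4 := (std_e4 (Units.mk0 ζ hζ) (Units.mk0 ζ hζ)).eq
  f1 := by
    have := std_f1 (Units.mk0 ζ hζ) (1 : F)
    rw [Units.val_mk0, mul_one] at this
    exact this
  f2 := by
    have := std_f2 (Units.mk0 ζ hζ) (1 : F)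
    rw [Units.val_mk0, mul_one] at this
    exact this

theorem range_of_fin4 (rels : Set (FreeGroup (Fin 4))) :
    Set.range (PresentedGroup.of : Fin 4 → PresentedGroup rels) =
      {PresentedGroup.of 0, PresentedGroup.of 1, PresentedGroup.of 2, PresentedGroup.of 3} := by
  ext g
  constructor
  · rintro ⟨i, rfl⟩
    fin_cases i
    · exact Or.inl rfl
    · exact Or.inr (Or.inl rfl)
    · exact Or.inr (Or.inr (Or.inl rfl))
    · exact Or.inr (Or.inr (Or.inr rfl))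
  · rintro (rfl | rfl | rfl | rfl)
    · exact ⟨0, rfl⟩
    · exact ⟨1, rfl⟩
    · exact ⟨2, rfl⟩
    · exact ⟨3, rfl⟩

theorem pres3_main (p : ℕ) [Fact p.Prime] [Algebra (ZMod p) F]
    (rels : Set (FreeGroup (Fin 4))) (T : TorusData F (PresentedGroup rels))
    (hgen : ∀ a : F, ∃ f : (ZMod p)[X], aeval (T.ζ ^ 2) f = a)
    (hu : T.x 1 = PresentedGroup.of 0) (ht : T.t = PresentedGroup.of 1) (hh : T.h = PresentedGroup.of 2)
    (R : ExtraRel (T.x 1) T.t T.h (PresentedGroup.of 3 : PresentedGroup rels) (T.x T.ζ⁻¹))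
    (hFull : (ofTorus T _ R.c3 R.nrel).Full)
    (hrel : ∀ r ∈ rels, FreeGroup.lift ![iota (xS 1), iota wS, iota (hS T.ζ T.hζ),
      (cM : SpecialLinearGroup (Fin 3) F)] r = 1) :
    Nonempty (PresentedGroup rels ≃* SpecialLinearGroup (Fin 3) F) := by
  classical
  set D := ofTorus T _ R.c3 R.nrel with hD
  set ψ : PresentedGroup rels →* SpecialLinearGroup (Fin 3) F := PresentedGroup.toGroup hrel with hψ
  have hψu : ψ (T.x 1) = iota (xS 1) := by rw [hu, hψ, PresentedGroup.toGroup.of]; rfl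
  have hψt : ψ T.t = iota wS := by rw [ht, hψ, PresentedGroup.toGroup.of]; rfl
  have hψh : ψ T.h = iota (hS T.ζ T.hζ) := by rw [hh, hψ, PresentedGroup.toGroup.of]; rfl
  have hψc : ψ (PresentedGroup.of 3) = cM := by rw [hψ, PresentedGroup.toGroup.of]; rfl
  -- ψ ∘ x = iota ∘ xS
  have hψx : ∀ a, ψ (T.x a) = iota (xS a) := by
    have := x_unique p (iota (hS T.ζ T.hζ)) (T.ζ ^ 2) hgen (fun a => ψ (T.x a)) (fun a => iota (xS a))
      (fun a b => by rw [T.x_add, map_mul]) (fun a b => by rw [xS_add, map_mul])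
      (fun a => by rw [← T.h_x, map_mul, map_mul, map_inv, hψh])
      (fun a => by rw [← hS_conj_xS T.ζ T.hζ a, map_mul, map_mul, map_inv])
      hψu
    exact fun a => congrFun this a
  have h1 : ψ.comp T.hom = iota := by
    apply MonoidHom.eq_of_eqOn_dense (closure_xS_yS (F := F))
    rintro g (⟨a, rfl⟩ | ⟨a, rfl⟩)
    · show ψ (T.hom (xS a)) = iota (xS a)
      rw [T.hom_xS, hψx]
    · show ψ (T.hom (yS a)) = iota (yS a)
      rw [T.hom_yS]
      unfold TorusBase.y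
      rw [map_mul, map_mul, map_inv, hψt, hψx, ← map_inv, ← map_mul, ← map_mul, wS_conj_xS, neg_neg]
  -- surjectivity
  have hsurj : Function.Surjective ψ := by
    rw [← MonoidHom.range_eq_top, eq_top_iff, ← closure_iota_cM, Subgroup.closure_le]
    rintro g (⟨s, rfl⟩ | rfl)
    · exact ⟨T.hom s, congrFun (congrArg DFunLike.coe h1) s⟩
    · exact ⟨PresentedGroup.of 3, hψc⟩
  -- generation
  have hgenΓ : Subgroup.closure (Set.range D.φ ∪ {D.c}) = ⊤ := by
    rw [eq_top_iff, ← PresentedGroup.closure_range_of rels, Subgroup.closure_le, range_of_fin4]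
    rintro g (rfl | rfl | rfl | rfl)
    · apply Subgroup.subset_closure
      left
      exact ⟨xS 1, by rw [← hu]; exact T.hom_xS 1⟩
    · apply Subgroup.subset_closure
      left
      exact ⟨wS, by rw [← ht]; exact T.hom_wS⟩
    · apply Subgroup.subset_closure
      left
      exact ⟨hS T.ζ T.hζ, by rw [← hh]; exact T.hom_hS⟩
    · apply Subgroup.subset_closure
      right
      rfl
  obtain ⟨hfin, hcard⟩ := hFull.finite_and_card hgenΓ
  rw [← card_SL3_eq] at hcard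
  exact ⟨MulEquiv.ofBijective ψ (hsurj.bijective_of_nat_card_le hcard)⟩

/-- relators hold in the presented group -/
theorem pres_lift_eq_one (L : List (FreeGroup (Fin 4))) (r : FreeGroup (Fin 4)) (hr : r ∈ L) :
    FreeGroup.lift ![(PresentedGroup.of 0 : PresentedGroup (↑L.toFinset : Set (FreeGroup (Fin 4)))),
      PresentedGroup.of 1, PresentedGroup.of 2, PresentedGroup.of 3] r = 1 := by
  have h1 : FreeGroup.lift ![(PresentedGroup.of 0 : PresentedGroup (↑L.toFinset : Set (FreeGroup (Fin 4)))),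
      PresentedGroup.of 1, PresentedGroup.of 2, PresentedGroup.of 3] = PresentedGroup.mk _ := by
    apply FreeGroup.ext_hom
    intro i
    rw [FreeGroup.lift_apply_of]
    fin_cases i <;> rfl
  rw [h1]
  apply PresentedGroup.one_of_mem
  rw [Finset.mem_coe, List.mem_toFinset]
  exact hr

/-- the main assembly: relators for `SL₂(F)` on `(u, t, h)`, the five extra relators, and a list `E`
of relators which forces the remaining relations -/
theorem pres3_gen (p : ℕ) [Fact p.Prime] [Algebra (ZMod p) F] (ζ : F) (hζ : ζ ≠ 0)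
    (hgen : ∀ a : F, ∃ f : (ZMod p)[X], aeval (ζ ^ 2) f = a)
    (L3 : List (FreeGroup (Fin 3)))
    (hSL : ∀ r ∈ L3, FreeGroup.lift ![(xS 1 : SpecialLinearGroup (Fin 2) F), wS, hS ζ hζ] r = 1)
    (hD : ∀ (Γ : Type) [Group Γ] (u t h : Γ), (∀ r ∈ L3, FreeGroup.lift ![u, t, h] r = 1) →
      ∃ D : TorusData F Γ, D.x 1 = u ∧ D.t = t ∧ D.h = h ∧ D.ζ = ζ)
    (W3 : FreeGroup (Fin 3))
    (hW : FreeGroup.lift ![(xS 1 : SpecialLinearGroup (Fin 2) F), wS, hS ζ hζ] W3 = xS ζ⁻¹)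
    (E : List (FreeGroup (Fin 4)))
    (hE_SL : ∀ r ∈ E, FreeGroup.lift ![iota (xS 1), iota wS, iota (hS ζ hζ),
      (cM : SpecialLinearGroup (Fin 3) F)] r = 1)
    (hE : ∀ (Γ : Type) [Group Γ] (D : A2Data F Γ), D.Torus (Units.mk0 ζ hζ) →
      (∀ r ∈ E, FreeGroup.lift ![D.x0 1, D.t, D.h0 (Units.mk0 ζ hζ), D.c] r = 1) → D.Full) :
    Nonempty (PresentedGroup (↑(L3.map emb ++ extraRels (emb W3) ++ E).toFinset : Set (FreeGroup (Fin 4))) ≃*
      SpecialLinearGroup (Fin 3) F) := by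
  set L := L3.map emb ++ extraRels (emb W3) ++ E with hL
  have hall := pres_lift_eq_one L
  have hall3 : ∀ r ∈ L3, FreeGroup.lift ![(PresentedGroup.of 0 : PresentedGroup (↑L.toFinset : Set (FreeGroup (Fin 4)))),
      PresentedGroup.of 1, PresentedGroup.of 2] r = 1 := by
    intro r hr
    rw [← lift_emb _ _ _ (PresentedGroup.of 3)]
    apply hall
    rw [hL]
    exact List.mem_append_left _ (List.mem_append_left _ (List.mem_map_of_mem hr))
  obtain ⟨T, hu, ht, hh, hz⟩ := hD _ _ _ _ hall3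
  subst hz
  -- the word `W`
  have hWΓ : FreeGroup.lift ![(PresentedGroup.of 0 : PresentedGroup (↑L.toFinset : Set (FreeGroup (Fin 4)))),
      PresentedGroup.of 1, PresentedGroup.of 2, PresentedGroup.of 3] (emb W3) = T.x T.ζ⁻¹ := by
    rw [lift_emb, ← hu, ← ht, ← hh, ← T.hom_xS 1, ← T.hom_wS, ← T.hom_hS, lift_comp, hW, T.hom_xS]
  have hR : ExtraRel (T.x 1) T.t T.h
      (PresentedGroup.of 3 : PresentedGroup (↑L.toFinset : Set (FreeGroup (Fin 4)))) (T.x T.ζ⁻¹) := by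
    rw [← hWΓ, hu, ht, hh, ← extraRels_iff]
    intro r hr
    apply hall
    rw [hL]
    exact List.mem_append_left _ (List.mem_append_right _ hr)
  have hFull : (ofTorus T _ hR.c3 hR.nrel).Full := by
    apply hE _ _ (ofTorus_torus T _ hR)
    intro r hr
    rw [ofTorus_x0, ofTorus_t, ofTorus_h0, ofTorus_c, hu, ht, hh]
    apply hall
    rw [hL]
    exact List.mem_append_right _ hr
  refine pres3_main p _ T hgen hu ht hh hR hFull ?_
  intro r hr
  rw [Finset.mem_coe, List.mem_toFinset, hL, List.mem_append, List.mem_append] at hr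
  rcases hr with (hr | hr) | hr
  · obtain ⟨r3, hr3, rfl⟩ := List.mem_map.mp hr
    rw [lift_emb, lift_comp, hSL r3 hr3, map_one]
  · revert r
    rw [extraRels_iff, lift_emb, lift_comp, hW]
    exact extra_SL T.ζ T.hζ
  · exact hE_SL r hr

end Main

end Cfsg.Agent.Lib.Helper11.Pres3
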