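import Mathlib
import Cfsg.Agent.Lib.Helper11.Pres3A

set_option autoImplicit false

namespace Cfsg.Agent.Lib.Helper11.Pres4

open Cfsg.Agent.Lib.Helper11.SL2Hom Cfsg.Agent.Lib.Helper11.Pres2 Cfsg.Agent.Lib.Helper11.Pres3 Matrix

section SL2

variable {K : Type*} [Field K]

local notation:1024 "↑ₘ" A:1024 => ((A : SpecialLinearGroup (Fin 2) K) : Matrix (Fin 2) (Fin 2) K)

/-- Bruhat decomposition of `SL₂` -/
theorem bruhat (g : SpecialLinearGroup (Fin 2) K) :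
    (∃ (a : K) (μ : Kˣ), g = xS a * hU μ) ∨ (∃ (a : K) (μ : Kˣ) (b : K), g = xS a * wS * hU μ * xS b) := by
  by_cases hc : (↑ₘg) 1 0 = 0
  · left
    have ha : (↑ₘg) 0 0 ≠ 0 := by
      intro h0
      have := det_eq g
      rw [hc, h0] at this
      simp at this
    exact ⟨_, Units.mk0 _ ha, RankOneData.eq_of_lower_zero g hc ha⟩
  · right
    exact ⟨_, Units.mk0 _ (neg_ne_zero.mpr hc), _, RankOneData.eq_of_lower_ne_zero g hc⟩

end SL2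

section Hom

variable {F : Type*} [Field F] {Γ : Type*} [Group Γ] (φ : SpecialLinearGroup (Fin 2) F →* Γ)

theorem hom_x_add (a b : F) : φ (xS (a + b)) = φ (xS a) * φ (xS b) := by rw [xS_add, map_mul]
theorem hom_x_zero : φ (xS (0 : F)) = 1 := by rw [xS_zero, map_one]
theorem hom_x_inv (a : F) : (φ (xS a))⁻¹ = φ (xS (-a)) := by rw [← map_inv, xS_inv]
theorem hom_h_mul (s s' : Fˣ) : φ (hU (s * s')) = φ (hU s) * φ (hU s') := by rw [hU_mul, map_mul]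
theorem hom_h_one : φ (hU (1 : Fˣ)) = 1 := by rw [hU_one, map_one]
theorem hom_h_inv (s : Fˣ) : (φ (hU s))⁻¹ = φ (hU s⁻¹) := by rw [← map_inv, hU_inv]
theorem hom_h_pow (s : Fˣ) (n : ℕ) : φ (hU (s ^ n)) = φ (hU s) ^ n := by rw [← hU_pow, map_pow]
theorem hom_h_comm (s s' : Fˣ) : Commute (φ (hU s)) (φ (hU s')) := (hU_comm s s').map φ
theorem hom_w_sq : φ wS * φ wS = φ (hU (-1 : Fˣ)) := by rw [← map_mul, wS_sq]
theorem hom_h_x (s : Fˣ) (r : F) : φ (hU s) * φ (xS r) * (φ (hU s))⁻¹ = φ (xS ((s : F) ^ 2 * r)) := by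
  rw [← map_inv, ← map_mul, ← map_mul, hU_conj_xS]
theorem hom_w_h (s : Fˣ) : φ wS * φ (hU s) * (φ wS)⁻¹ = φ (hU s⁻¹) := by
  rw [← map_inv, ← map_mul, ← map_mul, wS_conj_hU]
theorem hom_winv_h (s : Fˣ) : (φ wS)⁻¹ * φ (hU s) * φ wS = φ (hU s⁻¹) := by
  have := hom_w_h φ s⁻¹
  rw [inv_inv] at this
  rw [← this]; group
theorem hom_hneg_sq : φ (hU (-1 : Fˣ)) * φ (hU (-1 : Fˣ)) = 1 := by
  rw [← hom_h_mul]
  have : (-1 : Fˣ) * (-1) = 1 := by simp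
  rw [this, hom_h_one]
theorem hom_w_inv : (φ wS)⁻¹ = φ (hU (-1 : Fˣ)) * φ wS := by
  rw [← map_inv, wS_inv, map_mul]
theorem hom_w_inv' : (φ wS)⁻¹ = φ wS * φ (hU (-1 : Fˣ)) := by
  rw [inv_eq_iff_mul_eq_one, ← mul_assoc, hom_w_sq, hom_hneg_sq]

end Hom

/-- two images of `SL₂(F)`: the short root `a` and the long root `b` of a root system of type `C₂` -/
structure C2Data (F : Type*) [Field F] (Γ : Type*) [Group Γ] where
  φa : SpecialLinearGroup (Fin 2) F →* Γ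
  φb : SpecialLinearGroup (Fin 2) F →* Γ

namespace C2Data

variable {F : Type*} [Field F] {Γ : Type*} [Group Γ] (D : C2Data F Γ)

/-- root elements for `a` -/
def xa (r : F) : Γ := D.φa (xS r)
/-- root elements for `-a` -/
def ya (r : F) : Γ := D.φa (yS r)
/-- Weyl element for `a` -/
def ta : Γ := D.φa wS
/-- torus elements for `a` -/
def ha (s : Fˣ) : Γ := D.φa (hU s)
/-- root elements for `b` -/
def xb (r : F) : Γ := D.φb (xS r)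
/-- root elements for `-b` -/
def yb (r : F) : Γ := D.φb (yS r)
/-- Weyl element for `b` -/
def tb : Γ := D.φb wS
/-- torus elements for `b` -/
def hb (s : Fˣ) : Γ := D.φb (hU s)
/-- root elements for `a + b` -/
def xab (s : F) : Γ := D.tb * D.xa s * D.tb⁻¹
/-- root elements for `2a + b` -/
def x2 (r : F) : Γ := D.ta * D.xb r * D.ta⁻¹

theorem xa_add (a b : F) : D.xa (a + b) = D.xa a * D.xa b := hom_x_add _ _ _
theorem xa_zero : D.xa 0 = 1 := hom_x_zero _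
theorem xa_inv (a : F) : (D.xa a)⁻¹ = D.xa (-a) := hom_x_inv _ _
theorem xb_add (a b : F) : D.xb (a + b) = D.xb a * D.xb b := hom_x_add _ _ _
theorem xb_zero : D.xb 0 = 1 := hom_x_zero _
theorem xb_inv (a : F) : (D.xb a)⁻¹ = D.xb (-a) := hom_x_inv _ _
theorem xab_add (a b : F) : D.xab (a + b) = D.xab a * D.xab b := by
  unfold xab; rw [xa_add]; group
theorem xab_zero : D.xab 0 = 1 := by unfold xab; rw [xa_zero]; group
theorem xab_inv (a : F) : (D.xab a)⁻¹ = D.xab (-a) := by unfold xab; rw [← xa_inv]; group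
theorem x2_add (a b : F) : D.x2 (a + b) = D.x2 a * D.x2 b := by
  unfold x2; rw [xb_add]; group
theorem x2_zero : D.x2 0 = 1 := by unfold x2; rw [xb_zero]; group
theorem x2_inv (a : F) : (D.x2 a)⁻¹ = D.x2 (-a) := by unfold x2; rw [← xb_inv]; group

theorem ha_mul (s s' : Fˣ) : D.ha (s * s') = D.ha s * D.ha s' := hom_h_mul _ _ _
theorem ha_one : D.ha 1 = 1 := hom_h_one _
theorem ha_inv (s : Fˣ) : (D.ha s)⁻¹ = D.ha s⁻¹ := hom_h_inv _ _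
theorem ha_pow (s : Fˣ) (n : ℕ) : D.ha (s ^ n) = D.ha s ^ n := hom_h_pow _ _ _
theorem hb_mul (s s' : Fˣ) : D.hb (s * s') = D.hb s * D.hb s' := hom_h_mul _ _ _
theorem hb_one : D.hb 1 = 1 := hom_h_one _
theorem hb_inv (s : Fˣ) : (D.hb s)⁻¹ = D.hb s⁻¹ := hom_h_inv _ _
theorem hb_pow (s : Fˣ) (n : ℕ) : D.hb (s ^ n) = D.hb s ^ n := hom_h_pow _ _ _
theorem ha_comm (s s' : Fˣ) : Commute (D.ha s) (D.ha s') := hom_h_comm _ _ _
theorem hb_comm (s s' : Fˣ) : Commute (D.hb s) (D.hb s') := hom_h_comm _ _ _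
theorem ta_sq : D.ta * D.ta = D.ha (-1) := hom_w_sq _
theorem tb_sq : D.tb * D.tb = D.hb (-1) := hom_w_sq _
theorem ha_xa (s : Fˣ) (r : F) : D.ha s * D.xa r * (D.ha s)⁻¹ = D.xa ((s : F) ^ 2 * r) := hom_h_x _ _ _
theorem hb_xb (s : Fˣ) (r : F) : D.hb s * D.xb r * (D.hb s)⁻¹ = D.xb ((s : F) ^ 2 * r) := hom_h_x _ _ _
theorem ta_ha (s : Fˣ) : D.ta * D.ha s * D.ta⁻¹ = D.ha s⁻¹ := hom_w_h _ _
theorem tb_hb (s : Fˣ) : D.tb * D.hb s * D.tb⁻¹ = D.hb s⁻¹ := hom_w_h _ _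
theorem tainv_ha (s : Fˣ) : D.ta⁻¹ * D.ha s * D.ta = D.ha s⁻¹ := hom_winv_h _ _
theorem tbinv_hb (s : Fˣ) : D.tb⁻¹ * D.hb s * D.tb = D.hb s⁻¹ := hom_winv_h _ _
theorem ha_neg_sq : D.ha (-1) * D.ha (-1) = 1 := hom_hneg_sq _
theorem hb_neg_sq : D.hb (-1) * D.hb (-1) = 1 := hom_hneg_sq _
theorem ta_inv : D.ta⁻¹ = D.ha (-1) * D.ta := hom_w_inv _
theorem tb_inv : D.tb⁻¹ = D.hb (-1) * D.tb := hom_w_inv _
theorem ta_inv' : D.ta⁻¹ = D.ta * D.ha (-1) := hom_w_inv' _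
theorem tb_inv' : D.tb⁻¹ = D.tb * D.hb (-1) := hom_w_inv' _

/-- the torus relations (all parameters) -/
structure Tor : Prop where
  ha_hb : ∀ s s' : Fˣ, Commute (D.ha s) (D.hb s')
  hb_xa : ∀ (s : Fˣ) (r : F), D.hb s * D.xa r * (D.hb s)⁻¹ = D.xa ((s : F)⁻¹ * r)
  ha_xb : ∀ (s : Fˣ) (r : F), D.ha s * D.xb r * (D.ha s)⁻¹ = D.xb (((s : F) ^ 2)⁻¹ * r)
  ta_hb : ∀ s : Fˣ, D.ta * D.hb s * D.ta⁻¹ = D.ha s * D.hb s
  tb_ha : ∀ s : Fˣ, D.tb * D.ha s * D.tb⁻¹ = D.ha s * D.hb s * D.hb s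

variable {D}

theorem Tor.tbinv_ha (hT : D.Tor) (s : Fˣ) : D.tb⁻¹ * D.ha s * D.tb = D.ha s * D.hb s * D.hb s := by
  have h1 := hT.tb_ha s
  have c1 := (hT.ha_hb s (-1)).eq
  have c2 := (D.hb_comm s (-1)).eq
  have hn := D.hb_neg_sq
  have hinv : (D.hb (-1))⁻¹ = D.hb (-1) := inv_eq_of_mul_eq_one_right hn
  calc D.tb⁻¹ * D.ha s * D.tb = (D.tb * D.tb)⁻¹ * (D.tb * D.ha s * D.tb⁻¹) * (D.tb * D.tb) := by group
    _ = D.hb (-1) * (D.ha s * D.hb s * D.hb s) * D.hb (-1) := by rw [D.tb_sq, hinv, h1]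
    _ = D.ha s * D.hb s * D.hb s * (D.hb (-1) * D.hb (-1)) := by
        calc D.hb (-1) * (D.ha s * D.hb s * D.hb s) * D.hb (-1)
            = D.hb (-1) * D.ha s * D.hb s * D.hb s * D.hb (-1) := by group
          _ = D.ha s * D.hb (-1) * D.hb s * D.hb s * D.hb (-1) := by rw [← c1]
          _ = D.ha s * (D.hb (-1) * D.hb s) * D.hb s * D.hb (-1) := by group
          _ = D.ha s * (D.hb s * D.hb (-1)) * D.hb s * D.hb (-1) := by rw [← c2]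
          _ = D.ha s * D.hb s * (D.hb (-1) * D.hb s) * D.hb (-1) := by group
          _ = D.ha s * D.hb s * (D.hb s * D.hb (-1)) * D.hb (-1) := by rw [← c2]
          _ = _ := by group
    _ = _ := by rw [hn, mul_one]

theorem Tor.tainv_hb (hT : D.Tor) (s : Fˣ) : D.ta⁻¹ * D.hb s * D.ta = D.ha s * D.hb s := by
  have h1 := hT.ta_hb s
  have c1 := (hT.ha_hb (-1) s).eq
  have c2 := (D.ha_comm (-1) s).eq
  have hn := D.ha_neg_sq
  have hinv : (D.ha (-1))⁻¹ = D.ha (-1) := inv_eq_of_mul_eq_one_right hn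
  calc D.ta⁻¹ * D.hb s * D.ta = (D.ta * D.ta)⁻¹ * (D.ta * D.hb s * D.ta⁻¹) * (D.ta * D.ta) := by group
    _ = D.ha (-1) * (D.ha s * D.hb s) * D.ha (-1) := by rw [D.ta_sq, hinv, h1]
    _ = (D.ha (-1) * D.ha s) * (D.hb s * D.ha (-1)) := by group
    _ = (D.ha s * D.ha (-1)) * (D.ha (-1) * D.hb s) := by rw [c2, c1]
    _ = D.ha s * (D.ha (-1) * D.ha (-1)) * D.hb s := by group
    _ = _ := by rw [hn, mul_one]

theorem Tor.ha_xab (hT : D.Tor) (s : Fˣ) (r : F) : D.ha s * D.xab r * (D.ha s)⁻¹ = D.xab r := by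
  have h1 := hT.tbinv_ha s
  have e1 := hT.hb_xa s r
  have e2 := hT.hb_xa s ((s : F)⁻¹ * r)
  have e3 := D.ha_xa s ((s : F)⁻¹ * ((s : F)⁻¹ * r))
  have hs : (s : F) ≠ 0 := s.ne_zero
  have e4 : (s : F) ^ 2 * ((s : F)⁻¹ * ((s : F)⁻¹ * r)) = r := by field_simp
  rw [e4] at e3
  unfold xab
  calc D.ha s * (D.tb * D.xa r * D.tb⁻¹) * (D.ha s)⁻¹
      = D.tb * ((D.tb⁻¹ * D.ha s * D.tb) * D.xa r * (D.tb⁻¹ * D.ha s * D.tb)⁻¹) * D.tb⁻¹ := by group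
    _ = D.tb * (D.ha s * (D.hb s * (D.hb s * D.xa r * (D.hb s)⁻¹) * (D.hb s)⁻¹) * (D.ha s)⁻¹) * D.tb⁻¹ := by
        rw [h1]; group
    _ = _ := by rw [e1, e2, e3]

theorem Tor.hb_xab (hT : D.Tor) (s : Fˣ) (r : F) : D.hb s * D.xab r * (D.hb s)⁻¹ = D.xab ((s : F) * r) := by
  have h1 := D.tbinv_hb s
  have e1 := hT.hb_xa s⁻¹ r
  rw [Units.val_inv_eq_inv_val, inv_inv] at e1
  unfold xab
  calc D.hb s * (D.tb * D.xa r * D.tb⁻¹) * (D.hb s)⁻¹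
      = D.tb * ((D.tb⁻¹ * D.hb s * D.tb) * D.xa r * (D.tb⁻¹ * D.hb s * D.tb)⁻¹) * D.tb⁻¹ := by group
    _ = _ := by rw [h1, e1]

theorem Tor.ha_x2 (hT : D.Tor) (s : Fˣ) (r : F) : D.ha s * D.x2 r * (D.ha s)⁻¹ = D.x2 ((s : F) ^ 2 * r) := by
  have h1 := D.tainv_ha s
  have e1 := hT.ha_xb s⁻¹ r
  rw [Units.val_inv_eq_inv_val, inv_pow, inv_inv] at e1
  unfold x2
  calc D.ha s * (D.ta * D.xb r * D.ta⁻¹) * (D.ha s)⁻¹
      = D.ta * ((D.ta⁻¹ * D.ha s * D.ta) * D.xb r * (D.ta⁻¹ * D.ha s * D.ta)⁻¹) * D.ta⁻¹ := by group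
    _ = _ := by rw [h1, e1]

theorem Tor.hb_x2 (hT : D.Tor) (s : Fˣ) (r : F) : D.hb s * D.x2 r * (D.hb s)⁻¹ = D.x2 r := by
  have h1 := hT.tainv_hb s
  have e1 := D.hb_xb s r
  have e2 := hT.ha_xb s ((s : F) ^ 2 * r)
  have hs : (s : F) ≠ 0 := s.ne_zero
  have e4 : ((s : F) ^ 2)⁻¹ * ((s : F) ^ 2 * r) = r := by field_simp
  rw [e4] at e2
  unfold x2
  calc D.hb s * (D.ta * D.xb r * D.ta⁻¹) * (D.hb s)⁻¹
      = D.ta * ((D.ta⁻¹ * D.hb s * D.ta) * D.xb r * (D.ta⁻¹ * D.hb s * D.ta)⁻¹) * D.ta⁻¹ := by group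
    _ = D.ta * (D.ha s * (D.hb s * D.xb r * (D.hb s)⁻¹) * (D.ha s)⁻¹) * D.ta⁻¹ := by rw [h1]; group
    _ = _ := by rw [e1, e2]

/-- action of a general torus element on the four positive root groups -/
theorem Tor.act_xa (hT : D.Tor) (s s' : Fˣ) (r : F) :
    (D.ha s * D.hb s') * D.xa r * (D.ha s * D.hb s')⁻¹ = D.xa ((s : F) ^ 2 * (s' : F)⁻¹ * r) := by
  have e1 := hT.hb_xa s' r
  have e2 := D.ha_xa s ((s' : F)⁻¹ * r)
  calc (D.ha s * D.hb s') * D.xa r * (D.ha s * D.hb s')⁻¹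
      = D.ha s * (D.hb s' * D.xa r * (D.hb s')⁻¹) * (D.ha s)⁻¹ := by group
    _ = _ := by rw [e1, e2, mul_assoc]

theorem Tor.act_xb (hT : D.Tor) (s s' : Fˣ) (r : F) :
    (D.ha s * D.hb s') * D.xb r * (D.ha s * D.hb s')⁻¹ = D.xb (((s : F) ^ 2)⁻¹ * (s' : F) ^ 2 * r) := by
  have e1 := D.hb_xb s' r
  have e2 := hT.ha_xb s ((s' : F) ^ 2 * r)
  calc (D.ha s * D.hb s') * D.xb r * (D.ha s * D.hb s')⁻¹
      = D.ha s * (D.hb s' * D.xb r * (D.hb s')⁻¹) * (D.ha s)⁻¹ := by group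
    _ = _ := by rw [e1, e2, mul_assoc]

theorem Tor.act_xab (hT : D.Tor) (s s' : Fˣ) (r : F) :
    (D.ha s * D.hb s') * D.xab r * (D.ha s * D.hb s')⁻¹ = D.xab ((s' : F) * r) := by
  have e1 := hT.hb_xab s' r
  have e2 := hT.ha_xab s ((s' : F) * r)
  calc (D.ha s * D.hb s') * D.xab r * (D.ha s * D.hb s')⁻¹
      = D.ha s * (D.hb s' * D.xab r * (D.hb s')⁻¹) * (D.ha s)⁻¹ := by group
    _ = _ := by rw [e1, e2]

theorem Tor.act_x2 (hT : D.Tor) (s s' : Fˣ) (r : F) :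
    (D.ha s * D.hb s') * D.x2 r * (D.ha s * D.hb s')⁻¹ = D.x2 ((s : F) ^ 2 * r) := by
  have e1 := hT.hb_x2 s' r
  have e2 := hT.ha_x2 s r
  calc (D.ha s * D.hb s') * D.x2 r * (D.ha s * D.hb s')⁻¹
      = D.ha s * (D.hb s' * D.x2 r * (D.hb s')⁻¹) * (D.ha s)⁻¹ := by group
    _ = _ := by rw [e1, e2]

/-! Weyl conjugations which follow from the torus relations -/

theorem Tor.ta_x2 (hT : D.Tor) (r : F) : D.ta * D.x2 r * D.ta⁻¹ = D.xb r := by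
  have e1 := hT.ha_xb (-1) r
  have e2 : (((-1 : Fˣ) : F) ^ 2)⁻¹ * r = r := by simp
  rw [e2] at e1
  unfold x2
  calc D.ta * (D.ta * D.xb r * D.ta⁻¹) * D.ta⁻¹ = (D.ta * D.ta) * D.xb r * (D.ta * D.ta)⁻¹ := by group
    _ = _ := by rw [D.ta_sq, e1]

theorem Tor.tainv_xb (hT : D.Tor) (r : F) : D.ta⁻¹ * D.xb r * D.ta = D.x2 r := by
  have := hT.ta_x2 r
  rw [← this]; group

theorem tainv_x2 (r : F) : D.ta⁻¹ * D.x2 r * D.ta = D.xb r := by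
  unfold x2; group

theorem Tor.tb_xab (hT : D.Tor) (s : F) : D.tb * D.xab s * D.tb⁻¹ = D.xa (-s) := by
  have e1 := hT.hb_xa (-1) s
  have e2 : ((-1 : Fˣ) : F)⁻¹ * s = -s := by simp
  rw [e2] at e1
  unfold xab
  calc D.tb * (D.tb * D.xa s * D.tb⁻¹) * D.tb⁻¹ = (D.tb * D.tb) * D.xa s * (D.tb * D.tb)⁻¹ := by group
    _ = _ := by rw [D.tb_sq, e1]

theorem Tor.tbinv_xa (hT : D.Tor) (s : F) : D.tb⁻¹ * D.xa s * D.tb = D.xab (-s) := by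
  have := hT.tb_xab (-s)
  rw [neg_neg] at this
  rw [← this]; group

theorem tbinv_xab (s : F) : D.tb⁻¹ * D.xab s * D.tb = D.xa s := by
  unfold xab; group

variable (D)

/-- the full set of relations (all parameters) -/
structure Full : Prop extends D.Tor where
  tb_x2 : ∀ r : F, D.tb * D.x2 r * D.tb⁻¹ = D.x2 r
  ta_xab : ∀ s : F, D.ta * D.xab s * D.ta⁻¹ = D.xab (-s)
  braid : D.ta * D.tb * D.ta * D.tb = D.tb * D.ta * D.tb * D.ta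
  xa_xb : ∀ r s : F, D.xa r * D.xb s * (D.xa r)⁻¹ = D.x2 (r ^ 2 * s) * D.xab (-(r * s)) * D.xb s
  xa_xab : ∀ r s : F, D.xa r * D.xab s * (D.xa r)⁻¹ = D.x2 (-(2 * r * s)) * D.xab s
  xa_x2 : ∀ r s : F, Commute (D.xa r) (D.x2 s)
  xb_xab : ∀ r s : F, Commute (D.xb r) (D.xab s)
  xb_x2 : ∀ r s : F, Commute (D.xb r) (D.x2 s)
  xab_x2 : ∀ r s : F, Commute (D.xab r) (D.x2 s)

variable {D}

theorem Full.tbinv_x2 (hD : D.Full) (r : F) : D.tb⁻¹ * D.x2 r * D.tb = D.x2 r := by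
  have := hD.tb_x2 r
  nth_rewrite 1 [← this]; group

theorem Full.tainv_xab (hD : D.Full) (s : F) : D.ta⁻¹ * D.xab s * D.ta = D.xab (-s) := by
  have := hD.ta_xab (-s)
  rw [neg_neg] at this
  rw [← this]; group

end C2Data

end Cfsg.Agent.Lib.Helper11.Pres4
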