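import Mathlib
import Cfsg.Agent.Lib.Helper11.Pres4A

set_option autoImplicit false

namespace Cfsg.Agent.Lib.Helper11.Pres4

open Cfsg.Agent.Lib.Helper11.SL2Hom Cfsg.Agent.Lib.Helper11.Pres2 Cfsg.Agent.Lib.Helper11.Pres3 Matrix

namespace C2Data

variable {F : Type*} [Field F] {Γ : Type*} [Group Γ] {D : C2Data F Γ}

/-- elements of the unipotent radical of the Siegel parabolic -/
def qf (D : C2Data F Γ) (u v w : F) : Γ := D.x2 u * D.xab v * D.xb w

theorem Full.qf_mul (hD : D.Full) (u v w u' v' w' : F) :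
    D.qf u v w * D.qf u' v' w' = D.qf (u + u') (v + v') (w + w') := by
  unfold qf
  rw [x2_add, xab_add, xb_add]
  have c1 := (hD.xb_x2 w u').eq
  have c2 := (hD.xb_xab w v').eq
  have c3 := (hD.xab_x2 v u').eq
  calc D.x2 u * D.xab v * D.xb w * (D.x2 u' * D.xab v' * D.xb w')
      = D.x2 u * D.xab v * (D.xb w * D.x2 u') * D.xab v' * D.xb w' := by group
    _ = D.x2 u * (D.xab v * D.x2 u') * (D.xb w * D.xab v') * D.xb w' := by rw [c1]; group
    _ = _ := by rw [c3, c2]; group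

theorem qf_zero : D.qf 0 0 0 = 1 := by
  unfold qf; rw [x2_zero, xab_zero, xb_zero]; group

theorem Full.qf_inv (hD : D.Full) (u v w : F) : (D.qf u v w)⁻¹ = D.qf (-u) (-v) (-w) := by
  rw [inv_eq_iff_mul_eq_one, hD.qf_mul, add_neg_cancel, add_neg_cancel, add_neg_cancel, qf_zero]

/-- `xa` normalises the unipotent radical -/
theorem Full.xa_qf (hD : D.Full) (r u v w : F) :
    D.xa r * D.qf u v w * (D.xa r)⁻¹ = D.qf (u - 2 * r * v + r ^ 2 * w) (v - r * w) w := by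
  have e1 := hD.xa_xb r w
  have e2 := hD.xa_xab r v
  have e3 := (hD.xa_x2 r u).eq
  have c3 := (hD.xab_x2 v (r ^ 2 * w)).eq
  have h1 : D.xa r * D.qf u v w * (D.xa r)⁻¹ =
      D.x2 u * (D.x2 (-(2 * r * v)) * D.xab v) * (D.x2 (r ^ 2 * w) * D.xab (-(r * w)) * D.xb w) := by
    unfold qf
    calc D.xa r * (D.x2 u * D.xab v * D.xb w) * (D.xa r)⁻¹
        = (D.xa r * D.x2 u) * (D.xa r)⁻¹ * (D.xa r * D.xab v * (D.xa r)⁻¹) *
            (D.xa r * D.xb w * (D.xa r)⁻¹) := by group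
      _ = (D.x2 u * D.xa r) * (D.xa r)⁻¹ * (D.xa r * D.xab v * (D.xa r)⁻¹) *
            (D.xa r * D.xb w * (D.xa r)⁻¹) := by rw [e3]
      _ = _ := by rw [e1, e2]; group
  rw [h1]
  unfold qf
  have p1 : u - 2 * r * v + r ^ 2 * w = u + (-(2 * r * v)) + r ^ 2 * w := by ring
  have p2 : v - r * w = v + (-(r * w)) := by ring
  rw [p1, p2, x2_add, x2_add, xab_add]
  calc D.x2 u * (D.x2 (-(2 * r * v)) * D.xab v) * (D.x2 (r ^ 2 * w) * D.xab (-(r * w)) * D.xb w)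
      = D.x2 u * D.x2 (-(2 * r * v)) * (D.xab v * D.x2 (r ^ 2 * w)) * D.xab (-(r * w)) * D.xb w := by
        group
    _ = _ := by rw [c3]; group

/-- `ta` normalises the unipotent radical -/
theorem Full.ta_qf (hD : D.Full) (u v w : F) :
    D.ta * D.qf u v w * D.ta⁻¹ = D.qf w (-v) u := by
  have e1 := hD.toTor.ta_x2 u
  have e2 := hD.ta_xab v
  have c1 := (hD.xb_xab u (-v)).eq
  have c2 := (hD.xb_x2 u w).eq
  have c3 := (hD.xab_x2 (-v) w).eq
  unfold qf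
  calc D.ta * (D.x2 u * D.xab v * D.xb w) * D.ta⁻¹
      = (D.ta * D.x2 u * D.ta⁻¹) * (D.ta * D.xab v * D.ta⁻¹) * (D.ta * D.xb w * D.ta⁻¹) := by group
    _ = D.xb u * D.xab (-v) * D.x2 w := by rw [e1, e2]; rfl
    _ = D.xab (-v) * (D.xb u * D.x2 w) := by rw [c1]; group
    _ = (D.xab (-v) * D.x2 w) * D.xb u := by rw [c2]; group
    _ = _ := by rw [c3]

/-- the image of `φa` normalises the unipotent radical -/
theorem Full.phia_qf (hD : D.Full) (g : SpecialLinearGroup (Fin 2) F) :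
    ∀ u v w : F, ∃ u' v' w' : F, D.φa g * D.qf u v w * (D.φa g)⁻¹ = D.qf u' v' w' := by
  induction g using sl2_induction with
  | hx r => exact fun u v w => ⟨_, _, _, hD.xa_qf r u v w⟩
  | hw => exact fun u v w => ⟨_, _, _, hD.ta_qf u v w⟩
  | hmul g g' ih ih' =>
    intro u v w
    obtain ⟨u', v', w', h'⟩ := ih' u v w
    obtain ⟨u'', v'', w'', h''⟩ := ih u' v' w'
    refine ⟨u'', v'', w'', ?_⟩
    rw [map_mul]
    calc D.φa g * D.φa g' * D.qf u v w * (D.φa g * D.φa g')⁻¹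
        = D.φa g * (D.φa g' * D.qf u v w * (D.φa g')⁻¹) * (D.φa g)⁻¹ := by group
      _ = _ := by rw [h', h'']

theorem Full.hb_qf (hD : D.Full) (s : Fˣ) (u v w : F) :
    D.hb s * D.qf u v w * (D.hb s)⁻¹ = D.qf u ((s : F) * v) ((s : F) ^ 2 * w) := by
  have e1 := hD.toTor.hb_x2 s u
  have e2 := hD.toTor.hb_xab s v
  have e3 := D.hb_xb s w
  unfold qf
  calc D.hb s * (D.x2 u * D.xab v * D.xb w) * (D.hb s)⁻¹
      = (D.hb s * D.x2 u * (D.hb s)⁻¹) * (D.hb s * D.xab v * (D.hb s)⁻¹) *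
          (D.hb s * D.xb w * (D.hb s)⁻¹) := by group
    _ = _ := by rw [e1, e2, e3]

/-- `hb s` normalises the image of `φa` -/
theorem Full.hb_phia (hD : D.Full) (s : Fˣ) (g : SpecialLinearGroup (Fin 2) F) :
    ∃ g' : SpecialLinearGroup (Fin 2) F, D.hb s * D.φa g * (D.hb s)⁻¹ = D.φa g' := by
  induction g using sl2_induction with
  | hx r => exact ⟨xS ((s : F)⁻¹ * r), hD.toTor.hb_xa s r⟩
  | hw =>
    refine ⟨wS * hU s, ?_⟩
    have h1 := hD.toTor.tainv_hb s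
    rw [map_mul]
    change D.hb s * D.ta * (D.hb s)⁻¹ = D.ta * D.ha s
    calc D.hb s * D.ta * (D.hb s)⁻¹ = D.ta * (D.ta⁻¹ * D.hb s * D.ta) * (D.hb s)⁻¹ := by group
      _ = _ := by rw [h1]; group
  | hmul g g' ih ih' =>
    obtain ⟨g₁, h₁⟩ := ih
    obtain ⟨g₂, h₂⟩ := ih'
    refine ⟨g₁ * g₂, ?_⟩
    rw [map_mul, map_mul, ← h₁, ← h₂]; group

/-- the parametrisation of the parabolic subgroup -/
def pfun (D : C2Data F Γ) (z : F × F × F × SpecialLinearGroup (Fin 2) F × Fˣ) : Γ :=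
  D.qf z.1 z.2.1 z.2.2.1 * D.φa z.2.2.2.1 * D.hb z.2.2.2.2

/-- the set of values of `pfun` -/
def pset (D : C2Data F Γ) : Set Γ := Set.range D.pfun

theorem mem_pset (u v w : F) (g : SpecialLinearGroup (Fin 2) F) (s : Fˣ) :
    D.qf u v w * D.φa g * D.hb s ∈ D.pset := ⟨(u, v, w, g, s), rfl⟩

theorem Full.qf_mul_mem (hD : D.Full) (u v w : F) {x : Γ} (hx : x ∈ D.pset) : D.qf u v w * x ∈ D.pset := by
  obtain ⟨⟨u', v', w', g, s⟩, rfl⟩ := hx
  have : D.qf u v w * D.pfun (u', v', w', g, s) = D.qf (u + u') (v + v') (w + w') * D.φa g * D.hb s := by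
    unfold pfun
    rw [← hD.qf_mul]; group
  rw [this]; exact mem_pset _ _ _ _ _

theorem Full.phia_mul_mem (hD : D.Full) (g : SpecialLinearGroup (Fin 2) F) {x : Γ} (hx : x ∈ D.pset) :
    D.φa g * x ∈ D.pset := by
  obtain ⟨⟨u, v, w, g', s⟩, rfl⟩ := hx
  obtain ⟨u', v', w', h⟩ := hD.phia_qf g u v w
  have : D.φa g * D.pfun (u, v, w, g', s) = D.qf u' v' w' * D.φa (g * g') * D.hb s := by
    unfold pfun
    rw [map_mul, ← h]; group
  rw [this]; exact mem_pset _ _ _ _ _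

theorem Full.hb_mul_mem (hD : D.Full) (s : Fˣ) {x : Γ} (hx : x ∈ D.pset) : D.hb s * x ∈ D.pset := by
  obtain ⟨⟨u, v, w, g, s'⟩, rfl⟩ := hx
  obtain ⟨g', h⟩ := hD.hb_phia s g
  have : D.hb s * D.pfun (u, v, w, g, s') =
      D.qf u ((s : F) * v) ((s : F) ^ 2 * w) * D.φa g' * D.hb (s * s') := by
    unfold pfun
    rw [← h, ← hD.hb_qf, hb_mul]; group
  rw [this]; exact mem_pset _ _ _ _ _

/-- the parabolic subgroup -/
def par (D : C2Data F Γ) : Subgroup Γ :=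
  Subgroup.closure (Set.range D.x2 ∪ Set.range D.xab ∪ Set.range D.xb ∪ Set.range D.φa ∪ Set.range D.hb)

theorem x2_mem_par (a : F) : D.x2 a ∈ D.par :=
  Subgroup.subset_closure (Or.inl (Or.inl (Or.inl (Or.inl ⟨a, rfl⟩))))
theorem xab_mem_par (a : F) : D.xab a ∈ D.par :=
  Subgroup.subset_closure (Or.inl (Or.inl (Or.inl (Or.inr ⟨a, rfl⟩))))
theorem xb_mem_par (a : F) : D.xb a ∈ D.par :=
  Subgroup.subset_closure (Or.inl (Or.inl (Or.inr ⟨a, rfl⟩)))
theorem phia_mem_par (g : SpecialLinearGroup (Fin 2) F) : D.φa g ∈ D.par :=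
  Subgroup.subset_closure (Or.inl (Or.inr ⟨g, rfl⟩))
theorem hb_mem_par (s : Fˣ) : D.hb s ∈ D.par :=
  Subgroup.subset_closure (Or.inr ⟨s, rfl⟩)
theorem xa_mem_par (a : F) : D.xa a ∈ D.par := phia_mem_par _
theorem ta_mem_par : D.ta ∈ D.par := phia_mem_par _
theorem ha_mem_par (s : Fˣ) : D.ha s ∈ D.par := phia_mem_par _
theorem qf_mem_par (u v w : F) : D.qf u v w ∈ D.par :=
  mul_mem (mul_mem (x2_mem_par u) (xab_mem_par v)) (xb_mem_par w)

theorem one_mem_pset : (1 : Γ) ∈ D.pset := by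
  have := mem_pset (D := D) 0 0 0 1 1
  rwa [qf_zero, map_one, hb_one, mul_one, mul_one] at this

theorem qf_eq_x2 (u : F) : D.qf u 0 0 = D.x2 u := by
  unfold qf; rw [xab_zero, xb_zero, mul_one, mul_one]
theorem qf_eq_xab (v : F) : D.qf 0 v 0 = D.xab v := by
  unfold qf; rw [x2_zero, xb_zero, mul_one, one_mul]
theorem qf_eq_xb (w : F) : D.qf 0 0 w = D.xb w := by
  unfold qf; rw [x2_zero, xab_zero, one_mul, one_mul]

theorem Full.par_subset (hD : D.Full) : (D.par : Set Γ) ⊆ D.pset := by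
  intro p hp
  have key : ∀ x ∈ D.pset, p * x ∈ D.pset := by
    unfold par at hp
    induction hp using Subgroup.closure_induction'' with
    | mem z hz =>
      intro x hx
      rcases hz with (((⟨a, rfl⟩ | ⟨a, rfl⟩) | ⟨a, rfl⟩) | ⟨g, rfl⟩) | ⟨s, rfl⟩
      · rw [← qf_eq_x2]; exact hD.qf_mul_mem _ _ _ hx
      · rw [← qf_eq_xab]; exact hD.qf_mul_mem _ _ _ hx
      · rw [← qf_eq_xb]; exact hD.qf_mul_mem _ _ _ hx
      · exact hD.phia_mul_mem g hx
      · exact hD.hb_mul_mem s hx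
    | inv_mem z hz =>
      intro x hx
      rcases hz with (((⟨a, rfl⟩ | ⟨a, rfl⟩) | ⟨a, rfl⟩) | ⟨g, rfl⟩) | ⟨s, rfl⟩
      · rw [x2_inv, ← qf_eq_x2]; exact hD.qf_mul_mem _ _ _ hx
      · rw [xab_inv, ← qf_eq_xab]; exact hD.qf_mul_mem _ _ _ hx
      · rw [xb_inv, ← qf_eq_xb]; exact hD.qf_mul_mem _ _ _ hx
      · rw [← map_inv]; exact hD.phia_mul_mem _ hx
      · rw [hb_inv]; exact hD.hb_mul_mem _ hx
    | one => intro x hx; rwa [one_mul]
    | mul y z _ _ hy hz =>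
      intro x hx
      rw [mul_assoc]
      exact hy _ (hz _ hx)
  have := key 1 one_mem_pset
  rwa [mul_one] at this

/-- the long Weyl element `w₀ = tb ta tb` of the Siegel parabolic centralises the image of `φa` -/
theorem Full.w0_phia (hD : D.Full) (g : SpecialLinearGroup (Fin 2) F) :
    Commute (D.tb * D.ta * D.tb) (D.φa g) := by
  induction g using sl2_induction with
  | hx r =>
    change Commute (D.tb * D.ta * D.tb) (D.xa r)
    have e1 := hD.ta_xab r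
    have e2 := hD.toTor.tb_xab (-r)
    rw [neg_neg] at e2
    unfold Commute SemiconjBy
    have : D.tb * D.ta * D.tb * D.xa r * (D.tb * D.ta * D.tb)⁻¹ = D.xa r := by
      calc D.tb * D.ta * D.tb * D.xa r * (D.tb * D.ta * D.tb)⁻¹
          = D.tb * (D.ta * (D.tb * D.xa r * D.tb⁻¹) * D.ta⁻¹) * D.tb⁻¹ := by group
        _ = D.tb * (D.ta * D.xab r * D.ta⁻¹) * D.tb⁻¹ := rfl
        _ = _ := by rw [e1, e2]
    calc D.tb * D.ta * D.tb * D.xa r
        = (D.tb * D.ta * D.tb * D.xa r * (D.tb * D.ta * D.tb)⁻¹) * (D.tb * D.ta * D.tb) := by group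
      _ = _ := by rw [this]
  | hw =>
    change Commute (D.tb * D.ta * D.tb) D.ta
    unfold Commute SemiconjBy
    have := hD.braid
    calc D.tb * D.ta * D.tb * D.ta = D.ta * D.tb * D.ta * D.tb := this.symm
      _ = _ := by group
  | hmul g g' ih ih' =>
    rw [map_mul]
    exact ih.mul_right ih'

end C2Data

end Cfsg.Agent.Lib.Helper11.Pres4
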