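import Mathlib
import Cfsg.Agent.Lib.Helper11.Pres4B

set_option autoImplicit false

namespace Cfsg.Agent.Lib.Helper11.Pres4

open Cfsg.Agent.Lib.Helper11.SL2Hom Cfsg.Agent.Lib.Helper11.Pres2 Cfsg.Agent.Lib.Helper11.Pres3 Matrix

theorem conj_to_comm {Γ : Type*} [Group Γ] {a x y : Γ} (h : a * x * a⁻¹ = y) : a * x = y * a :=
  mul_inv_eq_iff_eq_mul.mp h

theorem conjinv_to_comm {Γ : Type*} [Group Γ] {a x y : Γ} (h : a⁻¹ * x * a = y) : x * a = a * y := by
  rw [← h]; group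

namespace C2Data

variable {F : Type*} [Field F] {Γ : Type*} [Group Γ] {D : C2Data F Γ}

/-- the index set of the cells -/
abbrev Cell (F : Type*) := Option (F ⊕ (F × F) ⊕ (F × F × F))

/-- coset representatives of the parabolic subgroup -/
def rep (D : C2Data F Γ) : Cell F → Γ
  | none => 1
  | some (Sum.inl r) => D.xb r * D.tb
  | some (Sum.inr (Sum.inl (s, r))) => D.xa s * D.x2 r * D.ta * D.tb
  | some (Sum.inr (Sum.inr (u, v, w))) => D.qf u v w * (D.tb * D.ta * D.tb)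

/-- the cell of the identity -/
abbrev c0 : Cell F := none
/-- the cells `xb(r) tb P` -/
abbrev c1 (r : F) : Cell F := some (Sum.inl r)
/-- the cells `xa(s) x2(r) ta tb P` -/
abbrev c2 (s r : F) : Cell F := some (Sum.inr (Sum.inl (s, r)))
/-- the big cells -/
abbrev c3 (u v w : F) : Cell F := some (Sum.inr (Sum.inr (u, v, w)))

theorem rep_c0 : D.rep c0 = 1 := rfl
theorem rep_c1 (r : F) : D.rep (c1 r) = D.xb r * D.tb := rfl
theorem rep_c2 (s r : F) : D.rep (c2 s r) = D.xa s * D.x2 r * D.ta * D.tb := rfl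
theorem rep_c3 (u v w : F) : D.rep (c3 u v w) = D.qf u v w * (D.tb * D.ta * D.tb) := rfl

theorem rep_c2' (s r : F) : D.rep (c2 s r) = D.xa s * D.ta * (D.xb r * D.tb) := by
  rw [rep_c2]; unfold x2; group

theorem Full.rep_c3' (hD : D.Full) (u v w : F) :
    D.rep (c3 u v w) = D.xb w * D.tb * (D.xa v * D.x2 u * D.ta * D.tb) := by
  rw [rep_c3]
  have e1 := hD.tb_x2 u
  have c1 := (hD.xb_xab w v).eq
  have c2 := (hD.xb_x2 w u).eq
  have c3 := (hD.xab_x2 v u).eq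
  have h1 : D.xb w * D.tb * (D.xa v * D.x2 u * D.ta * D.tb) =
      D.xb w * D.xab v * D.x2 u * (D.tb * D.ta * D.tb) := by
    calc D.xb w * D.tb * (D.xa v * D.x2 u * D.ta * D.tb)
        = D.xb w * (D.tb * D.xa v * D.tb⁻¹) * (D.tb * D.x2 u * D.tb⁻¹) * (D.tb * D.ta * D.tb) := by group
      _ = _ := by rw [e1]; rfl
  rw [h1]
  unfold qf
  calc D.x2 u * D.xab v * D.xb w * (D.tb * D.ta * D.tb)
      = D.x2 u * (D.xab v * D.xb w) * (D.tb * D.ta * D.tb) := by group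
    _ = D.x2 u * (D.xb w * D.xab v) * (D.tb * D.ta * D.tb) := by rw [c1]
    _ = (D.x2 u * D.xb w) * D.xab v * (D.tb * D.ta * D.tb) := by group
    _ = (D.xb w * D.x2 u) * D.xab v * (D.tb * D.ta * D.tb) := by rw [c2]
    _ = D.xb w * (D.x2 u * D.xab v) * (D.tb * D.ta * D.tb) := by group
    _ = D.xb w * (D.xab v * D.x2 u) * (D.tb * D.ta * D.tb) := by rw [c3]
    _ = _ := by group

/-- membership in the union of the listed cosets -/
def InX (D : C2Data F Γ) (z : Γ) : Prop := ∃ ω : Cell F, ∃ p ∈ D.par, z = D.rep ω * p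

theorem inX_of_eq {z : Γ} (ω : Cell F) {p : Γ} (hp : p ∈ D.par) (h : z = D.rep ω * p) : D.InX z :=
  ⟨ω, p, hp, h⟩

/-- the Borel subgroup of `φa` acts on the cells `c1` -/
theorem Full.borel_a (hD : D.Full) (σ : F) (μ : Fˣ) (r : F) :
    ∃ r' : F, ∃ p ∈ D.par, D.xa σ * D.ha μ * (D.xb r * D.tb) = D.xb r' * D.tb * p := by
  set r' := (((μ : F) ^ 2)⁻¹ * r) with hr'
  set T1 := D.ha μ * D.hb μ * D.hb μ with hT1
  have s1 : D.ha μ * D.xb r = D.xb r' * D.ha μ := conj_to_comm (hD.toTor.ha_xb μ r)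
  have s2 : D.ha μ * D.tb = D.tb * T1 := conjinv_to_comm (hD.toTor.tbinv_ha μ)
  have s3 : D.xa σ * D.xb r' = D.x2 (σ ^ 2 * r') * D.xab (-(σ * r')) * D.xb r' * D.xa σ :=
    conj_to_comm (hD.xa_xb σ r')
  have s4 : D.xa σ * D.tb = D.tb * D.xab (-σ) := conjinv_to_comm (hD.toTor.tbinv_xa σ)
  have c1 := (hD.xb_xab r' (-(σ * r'))).eq
  have c2 := (hD.xb_x2 r' (σ ^ 2 * r')).eq
  have s6a : D.x2 (σ ^ 2 * r') * D.tb = D.tb * D.x2 (σ ^ 2 * r') := conjinv_to_comm (hD.tbinv_x2 _)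
  have s6b : D.xab (-(σ * r')) * D.tb = D.tb * D.xa (-(σ * r')) := conjinv_to_comm (tbinv_xab _)
  refine ⟨r', D.x2 (σ ^ 2 * r') * D.xa (-(σ * r')) * D.xab (-σ) * T1, ?_, ?_⟩
  · exact mul_mem (mul_mem (mul_mem (x2_mem_par _) (xa_mem_par _)) (xab_mem_par _))
      (mul_mem (mul_mem (ha_mem_par _) (hb_mem_par _)) (hb_mem_par _))
  · calc D.xa σ * D.ha μ * (D.xb r * D.tb)
        = D.xa σ * (D.ha μ * D.xb r) * D.tb := by group
      _ = D.xa σ * D.xb r' * (D.ha μ * D.tb) := by rw [s1]; group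
      _ = (D.xa σ * D.xb r') * D.tb * T1 := by rw [s2]; group
      _ = D.x2 (σ ^ 2 * r') * D.xab (-(σ * r')) * D.xb r' * (D.xa σ * D.tb) * T1 := by rw [s3]; group
      _ = D.x2 (σ ^ 2 * r') * (D.xab (-(σ * r')) * D.xb r') * D.tb * D.xab (-σ) * T1 := by
          rw [s4]; group
      _ = (D.x2 (σ ^ 2 * r') * D.xb r') * D.xab (-(σ * r')) * D.tb * D.xab (-σ) * T1 := by
          rw [← c1]; group
      _ = D.xb r' * D.x2 (σ ^ 2 * r') * (D.xab (-(σ * r')) * D.tb) * D.xab (-σ) * T1 := by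
          rw [← c2]; group
      _ = D.xb r' * (D.x2 (σ ^ 2 * r') * D.tb) * D.xa (-(σ * r')) * D.xab (-σ) * T1 := by
          rw [s6b]; group
      _ = _ := by rw [s6a]; group

/-- the image of `φa` maps the cells `c1` into the listed cosets -/
theorem Full.phia_c1 (hD : D.Full) (g : SpecialLinearGroup (Fin 2) F) (r : F) :
    D.InX (D.φa g * (D.xb r * D.tb)) := by
  rcases bruhat g with ⟨a, μ, rfl⟩ | ⟨a, μ, b, rfl⟩
  · obtain ⟨r', p, hp, h⟩ := hD.borel_a a μ r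
    refine inX_of_eq (c1 r') hp ?_
    rw [map_mul, rep_c1]
    exact h
  · obtain ⟨r', p, hp, h⟩ := hD.borel_a ((μ : F) ^ 2 * b) μ r
    refine inX_of_eq (c2 a r') hp ?_
    rw [rep_c2']
    have s1 : D.ha μ * D.xa b = D.xa ((μ : F) ^ 2 * b) * D.ha μ := conj_to_comm (D.ha_xa μ b)
    rw [map_mul, map_mul, map_mul]
    change D.xa a * D.ta * D.ha μ * D.xa b * (D.xb r * D.tb) = _
    calc D.xa a * D.ta * D.ha μ * D.xa b * (D.xb r * D.tb)
        = D.xa a * D.ta * ((D.ha μ * D.xa b) * (D.xb r * D.tb)) := by group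
      _ = D.xa a * D.ta * (D.xa ((μ : F) ^ 2 * b) * D.ha μ * (D.xb r * D.tb)) := by rw [s1]
      _ = _ := by rw [h]; group

/-- the Borel subgroup of `φb` acts on the cells `c2` -/
theorem Full.borel_b (hD : D.Full) (ρ : F) (μ : Fˣ) (v u : F) :
    ∃ v' u' : F, ∃ p ∈ D.par,
      D.xb ρ * D.hb μ * (D.xa v * D.x2 u * D.ta * D.tb) = D.xa v' * D.x2 u' * D.ta * D.tb * p := by
  set v' := ((μ : F)⁻¹ * v) with hv'
  set T2 := D.ha μ * D.hb μ * D.hb μ * D.hb μ⁻¹ with hT2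
  have s1 : D.hb μ * D.xa v = D.xa v' * D.hb μ := conj_to_comm (hD.toTor.hb_xa μ v)
  have s2 : D.hb μ * D.x2 u = D.x2 u * D.hb μ := conj_to_comm (hD.toTor.hb_x2 μ u)
  have s3 : D.hb μ * D.ta = D.ta * (D.ha μ * D.hb μ) := conjinv_to_comm (hD.toTor.tainv_hb μ)
  have s4a : D.ha μ * D.tb = D.tb * (D.ha μ * D.hb μ * D.hb μ) := conjinv_to_comm (hD.toTor.tbinv_ha μ)
  have s4b : D.hb μ * D.tb = D.tb * D.hb μ⁻¹ := conjinv_to_comm (D.tbinv_hb μ)
  have s5' := hD.xa_xb (-v') ρ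
  rw [xa_inv, neg_neg] at s5'
  have s5 : D.xb ρ * D.xa v' = D.xa v' * (D.x2 (v' ^ 2 * ρ) * D.xab (v' * ρ) * D.xb ρ) := by
    have e1 : (-v') ^ 2 * ρ = v' ^ 2 * ρ := by ring
    have e2 : -(-v' * ρ) = v' * ρ := by ring
    rw [e1, e2] at s5'
    rw [← s5']
    have : D.xa v' * D.xa (-v') = 1 := by rw [← xa_add, add_neg_cancel, xa_zero]
    calc D.xb ρ * D.xa v' = (D.xa v' * D.xa (-v')) * D.xb ρ * D.xa v' := by rw [this, one_mul]
      _ = _ := by group
  have s6 : D.x2 (v' ^ 2 * ρ) * D.xab (v' * ρ) * D.xb ρ * D.x2 u =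
      D.x2 (u + v' ^ 2 * ρ) * D.xab (v' * ρ) * D.xb ρ := by
    have := hD.qf_mul (v' ^ 2 * ρ) (v' * ρ) ρ u 0 0
    unfold qf at this
    rw [xab_zero, xb_zero, mul_one, mul_one, add_zero, add_zero, add_comm] at this
    exact this
  have s7a : D.xab (v' * ρ) * D.ta = D.ta * D.xab (-(v' * ρ)) := conjinv_to_comm (hD.tainv_xab _)
  have s7b : D.xb ρ * D.ta = D.ta * D.x2 ρ := conjinv_to_comm (hD.toTor.tainv_xb ρ)
  have s8a : D.xab (-(v' * ρ)) * D.tb = D.tb * D.xa (-(v' * ρ)) := conjinv_to_comm (tbinv_xab _)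
  have s8b : D.x2 ρ * D.tb = D.tb * D.x2 ρ := conjinv_to_comm (hD.tbinv_x2 ρ)
  refine ⟨v', u + v' ^ 2 * ρ, D.xa (-(v' * ρ)) * D.x2 ρ * T2, ?_, ?_⟩
  · exact mul_mem (mul_mem (xa_mem_par _) (x2_mem_par _))
      (mul_mem (mul_mem (mul_mem (ha_mem_par _) (hb_mem_par _)) (hb_mem_par _)) (hb_mem_par _))
  · calc D.xb ρ * D.hb μ * (D.xa v * D.x2 u * D.ta * D.tb)
        = D.xb ρ * (D.hb μ * D.xa v) * D.x2 u * D.ta * D.tb := by group
      _ = D.xb ρ * D.xa v' * (D.hb μ * D.x2 u) * D.ta * D.tb := by rw [s1]; group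
      _ = D.xb ρ * D.xa v' * D.x2 u * (D.hb μ * D.ta) * D.tb := by rw [s2]; group
      _ = D.xb ρ * D.xa v' * D.x2 u * D.ta * D.ha μ * (D.hb μ * D.tb) := by rw [s3]; group
      _ = D.xb ρ * D.xa v' * D.x2 u * D.ta * (D.ha μ * D.tb) * D.hb μ⁻¹ := by rw [s4b]; group
      _ = (D.xb ρ * D.xa v') * D.x2 u * D.ta * D.tb * T2 := by rw [s4a, hT2]; simp only [mul_assoc]
      _ = D.xa v' * (D.x2 (v' ^ 2 * ρ) * D.xab (v' * ρ) * D.xb ρ * D.x2 u) * D.ta * D.tb * T2 := by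
          rw [s5]; group
      _ = D.xa v' * D.x2 (u + v' ^ 2 * ρ) * D.xab (v' * ρ) * (D.xb ρ * D.ta) * D.tb * T2 := by
          rw [s6]; group
      _ = D.xa v' * D.x2 (u + v' ^ 2 * ρ) * (D.xab (v' * ρ) * D.ta) * D.x2 ρ * D.tb * T2 := by
          rw [s7b]; group
      _ = D.xa v' * D.x2 (u + v' ^ 2 * ρ) * D.ta * D.xab (-(v' * ρ)) * (D.x2 ρ * D.tb) * T2 := by
          rw [s7a]; group
      _ = D.xa v' * D.x2 (u + v' ^ 2 * ρ) * D.ta * (D.xab (-(v' * ρ)) * D.tb) * D.x2 ρ * T2 := by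
          rw [s8b]; group
      _ = _ := by rw [s8a]; group

/-- the image of `φb` maps the cells `c2` into the listed cosets -/
theorem Full.phib_c2 (hD : D.Full) (g : SpecialLinearGroup (Fin 2) F) (v u : F) :
    D.InX (D.φb g * (D.xa v * D.x2 u * D.ta * D.tb)) := by
  rcases bruhat g with ⟨a, μ, rfl⟩ | ⟨a, μ, b, rfl⟩
  · obtain ⟨v', u', p, hp, h⟩ := hD.borel_b a μ v u
    refine inX_of_eq (c2 v' u') hp ?_
    rw [map_mul, rep_c2]
    exact h
  · obtain ⟨v', u', p, hp, h⟩ := hD.borel_b ((μ : F) ^ 2 * b) μ v u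
    refine inX_of_eq (c3 u' v' a) hp ?_
    rw [hD.rep_c3']
    have s1 : D.hb μ * D.xb b = D.xb ((μ : F) ^ 2 * b) * D.hb μ := conj_to_comm (D.hb_xb μ b)
    rw [map_mul, map_mul, map_mul]
    change D.xb a * D.tb * D.hb μ * D.xb b * (D.xa v * D.x2 u * D.ta * D.tb) = _
    calc D.xb a * D.tb * D.hb μ * D.xb b * (D.xa v * D.x2 u * D.ta * D.tb)
        = D.xb a * D.tb * ((D.hb μ * D.xb b) * (D.xa v * D.x2 u * D.ta * D.tb)) := by group
      _ = D.xb a * D.tb * (D.xb ((μ : F) ^ 2 * b) * D.hb μ * (D.xa v * D.x2 u * D.ta * D.tb)) := by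
          rw [s1]
      _ = _ := by rw [h]; group

/-- the image of `φb` lies in the listed cosets -/
theorem phib_c0 (g : SpecialLinearGroup (Fin 2) F) : D.InX (D.φb g) := by
  rcases bruhat g with ⟨a, μ, rfl⟩ | ⟨a, μ, b, rfl⟩
  · refine inX_of_eq c0 (p := D.xb a * D.hb μ) (mul_mem (xb_mem_par _) (hb_mem_par _)) ?_
    rw [rep_c0, one_mul, map_mul]; rfl
  · refine inX_of_eq (c1 a) (p := D.hb μ * D.xb b) (mul_mem (hb_mem_par _) (xb_mem_par _)) ?_
    rw [rep_c1, map_mul, map_mul, map_mul]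
    change D.xb a * D.tb * D.hb μ * D.xb b = _
    group

theorem Full.inX_phia (hD : D.Full) (g : SpecialLinearGroup (Fin 2) F) {z : Γ} (hz : D.InX z) :
    D.InX (D.φa g * z) := by
  obtain ⟨ω, p, hp, rfl⟩ := hz
  have key : D.InX (D.φa g * D.rep ω) := by
    rcases ω with _ | r | ⟨s, r⟩ | ⟨u, v, w⟩
    · refine inX_of_eq c0 (phia_mem_par g) ?_
      rw [rep_c0, one_mul]; exact mul_one _
    · exact hD.phia_c1 g r
    · have h1 : D.φa g * D.rep (c2 s r) = D.φa (g * xS s * wS) * (D.xb r * D.tb) := by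
        rw [rep_c2', map_mul, map_mul]
        change D.φa g * (D.xa s * D.ta * (D.xb r * D.tb)) = D.φa g * D.xa s * D.ta * (D.xb r * D.tb)
        group
      change D.InX (D.φa g * D.rep (c2 s r))
      rw [h1]
      exact hD.phia_c1 _ r
    · obtain ⟨u', v', w', h⟩ := hD.phia_qf g u v w
      refine inX_of_eq (c3 u' v' w') (phia_mem_par g) ?_
      change D.φa g * D.rep (c3 u v w) = _
      rw [rep_c3, rep_c3, ← h]
      have hc := (hD.w0_phia g).eq
      calc D.φa g * (D.qf u v w * (D.tb * D.ta * D.tb))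
          = D.φa g * D.qf u v w * (D.φa g)⁻¹ * (D.φa g * (D.tb * D.ta * D.tb)) := by group
        _ = D.φa g * D.qf u v w * (D.φa g)⁻¹ * ((D.tb * D.ta * D.tb) * D.φa g) := by rw [hc]
        _ = _ := by group
  obtain ⟨ω', p', hp', h⟩ := key
  exact ⟨ω', p' * p, mul_mem hp' hp, by rw [← mul_assoc, h, mul_assoc]⟩

theorem Full.inX_phib (hD : D.Full) (g : SpecialLinearGroup (Fin 2) F) {z : Γ} (hz : D.InX z) :
    D.InX (D.φb g * z) := by
  obtain ⟨ω, p, hp, rfl⟩ := hz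
  have key : D.InX (D.φb g * D.rep ω) := by
    rcases ω with _ | r | ⟨s, r⟩ | ⟨u, v, w⟩
    · change D.InX (D.φb g * D.rep c0)
      rw [rep_c0, mul_one]; exact phib_c0 g
    · have h1 : D.φb g * D.rep (c1 r) = D.φb (g * xS r * wS) := by
        rw [rep_c1, map_mul, map_mul]
        change D.φb g * (D.xb r * D.tb) = D.φb g * D.xb r * D.tb
        group
      change D.InX (D.φb g * D.rep (c1 r))
      rw [h1]
      exact phib_c0 _
    · exact hD.phib_c2 g s r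
    · have h1 : D.φb g * D.rep (c3 u v w) = D.φb (g * xS w * wS) * (D.xa v * D.x2 u * D.ta * D.tb) := by
        rw [hD.rep_c3', map_mul, map_mul]
        change D.φb g * (D.xb w * D.tb * (D.xa v * D.x2 u * D.ta * D.tb)) =
          D.φb g * D.xb w * D.tb * (D.xa v * D.x2 u * D.ta * D.tb)
        group
      change D.InX (D.φb g * D.rep (c3 u v w))
      rw [h1]
      exact hD.phib_c2 _ v u
  obtain ⟨ω', p', hp', h⟩ := key
  exact ⟨ω', p' * p, mul_mem hp' hp, by rw [← mul_assoc, h, mul_assoc]⟩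

theorem Full.inX_all (hD : D.Full) (hgen : Subgroup.closure (Set.range D.φa ∪ Set.range D.φb) = ⊤) (z : Γ) :
    D.InX z := by
  have hz : z ∈ Subgroup.closure (Set.range D.φa ∪ Set.range D.φb) := by rw [hgen]; trivial
  have key : ∀ y, D.InX y → D.InX (z * y) := by
    induction hz using Subgroup.closure_induction'' with
    | mem x hx =>
      intro y hy
      rcases hx with ⟨g, rfl⟩ | ⟨g, rfl⟩
      · exact hD.inX_phia g hy
      · exact hD.inX_phib g hy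
    | inv_mem x hx =>
      intro y hy
      rcases hx with ⟨g, rfl⟩ | ⟨g, rfl⟩
      · rw [← map_inv]; exact hD.inX_phia _ hy
      · rw [← map_inv]; exact hD.inX_phib _ hy
    | one => intro y hy; rwa [one_mul]
    | mul x y _ _ hx hy =>
      intro w hw
      rw [mul_assoc]
      exact hx _ (hy _ hw)
  have := key 1 (inX_of_eq c0 (one_mem _) (by rw [rep_c0, one_mul]))
  rwa [mul_one] at this

theorem Full.surj (hD : D.Full) (hgen : Subgroup.closure (Set.range D.φa ∪ Set.range D.φb) = ⊤) :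
    Function.Surjective (fun x : Cell F × (F × F × F × SpecialLinearGroup (Fin 2) F × Fˣ) =>
      D.rep x.1 * D.pfun x.2) := by
  intro z
  obtain ⟨ω, p, hp, h⟩ := hD.inX_all hgen z
  obtain ⟨y, hy⟩ := hD.par_subset hp
  exact ⟨(ω, y), by rw [h, ← hy]⟩

theorem Full.finite_and_card [Finite F] (hD : D.Full)
    (hgen : Subgroup.closure (Set.range D.φa ∪ Set.range D.φb) = ⊤) :
    Finite Γ ∧ Nat.card Γ ≤
      Nat.card (Cell F) * Nat.card (F × F × F × SpecialLinearGroup (Fin 2) F × Fˣ) := by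
  classical
  have : Fintype F := Fintype.ofFinite F
  have : Finite (SpecialLinearGroup (Fin 2) F) := Subtype.finite
  have hs := hD.surj hgen
  refine ⟨Finite.of_surjective _ hs, ?_⟩
  rw [← Nat.card_prod]
  exact Nat.card_le_card_of_surjective _ hs

end C2Data

end Cfsg.Agent.Lib.Helper11.Pres4
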