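import Mathlib
import Cfsg.Agent.Lib.Helper11.Pres4A
import Cfsg.Agent.Lib.Helper11.Pres3D

set_option autoImplicit false

namespace Cfsg.Agent.Lib.Helper11.Pres4

open Cfsg.Agent.Lib.Helper11.SL2Hom Cfsg.Agent.Lib.Helper11.Pres2 Cfsg.Agent.Lib.Helper11.Pres3 Matrix

section Generic

variable {F : Type*} [Field F] {Γ : Type*} [Group Γ]

/-- spreading a commutation relation between two root groups from the parameters `(1, 1)` -/
theorem comm_spread [Finite F] (x y : F → Γ) (hx : ∀ a b, x (a + b) = x a * x b)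
    (hy : ∀ a b, y (a + b) = y a * y b) (h11 : Commute (x 1) (y 1))
    (hA : ∀ σ : Fˣ, ∃ g : Γ, (∀ r, g * x r * g⁻¹ = x ((σ : F) ^ 2 * r)) ∧ (∀ r, g * y r * g⁻¹ = y r))
    (hB : ∀ σ : Fˣ, ∃ g : Γ, (∀ r, g * x r * g⁻¹ = x r) ∧ (∀ r, g * y r * g⁻¹ = y ((σ : F) ^ 2 * r))) :
    ∀ r s, Commute (x r) (y s) := by
  have hx0 : x 0 = 1 := add_hom_zero x hx
  have hy0 : y 0 = 1 := add_hom_zero y hy
  have hxneg : ∀ a, x (-a) = (x a)⁻¹ := add_hom_neg x hx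
  have hyneg : ∀ a, y (-a) = (y a)⁻¹ := add_hom_neg y hy
  have conj_comm : ∀ (g a b : Γ), Commute a b → Commute (g * a * g⁻¹) (g * b * g⁻¹) := by
    intro g a b h
    unfold Commute SemiconjBy
    calc g * a * g⁻¹ * (g * b * g⁻¹) = g * (a * b) * g⁻¹ := by group
      _ = g * (b * a) * g⁻¹ := by rw [h.eq]
      _ = _ := by group
  -- step a
  let A : AddSubgroup F :=
    { carrier := {r | Commute (x r) (y 1)}
      zero_mem' := by show Commute (x 0) (y 1); rw [hx0]; exact Commute.one_left _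
      add_mem' := by
        intro a b ha hb
        show Commute (x (a + b)) (y 1)
        rw [hx]; exact Commute.mul_left ha hb
      neg_mem' := by
        intro a ha
        show Commute (x (-a)) (y 1)
        rw [hxneg]; exact Commute.inv_left ha }
  have hAsq : ∀ z : F, z ^ 2 ∈ A := by
    intro z
    by_cases hz : z = 0
    · rw [hz]; simp
    · obtain ⟨g, hg1, hg2⟩ := hA (Units.mk0 z hz)
      have := conj_comm g _ _ h11
      rw [hg1, hg2, Units.val_mk0, mul_one] at this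
      exact this
  have ha : ∀ r, Commute (x r) (y 1) := fun r => addSubgroup_eq_top_of_sq A hAsq r
  intro r
  let B : AddSubgroup F :=
    { carrier := {s | Commute (x r) (y s)}
      zero_mem' := by show Commute (x r) (y 0); rw [hy0]; exact Commute.one_right _
      add_mem' := by
        intro a b ha hb
        show Commute (x r) (y (a + b))
        rw [hy]; exact Commute.mul_right ha hb
      neg_mem' := by
        intro a ha
        show Commute (x r) (y (-a))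
        rw [hyneg]; exact Commute.inv_right ha }
  have hBsq : ∀ z : F, z ^ 2 ∈ B := by
    intro z
    by_cases hz : z = 0
    · rw [hz]; simp
    · obtain ⟨g, hg1, hg2⟩ := hB (Units.mk0 z hz)
      have := conj_comm g _ _ (ha r)
      rw [hg1, hg2, Units.val_mk0, mul_one] at this
      exact this
  exact fun s => addSubgroup_eq_top_of_sq B hBsq s

/-- spreading a two-parameter relation from the parameters `(1, 1)` -/
theorem rel_spread [Finite F] (R : F → F → Prop) (h11 : R 1 1) (hzero : R 1 0)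
    (hadd : ∀ s s', R 1 s → R 1 s' → R 1 (s + s')) (hneg : ∀ s, R 1 s → R 1 (-s))
    (hsq : ∀ (σ : Fˣ) (s : F), R 1 s → R 1 ((σ : F) ^ 2 * s))
    (hunit : ∀ σ : Fˣ, ∃ c : Fˣ, ∀ s, R 1 s → R (σ : F) ((c : F) * s))
    (hx0 : ∀ s, R 0 s) : ∀ r s, R r s := by
  let A : AddSubgroup F :=
    { carrier := {s | R 1 s}
      zero_mem' := hzero
      add_mem' := fun ha hb => hadd _ _ ha hb
      neg_mem' := fun ha => hneg _ ha }
  have hAsq : ∀ z : F, z ^ 2 ∈ A := by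
    intro z
    by_cases hz : z = 0
    · rw [hz]; simp
    · have := hsq (Units.mk0 z hz) 1 h11
      rw [Units.val_mk0, mul_one] at this
      exact this
  have h1 : ∀ s, R 1 s := fun s => addSubgroup_eq_top_of_sq A hAsq s
  intro r s
  by_cases hr : r = 0
  · rw [hr]; exact hx0 s
  · obtain ⟨c, hc⟩ := hunit (Units.mk0 r hr)
    have := hc ((c : F)⁻¹ * s) (h1 _)
    rw [Units.val_mk0, ← mul_assoc, mul_inv_cancel₀ c.ne_zero, one_mul] at this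
    exact this

end Generic

namespace C2Data

variable {F : Type*} [Field F] {Γ : Type*} [Group Γ] (D : C2Data F Γ)

/-- the relations for a generator `ζ` of `Fˣ`, at the parameter one -/
structure Inst (ζ : Fˣ) : Prop where
  hgen : ∀ s : Fˣ, ∃ n : ℕ, s = ζ ^ n
  i_ha_hb : Commute (D.ha ζ) (D.hb ζ)
  i_hb_xa : D.hb ζ * D.xa 1 * (D.hb ζ)⁻¹ = D.xa ((ζ : F)⁻¹)
  i_ha_xb : Commute (D.ha ζ * D.hb ζ) (D.xb 1)
  i_ta_hb : D.ta * D.hb ζ * D.ta⁻¹ = D.ha ζ * D.hb ζ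
  i_tb_ha : D.tb * D.ha ζ * D.tb⁻¹ = D.ha ζ * D.hb ζ * D.hb ζ
  i_tb_x2 : Commute D.tb (D.x2 1)
  i_ta_xab : D.ta * D.xab 1 * D.ta⁻¹ = (D.xab 1)⁻¹
  braid : D.ta * D.tb * D.ta * D.tb = D.tb * D.ta * D.tb * D.ta
  i_xa_xb : D.xa 1 * D.xb 1 * (D.xa 1)⁻¹ = D.x2 1 * (D.xab 1)⁻¹ * D.xb 1
  i_xa_xab : D.xa 1 * D.xab 1 * (D.xa 1)⁻¹ = (D.x2 1)⁻¹ * (D.x2 1)⁻¹ * D.xab 1
  i_xa_x2 : Commute (D.xa 1) (D.x2 1)
  i_xb_xab : Commute (D.xb 1) (D.xab 1)
  i_xb_x2 : Commute (D.xb 1) (D.x2 1)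
  i_xab_x2 : Commute (D.xab 1) (D.x2 1)

variable {D} {ζ : Fˣ}

theorem Inst.sq_pow (hI : D.Inst ζ) (y : F) (hy : y ≠ 0) : ∃ n : ℕ, y ^ 2 = ((ζ : F) ^ 2) ^ n := by
  obtain ⟨n, hn⟩ := hI.hgen (Units.mk0 y hy)
  refine ⟨n, ?_⟩
  have : y = (ζ : F) ^ n := by
    have := congrArg Units.val hn
    rwa [Units.val_mk0, Units.val_pow_eq_pow_val] at this
  rw [this]; ring

theorem Inst.tor [Finite F] (hI : D.Inst ζ) : D.Tor where
  ha_hb := by
    intro s s'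
    obtain ⟨m, rfl⟩ := hI.hgen s
    obtain ⟨n, rfl⟩ := hI.hgen s'
    rw [ha_pow, hb_pow]
    exact hI.i_ha_hb.pow_pow m n
  hb_xa := by
    intro s r
    have hz : ∀ r, D.hb ζ * D.xa r * (D.hb ζ)⁻¹ = D.xa ((ζ : F)⁻¹ * r) :=
      spread D.xa D.xa_add (D.hb ζ) (D.ha ζ) hI.i_ha_hb.symm _ ((ζ : F) ^ 2) (fun r => D.ha_xa ζ r)
        hI.i_hb_xa hI.sq_pow
    obtain ⟨n, rfl⟩ := hI.hgen s
    rw [hb_pow, conj_pow_act D.xa _ _ hz, Units.val_pow_eq_pow_val, inv_pow]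
  ha_xb := by
    intro s r
    have h1 : D.ha ζ * D.xb 1 * (D.ha ζ)⁻¹ = D.xb (((ζ : F) ^ 2)⁻¹) := by
      have e1 := D.hb_xb ζ⁻¹ 1
      rw [← hb_inv, inv_inv, Units.val_inv_eq_inv_val, mul_one, inv_pow] at e1
      have c1 := hI.i_ha_hb.eq
      have c2 := hI.i_ha_xb.eq
      rw [← e1]
      calc D.ha ζ * D.xb 1 * (D.ha ζ)⁻¹
          = (D.hb ζ)⁻¹ * ((D.hb ζ * D.ha ζ) * D.xb 1) * (D.hb ζ * D.ha ζ)⁻¹ * D.hb ζ := by group
        _ = (D.hb ζ)⁻¹ * ((D.ha ζ * D.hb ζ) * D.xb 1) * (D.ha ζ * D.hb ζ)⁻¹ * D.hb ζ := by rw [c1]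
        _ = (D.hb ζ)⁻¹ * (D.xb 1 * (D.ha ζ * D.hb ζ)) * (D.ha ζ * D.hb ζ)⁻¹ * D.hb ζ := by rw [c2]
        _ = _ := by group
    have hz : ∀ r, D.ha ζ * D.xb r * (D.ha ζ)⁻¹ = D.xb (((ζ : F) ^ 2)⁻¹ * r) :=
      spread D.xb D.xb_add (D.ha ζ) (D.hb ζ) hI.i_ha_hb _ ((ζ : F) ^ 2) (fun r => D.hb_xb ζ r)
        h1 hI.sq_pow
    obtain ⟨n, rfl⟩ := hI.hgen s
    rw [ha_pow, conj_pow_act D.xb _ _ hz, Units.val_pow_eq_pow_val]
    congr 2
    rw [inv_pow, ← pow_mul, ← pow_mul, mul_comm]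
  ta_hb := by
    intro s
    obtain ⟨n, rfl⟩ := hI.hgen s
    rw [hb_pow, ha_pow, ← conj_pow, hI.i_ta_hb, hI.i_ha_hb.mul_pow]
  tb_ha := by
    intro s
    obtain ⟨n, rfl⟩ := hI.hgen s
    rw [hb_pow, ha_pow, ← conj_pow, hI.i_tb_ha]
    have c1 : Commute (D.ha ζ * D.hb ζ) (D.hb ζ) := Commute.mul_left hI.i_ha_hb (Commute.refl _)
    rw [c1.mul_pow, hI.i_ha_hb.mul_pow]

/-- conjugating a commutation relation -/
theorem conj_commute (g a b : Γ) (h : Commute a b) : Commute (g * a * g⁻¹) (g * b * g⁻¹) := by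
  unfold Commute SemiconjBy
  calc g * a * g⁻¹ * (g * b * g⁻¹) = g * (a * b) * g⁻¹ := by group
    _ = g * (b * a) * g⁻¹ := by rw [h.eq]
    _ = _ := by group

theorem Inst.tb_x2 [Finite F] (hI : D.Inst ζ) (r : F) : D.tb * D.x2 r * D.tb⁻¹ = D.x2 r := by
  have hT := hI.tor
  have hk : Commute D.tb (D.ha ζ * D.hb ζ) := by
    have e1 := hT.tb_ha ζ
    have e2 := D.tb_hb ζ
    have e3 : D.hb ζ * D.hb ζ⁻¹ = 1 := by rw [← hb_mul, mul_inv_cancel, hb_one]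
    unfold Commute SemiconjBy
    have : D.tb * (D.ha ζ * D.hb ζ) * D.tb⁻¹ = D.ha ζ * D.hb ζ := by
      calc D.tb * (D.ha ζ * D.hb ζ) * D.tb⁻¹
          = (D.tb * D.ha ζ * D.tb⁻¹) * (D.tb * D.hb ζ * D.tb⁻¹) := by group
        _ = D.ha ζ * D.hb ζ * (D.hb ζ * D.hb ζ⁻¹) := by rw [e1, e2]; group
        _ = _ := by rw [e3, mul_one]
    exact mul_inv_eq_iff_eq_mul.mp this
  have h1 : D.tb * D.x2 1 * D.tb⁻¹ = D.x2 1 := by
    rw [hI.i_tb_x2.eq]; group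
  have := spread D.x2 D.x2_add D.tb (D.ha ζ * D.hb ζ) hk 1 ((ζ : F) ^ 2) (fun r => hT.act_x2 ζ ζ r)
    h1 hI.sq_pow r
  rwa [one_mul] at this

theorem Inst.ta_xab [Finite F] (hI : D.Inst ζ) (s : F) : D.ta * D.xab s * D.ta⁻¹ = D.xab (-s) := by
  have hT := hI.tor
  have hk : Commute D.ta (D.ha ζ * D.hb (ζ ^ 2)) := by
    have e1 := D.ta_ha ζ
    have e2 := hT.ta_hb (ζ ^ 2)
    have e3 : D.ha ζ⁻¹ * D.ha (ζ ^ 2) = D.ha ζ := by
      rw [← ha_mul]; congr 1; rw [pow_two, inv_mul_cancel_left]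
    unfold Commute SemiconjBy
    have : D.ta * (D.ha ζ * D.hb (ζ ^ 2)) * D.ta⁻¹ = D.ha ζ * D.hb (ζ ^ 2) := by
      calc D.ta * (D.ha ζ * D.hb (ζ ^ 2)) * D.ta⁻¹
          = (D.ta * D.ha ζ * D.ta⁻¹) * (D.ta * D.hb (ζ ^ 2) * D.ta⁻¹) := by group
        _ = (D.ha ζ⁻¹ * D.ha (ζ ^ 2)) * D.hb (ζ ^ 2) := by rw [e1, e2]; group
        _ = _ := by rw [e3]
    exact mul_inv_eq_iff_eq_mul.mp this
  have h1 : D.ta * D.xab 1 * D.ta⁻¹ = D.xab (-1) := by
    rw [hI.i_ta_xab, xab_inv]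
  have hact : ∀ r, (D.ha ζ * D.hb (ζ ^ 2)) * D.xab r * (D.ha ζ * D.hb (ζ ^ 2))⁻¹ =
      D.xab ((ζ : F) ^ 2 * r) := by
    intro r
    have := hT.act_xab ζ (ζ ^ 2) r
    rwa [Units.val_pow_eq_pow_val] at this
  have := spread D.xab D.xab_add D.ta (D.ha ζ * D.hb (ζ ^ 2)) hk (-1) ((ζ : F) ^ 2) hact
    h1 hI.sq_pow s
  rwa [neg_one_mul] at this

/-! the four commutation relations -/

theorem Inst.xa_x2 [Finite F] (hI : D.Inst ζ) : ∀ r s : F, Commute (D.xa r) (D.x2 s) := by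
  have hT := hI.tor
  apply comm_spread D.xa D.x2 D.xa_add D.x2_add hI.i_xa_x2
  · intro σ
    -- `hb σ⁻²` moves `xa` by `σ²` and fixes `x2`
    refine ⟨D.ha 1 * D.hb (σ ^ 2)⁻¹, fun r => ?_, fun r => ?_⟩
    · rw [hT.act_xa]; congr 1
      simp
    · rw [hT.act_x2]; congr 1
      simp
  · intro σ
    -- `ha σ hb σ²` fixes `xa` and moves `x2` by `σ²`
    refine ⟨D.ha σ * D.hb (σ ^ 2), fun r => ?_, fun r => ?_⟩
    · rw [hT.act_xa]; congr 1
      have : (σ : F) ≠ 0 := σ.ne_zero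
      rw [Units.val_pow_eq_pow_val]; field_simp
    · rw [hT.act_x2]

theorem Inst.xb_xab [Finite F] (hI : D.Inst ζ) : ∀ r s : F, Commute (D.xb r) (D.xab s) := by
  have hT := hI.tor
  apply comm_spread D.xb D.xab D.xb_add D.xab_add hI.i_xb_xab
  · intro σ
    -- `ha σ⁻¹` moves `xb` by `σ²` and fixes `xab`
    refine ⟨D.ha σ⁻¹ * D.hb 1, fun r => ?_, fun r => ?_⟩
    · rw [hT.act_xb]; congr 1
      simp
    · rw [hT.act_xab]; congr 1
      simp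
  · intro σ
    -- `ha σ² hb σ²` fixes `xb` and moves `xab` by `σ²`
    refine ⟨D.ha (σ ^ 2) * D.hb (σ ^ 2), fun r => ?_, fun r => ?_⟩
    · rw [hT.act_xb]; congr 1
      have : (σ : F) ≠ 0 := σ.ne_zero
      rw [Units.val_pow_eq_pow_val]; field_simp
    · rw [hT.act_xab, Units.val_pow_eq_pow_val]

theorem Inst.xb_x2 [Finite F] (hI : D.Inst ζ) : ∀ r s : F, Commute (D.xb r) (D.x2 s) := by
  have hT := hI.tor
  apply comm_spread D.xb D.x2 D.xb_add D.x2_add hI.i_xb_x2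
  · intro σ
    -- `hb σ` moves `xb` by `σ²` and fixes `x2`
    refine ⟨D.ha 1 * D.hb σ, fun r => ?_, fun r => ?_⟩
    · rw [hT.act_xb]; congr 1
      simp
    · rw [hT.act_x2]; congr 1
      simp
  · intro σ
    -- `ha σ hb σ` fixes `xb` and moves `x2` by `σ²`
    refine ⟨D.ha σ * D.hb σ, fun r => ?_, fun r => ?_⟩
    · rw [hT.act_xb]; congr 1
      have : (σ : F) ≠ 0 := σ.ne_zero
      field_simp
    · rw [hT.act_x2]

theorem Inst.xab_x2 [Finite F] (hI : D.Inst ζ) : ∀ r s : F, Commute (D.xab r) (D.x2 s) := by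
  have hT := hI.tor
  apply comm_spread D.xab D.x2 D.xab_add D.x2_add hI.i_xab_x2
  · intro σ
    -- `hb σ²` moves `xab` by `σ²` and fixes `x2`
    refine ⟨D.ha 1 * D.hb (σ ^ 2), fun r => ?_, fun r => ?_⟩
    · rw [hT.act_xab, Units.val_pow_eq_pow_val]
    · rw [hT.act_x2]; congr 1
      simp
  · intro σ
    -- `ha σ` fixes `xab` and moves `x2` by `σ²`
    refine ⟨D.ha σ * D.hb 1, fun r => ?_, fun r => ?_⟩
    · rw [hT.act_xab]; congr 1
      simp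
    · rw [hT.act_x2]

end C2Data

end Cfsg.Agent.Lib.Helper11.Pres4
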