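import Mathlib
import Cfsg.Agent.Lib.Helper11.Pres4D

set_option autoImplicit false

namespace Cfsg.Agent.Lib.Helper11.Pres4

open Cfsg.Agent.Lib.Helper11.SL2Hom Cfsg.Agent.Lib.Helper11.Pres2 Cfsg.Agent.Lib.Helper11.Pres3 Matrix

namespace C2Data

variable {F : Type*} [Field F] {Γ : Type*} [Group Γ] {D : C2Data F Γ} {ζ : Fˣ}

/-- conjugation of a relation `a b a⁻¹ = c d` -/
theorem conj_rel2 (g a b c d : Γ) (h : a * b * a⁻¹ = c * d) :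
    (g * a * g⁻¹) * (g * b * g⁻¹) * (g * a * g⁻¹)⁻¹ = (g * c * g⁻¹) * (g * d * g⁻¹) := by
  calc (g * a * g⁻¹) * (g * b * g⁻¹) * (g * a * g⁻¹)⁻¹ = g * (a * b * a⁻¹) * g⁻¹ := by group
    _ = g * (c * d) * g⁻¹ := by rw [h]
    _ = _ := by group

/-- conjugation of a relation `a b a⁻¹ = c d e` -/
theorem conj_rel3 (g a b c d e : Γ) (h : a * b * a⁻¹ = c * d * e) :
    (g * a * g⁻¹) * (g * b * g⁻¹) * (g * a * g⁻¹)⁻¹ =
      (g * c * g⁻¹) * (g * d * g⁻¹) * (g * e * g⁻¹) := by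
  calc (g * a * g⁻¹) * (g * b * g⁻¹) * (g * a * g⁻¹)⁻¹ = g * (a * b * a⁻¹) * g⁻¹ := by group
    _ = g * (c * d * e) * g⁻¹ := by rw [h]
    _ = _ := by group

theorem Inst.xa_xab [Finite F] (hI : D.Inst ζ) :
    ∀ r s : F, D.xa r * D.xab s * (D.xa r)⁻¹ = D.x2 (-(2 * r * s)) * D.xab s := by
  have hT := hI.tor
  have hc := hI.xab_x2
  apply rel_spread (fun r s => D.xa r * D.xab s * (D.xa r)⁻¹ = D.x2 (-(2 * r * s)) * D.xab s)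
  · -- (1, 1)
    show D.xa 1 * D.xab 1 * (D.xa 1)⁻¹ = D.x2 (-(2 * 1 * 1)) * D.xab 1
    rw [hI.i_xa_xab, x2_inv, ← x2_add]
    congr 2; ring
  · show D.xa 1 * D.xab 0 * (D.xa 1)⁻¹ = D.x2 (-(2 * 1 * 0)) * D.xab 0
    rw [xab_zero, mul_zero, neg_zero, x2_zero]; group
  · intro s s' h h'
    show D.xa 1 * D.xab (s + s') * (D.xa 1)⁻¹ = D.x2 (-(2 * 1 * (s + s'))) * D.xab (s + s')
    have e : -(2 * 1 * (s + s')) = -(2 * 1 * s) + -(2 * 1 * s') := by ring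
    rw [e, x2_add, xab_add]
    have c := (hc s (-(2 * 1 * s'))).eq
    calc D.xa 1 * (D.xab s * D.xab s') * (D.xa 1)⁻¹
        = (D.xa 1 * D.xab s * (D.xa 1)⁻¹) * (D.xa 1 * D.xab s' * (D.xa 1)⁻¹) := by group
      _ = D.x2 (-(2 * 1 * s)) * (D.xab s * D.x2 (-(2 * 1 * s'))) * D.xab s' := by rw [h, h']; group
      _ = _ := by rw [c]; group
  · intro s h
    show D.xa 1 * D.xab (-s) * (D.xa 1)⁻¹ = D.x2 (-(2 * 1 * -s)) * D.xab (-s)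
    have e : -(2 * 1 * -s) = -(-(2 * 1 * s)) := by ring
    rw [e, ← x2_inv, ← xab_inv]
    have c := (hc s (-(2 * 1 * s))).eq
    calc D.xa 1 * (D.xab s)⁻¹ * (D.xa 1)⁻¹ = (D.xa 1 * D.xab s * (D.xa 1)⁻¹)⁻¹ := by group
      _ = (D.xab s * D.x2 (-(2 * 1 * s)))⁻¹ := by rw [h, c]
      _ = _ := by group
  · intro σ s h
    show D.xa 1 * D.xab ((σ : F) ^ 2 * s) * (D.xa 1)⁻¹ =
      D.x2 (-(2 * 1 * ((σ : F) ^ 2 * s))) * D.xab ((σ : F) ^ 2 * s)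
    have := conj_rel2 (D.ha σ * D.hb (σ ^ 2)) _ _ _ _ h
    rw [hT.act_xa, hT.act_xab, hT.act_x2, Units.val_pow_eq_pow_val] at this
    have hσ : (σ : F) ≠ 0 := σ.ne_zero
    have e1 : (σ : F) ^ 2 * ((σ : F) ^ 2)⁻¹ * 1 = 1 := by field_simp
    have e2 : (σ : F) ^ 2 * -(2 * 1 * s) = -(2 * 1 * ((σ : F) ^ 2 * s)) := by ring
    rw [e1, e2] at this
    exact this
  · intro σ
    refine ⟨σ⁻¹, fun s h => ?_⟩
    show D.xa (σ : F) * D.xab (((σ⁻¹ : Fˣ) : F) * s) * (D.xa (σ : F))⁻¹ =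
      D.x2 (-(2 * (σ : F) * (((σ⁻¹ : Fˣ) : F) * s))) * D.xab (((σ⁻¹ : Fˣ) : F) * s)
    have := conj_rel2 (D.ha 1 * D.hb σ⁻¹) _ _ _ _ h
    rw [hT.act_xa, hT.act_xab, hT.act_x2] at this
    have hσ : (σ : F) ≠ 0 := σ.ne_zero
    have e1 : ((1 : Fˣ) : F) ^ 2 * ((σ⁻¹ : Fˣ) : F)⁻¹ * 1 = (σ : F) := by simp
    have e2 : ((1 : Fˣ) : F) ^ 2 * -(2 * 1 * s) = -(2 * (σ : F) * (((σ⁻¹ : Fˣ) : F) * s)) := by
      rw [Units.val_inv_eq_inv_val]; field_simp; simp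
    rw [e1, e2] at this
    exact this
  · intro s
    show D.xa 0 * D.xab s * (D.xa 0)⁻¹ = D.x2 (-(2 * 0 * s)) * D.xab s
    rw [xa_zero, mul_zero, zero_mul, neg_zero, x2_zero]; group

/-- multiplication in the unipotent radical, from the three commutation relations -/
theorem qf3_mul (c1 : ∀ r s : F, Commute (D.xb r) (D.xab s)) (c2 : ∀ r s : F, Commute (D.xb r) (D.x2 s))
    (c3 : ∀ r s : F, Commute (D.xab r) (D.x2 s)) (u v w u' v' w' : F) :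
    (D.x2 u * D.xab v * D.xb w) * (D.x2 u' * D.xab v' * D.xb w') =
      D.x2 (u + u') * D.xab (v + v') * D.xb (w + w') := by
  rw [x2_add, xab_add, xb_add]
  have e1 := (c2 w u').eq
  have e2 := (c1 w v').eq
  have e3 := (c3 v u').eq
  calc D.x2 u * D.xab v * D.xb w * (D.x2 u' * D.xab v' * D.xb w')
      = D.x2 u * D.xab v * (D.xb w * D.x2 u') * D.xab v' * D.xb w' := by group
    _ = D.x2 u * (D.xab v * D.x2 u') * (D.xb w * D.xab v') * D.xb w' := by rw [e1]; group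
    _ = _ := by rw [e3, e2]; group

theorem Inst.xa_xb [Finite F] (hI : D.Inst ζ) :
    ∀ r s : F, D.xa r * D.xb s * (D.xa r)⁻¹ = D.x2 (r ^ 2 * s) * D.xab (-(r * s)) * D.xb s := by
  have hT := hI.tor
  have c1 := hI.xb_xab
  have c2 := hI.xb_x2
  have c3 := hI.xab_x2
  apply rel_spread
    (fun r s => D.xa r * D.xb s * (D.xa r)⁻¹ = D.x2 (r ^ 2 * s) * D.xab (-(r * s)) * D.xb s)
  · show D.xa 1 * D.xb 1 * (D.xa 1)⁻¹ = D.x2 (1 ^ 2 * 1) * D.xab (-(1 * 1)) * D.xb 1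
    rw [hI.i_xa_xb, xab_inv]
    congr 3 <;> ring
  · show D.xa 1 * D.xb 0 * (D.xa 1)⁻¹ = D.x2 (1 ^ 2 * 0) * D.xab (-(1 * 0)) * D.xb 0
    rw [xb_zero, mul_zero, mul_zero, neg_zero, x2_zero, xab_zero]; group
  · intro s s' h h'
    show D.xa 1 * D.xb (s + s') * (D.xa 1)⁻¹ =
      D.x2 (1 ^ 2 * (s + s')) * D.xab (-(1 * (s + s'))) * D.xb (s + s')
    have e1 : (1 : F) ^ 2 * (s + s') = 1 ^ 2 * s + 1 ^ 2 * s' := by ring
    have e2 : -(1 * (s + s')) = -(1 * s) + -(1 * s') := by ring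
    rw [e1, e2, ← qf3_mul c1 c2 c3, ← h, ← h', xb_add]; group
  · intro s h
    show D.xa 1 * D.xb (-s) * (D.xa 1)⁻¹ = D.x2 (1 ^ 2 * -s) * D.xab (-(1 * -s)) * D.xb (-s)
    have hm := qf3_mul c1 c2 c3 (1 ^ 2 * s) (-(1 * s)) s (1 ^ 2 * -s) (-(1 * -s)) (-s)
    have z1 : (1 : F) ^ 2 * s + 1 ^ 2 * -s = 0 := by ring
    have z2 : -(1 * s) + -(1 * -s) = 0 := by ring
    rw [z1, z2, add_neg_cancel, x2_zero, xab_zero, xb_zero, mul_one, mul_one, ← h] at hm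
    have e : D.xb (-s) = (D.xb s)⁻¹ := (D.xb_inv s).symm
    calc D.xa 1 * D.xb (-s) * (D.xa 1)⁻¹ = (D.xa 1 * D.xb s * (D.xa 1)⁻¹)⁻¹ := by rw [e]; group
      _ = _ := inv_eq_of_mul_eq_one_right hm
  · intro σ s h
    show D.xa 1 * D.xb ((σ : F) ^ 2 * s) * (D.xa 1)⁻¹ =
      D.x2 (1 ^ 2 * ((σ : F) ^ 2 * s)) * D.xab (-(1 * ((σ : F) ^ 2 * s))) * D.xb ((σ : F) ^ 2 * s)
    have := conj_rel3 (D.ha σ * D.hb (σ ^ 2)) _ _ _ _ _ h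
    rw [hT.act_xa, hT.act_xb, hT.act_xab, hT.act_x2, Units.val_pow_eq_pow_val] at this
    have hσ : (σ : F) ≠ 0 := σ.ne_zero
    have e1 : (σ : F) ^ 2 * ((σ : F) ^ 2)⁻¹ * 1 = 1 := by field_simp
    have e2 : ((σ : F) ^ 2)⁻¹ * ((σ : F) ^ 2) ^ 2 * s = (σ : F) ^ 2 * s := by field_simp
    have e3 : (σ : F) ^ 2 * (1 ^ 2 * s) = 1 ^ 2 * ((σ : F) ^ 2 * s) := by ring
    have e4 : (σ : F) ^ 2 * -(1 * s) = -(1 * ((σ : F) ^ 2 * s)) := by ring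
    rw [e1, e2, e3, e4] at this
    exact this
  · intro σ
    refine ⟨σ⁻¹ ^ 2, fun s h => ?_⟩
    show D.xa (σ : F) * D.xb (((σ⁻¹ ^ 2 : Fˣ) : F) * s) * (D.xa (σ : F))⁻¹ =
      D.x2 ((σ : F) ^ 2 * (((σ⁻¹ ^ 2 : Fˣ) : F) * s)) * D.xab (-((σ : F) * (((σ⁻¹ ^ 2 : Fˣ) : F) * s))) *
        D.xb (((σ⁻¹ ^ 2 : Fˣ) : F) * s)
    have := conj_rel3 (D.ha 1 * D.hb σ⁻¹) _ _ _ _ _ h
    rw [hT.act_xa, hT.act_xb, hT.act_xab, hT.act_x2] at this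
    have hσ : (σ : F) ≠ 0 := σ.ne_zero
    have e1 : ((1 : Fˣ) : F) ^ 2 * ((σ⁻¹ : Fˣ) : F)⁻¹ * 1 = (σ : F) := by simp
    have e2 : (((1 : Fˣ) : F) ^ 2)⁻¹ * ((σ⁻¹ : Fˣ) : F) ^ 2 * s = ((σ⁻¹ ^ 2 : Fˣ) : F) * s := by
      rw [Units.val_pow_eq_pow_val]; simp
    have e3 : ((1 : Fˣ) : F) ^ 2 * (1 ^ 2 * s) = (σ : F) ^ 2 * (((σ⁻¹ ^ 2 : Fˣ) : F) * s) := by
      rw [Units.val_pow_eq_pow_val, Units.val_inv_eq_inv_val]; field_simp; simp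
    have e4 : ((σ⁻¹ : Fˣ) : F) * -(1 * s) = -((σ : F) * (((σ⁻¹ ^ 2 : Fˣ) : F) * s)) := by
      rw [Units.val_pow_eq_pow_val, Units.val_inv_eq_inv_val]; field_simp
    rw [e1, e2, e3, e4] at this
    exact this
  · intro s
    show D.xa 0 * D.xb s * (D.xa 0)⁻¹ = D.x2 (0 ^ 2 * s) * D.xab (-(0 * s)) * D.xb s
    rw [xa_zero]
    have : (0 : F) ^ 2 * s = 0 := by ring
    rw [this, zero_mul, neg_zero, x2_zero, xab_zero]; group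

/-- the full set of relations from the relations at the parameter one -/
theorem Inst.full [Finite F] (hI : D.Inst ζ) : D.Full where
  toTor := hI.tor
  tb_x2 := hI.tb_x2
  ta_xab := hI.ta_xab
  braid := hI.braid
  xa_xb := hI.xa_xb
  xa_xab := hI.xa_xab
  xa_x2 := hI.xa_x2
  xb_xab := hI.xb_xab
  xb_x2 := hI.xb_x2
  xab_x2 := hI.xab_x2

end C2Data

end Cfsg.Agent.Lib.Helper11.Pres4
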