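import Mathlib
import Cfsg.Agent.Lib.Helper11.Pres4A

set_option autoImplicit false

namespace Cfsg.Agent.Lib.Helper11.Pres4

open Cfsg.Agent.Lib.Helper11.SL2Hom Cfsg.Agent.Lib.Helper11.Pres2 Cfsg.Agent.Lib.Helper11.Pres3 Matrix

section Mat

variable {F : Type*} [Field F]

local notation:1024 "↑₂" A:1024 => ((A : SpecialLinearGroup (Fin 2) F) : Matrix (Fin 2) (Fin 2) F)

/-- matrices of size four, in block form -/
abbrev M4 (F : Type*) := Matrix (Fin 2 ⊕ Fin 2) (Fin 2 ⊕ Fin 2) F

/-- the short root embedding `g ↦ diag(g, g⁻ᵀ)` -/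
def phiaMat (g : SpecialLinearGroup (Fin 2) F) : M4 F :=
  fromBlocks !![(↑₂g) 0 0, (↑₂g) 0 1; (↑₂g) 1 0, (↑₂g) 1 1] 0 0
    !![(↑₂g) 1 1, -(↑₂g) 1 0; -(↑₂g) 0 1, (↑₂g) 0 0]

/-- the long root embedding, acting on the hyperbolic plane spanned by `e₂, f₂` -/
def phibMat (g : SpecialLinearGroup (Fin 2) F) : M4 F :=
  fromBlocks !![1, 0; 0, (↑₂g) 0 0] !![0, 0; 0, (↑₂g) 0 1] !![0, 0; 0, (↑₂g) 1 0] !![1, 0; 0, (↑₂g) 1 1]

omit [Field F] in
theorem tr2 (a b c d : F) : (!![a, b; c, d])ᵀ = !![a, c; b, d] := by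
  ext i j; fin_cases i <;> fin_cases j <;> rfl

theorem mem_of_blocks (A B C D : Matrix (Fin 2) (Fin 2) F) (h1 : B * Aᵀ - A * Bᵀ = 0)
    (h2 : A * Dᵀ - B * Cᵀ = 1) (h3 : D * Cᵀ - C * Dᵀ = 0) :
    fromBlocks A B C D ∈ symplecticGroup (Fin 2) F := by
  rw [SymplecticGroup.mem_iff]
  have hJ : J (Fin 2) F = fromBlocks 0 (-1) 1 0 := rfl
  rw [hJ, fromBlocks_transpose, fromBlocks_multiply, fromBlocks_multiply]
  have h2' : D * Aᵀ - C * Bᵀ = 1 := by
    have := congrArg Matrix.transpose h2
    rw [transpose_sub, transpose_mul, transpose_mul, transpose_transpose, transpose_transpose,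
      transpose_one] at this
    exact this
  congr 1
  · simp only [mul_zero, mul_one, zero_add, mul_neg, add_zero, neg_mul]
    rw [← sub_eq_add_neg]; exact h1
  · simp only [mul_zero, mul_one, zero_add, mul_neg, add_zero, neg_mul]
    rw [← sub_eq_add_neg, ← neg_sub, h2]
  · simp only [mul_zero, mul_one, zero_add, mul_neg, add_zero, neg_mul]
    rw [← sub_eq_add_neg]; exact h2'
  · simp only [mul_zero, mul_one, zero_add, mul_neg, add_zero, neg_mul]
    rw [← sub_eq_add_neg]; exact h3

theorem memA (a b c d : F) (hd : a * d - b * c = 1) :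
    fromBlocks !![a, b; c, d] 0 0 !![d, -c; -b, a] ∈ symplecticGroup (Fin 2) F := by
  apply mem_of_blocks
  · simp
  · rw [tr2]
    ext i j; fin_cases i <;> fin_cases j <;>
      simp [Matrix.mul_apply, Fin.sum_univ_two, Matrix.one_apply] <;>
      first | done | ring1 | linear_combination hd | linear_combination -hd
  · simp

theorem memB (a b c d : F) (hd : a * d - b * c = 1) :
    fromBlocks !![1, 0; 0, a] !![0, 0; 0, b] !![0, 0; 0, c] !![1, 0; 0, d] ∈
      symplecticGroup (Fin 2) F := by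
  apply mem_of_blocks
  · rw [tr2, tr2]
    ext i j; fin_cases i <;> fin_cases j <;>
      simp [Matrix.mul_apply, Fin.sum_univ_two, Matrix.one_apply] <;>
      first | done | ring1
  · rw [tr2, tr2]
    ext i j; fin_cases i <;> fin_cases j <;>
      simp [Matrix.mul_apply, Fin.sum_univ_two, Matrix.one_apply] <;>
      first | done | ring1 | linear_combination hd | linear_combination -hd
  · rw [tr2, tr2]
    ext i j; fin_cases i <;> fin_cases j <;>
      simp [Matrix.mul_apply, Fin.sum_univ_two, Matrix.one_apply] <;>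
      first | done | ring1

theorem phiaMat_mem (g : SpecialLinearGroup (Fin 2) F) : phiaMat g ∈ symplecticGroup (Fin 2) F :=
  memA _ _ _ _ (det_eq g)

theorem phibMat_mem (g : SpecialLinearGroup (Fin 2) F) : phibMat g ∈ symplecticGroup (Fin 2) F :=
  memB _ _ _ _ (det_eq g)

theorem phiaMat_one : phiaMat (1 : SpecialLinearGroup (Fin 2) F) = 1 := by
  unfold phiaMat
  rw [← fromBlocks_one]
  congr 1 <;> ext i j <;> fin_cases i <;> fin_cases j <;> simp

theorem phibMat_one : phibMat (1 : SpecialLinearGroup (Fin 2) F) = 1 := by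
  unfold phibMat
  rw [← fromBlocks_one]
  congr 1 <;> ext i j <;> fin_cases i <;> fin_cases j <;> simp

theorem phiaMat_mul (a b : SpecialLinearGroup (Fin 2) F) : phiaMat (a * b) = phiaMat a * phiaMat b := by
  unfold phiaMat
  rw [fromBlocks_multiply]
  congr 1 <;> ext i j <;> fin_cases i <;> fin_cases j <;>
    simp [Matrix.mul_apply, Fin.sum_univ_two] <;> ring

theorem phibMat_mul (a b : SpecialLinearGroup (Fin 2) F) : phibMat (a * b) = phibMat a * phibMat b := by
  unfold phibMat
  rw [fromBlocks_multiply]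
  congr 1 <;> ext i j <;> fin_cases i <;> fin_cases j <;>
    simp [Matrix.mul_apply, Fin.sum_univ_two]

/-- the short root embedding as a homomorphism -/
def phiaM : SpecialLinearGroup (Fin 2) F →* symplecticGroup (Fin 2) F where
  toFun g := ⟨phiaMat g, phiaMat_mem g⟩
  map_one' := Subtype.ext phiaMat_one
  map_mul' a b := Subtype.ext (phiaMat_mul a b)

/-- the long root embedding as a homomorphism -/
def phibM : SpecialLinearGroup (Fin 2) F →* symplecticGroup (Fin 2) F where
  toFun g := ⟨phibMat g, phibMat_mem g⟩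
  map_one' := Subtype.ext phibMat_one
  map_mul' a b := Subtype.ext (phibMat_mul a b)

theorem coe_phiaM (g : SpecialLinearGroup (Fin 2) F) : ((phiaM g : symplecticGroup (Fin 2) F) : M4 F) = phiaMat g :=
  rfl
theorem coe_phibM (g : SpecialLinearGroup (Fin 2) F) : ((phibM g : symplecticGroup (Fin 2) F) : M4 F) = phibMat g :=
  rfl

/-- the standard data in `Sp₄(F)` -/
def std : C2Data F (symplecticGroup (Fin 2) F) where
  φa := phiaM
  φb := phibM

/-- explicit root matrices -/
def mXa (r : F) : M4 F := fromBlocks !![1, r; 0, 1] 0 0 !![1, 0; -r, 1]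
/-- Weyl element of `a` -/
def mTa : M4 F := fromBlocks !![0, 1; -1, 0] 0 0 !![0, 1; -1, 0]
/-- torus element of `a` -/
def mHa (s : Fˣ) : M4 F := fromBlocks !![(s : F), 0; 0, (s : F)⁻¹] 0 0 !![(s : F)⁻¹, 0; 0, (s : F)]
/-- root matrices of `b` -/
def mXb (r : F) : M4 F := fromBlocks 1 !![0, 0; 0, r] 0 1
/-- Weyl element of `b` -/
def mTb : M4 F := fromBlocks !![1, 0; 0, 0] !![0, 0; 0, 1] !![0, 0; 0, -1] !![1, 0; 0, 0]
/-- torus element of `b` -/
def mHb (s : Fˣ) : M4 F := fromBlocks !![1, 0; 0, (s : F)] 0 0 !![1, 0; 0, (s : F)⁻¹]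
/-- root matrices of `a + b` -/
def mXab (s : F) : M4 F := fromBlocks 1 !![0, -s; -s, 0] 0 1
/-- root matrices of `2a + b` -/
def mX2 (r : F) : M4 F := fromBlocks 1 !![r, 0; 0, 0] 0 1

theorem coe_xa (r : F) : (((std (F := F)).xa r : symplecticGroup (Fin 2) F) : M4 F) = mXa r := by
  show phiaMat (xS r) = mXa r
  unfold phiaMat mXa
  congr 1 <;> ext i j <;> fin_cases i <;> fin_cases j <;> simp [coe_xS]

theorem coe_ta : (((std (F := F)).ta : symplecticGroup (Fin 2) F) : M4 F) = mTa := by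
  show phiaMat wS = mTa
  unfold phiaMat mTa
  congr 1 <;> ext i j <;> fin_cases i <;> fin_cases j <;> simp [coe_wS]

theorem coe_ha (s : Fˣ) : (((std (F := F)).ha s : symplecticGroup (Fin 2) F) : M4 F) = mHa s := by
  show phiaMat (hU s) = mHa s
  unfold phiaMat mHa
  congr 1 <;> ext i j <;> fin_cases i <;> fin_cases j <;> simp [coe_hU]

theorem coe_xb (r : F) : (((std (F := F)).xb r : symplecticGroup (Fin 2) F) : M4 F) = mXb r := by
  show phibMat (xS r) = mXb r
  unfold phibMat mXb
  congr 1 <;> ext i j <;> fin_cases i <;> fin_cases j <;> simp [coe_xS]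

theorem coe_tb : (((std (F := F)).tb : symplecticGroup (Fin 2) F) : M4 F) = mTb := by
  show phibMat wS = mTb
  unfold phibMat mTb
  congr 1 <;> ext i j <;> fin_cases i <;> fin_cases j <;> simp [coe_wS]

theorem coe_hb (s : Fˣ) : (((std (F := F)).hb s : symplecticGroup (Fin 2) F) : M4 F) = mHb s := by
  show phibMat (hU s) = mHb s
  unfold phibMat mHb
  congr 1 <;> ext i j <;> fin_cases i <;> fin_cases j <;> simp [coe_hU]


/-! ### matrix identities -/

theorem M1 (s : F) : mTb * mXa s = mXab s * (mTb : M4 F) := by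
  unfold mTb mXa mXab
  rw [fromBlocks_multiply, fromBlocks_multiply]
  congr 1 <;> ext i j <;> fin_cases i <;> fin_cases j <;>
    simp [Matrix.mul_apply, Fin.sum_univ_two]

theorem M2 (r : F) : mTa * mXb r = mX2 r * (mTa : M4 F) := by
  unfold mTa mXb mX2
  rw [fromBlocks_multiply, fromBlocks_multiply]
  congr 1 <;> ext i j <;> fin_cases i <;> fin_cases j <;>
    simp [Matrix.mul_apply, Fin.sum_univ_two]

theorem M3 (s t : Fˣ) : mHa s * mHb t = mHb t * mHa s := by
  unfold mHa mHb
  rw [fromBlocks_multiply, fromBlocks_multiply]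
  congr 1 <;> ext i j <;> fin_cases i <;> fin_cases j <;>
    simp [Matrix.mul_apply, Fin.sum_univ_two, mul_comm]

theorem M4' (s : Fˣ) (r : F) : mHb s * mXa r = mXa ((s : F)⁻¹ * r) * mHb s := by
  have hs : (s : F) ≠ 0 := s.ne_zero
  unfold mHb mXa
  rw [fromBlocks_multiply, fromBlocks_multiply]
  congr 1 <;> ext i j <;> fin_cases i <;> fin_cases j <;>
    simp [Matrix.mul_apply, Fin.sum_univ_two] <;> field_simp

theorem M5 (s : Fˣ) (r : F) : mHa s * mXb r = mXb (((s : F) ^ 2)⁻¹ * r) * mHa s := by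
  have hs : (s : F) ≠ 0 := s.ne_zero
  unfold mHa mXb
  rw [fromBlocks_multiply, fromBlocks_multiply]
  congr 1 <;> ext i j <;> fin_cases i <;> fin_cases j <;>
    simp [Matrix.mul_apply, Fin.sum_univ_two] <;> field_simp

theorem M6 (s : Fˣ) : mTa * mHb s = (mHa s * mHb s) * mTa := by
  have hs : (s : F) ≠ 0 := s.ne_zero
  unfold mHa mHb mTa
  rw [fromBlocks_multiply, fromBlocks_multiply, fromBlocks_multiply]
  congr 1 <;> ext i j <;> fin_cases i <;> fin_cases j <;>
    simp [Matrix.mul_apply, Fin.sum_univ_two]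

theorem M7 (s : Fˣ) : mTb * mHa s = (mHa s * mHb s * mHb s) * mTb := by
  have hs : (s : F) ≠ 0 := s.ne_zero
  unfold mHa mHb mTb
  rw [fromBlocks_multiply, fromBlocks_multiply, fromBlocks_multiply, fromBlocks_multiply]
  congr 1 <;> ext i j <;> fin_cases i <;> fin_cases j <;>
    simp [Matrix.mul_apply, Fin.sum_univ_two]

theorem M8 (r : F) : mTb * mX2 r = mX2 r * (mTb : M4 F) := by
  unfold mTb mX2
  rw [fromBlocks_multiply, fromBlocks_multiply]
  congr 1 <;> ext i j <;> fin_cases i <;> fin_cases j <;>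
    simp [Matrix.mul_apply, Fin.sum_univ_two]

theorem M9 (s : F) : mTa * mXab s = mXab (-s) * (mTa : M4 F) := by
  unfold mTa mXab
  rw [fromBlocks_multiply, fromBlocks_multiply]
  congr 1 <;> ext i j <;> fin_cases i <;> fin_cases j <;>
    simp [Matrix.mul_apply, Fin.sum_univ_two]

theorem mTaTb : mTa * mTb =
    (fromBlocks !![0, 0; -1, 0] !![0, 1; 0, 0] !![0, -1; 0, 0] !![0, 0; -1, 0] : M4 F) := by
  unfold mTa mTb
  rw [fromBlocks_multiply]
  congr 1 <;> ext i j <;> fin_cases i <;> fin_cases j <;>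
    simp [Matrix.mul_apply, Fin.sum_univ_two]

theorem mTbTa : mTb * mTa =
    (fromBlocks !![0, 1; 0, 0] !![0, 0; -1, 0] !![0, 0; 1, 0] !![0, 1; 0, 0] : M4 F) := by
  unfold mTa mTb
  rw [fromBlocks_multiply]
  congr 1 <;> ext i j <;> fin_cases i <;> fin_cases j <;>
    simp [Matrix.mul_apply, Fin.sum_univ_two]

theorem M10 : mTa * mTb * mTa * mTb = mTb * mTa * mTb * (mTa : M4 F) := by
  rw [mul_assoc (mTa * mTb), mTaTb, mul_assoc (mTb * mTa), mTbTa]
  rw [fromBlocks_multiply, fromBlocks_multiply]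
  congr 1 <;> ext i j <;> fin_cases i <;> fin_cases j <;>
    simp [Matrix.mul_apply, Fin.sum_univ_two]

set_option maxHeartbeats 400000 in
theorem M11 (r s : F) :
    mXa r * mXb s = (mX2 (r ^ 2 * s) * mXab (-(r * s)) * mXb s) * mXa r := by
  unfold mXa mXb mXab mX2
  simp only [fromBlocks_multiply]
  congr 1 <;> ext i j <;> fin_cases i <;> fin_cases j <;>
    simp [Matrix.mul_apply, Fin.sum_univ_two] <;> ring

set_option maxHeartbeats 400000 in
theorem M12 (r s : F) : mXa r * mXab s = (mX2 (-(2 * r * s)) * mXab s) * mXa r := by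
  unfold mXa mXab mX2
  simp only [fromBlocks_multiply]
  congr 1 <;> ext i j <;> fin_cases i <;> fin_cases j <;>
    simp [Matrix.mul_apply, Fin.sum_univ_two] <;> ring

theorem M13 (r s : F) : mXa r * mX2 s = mX2 s * mXa r := by
  unfold mXa mX2
  simp only [fromBlocks_multiply]
  congr 1 <;> ext i j <;> fin_cases i <;> fin_cases j <;>
    simp [Matrix.mul_apply, Fin.sum_univ_two]

theorem M14 (r s : F) : mXb r * mXab s = mXab s * mXb r := by
  unfold mXb mXab
  simp only [fromBlocks_multiply]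
  congr 1 <;> ext i j <;> fin_cases i <;> fin_cases j <;>
    simp [Matrix.mul_apply, Fin.sum_univ_two] <;> ring

theorem M15 (r s : F) : mXb r * mX2 s = mX2 s * mXb r := by
  unfold mXb mX2
  simp only [fromBlocks_multiply]
  congr 1 <;> ext i j <;> fin_cases i <;> fin_cases j <;>
    simp [Matrix.mul_apply, Fin.sum_univ_two]

theorem M16 (r s : F) : mXab r * mX2 s = mX2 s * mXab r := by
  unfold mXab mX2
  simp only [fromBlocks_multiply]
  congr 1 <;> ext i j <;> fin_cases i <;> fin_cases j <;>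
    simp [Matrix.mul_apply, Fin.sum_univ_two] <;> ring


/-! ### the standard data satisfies all relations -/

theorem coe_mul' (a b : symplecticGroup (Fin 2) F) :
    ((a * b : symplecticGroup (Fin 2) F) : M4 F) = (a : M4 F) * (b : M4 F) := rfl

theorem coe_xab (s : F) : (((std (F := F)).xab s : symplecticGroup (Fin 2) F) : M4 F) = mXab s := by
  have h1 : (std (F := F)).xab s * (std (F := F)).tb = (std (F := F)).tb * (std (F := F)).xa s := by
    unfold C2Data.xab; group
  have h2 := congrArg (Subtype.val) h1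
  rw [coe_mul', coe_mul', coe_tb, coe_xa, M1] at h2
  have h3 : mTb * (((std (F := F)).tb⁻¹ : symplecticGroup (Fin 2) F) : M4 F) = 1 := by
    rw [← coe_tb, ← coe_mul', mul_inv_cancel]; rfl
  calc (((std (F := F)).xab s : symplecticGroup (Fin 2) F) : M4 F)
      = (((std (F := F)).xab s : symplecticGroup (Fin 2) F) : M4 F) *
          (mTb * (((std (F := F)).tb⁻¹ : symplecticGroup (Fin 2) F) : M4 F)) := by rw [h3, mul_one]
    _ = ((((std (F := F)).xab s : symplecticGroup (Fin 2) F) : M4 F) * mTb) *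
          (((std (F := F)).tb⁻¹ : symplecticGroup (Fin 2) F) : M4 F) := by rw [mul_assoc]
    _ = mXab s * mTb * (((std (F := F)).tb⁻¹ : symplecticGroup (Fin 2) F) : M4 F) := by rw [h2]
    _ = mXab s := by rw [mul_assoc, h3, mul_one]

theorem coe_x2 (r : F) : (((std (F := F)).x2 r : symplecticGroup (Fin 2) F) : M4 F) = mX2 r := by
  have h1 : (std (F := F)).x2 r * (std (F := F)).ta = (std (F := F)).ta * (std (F := F)).xb r := by
    unfold C2Data.x2; group
  have h2 := congrArg (Subtype.val) h1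
  rw [coe_mul', coe_mul', coe_ta, coe_xb, M2] at h2
  have h3 : mTa * (((std (F := F)).ta⁻¹ : symplecticGroup (Fin 2) F) : M4 F) = 1 := by
    rw [← coe_ta, ← coe_mul', mul_inv_cancel]; rfl
  calc (((std (F := F)).x2 r : symplecticGroup (Fin 2) F) : M4 F)
      = (((std (F := F)).x2 r : symplecticGroup (Fin 2) F) : M4 F) *
          (mTa * (((std (F := F)).ta⁻¹ : symplecticGroup (Fin 2) F) : M4 F)) := by rw [h3, mul_one]
    _ = ((((std (F := F)).x2 r : symplecticGroup (Fin 2) F) : M4 F) * mTa) *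
          (((std (F := F)).ta⁻¹ : symplecticGroup (Fin 2) F) : M4 F) := by rw [mul_assoc]
    _ = mX2 r * mTa * (((std (F := F)).ta⁻¹ : symplecticGroup (Fin 2) F) : M4 F) := by rw [h2]
    _ = mX2 r := by rw [mul_assoc, h3, mul_one]

theorem std_full : (std (F := F)).Full where
  ha_hb s t := by
    apply Subtype.ext
    rw [coe_mul', coe_mul', coe_ha, coe_hb]; exact M3 s t
  hb_xa s r := by
    rw [mul_inv_eq_iff_eq_mul]
    apply Subtype.ext
    rw [coe_mul', coe_mul', coe_hb, coe_xa, coe_xa]; exact M4' s r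
  ha_xb s r := by
    rw [mul_inv_eq_iff_eq_mul]
    apply Subtype.ext
    rw [coe_mul', coe_mul', coe_ha, coe_xb, coe_xb]; exact M5 s r
  ta_hb s := by
    rw [mul_inv_eq_iff_eq_mul]
    apply Subtype.ext
    rw [coe_mul', coe_mul', coe_mul', coe_ha, coe_hb, coe_ta]; exact M6 s
  tb_ha s := by
    rw [mul_inv_eq_iff_eq_mul]
    apply Subtype.ext
    rw [coe_mul', coe_mul', coe_mul', coe_mul', coe_ha, coe_hb, coe_tb]; exact M7 s
  tb_x2 r := by
    rw [mul_inv_eq_iff_eq_mul]
    apply Subtype.ext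
    rw [coe_mul', coe_mul', coe_x2, coe_tb]; exact M8 r
  ta_xab s := by
    rw [mul_inv_eq_iff_eq_mul]
    apply Subtype.ext
    rw [coe_mul', coe_mul', coe_xab, coe_xab, coe_ta]; exact M9 s
  braid := by
    apply Subtype.ext
    simp only [coe_mul', coe_ta, coe_tb]; exact M10
  xa_xb r s := by
    rw [mul_inv_eq_iff_eq_mul]
    apply Subtype.ext
    simp only [coe_mul', coe_xa, coe_xb, coe_xab, coe_x2]; exact M11 r s
  xa_xab r s := by
    rw [mul_inv_eq_iff_eq_mul]
    apply Subtype.ext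
    simp only [coe_mul', coe_xa, coe_xb, coe_xab, coe_x2]; exact M12 r s
  xa_x2 r s := by
    apply Subtype.ext
    simp only [coe_mul', coe_xa, coe_xb, coe_xab, coe_x2]; exact M13 r s
  xb_xab r s := by
    apply Subtype.ext
    simp only [coe_mul', coe_xa, coe_xb, coe_xab, coe_x2]; exact M14 r s
  xb_x2 r s := by
    apply Subtype.ext
    simp only [coe_mul', coe_xa, coe_xb, coe_xab, coe_x2]; exact M15 r s
  xab_x2 r s := by
    apply Subtype.ext
    simp only [coe_mul', coe_xa, coe_xb, coe_xab, coe_x2]; exact M16 r s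

end Mat

end Cfsg.Agent.Lib.Helper11.Pres4
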