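import Mathlib
import Cfsg.Agent.Lib.Helper11.Pres4F
import Cfsg.Agent.Lib.Helper14.SpPerfect

set_option autoImplicit false

namespace Cfsg.Agent.Lib.Helper11.Pres4

open Cfsg.Agent.Lib.Helper11.SL2Hom Cfsg.Agent.Lib.Helper11.Pres2 Cfsg.Agent.Lib.Helper11.Pres3 Matrix
open Cfsg.Agent.Lib.Helper5 Cfsg.Agent.Lib.Helper14.SpPerfect

section Gen

variable {F : Type*} [Field F]

local notation:1024 "↑₂" A:1024 => ((A : SpecialLinearGroup (Fin 2) F) : Matrix (Fin 2) (Fin 2) F)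

/-- vectors of length four in block form -/
def vec4 (a b c d : F) : Fin 2 ⊕ Fin 2 → F := Sum.elim ![a, b] ![c, d]

theorem vec4_eta (v : Fin 2 ⊕ Fin 2 → F) :
    v = vec4 (v (Sum.inl 0)) (v (Sum.inl 1)) (v (Sum.inr 0)) (v (Sum.inr 1)) := by
  ext i; rcases i with i | i <;> fin_cases i <;> rfl

theorem vec4_zero : vec4 (0 : F) 0 0 0 = 0 := by
  ext i; rcases i with i | i <;> fin_cases i <;> rfl

theorem phiaMat_mulVec (g : SpecialLinearGroup (Fin 2) F) (a b c d : F) :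
    phiaMat g *ᵥ vec4 a b c d =
      vec4 ((↑₂g) 0 0 * a + (↑₂g) 0 1 * b) ((↑₂g) 1 0 * a + (↑₂g) 1 1 * b)
        ((↑₂g) 1 1 * c - (↑₂g) 1 0 * d) (-(↑₂g) 0 1 * c + (↑₂g) 0 0 * d) := by
  unfold phiaMat vec4
  rw [fromBlocks_mulVec, Sum.elim_comp_inl, Sum.elim_comp_inr]
  ext i; rcases i with i | i <;> fin_cases i <;>
    simp [Matrix.mulVec, dotProduct, Fin.sum_univ_two] <;> ring

theorem phibMat_mulVec (g : SpecialLinearGroup (Fin 2) F) (a b c d : F) :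
    phibMat g *ᵥ vec4 a b c d =
      vec4 a ((↑₂g) 0 0 * b + (↑₂g) 0 1 * d) c ((↑₂g) 1 0 * b + (↑₂g) 1 1 * d) := by
  unfold phibMat vec4
  rw [fromBlocks_mulVec, Sum.elim_comp_inl, Sum.elim_comp_inr]
  ext i; rcases i with i | i <;> fin_cases i <;>
    simp [Matrix.mulVec, dotProduct, Fin.sum_univ_two] <;> ring

theorem mXab_mulVec (s a b c d : F) :
    mXab s *ᵥ vec4 a b c d = vec4 (a - s * d) (b - s * c) c d := by
  unfold mXab vec4
  rw [fromBlocks_mulVec, Sum.elim_comp_inl, Sum.elim_comp_inr]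
  ext i; rcases i with i | i <;> fin_cases i <;>
    simp [vecHead, vecTail] <;> ring

/-- the base vector `e₂` -/
def e2 : Fin 2 ⊕ Fin 2 → F := vec4 0 1 0 0

theorem transv_e2 (c : F) : Cfsg.sympTransvection 2 (e2 : Fin 2 ⊕ Fin 2 → F) c = mXb c := by
  unfold Cfsg.sympTransvection mXb
  ext i j
  rw [Matrix.add_apply, Matrix.smul_apply, Matrix.vecMulVec_apply, smul_eq_mul]
  rcases i with i | i <;> rcases j with j | j
  · rw [J_mulVec_inl, fromBlocks_apply₁₁]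
    fin_cases i <;> fin_cases j <;> simp [e2, vec4, Matrix.one_apply]
  · rw [J_mulVec_inr, fromBlocks_apply₁₂]
    fin_cases i <;> fin_cases j <;> simp [e2, vec4]
  · rw [J_mulVec_inl, fromBlocks_apply₂₁]
    fin_cases i <;> fin_cases j <;> simp [e2, vec4]
  · rw [J_mulVec_inr, fromBlocks_apply₂₂]
    fin_cases i <;> fin_cases j <;> simp [e2, vec4, Matrix.one_apply]

/-- the subgroup generated by the two root `SL₂`s -/
def rootGen (F : Type*) [Field F] : Subgroup (symplecticGroup (Fin 2) F) :=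
  Subgroup.closure (Set.range (phiaM (F := F)) ∪ Set.range (phibM (F := F)))

theorem phiaM_mem_rootGen (g : SpecialLinearGroup (Fin 2) F) : phiaM g ∈ rootGen F :=
  Subgroup.subset_closure (Or.inl ⟨g, rfl⟩)

theorem phibM_mem_rootGen (g : SpecialLinearGroup (Fin 2) F) : phibM g ∈ rootGen F :=
  Subgroup.subset_closure (Or.inr ⟨g, rfl⟩)

theorem xab_mem_rootGen (s : F) : (std (F := F)).xab s ∈ rootGen F := by
  unfold C2Data.xab
  exact mul_mem (mul_mem (phibM_mem_rootGen _) (phiaM_mem_rootGen _)) (inv_mem (phibM_mem_rootGen _))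

/-- the orbit of `e₂` under `rootGen` -/
def orb (F : Type*) [Field F] : Set (Fin 2 ⊕ Fin 2 → F) :=
  {v | ∃ g ∈ rootGen F, (g : M4 F) *ᵥ e2 = v}

theorem e2_mem_orb : (e2 : Fin 2 ⊕ Fin 2 → F) ∈ orb F :=
  ⟨1, one_mem _, by show (1 : M4 F) *ᵥ e2 = e2; rw [one_mulVec]⟩

theorem orb_of_smul {g : symplecticGroup (Fin 2) F} (hg : g ∈ rootGen F) {v : Fin 2 ⊕ Fin 2 → F}
    (h : (g : M4 F) *ᵥ v ∈ orb F) : v ∈ orb F := by
  obtain ⟨k, hk, hkv⟩ := h
  refine ⟨g⁻¹ * k, mul_mem (inv_mem hg) hk, ?_⟩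
  rw [coe_mul_mulVec, hkv, coe_inv_mulVec_cancel']

theorem smul_orb {g : symplecticGroup (Fin 2) F} (hg : g ∈ rootGen F) {v : Fin 2 ⊕ Fin 2 → F}
    (h : v ∈ orb F) : (g : M4 F) *ᵥ v ∈ orb F := by
  obtain ⟨k, hk, hkv⟩ := h
  refine ⟨g * k, mul_mem hg hk, ?_⟩
  rw [coe_mul_mulVec, hkv]

/-- an element of `SL₂` with given entries -/
def mkSL (a b c d : F) (h : a * d - b * c = 1) : SpecialLinearGroup (Fin 2) F :=
  ⟨!![a, b; c, d], by rw [det_fin_two_of]; exact h⟩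

theorem mkSL_00 (a b c d : F) (h : a * d - b * c = 1) : (↑₂(mkSL a b c d h)) 0 0 = a := rfl
theorem mkSL_01 (a b c d : F) (h : a * d - b * c = 1) : (↑₂(mkSL a b c d h)) 0 1 = b := rfl
theorem mkSL_10 (a b c d : F) (h : a * d - b * c = 1) : (↑₂(mkSL a b c d h)) 1 0 = c := rfl
theorem mkSL_11 (a b c d : F) (h : a * d - b * c = 1) : (↑₂(mkSL a b c d h)) 1 1 = d := rfl

/-- some element of `SL₂` sends a given nonzero vector to `(0, 1)` -/
theorem sl2_move (a b : F) (h : a ≠ 0 ∨ b ≠ 0) :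
    ∃ g : SpecialLinearGroup (Fin 2) F,
      (↑₂g) 0 0 * a + (↑₂g) 0 1 * b = 0 ∧ (↑₂g) 1 0 * a + (↑₂g) 1 1 * b = 1 := by
  by_cases hb : b = 0
  · have ha : a ≠ 0 := by
      rcases h with h | h
      · exact h
      · exact absurd hb h
    refine ⟨mkSL 0 (-a) a⁻¹ 0 (by field_simp <;> ring), ?_, ?_⟩
    · rw [mkSL_00, mkSL_01, hb]; ring
    · rw [mkSL_10, mkSL_11, hb]; field_simp <;> ring
  · refine ⟨mkSL b (-a) 0 b⁻¹ (by field_simp <;> ring), ?_, ?_⟩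
    · rw [mkSL_00, mkSL_01]; ring
    · rw [mkSL_10, mkSL_11]; field_simp <;> ring

/-- the contragredient version -/
theorem sl2_move' (c d : F) (h : c ≠ 0 ∨ d ≠ 0) :
    ∃ g : SpecialLinearGroup (Fin 2) F,
      (↑₂g) 1 1 * c - (↑₂g) 1 0 * d = 0 ∧ -(↑₂g) 0 1 * c + (↑₂g) 0 0 * d = 1 := by
  obtain ⟨g, h1, h2⟩ := sl2_move c d h
  refine ⟨mkSL ((↑₂g) 1 1) (-(↑₂g) 1 0) (-(↑₂g) 0 1) ((↑₂g) 0 0) ?_, ?_, ?_⟩
  · have := det_eq g
    linear_combination this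
  · rw [mkSL_11, mkSL_10]; linear_combination h1
  · rw [mkSL_01, mkSL_00]; linear_combination h2

theorem e2'_mem_orb : vec4 (0 : F) 0 0 1 ∈ orb F := by
  refine ⟨phibM (mkSL 0 (-1) 1 0 (by ring)), phibM_mem_rootGen _, ?_⟩
  rw [coe_phibM, e2, phibMat_mulVec, mkSL_00, mkSL_01, mkSL_10, mkSL_11]
  congr 1 <;> ring

theorem orb_all (w : Fin 2 ⊕ Fin 2 → F) (hw : w ≠ 0) : w ∈ orb F := by
  rw [vec4_eta w] at hw ⊢
  generalize w (Sum.inl 0) = a at hw ⊢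
  generalize w (Sum.inl 1) = b at hw ⊢
  generalize w (Sum.inr 0) = c at hw ⊢
  generalize w (Sum.inr 1) = d at hw ⊢
  by_cases hcd : c ≠ 0 ∨ d ≠ 0
  · obtain ⟨g, h1, h2⟩ := sl2_move' c d hcd
    apply orb_of_smul (phiaM_mem_rootGen g)
    rw [coe_phiaM, phiaMat_mulVec, h1, h2]
    generalize (↑₂g) 0 0 * a + (↑₂g) 0 1 * b = a'
    generalize (↑₂g) 1 0 * a + (↑₂g) 1 1 * b = b'
    apply orb_of_smul (phibM_mem_rootGen (mkSL 1 (-b') 0 1 (by ring)))
    rw [coe_phibM, phibMat_mulVec, mkSL_00, mkSL_01, mkSL_10, mkSL_11]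
    apply orb_of_smul (xab_mem_rootGen a')
    rw [coe_xab, mXab_mulVec]
    have : vec4 (a' - a' * (0 * b' + 1 * 1)) (1 * b' + -b' * 1 - a' * 0) 0 (0 * b' + 1 * 1) =
        vec4 (0 : F) 0 0 1 := by
      congr 1 <;> ring
    rw [this]
    exact e2'_mem_orb
  · push Not at hcd
    obtain ⟨hc, hd⟩ := hcd
    subst hc; subst hd
    have hab : a ≠ 0 ∨ b ≠ 0 := by
      by_contra hcon
      push Not at hcon
      apply hw
      rw [hcon.1, hcon.2, vec4_zero]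
    obtain ⟨g, h1, h2⟩ := sl2_move a b hab
    apply orb_of_smul (phiaM_mem_rootGen g)
    rw [coe_phiaM, phiaMat_mulVec, h1, h2]
    have : vec4 (0 : F) 1 ((↑₂g) 1 1 * 0 - (↑₂g) 1 0 * 0) (-(↑₂g) 0 1 * 0 + (↑₂g) 0 0 * 0) = e2 := by
      unfold e2
      congr 1 <;> ring
    rw [this]
    exact e2_mem_orb

theorem Tr_e2_mem (c : F) : Tr (e2 : Fin 2 ⊕ Fin 2 → F) c ∈ rootGen F := by
  have : Tr (e2 : Fin 2 ⊕ Fin 2 → F) c = phibM (xS c) := by
    apply Subtype.ext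
    show Cfsg.sympTransvection 2 e2 c = _
    rw [transv_e2]
    exact (coe_xb c).symm
  rw [this]
  exact phibM_mem_rootGen _

/-- the two root `SL₂`s generate `Sp₄(F)` -/
theorem rootGen_eq_top : rootGen F = ⊤ := by
  rw [eq_top_iff, ← transvGroup_eq_top]
  unfold transvGroup
  rw [Subgroup.closure_le]
  rintro A ⟨w, c, hA⟩
  have hA' : A = Tr w c := Subtype.ext hA
  rw [hA']
  by_cases hw : w = 0
  · rw [hw, Tr_zero_vec]; exact one_mem _
  · obtain ⟨g, hg, hgw⟩ := orb_all w hw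
    rw [← hgw, ← conj_Tr]
    exact mul_mem (mul_mem hg (Tr_e2_mem c)) (inv_mem hg)

end Gen

end Cfsg.Agent.Lib.Helper11.Pres4
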