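import Mathlib
import Cfsg.Agent.Lib.Helper11.Pres4C
import Cfsg.Agent.Lib.Helper11.Pres4G
import Cfsg.Agent.Lib.Helper14.SympCount
import Cfsg.Agent.Lib.Helper2.GLCard

set_option autoImplicit false

namespace Cfsg.Agent.Lib.Helper11.Pres4

open Cfsg.Agent.Lib.Helper11.SL2Hom Cfsg.Agent.Lib.Helper11.Pres2 Cfsg.Agent.Lib.Helper11.Pres3 Matrix

section Card

variable {F : Type*} [Field F] [Fintype F]

theorem card_Sp4_eq :
    Nat.card (symplecticGroup (Fin 2) F) =
      Nat.card (C2Data.Cell F) * Nat.card (F × F × F × SpecialLinearGroup (Fin 2) F × Fˣ) := by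
  classical
  have h2 := Cfsg.Agent.Lib.Helper2.card_SL_field (F := F) 2 (by norm_num)
  have h4 := Cfsg.Agent.Lib.Helper14.card_symplectic (F := F) 2
  have hu := Cfsg.Agent.Lib.Helper2.card_units_field (F := F)
  rw [Fin.prod_univ_two] at h2
  rw [Finset.prod_range_succ, Finset.prod_range_one] at h4
  simp only [Fin.val_zero, Fin.val_one, pow_zero, pow_one] at h2
  have hq : 1 < Fintype.card F := Fintype.one_lt_card
  set q := Fintype.card F with hq_def
  have hopt : Nat.card (C2Data.Cell F) = q + (q * q + q * (q * q)) + 1 := by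
    rw [Nat.card_eq_fintype_card, Fintype.card_option, Fintype.card_sum, Fintype.card_sum,
      Fintype.card_prod, Fintype.card_prod, Fintype.card_prod]
  rw [hopt, Nat.card_prod, Nat.card_prod, Nat.card_prod, Nat.card_prod, hu,
    Nat.card_eq_fintype_card (α := F), ← hq_def, h4]
  set a := Nat.card (SpecialLinearGroup (Fin 2) F)
  obtain ⟨k, hk⟩ : ∃ k, q = k + 2 := ⟨q - 2, by omega⟩
  rw [hk] at h2 ⊢
  have e1 : k + 2 - 1 = k + 1 := by omega
  have e2 : (k + 2) ^ 2 - 1 = (k + 1) * (k + 3) := by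
    apply Nat.sub_eq_of_eq_add; ring
  have e3 : (k + 2) ^ 2 - (k + 2) = (k + 2) * (k + 1) := by
    apply Nat.sub_eq_of_eq_add; ring
  have e4 : (k + 2) ^ (2 * (0 + 1)) - 1 = (k + 1) * (k + 3) := by
    apply Nat.sub_eq_of_eq_add; ring
  have e5 : (k + 2) ^ (2 * (1 + 1)) - 1 =
      (k + 1) * ((k + 2) + ((k + 2) * (k + 2) + (k + 2) * ((k + 2) * (k + 2))) + 1) := by
    apply Nat.sub_eq_of_eq_add; ring
  rw [e1, e2, e3] at h2
  rw [e1, e4, e5]
  have hk1 : 0 < k + 1 := by omega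
  have h2' : a = (k + 3) * ((k + 2) * (k + 1)) := by
    apply Nat.eq_of_mul_eq_mul_left hk1
    rw [h2]; ring
  rw [h2']
  ring

end Card

end Cfsg.Agent.Lib.Helper11.Pres4
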