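import Mathlib
import Cfsg.Agent.Lib.Helper11.Pres2I
import Cfsg.Agent.Lib.Helper11.Pres4E
import Cfsg.Agent.Lib.Helper11.Pres4H
import Cfsg.Agent.S0246

set_option autoImplicit false

namespace Cfsg.Agent.Lib.Helper11.Pres4

open Polynomial Cfsg.Agent.Lib.Helper11.SL2Hom Cfsg.Agent.Lib.Helper11.Pres2 Cfsg.Agent.Lib.Helper11.Pres3 Matrix

section Free

/-- the first embedding of the free group on three generators into the free group on six -/
def embA : FreeGroup (Fin 3) →* FreeGroup (Fin 6) := FreeGroup.map ![0, 1, 2]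

/-- the second embedding -/
def embB : FreeGroup (Fin 3) →* FreeGroup (Fin 6) := FreeGroup.map ![3, 4, 5]

theorem lift_embA {G : Type*} [Group G] (u t h u' t' h' : G) (r : FreeGroup (Fin 3)) :
    FreeGroup.lift ![u, t, h, u', t', h'] (embA r) = FreeGroup.lift ![u, t, h] r := by
  have : (FreeGroup.lift ![u, t, h, u', t', h']).comp embA = FreeGroup.lift ![u, t, h] := by
    apply FreeGroup.ext_hom
    intro i
    rw [MonoidHom.comp_apply]
    unfold embA
    rw [FreeGroup.map.of, FreeGroup.lift_apply_of, FreeGroup.lift_apply_of]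
    fin_cases i <;> rfl
  rw [← this]; rfl

theorem lift_embB {G : Type*} [Group G] (u t h u' t' h' : G) (r : FreeGroup (Fin 3)) :
    FreeGroup.lift ![u, t, h, u', t', h'] (embB r) = FreeGroup.lift ![u', t', h'] r := by
  have : (FreeGroup.lift ![u, t, h, u', t', h']).comp embB = FreeGroup.lift ![u', t', h'] := by
    apply FreeGroup.ext_hom
    intro i
    rw [MonoidHom.comp_apply]
    unfold embB
    rw [FreeGroup.map.of, FreeGroup.lift_apply_of, FreeGroup.lift_apply_of]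
    fin_cases i <;> rfl
  rw [← this]; rfl

/-- the six generators of the free group -/
def pu : FreeGroup (Fin 6) := FreeGroup.of 0
/-- second generator -/
def pt : FreeGroup (Fin 6) := FreeGroup.of 1
/-- third generator -/
def ph : FreeGroup (Fin 6) := FreeGroup.of 2
/-- fourth generator -/
def qu : FreeGroup (Fin 6) := FreeGroup.of 3
/-- fifth generator -/
def qt : FreeGroup (Fin 6) := FreeGroup.of 4
/-- sixth generator -/
def qh : FreeGroup (Fin 6) := FreeGroup.of 5

section Lift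

variable {G : Type*} [Group G] (u t h u' t' h' : G)

theorem lift_pu : FreeGroup.lift ![u, t, h, u', t', h'] pu = u := by
  unfold pu; rw [FreeGroup.lift_apply_of]; rfl
theorem lift_pt : FreeGroup.lift ![u, t, h, u', t', h'] pt = t := by
  unfold pt; rw [FreeGroup.lift_apply_of]; rfl
theorem lift_ph : FreeGroup.lift ![u, t, h, u', t', h'] ph = h := by
  unfold ph; rw [FreeGroup.lift_apply_of]; rfl
theorem lift_qu : FreeGroup.lift ![u, t, h, u', t', h'] qu = u' := by
  unfold qu; rw [FreeGroup.lift_apply_of]; rfl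
theorem lift_qt : FreeGroup.lift ![u, t, h, u', t', h'] qt = t' := by
  unfold qt; rw [FreeGroup.lift_apply_of]; rfl
theorem lift_qh : FreeGroup.lift ![u, t, h, u', t', h'] qh = h' := by
  unfold qh; rw [FreeGroup.lift_apply_of]; rfl

end Lift

theorem lift_comp6 {G H : Type*} [Group G] [Group H] (ρ : G →* H) (u t h u' t' h' : G)
    (r : FreeGroup (Fin 6)) :
    FreeGroup.lift ![ρ u, ρ t, ρ h, ρ u', ρ t', ρ h'] r =
      ρ (FreeGroup.lift ![u, t, h, u', t', h'] r) := by
  have : FreeGroup.lift ![ρ u, ρ t, ρ h, ρ u', ρ t', ρ h'] =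
      ρ.comp (FreeGroup.lift ![u, t, h, u', t', h']) := by
    apply FreeGroup.ext_hom
    intro i
    rw [MonoidHom.comp_apply, FreeGroup.lift_apply_of, FreeGroup.lift_apply_of]
    fin_cases i <;> rfl
  rw [this]; rfl

/-- the word for `x_{2a+b}(1)` -/
def w2 : FreeGroup (Fin 6) := pt * qu * pt⁻¹
/-- the word for `x_{a+b}(1)` -/
def wab : FreeGroup (Fin 6) := qt * pu * qt⁻¹

/-- the fourteen relators tying the two rank one subgroups together; `W` is a word for `x_a(ζ⁻¹)` -/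
def crossRels (W : FreeGroup (Fin 6)) : List (FreeGroup (Fin 6)) :=
  [(ph * qh) * (qh * ph)⁻¹,
   (qh * pu * qh⁻¹) * W⁻¹,
   ((ph * qh) * qu) * (qu * (ph * qh))⁻¹,
   (pt * qh * pt⁻¹) * (ph * qh)⁻¹,
   (qt * ph * qt⁻¹) * (ph * qh * qh)⁻¹,
   (qt * w2) * (w2 * qt)⁻¹,
   (pt * wab * pt⁻¹) * (wab⁻¹)⁻¹,
   (pt * qt * pt * qt) * (qt * pt * qt * pt)⁻¹,
   (pu * qu * pu⁻¹) * (w2 * wab⁻¹ * qu)⁻¹,
   (pu * wab * pu⁻¹) * (w2⁻¹ * w2⁻¹ * wab)⁻¹,
   (pu * w2) * (w2 * pu)⁻¹,
   (qu * wab) * (wab * qu)⁻¹,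
   (qu * w2) * (w2 * qu)⁻¹,
   (wab * w2) * (w2 * wab)⁻¹]

/-- the fourteen cross relations -/
structure CrossRel {G : Type*} [Group G] (u t h u' t' h' W : G) : Prop where
  c_ha_hb : h * h' = h' * h
  c_hb_xa : h' * u * h'⁻¹ = W
  c_ha_xb : (h * h') * u' = u' * (h * h')
  c_ta_hb : t * h' * t⁻¹ = h * h'
  c_tb_ha : t' * h * t'⁻¹ = h * h' * h'
  c_tb_x2 : t' * (t * u' * t⁻¹) = (t * u' * t⁻¹) * t'
  c_ta_xab : t * (t' * u * t'⁻¹) * t⁻¹ = (t' * u * t'⁻¹)⁻¹
  c_braid : t * t' * t * t' = t' * t * t' * t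
  c_xa_xb : u * u' * u⁻¹ = (t * u' * t⁻¹) * (t' * u * t'⁻¹)⁻¹ * u'
  c_xa_xab : u * (t' * u * t'⁻¹) * u⁻¹ = (t * u' * t⁻¹)⁻¹ * (t * u' * t⁻¹)⁻¹ * (t' * u * t'⁻¹)
  c_xa_x2 : u * (t * u' * t⁻¹) = (t * u' * t⁻¹) * u
  c_xb_xab : u' * (t' * u * t'⁻¹) = (t' * u * t'⁻¹) * u'
  c_xb_x2 : u' * (t * u' * t⁻¹) = (t * u' * t⁻¹) * u'
  c_xab_x2 : (t' * u * t'⁻¹) * (t * u' * t⁻¹) = (t * u' * t⁻¹) * (t' * u * t'⁻¹)

theorem crossRels_iff {G : Type*} [Group G] (u t h u' t' h' : G) (W : FreeGroup (Fin 6)) :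
    (∀ r ∈ crossRels W, FreeGroup.lift ![u, t, h, u', t', h'] r = 1) ↔
      CrossRel u t h u' t' h' (FreeGroup.lift ![u, t, h, u', t', h'] W) := by
  unfold crossRels w2 wab
  simp only [List.forall_mem_cons, List.not_mem_nil, false_imp_iff, implies_true, and_true, map_mul,
    map_inv, lift_pu, lift_pt, lift_ph, lift_qu, lift_qt, lift_qh, mul_inv_eq_one]
  exact ⟨fun ⟨a1, a2, a3, a4, a5, a6, a7, a8, a9, a10, a11, a12, a13, a14⟩ =>
      ⟨a1, a2, a3, a4, a5, a6, a7, a8, a9, a10, a11, a12, a13, a14⟩,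
    fun R => ⟨R.c_ha_hb, R.c_hb_xa, R.c_ha_xb, R.c_ta_hb, R.c_tb_ha, R.c_tb_x2, R.c_ta_xab, R.c_braid,
      R.c_xa_xb, R.c_xa_xab, R.c_xa_x2, R.c_xb_xab, R.c_xb_x2, R.c_xab_x2⟩⟩

end Free


namespace C2Data

variable {F : Type*} [Field F] {Γ : Type*} [Group Γ] {D : C2Data F Γ}

/-- the cross relations follow from the full set of relations -/
theorem Full.cross (hD : D.Full) (ζ : Fˣ) :
    CrossRel (D.xa 1) D.ta (D.ha ζ) (D.xb 1) D.tb (D.hb ζ) (D.xa ((ζ : F)⁻¹)) where
  c_ha_hb := (hD.ha_hb ζ ζ).eq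
  c_hb_xa := by
    have := hD.hb_xa ζ 1
    rwa [mul_one] at this
  c_ha_xb := by
    have := hD.toTor.act_xb ζ ζ 1
    have hz : ((ζ : F) ^ 2)⁻¹ * (ζ : F) ^ 2 * 1 = 1 := by
      rw [mul_one, inv_mul_cancel₀ (pow_ne_zero 2 ζ.ne_zero)]
    rw [hz] at this
    exact mul_inv_eq_iff_eq_mul.mp this
  c_ta_hb := hD.ta_hb ζ
  c_tb_ha := hD.tb_ha ζ
  c_tb_x2 := mul_inv_eq_iff_eq_mul.mp (hD.tb_x2 1)
  c_ta_xab := by
    have := hD.ta_xab 1
    rw [← D.xab_inv] at this
    exact this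
  c_braid := hD.braid
  c_xa_xb := by
    have := hD.xa_xb 1 1
    rw [one_pow, mul_one, ← D.xab_inv] at this
    exact this
  c_xa_xab := by
    have := hD.xa_xab 1 1
    have h2 : -(2 * 1 * 1 : F) = -1 + -1 := by ring
    rw [h2, D.x2_add, ← D.x2_inv] at this
    exact this
  c_xa_x2 := (hD.xa_x2 1 1).eq
  c_xb_xab := (hD.xb_xab 1 1).eq
  c_xb_x2 := (hD.xb_x2 1 1).eq
  c_xab_x2 := (hD.xab_x2 1 1).eq

/-- the instance relations from the cross relations -/
theorem inst_of_cross {ζ : Fˣ} (hgen : ∀ s : Fˣ, ∃ n : ℕ, s = ζ ^ n)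
    (R : CrossRel (D.xa 1) D.ta (D.ha ζ) (D.xb 1) D.tb (D.hb ζ) (D.xa ((ζ : F)⁻¹))) : D.Inst ζ where
  hgen := hgen
  i_ha_hb := R.c_ha_hb
  i_hb_xa := R.c_hb_xa
  i_ha_xb := R.c_ha_xb
  i_ta_hb := R.c_ta_hb
  i_tb_ha := R.c_tb_ha
  i_tb_x2 := R.c_tb_x2
  i_ta_xab := R.c_ta_xab
  braid := R.c_braid
  i_xa_xb := R.c_xa_xb
  i_xa_xab := R.c_xa_xab
  i_xa_x2 := R.c_xa_x2
  i_xb_xab := R.c_xb_xab
  i_xb_x2 := R.c_xb_x2
  i_xab_x2 := R.c_xab_x2

end C2Data


section Main

variable {F : Type*} [Field F] [Fintype F]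

/-- the `C₂` data from two torus data -/
noncomputable def ofTorus2 {Γ : Type*} [Group Γ] (Ta Tb : TorusData F Γ) : C2Data F Γ where
  φa := Ta.hom
  φb := Tb.hom

omit [Fintype F] in
theorem hS_congr {a b : F} (h : a = b) (ha : a ≠ 0) (hb : b ≠ 0) : hS a ha = hS b hb := by
  subst h; rfl

theorem range_of_fin6 (rels : Set (FreeGroup (Fin 6))) :
    Set.range (PresentedGroup.of : Fin 6 → PresentedGroup rels) =
      {PresentedGroup.of 0, PresentedGroup.of 1, PresentedGroup.of 2, PresentedGroup.of 3,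
        PresentedGroup.of 4, PresentedGroup.of 5} := by
  ext g
  constructor
  · rintro ⟨i, rfl⟩
    fin_cases i
    · exact Or.inl rfl
    · exact Or.inr (Or.inl rfl)
    · exact Or.inr (Or.inr (Or.inl rfl))
    · exact Or.inr (Or.inr (Or.inr (Or.inl rfl)))
    · exact Or.inr (Or.inr (Or.inr (Or.inr (Or.inl rfl))))
    · exact Or.inr (Or.inr (Or.inr (Or.inr (Or.inr rfl))))
  · rintro (rfl | rfl | rfl | rfl | rfl | rfl)
    · exact ⟨0, rfl⟩
    · exact ⟨1, rfl⟩
    · exact ⟨2, rfl⟩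
    · exact ⟨3, rfl⟩
    · exact ⟨4, rfl⟩
    · exact ⟨5, rfl⟩

/-- a homomorphism `ψ` which agrees with `φ` on the three generators of a torus datum satisfies `ψ ∘ T.hom = φ` -/
theorem comp_hom_eq (p : ℕ) [Fact p.Prime] [Algebra (ZMod p) F] {Γ G : Type*} [Group Γ] [Group G]
    (T : TorusData F Γ) (hgen : ∀ a : F, ∃ f : (ZMod p)[X], aeval (T.ζ ^ 2) f = a)
    (ψ : Γ →* G) (φ : SpecialLinearGroup (Fin 2) F →* G)
    (hu : ψ (T.x 1) = φ (xS 1)) (ht : ψ T.t = φ wS) (hh : ψ T.h = φ (hS T.ζ T.hζ)) :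
    ψ.comp T.hom = φ := by
  have hψx : ∀ a, ψ (T.x a) = φ (xS a) := by
    have := x_unique p (φ (hS T.ζ T.hζ)) (T.ζ ^ 2) hgen (fun a => ψ (T.x a)) (fun a => φ (xS a))
      (fun a b => by rw [T.x_add, map_mul]) (fun a b => by rw [xS_add, map_mul])
      (fun a => by rw [← T.h_x, map_mul, map_mul, map_inv, hh])
      (fun a => by rw [← hS_conj_xS T.ζ T.hζ a, map_mul, map_mul, map_inv])
      hu
    exact fun a => congrFun this a
  apply MonoidHom.eq_of_eqOn_dense (closure_xS_yS (F := F))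
  rintro g (⟨a, rfl⟩ | ⟨a, rfl⟩)
  · show ψ (T.hom (xS a)) = φ (xS a)
    rw [T.hom_xS, hψx]
  · show ψ (T.hom (yS a)) = φ (yS a)
    rw [T.hom_yS]
    unfold TorusBase.y
    rw [map_mul, map_mul, map_inv, ht, hψx, ← map_inv, ← map_mul, ← map_mul, wS_conj_xS, neg_neg]

theorem pres4_main (p : ℕ) [Fact p.Prime] [Algebra (ZMod p) F] (ζ : F) (hζ : ζ ≠ 0)
    (hgen : ∀ a : F, ∃ f : (ZMod p)[X], aeval (ζ ^ 2) f = a)
    (rels : Set (FreeGroup (Fin 6))) (Ta Tb : TorusData F (PresentedGroup rels))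
    (hza : Ta.ζ = ζ) (hzb : Tb.ζ = ζ)
    (hua : Ta.x 1 = PresentedGroup.of 0) (hta : Ta.t = PresentedGroup.of 1)
    (hha : Ta.h = PresentedGroup.of 2)
    (hub : Tb.x 1 = PresentedGroup.of 3) (htb : Tb.t = PresentedGroup.of 4)
    (hhb : Tb.h = PresentedGroup.of 5)
    (R : CrossRel (Ta.x 1) Ta.t Ta.h (Tb.x 1) Tb.t Tb.h (Ta.x ζ⁻¹))
    (hrel : ∀ r ∈ rels, FreeGroup.lift ![phiaM (xS 1), phiaM wS, phiaM (hS ζ hζ),
      phibM (xS (1 : F)), phibM wS, phibM (hS ζ hζ)] r = 1) :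
    ∃ Φ : PresentedGroup rels ≃* symplecticGroup (Fin 2) F,
      Φ (PresentedGroup.of 1) = phiaM wS := by
  classical
  subst hza
  set D := ofTorus2 Ta Tb with hD
  have hxa : ∀ r, D.xa r = Ta.x r := Ta.hom_xS
  have hta' : D.ta = Ta.t := Ta.hom_wS
  have hha' : D.ha (Units.mk0 Ta.ζ hζ) = Ta.h := Ta.hom_hS
  have hxb : ∀ r, D.xb r = Tb.x r := Tb.hom_xS
  have htb' : D.tb = Tb.t := Tb.hom_wS
  have hhb' : D.hb (Units.mk0 Ta.ζ hζ) = Tb.h := by
    show Tb.hom (hS Ta.ζ hζ) = Tb.h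
    rw [hS_congr hzb.symm hζ Tb.hζ]
    exact Tb.hom_hS
  have hInst : D.Inst (Units.mk0 Ta.ζ hζ) := by
    apply C2Data.inst_of_cross
    · intro s
      obtain ⟨n, hn⟩ := Ta.hgenζ (s : F) s.ne_zero
      refine ⟨n, Units.ext ?_⟩
      rw [Units.val_pow_eq_pow_val, Units.val_mk0]
      exact hn
    · rw [hxa, hta', hha', hxb, htb', hhb', Units.val_mk0, hxa]
      exact R
  have hFull : D.Full := hInst.full
  set ψ : PresentedGroup rels →* symplecticGroup (Fin 2) F := PresentedGroup.toGroup hrel with hψ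
  have hψ0 : ψ (Ta.x 1) = phiaM (xS 1) := by rw [hua, hψ, PresentedGroup.toGroup.of]; rfl
  have hψ1 : ψ Ta.t = phiaM wS := by rw [hta, hψ, PresentedGroup.toGroup.of]; rfl
  have hψ2 : ψ Ta.h = phiaM (hS Ta.ζ hζ) := by rw [hha, hψ, PresentedGroup.toGroup.of]; rfl
  have hψ3 : ψ (Tb.x 1) = phibM (xS 1) := by rw [hub, hψ, PresentedGroup.toGroup.of]; rfl
  have hψ4 : ψ Tb.t = phibM wS := by rw [htb, hψ, PresentedGroup.toGroup.of]; rfl
  have hψ5 : ψ Tb.h = phibM (hS Tb.ζ Tb.hζ) := by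
    rw [hhb, hψ, PresentedGroup.toGroup.of, hS_congr hzb Tb.hζ hζ]; rfl
  have h1 : ψ.comp Ta.hom = phiaM := comp_hom_eq p Ta hgen ψ phiaM hψ0 hψ1 hψ2
  have h2 : ψ.comp Tb.hom = phibM :=
    comp_hom_eq p Tb (by rw [hzb]; exact hgen) ψ phibM hψ3 hψ4 hψ5
  -- surjectivity
  have hsurj : Function.Surjective ψ := by
    rw [← MonoidHom.range_eq_top, eq_top_iff, ← rootGen_eq_top]
    unfold rootGen
    rw [Subgroup.closure_le]
    rintro g (⟨s, rfl⟩ | ⟨s, rfl⟩)
    · exact ⟨Ta.hom s, congrFun (congrArg DFunLike.coe h1) s⟩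
    · exact ⟨Tb.hom s, congrFun (congrArg DFunLike.coe h2) s⟩
  -- generation
  have hgenΓ : Subgroup.closure (Set.range D.φa ∪ Set.range D.φb) = ⊤ := by
    rw [eq_top_iff, ← PresentedGroup.closure_range_of rels, Subgroup.closure_le, range_of_fin6]
    rintro g (rfl | rfl | rfl | rfl | rfl | rfl)
    · apply Subgroup.subset_closure
      left
      exact ⟨xS 1, by rw [← hua]; exact Ta.hom_xS 1⟩
    · apply Subgroup.subset_closure
      left
      exact ⟨wS, by rw [← hta]; exact Ta.hom_wS⟩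
    · apply Subgroup.subset_closure
      left
      exact ⟨hS Ta.ζ Ta.hζ, by rw [← hha]; exact Ta.hom_hS⟩
    · apply Subgroup.subset_closure
      right
      exact ⟨xS 1, by rw [← hub]; exact Tb.hom_xS 1⟩
    · apply Subgroup.subset_closure
      right
      exact ⟨wS, by rw [← htb]; exact Tb.hom_wS⟩
    · apply Subgroup.subset_closure
      right
      exact ⟨hS Tb.ζ Tb.hζ, by rw [← hhb]; exact Tb.hom_hS⟩
  obtain ⟨hfin, hcard⟩ := hFull.finite_and_card hgenΓ
  rw [← card_Sp4_eq] at hcard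
  refine ⟨MulEquiv.ofBijective ψ (hsurj.bijective_of_nat_card_le hcard), ?_⟩
  show ψ (PresentedGroup.of 1) = phiaM wS
  rw [← hta]; exact hψ1

end Main


section Gen

variable {F : Type*} [Field F] [Fintype F]

/-- relators hold in the presented group -/
theorem pres_lift_eq_one6 (L : List (FreeGroup (Fin 6))) (r : FreeGroup (Fin 6)) (hr : r ∈ L) :
    FreeGroup.lift ![(PresentedGroup.of 0 : PresentedGroup (↑L.toFinset : Set (FreeGroup (Fin 6)))),
      PresentedGroup.of 1, PresentedGroup.of 2, PresentedGroup.of 3, PresentedGroup.of 4,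
      PresentedGroup.of 5] r = 1 := by
  have h1 : FreeGroup.lift ![(PresentedGroup.of 0 : PresentedGroup (↑L.toFinset : Set (FreeGroup (Fin 6)))),
      PresentedGroup.of 1, PresentedGroup.of 2, PresentedGroup.of 3, PresentedGroup.of 4,
      PresentedGroup.of 5] = PresentedGroup.mk _ := by
    apply FreeGroup.ext_hom
    intro i
    rw [FreeGroup.lift_apply_of]
    fin_cases i <;> rfl
  rw [h1]
  apply PresentedGroup.one_of_mem
  rw [Finset.mem_coe, List.mem_toFinset]
  exact hr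

omit [Fintype F] in
/-- the cross relations hold in `Sp₄(F)` -/
theorem cross_Sp (ζ : F) (hζ : ζ ≠ 0) :
    CrossRel (phiaM (xS 1)) (phiaM wS) (phiaM (hS ζ hζ)) (phibM (xS (1 : F))) (phibM wS)
      (phibM (hS ζ hζ)) (phiaM (xS ζ⁻¹)) :=
  (std_full (F := F)).cross (Units.mk0 ζ hζ)

/-- the main assembly: relators for `SL₂(F)` on `(u, t, h)` and on `(u', t', h')`, and the fourteen
cross relators -/
theorem pres4_gen (p : ℕ) [Fact p.Prime] [Algebra (ZMod p) F] (ζ : F) (hζ : ζ ≠ 0)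
    (hgen : ∀ a : F, ∃ f : (ZMod p)[X], aeval (ζ ^ 2) f = a)
    (L3 : List (FreeGroup (Fin 3)))
    (hSL : ∀ r ∈ L3, FreeGroup.lift ![(xS 1 : SpecialLinearGroup (Fin 2) F), wS, hS ζ hζ] r = 1)
    (hD : ∀ (Γ : Type) [Group Γ] (u t h : Γ), (∀ r ∈ L3, FreeGroup.lift ![u, t, h] r = 1) →
      ∃ D : TorusData F Γ, D.x 1 = u ∧ D.t = t ∧ D.h = h ∧ D.ζ = ζ)
    (W3 : FreeGroup (Fin 3))
    (hW : FreeGroup.lift ![(xS 1 : SpecialLinearGroup (Fin 2) F), wS, hS ζ hζ] W3 = xS ζ⁻¹) :
    ∃ Φ : PresentedGroup (↑(L3.map embA ++ L3.map embB ++ crossRels (embA W3)).toFinset :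
        Set (FreeGroup (Fin 6))) ≃* symplecticGroup (Fin 2) F,
      Φ (PresentedGroup.of 1) = phiaM wS := by
  set L := L3.map embA ++ L3.map embB ++ crossRels (embA W3) with hL
  have hall := pres_lift_eq_one6 L
  have hallA : ∀ r ∈ L3, FreeGroup.lift ![(PresentedGroup.of 0 : PresentedGroup (↑L.toFinset : Set (FreeGroup (Fin 6)))),
      PresentedGroup.of 1, PresentedGroup.of 2] r = 1 := by
    intro r hr
    rw [← lift_embA _ _ _ (PresentedGroup.of 3) (PresentedGroup.of 4) (PresentedGroup.of 5)]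
    apply hall
    rw [hL]
    exact List.mem_append_left _ (List.mem_append_left _ (List.mem_map_of_mem hr))
  have hallB : ∀ r ∈ L3, FreeGroup.lift ![(PresentedGroup.of 3 : PresentedGroup (↑L.toFinset : Set (FreeGroup (Fin 6)))),
      PresentedGroup.of 4, PresentedGroup.of 5] r = 1 := by
    intro r hr
    rw [← lift_embB (PresentedGroup.of 0) (PresentedGroup.of 1) (PresentedGroup.of 2)]
    apply hall
    rw [hL]
    exact List.mem_append_left _ (List.mem_append_right _ (List.mem_map_of_mem hr))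
  obtain ⟨Ta, hua, hta, hha, hza⟩ := hD _ _ _ _ hallA
  obtain ⟨Tb, hub, htb, hhb, hzb⟩ := hD _ _ _ _ hallB
  -- the word `W`
  have hWΓ : FreeGroup.lift ![(PresentedGroup.of 0 : PresentedGroup (↑L.toFinset : Set (FreeGroup (Fin 6)))),
      PresentedGroup.of 1, PresentedGroup.of 2, PresentedGroup.of 3, PresentedGroup.of 4,
      PresentedGroup.of 5] (embA W3) = Ta.x ζ⁻¹ := by
    have e1 : hS ζ hζ = hS Ta.ζ Ta.hζ := hS_congr hza.symm _ _
    rw [lift_embA, ← hua, ← hta, ← hha, ← Ta.hom_xS 1, ← Ta.hom_wS, ← Ta.hom_hS, lift_comp, ← e1, hW,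
      Ta.hom_xS]
  have hR : CrossRel (Ta.x 1) Ta.t Ta.h (Tb.x 1) Tb.t Tb.h (Ta.x ζ⁻¹) := by
    rw [← hWΓ, hua, hta, hha, hub, htb, hhb, ← crossRels_iff]
    intro r hr
    apply hall
    rw [hL]
    exact List.mem_append_right _ hr
  refine pres4_main p ζ hζ hgen _ Ta Tb hza hzb hua hta hha hub htb hhb hR ?_
  intro r hr
  rw [Finset.mem_coe, List.mem_toFinset, hL, List.mem_append, List.mem_append] at hr
  rcases hr with (hr | hr) | hr
  · obtain ⟨r3, hr3, rfl⟩ := List.mem_map.mp hr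
    rw [lift_embA, lift_comp, hSL r3 hr3, map_one]
  · obtain ⟨r3, hr3, rfl⟩ := List.mem_map.mp hr
    rw [lift_embB, lift_comp, hSL r3 hr3, map_one]
  · revert r
    rw [crossRels_iff, lift_embA, lift_comp, hW]
    exact cross_Sp ζ hζ

end Gen


section Quot

/-- adding a relator which maps onto the generator of the center presents the central quotient -/
theorem pres_quot {α : Type*} (R : Set (FreeGroup α)) {G : Type*} [Group G]
    (Φ : PresentedGroup R ≃* G) (r0 : FreeGroup α)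
    (hz : Φ (PresentedGroup.mk R r0) ∈ Subgroup.center G)
    (hc : ∀ z ∈ Subgroup.center G, z = 1 ∨ z = Φ (PresentedGroup.mk R r0)) :
    Nonempty (PresentedGroup (insert r0 R) ≃* G ⧸ Subgroup.center G) := by
  -- the forward map
  have hf : ∀ r ∈ insert r0 R, FreeGroup.lift
      (fun a => (QuotientGroup.mk' (Subgroup.center G)) (Φ (PresentedGroup.of a))) r = 1 := by
    intro r hr
    have e : FreeGroup.lift
        (fun a => (QuotientGroup.mk' (Subgroup.center G)) (Φ (PresentedGroup.of a))) =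
        ((QuotientGroup.mk' (Subgroup.center G)).comp Φ.toMonoidHom).comp (PresentedGroup.mk R) := by
      apply FreeGroup.ext_hom
      intro a
      rw [FreeGroup.lift_apply_of]
      rfl
    rw [e]
    rcases hr with rfl | hr
    · show QuotientGroup.mk' _ (Φ (PresentedGroup.mk R r)) = 1
      rw [QuotientGroup.mk'_apply, QuotientGroup.eq_one_iff]
      exact hz
    · show QuotientGroup.mk' _ (Φ (PresentedGroup.mk R r)) = 1
      rw [PresentedGroup.one_of_mem hr, map_one, map_one]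
  set f := PresentedGroup.toGroup hf with hfdef
  -- the map from the smaller presentation
  have hh : ∀ r ∈ R, FreeGroup.lift
      (fun a => (PresentedGroup.of a : PresentedGroup (insert r0 R))) r = 1 := by
    intro r hr
    have e : FreeGroup.lift (fun a => (PresentedGroup.of a : PresentedGroup (insert r0 R))) =
        PresentedGroup.mk _ := by
      apply FreeGroup.ext_hom
      intro a
      rw [FreeGroup.lift_apply_of]
      rfl
    rw [e]
    exact PresentedGroup.one_of_mem (Set.mem_insert_of_mem _ hr)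
  set h := PresentedGroup.toGroup hh with hhdef
  have hmk : ∀ w, h (PresentedGroup.mk R w) = PresentedGroup.mk (insert r0 R) w := by
    intro w
    have : h.comp (PresentedGroup.mk R) = PresentedGroup.mk (insert r0 R) := by
      apply FreeGroup.ext_hom
      intro a
      show h (PresentedGroup.of a) = PresentedGroup.of a
      rw [hhdef, PresentedGroup.toGroup.of]
    exact congrFun (congrArg DFunLike.coe this) w
  have hfh : ∀ w, f (h w) = QuotientGroup.mk' (Subgroup.center G) (Φ w) := by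
    intro w
    have : (f.comp h) = (QuotientGroup.mk' (Subgroup.center G)).comp Φ.toMonoidHom := by
      apply PresentedGroup.ext
      intro a
      show f (h (PresentedGroup.of a)) = QuotientGroup.mk' _ (Φ (PresentedGroup.of a))
      rw [hhdef, PresentedGroup.toGroup.of, hfdef, PresentedGroup.toGroup.of]
    exact congrFun (congrArg DFunLike.coe this) w
  -- the backward map
  have hker : Subgroup.center G ≤ (h.comp Φ.symm.toMonoidHom).ker := by
    intro z hz'
    rw [MonoidHom.mem_ker]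
    rcases hc z hz' with rfl | rfl
    · rw [map_one]
    · show h (Φ.symm (Φ (PresentedGroup.mk R r0))) = 1
      rw [Φ.symm_apply_apply, hmk]
      exact PresentedGroup.one_of_mem (Set.mem_insert _ _)
  set g := QuotientGroup.lift (Subgroup.center G) (h.comp Φ.symm.toMonoidHom) hker with hgdef
  have hgf : ∀ x, g (f x) = x := by
    intro x
    have : g.comp f = MonoidHom.id _ := by
      apply PresentedGroup.ext
      intro a
      show g (f (PresentedGroup.of a)) = PresentedGroup.of a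
      rw [hfdef, PresentedGroup.toGroup.of]
      show h (Φ.symm (Φ (PresentedGroup.of a))) = PresentedGroup.of a
      rw [Φ.symm_apply_apply, hhdef, PresentedGroup.toGroup.of]
    exact congrFun (congrArg DFunLike.coe this) x
  have hfg : ∀ y, f (g y) = y := by
    intro y
    induction y using QuotientGroup.induction_on with
    | H x =>
      show f (h (Φ.symm x)) = _
      rw [hfh, Φ.apply_symm_apply]
      rfl
  exact ⟨{ toFun := f, invFun := g, left_inv := hgf, right_inv := hfg, map_mul' := f.map_mul }⟩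

variable {F : Type*} [Field F]

theorem mHa_neg_one : mHa (-1 : Fˣ) = (-1 : M4 F) := by
  unfold mHa
  rw [← fromBlocks_one, fromBlocks_neg]
  congr 1 <;> ext i j <;> fin_cases i <;> fin_cases j <;> simp

theorem phiaM_wS_sq : ((phiaM (wS : SpecialLinearGroup (Fin 2) F) * phiaM wS :
    symplecticGroup (Fin 2) F) : M4 F) = -1 := by
  have h1 : phiaM (wS : SpecialLinearGroup (Fin 2) F) * phiaM wS = (std (F := F)).ha (-1) :=
    (std (F := F)).ta_sq
  rw [h1, coe_ha, mHa_neg_one]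

/-- the presentation of `PSp₄(F)` from a presentation of `Sp₄(F)` -/
theorem pres4_psp (rels : Finset (FreeGroup (Fin 6)))
    (Φ : PresentedGroup (↑rels : Set (FreeGroup (Fin 6))) ≃* symplecticGroup (Fin 2) F)
    (hΦ : Φ (PresentedGroup.of 1) = phiaM wS) :
    Nonempty (PresentedGroup (↑(insert (pt * pt) rels) : Set (FreeGroup (Fin 6))) ≃* Cfsg.PSp 2 F) := by
  classical
  rw [Finset.coe_insert]
  have hz : ((Φ (PresentedGroup.mk (↑rels : Set (FreeGroup (Fin 6))) (pt * pt)) :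
      symplecticGroup (Fin 2) F) : M4 F) = -1 := by
    have : Φ (PresentedGroup.mk (↑rels : Set (FreeGroup (Fin 6))) (pt * pt)) =
        phiaM wS * phiaM wS := by
      rw [map_mul, map_mul]
      have : PresentedGroup.mk (↑rels : Set (FreeGroup (Fin 6))) pt = PresentedGroup.of 1 := rfl
      rw [this, hΦ]
    rw [this, phiaM_wS_sq]
  apply pres_quot _ Φ (pt * pt)
  · rw [Subgroup.mem_center_iff]
    intro g
    apply Subtype.ext
    rw [coe_mul', coe_mul', hz, Matrix.mul_neg, Matrix.neg_mul, Matrix.mul_one, Matrix.one_mul]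
  · intro z hzc
    rcases Cfsg.Agent.S0246.center_scalar 2 (by norm_num) z hzc with h | h
    · left
      exact Subtype.ext h
    · right
      apply Subtype.ext
      rw [h, hz]

end Quot

end Cfsg.Agent.Lib.Helper11.Pres4
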