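import Mathlib
import Cfsg.Agent.Lib.Helper11.Extraspecial

/-!
Counting square roots of the identity in groups with a central involution `z` containing all
squares and commutators (helper11 library): the Gauss-sum identity `S ^ 2 = |G| * T`.
-/

set_option autoImplicit false

namespace Cfsg.Agent.Lib.Helper11

open scoped BigOperators

/-- `z` is a central involution containing all squares and all commutators. -/
structure QuadSetting {G : Type*} [Group G] (z : G) : Prop where
  central : ∀ g : G, g * z = z * g
  ne_one : z ≠ 1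
  sq : z * z = 1
  comm : ∀ a b : G, a * b = b * a ∨ a * b = z * (b * a)
  sqr : ∀ a : G, a * a = 1 ∨ a * a = z

/-- The squaring sign. -/
noncomputable def sqSign {G : Type*} [Group G] (a : G) : ℤ := by
  classical exact if a * a = 1 then 1 else -1

theorem sqSign_eq_one {G : Type*} [Group G] {a : G} (h : a * a = 1) : sqSign a = 1 := by
  classical
  unfold sqSign; rw [if_pos h]

theorem sqSign_eq_neg_one {G : Type*} [Group G] {a : G} (h : ¬ a * a = 1) : sqSign a = -1 := by
  classical
  unfold sqSign; rw [if_neg h]

theorem sqSign_mul_self {G : Type*} [Group G] (a : G) : sqSign a * sqSign a = 1 := by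
  by_cases h : a * a = 1
  · rw [sqSign_eq_one h]; norm_num
  · rw [sqSign_eq_neg_one h]; norm_num

namespace QuadSetting

variable {G : Type*} [Group G] {z : G}

theorem not_comm (h : QuadSetting z) {a b : G} (hab : a * b = z * (b * a)) : ¬ a * b = b * a := by
  intro hc
  rw [hc] at hab
  have : z = 1 := by
    have h2 : 1 * (b * a) = z * (b * a) := by rw [one_mul]; exact hab
    exact (mul_right_cancel h2).symm
  exact h.ne_one this

theorem commSign_mul_right (h : QuadSetting z) (w x y : G) :
    commSign w (x * y) = commSign w x * commSign w y := by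
  rcases h.comm w x with hx | hx <;> rcases h.comm w y with hy | hy
  · have : w * (x * y) = (x * y) * w := by
      calc w * (x * y) = (w * x) * y := by group
        _ = x * (w * y) := by rw [hx]; group
        _ = (x * y) * w := by rw [hy]; group
    rw [commSign_eq_one hx, commSign_eq_one hy, commSign_eq_one this]; norm_num
  · have : w * (x * y) = z * ((x * y) * w) := by
      calc w * (x * y) = (w * x) * y := by group
        _ = x * (w * y) := by rw [hx]; group
        _ = x * z * (y * w) := by rw [hy]; group
        _ = z * x * (y * w) := by rw [h.central x]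
        _ = z * ((x * y) * w) := by group
    rw [commSign_eq_one hx, commSign_eq_neg_one (h.not_comm hy), commSign_eq_neg_one (h.not_comm this)]
    norm_num
  · have : w * (x * y) = z * ((x * y) * w) := by
      calc w * (x * y) = (w * x) * y := by group
        _ = z * (x * (w * y)) := by rw [hx]; group
        _ = z * ((x * y) * w) := by rw [hy]; group
    rw [commSign_eq_neg_one (h.not_comm hx), commSign_eq_one hy, commSign_eq_neg_one (h.not_comm this)]
    norm_num
  · have : w * (x * y) = (x * y) * w := by
      calc w * (x * y) = (w * x) * y := by group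
        _ = z * (x * (w * y)) := by rw [hx]; group
        _ = z * (x * z * (y * w)) := by rw [hy]; group
        _ = z * (z * x * (y * w)) := by rw [h.central x]
        _ = (z * z) * ((x * y) * w) := by group
        _ = (x * y) * w := by rw [h.sq, one_mul]
    rw [commSign_eq_neg_one (h.not_comm hx), commSign_eq_neg_one (h.not_comm hy), commSign_eq_one this]
    norm_num

/-- `(x w)^2 = x^2 w^2` or `z x^2 w^2` -/
theorem sq_mul (h : QuadSetting z) (x w : G) :
    (w * x = x * w ∧ (x * w) * (x * w) = (x * x) * (w * w)) ∨
    (¬ w * x = x * w ∧ (x * w) * (x * w) = z * ((x * x) * (w * w))) := by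
  rcases h.comm w x with hc | hc
  · left
    refine ⟨hc, ?_⟩
    calc (x * w) * (x * w) = x * (w * x) * w := by group
      _ = (x * x) * (w * w) := by rw [hc]; group
  · right
    refine ⟨h.not_comm hc, ?_⟩
    calc (x * w) * (x * w) = x * (w * x) * w := by group
      _ = x * z * (x * w * w) := by rw [hc]; group
      _ = z * x * (x * w * w) := by rw [h.central x]
      _ = z * ((x * x) * (w * w)) := by group

theorem sqSign_mul (h : QuadSetting z) (x w : G) :
    sqSign (x * w) = sqSign x * sqSign w * commSign w x := by
  have hz1 : ¬ z = 1 := h.ne_one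
  rcases h.sq_mul x w with ⟨hc, hsq⟩ | ⟨hc, hsq⟩
  · rw [commSign_eq_one hc]
    rcases h.sqr x with hx | hx <;> rcases h.sqr w with hw | hw
    · have : (x * w) * (x * w) = 1 := by rw [hsq, hx, hw, one_mul]
      rw [sqSign_eq_one this, sqSign_eq_one hx, sqSign_eq_one hw]; norm_num
    · have : ¬ (x * w) * (x * w) = 1 := by rw [hsq, hx, hw, one_mul]; exact hz1
      rw [sqSign_eq_neg_one this, sqSign_eq_one hx, sqSign_eq_neg_one (by rw [hw]; exact hz1)]
      norm_num
    · have : ¬ (x * w) * (x * w) = 1 := by rw [hsq, hx, hw, mul_one]; exact hz1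
      rw [sqSign_eq_neg_one this, sqSign_eq_neg_one (by rw [hx]; exact hz1), sqSign_eq_one hw]
      norm_num
    · have : (x * w) * (x * w) = 1 := by rw [hsq, hx, hw, h.sq]
      rw [sqSign_eq_one this, sqSign_eq_neg_one (by rw [hx]; exact hz1),
        sqSign_eq_neg_one (by rw [hw]; exact hz1)]
      norm_num
  · rw [commSign_eq_neg_one hc]
    rcases h.sqr x with hx | hx <;> rcases h.sqr w with hw | hw
    · have : ¬ (x * w) * (x * w) = 1 := by rw [hsq, hx, hw, one_mul, mul_one]; exact hz1
      rw [sqSign_eq_neg_one this, sqSign_eq_one hx, sqSign_eq_one hw]; norm_num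
    · have : (x * w) * (x * w) = 1 := by rw [hsq, hx, hw, one_mul, h.sq]
      rw [sqSign_eq_one this, sqSign_eq_one hx, sqSign_eq_neg_one (by rw [hw]; exact hz1)]
      norm_num
    · have : (x * w) * (x * w) = 1 := by rw [hsq, hx, hw, mul_one, h.sq]
      rw [sqSign_eq_one this, sqSign_eq_neg_one (by rw [hx]; exact hz1), sqSign_eq_one hw]
      norm_num
    · have : ¬ (x * w) * (x * w) = 1 := by rw [hsq, hx, hw, h.sq, mul_one]; exact hz1
      rw [sqSign_eq_neg_one this, sqSign_eq_neg_one (by rw [hx]; exact hz1),
        sqSign_eq_neg_one (by rw [hw]; exact hz1)]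
      norm_num

theorem sum_commSign [Fintype G] (h : QuadSetting z) (w : G) [Decidable (w ∈ Subgroup.center G)] :
    ∑ x : G, commSign w x = if w ∈ Subgroup.center G then (Fintype.card G : ℤ) else 0 := by
  split_ifs with hw
  · have : ∀ x, commSign w x = 1 := fun x =>
      commSign_eq_one ((Subgroup.mem_center_iff.mp hw x).symm)
    simp [this]
  · rw [Subgroup.mem_center_iff] at hw
    push Not at hw
    obtain ⟨x0, hx0⟩ := hw
    exact sum_eq_zero_of_mul_of_neg_one (fun x => commSign w x) (h.commSign_mul_right w) x0
      (commSign_eq_neg_one (fun hc => hx0 hc.symm))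

/-- The Gauss-sum identity. -/
theorem sq_sum_sqSign [Fintype G] [Fintype (Subgroup.center G)] (h : QuadSetting z) :
    (∑ x : G, sqSign x) ^ 2 = (Fintype.card G : ℤ) * ∑ w : Subgroup.center G, sqSign (w : G) := by
  classical
  have h1 : (∑ x : G, sqSign x) ^ 2 = ∑ x : G, ∑ w : G, sqSign x * sqSign (x * w) := by
    rw [pow_two, Finset.sum_mul]
    apply Finset.sum_congr rfl
    intro x _
    rw [Finset.mul_sum]
    exact (Equiv.sum_comp (Equiv.mulLeft x) (fun y => sqSign x * sqSign y)).symm
  have h2 : ∀ x w : G, sqSign x * sqSign (x * w) = sqSign w * commSign w x := by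
    intro x w
    rw [h.sqSign_mul]
    calc sqSign x * (sqSign x * sqSign w * commSign w x)
        = (sqSign x * sqSign x) * (sqSign w * commSign w x) := by ring
      _ = sqSign w * commSign w x := by rw [sqSign_mul_self, one_mul]
  rw [h1]
  simp_rw [h2]
  rw [Finset.sum_comm]
  simp_rw [← Finset.mul_sum, h.sum_commSign, mul_ite, mul_zero]
  rw [← Finset.sum_filter, Finset.mul_sum]
  rw [Finset.sum_subtype (Finset.univ.filter (· ∈ Subgroup.center G))
    (p := (· ∈ Subgroup.center G)) (by intro x; simp)]
  apply Finset.sum_congr rfl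
  intro w _
  ring

theorem sum_center [Fintype (Subgroup.center G)] (h : QuadSetting z) :
    (∑ w : Subgroup.center G, sqSign (w : G) = (Fintype.card (Subgroup.center G) : ℤ) ∧
      ∀ w ∈ Subgroup.center G, w * w = 1) ∨ ∑ w : Subgroup.center G, sqSign (w : G) = 0 := by
  by_cases hall : ∀ w ∈ Subgroup.center G, w * w = 1
  · left
    refine ⟨?_, hall⟩
    have : ∀ w : Subgroup.center G, sqSign (w : G) = 1 := fun w => sqSign_eq_one (hall w w.2)
    simp [this]
  · right
    push Not at hall
    obtain ⟨w0, hw0, hw0'⟩ := hall
    apply sum_eq_zero_of_mul_of_neg_one (K := Subgroup.center G) (fun w => sqSign (w : G)) ?_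
      ⟨w0, hw0⟩ (sqSign_eq_neg_one hw0')
    intro a b
    show sqSign ((a : G) * (b : G)) = _
    rw [h.sqSign_mul, commSign_eq_one ((Subgroup.mem_center_iff.mp b.2 a).symm)]
    ring

end QuadSetting

theorem sum_sqSign_eq {G : Type*} [Group G] [Fintype G] :
    ∑ x : G, sqSign x = 2 * (Nat.card {x : G // x ^ 2 = 1} : ℤ) - Fintype.card G := by
  classical
  have h1 : ∀ x : G, sqSign x = 2 * (if x ^ 2 = 1 then (1 : ℤ) else 0) - 1 := by
    intro x
    by_cases h : x * x = 1
    · rw [sqSign_eq_one h, if_pos (by rw [pow_two]; exact h)]; norm_num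
    · rw [sqSign_eq_neg_one h, if_neg (by rw [pow_two]; exact h)]; norm_num
  simp_rw [h1]
  rw [Finset.sum_sub_distrib, ← Finset.mul_sum, Finset.sum_boole]
  rw [Nat.card_eq_fintype_card, Fintype.card_subtype]
  simp

end Cfsg.Agent.Lib.Helper11
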