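import Mathlib
import Cfsg.Prelude.Def_Local

/-!
Isomorphism invariance of quasisimplicity, and related basic lemmas about components.
-/

set_option autoImplicit false

namespace Cfsg.Agent.Lib.Helper11

/-- the image of the centre under an isomorphism is the centre -/
theorem map_center_mulEquiv {H H' : Type*} [Group H] [Group H'] (e : H ≃* H') :
    (Subgroup.center H).map e.toMonoidHom = Subgroup.center H' := by
  ext x
  constructor
  · rintro ⟨z, hz, rfl⟩
    rw [Subgroup.mem_center_iff]
    intro y
    obtain ⟨w, rfl⟩ := e.surjective y
    have := Subgroup.mem_center_iff.mp hz w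
    change e w * e z = e z * e w
    rw [← map_mul, ← map_mul, this]
  · intro hx
    refine ⟨e.symm x, ?_, by simp⟩
    change e.symm x ∈ Subgroup.center H
    rw [Subgroup.mem_center_iff]
    intro y
    apply e.injective
    have := Subgroup.mem_center_iff.mp hx (e y)
    simpa using this

/-- quotients by the centre of isomorphic groups are isomorphic -/
noncomputable def centerQuotientCongr {H H' : Type*} [Group H] [Group H'] (e : H ≃* H') :
    H ⧸ Subgroup.center H ≃* H' ⧸ Subgroup.center H' :=
  QuotientGroup.congr (Subgroup.center H) (Subgroup.center H') e (map_center_mulEquiv e)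

/-- quasisimplicity is invariant under isomorphism -/
theorem isQuasisimple_of_mulEquiv {H H' : Type*} [Group H] [Group H'] (e : H ≃* H')
    (h : Cfsg.IsQuasisimple H) : Cfsg.IsQuasisimple H' := by
  obtain ⟨hp, hs⟩ := h
  refine ⟨?_, ?_⟩
  · have := hp
    exact Group.IsPerfect.ofSurjective (f := e.toMonoidHom) e.surjective
  · have := hs
    exact (centerQuotientCongr e).symm.isSimpleGroup

end Cfsg.Agent.Lib.Helper11
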