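/-
helper11: S4581 leaf (FR) `commutator_eq_frattini_iff` (planner helper5): for a Sylow 2-subgroup `P`,
`P' = Φ(P)` iff all squares of `P` lie in `P'` (via the done rows S0012, S0013).
-/
import Mathlib
import Cfsg.Agent.Lib.Helper5.RODefs
import Cfsg.Agent.S0012
import Cfsg.Agent.S0013

set_option autoImplicit false

namespace Cfsg.Agent.Lib.Helper11.RO

open Cfsg Cfsg.Agent.Lib.Helper5.RO

universe u

/-- the derived subgroup of a subgroup, computed inside the subgroup and pushed forward -/
theorem map_subtype_commutator {G : Type u} [Group G] (Q : Subgroup G) :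
    (commutator Q).map Q.subtype = ⁅Q, Q⁆ := by
  rw [commutator_def, Subgroup.map_commutator, ← MonoidHom.range_eq_map, Subgroup.range_subtype]

/-- (FR) via the done rows S0012, S0013. -/
theorem commutator_eq_frattini_iff {G : Type u} [Group G] [Finite G] (P : Sylow 2 G) :
    commutator (P : Subgroup G) = frattini (P : Subgroup G) ↔ SqComm (P : Subgroup G) := by
  haveI : Fact (Nat.Prime 2) := ⟨Nat.prime_two⟩
  have hP2 : IsPGroup 2 (P : Subgroup G) := P.isPGroup'
  have h12 := Cfsg.Agent.S0012.result (G := (P : Subgroup G)) 2 hP2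
  constructor
  · intro h x hx
    have h1 : (⟨x, hx⟩ : (P : Subgroup G)) ^ 2 ∈ commutator (P : Subgroup G) := by
      rw [h]; exact h12.2 ⟨x, hx⟩
    rw [← map_subtype_commutator]
    exact ⟨_, h1, by simp⟩
  · intro h
    apply le_antisymm h12.1
    apply Cfsg.Agent.S0013.result (G := (P : Subgroup G)) 2 hP2 (commutator (P : Subgroup G)) le_rfl
    intro x
    have h1 := h x.1 x.2
    rw [← map_subtype_commutator] at h1
    obtain ⟨y, hy, hyx⟩ := h1
    have : y = x ^ 2 := by
      apply Subtype.ext
      rw [Subgroup.coe_pow]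
      exact hyx
    rw [← this]; exact hy

end Cfsg.Agent.Lib.Helper11.RO
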