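/-
helper11: S4581 leaf (GTC1) `exists_normal_two_selfcentralizing` (planner helper5): Hall–Higman 1.2.3
for `p = 2` in a solvable group without nontrivial normal subgroups of odd order.
-/
import Mathlib
import Cfsg.Agent.Lib.Helper12.HallHigman
import Cfsg.Agent.Lib.Helper25.PSolvableOfSolvable
import Cfsg.Agent.Lib.Helper16.PCore

set_option autoImplicit false

namespace Cfsg.Agent.Lib.Helper11.RO

universe u

/-- (GTC1) Hall–Higman 1.2.3 for `p = 2`: if `G` is solvable with no nontrivial normal subgroup of odd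
order, `V = O_2(G)` is a normal 2-subgroup containing its centralizer; it lies in every Sylow
2-subgroup. -/
theorem exists_normal_two_selfcentralizing {G : Type u} [Group G] [Finite G] [Group.IsSolvable G]
    (hA : ∀ M : Subgroup G, M.Normal → Odd (Nat.card M) → M = ⊥) (P : Sylow 2 G) :
    ∃ V : Subgroup G, V.Normal ∧ IsPGroup 2 V ∧ V ≤ (P : Subgroup G) ∧
      Subgroup.centralizer (V : Set G) ≤ V := by
  haveI : Fact (Nat.Prime 2) := ⟨Nat.prime_two⟩
  have hO : Cfsg.pPrimeCore 2 G = ⊥ := by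
    unfold Cfsg.pPrimeCore
    rw [sSup_eq_bot]
    rintro N ⟨hN, hcop⟩
    apply hA N hN
    exact (Nat.coprime_two_right).mp hcop
  have hsolv : Cfsg.IsPSolvable 2 G :=
    Cfsg.Agent.Lib.Helper25.isPSolvable_of_isSolvable' 2 Nat.prime_two inferInstance
  refine ⟨Cfsg.pCore 2 G, Cfsg.Agent.Lib.Helper24.pCore_normal' 2,
    Cfsg.Agent.Lib.Helper16.pCore_isPGroup, Cfsg.Agent.Lib.Helper16.pCore_le_sylow P, ?_⟩
  exact Cfsg.Agent.Lib.Helper12.centralizer_pCore_le_pCore 2 hsolv hO

end Cfsg.Agent.Lib.Helper11.RO
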