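/-
helper11: S4581 leaf (NQ) `normalizer_mapSurjective` (planner helper5): normalizers of Sylow
subgroups in quotients (Frattini argument).
-/
import Mathlib

set_option autoImplicit false

namespace Cfsg.Agent.Lib.Helper11.RO

universe u

/-- membership in a conjugate Sylow subgroup of a subgroup, spelled out in the ambient group -/
theorem mem_smul_subtype_iff {G : Type u} [Group G] {p : ℕ} [Fact p.Prime]
    {H : Subgroup G} (P : Sylow p G) (hP : (P : Subgroup G) ≤ H) (h : H) (y : H) :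
    y ∈ ((h • (P.subtype hP) : Sylow p H) : Subgroup H) ↔
      (h : G)⁻¹ * (y : G) * (h : G) ∈ (P : Subgroup G) := by
  rw [Sylow.coe_subgroup_smul, Subgroup.mem_pointwise_smul_iff_inv_smul_mem, Sylow.coe_subtype,
    Subgroup.mem_subgroupOf]
  have : (((MulAut.conj h)⁻¹ • y : H) : G) = (h : G)⁻¹ * (y : G) * (h : G) := by
    simp [MulAut.smul_def]
  rw [this]

/-- Two Sylow subgroups inside `P ⊔ K` (`K` normal) are conjugate by an element of `K`. -/
theorem exists_mem_conj_eq_of_le_sup {G : Type u} [Group G] [Finite G] {p : ℕ} [Fact p.Prime]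
    (K : Subgroup G) [K.Normal] (P P' : Sylow p G)
    (hP' : (P' : Subgroup G) ≤ (P : Subgroup G) ⊔ K) :
    ∃ k ∈ K, ∀ y : G, y ∈ (P' : Subgroup G) ↔ k⁻¹ * y * k ∈ (P : Subgroup G) := by
  classical
  set H : Subgroup G := (P : Subgroup G) ⊔ K with hH
  have hP : (P : Subgroup G) ≤ H := le_sup_left
  obtain ⟨h, hh⟩ := MulAction.exists_smul_eq H (P.subtype hP) (P'.subtype hP')
  -- decompose `h = k * q` with `k ∈ K`, `q ∈ P`
  have hmem : (h : G) ∈ K ⊔ (P : Subgroup G) := by
    rw [sup_comm]; exact h.2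
  rw [← SetLike.mem_coe, Subgroup.normal_mul] at hmem
  obtain ⟨k, hk, q, hq, hkq⟩ := hmem
  have hkq' : k * q = (h : G) := hkq
  refine ⟨k, hk, ?_⟩
  have key : ∀ y : G, k⁻¹ * y * k = q * ((h : G)⁻¹ * y * (h : G)) * q⁻¹ := by
    intro y; rw [← hkq']; group
  have key2 : ∀ y : G, (h : G)⁻¹ * y * (h : G) = q⁻¹ * (k⁻¹ * y * k) * q := by
    intro y; rw [← hkq']; group
  intro y
  constructor
  · intro hy
    have hyH : y ∈ H := hP' hy
    have h2 : (⟨y, hyH⟩ : H) ∈ ((P'.subtype hP' : Sylow p H) : Subgroup H) := by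
      rw [Sylow.coe_subtype]
      exact Subgroup.mem_subgroupOf.mpr hy
    rw [← hh, mem_smul_subtype_iff] at h2
    rw [key]
    exact (P : Subgroup G).mul_mem ((P : Subgroup G).mul_mem hq h2) ((P : Subgroup G).inv_mem hq)
  · intro hy
    have hkH : k ∈ H := by rw [hH]; exact Subgroup.mem_sup_right hk
    have hyH : y ∈ H := by
      have : y = k * (k⁻¹ * y * k) * k⁻¹ := by group
      rw [this]
      exact H.mul_mem (H.mul_mem hkH (hP hy)) (H.inv_mem hkH)
    have h2 : (⟨y, hyH⟩ : H) ∈ ((h • (P.subtype hP) : Sylow p H) : Subgroup H) := by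
      rw [mem_smul_subtype_iff]
      show (h : G)⁻¹ * y * (h : G) ∈ (P : Subgroup G)
      rw [key2]
      exact (P : Subgroup G).mul_mem ((P : Subgroup G).mul_mem ((P : Subgroup G).inv_mem hq) hy) hq
    rw [hh, Sylow.coe_subtype, Subgroup.mem_subgroupOf] at h2
    exact h2

/-- (NQ) normalizers of Sylow subgroups in quotients (Frattini argument). -/
theorem normalizer_mapSurjective {G : Type u} [Group G] [Finite G] (K : Subgroup G) [K.Normal]
    (P : Sylow 2 G) :
    Subgroup.normalizer (((P.mapSurjective (QuotientGroup.mk'_surjective K) : Sylow 2 (G ⧸ K)) :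
        Subgroup (G ⧸ K)) : Set (G ⧸ K)) =
      (Subgroup.normalizer ((P : Subgroup G) : Set G)).map (QuotientGroup.mk' K) := by
  classical
  have hcoe : ((P.mapSurjective (QuotientGroup.mk'_surjective K) : Sylow 2 (G ⧸ K)) :
      Subgroup (G ⧸ K)) = (P : Subgroup G).map (QuotientGroup.mk' K) := Sylow.coe_mapSurjective _ _
  rw [hcoe]
  apply le_antisymm
  · intro xbar hx
    obtain ⟨x, rfl⟩ := QuotientGroup.mk'_surjective K xbar
    -- the conjugate `x P x⁻¹` lies in `P ⊔ K`
    have hle : ((x • P : Sylow 2 G) : Subgroup G) ≤ (P : Subgroup G) ⊔ K := by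
      intro y hy
      rw [Sylow.coe_subgroup_smul, Subgroup.mem_pointwise_smul_iff_inv_smul_mem] at hy
      have hy' : x⁻¹ * y * x ∈ (P : Subgroup G) := by
        simpa [MulAut.smul_def, MulAut.conj_inv_apply] using hy
      -- image of `y` lies in `P.map mk`
      have h1 : (QuotientGroup.mk' K) (x⁻¹ * y * x) ∈ (P : Subgroup G).map (QuotientGroup.mk' K) :=
        Subgroup.mem_map_of_mem _ hy'
      have h2 := (Subgroup.mem_normalizer_iff.mp hx ((QuotientGroup.mk' K) (x⁻¹ * y * x))).mp h1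
      have h3 : (QuotientGroup.mk' K) x * (QuotientGroup.mk' K) (x⁻¹ * y * x) *
          ((QuotientGroup.mk' K) x)⁻¹ = (QuotientGroup.mk' K) y := by
        rw [← map_inv, ← map_mul, ← map_mul]; congr 1; group
      rw [h3, Subgroup.mem_map] at h2
      obtain ⟨z, hz, hzy⟩ := h2
      have h4 : z⁻¹ * y ∈ K := by
        have := QuotientGroup.eq.mp (show ((z : G) : G ⧸ K) = ((y : G) : G ⧸ K) from hzy)
        exact this
      have : y = z * (z⁻¹ * y) := by group
      rw [this]
      exact Subgroup.mul_mem _ (Subgroup.mem_sup_left hz) (Subgroup.mem_sup_right h4)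
    obtain ⟨k, hk, hiff⟩ := exists_mem_conj_eq_of_le_sup K P (x • P) hle
    -- `k⁻¹ * x` normalizes `P`
    refine ⟨k⁻¹ * x, ?_, ?_⟩
    · rw [SetLike.mem_coe, Subgroup.mem_normalizer_iff]
      intro z
      have h5 : x * z * x⁻¹ ∈ ((x • P : Sylow 2 G) : Subgroup G) ↔ z ∈ (P : Subgroup G) := by
        rw [Sylow.coe_subgroup_smul, Subgroup.mem_pointwise_smul_iff_inv_smul_mem]
        have : ((MulAut.conj x)⁻¹ • (x * z * x⁻¹) : G) = z := by
          simp [MulAut.smul_def, mul_assoc]
        rw [this]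
      rw [← h5, hiff]
      have : k⁻¹ * (x * z * x⁻¹) * k = k⁻¹ * x * z * (k⁻¹ * x)⁻¹ := by group
      rw [this]
    · rw [map_mul, map_inv]
      have : (QuotientGroup.mk' K) k = 1 := by
        rw [QuotientGroup.mk'_apply, QuotientGroup.eq_one_iff]; exact hk
      rw [this, inv_one, one_mul]
  · rintro _ ⟨n, hn, rfl⟩
    rw [Subgroup.mem_normalizer_iff]
    intro ybar
    obtain ⟨y, rfl⟩ := QuotientGroup.mk'_surjective K ybar
    have hn' := Subgroup.mem_normalizer_iff.mp hn
    constructor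
    · rintro ⟨z, hz, hzy⟩
      refine ⟨n * z * n⁻¹, (hn' z).mp hz, ?_⟩
      rw [map_mul, map_mul, map_inv, hzy]
    · rintro ⟨z, hz, hzy⟩
      refine ⟨n⁻¹ * z * n, ?_, ?_⟩
      · have := (hn' (n⁻¹ * z * n)).mpr
        apply this
        have : n * (n⁻¹ * z * n) * n⁻¹ = z := by group
        rw [this]; exact hz
      · rw [map_mul, map_mul, map_inv, hzy]; group

end Cfsg.Agent.Lib.Helper11.RO
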