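/-
helper11: S4581 leaf (T4C) `sqComm_of_odd_generated` (planner helper5): the step via the done row
S4582 (transfer).
-/
import Mathlib
import Cfsg.Agent.Lib.Helper5.RODefs
import Cfsg.Agent.S4582

set_option autoImplicit false

namespace Cfsg.Agent.Lib.Helper11.RO

open Cfsg Cfsg.Agent.Lib.Helper5.RO

universe u

/-- (T4C) step via the done row S4582 (`Cfsg.Agent.S4582.result`, transfer). -/
theorem sqComm_of_odd_generated {G : Type u} [Group G] [Finite G] (P : Sylow 2 G)
    (N₀ : Subgroup G) [N₀.Normal] (hodd : Odd (Nat.card (Abelianization N₀)))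
    (hexp : ∀ x ∈ (P : Subgroup G) ⊓ N₀, x ^ 2 = 1) (ih : AllSqComm (G ⧸ N₀)) :
    SqComm (P : Subgroup G) := by
  haveI : Fact (Nat.Prime 2) := ⟨Nat.prime_two⟩
  have hbar := ih (P.mapSurjective (QuotientGroup.mk'_surjective N₀))
  have hcoe : ((P.mapSurjective (QuotientGroup.mk'_surjective N₀) : Sylow 2 (G ⧸ N₀)) :
      Subgroup (G ⧸ N₀)) = (P : Subgroup G).map (QuotientGroup.mk' N₀) :=
    Sylow.coe_mapSurjective _ _
  rw [hcoe] at hbar
  apply Cfsg.Agent.S4582.result N₀ P
  · intro x hx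
    have h1 := hbar ((QuotientGroup.mk' N₀) x) (Subgroup.mem_map_of_mem _ hx)
    rw [← Subgroup.map_commutator] at h1
    obtain ⟨c, hc, hcx⟩ := h1
    have hle : ⁅(P : Subgroup G), (P : Subgroup G)⁆ ≤ (P : Subgroup G) := by
      rw [Subgroup.commutator_le]
      intro a ha b hb
      exact (P : Subgroup G).mul_mem ((P : Subgroup G).mul_mem ((P : Subgroup G).mul_mem ha hb)
        ((P : Subgroup G).inv_mem ha)) ((P : Subgroup G).inv_mem hb)
    have hcP : c ∈ (P : Subgroup G) := hle hc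
    have h2 : c⁻¹ * x ^ 2 ∈ N₀ := by
      have h3 : (QuotientGroup.mk' N₀) c = (QuotientGroup.mk' N₀) (x ^ 2) := by
        rw [hcx, map_pow]
      exact QuotientGroup.eq.mp h3
    have h4 : c⁻¹ * x ^ 2 ∈ (P : Subgroup G) :=
      (P : Subgroup G).mul_mem ((P : Subgroup G).inv_mem hcP) ((P : Subgroup G).pow_mem hx 2)
    have : x ^ 2 = c * (c⁻¹ * x ^ 2) := by group
    rw [this]
    exact Subgroup.mul_mem _ (Subgroup.mem_sup_right hc) (Subgroup.mem_sup_left ⟨h4, h2⟩)
  · intro x hx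
    rw [hexp x hx]
    exact Subgroup.one_mem _
  · exact hodd

end Cfsg.Agent.Lib.Helper11.RO
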