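/-
helper11: S4864 leaf (N7) `exists_conj_mem_of_card_le`, CORE with (N4) as a hypothesis
(planner helper12; frozen signatures in notes/S4864_leaves.lean).
-/
import Mathlib
import Cfsg.Prelude.Def_Blocks
import Cfsg.Agent.Lib.Helper12.RealNDefs

set_option autoImplicit false

namespace Cfsg.Agent.Lib.Helper11.RealN

open Cfsg Cfsg.Agent.Lib.Helper12.RealN

universe u

variable {G : Type u} [Group G] [Finite G]

omit [Finite G] in
/-- `elRel` is an equivalence relation. -/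
theorem elRel_equivalence (K : Subgroup G) : Equivalence (elRel G K) := by
  refine ⟨fun x => ⟨1, by simp⟩, ?_, ?_⟩
  · rintro x y ⟨g, hg⟩
    exact ⟨g⁻¹, by rw [hg]; group⟩
  · rintro x y z ⟨g, hg⟩ ⟨h, hh⟩
    exact ⟨h * g, by rw [hh, hg]; group⟩

omit [Finite G] in
theorem elRel_of_quot_eq (K : Subgroup G) {x y : {x : ↥K // IsConj x x⁻¹}}
    (h : Quot.mk (elRel G K) x = Quot.mk (elRel G K) y) : elRel G K x y := by
  have := Quot.eqvGen_exact h
  exact (elRel_equivalence K).eqvGen_iff.mp this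

/-- (N7) core: with (N4) as a hypothesis. -/
theorem exists_conj_mem_of_card_le_of_N4 (p : ℕ) [Fact p.Prime] (K : Subgroup G) [hK : K.Normal]
    (P : Sylow p G)
    (hN4 : ∀ {c c' : G}, c ∈ Subgroup.centralizer ((P : Subgroup G) : Set G) →
      c' ∈ Subgroup.centralizer ((P : Subgroup G) : Set G) → ∀ g : G, c' = g * c * g⁻¹ →
      ∃ n ∈ NP P, c' = n * c * n⁻¹)
    (hcard : Nat.card (Quot (elRel G K)) ≤
      Nat.card (Quot (elRel ↥(NP P) ((CP K P).subgroupOf (NP P)))))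
    (x : ↥K) (hx : IsConj x x⁻¹) :
    ∃ c ∈ CP K P, ∃ g : G, (x : G) = g * c * g⁻¹ := by
  classical
  -- the map on representatives
  let C' : Subgroup ↥(NP P) := (CP K P).subgroupOf (NP P)
  have hmemCP : ∀ c : ↥C', (((c : ↥(NP P)) : G)) ∈ CP K P := fun c =>
    Subgroup.mem_subgroupOf.mp c.2
  have hmemK : ∀ c : ↥C', (((c : ↥(NP P)) : G)) ∈ K := fun c => (hmemCP c).1
  have hreal : ∀ c : ↥C', IsConj c c⁻¹ →
      IsConj (⟨((c : ↥(NP P)) : G), hmemK c⟩ : ↥K) (⟨((c : ↥(NP P)) : G), hmemK c⟩ : ↥K)⁻¹ := by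
    intro c hc
    rw [isConj_iff] at hc ⊢
    obtain ⟨d, hd⟩ := hc
    refine ⟨⟨((d : ↥(NP P)) : G), hmemK d⟩, ?_⟩
    have := congrArg (fun z : ↥C' => (((z : ↥(NP P))) : G)) hd
    apply Subtype.ext
    simpa using this
  let f : {c : ↥C' // IsConj c c⁻¹} → {x : ↥K // IsConj x x⁻¹} := fun c =>
    ⟨⟨((c.1 : ↥(NP P)) : G), hmemK c.1⟩, hreal c.1 c.2⟩
  have hf : ∀ a b, elRel ↥(NP P) C' a b → elRel G K (f a) (f b) := by
    rintro a b ⟨n, hn⟩
    refine ⟨(n : G), ?_⟩
    have := congrArg (fun z : ↥(NP P) => (z : G)) hn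
    simpa [f] using this
  let Ψ : Quot (elRel ↥(NP P) C') → Quot (elRel G K) := Quot.map f hf
  have hinj : Function.Injective Ψ := by
    intro qa qb hq
    induction qa using Quot.inductionOn with
    | h a =>
      induction qb using Quot.inductionOn with
      | h b =>
        have h1 : Quot.mk (elRel G K) (f a) = Quot.mk (elRel G K) (f b) := hq
        obtain ⟨g, hg⟩ := elRel_of_quot_eq K h1
        have hg' : ((b.1 : ↥(NP P)) : G) = g * ((a.1 : ↥(NP P)) : G) * g⁻¹ := by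
          simpa [f] using hg
        obtain ⟨n, hn, hnc⟩ := hN4 (hmemCP a.1).2 (hmemCP b.1).2 g hg'
        apply Quot.sound
        refine ⟨⟨n, hn⟩, ?_⟩
        apply Subtype.ext
        simpa using hnc
  have hbij : Function.Bijective Ψ := hinj.bijective_of_nat_card_le hcard
  obtain ⟨qc, hqc⟩ := hbij.2 (Quot.mk _ ⟨x, hx⟩)
  induction qc using Quot.inductionOn with
  | h c =>
    have h1 : Quot.mk (elRel G K) (f c) = Quot.mk (elRel G K) ⟨x, hx⟩ := hqc
    obtain ⟨g, hg⟩ := elRel_of_quot_eq K h1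
    refine ⟨((c.1 : ↥(NP P)) : G), hmemCP c.1, g, ?_⟩
    simpa [f] using hg

end Cfsg.Agent.Lib.Helper11.RealN
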