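/-
helper11: S4864 leaf (N7) `exists_conj_mem_of_card_le`, final form (planner helper12; frozen
signature in notes/S4864_leaves.lean), with an own twin of (N4).
-/
import Mathlib
import Cfsg.Prelude.Def_Blocks
import Cfsg.Agent.Lib.Helper12.RealNDefs
import Cfsg.Agent.Lib.Helper11.RealNN7Core

set_option autoImplicit false

namespace Cfsg.Agent.Lib.Helper11.RealN

open Cfsg Cfsg.Agent.Lib.Helper12.RealN

open scoped Pointwise

universe u

variable {G : Type u} [Group G] [Finite G]

/-- own twin of (N4): two elements of `C_G(P)` that are `G`-conjugate are `N_G(P)`-conjugate. -/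
theorem conj_normalizer_of_conj_h11 (p : ℕ) [Fact p.Prime] (P : Sylow p G) {c c' : G}
    (hc : c ∈ Subgroup.centralizer ((P : Subgroup G) : Set G))
    (hc' : c' ∈ Subgroup.centralizer ((P : Subgroup G) : Set G)) (g : G)
    (h : c' = g * c * g⁻¹) :
    ∃ n ∈ NP P, c' = n * c * n⁻¹ := by
  classical
  set C : Subgroup G := Subgroup.centralizer ({c'} : Set G) with hC
  have hP : (P : Subgroup G) ≤ C := by
    intro u hu
    rw [hC, Subgroup.mem_centralizer_iff]
    intro y hy
    rw [Set.mem_singleton_iff] at hy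
    subst hy
    exact (Subgroup.mem_centralizer_iff.mp hc' u hu).symm
  have hQ : ((g • P : Sylow p G) : Subgroup G) ≤ C := by
    intro x hx
    rw [Sylow.coe_subgroup_smul, Subgroup.mem_smul_pointwise_iff_exists] at hx
    obtain ⟨u, hu, rfl⟩ := hx
    rw [hC, Subgroup.mem_centralizer_iff]
    intro y hy
    rw [Set.mem_singleton_iff] at hy
    subst hy
    have h1 : u * c = c * u := Subgroup.mem_centralizer_iff.mp hc u hu
    rw [MulAut.smul_def, MulAut.conj_apply, h]
    calc g * c * g⁻¹ * (g * u * g⁻¹) = g * (c * u) * g⁻¹ := by group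
      _ = g * (u * c) * g⁻¹ := by rw [h1]
      _ = g * u * g⁻¹ * (g * c * g⁻¹) := by group
  obtain ⟨k, hk⟩ := MulAction.exists_smul_eq ↥C ((g • P : Sylow p G).subtype hQ) (P.subtype hP)
  rw [Sylow.smul_subtype] at hk
  have hk' : k • (g • P : Sylow p G) = P := Sylow.subtype_injective hk
  have hk'' : ((k : G) * g) • P = P := by
    rw [mul_smul]
    exact hk'
  have hn : (k : G) * g ∈ NP P := Sylow.smul_eq_iff_mem_normalizer.mp hk''
  refine ⟨(k : G) * g, hn, ?_⟩
  have hkc : c' * (k : G) = (k : G) * c' := by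
    have := Subgroup.mem_centralizer_iff.mp k.2 c' (Set.mem_singleton c')
    exact this
  calc c' = (k : G) * c' * (k : G)⁻¹ := by rw [← hkc]; group
    _ = (k : G) * g * c * ((k : G) * g)⁻¹ := by rw [h]; group

/-- (N7): if `G` has at most as many orbits on the `K`-real elements of `K` as `N_G(P)` has on the
real elements of `C_K(P)`, every `K`-real element of `K` is `G`-conjugate into `C_K(P)`. -/
theorem exists_conj_mem_of_card_le (p : ℕ) [Fact p.Prime] (K : Subgroup G) [hK : K.Normal]
    (P : Sylow p G)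
    (hcard : Nat.card (Quot (elRel G K)) ≤
      Nat.card (Quot (elRel ↥(NP P) ((CP K P).subgroupOf (NP P)))))
    (x : ↥K) (hx : IsConj x x⁻¹) :
    ∃ c ∈ CP K P, ∃ g : G, (x : G) = g * c * g⁻¹ :=
  exists_conj_mem_of_card_le_of_N4 p K P
    (fun hc hc' g h => conj_normalizer_of_conj_h11 p P hc hc' g h) hcard x hx

end Cfsg.Agent.Lib.Helper11.RealN
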