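import Mathlib
import Cfsg.Agent.S0200
import Cfsg.Agent.Lib.Helper11.CoprimeConj

set_option autoImplicit false

namespace Cfsg.Agent.Lib.Helper11

section
variable {G : Type*} [Group G]

/-- If `c` inverts `x` then so does every odd power of `c`. -/
theorem conj_odd_pow_of_inverts {c x : G} (h : c * x * c⁻¹ = x⁻¹) {m : ℕ} (hm : Odd m) :
    c ^ m * x * (c ^ m)⁻¹ = x⁻¹ := by
  obtain ⟨j, rfl⟩ := hm
  have h2 : Commute (c ^ 2) x := by
    have : c ^ 2 * x * (c ^ 2)⁻¹ = x := by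
      calc c ^ 2 * x * (c ^ 2)⁻¹ = c * (c * x * c⁻¹) * c⁻¹ := by
            rw [pow_two]; simp only [mul_inv_rev, mul_assoc]
        _ = c * x⁻¹ * c⁻¹ := by rw [h]
        _ = (c * x * c⁻¹)⁻¹ := by group
        _ = x := by rw [h, inv_inv]
    have h3 : c ^ 2 * x = x * c ^ 2 := by
      calc c ^ 2 * x = (c ^ 2 * x * (c ^ 2)⁻¹) * c ^ 2 := by group
        _ = x * c ^ 2 := by rw [this]
    exact h3
  have h4 : Commute ((c ^ 2) ^ j) x⁻¹ := (h2.pow_left j).inv_right
  calc c ^ (2 * j + 1) * x * (c ^ (2 * j + 1))⁻¹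
      = (c ^ 2) ^ j * (c * x * c⁻¹) * ((c ^ 2) ^ j)⁻¹ := by
        rw [pow_succ, pow_mul]; group
    _ = (c ^ 2) ^ j * x⁻¹ * ((c ^ 2) ^ j)⁻¹ := by rw [h]
    _ = x⁻¹ := by rw [h4.eq, mul_inv_cancel_right]

/-- With a normal Sylow 2-subgroup there are no nontrivial real elements of odd order. -/
theorem not_isConj_inv_of_normal_sylow [Finite G] (P : Sylow 2 G) (hP : (P : Subgroup G).Normal)
    (x : G) (hx1 : x ≠ 1) (hodd : Odd (orderOf x)) : ¬ IsConj x x⁻¹ := by
  haveI : Fact (Nat.Prime 2) := ⟨Nat.prime_two⟩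
  intro hconj
  obtain ⟨c, hc⟩ := isConj_iff.mp hconj
  obtain ⟨k, m, hm, hkm⟩ := Nat.exists_eq_two_pow_mul_odd (n := orderOf c) (orderOf_pos c).ne'
  set g := c ^ m with hg
  have hgx : g * x * g⁻¹ = x⁻¹ := conj_odd_pow_of_inverts hc hm
  have hg2 : g ^ (2 ^ k) = 1 := by
    rw [hg, ← pow_mul, mul_comm, ← hkm, pow_orderOf_eq_one]
  -- g ∈ P
  have hgP : g ∈ (P : Subgroup G) := by
    have hpg : IsPGroup 2 ↥(Subgroup.zpowers g) := by
      rw [IsPGroup.iff_card, Nat.card_zpowers]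
      exact (Nat.dvd_prime_pow Nat.prime_two).mp (orderOf_dvd_of_pow_eq_one hg2) |>.imp
        (fun _ h => h.2)
    obtain ⟨P', hP'⟩ := hpg.exists_le_sylow
    haveI := Sylow.unique_of_normal P hP
    have : P' = P := Subsingleton.elim _ _
    rw [this] at hP'
    exact hP' (Subgroup.mem_zpowers g)
  have hmem : x⁻¹ * x⁻¹ ∈ (P : Subgroup G) := by
    have h1 : x⁻¹ * x⁻¹ = g * (x * g⁻¹ * x⁻¹) := by
      rw [← hgx]; group
    rw [h1]
    exact Subgroup.mul_mem _ hgP (hP.conj_mem _ (Subgroup.inv_mem _ hgP) x)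
  obtain ⟨a, ha⟩ := P.2 ⟨x⁻¹ * x⁻¹, hmem⟩
  have ha' : (x⁻¹ * x⁻¹) ^ (2 ^ a) = 1 := by
    have := congrArg Subtype.val ha
    simpa using this
  have hx2 : x ^ (2 ^ (a + 1)) = 1 := by
    have : (x⁻¹ * x⁻¹) ^ (2 ^ a) = (x ^ (2 ^ (a + 1)))⁻¹ := by
      rw [← pow_two, ← pow_mul, ← pow_succ', inv_pow]
    rw [this, inv_eq_one] at ha'
    exact ha'
  have hd : orderOf x ∣ 2 ^ (a + 1) := orderOf_dvd_of_pow_eq_one hx2
  have hcop : Nat.Coprime (orderOf x) (2 ^ (a + 1)) :=
    Nat.Coprime.pow_right _ (Nat.coprime_two_right.mpr hodd)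
  have : orderOf x = 1 := Nat.Coprime.eq_one_of_dvd hcop hd
  exact hx1 (orderOf_eq_one_iff.mp this)

/-- If no nontrivial element of odd order is conjugate to its inverse, the Sylow 2-subgroup is
normal (via Baer–Suzuki in `G / O₂(G)` and a Frattini-type lifting argument). -/
theorem normal_sylow_of_no_real_odd [Finite G] (P : Sylow 2 G)
    (hreal : ∀ x : G, x ≠ 1 → Odd (orderOf x) → ¬ IsConj x x⁻¹) : (P : Subgroup G).Normal := by
  haveI : Fact (Nat.Prime 2) := ⟨Nat.prime_two⟩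
  set Q : Subgroup G := sSup {N : Subgroup G | N.Normal ∧ IsPGroup 2 N} with hQ
  have hQn : Q.Normal := Subgroup.sSup_normal _ (fun _ h => h.1)
  have hQp : IsPGroup 2 Q := Sylow.sSup_of_normal _ (fun _ h => h.2) (fun _ h => h.1)
  have hQmax : ∀ N : Subgroup G, N.Normal → IsPGroup 2 N → N ≤ Q :=
    fun N h1 h2 => le_sSup ⟨h1, h2⟩
  by_cases hPQ : (P : Subgroup G) ≤ Q
  · have : Q = P := P.is_maximal' hQp hPQ
    rw [← this]; exact hQn
  · exfalso
    obtain ⟨u, huP, huQ⟩ := SetLike.not_le_iff_exists.mp hPQ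
    haveI := hQn
    set ub : G ⧸ Q := QuotientGroup.mk u with hub
    have hub1 : ub ≠ 1 := by
      rw [hub, Ne, QuotientGroup.eq_one_iff]; exact huQ
    obtain ⟨a, ha⟩ := P.2 ⟨u, huP⟩
    have hua : u ^ 2 ^ a = 1 := by
      have := congrArg Subtype.val ha
      simpa using this
    have huba : ub ^ 2 ^ a = 1 := by
      rw [hub, ← QuotientGroup.mk_pow, hua]; rfl
    obtain ⟨k, hk_le, hk⟩ :=
      (Nat.dvd_prime_pow Nat.prime_two).mp (orderOf_dvd_of_pow_eq_one huba)
    have hk0 : k ≠ 0 := by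
      rintro rfl
      rw [pow_zero] at hk
      exact hub1 (orderOf_eq_one_iff.mp hk)
    set tb : G ⧸ Q := ub ^ 2 ^ (k - 1) with htb
    have htb2 : orderOf tb = 2 := by
      rw [htb, orderOf_pow' _ (by positivity), hk,
        Nat.gcd_eq_right (pow_dvd_pow 2 (Nat.sub_le k 1))]
      obtain ⟨k', rfl⟩ := Nat.exists_eq_succ_of_ne_zero hk0
      rw [Nat.succ_sub_one, pow_succ, Nat.mul_div_cancel_left _ (by positivity)]
    set t0 : G := u ^ 2 ^ (k - 1) with ht0
    have ht0b : (QuotientGroup.mk t0 : G ⧸ Q) = tb := by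
      rw [ht0, htb, hub, QuotientGroup.mk_pow]
    -- the hypothesis of S0200 holds in the quotient
    have hO : ∀ N : Subgroup (G ⧸ Q), N.Normal → IsPGroup 2 N → tb ∉ N := by
      intro N hN hNp htbN
      have hcomap_le : N.comap (QuotientGroup.mk' Q) ≤ Q := by
        apply hQmax
        · exact hN.comap _
        · rintro ⟨n, hn⟩
          obtain ⟨b, hb⟩ := hNp ⟨QuotientGroup.mk' Q n, hn⟩
          have hb' : (QuotientGroup.mk' Q n) ^ 2 ^ b = 1 := by
            have := congrArg Subtype.val hb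
            simpa using this
          have hnQ : n ^ 2 ^ b ∈ Q := by
            rw [← QuotientGroup.eq_one_iff, QuotientGroup.mk_pow]
            exact hb'
          obtain ⟨b', hb2⟩ := hQp ⟨n ^ 2 ^ b, hnQ⟩
          have hb2' : (n ^ 2 ^ b) ^ 2 ^ b' = 1 := by
            have := congrArg Subtype.val hb2
            simpa using this
          refine ⟨b + b', ?_⟩
          apply Subtype.ext
          simp only [Subgroup.coe_pow, Subgroup.coe_one]
          rw [pow_add, pow_mul]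
          exact hb2'
      have h1 : t0 ∈ N.comap (QuotientGroup.mk' Q) := by
        rw [Subgroup.mem_comap]
        change (QuotientGroup.mk t0 : G ⧸ Q) ∈ N
        rw [ht0b]; exact htbN
      have h2 : tb = 1 := by
        rw [← ht0b]
        exact (QuotientGroup.eq_one_iff t0).mpr (hcomap_le h1)
      rw [h2, orderOf_one] at htb2
      exact absurd htb2 (by norm_num)
    obtain ⟨hb, hb1, hbodd, hbinv⟩ := Cfsg.Agent.S0200.result tb htb2 hO
    -- pass to an element of prime order r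
    have hord1 : orderOf hb ≠ 1 := fun h => hb1 (orderOf_eq_one_iff.mp h)
    obtain ⟨r, hr, hrd⟩ := Nat.exists_prime_and_dvd hord1
    haveI : Fact r.Prime := ⟨hr⟩
    have hr2 : r ≠ 2 := by
      rintro rfl
      exact (Nat.not_even_iff_odd.mpr hbodd) (even_iff_two_dvd.mpr hrd)
    have hrodd : Odd r := hr.odd_of_ne_two hr2
    set hb' : G ⧸ Q := hb ^ (orderOf hb / r) with hhb'
    have hohb' : orderOf hb' = r :=
      orderOf_pow_orderOf_div (orderOf_pos hb).ne' hrd
    have hb'inv : tb * hb' * tb⁻¹ = hb'⁻¹ := by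
      have := (MulAut.conj tb).toMonoidHom.map_pow hb (orderOf hb / r)
      simp only [MulEquiv.toMonoidHom_eq_coe, MonoidHom.coe_coe, MulAut.conj_apply] at this
      rw [hhb', this, hbinv, inv_pow]
    -- lift to an element c of order r
    obtain ⟨h0, hh0⟩ := QuotientGroup.mk_surjective hb'
    obtain ⟨e, he⟩ := (IsPGroup.iff_card.mp hQp)
    have hcop : Nat.Coprime (2 ^ e) r :=
      Nat.Coprime.pow_left _ ((Nat.coprime_primes Nat.prime_two hr).mpr (Ne.symm hr2))
    obtain ⟨j, -, hj⟩ := Nat.exists_mul_mod_eq_one_of_coprime hcop hr.one_lt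
    set c : G := h0 ^ (2 ^ e * j) with hc
    have hcb : (QuotientGroup.mk c : G ⧸ Q) = hb' := by
      rw [hc, QuotientGroup.mk_pow, hh0, ← pow_mod_orderOf, hohb', hj, pow_one]
    have hcr : c ^ r = 1 := by
      have h1 : h0 ^ r ∈ Q := by
        rw [← QuotientGroup.eq_one_iff, QuotientGroup.mk_pow, hh0, ← hohb', pow_orderOf_eq_one]
      have h2 : (h0 ^ r) ^ (2 ^ e) = 1 := by
        have := pow_card_eq_one' (G := ↥Q) (x := ⟨h0 ^ r, h1⟩)
        rw [he] at this
        have := congrArg Subtype.val this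
        simpa using this
      calc c ^ r = h0 ^ (r * 2 ^ e * j) := by
            rw [hc, ← pow_mul]; congr 1; ring
        _ = ((h0 ^ r) ^ (2 ^ e)) ^ j := by rw [pow_mul, pow_mul]
        _ = 1 := by rw [h2, one_pow]
    have hc1 : c ≠ 1 := by
      intro h
      rw [h] at hcb
      have : hb' = 1 := hcb.symm.trans (by rfl)
      rw [this, orderOf_one] at hohb'
      exact hr.one_lt.ne hohb'
    have hoc : orderOf c = r := orderOf_eq_prime hcr hc1
    set c' : G := t0 * c⁻¹ * t0⁻¹ with hc'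
    have hoc' : orderOf c' = r := by
      have := (MulAut.conj t0).orderOf_eq c⁻¹
      simp only [MulAut.conj_apply] at this
      rw [hc', this, orderOf_inv, hoc]
    have hcc : c⁻¹ * c' ∈ Q := by
      rw [← QuotientGroup.eq_one_iff, hc']
      simp only [QuotientGroup.mk_mul, QuotientGroup.mk_inv, hcb, ht0b]
      have : tb * hb'⁻¹ * tb⁻¹ = hb' := by
        have h3 : tb * hb'⁻¹ * tb⁻¹ = (tb * hb' * tb⁻¹)⁻¹ := by group
        rw [h3, hb'inv, inv_inv]
      rw [this, inv_mul_cancel]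
    have hQr : ¬ r ∣ Nat.card Q := by
      rw [he]
      intro hd
      have := hr.dvd_of_dvd_pow hd
      exact hr2 ((Nat.prime_dvd_prime_iff_eq hr Nat.prime_two).mp this)
    obtain ⟨q, hq, hqc⟩ := exists_conj_eq_of_coprime_coset Q r hQr c c' hoc hoc' hcc
    apply hreal c hc1 (hoc ▸ hrodd)
    rw [isConj_iff]
    refine ⟨t0⁻¹ * q, ?_⟩
    calc t0⁻¹ * q * c * (t0⁻¹ * q)⁻¹ = t0⁻¹ * (q * c * q⁻¹) * t0 := by group
      _ = t0⁻¹ * (t0 * c⁻¹ * t0⁻¹) * t0 := by rw [hqc]
      _ = c⁻¹ := by group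

end

end Cfsg.Agent.Lib.Helper11
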