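/-
helper11: S4861 leaf G2 `frattini_abelian` (planner helper12; frozen signature in
notes/S4861_leaves.lean).  Mathlib only.
-/
import Mathlib
import Cfsg.Agent.Lib.Helper12.RealPDefs

set_option autoImplicit false

namespace Cfsg.Agent.Lib.Helper11.RealP

universe u

variable {G : Type u} [Group G] [Finite G]

/-- a `p`-element of a group of order prime to `p` is trivial. -/
theorem eq_one_of_pgroup_mem_of_not_dvd (p : ℕ) [Fact p.Prime] (M : Subgroup G)
    (hM : ¬ p ∣ Nat.card ↥M) {x : G} (hxM : x ∈ M) {k : ℕ} (hx : x ^ p ^ k = 1) : x = 1 := by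
  have h1 : orderOf x ∣ p ^ k := orderOf_dvd_of_pow_eq_one hx
  have h2 : orderOf x ∣ Nat.card ↥M := by
    have : orderOf (⟨x, hxM⟩ : ↥M) ∣ Nat.card ↥M := orderOf_dvd_natCard _
    rwa [Subgroup.orderOf_mk] at this
  have hcop : Nat.Coprime (p ^ k) (Nat.card ↥M) :=
    Nat.Coprime.pow_left _ ((Nat.Prime.coprime_iff_not_dvd (Fact.out : p.Prime)).mpr hM)
  have h3 : orderOf x ∣ 1 := by
    rw [← Nat.Coprime.gcd_eq_one hcop]
    exact Nat.dvd_gcd h1 h2
  exact orderOf_eq_one_iff.mp (Nat.dvd_one.mp h3)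

/-- `R ∩ M = 1` elementwise. -/
theorem eq_one_of_mem_pgroup_of_mem (p : ℕ) [Fact p.Prime] (M : Subgroup G)
    (hM : ¬ p ∣ Nat.card ↥M) (R : Subgroup G) (hR : IsPGroup p ↥R) {x : G} (hxR : x ∈ R)
    (hxM : x ∈ M) : x = 1 := by
  obtain ⟨k, hk⟩ := hR ⟨x, hxR⟩
  have hk' : x ^ p ^ k = 1 := by
    have := congrArg (fun z : ↥R => (z : G)) hk
    simpa using this
  exact eq_one_of_pgroup_mem_of_not_dvd p M hM hxM hk'

/-- G2: Frattini for `R M ⊴ G`, `M` an abelian normal `p'`-subgroup, `R` a `p`-subgroup. -/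
theorem frattini_abelian (p : ℕ) [Fact p.Prime] (M : Subgroup G) [M.Normal]
    (hab : ∀ a ∈ M, ∀ b ∈ M, a * b = b * a) (hM : ¬ p ∣ Nat.card ↥M)
    (R : Subgroup G) (hR : IsPGroup p ↥R) (hRM : (R ⊔ M).Normal) :
    M ⊔ Subgroup.normalizer (R : Set G) = ⊤ ∧
      (M ⊓ Subgroup.centralizer (R : Set G)).Normal ∧
      M ⊓ Subgroup.normalizer (R : Set G) = M ⊓ Subgroup.centralizer (R : Set G) := by
  classical
  have hMn : M.Normal := inferInstance
  -- (c) first
  have hc : M ⊓ Subgroup.normalizer (R : Set G) = M ⊓ Subgroup.centralizer (R : Set G) := by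
    apply le_antisymm
    · rintro m ⟨hmM, hmN⟩
      refine ⟨hmM, ?_⟩
      show m ∈ Subgroup.centralizer (R : Set G)
      rw [Subgroup.mem_centralizer_iff]
      intro x hx
      have hx' : x ∈ R := hx
      have h1 : m * x * m⁻¹ ∈ R := (Subgroup.mem_normalizer_iff.mp hmN x).mp hx'
      have h2 : m * x * m⁻¹ * x⁻¹ ∈ R := R.mul_mem h1 (R.inv_mem hx')
      have h3 : m * x * m⁻¹ * x⁻¹ ∈ M := by
        have : m * x * m⁻¹ * x⁻¹ = m * (x * m⁻¹ * x⁻¹) := by group
        rw [this]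
        exact M.mul_mem hmM (hMn.conj_mem _ (M.inv_mem hmM) x)
      have h4 := eq_one_of_mem_pgroup_of_mem p M hM R hR h2 h3
      calc x * m = (m * x * m⁻¹ * x⁻¹)⁻¹ * (m * x) := by group
        _ = m * x := by rw [h4]; simp
    · exact inf_le_inf_left _ (Subgroup.centralizer_le_normalizer _)
  -- (a)
  have ha : M ⊔ Subgroup.normalizer (R : Set G) = ⊤ := by
    have hRM' : (R ⊔ M).Normal := hRM
    set N : Subgroup G := R ⊔ M with hN
    have hRN : R ≤ N := le_sup_left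
    have hRp : IsPGroup p ↥(R.subgroupOf N) := by
      intro x
      obtain ⟨k, hk⟩ := hR ⟨((x : ↥N) : G), Subgroup.mem_subgroupOf.mp x.2⟩
      refine ⟨k, ?_⟩
      have := congrArg (fun z : ↥R => (z : G)) hk
      ext
      simpa using this
    obtain ⟨P, hP⟩ := hRp.exists_le_sylow
    have hfr := Sylow.normalizer_sup_eq_top P
    -- the image of P is R
    have hPR : (P : Subgroup ↥N).map N.subtype = R := by
      apply le_antisymm
      · rintro x ⟨y, hy, rfl⟩
        have hyN : (y : G) ∈ R ⊔ M := y.2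
        obtain ⟨r, hr, m, hm, hrm⟩ := Subgroup.mem_sup_of_normal_right.mp hyN
        -- m = r⁻¹ y ∈ P
        have hrN : r ∈ N := hRN hr
        have hrP : (⟨r, hrN⟩ : ↥N) ∈ (P : Subgroup ↥N) := hP (by
          show (⟨r, hrN⟩ : ↥N) ∈ R.subgroupOf N
          rw [Subgroup.mem_subgroupOf]; exact hr)
        have hmN : m ∈ N := (le_sup_right : M ≤ N) hm
        have hmP : (⟨m, hmN⟩ : ↥N) ∈ (P : Subgroup ↥N) := by
          have : (⟨m, hmN⟩ : ↥N) = (⟨r, hrN⟩ : ↥N)⁻¹ * y := by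
            ext; simp [← hrm]
          rw [this]
          exact (P : Subgroup ↥N).mul_mem ((P : Subgroup ↥N).inv_mem hrP) hy
        obtain ⟨k, hk⟩ := P.2 ⟨⟨m, hmN⟩, hmP⟩
        have hk' : m ^ p ^ k = 1 := by
          have := congrArg (fun z : ↥(P : Subgroup ↥N) => ((z : ↥N) : G)) hk
          simpa using this
        have hm1 := eq_one_of_pgroup_mem_of_not_dvd p M hM hm hk'
        have : (N.subtype y) = r := by
          simp [← hrm, hm1]
        rw [this]; exact hr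
      · intro r hr
        refine ⟨⟨r, hRN hr⟩, hP ?_, rfl⟩
        show (⟨r, hRN hr⟩ : ↥N) ∈ R.subgroupOf N
        rw [Subgroup.mem_subgroupOf]; exact hr
    rw [hPR] at hfr
    -- normalizer R ⊔ (R ⊔ M) = ⊤
    rw [eq_top_iff]
    rw [← hfr]
    apply sup_le
    · exact le_sup_right
    · apply sup_le
      · exact le_trans Subgroup.le_normalizer le_sup_right
      · exact le_sup_left
  refine ⟨ha, ?_, hc⟩
  -- (b)
  constructor
  intro n hn g
  have hg : g ∈ M ⊔ Subgroup.normalizer (R : Set G) := by rw [ha]; trivial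
  obtain ⟨m, hm, h, hh, rfl⟩ := Subgroup.mem_sup_of_normal_left.mp hg
  obtain ⟨hnM, hnC⟩ := hn
  have hnC' : n ∈ Subgroup.centralizer (R : Set G) := hnC
  have h1M : h * n * h⁻¹ ∈ M := hMn.conj_mem n hnM h
  have h1C : h * n * h⁻¹ ∈ Subgroup.centralizer (R : Set G) := by
    rw [Subgroup.mem_centralizer_iff]
    intro x hx
    have hx' : x ∈ R := hx
    have hxR : h⁻¹ * x * h ∈ R := (Subgroup.mem_normalizer_iff''.mp hh x).mp hx'
    have hcomm := (Subgroup.mem_centralizer_iff.mp hnC') (h⁻¹ * x * h) hxR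
    calc x * (h * n * h⁻¹) = h * ((h⁻¹ * x * h) * n) * h⁻¹ := by group
      _ = h * (n * (h⁻¹ * x * h)) * h⁻¹ := by rw [hcomm]
      _ = h * n * h⁻¹ * x := by group
  have h2 : m * h * n * (m * h)⁻¹ = h * n * h⁻¹ := by
    have : m * h * n * (m * h)⁻¹ = m * (h * n * h⁻¹) * m⁻¹ := by group
    rw [this, hab m hm _ h1M]
    group
  rw [h2]
  exact ⟨h1M, h1C⟩

end Cfsg.Agent.Lib.Helper11.RealP
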