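/-
helper11: S4861 leaves G4 `hom_eq_one_of_fixed` (norm trick) + G5 `exists_real_hom_of_two_group`
(planner helper12; frozen signatures in notes/S4861_leaves.lean).  Mathlib only.
-/
import Mathlib
import Cfsg.Agent.Lib.Helper12.RealPDefs

set_option autoImplicit false

namespace Cfsg.Agent.Lib.Helper11.RealP

universe u

variable {G : Type u} [Group G] [Finite G]

/-- G4: `C_M(R) = 1`, `R` a `p`-group, `M` an abelian normal `p'`-group: no nontrivial linear
character of `M` is `R`-invariant. -/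
theorem hom_eq_one_of_fixed (p : ℕ) [Fact p.Prime] (M : Subgroup G) [hM : M.Normal]
    (hab : ∀ a ∈ M, ∀ b ∈ M, a * b = b * a) (hMp : ¬ p ∣ Nat.card ↥M)
    (R : Subgroup G) (hR : IsPGroup p ↥R) (hC : M ⊓ Subgroup.centralizer (R : Set G) = ⊥)
    (lam : ↥M →* ℂˣ)
    (hfix : ∀ x ∈ R, ∀ m : ↥M, lam ⟨x * m * x⁻¹, hM.conj_mem m m.2 x⟩ = lam m) : lam = 1 := by
  classical
  haveI : Fintype ↥R := Fintype.ofFinite _
  letI cM : CommGroup ↥M :=
    { (inferInstance : Group ↥M) with
      mul_comm := fun a b => Subtype.ext (hab a a.2 b b.2) }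
  -- conjugation by `x` as an endomorphism of `M`
  let cj : G → (↥M →* ↥M) := fun x =>
    { toFun := fun m => ⟨x * m * x⁻¹, hM.conj_mem m m.2 x⟩
      map_one' := by ext; simp
      map_mul' := by intro a b; ext; simp }
  have hcj_mul : ∀ x y : G, ∀ m : ↥M, cj x (cj y m) = cj (x * y) m := by
    intro x y m; ext; simp [cj, mul_assoc]
  -- the norm
  let Nm : ↥M → ↥M := fun m => ∏ x : ↥R, cj (x : G) m
  have hNfix : ∀ (y : ↥R) (m : ↥M), cj (y : G) (Nm m) = Nm m := by
    intro y m
    show cj (y : G) (∏ x : ↥R, cj (x : G) m) = ∏ x : ↥R, cj (x : G) m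
    rw [map_prod]
    have : ∀ x : ↥R, cj (y : G) (cj (x : G) m) = cj (((y * x : ↥R) : ↥R) : G) m := by
      intro x; rw [hcj_mul]; rfl
    simp_rw [this]
    exact Fintype.prod_equiv (Equiv.mulLeft y) _ _ (fun x => rfl)
  have hN1 : ∀ m : ↥M, Nm m = 1 := by
    intro m
    have hmem : ((Nm m : ↥M) : G) ∈ M ⊓ Subgroup.centralizer (R : Set G) := by
      refine ⟨(Nm m).2, ?_⟩
      show ((Nm m : ↥M) : G) ∈ Subgroup.centralizer (R : Set G)
      rw [Subgroup.mem_centralizer_iff]
      intro y hy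
      have h := congrArg (fun z : ↥M => (z : G)) (hNfix ⟨y, hy⟩ m)
      simp only [cj, MonoidHom.coe_mk, OneHom.coe_mk] at h
      calc y * (Nm m : G) = (y * (Nm m : G) * y⁻¹) * y := by group
        _ = (Nm m : G) * y := by rw [h]
    rw [hC, Subgroup.mem_bot] at hmem
    exact Subtype.ext hmem
  have hlamN : ∀ m : ↥M, lam (Nm m) = lam m ^ Fintype.card ↥R := by
    intro m
    show lam (∏ x : ↥R, cj (x : G) m) = _
    rw [map_prod]
    have : ∀ x : ↥R, lam (cj (x : G) m) = lam m := fun x => hfix x x.2 m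
    simp_rw [this]
    simp
  obtain ⟨k, hk⟩ := hR.exists_card_eq
  have hcop : Nat.Coprime (Fintype.card ↥R) (Nat.card ↥M) := by
    rw [← Nat.card_eq_fintype_card, hk]
    exact Nat.Coprime.pow_left _
      ((Nat.Prime.coprime_iff_not_dvd (Fact.out : p.Prime)).mpr hMp)
  ext m
  have h1 : lam m ^ Fintype.card ↥R = 1 := by rw [← hlamN, hN1, map_one]
  have h2 : lam m ^ Nat.card ↥M = 1 := by
    rw [← map_pow, pow_card_eq_one', map_one]
  have h3 : orderOf (lam m) ∣ 1 := by
    rw [← Nat.Coprime.gcd_eq_one hcop]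
    exact Nat.dvd_gcd (orderOf_dvd_of_pow_eq_one h1) (orderOf_dvd_of_pow_eq_one h2)
  have h4 : lam m = 1 := orderOf_eq_one_iff.mp (Nat.dvd_one.mp h3)
  simp [h4]

theorem eq_one_or_neg_one_of_sq_eq_one {z : ℂ} (h : z ^ 2 = 1) : z = 1 ∨ z = -1 := by
  have : (z - 1) * (z + 1) = 0 := by ring_nf; rw [h]; ring
  rcases mul_eq_zero.mp this with h | h
  · left; linear_combination h
  · right; linear_combination h

/-- G5: a nontrivial finite abelian `2`-group has a nontrivial real-valued linear character. -/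
theorem exists_real_hom_of_two_group {A : Type u} [CommGroup A] [Finite A] (h2 : IsPGroup 2 A)
    (hA : Nontrivial A) :
    ∃ lam : A →* ℂˣ, lam ≠ 1 ∧ ∀ a : A, ((lam a : ℂˣ) : ℂ).im = 0 := by
  classical
  -- the subgroup of squares is proper
  let S : Subgroup A := (powMonoidHom 2 : A →* A).range
  have hS : S ≠ ⊤ := by
    intro htop
    have hsurj : Function.Surjective (powMonoidHom 2 : A →* A) :=
      MonoidHom.range_eq_top.mp htop
    have hinj : Function.Injective (powMonoidHom 2 : A →* A) :=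
      Finite.injective_iff_surjective.mpr hsurj
    -- an element of order 2
    haveI : Fact (Nat.Prime 2) := ⟨Nat.prime_two⟩
    haveI : Fintype A := Fintype.ofFinite A
    have hdvd : 2 ∣ Fintype.card A := by
      obtain ⟨k, hk⟩ := h2.exists_card_eq
      rw [Nat.card_eq_fintype_card] at hk
      have hk0 : k ≠ 0 := by
        rintro rfl
        have : Fintype.card A = 1 := by simpa using hk
        have := Fintype.card_le_one_iff_subsingleton.mp this.le
        exact not_nontrivial A hA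
      rw [hk]
      exact dvd_pow_self 2 hk0
    obtain ⟨x, hx⟩ := exists_prime_orderOf_dvd_card 2 hdvd
    have hx2 : x ^ 2 = 1 := by rw [← hx]; exact pow_orderOf_eq_one x
    have : x = 1 := hinj (by simp [powMonoidHom_apply, hx2])
    rw [this, orderOf_one] at hx
    omega
  -- a nontrivial character of the quotient
  obtain ⟨b, hb⟩ : ∃ b : A ⧸ S, b ≠ 1 := by
    by_contra hcon
    push_neg at hcon
    apply hS
    rw [eq_top_iff]
    intro a _
    have := hcon (a : A ⧸ S)
    exact (QuotientGroup.eq_one_iff a).mp this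
  obtain ⟨φ, hφ⟩ := CommGroup.exists_apply_ne_one_of_hasEnoughRootsOfUnity (A ⧸ S) ℂ hb
  refine ⟨φ.comp (QuotientGroup.mk' S), ?_, ?_⟩
  · intro h1
    obtain ⟨a, rfl⟩ := QuotientGroup.mk_surjective b
    apply hφ
    have := DFunLike.congr_fun h1 a
    simpa using this
  · intro a
    have hsq : (φ.comp (QuotientGroup.mk' S)) a ^ 2 = 1 := by
      rw [← map_pow]
      have : (a ^ 2 : A) ∈ S := ⟨a, rfl⟩
      simp only [MonoidHom.coe_comp, QuotientGroup.coe_mk', Function.comp_apply]
      rw [(QuotientGroup.eq_one_iff (a ^ 2)).mpr this, map_one]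
    set z : ℂˣ := (φ.comp (QuotientGroup.mk' S)) a with hz
    have hz2 : ((z : ℂˣ) : ℂ) ^ 2 = 1 := by
      have := congrArg (fun u : ℂˣ => (u : ℂ)) hsq
      simpa using this
    have : ((z : ℂˣ) : ℂ) = 1 ∨ ((z : ℂˣ) : ℂ) = -1 := eq_one_or_neg_one_of_sq_eq_one hz2
    rcases this with h | h <;> simp [h]

end Cfsg.Agent.Lib.Helper11.RealP
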