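/-
helper11: S4861 leaf G5 in SUBGROUP form (helper12's msg 6053): a nontrivial abelian `2`-subgroup
has a nontrivial real-valued linear character.
-/
import Mathlib
import Cfsg.Agent.Lib.Helper11.RealPG45

set_option autoImplicit false

namespace Cfsg.Agent.Lib.Helper11.RealP5

universe u

variable {G : Type u} [Group G] [Finite G]

/-- G5 (subgroup form). -/
theorem exists_real_hom_of_two_group (M : Subgroup G) (hab : ∀ a ∈ M, ∀ b ∈ M, a * b = b * a)
    (h2 : IsPGroup 2 ↥M) (hM : M ≠ ⊥) :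
    ∃ lam : ↥M →* ℂˣ, lam ≠ 1 ∧ ∀ m : ↥M, ((lam m : ℂˣ) : ℂ).im = 0 := by
  classical
  letI cM : CommGroup ↥M :=
    { (inferInstance : Group ↥M) with
      mul_comm := fun a b => Subtype.ext (hab a a.2 b b.2) }
  have hnt : Nontrivial ↥M := by
    rw [Subgroup.nontrivial_iff_ne_bot]
    exact hM
  have h2' : @IsPGroup 2 ↥M cM.toGroup := h2
  obtain ⟨lam, hlam, hreal⟩ :=
    @Cfsg.Agent.Lib.Helper11.RealP.exists_real_hom_of_two_group ↥M cM inferInstance h2' hnt
  refine ⟨lam, ?_, hreal⟩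
  intro h
  apply hlam
  ext m
  have := DFunLike.congr_fun h m
  simpa using this

end Cfsg.Agent.Lib.Helper11.RealP5
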