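/-
helper11: S4861 R1 sub-leaf (B) `exists_extension_sup` (owner of R1: helper25; frozen signature in
notes/S4861_R1_subleaves.lean).  Mathlib + helper25 `RealPExt.exists_hom_extension`.
-/
import Mathlib
import Cfsg.Agent.Lib.Helper25.RealPExt

set_option autoImplicit false

namespace Cfsg.Agent.Lib.Helper11.RealP

universe u

open scoped Pointwise

/-- an element of odd order and 2-power order is trivial. -/
theorem eq_one_of_odd_of_two_group {G : Type u} [Group G] [Finite G] (V S₀ : Subgroup G)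
    (hVodd : Odd (Nat.card V)) (hS : IsPGroup 2 ↥S₀) {x : G} (hxV : x ∈ V) (hxS : x ∈ S₀) :
    x = 1 := by
  obtain ⟨k, hk⟩ := hS ⟨x, hxS⟩
  have hk' : x ^ 2 ^ k = 1 := by
    have := congrArg (fun z : ↥S₀ => (z : G)) hk
    simpa using this
  have h1 : orderOf x ∣ 2 ^ k := orderOf_dvd_of_pow_eq_one hk'
  have h2 : orderOf x ∣ Nat.card ↥V := by
    have : orderOf (⟨x, hxV⟩ : ↥V) ∣ Nat.card ↥V := orderOf_dvd_natCard _
    rwa [Subgroup.orderOf_mk] at this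
  have hcop : Nat.Coprime (2 ^ k) (Nat.card ↥V) :=
    Nat.Coprime.pow_left _ (Nat.coprime_two_left.mpr hVodd)
  have h3 : orderOf x ∣ 1 := by
    rw [← Nat.Coprime.gcd_eq_one hcop]
    exact Nat.dvd_gcd h1 h2
  exact orderOf_eq_one_iff.mp (Nat.dvd_one.mp h3)

/-- (B): `V ⊴ G` of odd order, `S₀` a `2`-subgroup fixing the linear character `lam` of `V`:
`lam` extends to `V ⊔ S₀`, trivially on `S₀`. -/
theorem exists_extension_sup {G : Type u} [Group G] [Finite G] (V : Subgroup G) [hV : V.Normal]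
    (hVodd : Odd (Nat.card V)) (S₀ : Subgroup G) (hS : IsPGroup 2 ↥S₀) (lam : V →* ℂˣ)
    (hfix : ∀ s ∈ S₀, ∀ v : V, lam ⟨s * v * s⁻¹, hV.conj_mem v v.2 s⟩ = lam v) :
    ∃ lam₀ : ↥(V ⊔ S₀) →* ℂˣ,
      (∀ (v : G) (hv : v ∈ V), lam₀ ⟨v, (le_sup_left : V ≤ V ⊔ S₀) hv⟩ = lam ⟨v, hv⟩) ∧
      ∀ (s : G) (hs : s ∈ S₀), lam₀ ⟨s, (le_sup_right : S₀ ≤ V ⊔ S₀) hs⟩ = 1 := by
  classical
  have hVle : V ≤ V ⊔ S₀ := le_sup_left
  have hSle : S₀ ≤ V ⊔ S₀ := le_sup_right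
  let K : Subgroup ↥(V ⊔ S₀) := V.subgroupOf (V ⊔ S₀)
  let H : Subgroup ↥(V ⊔ S₀) := S₀.subgroupOf (V ⊔ S₀)
  haveI hK : K.Normal := by
    constructor
    intro n hn g
    show (g * n * g⁻¹ : ↥(V ⊔ S₀)) ∈ V.subgroupOf (V ⊔ S₀)
    rw [Subgroup.mem_subgroupOf]
    have hn' : ((n : ↥(V ⊔ S₀)) : G) ∈ V := Subgroup.mem_subgroupOf.mp hn
    simpa using hV.conj_mem _ hn' (g : G)
  have hdisj : Disjoint K H := by
    rw [Subgroup.disjoint_def]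
    intro x hxK hxH
    have h1 : ((x : ↥(V ⊔ S₀)) : G) ∈ V := Subgroup.mem_subgroupOf.mp hxK
    have h2 : ((x : ↥(V ⊔ S₀)) : G) ∈ S₀ := Subgroup.mem_subgroupOf.mp hxH
    have := eq_one_of_odd_of_two_group V S₀ hVodd hS h1 h2
    exact Subtype.ext this
  have hmul : (K : Set ↥(V ⊔ S₀)) * (H : Set ↥(V ⊔ S₀)) = Set.univ := by
    rw [Set.eq_univ_iff_forall]
    intro w
    obtain ⟨v, hv, s, hs, hvs⟩ := Subgroup.mem_sup_of_normal_left.mp w.2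
    refine ⟨⟨v, hVle hv⟩, ?_, ⟨s, hSle hs⟩, ?_, ?_⟩
    · show (⟨v, hVle hv⟩ : ↥(V ⊔ S₀)) ∈ V.subgroupOf (V ⊔ S₀)
      rw [Subgroup.mem_subgroupOf]; exact hv
    · show (⟨s, hSle hs⟩ : ↥(V ⊔ S₀)) ∈ S₀.subgroupOf (V ⊔ S₀)
      rw [Subgroup.mem_subgroupOf]; exact hs
    · exact Subtype.ext hvs
  have hc : Subgroup.IsComplement' K H :=
    Subgroup.isComplement'_of_disjoint_and_mul_eq_univ hdisj hmul
  let lam' : ↥K →* ℂˣ := lam.comp (Subgroup.subgroupOfEquivOfLe hVle).toMonoidHom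
  have hinv : ∀ h ∈ H, ∀ k : ↥K, lam' ⟨h * k * h⁻¹, hK.conj_mem k k.2 h⟩ = lam' k := by
    intro h hh k
    have hs : ((h : ↥(V ⊔ S₀)) : G) ∈ S₀ := Subgroup.mem_subgroupOf.mp hh
    have hkV : (((k : ↥(V ⊔ S₀))) : G) ∈ V := Subgroup.mem_subgroupOf.mp k.2
    have := hfix (h : G) hs ⟨((k : ↥(V ⊔ S₀)) : G), hkV⟩
    show lam ((Subgroup.subgroupOfEquivOfLe hVle) ⟨h * k * h⁻¹, hK.conj_mem k k.2 h⟩)
      = lam ((Subgroup.subgroupOfEquivOfLe hVle) k)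
    have e1 : (Subgroup.subgroupOfEquivOfLe hVle) ⟨h * k * h⁻¹, hK.conj_mem k k.2 h⟩
        = ⟨(h : G) * ((k : ↥(V ⊔ S₀)) : G) * (h : G)⁻¹, hV.conj_mem _ hkV _⟩ :=
      Subtype.ext rfl
    have e2 : (Subgroup.subgroupOfEquivOfLe hVle) k = ⟨((k : ↥(V ⊔ S₀)) : G), hkV⟩ :=
      Subtype.ext rfl
    rw [e1, e2]
    exact this
  obtain ⟨lam₀, h1, h2⟩ := Cfsg.Agent.Lib.Helper25.RealP.exists_hom_extension K H hc lam' hinv
  refine ⟨lam₀, ?_, ?_⟩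
  · intro v hv
    have hmem : (⟨v, hVle hv⟩ : ↥(V ⊔ S₀)) ∈ K := by
      show (⟨v, hVle hv⟩ : ↥(V ⊔ S₀)) ∈ V.subgroupOf (V ⊔ S₀)
      rw [Subgroup.mem_subgroupOf]; exact hv
    have := h1 ⟨⟨v, hVle hv⟩, hmem⟩
    rw [this]
    rfl
  · intro s hs
    apply h2
    show (⟨s, hSle hs⟩ : ↥(V ⊔ S₀)) ∈ S₀.subgroupOf (V ⊔ S₀)
    rw [Subgroup.mem_subgroupOf]; exact hs

end Cfsg.Agent.Lib.Helper11.RealP
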