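import Cfsg.Agent.Lib.Helper7.ChevUp
import Cfsg.Agent.Lib.Helper11.IsogG2

/-! Commutator relations in the unipotent groups `U`, `V` of `G₂(K)` in characteristic 3 (helper11). -/

set_option autoImplicit false
set_option linter.unusedSectionVars false
set_option linter.unusedSimpArgs false

namespace Cfsg.Agent.Lib.Helper11.Ree

open Cfsg Cfsg.Lie Matrix Cfsg.Agent.Lib.Helper7 Cfsg.Agent.Lib.Helper11 Cfsg.Agent.Lib.Helper11.Isog

section
variable (K : Type*) [Field K] [CharP K 3]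

local notation "X" => xGL chevG2 g2_mem K

theorem three_eq_zero : (3 : K) = 0 := by
  have : ((3 : ℕ) : K) = 0 := (CharP.cast_eq_zero_iff K 3 3).mpr (dvd_refl 3)
  exact_mod_cast this

/-- root elements commute when all the constants of the commutator formula vanish in `K` -/
theorem comm_of_terms (r s : ℕ) (hr : r < 12) (hs : s < 12) (hsr : s ≠ r) (hsn : s ≠ chevG2.neg r)
    (h : ∀ c ∈ chevG2.commTerms r s, ((c.2.1 : ℤ) : K) = 0) (a b : K) :
    X s b * X r a = X r a * X s b := by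
  have h1 := comm_formula_GL chevG2 g2_mem K r s hr hs hsr hsn a b
  have h2 : wordGL chevG2 g2_mem K (chevG2.commWord K r s a b) = 1 := by
    unfold ChevalleyDatum.commWord wordGL
    rw [List.map_map]
    apply List.prod_eq_one
    intro x hx
    rw [List.mem_map] at hx
    obtain ⟨c, hc, rfl⟩ := hx
    simp only [Function.comp]
    rw [h c hc, zero_mul, zero_mul, xGL_zero]
  rw [h1, h2, mul_one]

theorem comm_of_dvd (r s : ℕ) (hr : r < 12) (hs : s < 12) (hsr : s ≠ r) (hsn : s ≠ chevG2.neg r)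
    (h : ∀ c ∈ chevG2.commTerms r s, (3 : ℤ) ∣ c.2.1) (a b : K) :
    X s b * X r a = X r a * X s b := by
  apply comm_of_terms K r s hr hs hsr hsn
  intro c hc
  exact (CharP.intCast_eq_zero_iff K 3 _).mpr (by exact_mod_cast h c hc)

theorem comm_table_pos : ∀ r ∈ [8, 9, 10, 11], ∀ s ∈ [8, 9, 10, 11], s ≠ r →
    s ≠ chevG2.neg r ∧ ∀ c ∈ chevG2.commTerms r s, (3 : ℤ) ∣ c.2.1 := by decide +kernel

theorem comm_table_neg : ∀ r ∈ [0, 1, 2, 3], ∀ s ∈ [0, 1, 2, 3], s ≠ r →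
    s ≠ chevG2.neg r ∧ ∀ c ∈ chevG2.commTerms r s, (3 : ℤ) ∣ c.2.1 := by decide +kernel

/-- the root groups of `a+b, 2a+b, 3a+b, 3a+2b` commute pairwise in characteristic 3 -/
theorem comm_pos (r s : ℕ) (hr : r ∈ [8, 9, 10, 11]) (hs : s ∈ [8, 9, 10, 11]) (hsr : s ≠ r) (a b : K) :
    X s b * X r a = X r a * X s b := by
  have h := comm_table_pos r hr s hs hsr
  have hr' : r < 12 := by simp at hr; omega
  have hs' : s < 12 := by simp at hs; omega
  exact comm_of_dvd K r s hr' hs' hsr h.1 h.2 a b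

/-- the same for the negative roots -/
theorem comm_neg (r s : ℕ) (hr : r ∈ [0, 1, 2, 3]) (hs : s ∈ [0, 1, 2, 3]) (hsr : s ≠ r) (a b : K) :
    X s b * X r a = X r a * X s b := by
  have h := comm_table_neg r hr s hs hsr
  have hr' : r < 12 := by simp at hr; omega
  have hs' : s < 12 := by simp at hs; omega
  exact comm_of_dvd K r s hr' hs' hsr h.1 h.2 a b

theorem word4_congr {G : Type*} [Group G] (A : G) (f₁ f₂ f₃ f₄ : K → G) (c₁ c₂ c₃ c₄ d₁ d₂ d₃ d₄ : K)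
    (h₁ : c₁ = d₁) (h₂ : c₂ = d₂) (h₃ : c₃ = d₃) (h₄ : c₄ = d₄) :
    A * (f₁ c₁ * (f₂ c₂ * (f₃ c₃ * f₄ c₄))) = A * f₁ d₁ * f₂ d₂ * f₃ d₃ * f₄ d₄ := by
  subst h₁ h₂ h₃ h₄
  simp only [mul_assoc]

/-- `x_b(u) x_a(t) = x_a(t) x_b(u) x_{a+b}(tu) x_{2a+b}(t²u) x_{3a+b}(-t³u) x_{3a+2b}(-t³u²)` -/
theorem comm_ba (t u : K) :
    X 6 u * X 7 t = X 7 t * X 6 u * X 8 (t * u) * X 9 (t ^ 2 * u) * X 10 (-(t ^ 3 * u)) * X 11 (-(t ^ 3 * u ^ 2)) := by
  have h1 := comm_formula_GL chevG2 g2_mem K 7 6 (by decide) (by decide) (by decide) (by decide) t u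
  have h2 : chevG2.commTerms 7 6 = [(8, -1, 1, 1), (9, 1, 2, 1), (10, 1, 3, 1), (11, 1, 3, 2)] := by
    decide +kernel
  rw [h1]
  unfold ChevalleyDatum.commWord wordGL
  rw [h2]
  simp only [List.map_cons, List.map_nil, List.prod_cons, List.prod_nil, mul_one]
  apply word4_congr <;> (push_cast; ring)

/-- `x_{-b}(u) x_{-a}(t) = x_{-a}(t) x_{-b}(u) x_{-a-b}(-tu) x_{-2a-b}(t²u) x_{-3a-b}(t³u) x_{-3a-2b}(-t³u²)` -/
theorem comm_ba_neg (t u : K) :
    X 5 u * X 4 t = X 4 t * X 5 u * X 3 (-(t * u)) * X 2 (t ^ 2 * u) * X 1 (t ^ 3 * u) * X 0 (-(t ^ 3 * u ^ 2)) := by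
  have h1 := comm_formula_GL chevG2 g2_mem K 4 5 (by decide) (by decide) (by decide) (by decide) t u
  have h2 : chevG2.commTerms 4 5 = [(3, 1, 1, 1), (2, 1, 2, 1), (1, -1, 3, 1), (0, 1, 3, 2)] := by
    decide +kernel
  rw [h1]
  unfold ChevalleyDatum.commWord wordGL
  rw [h2]
  simp only [List.map_cons, List.map_nil, List.prod_cons, List.prod_nil, mul_one]
  apply word4_congr <;> (push_cast; ring)

theorem word6_congr {G : Type*} [Group G] (A B : G) (f₁ f₂ f₃ f₄ : K → G) (c₁ c₂ c₃ c₄ d₁ d₂ d₃ d₄ : K)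
    (h₁ : c₁ = d₁) (h₂ : c₂ = d₂) (h₃ : c₃ = d₃) (h₄ : c₄ = d₄) :
    A * (B * (f₁ c₁ * (f₂ c₂ * (f₃ c₃ * f₄ c₄)))) = A * (B * (f₁ d₁ * (f₂ d₂ * (f₃ d₃ * f₄ d₄)))) := by
  subst h₁ h₂ h₃ h₄
  rfl

theorem X_mul (r : ℕ) (a b : K) : X r a * X r b = X r (a + b) := xGL_mul chevG2 g2_mem K r a b

theorem X_mul' (r : ℕ) (a b : K) (z : GL chevG2.Idx K) : X r a * (X r b * z) = X r (a + b) * z := by
  rw [← mul_assoc, X_mul]

/-- reordering in `U`:
`x_b(s₁) x_a(s₂) x_{3a+b}(s₃) x_{3a+2b}(s₄) x_{a+b}(s₅) x_{2a+b}(s₆)` in the standard order -/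
theorem reorder_pos (s₁ s₂ s₃ s₄ s₅ s₆ : K) :
    X 6 s₁ * X 7 s₂ * X 10 s₃ * X 11 s₄ * X 8 s₅ * X 9 s₆ =
      X 7 s₂ * X 6 s₁ * X 8 (s₅ + s₁ * s₂) * X 9 (s₆ + s₁ * s₂ ^ 2) * X 10 (s₃ - s₁ * s₂ ^ 3) *
        X 11 (s₄ - s₁ ^ 2 * s₂ ^ 3) := by
  have h98 : ∀ a b : K, X 9 a * X 8 b = X 8 b * X 9 a :=
    fun a b => comm_pos K 8 9 (by decide) (by decide) (by decide) b a
  have h108 : ∀ a b : K, X 10 a * X 8 b = X 8 b * X 10 a :=
    fun a b => comm_pos K 8 10 (by decide) (by decide) (by decide) b a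
  have h118 : ∀ a b : K, X 11 a * X 8 b = X 8 b * X 11 a :=
    fun a b => comm_pos K 8 11 (by decide) (by decide) (by decide) b a
  have h109 : ∀ a b : K, X 10 a * X 9 b = X 9 b * X 10 a :=
    fun a b => comm_pos K 9 10 (by decide) (by decide) (by decide) b a
  have h119 : ∀ a b : K, X 11 a * X 9 b = X 9 b * X 11 a :=
    fun a b => comm_pos K 9 11 (by decide) (by decide) (by decide) b a
  have h1110 : ∀ a b : K, X 11 a * X 10 b = X 10 b * X 11 a :=
    fun a b => comm_pos K 10 11 (by decide) (by decide) (by decide) b a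
  have h98' : ∀ (a b : K) (z : GL chevG2.Idx K), X 9 a * (X 8 b * z) = X 8 b * (X 9 a * z) :=
    fun a b z => by rw [← mul_assoc, h98, mul_assoc]
  have h108' : ∀ (a b : K) (z : GL chevG2.Idx K), X 10 a * (X 8 b * z) = X 8 b * (X 10 a * z) :=
    fun a b z => by rw [← mul_assoc, h108, mul_assoc]
  have h118' : ∀ (a b : K) (z : GL chevG2.Idx K), X 11 a * (X 8 b * z) = X 8 b * (X 11 a * z) :=
    fun a b z => by rw [← mul_assoc, h118, mul_assoc]
  have h109' : ∀ (a b : K) (z : GL chevG2.Idx K), X 10 a * (X 9 b * z) = X 9 b * (X 10 a * z) :=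
    fun a b z => by rw [← mul_assoc, h109, mul_assoc]
  have h119' : ∀ (a b : K) (z : GL chevG2.Idx K), X 11 a * (X 9 b * z) = X 9 b * (X 11 a * z) :=
    fun a b z => by rw [← mul_assoc, h119, mul_assoc]
  have h1110' : ∀ (a b : K) (z : GL chevG2.Idx K), X 11 a * (X 10 b * z) = X 10 b * (X 11 a * z) :=
    fun a b z => by rw [← mul_assoc, h1110, mul_assoc]
  rw [comm_ba]
  simp only [mul_assoc, h98, h108, h118, h109, h119, h1110, h98', h108', h118', h109', h119', h1110',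
    X_mul, X_mul']
  apply word6_congr <;> ring

/-- reordering in `V` -/
theorem reorder_neg (s₁ s₂ s₃ s₄ s₅ s₆ : K) :
    X 5 s₁ * X 4 s₂ * X 1 s₃ * X 0 s₄ * X 3 s₅ * X 2 s₆ =
      X 4 s₂ * X 5 s₁ * X 3 (s₅ - s₁ * s₂) * X 2 (s₆ + s₁ * s₂ ^ 2) * X 1 (s₃ + s₁ * s₂ ^ 3) *
        X 0 (s₄ - s₁ ^ 2 * s₂ ^ 3) := by
  have h23 : ∀ a b : K, X 2 a * X 3 b = X 3 b * X 2 a :=
    fun a b => comm_neg K 3 2 (by decide) (by decide) (by decide) b a
  have h13 : ∀ a b : K, X 1 a * X 3 b = X 3 b * X 1 a :=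
    fun a b => comm_neg K 3 1 (by decide) (by decide) (by decide) b a
  have h03 : ∀ a b : K, X 0 a * X 3 b = X 3 b * X 0 a :=
    fun a b => comm_neg K 3 0 (by decide) (by decide) (by decide) b a
  have h12 : ∀ a b : K, X 1 a * X 2 b = X 2 b * X 1 a :=
    fun a b => comm_neg K 2 1 (by decide) (by decide) (by decide) b a
  have h02 : ∀ a b : K, X 0 a * X 2 b = X 2 b * X 0 a :=
    fun a b => comm_neg K 2 0 (by decide) (by decide) (by decide) b a
  have h01 : ∀ a b : K, X 0 a * X 1 b = X 1 b * X 0 a :=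
    fun a b => comm_neg K 1 0 (by decide) (by decide) (by decide) b a
  have h23' : ∀ (a b : K) (z : GL chevG2.Idx K), X 2 a * (X 3 b * z) = X 3 b * (X 2 a * z) :=
    fun a b z => by rw [← mul_assoc, h23, mul_assoc]
  have h13' : ∀ (a b : K) (z : GL chevG2.Idx K), X 1 a * (X 3 b * z) = X 3 b * (X 1 a * z) :=
    fun a b z => by rw [← mul_assoc, h13, mul_assoc]
  have h03' : ∀ (a b : K) (z : GL chevG2.Idx K), X 0 a * (X 3 b * z) = X 3 b * (X 0 a * z) :=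
    fun a b z => by rw [← mul_assoc, h03, mul_assoc]
  have h12' : ∀ (a b : K) (z : GL chevG2.Idx K), X 1 a * (X 2 b * z) = X 2 b * (X 1 a * z) :=
    fun a b z => by rw [← mul_assoc, h12, mul_assoc]
  have h02' : ∀ (a b : K) (z : GL chevG2.Idx K), X 0 a * (X 2 b * z) = X 2 b * (X 0 a * z) :=
    fun a b z => by rw [← mul_assoc, h02, mul_assoc]
  have h01' : ∀ (a b : K) (z : GL chevG2.Idx K), X 0 a * (X 1 b * z) = X 1 b * (X 0 a * z) :=
    fun a b z => by rw [← mul_assoc, h01, mul_assoc]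
  rw [comm_ba_neg]
  simp only [mul_assoc, h23, h13, h03, h12, h02, h01, h23', h13', h03', h12', h02', h01',
    X_mul, X_mul']
  apply word6_congr <;> ring

end

end Cfsg.Agent.Lib.Helper11.Ree
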