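import Cfsg.Agent.Lib.Helper11.ReeSigma
import Cfsg.Agent.Lib.Helper11.ReeComm
import Cfsg.Agent.Lib.Helper7.ChevOrdA

/-! The `σ`-fixed elements of `U` in `G₂(K)`: they are exactly the Ree words (helper11). -/

set_option autoImplicit false
set_option linter.unusedSectionVars false
set_option linter.unusedSimpArgs false

namespace Cfsg.Agent.Lib.Helper11.Ree

open Cfsg Cfsg.Lie Matrix Cfsg.Agent.Lib.Helper7 Cfsg.Agent.Lib.Helper11 Cfsg.Agent.Lib.Helper11.Isog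

/-- the functional ordering the positive roots as `a, b, a+b, 2a+b, 3a+b, 3a+2b` -/
def reeA : ℕ → ℤ := linF chevG2 [7, 12]

/-- the positive roots in the order of the Ree words -/
def reeL : List ℕ := [7, 6, 8, 9, 10, 11]

theorem reeA_chainAdd : ChainAdd chevG2 reeA := chainAdd_linF chevG2 g2_mem [7, 12]

theorem reeA_pos_aux : ∀ r < 12, chevG2.IsPosRoot r → 0 < reeA r := by decide +kernel

theorem reeA_posFacts : PosFacts chevG2 reeA where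
  pos := fun r hr => reeA_pos_aux r hr.1 hr
  prim := (ordFacts_of_ordOKB _ _ ordOKB_G2).prim

theorem reeL_iff_aux : ∀ r < 12, (r ∈ reeL ↔ chevG2.IsPosRoot r) := by decide +kernel

theorem reeL_iff (r : ℕ) : r ∈ reeL ↔ chevG2.IsPosRoot r := by
  by_cases hr : r < 12
  · exact reeL_iff_aux r hr
  · constructor
    · intro h
      exfalso
      have : r < 12 := by
        simp [reeL] at h
        omega
      exact hr this
    · intro h
      exact absurd h.1 hr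

theorem reeL_good : GoodLA chevG2 reeA reeL where
  sorted := by decide +kernel
  pos := fun r hr => (reeL_iff r).mp hr
  up := fun r _ s hs _ => (reeL_iff s).mpr hs

section
variable (K : Type*) [Field K] [CharP K 3]

local notation "X" => xGL chevG2 g2_mem K

theorem ordProd_reeL (c : ℕ → K) :
    ordProd chevG2 g2_mem K reeL c = X 7 (c 7) * X 6 (c 6) * X 8 (c 8) * X 9 (c 9) * X 10 (c 10) * X 11 (c 11) := by
  unfold ordProd wordGL reeL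
  simp only [List.map_cons, List.map_nil, List.prod_cons, List.prod_nil, mul_one, mul_assoc]

/-- every element of `U` is an ordered product along `reeL` -/
theorem exists_ordProd_reeL (g : GL chevG2.Idx K) (hg : g ∈ chevG2.posUnipotent K) :
    ∃ c : ℕ → K, g = ordProd chevG2 g2_mem K reeL c := by
  rw [posUnipotent_eq_closure_gensLA chevG2 g2_mem K reeA reeA_chainAdd reeA_posFacts reeL reeL_iff] at hg
  exact exists_ordProdA chevG2 g2_mem K reeA reeA_chainAdd reeA_posFacts reeL reeL_good g hg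

theorem ordProd_reeL_inj (c d : ℕ → K)
    (h : ordProd chevG2 g2_mem K reeL c = ordProd chevG2 g2_mem K reeL d) : ∀ r ∈ reeL, c r = d r :=
  ordProd_injA chevG2 g2_mem K reeA reeA_chainAdd reeA_posFacts reeL reeL_good c d h

theorem ordProd_reeL_mem (c : ℕ → K) : ordProd chevG2 g2_mem K reeL c ∈ chevG2.posUnipotent K := by
  rw [posUnipotent_eq_closure_gensLA chevG2 g2_mem K reeA reeA_chainAdd reeA_posFacts reeL reeL_iff]
  exact ordProd_mem chevG2 g2_mem K reeL c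

variable (θ : ℕ) (φ : K ≃+* K) (hφ : ∀ x, φ x = x ^ θ) (hq : ∀ x : K, x ^ (3 * θ * θ) = x)
include hφ

/-- `σ` on an ordered product along `reeL`, reordered -/
theorem sigma_ordProd (c : ℕ → K) :
    ((sigma K θ φ hq ⟨ordProd chevG2 g2_mem K reeL c, wordGL_mem_group chevG2 g2_mem K _⟩ :
        ↥(chevG2.group K)) : GL chevG2.Idx K) =
      X 7 ((c 6) ^ θ) * X 6 (((c 7) ^ 3) ^ θ) * X 8 ((c 10) ^ θ + ((c 7) ^ 3) ^ θ * (c 6) ^ θ) *
        X 9 ((c 11) ^ θ + ((c 7) ^ 3) ^ θ * ((c 6) ^ θ) ^ 2) *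
        X 10 (((c 8) ^ 3) ^ θ - ((c 7) ^ 3) ^ θ * ((c 6) ^ θ) ^ 3) *
        X 11 (((c 9) ^ 3) ^ θ - (((c 7) ^ 3) ^ θ) ^ 2 * ((c 6) ^ θ) ^ 3) := by
  have e : (⟨ordProd chevG2 g2_mem K reeL c, wordGL_mem_group chevG2 g2_mem K _⟩ : ↥(chevG2.group K)) =
      wordG chevG2 g2_mem K (reeL.map fun r => (r, c r)) := Subtype.ext (coe_wordG chevG2 g2_mem K _).symm
  rw [e, sigma_wordG K θ φ hφ hq _ (by
    intro e he
    simp only [reeL, List.map_cons, List.map_nil, List.mem_cons, List.not_mem_nil, or_false] at he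
    rcases he with rfl | rfl | rfl | rfl | rfl | rfl <;> norm_num), coe_wordG]
  unfold wordGL reeL
  simp only [List.map_cons, List.map_nil, List.prod_cons, List.prod_nil, mul_one]
  have hb : g2Data.bar 7 = 6 ∧ g2Data.bar 6 = 7 ∧ g2Data.bar 8 = 10 ∧ g2Data.bar 9 = 11 ∧
      g2Data.bar 10 = 8 ∧ g2Data.bar 11 = 9 := by decide
  have hl : g2Data.lam 7 = 3 ∧ g2Data.lam 6 = 1 ∧ g2Data.lam 8 = 3 ∧ g2Data.lam 9 = 3 ∧
      g2Data.lam 10 = 1 ∧ g2Data.lam 11 = 1 := by decide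
  rw [hb.1, hb.2.1, hb.2.2.1, hb.2.2.2.1, hb.2.2.2.2.1, hb.2.2.2.2.2, hl.1, hl.2.1, hl.2.2.1, hl.2.2.2.1,
    hl.2.2.2.2.1, hl.2.2.2.2.2]
  simp only [pow_one]
  have := reorder_pos K (((c 7) ^ 3) ^ θ) ((c 6) ^ θ) (((c 8) ^ 3) ^ θ) (((c 9) ^ 3) ^ θ) ((c 10) ^ θ)
    ((c 11) ^ θ)
  simp only [mul_assoc] at this ⊢
  exact this

omit hφ in
theorem cube_add (x y : K) : (x + y) ^ 3 = x ^ 3 + y ^ 3 := by
  have h3 := three_eq_zero K
  linear_combination (x ^ 2 * y + x * y ^ 2) * h3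

theorem theta_add (x y : K) : (x + y) ^ θ = x ^ θ + y ^ θ := by
  rw [← hφ, ← hφ, ← hφ, map_add]

theorem theta_neg (x : K) : (-x) ^ θ = -(x ^ θ) := by
  rw [← hφ, ← hφ, map_neg]

omit hφ in
theorem frob1 (hq : ∀ x : K, x ^ (3 * θ * θ) = x) (x : K) : ((x ^ θ) ^ 3) ^ θ = x := by
  rw [← pow_mul, ← pow_mul]
  convert hq x using 2
  ring

omit hφ in
theorem frob2 (hq : ∀ x : K, x ^ (3 * θ * θ) = x) (x : K) : ((x ^ 3) ^ θ) ^ θ = x := by
  rw [← pow_mul, ← pow_mul]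
  convert hq x using 2
  ring

/-- six coefficients as a function on root indices -/
def mk6 (a₇ a₆ a₈ a₉ a₁₀ a₁₁ : K) : ℕ → K := fun r =>
  if r = 7 then a₇ else if r = 6 then a₆ else if r = 8 then a₈ else if r = 9 then a₉ else if r = 10 then a₁₀
  else a₁₁

omit hφ in
theorem ordProd_mk6 (a₇ a₆ a₈ a₉ a₁₀ a₁₁ : K) :
    ordProd chevG2 g2_mem K reeL (mk6 K a₇ a₆ a₈ a₉ a₁₀ a₁₁) =
      X 7 a₇ * X 6 a₆ * X 8 a₈ * X 9 a₉ * X 10 a₁₀ * X 11 a₁₁ := by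
  rw [ordProd_reeL]
  simp [mk6]

omit hφ in
theorem wordGL_reeWordU (t u v : K) :
    wordGL chevG2 g2_mem K (reeWordU θ t u v) =
      X 7 (t ^ θ) * X 6 t * X 8 (t ^ (θ + 1) + u ^ θ) * X 9 (t ^ (2 * θ + 1) + v ^ θ) * X 10 u * X 11 v := by
  unfold wordGL reeWordU g2a g2b g2ab g2aab g2aaab g2aaabb
  simp only [List.map_cons, List.map_nil, List.prod_cons, List.prod_nil, mul_one, mul_assoc]

/-- the Ree words of `U` are `σ`-fixed -/
theorem reeWordU_mem_fixGL (t u v : K) :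
    wordGL chevG2 g2_mem K (reeWordU θ t u v) ∈ fixGL K θ φ hq := by
  rw [mem_fixGL]
  refine ⟨wordGL_mem_group chevG2 g2_mem K _, ?_⟩
  have e1 : wordGL chevG2 g2_mem K (reeWordU θ t u v) = ordProd chevG2 g2_mem K reeL
      (mk6 K (t ^ θ) t (t ^ (θ + 1) + u ^ θ) (t ^ (2 * θ + 1) + v ^ θ) u v) := by
    rw [ordProd_mk6, wordGL_reeWordU]
  have e2 := sigma_ordProd K θ φ hφ hq (mk6 K (t ^ θ) t (t ^ (θ + 1) + u ^ θ) (t ^ (2 * θ + 1) + v ^ θ) u v)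
  simp only [mk6, if_true, if_false, show (6 : ℕ) ≠ 7 by decide, show (8 : ℕ) ≠ 7 by decide,
    show (8 : ℕ) ≠ 6 by decide, show (9 : ℕ) ≠ 7 by decide, show (9 : ℕ) ≠ 6 by decide,
    show (9 : ℕ) ≠ 8 by decide, show (10 : ℕ) ≠ 7 by decide, show (10 : ℕ) ≠ 6 by decide,
    show (10 : ℕ) ≠ 8 by decide, show (10 : ℕ) ≠ 9 by decide, show (11 : ℕ) ≠ 7 by decide,
    show (11 : ℕ) ≠ 6 by decide, show (11 : ℕ) ≠ 8 by decide, show (11 : ℕ) ≠ 9 by decide,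
    show (11 : ℕ) ≠ 10 by decide] at e2
  have e3 : (⟨wordGL chevG2 g2_mem K (reeWordU θ t u v), wordGL_mem_group chevG2 g2_mem K _⟩ :
      ↥(chevG2.group K)) = ⟨ordProd chevG2 g2_mem K reeL
        (mk6 K (t ^ θ) t (t ^ (θ + 1) + u ^ θ) (t ^ (2 * θ + 1) + v ^ θ) u v),
        wordGL_mem_group chevG2 g2_mem K _⟩ := Subtype.ext e1
  rw [e3]
  apply Subtype.ext
  rw [e2]
  show _ = ordProd chevG2 g2_mem K reeL _
  rw [ordProd_mk6]
  have h1 := frob1 K θ hq t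
  have c8 : u ^ θ + ((t ^ θ) ^ 3) ^ θ * t ^ θ = t ^ (θ + 1) + u ^ θ := by rw [h1]; ring
  have c9 : v ^ θ + ((t ^ θ) ^ 3) ^ θ * (t ^ θ) ^ 2 = t ^ (2 * θ + 1) + v ^ θ := by rw [h1]; ring
  have c10 : ((t ^ (θ + 1) + u ^ θ) ^ 3) ^ θ - ((t ^ θ) ^ 3) ^ θ * (t ^ θ) ^ 3 = u := by
    rw [h1, cube_add, theta_add K θ φ hφ, frob1 K θ hq u]
    have : ((t ^ (θ + 1)) ^ 3) ^ θ = ((t ^ θ) ^ 3) ^ θ * (t ^ θ) ^ 3 := by ring
    rw [this, h1]; ring
  have c11 : ((t ^ (2 * θ + 1) + v ^ θ) ^ 3) ^ θ - (((t ^ θ) ^ 3) ^ θ) ^ 2 * (t ^ θ) ^ 3 = v := by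
    rw [h1, cube_add, theta_add K θ φ hφ, frob1 K θ hq v]
    have : ((t ^ (2 * θ + 1)) ^ 3) ^ θ = (((t ^ θ) ^ 3) ^ θ) ^ 2 * (t ^ θ) ^ 3 := by ring
    rw [this, h1]; ring
  rw [c8, c9, c10, c11, h1]

/-- `σ` on a word in the negative roots `-a, -b, -a-b, -2a-b, -3a-b, -3a-2b`, reordered -/
theorem sigma_word_neg (d₄ d₅ d₃ d₂ d₁ d₀ : K) :
    ((sigma K θ φ hq (wordG chevG2 g2_mem K [(4, d₄), (5, d₅), (3, d₃), (2, d₂), (1, d₁), (0, d₀)]) :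
        ↥(chevG2.group K)) : GL chevG2.Idx K) =
      X 4 (d₅ ^ θ) * X 5 ((d₄ ^ 3) ^ θ) * X 3 (d₁ ^ θ - (d₄ ^ 3) ^ θ * d₅ ^ θ) *
        X 2 (d₀ ^ θ + (d₄ ^ 3) ^ θ * (d₅ ^ θ) ^ 2) *
        X 1 ((d₃ ^ 3) ^ θ + (d₄ ^ 3) ^ θ * (d₅ ^ θ) ^ 3) *
        X 0 ((d₂ ^ 3) ^ θ - ((d₄ ^ 3) ^ θ) ^ 2 * (d₅ ^ θ) ^ 3) := by
  rw [sigma_wordG K θ φ hφ hq _ (by
    intro e he
    simp only [List.mem_cons, List.not_mem_nil, or_false] at he
    rcases he with rfl | rfl | rfl | rfl | rfl | rfl <;> norm_num), coe_wordG]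
  unfold wordGL
  simp only [List.map_cons, List.map_nil, List.prod_cons, List.prod_nil, mul_one]
  have hb : g2Data.bar 4 = 5 ∧ g2Data.bar 5 = 4 ∧ g2Data.bar 3 = 1 ∧ g2Data.bar 2 = 0 ∧
      g2Data.bar 1 = 3 ∧ g2Data.bar 0 = 2 := by decide
  have hl : g2Data.lam 4 = 3 ∧ g2Data.lam 5 = 1 ∧ g2Data.lam 3 = 3 ∧ g2Data.lam 2 = 3 ∧
      g2Data.lam 1 = 1 ∧ g2Data.lam 0 = 1 := by decide
  rw [hb.1, hb.2.1, hb.2.2.1, hb.2.2.2.1, hb.2.2.2.2.1, hb.2.2.2.2.2, hl.1, hl.2.1, hl.2.2.1, hl.2.2.2.1,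
    hl.2.2.2.2.1, hl.2.2.2.2.2]
  simp only [pow_one]
  have := reorder_neg K ((d₄ ^ 3) ^ θ) (d₅ ^ θ) ((d₃ ^ 3) ^ θ) ((d₂ ^ 3) ^ θ) (d₁ ^ θ) (d₀ ^ θ)
  simp only [mul_assoc] at this ⊢
  exact this

omit hφ in
theorem reeWordV_eq (t u v : K) :
    reeWordV θ t u v = [(4, -(t ^ θ)), (5, -t), (3, -(t ^ (θ + 1) + u ^ θ)), (2, -(t ^ (2 * θ + 1) + v ^ θ)),
      (1, -u), (0, -v)] := by
  unfold reeWordV reeWordU ChevalleyDatum.negWord g2a g2b g2ab g2aab g2aaab g2aaabb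
  simp only [List.map_cons, List.map_nil]
  have h : chevG2.negIdx.getD 7 0 = 4 ∧ chevG2.negIdx.getD 6 0 = 5 ∧ chevG2.negIdx.getD 8 0 = 3 ∧
      chevG2.negIdx.getD 9 0 = 2 ∧ chevG2.negIdx.getD 10 0 = 1 ∧ chevG2.negIdx.getD 11 0 = 0 := by decide
  rw [h.1, h.2.1, h.2.2.1, h.2.2.2.1, h.2.2.2.2.1, h.2.2.2.2.2]

/-- the Ree words of `V` are `σ`-fixed -/
theorem reeWordV_mem_fixGL (t u v : K) :
    wordGL chevG2 g2_mem K (reeWordV θ t u v) ∈ fixGL K θ φ hq := by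
  apply wordGL_mem_fixGL
  apply Subtype.ext
  rw [reeWordV_eq, sigma_word_neg K θ φ hφ hq, coe_wordG]
  unfold wordGL
  simp only [List.map_cons, List.map_nil, List.prod_cons, List.prod_nil, mul_one, mul_assoc]
  have n3 : ∀ x : K, (-x) ^ 3 = -(x ^ 3) := fun x => by ring
  have h1 := frob1 K θ hq t
  have c5 : ((-(t ^ θ)) ^ 3) ^ θ = -t := by rw [n3, theta_neg K θ φ hφ, h1]
  have c4 : (-t) ^ θ = -(t ^ θ) := theta_neg K θ φ hφ t
  have c3 : (-u) ^ θ - ((-(t ^ θ)) ^ 3) ^ θ * (-t) ^ θ = -(t ^ (θ + 1) + u ^ θ) := by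
    rw [c5, c4, theta_neg K θ φ hφ]; ring
  have c2 : (-v) ^ θ + ((-(t ^ θ)) ^ 3) ^ θ * ((-t) ^ θ) ^ 2 = -(t ^ (2 * θ + 1) + v ^ θ) := by
    rw [c5, c4, theta_neg K θ φ hφ]; ring
  have c1 : ((-(t ^ (θ + 1) + u ^ θ)) ^ 3) ^ θ + ((-(t ^ θ)) ^ 3) ^ θ * ((-t) ^ θ) ^ 3 = -u := by
    rw [c5, c4, n3, theta_neg K θ φ hφ, cube_add, theta_add K θ φ hφ, frob1 K θ hq u]
    have : ((t ^ (θ + 1)) ^ 3) ^ θ = ((t ^ θ) ^ 3) ^ θ * (t ^ θ) ^ 3 := by ring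
    rw [this, h1]; ring
  have c0 : ((-(t ^ (2 * θ + 1) + v ^ θ)) ^ 3) ^ θ - (((-(t ^ θ)) ^ 3) ^ θ) ^ 2 * ((-t) ^ θ) ^ 3 = -v := by
    rw [c5, c4, n3, theta_neg K θ φ hφ, cube_add, theta_add K θ φ hφ, frob1 K θ hq v]
    have : ((t ^ (2 * θ + 1)) ^ 3) ^ θ = (((t ^ θ) ^ 3) ^ θ) ^ 2 * (t ^ θ) ^ 3 := by ring
    rw [this, h1]; ring
  rw [c3, c2, c1, c0, c5, c4]

/-- the Ree group lies in the fixed points of `σ` -/
theorem twistedG2_le_fixGL : twistedG2 K θ ≤ fixGL K θ φ hq := by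
  unfold twistedG2 ChevalleyDatum.genSubgroup
  rw [Subgroup.closure_le]
  rintro g ⟨w, ⟨t, u, v, rfl | rfl⟩, hg⟩
  · have : g = wordGL chevG2 g2_mem K (reeWordU θ t u v) := Units.ext (by rw [hg, coe_wordGL])
    rw [this]
    exact reeWordU_mem_fixGL K θ φ hφ hq t u v
  · have : g = wordGL chevG2 g2_mem K (reeWordV θ t u v) := Units.ext (by rw [hg, coe_wordGL])
    rw [this]
    exact reeWordV_mem_fixGL K θ φ hφ hq t u v

/-- a `σ`-fixed element of `U` is a Ree word -/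
theorem exists_reeWordU_of_mem (g : GL chevG2.Idx K) (hU : g ∈ chevG2.posUnipotent K)
    (hF : g ∈ fixGL K θ φ hq) : ∃ t u v : K, g = wordGL chevG2 g2_mem K (reeWordU θ t u v) := by
  obtain ⟨c, rfl⟩ := exists_ordProd_reeL K g hU
  obtain ⟨hg, hfix⟩ := (mem_fixGL K θ φ hq _).mp hF
  have e2 := sigma_ordProd K θ φ hφ hq c
  have e3 : ((sigma K θ φ hq ⟨ordProd chevG2 g2_mem K reeL c, wordGL_mem_group chevG2 g2_mem K _⟩ :
      ↥(chevG2.group K)) : GL chevG2.Idx K) = ordProd chevG2 g2_mem K reeL c := congrArg Subtype.val hfix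
  rw [e2, ← ordProd_mk6] at e3
  have hinj := ordProd_reeL_inj K _ _ e3
  have h7 := hinj 7 (by decide)
  have h8 := hinj 8 (by decide)
  have h9 := hinj 9 (by decide)
  simp only [mk6, if_true, if_false, show (8 : ℕ) ≠ 7 by decide,
    show (8 : ℕ) ≠ 6 by decide, show (9 : ℕ) ≠ 7 by decide, show (9 : ℕ) ≠ 6 by decide,
    show (9 : ℕ) ≠ 8 by decide] at h7 h8 h9
  refine ⟨c 6, c 10, c 11, ?_⟩
  rw [wordGL_reeWordU, ordProd_reeL]
  have h1 : ((c 7) ^ 3) ^ θ = c 6 := by rw [← h7]; exact frob1 K θ hq (c 6)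
  rw [h1] at h8 h9
  have e8 : c 8 = c 6 ^ (θ + 1) + c 10 ^ θ := by rw [← h8]; ring
  have e9 : c 9 = c 6 ^ (2 * θ + 1) + c 11 ^ θ := by rw [← h9]; ring
  rw [← h7, e8, e9]

omit hφ in
theorem reeWordU_mem_posUnipotent (t u v : K) :
    wordGL chevG2 g2_mem K (reeWordU θ t u v) ∈ chevG2.posUnipotent K := by
  have : wordGL chevG2 g2_mem K (reeWordU θ t u v) = ordProd chevG2 g2_mem K reeL
      (mk6 K (t ^ θ) t (t ^ (θ + 1) + u ^ θ) (t ^ (2 * θ + 1) + v ^ θ) u v) := by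
    rw [ordProd_mk6, wordGL_reeWordU]
  rw [this]
  exact ordProd_reeL_mem K _

omit hφ in
theorem reeWordU_mem_twistedG2 (t u v : K) :
    wordGL chevG2 g2_mem K (reeWordU θ t u v) ∈ twistedG2 K θ := by
  unfold twistedG2 ChevalleyDatum.genSubgroup
  apply Subgroup.subset_closure
  exact ⟨reeWordU θ t u v, ⟨t, u, v, Or.inl rfl⟩, coe_wordGL chevG2 g2_mem K _⟩

omit hφ in
theorem reeWordU_injective (t u v t' u' v' : K)
    (h : wordGL chevG2 g2_mem K (reeWordU θ t u v) = wordGL chevG2 g2_mem K (reeWordU θ t' u' v')) :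
    t = t' ∧ u = u' ∧ v = v' := by
  have e : ∀ t u v : K, wordGL chevG2 g2_mem K (reeWordU θ t u v) = ordProd chevG2 g2_mem K reeL
      (mk6 K (t ^ θ) t (t ^ (θ + 1) + u ^ θ) (t ^ (2 * θ + 1) + v ^ θ) u v) := by
    intro t u v
    rw [ordProd_mk6, wordGL_reeWordU]
  rw [e, e] at h
  have hinj := ordProd_reeL_inj K _ _ h
  have h6 := hinj 6 (by decide)
  have h10 := hinj 10 (by decide)
  have h11 := hinj 11 (by decide)
  simp only [mk6, if_true, if_false, show (6 : ℕ) ≠ 7 by decide, show (10 : ℕ) ≠ 7 by decide,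
    show (10 : ℕ) ≠ 6 by decide, show (10 : ℕ) ≠ 8 by decide, show (10 : ℕ) ≠ 9 by decide,
    show (11 : ℕ) ≠ 7 by decide, show (11 : ℕ) ≠ 6 by decide, show (11 : ℕ) ≠ 8 by decide,
    show (11 : ℕ) ≠ 9 by decide, show (11 : ℕ) ≠ 10 by decide] at h6 h10 h11
  exact ⟨h6, h10, h11⟩

include hq in
/-- `U ∩ ²G₂(K)` consists exactly of the Ree words -/
theorem mem_posUnipotent_inf_twistedG2 (g : GL chevG2.Idx K) :
    g ∈ chevG2.posUnipotent K ⊓ twistedG2 K θ ↔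
      ∃ t u v : K, g = wordGL chevG2 g2_mem K (reeWordU θ t u v) := by
  constructor
  · rintro ⟨hU, hT⟩
    exact exists_reeWordU_of_mem K θ φ hφ hq g hU (twistedG2_le_fixGL K θ φ hφ hq hT)
  · rintro ⟨t, u, v, rfl⟩
    exact ⟨reeWordU_mem_posUnipotent K θ t u v, reeWordU_mem_twistedG2 K θ t u v⟩

end

end Cfsg.Agent.Lib.Helper11.Ree
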