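import Mathlib
import Cfsg.Prelude.Def_GeometricClasses
import Cfsg.Agent.Lib.Helper11.MonoDefs
import Cfsg.Agent.Lib.Helper20.MonoWb1

/-!
S5798 block (L) (monomial case `m = 1` at `n = 6`), leaf MWb1-six `no_small_torus` with the bound `6 ≤ n`:
a torus element supported on three coordinates cannot permute the lines of a frame of dense vectors unless
it is trivial.  New argument (the greedy independent set of helper20's `MonoWb1` needs `10 ≤ n`): the
fixed space of `s` has dimension `≥ n - 3`, but a monomial matrix whose permutation is fixed-point-free has a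
fixed space of dimension at most the number of cycles `≤ n / 2`, with equality only for involutions, in which
case `s ^ 2 = 1` and `s - 1` has rank `≤ 2`.
-/

set_option autoImplicit false
set_option linter.unusedSectionVars false
set_option linter.unusedVariables false

namespace Cfsg.Agent.Lib.Helper11.MonoSix
open Matrix Cfsg.Agent.Lib.Helper11.Mono Cfsg.Agent.Lib.Helper20.MonoLeaf

section Comb
variable {ι : Type} [Fintype ι] [DecidableEq ι]

/-- representatives of the cycles of a fixed-point-free permutation -/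
lemma wb6_exists_reps (σ : Equiv.Perm ι) (hfix : ∀ k, σ k ≠ k) :
    ∃ R : Finset ι, (∀ k, ∃ r ∈ R, ∃ j : ℕ, (σ ^ j) r = k) ∧
      (2 * R.card + 1 ≤ Fintype.card ι ∨ (2 * R.card ≤ Fintype.card ι ∧ ∀ k, σ (σ k) = k)) := by
  classical
  have hsupp : σ.support = Finset.univ := by
    ext k
    simp [Equiv.Perm.mem_support, hfix k]
  have hsum : σ.cycleType.sum = Fintype.card ι := by
    rw [Equiv.Perm.sum_cycleType, hsupp, Finset.card_univ]
  have hcard : Multiset.card σ.cycleType = σ.cycleFactorsFinset.card := by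
    rw [Equiv.Perm.cycleType_def, Multiset.card_map]
    rfl
  have hne : ∀ c : Equiv.Perm ι, c ∈ σ.cycleFactorsFinset → ∃ x, x ∈ c.support := by
    intro c hc
    have hcyc := (Equiv.Perm.mem_cycleFactorsFinset_iff.mp hc).1
    obtain ⟨x, hx, _⟩ := hcyc
    exact ⟨x, Equiv.Perm.mem_support.mpr hx⟩
  let R : Finset ι := σ.cycleFactorsFinset.attach.image (fun c => (hne c.1 c.2).choose)
  have hRcard : R.card ≤ Multiset.card σ.cycleType := by
    rw [hcard]
    calc R.card ≤ σ.cycleFactorsFinset.attach.card := Finset.card_image_le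
      _ = σ.cycleFactorsFinset.card := Finset.card_attach
  have hcover : ∀ k, ∃ r ∈ R, ∃ j : ℕ, (σ ^ j) r = k := by
    intro k
    have hk : k ∈ σ.support := by rw [hsupp]; exact Finset.mem_univ k
    have hc : σ.cycleOf k ∈ σ.cycleFactorsFinset := Equiv.Perm.cycleOf_mem_cycleFactorsFinset_iff.mpr hk
    refine ⟨(hne _ hc).choose, Finset.mem_image.mpr ⟨⟨_, hc⟩, Finset.mem_attach _ _, rfl⟩, ?_⟩
    have h1 := (hne _ hc).choose_spec
    rw [Equiv.Perm.mem_support_cycleOf_iff] at h1
    exact h1.1.symm.exists_nat_pow_eq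
  have h2le : ∀ e ∈ σ.cycleType, 2 ≤ e := fun e he => Equiv.Perm.two_le_of_mem_cycleType he
  refine ⟨R, hcover, ?_⟩
  by_cases hall : ∀ e ∈ σ.cycleType, e = 2
  · right
    constructor
    · have := Multiset.card_nsmul_le_sum h2le
      rw [hsum, smul_eq_mul] at this
      omega
    · have hord : orderOf σ ∣ 2 := by
        rw [← Equiv.Perm.lcm_cycleType, Multiset.lcm_dvd]
        intro e he
        rw [hall e he]
      have h2 : σ ^ 2 = 1 := orderOf_dvd_iff_pow_eq_one.mp hord
      intro k
      have := congrArg (fun τ : Equiv.Perm ι => τ k) h2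
      simpa [pow_two] using this
  · left
    push Not at hall
    obtain ⟨e, he, he2⟩ := hall
    have he3 : 3 ≤ e := by have := h2le e he; omega
    have hcons := Multiset.cons_erase he
    have h1 : σ.cycleType.sum = e + (σ.cycleType.erase e).sum := by
      rw [← hcons, Multiset.sum_cons]
      simp
    have h2 : Multiset.card σ.cycleType = Multiset.card (σ.cycleType.erase e) + 1 := by
      rw [← hcons, Multiset.card_cons]
      simp
    have h3 := Multiset.card_nsmul_le_sum (s := σ.cycleType.erase e) (a := 2)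
      (fun x hx => h2le x (Multiset.mem_of_mem_erase hx))
    rw [smul_eq_mul] at h3
    omega

end Comb

section Lin
variable {F : Type*} [Field F] {ι : Type} [Fintype ι] [DecidableEq ι]

/-- a `ρ × κ` matrix with `card ρ < card κ` has a non-trivial kernel vector -/
lemma wb6_exists_ker_vec {ρ κ : Type} [Fintype ρ] [Fintype κ] [DecidableEq κ]
    (h : Fintype.card ρ < Fintype.card κ)
    (N : Matrix ρ κ F) : ∃ t : κ → F, t ≠ 0 ∧ N *ᵥ t = 0 := by
  by_contra hcon
  push Not at hcon
  have hinj : Function.Injective N.mulVecLin := by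
    rw [← LinearMap.ker_eq_bot, LinearMap.ker_eq_bot']
    intro t ht
    by_contra h0
    exact hcon t h0 ht
  have := LinearMap.finrank_le_finrank_of_injective hinj
  rw [Module.finrank_fintype_fun_eq_card, Module.finrank_fintype_fun_eq_card] at this
  omega

/-- rows of `B⁻¹` along the permutation, at a coordinate fixed by `s` -/
lemma wb6_row (B : GL ι F) (s : ι → Fˣ) (π : ι → ι) (hinj : Function.Injective π) (cc : ι → F)
    (hπ : ∀ k x, (s x : F) * (B : Matrix ι ι F) x k = cc k * (B : Matrix ι ι F) x (π k))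
    (k0 y : ι) (hy : s y = 1) :
    ((B⁻¹ : GL ι F) : Matrix ι ι F) (π k0) y = cc k0 * ((B⁻¹ : GL ι F) : Matrix ι ι F) k0 y := by
  set A : Matrix ι ι F := ((B⁻¹ : GL ι F) : Matrix ι ι F) with hA
  have hAB : A * (B : Matrix ι ι F) = 1 := by
    rw [hA, ← Units.val_mul, inv_mul_cancel, Units.val_one]
  have hBA : (B : Matrix ι ι F) * A = 1 := by
    rw [hA, ← Units.val_mul, mul_inv_cancel, Units.val_one]
  set Sm : Matrix ι ι F := Matrix.diagonal fun x => (s x : F) with hSm
  set T : Matrix ι ι F := fun k' k => cc k * (if k' = π k then 1 else 0) with hT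
  have h1 : A * Sm * (B : Matrix ι ι F) = T := by
    ext k' k
    rw [Matrix.mul_assoc, Matrix.mul_apply]
    have : ∀ x, A k' x * (Sm * (B : Matrix ι ι F)) x k = cc k * (A k' x * (B : Matrix ι ι F) x (π k)) := by
      intro x
      rw [hSm, Matrix.diagonal_mul, hπ k x]
      ring
    simp only [this]
    rw [← Finset.mul_sum, ← Matrix.mul_apply, hAB, Matrix.one_apply]
  have h2 : A * Sm = T * A := by
    calc A * Sm = A * Sm * ((B : Matrix ι ι F) * A) := by rw [hBA, Matrix.mul_one]
      _ = T * A := by rw [← Matrix.mul_assoc, h1]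
  have h3 := congrFun (congrFun h2 (π k0)) y
  rw [hSm, Matrix.mul_diagonal, hy, Units.val_one, mul_one, Matrix.mul_apply] at h3
  rw [h3, Finset.sum_eq_single k0]
  · simp [hT]
  · intro k _ hk
    have : π k0 ≠ π k := fun h => hk (hinj h).symm
    simp [hT, this]
  · intro h
    exact absurd (Finset.mem_univ k0) h

/-- fixed-space bound -/
lemma wb6_card_le (B : GL ι F) (s : ι → Fˣ) (π : ι → ι) (hinj : Function.Injective π) (cc : ι → F)
    (hπ : ∀ k x, (s x : F) * (B : Matrix ι ι F) x k = cc k * (B : Matrix ι ι F) x (π k))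
    (Y R : Finset ι) (hY : ∀ y ∈ Y, s y = 1)
    (hR : ∀ k, ∃ r ∈ R, ∃ j : ℕ, π^[j] r = k) : Y.card ≤ R.card := by
  by_contra hlt
  push Not at hlt
  set A : Matrix ι ι F := ((B⁻¹ : GL ι F) : Matrix ι ι F) with hA
  have hBA : (B : Matrix ι ι F) * A = 1 := by
    rw [hA, ← Units.val_mul, mul_inv_cancel, Units.val_one]
  let N : Matrix R Y F := fun r y => A r.1 y.1
  obtain ⟨t, ht0, htN⟩ := wb6_exists_ker_vec (F := F) (ρ := R) (κ := Y) (by
    rw [Fintype.card_coe, Fintype.card_coe]; exact hlt) N
  let t' : ι → F := fun y => if h : y ∈ Y then t ⟨y, h⟩ else 0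
  have ht'Y : ∀ y, y ∉ Y → t' y = 0 := fun y hy => dif_neg hy
  have hsumY : ∀ k, (A *ᵥ t') k = ∑ y : Y, A k y.1 * t y := by
    intro k
    rw [Matrix.mulVec, dotProduct]
    rw [← Finset.sum_subset (Finset.subset_univ Y)]
    · rw [← Finset.sum_coe_sort Y]
      apply Finset.sum_congr rfl
      intro y _
      have : t' y.1 = t y := by
        simp only [t']
        rw [dif_pos y.2]
      rw [this]
    · intro y _ hy
      rw [ht'Y y hy, mul_zero]
  have hu0 : ∀ r ∈ R, (A *ᵥ t') r = 0 := by
    intro r hr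
    rw [hsumY r]
    have := congrFun htN ⟨r, hr⟩
    rw [Matrix.mulVec, dotProduct] at this
    exact this
  have hustep : ∀ k, (A *ᵥ t') (π k) = cc k * (A *ᵥ t') k := by
    intro k
    rw [Matrix.mulVec, dotProduct, Matrix.mulVec, dotProduct, Finset.mul_sum]
    apply Finset.sum_congr rfl
    intro y _
    by_cases hy : y ∈ Y
    · rw [hA, wb6_row B s π hinj cc hπ k y (hY y hy)]
      ring
    · rw [ht'Y y hy, mul_zero, mul_zero, mul_zero]
  have huiter : ∀ j : ℕ, ∀ r ∈ R, (A *ᵥ t') (π^[j] r) = 0 := by
    intro j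
    induction j with
    | zero => intro r hr; exact hu0 r hr
    | succ j ih =>
      intro r hr
      rw [Function.iterate_succ_apply', hustep, ih r hr, mul_zero]
  have hu : A *ᵥ t' = 0 := by
    funext k
    obtain ⟨r, hr, j, hj⟩ := hR k
    rw [← hj]
    exact huiter j r hr
  have ht' : t' = 0 := by
    have : (B : Matrix ι ι F) *ᵥ (A *ᵥ t') = t' := by
      rw [Matrix.mulVec_mulVec, hBA, Matrix.one_mulVec]
    rw [← this, hu, Matrix.mulVec_zero]
  apply ht0
  funext y
  have := congrFun ht' y.1
  simp only [t'] at this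
  rw [dif_pos y.2] at this
  exact this


/-- a fixed frame line forces `s = 1` (helper20's `wb1_eq_one_of_fix` with the bound `5 ≤ n`) -/
lemma wb6_eq_one_of_fix (h5 : 5 ≤ Fintype.card ι) (B : GL ι F)
    (hdense : ∀ j c c', c ≠ c' → (B : Matrix ι ι F) c j = 0 → (B : Matrix ι ι F) c' j = 0 → False)
    (s : ι → Fˣ) (a b c : ι) (hab : a ≠ b) (hac : a ≠ c) (hbc : b ≠ c)
    (hs : ∀ x, x ≠ a → x ≠ b → x ≠ c → s x = 1) (hprod : s a * s b * s c = 1)
    (k : ι) (c' : F)
    (hfix : ∀ x, (s x : F) * (B : Matrix ι ι F) x k = c' * (B : Matrix ι ι F) x k) : s = 1 := by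
  obtain ⟨x1, hx1⟩ := wb1_exists_not_mem ({a, b, c} : Finset ι) (by
    have := Finset.card_le_three (a := a) (b := b) (c := c); omega)
  obtain ⟨x2, hx2⟩ := wb1_exists_not_mem ({a, b, c, x1} : Finset ι) (by
    have := Finset.card_le_four (a := a) (b := b) (c := c) (d := x1); omega)
  simp only [Finset.mem_insert, Finset.mem_singleton, not_or] at hx1 hx2
  have hex : ∃ x, x ≠ a ∧ x ≠ b ∧ x ≠ c ∧ (B : Matrix ι ι F) x k ≠ 0 := by
    by_contra hcon
    push Not at hcon
    exact hdense k x1 x2 (fun hh => hx2.2.2.2 hh.symm) (hcon x1 hx1.1 hx1.2.1 hx1.2.2)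
      (hcon x2 hx2.1 hx2.2.1 hx2.2.2.1)
  obtain ⟨x, hxa, hxb, hxc, hx0⟩ := hex
  have hc1 : c' = 1 := by
    have := hfix x
    rw [hs x hxa hxb hxc, Units.val_one, one_mul] at this
    have h2 : (1 : F) * (B : Matrix ι ι F) x k = c' * (B : Matrix ι ι F) x k := by
      rw [one_mul]; exact this
    exact (mul_right_cancel₀ hx0 h2).symm
  have key : ∀ y, (B : Matrix ι ι F) y k ≠ 0 → s y = 1 := by
    intro y hy
    have := hfix y
    rw [hc1] at this
    have h2 := mul_right_cancel₀ hy this
    exact Units.ext (by rw [h2, Units.val_one])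
  have habc : s a = 1 ∧ s b = 1 ∧ s c = 1 := by
    by_cases ha0 : (B : Matrix ι ι F) a k = 0
    · have hb0 : (B : Matrix ι ι F) b k ≠ 0 := fun hb0 => hdense k a b hab ha0 hb0
      have hc0 : (B : Matrix ι ι F) c k ≠ 0 := fun hc0 => hdense k a c hac ha0 hc0
      have hb1 := key b hb0
      have hc1' := key c hc0
      rw [hb1, hc1', mul_one, mul_one] at hprod
      exact ⟨hprod, hb1, hc1'⟩
    · by_cases hb0 : (B : Matrix ι ι F) b k = 0
      · have hc0 : (B : Matrix ι ι F) c k ≠ 0 := fun hc0 => hdense k b c hbc hb0 hc0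
        have ha1 := key a ha0
        have hc1' := key c hc0
        rw [ha1, hc1', mul_one, one_mul] at hprod
        exact ⟨ha1, hprod, hc1'⟩
      · have ha1 := key a ha0
        have hb1 := key b hb0
        rw [ha1, hb1, one_mul, one_mul] at hprod
        exact ⟨ha1, hb1, hprod⟩
  funext y
  by_cases hya : y = a
  · rw [hya]; exact habc.1
  by_cases hyb : y = b
  · rw [hyb]; exact habc.2.1
  by_cases hyc : y = c
  · rw [hyc]; exact habc.2.2
  exact hs y hya hyb hyc

omit [DecidableEq ι] in
lemma wb6_card_compl_two [DecidableEq ι] (b c : ι) :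
    Fintype.card ι ≤ (Finset.univ \ ({b, c} : Finset ι)).card + 2 := by
  have h1 := Finset.card_sdiff_add_card_inter (Finset.univ : Finset ι) ({b, c} : Finset ι)
  have h2 : ((Finset.univ : Finset ι) ∩ {b, c}).card ≤ 2 :=
    le_trans (Finset.card_le_card Finset.inter_subset_right) Finset.card_le_two
  rw [Finset.card_univ] at h1
  omega

omit [DecidableEq ι] in
lemma wb6_card_compl_three [DecidableEq ι] (a b c : ι) :
    Fintype.card ι ≤ (Finset.univ \ ({a, b, c} : Finset ι)).card + 3 := by
  have h1 := Finset.card_sdiff_add_card_inter (Finset.univ : Finset ι) ({a, b, c} : Finset ι)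
  have h2 : ((Finset.univ : Finset ι) ∩ {a, b, c}).card ≤ 3 :=
    le_trans (Finset.card_le_card Finset.inter_subset_right) Finset.card_le_three
  rw [Finset.card_univ] at h1
  omega

/-- MWb1-six: a non-trivial torus element supported on three coordinates cannot permute the lines of
a frame of dense vectors (`6 ≤ n`). -/
theorem no_small_torus_six (h6 : 6 ≤ Fintype.card ι) (B : GL ι F)
    (hdense : ∀ j c c', c ≠ c' → (B : Matrix ι ι F) c j = 0 → (B : Matrix ι ι F) c' j = 0 → False)
    (s : ι → Fˣ) (a b c : ι) (hab : a ≠ b) (hac : a ≠ c) (hbc : b ≠ c)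
    (hs : ∀ x, x ≠ a → x ≠ b → x ≠ c → s x = 1) (hprod : s a * s b * s c = 1)
    (hperm : ∀ k, ∃ k' : ι, ∃ c' : F,
      ((dg s : GL ι F) : Matrix ι ι F) *ᵥ col (B : Matrix ι ι F) k = c' • col (B : Matrix ι ι F) k') :
    s = 1 := by
  by_contra hne
  have hperm' : ∀ k, ∃ k' : ι, ∃ c' : F, ∀ x,
      (s x : F) * (B : Matrix ι ι F) x k = c' * (B : Matrix ι ι F) x k' := by
    intro k
    obtain ⟨k', c', h⟩ := hperm k
    refine ⟨k', c', fun x => ?_⟩
    have := congrFun h x
    rw [dg_mulVec] at this
    simpa [Matrix.col_apply, Pi.smul_apply] using this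
  choose π cc hπ using hperm'
  have hnofix : ∀ k, π k ≠ k := by
    intro k hk
    apply hne
    refine wb6_eq_one_of_fix (by omega) B hdense s a b c hab hac hbc hs hprod k (cc k) (fun x => ?_)
    have := hπ k x
    rwa [hk] at this
  have hBiB : ∀ i j, ∑ x, ((B⁻¹ : GL ι F) : Matrix ι ι F) i x * (B : Matrix ι ι F) x j
      = if i = j then 1 else 0 := by
    intro i j
    have h1 : ((B⁻¹ : GL ι F) : Matrix ι ι F) * (B : Matrix ι ι F) = 1 := by
      rw [← Units.val_mul, inv_mul_cancel, Units.val_one]
    have := congrFun (congrFun h1 i) j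
    rw [Matrix.mul_apply, Matrix.one_apply] at this
    exact this
  have hcc : ∀ k, cc k ≠ 0 := by
    intro k h0
    have hz : ∀ x, (B : Matrix ι ι F) x k = 0 := by
      intro x
      have := hπ k x
      rw [h0, zero_mul] at this
      rcases mul_eq_zero.mp this with h | h
      · exact absurd h (Units.ne_zero _)
      · exact h
    exact hdense k a b hab (hz a) (hz b)
  have hinj : Function.Injective π := by
    intro k k' hkk
    by_contra hne'
    have h1 : ∀ x, cc k' * (B : Matrix ι ι F) x k = cc k * (B : Matrix ι ι F) x k' := by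
      intro x
      have e1 := hπ k x
      have e2 := hπ k' x
      rw [← hkk] at e2
      apply mul_left_cancel₀ (Units.ne_zero (s x))
      linear_combination (cc k') * e1 - (cc k) * e2
    have h2 : cc k' = 0 := by
      have e1 := hBiB k k
      have e2 := hBiB k k'
      rw [if_pos rfl] at e1
      rw [if_neg hne'] at e2
      calc cc k' = cc k' * ∑ x, ((B⁻¹ : GL ι F) : Matrix ι ι F) k x * (B : Matrix ι ι F) x k := by
            rw [e1, mul_one]
        _ = ∑ x, ((B⁻¹ : GL ι F) : Matrix ι ι F) k x * (cc k' * (B : Matrix ι ι F) x k) := by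
            rw [Finset.mul_sum]; apply Finset.sum_congr rfl; intros; ring
        _ = ∑ x, ((B⁻¹ : GL ι F) : Matrix ι ι F) k x * (cc k * (B : Matrix ι ι F) x k') := by
            apply Finset.sum_congr rfl; intro x _; rw [h1 x]
        _ = cc k * ∑ x, ((B⁻¹ : GL ι F) : Matrix ι ι F) k x * (B : Matrix ι ι F) x k' := by
            rw [Finset.mul_sum]; apply Finset.sum_congr rfl; intros; ring
        _ = 0 := by rw [e2, mul_zero]
    exact hcc k' h2
  have hbij : Function.Bijective π := Finite.injective_iff_bijective.mp hinj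
  obtain ⟨R, hcover, hR⟩ := wb6_exists_reps (Equiv.ofBijective π hbij) (fun k => hnofix k)
  have hcover' : ∀ k, ∃ r ∈ R, ∃ j : ℕ, π^[j] r = k := by
    intro k
    obtain ⟨r, hr, j, hj⟩ := hcover k
    refine ⟨r, hr, j, ?_⟩
    rw [← hj, ← Equiv.Perm.iterate_eq_pow]
    rfl
  rcases hR with hR | ⟨hR, hinv⟩
  · have h1 := wb6_card_le B s π hinj cc hπ (Finset.univ \ ({a, b, c} : Finset ι)) R (by
      intro y hy
      simp only [Finset.mem_sdiff, Finset.mem_univ, true_and, Finset.mem_insert,
        Finset.mem_singleton, not_or] at hy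
      exact hs y hy.1 hy.2.1 hy.2.2) hcover'
    have h2 := wb6_card_compl_three a b c
    omega
  · have hinv' : ∀ k, π (π k) = k := hinv
    -- `s ^ 2 = 1`
    have hsq : (fun x => s x ^ 2) = 1 := by
      refine wb6_eq_one_of_fix (by omega) B hdense (fun x => s x ^ 2) a b c hab hac hbc ?_ ?_ a
        (cc a * cc (π a)) ?_
      · intro x hxa hxb hxc
        change s x ^ 2 = 1
        rw [hs x hxa hxb hxc, one_pow]
      · change s a ^ 2 * s b ^ 2 * s c ^ 2 = 1
        rw [← mul_pow, ← mul_pow, hprod, one_pow]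
      · intro x
        
        have e1 := hπ a x
        have e2 := hπ (π a) x
        rw [hinv' a] at e2
        rw [Units.val_pow_eq_pow_val]
        linear_combination (s x : F) * e1 + cc a * e2
    have hsq' : ∀ x, (s x : F) = 1 ∨ (s x : F) = -1 := by
      intro x
      have := congrFun hsq x
      change s x ^ 2 = 1 at this
      have h2 : (s x : F) * (s x : F) = 1 := by
        have := congrArg Units.val this
        rw [Units.val_pow_eq_pow_val, Units.val_one, pow_two] at this
        exact this
      exact mul_self_eq_one_iff.mp h2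
    have hcase : ∀ u v w : ι, ({u, v, w} : Finset ι) = {a, b, c} → (s u : F) = 1 → False := by
      intro u v w huvw hu
      have hu1 : s u = 1 := Units.ext (by rw [hu, Units.val_one])
      have h1 := wb6_card_le B s π hinj cc hπ (Finset.univ \ ({v, w} : Finset ι)) R (by
        intro y hy
        simp only [Finset.mem_sdiff, Finset.mem_univ, true_and, Finset.mem_insert,
          Finset.mem_singleton, not_or] at hy
        by_cases hyu : y = u
        · rw [hyu]; exact hu1
        · have hy3 : y ∉ ({a, b, c} : Finset ι) := by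
            rw [← huvw]
            simp only [Finset.mem_insert, Finset.mem_singleton, not_or]
            exact ⟨hyu, hy.1, hy.2⟩
          simp only [Finset.mem_insert, Finset.mem_singleton, not_or] at hy3
          exact hs y hy3.1 hy3.2.1 hy3.2.2) hcover'
      have h2 := wb6_card_compl_two v w
      omega
    rcases hsq' a with ha | ha
    · exact hcase a b c rfl ha
    rcases hsq' b with hb | hb
    · refine hcase b a c ?_ hb
      ext y
      simp only [Finset.mem_insert, Finset.mem_singleton]
      tauto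
    rcases hsq' c with hc | hc
    · refine hcase c a b ?_ hc
      ext y
      simp only [Finset.mem_insert, Finset.mem_singleton]
      tauto
    -- all three are `-1`
    have hp := congrArg Units.val hprod
    rw [Units.val_mul, Units.val_mul, ha, hb, hc, Units.val_one] at hp
    have h11 : (-1 : F) = 1 := by linear_combination hp
    exact hcase a b c rfl (by rw [ha, h11])

end Lin

end Cfsg.Agent.Lib.Helper11.MonoSix

namespace Cfsg.Agent.Lib.Helper11.SL6LLeaf
open Matrix Cfsg.Agent.Lib.Helper11.Mono

variable {F : Type*} [Field F] [Fintype F] {ι : Type} [Fintype ι] [DecidableEq ι]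

/-- (L1) = MWb1 for `6 ≤ card ι`, exact signature of `notes/S5798_L_leaves.lean`. -/
theorem no_small_torus_six (h6 : 6 ≤ Fintype.card ι) (B : GL ι F)
    (hdense : ∀ j c c', c ≠ c' → (B : Matrix ι ι F) c j = 0 → (B : Matrix ι ι F) c' j = 0 → False)
    (s : ι → Fˣ) (a b c : ι) (hab : a ≠ b) (hac : a ≠ c) (hbc : b ≠ c)
    (hs : ∀ x, x ≠ a → x ≠ b → x ≠ c → s x = 1) (hprod : s a * s b * s c = 1)
    (hperm : ∀ k, ∃ k' : ι, ∃ c' : F,
      ((dg s : GL ι F) : Matrix ι ι F) *ᵥ col (B : Matrix ι ι F) k = c' • col (B : Matrix ι ι F) k') :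
    s = 1 :=
  Cfsg.Agent.Lib.Helper11.MonoSix.no_small_torus_six h6 B hdense s a b c hab hac hbc hs hprod hperm

end Cfsg.Agent.Lib.Helper11.SL6LLeaf
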