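import Mathlib
import Cfsg.Agent.Lib.Helper1.LowDimO

/-!
# S5798 block (O), leaf O-2def `step_2f` (helper11)

Steps (2d), (2e), (2f) of `notes/S5798_plan.md`, section (O): from the transvections `T(l x, x)` at all singular points
(`hS`) and `T(a, x')` for non-singular `a ⟂ x'` (`h2c`) to ALL transvections.
-/

set_option autoImplicit false
set_option linter.unusedSectionVars false
set_option linter.unusedVariables false
set_option linter.unusedSimpArgs false

noncomputable section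

namespace Cfsg.Agent.Lib.Helper11.SL6OLeaf
open Cfsg Matrix QuadraticMap Module Cfsg.Agent.Lib.Helper5 Cfsg.Agent.Lib.Helper5.SpMax
  Cfsg.Agent.Lib.Helper5.TMCalc Cfsg.Agent.Lib.Helper5.OSL Cfsg.Agent.S5644.S5644aux

variable {F : Type*} [Field F] {n : ℕ}
variable (Qf : QuadraticForm F (Fin n → F))

/-- an element of a finite field of odd order outside `{0, c}` -/
lemma o2f_exists_avoid [Fintype F] (hodd : Odd (Fintype.card F)) (c : F) :
    ∃ b : F, b ≠ 0 ∧ b ≠ c := by
  classical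
  have hcard : 2 < Fintype.card F := by
    have h1 := Fintype.one_lt_card (α := F)
    obtain ⟨k, hk⟩ := hodd
    omega
  by_contra hcon
  push Not at hcon
  have h3 : ({0, c} : Finset F) = Finset.univ := by
    apply Finset.eq_univ_iff_forall.mpr
    intro b
    simp only [Finset.mem_insert, Finset.mem_singleton]
    by_cases hb : b = 0
    · left; exact hb
    · right; exact hcon b hb
  have h4 := Finset.card_le_two (a := (0 : F)) (b := c)
  rw [h3, Finset.card_univ] at h4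
  omega

/-- (2d): `x' ≠ 0` singular, `B(a,x') = 0`  ==>  `T(a, x')`. -/
theorem step_2d [Fintype F] (hodd : Odd (Fintype.card F)) (hnd : (polarBilin Qf).Nondegenerate)
    (h2 : (2 : F) ≠ 0) (hn : 5 ≤ n) {M : Subgroup (GL (Fin n) F)}
    (h2c : ∀ x' a : Fin n → F, x' ≠ 0 → Qf x' = 0 → Qf a ≠ 0 → polar Qf a x' = 0 → TT Qf M a x')
    (x' a : Fin n → F) (hx'0 : x' ≠ 0) (hx' : Qf x' = 0) (hax' : polar Qf a x' = 0) :
    TT Qf M a x' := by
  by_cases ha : Qf a = 0
  · obtain ⟨u, hu, hul⟩ := exists_ns Qf hnd (k := 1) (fun _ => bL Qf x') (by omega)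
    have hux' : polar Qf x' u = 0 := hul 0
    have hux'' : polar Qf u x' = 0 := by rw [polar_comm]; exact hux'
    obtain ⟨b, hb0, hb1⟩ := o2f_exists_avoid hodd (-(polar Qf a u) / Qf u)
    have hQ1 : Qf (a + b • u) ≠ 0 := by
      rw [Q_add, Q_smul, ha, polar_smul_right, smul_eq_mul]
      intro h
      have h3 : b * (b * Qf u + polar Qf a u) = 0 := by linear_combination h
      rcases mul_eq_zero.mp h3 with h4 | h4
      · exact hb0 h4
      · apply hb1
        field_simp
        linear_combination h4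
    have hQ2 : Qf (b • u) ≠ 0 := by
      rw [Q_smul]
      exact mul_ne_zero (mul_ne_zero hb0 hb0) hu
    have hp1 : polar Qf (a + b • u) x' = 0 := by
      rw [polar_add_left, polar_smul_left, hax', hux'', smul_zero, add_zero]
    have hp2 : polar Qf (b • u) x' = 0 := by
      rw [polar_smul_left, hux'', smul_zero]
    have h5 := TT_add_left Qf (h2c x' _ hx'0 hx' hQ1 hp1) (TT_neg_left Qf (h2c x' _ hx'0 hx' hQ2 hp2))
    have h6 : a + b • u + -(b • u) = a := by abel
    rwa [h6] at h5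
  · exact h2c x' a hx'0 hx' ha hax'

/-- (2e): `w` non-singular, `s w = 0`  ==>  `TM M s w`. -/
theorem step_2e [Fintype F] (hodd : Odd (Fintype.card F)) (hnd : (polarBilin Qf).Nondegenerate)
    (h2 : (2 : F) ≠ 0) (hn : 5 ≤ n) {M : Subgroup (GL (Fin n) F)}
    (hS : ∀ x : Fin n → F, x ≠ 0 → Qf x = 0 → ∀ l : F, TT Qf M (l • x) x)
    (h2c : ∀ x' a : Fin n → F, x' ≠ 0 → Qf x' = 0 → Qf a ≠ 0 → polar Qf a x' = 0 → TT Qf M a x')
    (x₀ : Fin n → F) (hx₀0 : x₀ ≠ 0) (hx₀ : Qf x₀ = 0)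
    (w : Fin n → F) (hw : Qf w ≠ 0) (s : (Fin n → F) →ₗ[F] F) (hsw : s w = 0) : TM M s w := by
  have hw0 : w ≠ 0 := by
    rintro rfl
    exact hw (QuadraticMap.map_zero Qf)
  -- a singular `x` with `B(x,w) ≠ 0`
  obtain ⟨x, hx, hxw⟩ : ∃ x : Fin n → F, Qf x = 0 ∧ polar Qf x w ≠ 0 := by
    by_cases h0 : polar Qf x₀ w = 0
    · obtain ⟨z, hz1, hz2⟩ := exists_both_ne Qf hnd x₀ w hx₀0 hw0
      have hz1' : polar Qf z x₀ ≠ 0 := by rw [polar_comm]; exact hz1
      refine ⟨z - (Qf z / polar Qf z x₀) • x₀, ?_, ?_⟩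
      · rw [Q_sub, Q_smul, hx₀, polar_smul_right, smul_eq_mul]
        field_simp
        ring
      · rw [polar_sub_left, polar_smul_left, h0, smul_zero, sub_zero, polar_comm]
        exact hz2
    · exact ⟨x₀, hx₀, h0⟩
  have hx0 : x ≠ 0 := by
    rintro rfl
    apply hxw
    rw [polar_zero_left]
  have hwx : polar Qf w x ≠ 0 := by rw [polar_comm]; exact hxw
  set μ : F := Qf w / polar Qf w x with hμ
  set x' : Fin n → F := w - μ • x with hx'def
  have hx' : Qf x' = 0 := by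
    rw [hx'def, Q_sub, Q_smul, hx, polar_smul_right, smul_eq_mul, hμ]
    field_simp
    ring
  have hxx' : polar Qf x x' = polar Qf x w := by
    rw [hx'def, polar_sub_right, polar_smul_right, pself, hx, mul_zero, smul_zero, sub_zero]
  have hx'0 : x' ≠ 0 := by
    intro h
    apply hxw
    rw [← hxx', h, polar_zero_right]
  -- the transvection `t`
  obtain ⟨_, t, htM, htv⟩ := hS x hx0 hx (μ / polar Qf x w)
  have htx' : (t : Matrix (Fin n) (Fin n) F) *ᵥ x' = w := by
    rw [htv, bL_apply, polar_smul_left, hxx', smul_eq_mul, div_mul_cancel₀ _ hxw, hx'def]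
    abel
  -- the functional `s ∘ t`
  set s' : (Fin n → F) →ₗ[F] F := s ∘ₗ Matrix.toLin' (t : Matrix (Fin n) (Fin n) F) with hs'
  have hs'x' : s' x' = 0 := by
    rw [hs', LinearMap.comp_apply, Matrix.toLin'_apply, htx', hsw]
  obtain ⟨p, hp⟩ := exists_repr Qf hnd s'
  have hpx' : polar Qf p x' = 0 := by rw [← hp, hs'x']
  have h3 : TT Qf M p x' := step_2d Qf hodd hnd h2 hn h2c x' p hx'0 hx' hpx'
  have h4 : TM M s' x' := TM_of_eq (fun v => by rw [bL_apply, hp]) h3
  have h5 := TM_conj htM h4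
  rw [htx'] at h5
  refine TM_of_eq (fun v => ?_) h5
  rw [LinearMap.comp_apply, Matrix.toLin'_apply, hs', LinearMap.comp_apply, Matrix.toLin'_apply,
    mul_inv_mulVec]

/-- **O-2def** (exact signature of `notes/S5798_O_leaves.lean`): all transvections. -/
theorem step_2f [Fintype F] (hodd : Odd (Fintype.card F)) (hnd : (polarBilin Qf).Nondegenerate)
    (h2 : (2 : F) ≠ 0) (hn : 5 ≤ n) {M : Subgroup (GL (Fin n) F)}
    (hS : ∀ x : Fin n → F, x ≠ 0 → Qf x = 0 → ∀ l : F, TT Qf M (l • x) x)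
    (h2c : ∀ x' a : Fin n → F, x' ≠ 0 → Qf x' = 0 → Qf a ≠ 0 → polar Qf a x' = 0 → TT Qf M a x')
    (x₀ : Fin n → F) (hx₀0 : x₀ ≠ 0) (hx₀ : Qf x₀ = 0) :
    ∀ (a : Fin n → F) (s : (Fin n → F) →ₗ[F] F), s a = 0 → TM M s a := by
  intro a s hsa
  by_cases ha0 : a = 0
  · rw [ha0]
    exact TM_zero_center M s
  by_cases ha : Qf a = 0
  · obtain ⟨p, hp⟩ := exists_repr Qf hnd s
    have hpa : polar Qf p a = 0 := by rw [← hp, hsa]
    have h3 : TT Qf M p a := step_2d Qf hodd hnd h2 hn h2c a p ha0 ha hpa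
    exact TM_of_eq (fun v => by rw [bL_apply, hp]) h3
  · exact step_2e Qf hodd hnd h2 hn hS h2c x₀ hx₀0 hx₀ a ha s hsa

end Cfsg.Agent.Lib.Helper11.SL6OLeaf
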