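import Cfsg.Agent.Lib.Helper11.SLMQ6c
import Cfsg.Agent.Lib.Helper17.SLMDefs
import Cfsg.Agent.Lib.Helper4.AschA4
import Cfsg.Agent.Lib.Helper4.SLMT56

/-!
# SLnMax stage 2, leaf Q6 `field_three_four` (helper11): the exact leaf

`q = 4`, `K ≅ F_64` inside `M_3(F)`: `N(K) ∩ SL_3(4) ≤ P (GL_3(2) · Z) P⁻¹`.
-/

set_option autoImplicit false

namespace Cfsg.Agent.Lib.Helper11.SLMLeaf

open Cfsg.Geo Matrix Module Cfsg.Agent.Lib.Helper17.SLM

variable {F : Type*} [Field F] [Fintype F]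

/-- the prime subfield of a field with four elements -/
def primeSub (hq : Fintype.card F = 4) : Subfield F where
  carrier := {x | x ^ 2 = x}
  mul_mem' := by
    intro a b ha hb
    simp only [Set.mem_setOf_eq] at ha hb ⊢
    rw [mul_pow, ha, hb]
  one_mem' := by simp
  add_mem' := by
    intro a b ha hb
    simp only [Set.mem_setOf_eq] at ha hb ⊢
    have h2 := SLMQ6.two_eq_zero_of_card hq
    linear_combination ha + hb + a * b * h2
  zero_mem' := by simp
  neg_mem' := by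
    intro a ha
    simp only [Set.mem_setOf_eq] at ha ⊢
    have h2 := SLMQ6.two_eq_zero_of_card hq
    linear_combination ha + a * h2
  inv_mem' := by
    intro a ha
    simp only [Set.mem_setOf_eq] at ha ⊢
    rw [inv_pow, ha]

theorem mem_primeSub (hq : Fintype.card F = 4) (x : F) : x ∈ primeSub hq ↔ x = 0 ∨ x = 1 := by
  change x ^ 2 = x ↔ _
  constructor
  · intro h
    have : x * (x - 1) = 0 := by linear_combination h
    rcases mul_eq_zero.1 this with h | h
    · exact Or.inl h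
    · exact Or.inr (sub_eq_zero.1 h)
  · rintro (h | h) <;> rw [h] <;> simp

theorem card_primeSub (hq : Fintype.card F = 4) : Nat.card (primeSub hq) = 2 := by
  rw [Nat.card_eq_two_iff]
  refine ⟨⟨0, (primeSub hq).zero_mem⟩, ⟨1, (primeSub hq).one_mem⟩, ?_, ?_⟩
  · intro h
    exact zero_ne_one (congrArg Subtype.val h)
  · ext x
    simp only [Set.mem_insert_iff, Set.mem_singleton_iff, Set.mem_univ, iff_true]
    rcases (mem_primeSub hq x.1).1 x.2 with h | h
    · exact Or.inl (Subtype.ext h)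
    · exact Or.inr (Subtype.ext h)

/-- the instance-free core: a finite field `L` mapping onto `K` -/
theorem field_three_four_core (hq : Fintype.card F = 4) {K : Subalgebra F (Matrix (Fin 3) (Fin 3) F)}
    {L : Type*} [Field L] [Fintype L] (hL : Fintype.card L = 64) (ι : F →+* L)
    (φ : L →+* Matrix (Fin 3) (Fin 3) F)
    (hφι : ∀ c : F, φ (ι c) = c • (1 : Matrix (Fin 3) (Fin 3) F))
    (hφK : ∀ k : Matrix (Fin 3) (Fin 3) F, k ∈ K ↔ ∃ x : L, φ x = k) :
    ∃ (F₀ : Subfield F) (P : GL (Fin 3) F), Fintype.card F = Nat.card F₀ ^ 2 ∧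
      subalgebraNormalizer K ⊓ specialLinear (Fin 3) F ≤ subfieldSubgroup F₀ P := by
  obtain ⟨P, hP⟩ := SLMQ6.general hq hL ι φ hφι (primeSub hq)
  refine ⟨primeSub hq, P, by rw [hq, card_primeSub hq]; norm_num, ?_⟩
  intro g hg
  obtain ⟨hgN, hgS⟩ := Subgroup.mem_inf.1 hg
  have hdet : (g : Matrix (Fin 3) (Fin 3) F).det = 1 :=
    (Cfsg.Agent.Lib.Helper4.SLMLeaf.mem_specialLinear_iff g).1 hgS
  have hnorm : ∀ x : L, ∃ y : L, (g : Matrix (Fin 3) (Fin 3) F) * φ x *
      ((g⁻¹ : GL (Fin 3) F) : Matrix (Fin 3) (Fin 3) F) = φ y := by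
    intro x
    have h1 : φ x ∈ K := (hφK _).2 ⟨x, rfl⟩
    obtain ⟨y, hy⟩ := (hφK _).1 ((hgN (φ x)).1 h1)
    exact ⟨y, hy.symm⟩
  obtain ⟨μ, hμ, R, hR, hgR⟩ := hP g hnorm hdet
  have hx : P⁻¹ * g * P ∈ (Matrix.GeneralLinearGroup.map ((primeSub hq).subtype : (primeSub hq) →+* F)).range
      ⊔ scalars (Fin 3) F := by
    apply Cfsg.Agent.Lib.Helper4.AschLeaf.mem_range_sup_scalars (primeSub hq) _ μ hμ
    intro i j
    refine ⟨R i j, hR i j, ?_⟩
    rw [hgR, Matrix.smul_apply, smul_eq_mul]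
  unfold subfieldSubgroup
  rw [Subgroup.mem_map]
  refine ⟨P⁻¹ * g * P, hx, ?_⟩
  change P * (P⁻¹ * g * P) * P⁻¹ = g
  group

/-- Q6 (S5775).  `q = 4`, `K ≅ F_64` inside `M_3(F)`: `N(K) ∩ SL_3(4) ≤ P (GL_3(2) · Z) P⁻¹`. -/
theorem field_three_four (hq : Fintype.card F = 4) {K : Subalgebra F (Matrix (Fin 3) (Fin 3) F)}
    (hK : IsFieldSubalgebra 3 K) :
    ∃ (F₀ : Subfield F) (P : GL (Fin 3) F), Fintype.card F = Nat.card F₀ ^ 2 ∧
      subalgebraNormalizer K ⊓ specialLinear (Fin 3) F ≤ subfieldSubgroup F₀ P := by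
  classical
  haveI : Fintype ↥K := Fintype.ofFinite _
  have hcardK : Fintype.card ↥K = 64 := by
    rw [← Nat.card_eq_fintype_card, Module.natCard_eq_pow_finrank (K := F) (V := ↥K), hK.finrank_eq,
      Nat.card_eq_fintype_card, hq]
    norm_num
  let instCR : CommRing ↥K :=
    { (inferInstance : Ring ↥K) with
      mul_comm := fun x y => Subtype.ext (hK.comm x.1 x.2 y.1 y.2) }
  have : IsDomain ↥K := by
    have : NoZeroDivisors ↥K := by
      refine ⟨fun {x y} hxy => ?_⟩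
      by_cases hx : x = 0
      · exact Or.inl hx
      · right
        have hx' : (x : Matrix (Fin 3) (Fin 3) F) ≠ 0 := fun h => hx (Subtype.ext h)
        obtain ⟨x', hx'K, hxx'⟩ := hK.inv x.1 x.2 hx'
        have hx'x : x' * (x : Matrix (Fin 3) (Fin 3) F) = 1 := by
          rw [hK.comm x' hx'K x.1 x.2]; exact hxx'
        have hxy' : (x : Matrix (Fin 3) (Fin 3) F) * (y : Matrix (Fin 3) (Fin 3) F) = 0 :=
          congrArg Subtype.val hxy
        apply Subtype.ext
        calc (y : Matrix (Fin 3) (Fin 3) F) = (x' * x) * y := by rw [hx'x, one_mul]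
          _ = x' * (x * y) := by rw [mul_assoc]
          _ = 0 := by rw [hxy', mul_zero]
    exact NoZeroDivisors.to_isDomain ↥K
  let instFld : Field ↥K := Fintype.fieldOfDomain ↥K
  refine field_three_four_core hq (L := ↥K) hcardK (algebraMap F ↥K) K.val.toRingHom ?_ ?_
  · intro c
    change ((algebraMap F ↥K c : ↥K) : Matrix (Fin 3) (Fin 3) F) = _
    rw [Subalgebra.coe_algebraMap, Algebra.algebraMap_eq_smul_one]
  · intro k
    constructor
    · intro hk
      exact ⟨⟨k, hk⟩, rfl⟩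
    · rintro ⟨x, rfl⟩
      exact x.2

end Cfsg.Agent.Lib.Helper11.SLMLeaf
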