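import Mathlib

/-!
# SLnMax stage 2, leaf Q6 `field_three_four` (helper11): part (a), scalar facts

`F` a field with four elements, `L` a field of characteristic two with a root `s` of `X³ + X + 1`.
-/

set_option autoImplicit false

namespace Cfsg.Agent.Lib.Helper11.SLMQ6

section fieldF

variable {F : Type*} [Field F] [Fintype F]

theorem two_eq_zero_of_card (hq : Fintype.card F = 4) : (2 : F) = 0 := by
  have h4 : ((Fintype.card F : ℕ) : F) = 0 := Nat.cast_card_eq_zero F
  rw [hq] at h4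
  have h22 : (2 : F) * 2 = 0 := by
    have : ((4 : ℕ) : F) = 2 * 2 := by norm_num
    rw [← this]; exact h4
  rcases mul_eq_zero.1 h22 with h | h <;> exact h

theorem pow_four_of_card (hq : Fintype.card F = 4) (x : F) : x ^ 4 = x := by
  have := FiniteField.pow_card x
  rwa [hq] at this

theorem cube_eq_one_of_card (hq : Fintype.card F = 4) {x : F} (hx : x ≠ 0) : x ^ 3 = 1 := by
  have h4 := pow_four_of_card hq x
  have : x * (x ^ 3 - 1) = 0 := by linear_combination h4
  rcases mul_eq_zero.1 this with h | h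
  · exact absurd h hx
  · exact sub_eq_zero.1 h

theorem no_root_of_card (hq : Fintype.card F = 4) (x : F) : x ^ 3 + x + 1 ≠ 0 := by
  have h2 := two_eq_zero_of_card hq
  intro h
  by_cases hx : x = 0
  · subst hx
    norm_num at h
  · have h3 := cube_eq_one_of_card hq hx
    apply hx
    linear_combination h - h3 - h2

theorem exists_omega_of_card (hq : Fintype.card F = 4) : ∃ ω : F, ω ≠ 0 ∧ ω ≠ 1 := by
  classical
  by_contra hcon
  push Not at hcon
  have hsub : (Finset.univ : Finset F) ⊆ {0, 1} := by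
    intro x _
    by_cases hx : x = 0
    · simp [hx]
    · simp [hcon x hx]
  have := Finset.card_le_card hsub
  rw [Finset.card_univ, hq] at this
  have h2 : ({0, 1} : Finset F).card ≤ 2 := Finset.card_le_two
  omega

theorem omega_sq (hq : Fintype.card F = 4) {ω : F} (h0 : ω ≠ 0) (h1 : ω ≠ 1) : ω ^ 2 = ω + 1 := by
  have h2 := two_eq_zero_of_card hq
  have h3 := cube_eq_one_of_card hq h0
  have : (ω - 1) * (ω ^ 2 - (ω + 1)) = 0 := by linear_combination h3 + (1 - ω ^ 2) * h2
  rcases mul_eq_zero.1 this with h | h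
  · exact absurd (sub_eq_zero.1 h) h1
  · exact sub_eq_zero.1 h

end fieldF

section fieldL

variable {L : Type*} [Field L]

/-- the roots of `X³ + X + 1` in characteristic two are `s, s², s⁴` -/
theorem root_cases (h2 : (2 : L) = 0) {s t : L} (hs : s ^ 3 = s + 1) (ht : t ^ 3 = t + 1) :
    t = s ∨ t = s ^ 2 ∨ t = s ^ 4 := by
  have h : (t - s) * ((t - s ^ 2) * (t - s ^ 4)) = 0 := by
    linear_combination ht + (-t^2*s + t*s^3 + t*s^2 + t*s + 3*t - s^4 - s^2 - s - 1) * hs
      + (-t^2*s^2 - t^2*s + t*s^2 + 2*t*s + 2*t - s^2 - s) * h2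
  rcases mul_eq_zero.1 h with h | h
  · exact Or.inl (sub_eq_zero.1 h)
  · rcases mul_eq_zero.1 h with h | h
    · exact Or.inr (Or.inl (sub_eq_zero.1 h))
    · exact Or.inr (Or.inr (sub_eq_zero.1 h))

theorem pow_seven_of_root (h2 : (2 : L) = 0) {s : L} (hs : s ^ 3 = s + 1) : s ^ 7 = 1 := by
  linear_combination (s ^ 4 + s ^ 2 + s + 1) * hs + (s ^ 2 + s) * h2

/-- the seventh roots of unity are the powers of `s` -/
theorem root_seven (h2 : (2 : L) = 0) {s w : L} (hs : s ^ 3 = s + 1) (hw : w ^ 7 = 1) :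
    ∃ l : ℕ, w = s ^ l := by
  have h7 := pow_seven_of_root h2 hs
  have h : (w - 1) * ((w ^ 3 - (w + 1)) * (w ^ 3 + w ^ 2 + 1)) = 0 := by
    linear_combination hw + (1 - w ^ 5) * h2
  rcases mul_eq_zero.1 h with h | h
  · exact ⟨0, by rw [pow_zero]; exact sub_eq_zero.1 h⟩
  rcases mul_eq_zero.1 h with h | h
  · rcases root_cases h2 hs (sub_eq_zero.1 h) with h | h | h
    · exact ⟨1, by rw [pow_one]; exact h⟩
    · exact ⟨2, h⟩
    · exact ⟨4, h⟩
  · have hw0 : w ≠ 0 := by
      intro h0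
      rw [h0] at hw
      norm_num at hw
    have hv : (w⁻¹) ^ 3 = w⁻¹ + 1 := by
      field_simp
      linear_combination h - (w ^ 2 + w ^ 3) * h2
    rcases root_cases h2 hs hv with h' | h' | h'
    · refine ⟨6, ?_⟩
      have h1 : w * s = 1 := by rw [← h']; exact mul_inv_cancel₀ hw0
      linear_combination (-w) * h7 + s ^ 6 * h1
    · refine ⟨5, ?_⟩
      have h1 : w * s ^ 2 = 1 := by rw [← h']; exact mul_inv_cancel₀ hw0
      linear_combination (-w) * h7 + s ^ 5 * h1
    · refine ⟨3, ?_⟩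
      have h1 : w * s ^ 4 = 1 := by rw [← h']; exact mul_inv_cancel₀ hw0
      linear_combination (-w) * h7 + s ^ 3 * h1

/-- the cube roots of unity are `1, ω, ω + 1` -/
theorem root_three (h2 : (2 : L) = 0) {ω z : L} (hω : ω ^ 2 = ω + 1) (hz : z ^ 3 = 1) :
    z = 1 ∨ z = ω ∨ z = ω + 1 := by
  have h : (z - 1) * ((z - ω) * (z - ω - 1)) = 0 := by
    linear_combination hz + (z - 1) * hω + (-z ^ 2 * ω - z ^ 2 + 2 * z * ω + z - ω) * h2
  rcases mul_eq_zero.1 h with h | h
  · exact Or.inl (sub_eq_zero.1 h)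
  · rcases mul_eq_zero.1 h with h | h
    · exact Or.inr (Or.inl (sub_eq_zero.1 h))
    · refine Or.inr (Or.inr ?_)
      linear_combination h

theorem two_eq_zero_of_card64 [Fintype L] (hL : Fintype.card L = 64) : (2 : L) = 0 := by
  have h : ((Fintype.card L : ℕ) : L) = 0 := Nat.cast_card_eq_zero L
  rw [hL] at h
  have h6 : (2 : L) ^ 6 = 0 := by
    have : ((64 : ℕ) : L) = 2 ^ 6 := by norm_num
    rw [← this]; exact h
  exact pow_eq_zero_iff (by norm_num) |>.1 h6

/-- a field with 64 elements contains a root of `X³ + X + 1` -/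
theorem exists_root_of_card64 [Fintype L] (hL : Fintype.card L = 64) : ∃ s : L, s ^ 3 = s + 1 := by
  classical
  have h2 := two_eq_zero_of_card64 hL
  have hcard : Fintype.card Lˣ = 63 := by rw [Fintype.card_units, hL]
  have : Fact (Nat.Prime 7) := ⟨by norm_num⟩
  obtain ⟨x, hx⟩ := exists_prime_orderOf_dvd_card 7 (show 7 ∣ Fintype.card Lˣ by rw [hcard]; norm_num)
  have hx7 : ((x : Lˣ) : L) ^ 7 = 1 := by
    rw [← Units.val_pow_eq_pow_val, ← hx, pow_orderOf_eq_one, Units.val_one]
  have hx1 : ((x : Lˣ) : L) ≠ 1 := by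
    intro h
    have : x = 1 := Units.ext h
    rw [this, orderOf_one] at hx
    norm_num at hx
  set w : L := (x : L) with hw
  have h : (w - 1) * ((w ^ 3 - (w + 1)) * (w ^ 3 + w ^ 2 + 1)) = 0 := by
    linear_combination hx7 + (1 - w ^ 5) * h2
  rcases mul_eq_zero.1 h with h | h
  · exact absurd (sub_eq_zero.1 h) hx1
  rcases mul_eq_zero.1 h with h | h
  · exact ⟨w, sub_eq_zero.1 h⟩
  · have hw0 : w ≠ 0 := by
      intro h0
      rw [h0] at hx7
      norm_num at hx7
    refine ⟨w⁻¹, ?_⟩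
    field_simp
    linear_combination h - (w ^ 2 + w ^ 3) * h2

end fieldL

section indep

variable {F : Type*} [Field F] [Fintype F] {L : Type*} [Field L]

theorem lin_two (hq : Fintype.card F = 4) (ι : F →+* L) {s : L} (hs : s ^ 3 = s + 1) (α β : F)
    (h : ι α + ι β * s = 0) : α = 0 ∧ β = 0 := by
  have h2 : (2 : L) = 0 := by
    have h2F := two_eq_zero_of_card hq
    have h : (2 : L) = ι 2 := (map_ofNat ι 2).symm
    rw [h, h2F, map_zero]
  by_cases hβ : β = 0
  · subst hβ
    rw [map_zero, zero_mul, add_zero] at h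
    exact ⟨(map_eq_zero ι).1 h, rfl⟩
  · exfalso
    have hβ' : ι β ≠ 0 := fun h0 => hβ ((map_eq_zero ι).1 h0)
    have hsy : s = - ι (α / β) := by
      rw [map_div₀]
      field_simp
      linear_combination h
    apply no_root_of_card hq (α / β)
    apply ι.injective
    rw [map_zero, map_add, map_add, map_pow, map_one]
    have : ι (α / β) = - s := by rw [hsy, neg_neg]
    rw [this]
    linear_combination (-1 : L) * hs - s * h2

theorem lin_three (hq : Fintype.card F = 4) (ι : F →+* L) {s : L} (hs : s ^ 3 = s + 1) (a b c : F)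
    (h : ι a + ι b * s + ι c * s ^ 2 = 0) : a = 0 ∧ b = 0 ∧ c = 0 := by
  have h2F := two_eq_zero_of_card hq
  have key : ι (c ^ 2 - a * b) + ι (a * c + c ^ 2 - b ^ 2) * s = 0 := by
    simp only [map_sub, map_add, map_mul, map_pow]
    linear_combination (ι c * s - ι b) * h - (ι c) ^ 2 * hs
  obtain ⟨h1, h3⟩ := lin_two hq ι hs _ _ key
  by_cases hc : c = 0
  · subst hc
    rw [map_zero, zero_mul, add_zero] at h
    obtain ⟨ha, hb⟩ := lin_two hq ι hs _ _ h
    exact ⟨ha, hb, rfl⟩
  · exfalso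
    apply no_root_of_card hq (b / c)
    field_simp
    linear_combination (-b) * h3 + c * h1 + (b * c ^ 2 + c ^ 3) * h2F + (a * b * c - c ^ 3) * h2F

end indep

end Cfsg.Agent.Lib.Helper11.SLMQ6
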