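import Cfsg.Agent.Lib.Helper11.SLMQ6a

/-!
# SLnMax stage 2, leaf Q6 `field_three_four` (helper11): part (b), the normalised situation

`φ : L →+* M_3(F)` with `φ s = C` the companion matrix of `X³ + X + 1`.
-/

set_option autoImplicit false

namespace Cfsg.Agent.Lib.Helper11.SLMQ6

open Matrix

variable {F : Type*} [Field F]

/-- companion matrix of `X³ + X + 1` -/
def Cm (F : Type*) [Field F] : Matrix (Fin 3) (Fin 3) F := !![0, 0, 1; 1, 0, 1; 0, 1, 0]

/-- the matrix of the Frobenius `x ↦ x²` of `F_8` in the basis `1, s, s²` -/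
def Am (F : Type*) [Field F] : Matrix (Fin 3) (Fin 3) F := !![1, 0, 0; 0, 0, 1; 0, 1, 1]

/-- its inverse -/
def Am' (F : Type*) [Field F] : Matrix (Fin 3) (Fin 3) F := !![1, 0, 0; 0, 1, 1; 0, 1, 0]

theorem Am_mul_Am' (h2 : (2 : F) = 0) : Am F * Am' F = 1 := by
  ext i j
  fin_cases i <;> fin_cases j <;> simp [Am, Am', Matrix.mul_apply, Fin.sum_univ_three] <;>
    first | linear_combination h2 | linear_combination (-1 : F) * h2

theorem Am'_mul_Am (h2 : (2 : F) = 0) : Am' F * Am F = 1 := by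
  ext i j
  fin_cases i <;> fin_cases j <;> simp [Am, Am', Matrix.mul_apply, Fin.sum_univ_three] <;>
    first | linear_combination h2 | linear_combination (-1 : F) * h2

theorem Am_mul_Cm (h2 : (2 : F) = 0) : Am F * Cm F = Cm F ^ 2 * Am F := by
  rw [pow_two]
  ext i j
  fin_cases i <;> fin_cases j <;> simp [Am, Cm, Matrix.mul_apply, Fin.sum_univ_three] <;>
    first | linear_combination h2 | linear_combination (-1 : F) * h2

theorem det_Am' (h2 : (2 : F) = 0) : (Am' F).det = 1 := by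
  rw [Matrix.det_fin_three]
  simp [Am']
  first | linear_combination h2 | linear_combination (-1 : F) * h2

theorem Cm_pow_three : Cm F ^ 3 = Cm F + 1 := by
  rw [pow_succ, pow_two]
  ext i j
  fin_cases i <;> fin_cases j <;> simp [Cm, Matrix.mul_apply, Fin.sum_univ_three]

/-- matrices with entries in the subfield `F₀` -/
def RatM (F₀ : Subfield F) (X : Matrix (Fin 3) (Fin 3) F) : Prop := ∀ i j, X i j ∈ F₀

theorem ratM_one (F₀ : Subfield F) : RatM F₀ 1 := by
  intro i j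
  by_cases h : i = j
  · rw [h, Matrix.one_apply_eq]; exact F₀.one_mem
  · rw [Matrix.one_apply_ne h]; exact F₀.zero_mem

theorem ratM_mul {F₀ : Subfield F} {X Y : Matrix (Fin 3) (Fin 3) F} (hX : RatM F₀ X) (hY : RatM F₀ Y) :
    RatM F₀ (X * Y) := by
  intro i j
  rw [Matrix.mul_apply]
  exact F₀.sum_mem (fun k _ => F₀.mul_mem (hX i k) (hY k j))

theorem ratM_pow {F₀ : Subfield F} {X : Matrix (Fin 3) (Fin 3) F} (hX : RatM F₀ X) (n : ℕ) :
    RatM F₀ (X ^ n) := by
  induction n with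
  | zero => rw [pow_zero]; exact ratM_one F₀
  | succ n ih => rw [pow_succ]; exact ratM_mul ih hX

theorem ratM_Cm (F₀ : Subfield F) : RatM F₀ (Cm F) := by
  intro i j
  fin_cases i <;> fin_cases j <;> simp [Cm, F₀.one_mem, F₀.zero_mem]

theorem ratM_Am (F₀ : Subfield F) : RatM F₀ (Am F) := by
  intro i j
  fin_cases i <;> fin_cases j <;> simp [Am, F₀.one_mem, F₀.zero_mem]

/-- the centraliser of the companion matrix consists of the polynomials in it -/
theorem centralizer_Cm {c : Matrix (Fin 3) (Fin 3) F} (hc : c * Cm F = Cm F * c) :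
    c = c 0 0 • (1 : Matrix (Fin 3) (Fin 3) F) + c 1 0 • Cm F + c 2 0 • Cm F ^ 2 := by
  have e := fun i j => congrFun (congrFun hc i) j
  have E1 := e 0 0
  have E2 := e 1 0
  have E3 := e 2 0
  have E4 := e 0 1
  have E5 := e 1 1
  have E6 := e 2 1
  simp [Cm, Matrix.mul_apply, Fin.sum_univ_three] at E1 E2 E3 E4 E5 E6
  rw [pow_two]
  ext i j
  fin_cases i <;> fin_cases j <;>
    simp [Cm, Matrix.mul_apply, Fin.sum_univ_three, Matrix.one_apply] <;>
    first
    | linear_combination E1 | linear_combination E2 | linear_combination E3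
    | linear_combination E4 + E3 | linear_combination E5 + E1 + E3 | linear_combination E6 + E2

section norm

variable [Fintype F] {L : Type*} [Field L] [Fintype L]

theorem phi_poly (ι : F →+* L) (φ : L →+* Matrix (Fin 3) (Fin 3) F)
    (hφι : ∀ c : F, φ (ι c) = c • (1 : Matrix (Fin 3) (Fin 3) F)) (s : L) (x0 x1 x2 : F) :
    φ (ι x0 + ι x1 * s + ι x2 * s ^ 2) = x0 • (1 : Matrix (Fin 3) (Fin 3) F) + x1 • φ s + x2 • φ s ^ 2 := by
  rw [map_add, map_add, map_mul, map_mul, map_pow, hφι, hφι, hφι, Matrix.smul_mul, Matrix.smul_mul,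
    Matrix.one_mul, Matrix.one_mul]

theorem det_omega_add_Cm (hq : Fintype.card F = 4) {ω : F} (h0 : ω ≠ 0) (h1 : ω ≠ 1) :
    (ω • (1 : Matrix (Fin 3) (Fin 3) F) + Cm F).det = ω := by
  have h2 := two_eq_zero_of_card hq
  have hω := omega_sq hq h0 h1
  rw [Matrix.det_fin_three]
  simp [Cm]
  first | linear_combination (ω + 1) * hω + h2 | linear_combination (ω + 1) * hω - 3 * h2

/-- elements of norm one are products of a power of `s` and a scalar -/
theorem norm_one (hq : Fintype.card F = 4) (hL : Fintype.card L = 64) (ι : F →+* L)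
    (φ : L →+* Matrix (Fin 3) (Fin 3) F)
    (hφι : ∀ c : F, φ (ι c) = c • (1 : Matrix (Fin 3) (Fin 3) F)) {s : L} (hs : s ^ 3 = s + 1)
    (hφs : φ s = Cm F) {k : L} (hk : (φ k).det = 1) :
    ∃ μ : F, μ ≠ 0 ∧ ∃ l : ℕ, φ k = μ • Cm F ^ l := by
  classical
  have h2 := two_eq_zero_of_card hq
  have h2L := two_eq_zero_of_card64 hL
  obtain ⟨ω, h0, h1⟩ := exists_omega_of_card hq
  have hω := omega_sq hq h0 h1
  let D : Lˣ →* Fˣ := (Units.map (Matrix.detMonoidHom : Matrix (Fin 3) (Fin 3) F →* F)).comp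
    (Units.map (φ : L →* Matrix (Fin 3) (Fin 3) F))
  have hD : ∀ u : Lˣ, ((D u : Fˣ) : F) = (φ (u : L)).det := fun u => rfl
  -- an element of norm `ω`
  have hu0 : φ (ι ω + s) = ω • (1 : Matrix (Fin 3) (Fin 3) F) + Cm F := by
    rw [map_add, hφι, hφs]
  have hu0ne : ι ω + s ≠ 0 := by
    intro h
    have h' := det_omega_add_Cm hq h0 h1
    rw [← hu0, h, map_zero, Matrix.det_zero] at h'
    exact h0 h'.symm
  have hDu0 : D (Units.mk0 _ hu0ne) ≠ 1 := by
    intro h
    have h' := hD (Units.mk0 _ hu0ne)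
    rw [h, Units.val_one, Units.val_mk0, hu0, det_omega_add_Cm hq h0 h1] at h'
    exact h1 h'.symm
  -- cardinalities
  have hcL : Nat.card Lˣ = 63 := by rw [Nat.card_units, Nat.card_eq_fintype_card, hL]
  have hcF : Nat.card Fˣ = 3 := by rw [Nat.card_units, Nat.card_eq_fintype_card, hq]
  have hrange : Nat.card D.range = 3 := by
    have hdvd : Nat.card D.range ∣ 3 := by
      rw [← hcF]; exact Subgroup.card_subgroup_dvd_card _
    rcases (Nat.dvd_prime (by norm_num : Nat.Prime 3)).1 hdvd with h | h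
    · exfalso
      rw [Subgroup.card_eq_one] at h
      apply hDu0
      have : D (Units.mk0 _ hu0ne) ∈ D.range := ⟨_, rfl⟩
      rw [h] at this
      exact Subgroup.mem_bot.1 this
    · exact h
  have hker : Nat.card D.ker = 21 := by
    have h := Subgroup.card_mul_index D.ker
    rw [Subgroup.index_ker, hrange, hcL] at h
    omega
  -- `k` is a unit of norm one
  have hk0 : k ≠ 0 := by
    intro h
    rw [h, map_zero, Matrix.det_zero] at hk
    exact zero_ne_one hk
  have hmem : Units.mk0 k hk0 ∈ D.ker := by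
    rw [MonoidHom.mem_ker]
    apply Units.ext
    rw [hD, Units.val_mk0, hk, Units.val_one]
  have hpow : k ^ 21 = 1 := by
    have h := pow_card_eq_one' (G := D.ker) (x := ⟨Units.mk0 k hk0, hmem⟩)
    rw [hker] at h
    have h' := congrArg (fun x : D.ker => ((x : Lˣ) : L)) h
    simpa using h'
  -- split
  have hw : (k ^ 15) ^ 7 = 1 := by
    rw [← pow_mul]
    have : k ^ (15 * 7) = (k ^ 21) ^ 5 := by rw [← pow_mul]
    rw [this, hpow, one_pow]
  have hz : (k ^ 7) ^ 3 = 1 := by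
    rw [← pow_mul]; exact hpow
  have hkk : k = k ^ 15 * k ^ 7 := by
    rw [← pow_add]
    have : k ^ (15 + 7) = k ^ 21 * k := by rw [← pow_succ]
    rw [this, hpow, one_mul]
  obtain ⟨l, hl⟩ := root_seven h2L hs hw
  have hιω : (ι ω) ^ 2 = ι ω + 1 := by rw [← map_pow, hω, map_add, map_one]
  have hscal : ∃ μ : F, μ ≠ 0 ∧ k ^ 7 = ι μ := by
    rcases root_three h2L hιω hz with h | h | h
    · exact ⟨1, one_ne_zero, by rw [h, map_one]⟩
    · exact ⟨ω, h0, h⟩
    · refine ⟨ω + 1, ?_, by rw [h, map_add, map_one]⟩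
      intro h'
      apply h1
      linear_combination h' - h2
  obtain ⟨μ, hμ0, hμ⟩ := hscal
  refine ⟨μ, hμ0, l, ?_⟩
  rw [hkk, hl, hμ, map_mul, map_pow, hφs, hφι, Matrix.mul_smul, Matrix.mul_one]

theorem finish_aux (hq : Fintype.card F = 4) (hL : Fintype.card L = 64) (ι : F →+* L)
    (φ : L →+* Matrix (Fin 3) (Fin 3) F)
    (hφι : ∀ c : F, φ (ι c) = c • (1 : Matrix (Fin 3) (Fin 3) F)) {s : L} (hs : s ^ 3 = s + 1)
    (hφs : φ s = Cm F) (F₀ : Subfield F) (g : Matrix (Fin 3) (Fin 3) F) (hdet : g.det = 1)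
    (Ai Ai' : Matrix (Fin 3) (Fin 3) F) (e : ℕ) (h1 : Ai * Ai' = 1) (h1' : Ai' * Ai = 1)
    (hdet' : Ai'.det = 1) (hsc : Ai * Cm F = Cm F ^ e * Ai) (hrat : RatM F₀ Ai)
    (hg : g * Cm F = Cm F ^ e * g) :
    ∃ μ : F, μ ≠ 0 ∧ ∃ R : Matrix (Fin 3) (Fin 3) F, RatM F₀ R ∧ g = μ • R := by
  have hA' : Ai' * Cm F ^ e = Cm F * Ai' := by
    calc Ai' * Cm F ^ e = Ai' * Cm F ^ e * (Ai * Ai') := by rw [h1, mul_one]
      _ = Ai' * (Cm F ^ e * Ai) * Ai' := by simp only [mul_assoc]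
      _ = Ai' * (Ai * Cm F) * Ai' := by rw [hsc]
      _ = (Ai' * Ai) * Cm F * Ai' := by simp only [mul_assoc]
      _ = Cm F * Ai' := by rw [h1', one_mul]
  have hYC : (Ai' * g) * Cm F = Cm F * (Ai' * g) := by
    rw [mul_assoc, hg, ← mul_assoc, hA', mul_assoc]
  have hY := centralizer_Cm hYC
  have hY' : Ai' * g = φ (ι ((Ai' * g) 0 0) + ι ((Ai' * g) 1 0) * s + ι ((Ai' * g) 2 0) * s ^ 2) := by
    rw [phi_poly ι φ hφι, hφs]
    exact hY
  have hdetY : (φ (ι ((Ai' * g) 0 0) + ι ((Ai' * g) 1 0) * s + ι ((Ai' * g) 2 0) * s ^ 2)).det = 1 := by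
    rw [← hY', Matrix.det_mul, hdet', hdet, one_mul]
  obtain ⟨μ, hμ0, l, hl⟩ := norm_one hq hL ι φ hφι hs hφs hdetY
  refine ⟨μ, hμ0, Ai * Cm F ^ l, ratM_mul hrat (ratM_pow (ratM_Cm F₀) l), ?_⟩
  calc g = (Ai * Ai') * g := by rw [h1, one_mul]
    _ = Ai * (Ai' * g) := by rw [mul_assoc]
    _ = Ai * (μ • Cm F ^ l) := by rw [hY', hl]
    _ = μ • (Ai * Cm F ^ l) := by rw [Matrix.mul_smul]

/-- the normalised situation: `φ s = C` -/
theorem normalised (hq : Fintype.card F = 4) (hL : Fintype.card L = 64) (ι : F →+* L)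
    (φ : L →+* Matrix (Fin 3) (Fin 3) F)
    (hφι : ∀ c : F, φ (ι c) = c • (1 : Matrix (Fin 3) (Fin 3) F)) {s : L} (hs : s ^ 3 = s + 1)
    (hφs : φ s = Cm F) (F₀ : Subfield F) (g : GL (Fin 3) F)
    (hnorm : ∀ x : L, ∃ y : L, (g : Matrix (Fin 3) (Fin 3) F) * φ x *
      ((g⁻¹ : GL (Fin 3) F) : Matrix (Fin 3) (Fin 3) F) = φ y)
    (hdet : (g : Matrix (Fin 3) (Fin 3) F).det = 1) :
    ∃ μ : F, μ ≠ 0 ∧ ∃ R : Matrix (Fin 3) (Fin 3) F, RatM F₀ R ∧
      (g : Matrix (Fin 3) (Fin 3) F) = μ • R := by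
  have h2 := two_eq_zero_of_card hq
  have h2L := two_eq_zero_of_card64 hL
  obtain ⟨t, ht⟩ := hnorm s
  rw [hφs] at ht
  have ht3 : t ^ 3 = t + 1 := by
    apply φ.injective
    rw [map_pow, ← ht, Units.conj_pow, Cm_pow_three, map_add, map_one, ← ht, mul_add, add_mul, mul_one,
      Units.mul_inv]
  have hgC : ∀ e : ℕ, t = s ^ e → (g : Matrix (Fin 3) (Fin 3) F) * Cm F
      = Cm F ^ e * (g : Matrix (Fin 3) (Fin 3) F) := by
    intro e he
    rw [he, map_pow, hφs] at ht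
    rw [← ht, mul_assoc, Units.inv_mul, mul_one]
  rcases root_cases h2L hs ht3 with h | h | h
  · refine finish_aux hq hL ι φ hφι hs hφs F₀ _ hdet 1 1 1 (one_mul 1) (one_mul 1) Matrix.det_one ?_
      (ratM_one F₀) (hgC 1 (by rw [pow_one]; exact h))
    rw [one_mul, mul_one, pow_one]
  · exact finish_aux hq hL ι φ hφι hs hφs F₀ _ hdet (Am F) (Am' F) 2 (Am_mul_Am' h2) (Am'_mul_Am h2)
      (det_Am' h2) (Am_mul_Cm h2) (ratM_Am F₀) (hgC 2 h)
  · refine finish_aux hq hL ι φ hφι hs hφs F₀ _ hdet (Am F * Am F) (Am' F * Am' F) 4 ?_ ?_ ?_ ?_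
      (ratM_mul (ratM_Am F₀) (ratM_Am F₀)) (hgC 4 h)
    · calc Am F * Am F * (Am' F * Am' F) = Am F * (Am F * Am' F) * Am' F := by simp only [mul_assoc]
        _ = 1 := by rw [Am_mul_Am' h2, mul_one, Am_mul_Am' h2]
    · calc Am' F * Am' F * (Am F * Am F) = Am' F * (Am' F * Am F) * Am F := by simp only [mul_assoc]
        _ = 1 := by rw [Am'_mul_Am h2, mul_one, Am'_mul_Am h2]
    · rw [Matrix.det_mul, det_Am' h2, one_mul]
    · have hAC : Am F * Cm F = Cm F * Cm F * Am F := by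
        rw [← pow_two]; exact Am_mul_Cm (F := F) h2
      calc Am F * Am F * Cm F = Am F * (Am F * Cm F) := by rw [mul_assoc]
        _ = Am F * (Cm F * Cm F * Am F) := by rw [hAC]
        _ = (Am F * Cm F) * Cm F * Am F := by simp only [mul_assoc]
        _ = (Cm F * Cm F * Am F) * Cm F * Am F := by rw [hAC]
        _ = Cm F * Cm F * (Am F * Cm F) * Am F := by simp only [mul_assoc]
        _ = Cm F * Cm F * (Cm F * Cm F * Am F) * Am F := by rw [hAC]
        _ = Cm F ^ 4 * (Am F * Am F) := by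
            simp only [pow_succ, pow_zero, one_mul, mul_assoc]

end norm

end Cfsg.Agent.Lib.Helper11.SLMQ6
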