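import Cfsg.Agent.Lib.Helper11.SLMQ6b

/-!
# SLnMax stage 2, leaf Q6 `field_three_four` (helper11): part (c), reduction to the normalised situation
-/

set_option autoImplicit false

namespace Cfsg.Agent.Lib.Helper11.SLMQ6

open Matrix

variable {F : Type*} [Field F] [Fintype F] {L : Type*} [Field L] [Fintype L]

/-- the matrix with columns `e₀, S e₀, S² e₀` -/
def Pm (S : Matrix (Fin 3) (Fin 3) F) : Matrix (Fin 3) (Fin 3) F :=
  Matrix.of fun i j => (S ^ (j : ℕ)) i 0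

theorem Pm_mulVec (S : Matrix (Fin 3) (Fin 3) F) (x : Fin 3 → F) (i : Fin 3) :
    (Pm S *ᵥ x) i = (x 0 • (1 : Matrix (Fin 3) (Fin 3) F) + x 1 • S + x 2 • S ^ 2) i 0 := by
  simp [Pm, Matrix.mulVec, dotProduct, Fin.sum_univ_three]
  ring

theorem col_zero (φ : L →+* Matrix (Fin 3) (Fin 3) F) {k : L} (h : ∀ i, (φ k) i 0 = 0) : k = 0 := by
  by_contra hk
  have h1 : φ k⁻¹ * φ k = 1 := by rw [← map_mul, inv_mul_cancel₀ hk, map_one]
  have h00 := congrFun (congrFun h1 0) 0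
  rw [Matrix.mul_apply] at h00
  simp [h] at h00

theorem Pm_isUnit (hq : Fintype.card F = 4) (ι : F →+* L) (φ : L →+* Matrix (Fin 3) (Fin 3) F)
    (hφι : ∀ c : F, φ (ι c) = c • (1 : Matrix (Fin 3) (Fin 3) F)) {s : L} (hs : s ^ 3 = s + 1) :
    IsUnit (Pm (φ s)) := by
  rw [← Matrix.mulVec_injective_iff_isUnit]
  intro x y hxy
  have h0 : Pm (φ s) *ᵥ (x - y) = 0 := by rw [Matrix.mulVec_sub, hxy, sub_self]
  have hk : ι ((x - y) 0) + ι ((x - y) 1) * s + ι ((x - y) 2) * s ^ 2 = 0 := by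
    apply col_zero φ
    intro i
    rw [phi_poly ι φ hφι, ← Pm_mulVec, h0]
    rfl
  obtain ⟨e0, e1, e2⟩ := lin_three hq ι hs _ _ _ hk
  funext i
  fin_cases i
  · exact sub_eq_zero.1 e0
  · exact sub_eq_zero.1 e1
  · exact sub_eq_zero.1 e2

theorem S_mul_Pm {S : Matrix (Fin 3) (Fin 3) F} (hS : S ^ 3 = S + 1) : S * Pm S = Pm S * Cm F := by
  ext i j
  have hl : (S * Pm S) i j = (S ^ ((j : ℕ) + 1)) i 0 := by
    rw [Matrix.mul_apply, pow_succ', Matrix.mul_apply]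
    rfl
  rw [hl]
  fin_cases j
  · simp [Matrix.mul_apply, Fin.sum_univ_three, Cm, Pm]
  · simp [Matrix.mul_apply, Fin.sum_univ_three, Cm, Pm]
  · simp [Matrix.mul_apply, Fin.sum_univ_three, Cm, Pm, hS, add_comm]

/-- the general situation -/
theorem general (hq : Fintype.card F = 4) (hL : Fintype.card L = 64) (ι : F →+* L)
    (φ : L →+* Matrix (Fin 3) (Fin 3) F)
    (hφι : ∀ c : F, φ (ι c) = c • (1 : Matrix (Fin 3) (Fin 3) F)) (F₀ : Subfield F) :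
    ∃ P : GL (Fin 3) F, ∀ g : GL (Fin 3) F,
      (∀ x : L, ∃ y : L, (g : Matrix (Fin 3) (Fin 3) F) * φ x *
        ((g⁻¹ : GL (Fin 3) F) : Matrix (Fin 3) (Fin 3) F) = φ y) →
      (g : Matrix (Fin 3) (Fin 3) F).det = 1 →
      ∃ μ : F, μ ≠ 0 ∧ ∃ R : Matrix (Fin 3) (Fin 3) F, RatM F₀ R ∧
        ((P⁻¹ * g * P : GL (Fin 3) F) : Matrix (Fin 3) (Fin 3) F) = μ • R := by
  obtain ⟨s, hs⟩ := exists_root_of_card64 hL
  have hS3 : φ s ^ 3 = φ s + 1 := by rw [← map_pow, hs, map_add, map_one]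
  obtain ⟨P, hP⟩ := Pm_isUnit hq ι φ hφι hs
  have hSP : φ s * (P : Matrix (Fin 3) (Fin 3) F) = (P : Matrix (Fin 3) (Fin 3) F) * Cm F := by
    rw [hP]; exact S_mul_Pm hS3
  let φ' : L →+* Matrix (Fin 3) (Fin 3) F :=
    { toFun := fun x => ((P⁻¹ : GL (Fin 3) F) : Matrix (Fin 3) (Fin 3) F) * φ x * (P : Matrix (Fin 3) (Fin 3) F)
      map_one' := by rw [map_one, mul_one, Units.inv_mul]
      map_mul' := fun x y => by
        rw [map_mul]
        calc ((P⁻¹ : GL (Fin 3) F) : Matrix (Fin 3) (Fin 3) F) * (φ x * φ y) * (P : Matrix (Fin 3) (Fin 3) F)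
            = ((P⁻¹ : GL (Fin 3) F) : Matrix (Fin 3) (Fin 3) F) * φ x *
              ((P : Matrix (Fin 3) (Fin 3) F) * ((P⁻¹ : GL (Fin 3) F) : Matrix (Fin 3) (Fin 3) F)) * φ y *
                (P : Matrix (Fin 3) (Fin 3) F) := by
              rw [Units.mul_inv, mul_one]; simp only [mul_assoc]
          _ = _ := by simp only [mul_assoc]
      map_zero' := by rw [map_zero, mul_zero, zero_mul]
      map_add' := fun x y => by rw [map_add, mul_add, add_mul] }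
  have hφ' : ∀ x, φ' x = ((P⁻¹ : GL (Fin 3) F) : Matrix (Fin 3) (Fin 3) F) * φ x *
      (P : Matrix (Fin 3) (Fin 3) F) := fun x => rfl
  have hφ'ι : ∀ c : F, φ' (ι c) = c • (1 : Matrix (Fin 3) (Fin 3) F) := by
    intro c
    rw [hφ', hφι, Matrix.mul_smul, Matrix.smul_mul, mul_one, Units.inv_mul]
  have hφ's : φ' s = Cm F := by
    rw [hφ', mul_assoc, hSP, ← mul_assoc, Units.inv_mul, one_mul]
  refine ⟨P, fun g hnorm hdet => ?_⟩
  apply normalised hq hL ι φ' hφ'ι hs hφ's F₀ (P⁻¹ * g * P)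
  · intro x
    obtain ⟨y, hy⟩ := hnorm x
    refine ⟨y, ?_⟩
    rw [hφ', hφ', ← hy]
    have hinv : (P⁻¹ * g * P)⁻¹ = P⁻¹ * g⁻¹ * P := by group
    rw [hinv]
    simp only [Units.val_mul]
    calc ((P⁻¹ : GL (Fin 3) F) : Matrix (Fin 3) (Fin 3) F) * (g : Matrix (Fin 3) (Fin 3) F) * (P : Matrix (Fin 3) (Fin 3) F) *
          (((P⁻¹ : GL (Fin 3) F) : Matrix (Fin 3) (Fin 3) F) * φ x * (P : Matrix (Fin 3) (Fin 3) F)) *
          (((P⁻¹ : GL (Fin 3) F) : Matrix (Fin 3) (Fin 3) F) * ((g⁻¹ : GL (Fin 3) F) : Matrix (Fin 3) (Fin 3) F) * (P : Matrix (Fin 3) (Fin 3) F))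
        = ((P⁻¹ : GL (Fin 3) F) : Matrix (Fin 3) (Fin 3) F) * (g : Matrix (Fin 3) (Fin 3) F) *
          ((P : Matrix (Fin 3) (Fin 3) F) * ((P⁻¹ : GL (Fin 3) F) : Matrix (Fin 3) (Fin 3) F)) * φ x *
          ((P : Matrix (Fin 3) (Fin 3) F) * ((P⁻¹ : GL (Fin 3) F) : Matrix (Fin 3) (Fin 3) F)) *
          ((g⁻¹ : GL (Fin 3) F) : Matrix (Fin 3) (Fin 3) F) * (P : Matrix (Fin 3) (Fin 3) F) := by
            simp only [mul_assoc]
      _ = _ := by rw [Units.mul_inv, mul_one, mul_one]; simp only [mul_assoc]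
  · rw [Units.val_mul, Units.val_mul, Matrix.det_units_conj', hdet]

end Cfsg.Agent.Lib.Helper11.SLMQ6
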