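import Mathlib
import Cfsg.Prelude.Def_ClassicalGeometry
import Cfsg.Prelude.Def_GeometricClasses
import Cfsg.Agent.Lib.Helper2.SOTDefs
import Cfsg.Agent.Lib.Helper2.SOTGDefs
import Cfsg.Agent.Lib.Helper25.SpTK
import Cfsg.Agent.Lib.Helper11.SOTS123
import Cfsg.Agent.Lib.Helper11.SOTC

/-!
S5666 part (GA), leaf E of `notes/S5666_GA_leaves.lean` (exact signature): the opposite case,
`b₀ = α'' ⊗ 1` with `Fix α''` of dimension `a - 2`, and the resulting commuting root elements.
-/

set_option autoImplicit false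
set_option linter.unusedSectionVars false
set_option linter.unusedVariables false

namespace Cfsg.Agent.Lib.Helper11.SOTLeaf
open Matrix Module
open Cfsg.Agent.Lib.Helper25.Tens Cfsg.Agent.Lib.Helper25.SpT Cfsg.Agent.Lib.Helper19.OSub
open Cfsg.Agent.Lib.Helper2.SOT
open scoped Kronecker

variable {F : Type*} [Field F] [Fintype F] {a b : ℕ} {G : Matrix (Fin b) (Fin b) F}
  {M : Subgroup (GL (Idx a b) F)}

/-- `fV G` is alternating-skew when `G` is symmetric -/
theorem fV_skew (hG : Gᵀ = G) (v w : Idx a b → F) : fV G v w = - fV G w v := by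
  revert w
  revert v
  apply pt_induction
  · intro w; rw [fV_zero_left, fV_zero_right, neg_zero]
  · intro v v' hv hv' w; rw [fV_add_left, fV_add_right, hv, hv']; ring
  · intro x y
    apply pt_induction
    · rw [fV_zero_left, fV_zero_right, neg_zero]
    · intro w w' hw hw'; rw [fV_add_left, fV_add_right, hw, hw']; ring
    · intro x' y'; rw [fV_pt, fV_pt, sf_skew x x', fB_comm G hG y y']; ring

/-- contraction against `x'`: the nilpotent `NA x'` and the form against the fibre `x' ⊗ B` -/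
theorem exists_contr (G : Matrix (Fin b) (Fin b) F) (x' : Fin a → F) :
    ∀ w : Idx a b → F, ∃ c : Fin b → F,
      (NA x' : Matrix (Idx a b) (Idx a b) F) *ᵥ w = pt x' c ∧
        ∀ y : Fin b → F, fV G w (pt x' y) = fB G c y := by
  apply pt_induction
  · refine ⟨0, ?_, ?_⟩
    · rw [Matrix.mulVec_zero, pt_zero_right]
    · intro y; rw [fV_zero_left]; simp [fB]
  · rintro v w ⟨c1, h1, h1'⟩ ⟨c2, h2, h2'⟩
    refine ⟨c1 + c2, ?_, ?_⟩
    · rw [Matrix.mulVec_add, h1, h2, pt_add_right]
    · intro y; rw [fV_add_left, h1', h2', fB_add_left]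
  · intro u z
    refine ⟨sf u x' • z, ?_, ?_⟩
    · rw [NA_mulVec_pt, pt_smul_right]
    · intro y; rw [fV_pt, fB_smul_left]

/-- a vector perpendicular to the fibre `x' ⊗ B` is killed by `NA x'` (`G` nondegenerate) -/
theorem NA_mulVec_eq_zero_of_perp (hdet : G.det ≠ 0) (x' : Fin a → F) (w : Idx a b → F)
    (hw : ∀ y : Fin b → F, fV G w (pt x' y) = 0) :
    (NA x' : Matrix (Idx a b) (Idx a b) F) *ᵥ w = 0 := by
  obtain ⟨c, hc1, hc2⟩ := exists_contr G x' w
  have hc0 : c = 0 := by
    apply Matrix.eq_zero_of_vecMul_eq_zero hdet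
    ext l
    have := hc2 (Pi.single l 1)
    rw [hw] at this
    rw [Pi.zero_apply, this]
    unfold fB
    rw [Matrix.mulVec_single_one]
    rfl
  rw [hc1, hc0, pt_zero_right]

/-- the linear map `v ↦ (y ↦ fV G v (u y))` -/
def sotPerpMap (G : Matrix (Fin b) (Fin b) F) (u : (Fin b → F) →ₗ[F] (Idx a b → F)) :
    (Idx a b → F) →ₗ[F] Module.Dual F (Fin b → F) :=
  LinearMap.mk₂ F (fun v y => fV G v (u y))
    (fun v v' y => fV_add_left G v v' (u y))
    (fun c v y => by rw [fV_smul_left, smul_eq_mul])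
    (fun v y y' => by rw [map_add, fV_add_right])
    (fun c v y => by rw [map_smul, fV_smul_right, smul_eq_mul])

theorem sotPerpMap_apply (G : Matrix (Fin b) (Fin b) F) (u : (Fin b → F) →ₗ[F] (Idx a b → F))
    (v : Idx a b → F) (y : Fin b → F) : sotPerpMap G u v y = fV G v (u y) := rfl

theorem perpV_range (G : Matrix (Fin b) (Fin b) F) (u : (Fin b → F) →ₗ[F] (Idx a b → F)) :
    perpV G (LinearMap.range u) = LinearMap.ker (sotPerpMap G u) := by
  ext v
  rw [mem_perpV, LinearMap.mem_ker]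
  constructor
  · intro h
    apply LinearMap.ext
    intro y
    rw [sotPerpMap_apply, LinearMap.zero_apply]
    exact h (u y) ⟨y, rfl⟩
  · rintro h w ⟨y, rfl⟩
    have := LinearMap.congr_fun h y
    rwa [sotPerpMap_apply, LinearMap.zero_apply] at this

theorem finrank_ker_two_ge (Φ₁ Φ₂ : (Idx a b → F) →ₗ[F] Module.Dual F (Fin b → F)) :
    a * b ≤ finrank F ↥(LinearMap.ker Φ₁ ⊓ LinearMap.ker Φ₂) + 2 * b := by
  rw [← LinearMap.ker_prod]
  have h1 := LinearMap.finrank_range_add_finrank_ker (Φ₁.prod Φ₂)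
  have h2 : finrank F ↥(LinearMap.range (Φ₁.prod Φ₂)) ≤ 2 * b := by
    calc finrank F ↥(LinearMap.range (Φ₁.prod Φ₂))
        ≤ finrank F (Module.Dual F (Fin b → F) × Module.Dual F (Fin b → F)) :=
          Submodule.finrank_le _
      _ = 2 * b := by
          rw [Module.finrank_prod, Subspace.dual_finrank_eq, Module.finrank_fintype_fun_eq_card,
            Fintype.card_fin]
          ring
  have h3 : finrank F (Idx a b → F) = a * b := by
    rw [Module.finrank_fintype_fun_eq_card, Fintype.card_prod, Fintype.card_fin, Fintype.card_fin]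
  omega

/-- `dim Y ≥ ab - 2b` -/
theorem finrank_Yp_ge (G : Matrix (Fin b) (Fin b) F) (x : Fin a → F) (g : GL (Idx a b) F)
    (x' : Fin a → F) : a * b ≤ finrank F ↥(Yp G x g x') + 2 * b := by
  unfold Yp Rpp gim Rs
  rw [← LinearMap.range_comp, perpV_range, perpV_range]
  exact finrank_ker_two_ge _ _

theorem kron_one_mulVec_apply (A : Matrix (Fin a) (Fin a) F) (v : Idx a b → F) (i : Fin a)
    (l : Fin b) :
    ((A ⊗ₖ (1 : Matrix (Fin b) (Fin b) F)) *ᵥ v) (i, l) = (A *ᵥ fun i' => v (i', l)) i := by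
  simp only [Matrix.mulVec, dotProduct, Matrix.kroneckerMap_apply, Fintype.sum_prod_type,
    Matrix.one_apply]
  apply Finset.sum_congr rfl
  intro i' _
  rw [Finset.sum_eq_single l]
  · simp
  · intro l' _ hl'
    rw [if_neg (Ne.symm hl')]
    simp
  · simp

/-- a Kronecker product acting as `-1` on a fibre `x ⊗ B` has a scalar second factor -/
theorem scalar_of_neg_fibre (hb1 : 0 < b) (α : Matrix (Fin a) (Fin a) F)
    (β : Matrix (Fin b) (Fin b) F) (x : Fin a → F) (hx : x ≠ 0)
    (hneg : ∀ y : Fin b → F, pt (α *ᵥ x) (β *ᵥ y) = - pt x y) : ∃ s : F, β = s • 1 := by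
  obtain ⟨i, hi⟩ := Function.ne_iff.mp hx
  have hil : ∀ (y : Fin b → F) (l : Fin b), (α *ᵥ x) i * (β *ᵥ y) l = - (x i * y l) := by
    intro y l
    have := congrFun (hneg y) (i, l)
    simpa [pt] using this
  have hlam : (α *ᵥ x) i ≠ 0 := by
    intro h0
    have := hil (Pi.single ⟨0, hb1⟩ 1) ⟨0, hb1⟩
    rw [h0, zero_mul] at this
    simp at this
    exact hi this
  refine ⟨- x i / (α *ᵥ x) i, ?_⟩
  ext k l
  have := hil (Pi.single l 1) k
  have e1 : (β *ᵥ Pi.single l 1) k = β k l := by simp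
  rw [e1] at this
  rw [Matrix.smul_apply, Matrix.one_apply, smul_eq_mul]
  by_cases hkl : k = l
  · subst hkl
    simp only [Pi.single_eq_same, mul_one, if_true] at this ⊢
    field_simp
    linear_combination this
  · rw [if_neg hkl, mul_zero]
    rw [Pi.single_apply, if_neg hkl, mul_zero, neg_zero] at this
    rcases mul_eq_zero.1 this with h' | h'
    · exact absurd h' hlam
    · exact h'

/-- (E) plan Step 6. -/
theorem ending (h : MCtx a b G M) (h4 : 4 ≤ a) (x x' : Fin a → F) (hx : x ≠ 0) (hx' : x' ≠ 0)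
    (g : GL (Idx a b) F) (hg : g ∈ M) (hK : Kp x g x' = ⊥) (b₀ : GL (Idx a b) F)
    (hbK : b₀ ∈ KG a b F) (hbS : b₀ ∈ SpV G) (hfix : ∀ v ∈ Yp G x g x', mv b₀ v = v)
    (hneg : ∀ y : Fin b → F, mv b₀ (pt x y) = - pt x y) :
    ∃ x₄ : Fin a → F, x₄ ≠ 0 ∧ ∀ c c' : F,
      Commute (kA x₄ c : GL (Idx a b) F) (g * kA x' c' * g⁻¹) := by
  obtain ⟨α, β, hb₀⟩ := hbK
  have hb1 : 0 < b := by have := h.hb; omega
  have hb3 : 3 ≤ b := h.hb
  -- Step 1: `b₀ = A ⊗ 1`
  have hneg' : ∀ y : Fin b → F,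
      pt ((α : Matrix (Fin a) (Fin a) F) *ᵥ x) ((β : Matrix (Fin b) (Fin b) F) *ᵥ y) = - pt x y := by
    intro y
    rw [← hneg y]
    unfold mv
    rw [hb₀, kron_mulVec_pt]
  obtain ⟨s, hs⟩ := scalar_of_neg_fibre hb1 _ _ x hx hneg'
  set A : Matrix (Fin a) (Fin a) F := s • (α : Matrix (Fin a) (Fin a) F) with hAdef
  have hA : (b₀ : Matrix (Idx a b) (Idx a b) F) = A ⊗ₖ (1 : Matrix (Fin b) (Fin b) F) := by
    rw [hb₀, hs, Matrix.kronecker_smul, hAdef, Matrix.smul_kronecker]
  have hmv : ∀ (u : Fin a → F) (y : Fin b → F), mv b₀ (pt u y) = pt (A *ᵥ u) y := by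
    intro u y
    unfold mv
    rw [hA, kron_mulVec_pt, Matrix.one_mulVec]
  have hAx : A *ᵥ x = - x := by
    ext j
    have := congrFun ((hmv x (Pi.single ⟨0, hb1⟩ 1)).symm.trans (hneg _)) (j, ⟨0, hb1⟩)
    simpa [pt] using this
  -- Step 2: `A` preserves `sf`
  have hG0 : G ≠ 0 := by
    intro h0
    apply h.nd
    rw [h0]
    have : Nonempty (Fin b) := ⟨⟨0, hb1⟩⟩
    exact Matrix.det_zero
  obtain ⟨k, l, hkl⟩ : ∃ k l, G k l ≠ 0 := by
    by_contra hcon
    push Not at hcon
    apply hG0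
    ext k l
    exact hcon k l
  have hAsf : ∀ u u' : Fin a → F, sf (A *ᵥ u) (A *ᵥ u') = sf u u' := by
    intro u u'
    have h1 := mem_SpV.1 hbS (pt u (Pi.single k 1)) (pt u' (Pi.single l 1))
    rw [hmv, hmv, fV_pt, fV_pt, fB_single_single] at h1
    exact mul_right_cancel₀ hkl h1
  -- the fixed space of `A`
  set W : Submodule F (Fin a → F) := LinearMap.eqLocus (Matrix.toLin' A) LinearMap.id with hWdef
  have hW : ∀ u : Fin a → F, u ∈ W ↔ A *ᵥ u = u := by
    intro u
    rw [hWdef, LinearMap.mem_eqLocus, Matrix.toLin'_apply, LinearMap.id_apply]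
  have hWperp : ∀ u ∈ W, sf u x = 0 := by
    intro u hu
    have h1 := hAsf u x
    rw [(hW u).1 hu, hAx, sf_neg_right] at h1
    have h2 : (2 : F) * sf u x = 0 := by linear_combination -h1
    rcases mul_eq_zero.1 h2 with h3 | h3
    · exact absurd h3 h.two
    · exact h3
  have hxW : x ∉ W := by
    intro hxW
    have h1 := (hW x).1 hxW
    rw [hAx] at h1
    apply hx
    ext j
    have h2 := congrFun h1 j
    simp only [Pi.neg_apply, Pi.zero_apply] at h2 ⊢
    have h3 : (2 : F) * x j = 0 := by linear_combination -h2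
    rcases mul_eq_zero.1 h3 with h4' | h4'
    · exact absurd h4' h.two
    · exact h4'
  -- `dim W ≤ a - 2`
  have hWdim : finrank F ↥W + 2 ≤ a := by
    set φ : (Fin a → F) →ₗ[F] F :=
      { toFun := fun u => sf u x
        map_add' := fun u u' => sf_add_left u u' x
        map_smul' := fun c u => by rw [sf_smul_left, RingHom.id_apply, smul_eq_mul] } with hφ
    have hφ0 : φ ≠ 0 := by
      obtain ⟨y, hy⟩ := exists_sf_ne_zero h.ea hx
      intro h0
      have := LinearMap.congr_fun h0 y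
      change sf y x = 0 at this
      rw [sf_skew] at this
      exact hy (neg_eq_zero.1 this)
    have hsurj : Function.Surjective φ := LinearMap.surjective_of_ne_zero hφ0
    have h1 := LinearMap.finrank_range_add_finrank_ker φ
    rw [LinearMap.range_eq_top.2 hsurj, finrank_top, Module.finrank_self,
      Module.finrank_fintype_fun_eq_card, Fintype.card_fin] at h1
    have hlt : W < LinearMap.ker φ := by
      refine lt_of_le_of_ne ?_ ?_
      · intro u hu
        rw [LinearMap.mem_ker]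
        exact hWperp u hu
      · intro heq
        apply hxW
        rw [heq, LinearMap.mem_ker]
        exact sf_self x
    have := Submodule.finrank_lt_finrank_of_lt hlt
    omega
  -- the fixed space of `b₀`
  set FixS : Submodule F (Idx a b → F) :=
    LinearMap.eqLocus (Matrix.toLin' (b₀ : Matrix (Idx a b) (Idx a b) F)) LinearMap.id with hFdef
  have hFix : ∀ v : Idx a b → F, v ∈ FixS ↔ mv b₀ v = v := by
    intro v
    rw [hFdef, LinearMap.mem_eqLocus, Matrix.toLin'_apply, LinearMap.id_apply]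
  have hYF : Yp G x g x' ≤ FixS := fun v hv => (hFix v).2 (hfix v hv)
  have hslice : ∀ v ∈ FixS, ∀ l : Fin b, (fun i => v (i, l)) ∈ W := by
    intro v hv l
    rw [hW]
    ext i
    rw [← kron_one_mulVec_apply, ← hA]
    exact congrFun ((hFix v).1 hv) (i, l)
  have hFdim : finrank F ↥FixS ≤ b * finrank F ↥W := by
    set Ψ : ↥FixS →ₗ[F] (Fin b → ↥W) :=
      { toFun := fun v l => ⟨fun i => (v : Idx a b → F) (i, l), hslice v v.2 l⟩
        map_add' := fun v v' => by
          ext l i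
          rfl
        map_smul' := fun c v => by
          ext l i
          rfl } with hΨ
    have hinj : Function.Injective Ψ := by
      intro v v' hvv'
      apply Subtype.ext
      ext ⟨i, l⟩
      have := congrFun hvv' l
      have := congrArg (fun w : ↥W => (w : Fin a → F) i) this
      exact this
    have := LinearMap.finrank_le_finrank_of_injective hinj
    rw [Module.finrank_pi_fintype, Finset.sum_const, Finset.card_univ, Fintype.card_fin,
      smul_eq_mul] at this
    exact this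
  have hYdim := finrank_Yp_ge G x g x'
  have hYFdim : finrank F ↥(Yp G x g x') ≤ finrank F ↥FixS := Submodule.finrank_mono hYF
  have hmul : b * finrank F ↥W + 2 * b ≤ a * b := by nlinarith
  have hYeq : Yp G x g x' = FixS := Submodule.eq_of_le_of_finrank_le hYF (by omega)
  have hWpos : 0 < finrank F ↥W := by
    by_contra hcon
    have h0 : finrank F ↥W = 0 := by omega
    rw [h0] at hFdim
    have : 2 * b < a * b := by nlinarith
    omega
  obtain ⟨⟨x₄, hx₄W⟩, hx₄ne⟩ := Module.finrank_pos_iff_exists_ne_zero.1 hWpos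
  have hx₄ : x₄ ≠ 0 := by
    intro h0
    apply hx₄ne
    apply Subtype.ext
    exact h0
  refine ⟨x₄, hx₄, ?_⟩
  -- `x₄ ⊗ B ⊆ Y ⊆ R''^⊥`
  have hperp : ∀ (y y'' : Fin b → F), fV G (pt x₄ y) (mv g (pt x' y'')) = 0 := by
    intro y y''
    have hmem : pt x₄ y ∈ Yp G x g x' := by
      rw [hYeq, hFix, hmv, (hW x₄).1 hx₄W]
    have h2 : pt x₄ y ∈ perpV G (Rpp g x') := hmem.2
    apply mem_perpV.1 h2
    rw [Rpp, mem_gim]
    exact ⟨pt x' y'', mem_Rs.2 ⟨y'', rfl⟩, rfl⟩
  have hgS : g ∈ SpV G := h.le_sp hg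
  set N : Matrix (Idx a b) (Idx a b) F := NA x₄ with hN
  set N'' : Matrix (Idx a b) (Idx a b) F :=
    (g : Matrix (Idx a b) (Idx a b) F) * NA x' * ((g⁻¹ : GL (Idx a b) F) : Matrix (Idx a b) (Idx a b) F) with hN''
  have hNN'' : N * N'' = 0 := by
    apply Matrix.mulVec_injective
    ext1 v
    rw [Matrix.zero_mulVec, ← Matrix.mulVec_mulVec, hN'', ← Matrix.mulVec_mulVec,
      ← Matrix.mulVec_mulVec]
    obtain ⟨y', hy'⟩ := NA_mulVec_mem x' (((g⁻¹ : GL (Idx a b) F) : Matrix (Idx a b) (Idx a b) F) *ᵥ v)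
    rw [hy']
    apply NA_mulVec_eq_zero_of_perp h.nd
    intro y
    rw [fV_skew h.symm]
    rw [neg_eq_zero]
    exact hperp y y'
  have hN''N : N'' * N = 0 := by
    apply Matrix.mulVec_injective
    ext1 v
    rw [Matrix.zero_mulVec, ← Matrix.mulVec_mulVec]
    obtain ⟨y', hy'⟩ := NA_mulVec_mem x₄ v
    rw [hN, hy', hN'', ← Matrix.mulVec_mulVec, ← Matrix.mulVec_mulVec]
    have hz : (NA x' : Matrix (Idx a b) (Idx a b) F) *ᵥ
        (((g⁻¹ : GL (Idx a b) F) : Matrix (Idx a b) (Idx a b) F) *ᵥ pt x₄ y') = 0 := by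
      apply NA_mulVec_eq_zero_of_perp h.nd
      intro y
      have h1 := mem_SpV.1 hgS (mv g⁻¹ (pt x₄ y')) (pt x' y)
      rw [mv_mv_inv] at h1
      change fV G (mv g⁻¹ (pt x₄ y')) (pt x' y) = 0
      rw [← h1]
      exact hperp y' y
    rw [hz, Matrix.mulVec_zero]
  intro c c'
  have e1 : ((g * kA x' c' * g⁻¹ : GL (Idx a b) F) : Matrix (Idx a b) (Idx a b) F) =
      1 + c' • N'' := by
    rw [Units.val_mul, Units.val_mul, kA_val, mul_add, add_mul, mul_one, ← Units.val_mul,
      mul_inv_cancel, Units.val_one, hN'', Matrix.mul_smul, Matrix.smul_mul]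
  unfold Commute SemiconjBy
  apply Units.ext
  rw [Units.val_mul (kA x₄ c), Units.val_mul _ (kA x₄ c), e1, kA_val, ← hN]
  simp only [add_mul, mul_add, one_mul, mul_one, Matrix.smul_mul, Matrix.mul_smul, hNN'', hN''N,
    smul_zero, add_zero]
  abel

end Cfsg.Agent.Lib.Helper11.SOTLeaf
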