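import Mathlib
import Cfsg.Prelude.Def_ClassicalGeometry
import Cfsg.Prelude.Def_GeometricClasses
import Cfsg.Agent.Lib.Helper2.SOTDefs
import Cfsg.Agent.Lib.Helper2.SOTGDefs
import Cfsg.Agent.Lib.Helper4.SOTS
import Cfsg.Agent.Lib.Helper7.SpTN
import Cfsg.Agent.Lib.Helper27.SOTLADefs
import Cfsg.Agent.Lib.Helper7.SOTGM
import Cfsg.Agent.Lib.Helper9.SOTX1
import Cfsg.Agent.Lib.Helper11.SOTS123

/-!
S5666 part (LA), unit T of `notes/S5666_LA_leaves.lean` (exact signatures): `kel_spT_mem`,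
`kel_spT_conj_kA`.
-/

set_option autoImplicit false
set_option linter.unusedSectionVars false
set_option linter.unusedVariables false

namespace Cfsg.Agent.Lib.Helper11.SOTLALeaf
open Matrix
open Cfsg.Agent.Lib.Helper25.Tens Cfsg.Agent.Lib.Helper25.SpT Cfsg.Agent.Lib.Helper19.OSub
open Cfsg.Agent.Lib.Helper2.SOT Cfsg.Agent.Lib.Helper27.SOTLA
open scoped Kronecker

variable {F : Type*} [Field F] [Fintype F] {a b : ℕ} {G : Matrix (Fin b) (Fin b) F}
  {M : Subgroup (GL (Idx a b) F)}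

/-- (T1) `kel α 1 ∈ M` for `α ∈ SpT` (products of symplectic transvections). -/
theorem kel_spT_mem (h : MCtx a b G M) (α : GL (Fin a) F)
    (hα : α ∈ Cfsg.Agent.Lib.Helper7.SpTLeaf.SpT (F := F) a) :
    (kel α (1 : GL (Fin b) F) : GL (Idx a b) F) ∈ M := by
  unfold Cfsg.Agent.Lib.Helper7.SpTLeaf.SpT at hα
  induction hα using Subgroup.closure_induction with
  | mem g hg =>
    obtain ⟨z, c, rfl⟩ := hg
    exact h.le ⟨kA_mem_KG z c, Cfsg.Agent.Lib.Helper9.SOTLeaf.kA_mem_SpV G z c⟩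
  | one =>
    rw [Cfsg.Agent.Lib.Helper7.SpTLeaf.kel_one_one]
    exact M.one_mem
  | mul x y _ _ hx hy =>
    have : (kel (x * y) (1 : GL (Fin b) F) : GL (Idx a b) F) = kel x 1 * kel y 1 := by
      rw [← Cfsg.Agent.Lib.Helper7.SpTLeaf.kel_mul_kel, one_mul]
    rw [this]
    exact M.mul_mem hx hy
  | inv x _ hx =>
    have : (kel x⁻¹ (1 : GL (Fin b) F) : GL (Idx a b) F) = (kel x 1)⁻¹ := by
      rw [← Cfsg.Agent.Lib.Helper7.SpTLeaf.kel_inv_inv, inv_one]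
    rw [this]
    exact M.inv_mem hx

/-- (T2) `kel α 1 * kA x c * (kel α 1)⁻¹ = kA (α x) c` for `α ∈ SpT`. -/
theorem kel_spT_conj_kA (α : GL (Fin a) F) (hα : α ∈ Cfsg.Agent.Lib.Helper7.SpTLeaf.SpT (F := F) a)
    (x : Fin a → F) (c : F) :
    (kel α (1 : GL (Fin b) F) : GL (Idx a b) F) * kA x c * (kel α 1)⁻¹ =
      kA ((α : Matrix (Fin a) (Fin a) F) *ᵥ x) c := by
  have h1 := Cfsg.Agent.Lib.Helper11.SOTLeaf.kel_conj_kA (b := b) α (1 : GL (Fin b) F) 1 one_ne_zero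
    (fun u v => by
      rw [one_mul]
      exact Cfsg.Agent.Lib.Helper7.SOTGLeaf.sf_of_mem_SpT hα u v) x c
  rw [h1, inv_one, mul_one]

end Cfsg.Agent.Lib.Helper11.SOTLALeaf
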