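import Cfsg.Agent.Lib.Helper20.SPT2Rel
import Cfsg.Agent.Lib.Helper12.SPT2G
import Cfsg.Agent.Lib.Helper17.SPT2LOCSTEP

/-!
# S3713, super-leaf T2 (sub-planner helper20), leaf T2-HARD1 `hard1` (helper11)
-/

set_option autoImplicit false

namespace Cfsg.Agent.Lib.Helper11.SPT2HARD1

open Matrix Cfsg.Agent.Lib.Helper5 Cfsg.Agent.Lib.Helper14.SpPerfect Cfsg.Agent.Lib.Helper18.SP
open Cfsg.Agent.Lib.Helper20.SPT2

variable {F : Type*} [Field F] {n : ℕ} {H : Type*} [Group H] {o p : Fin n}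

/-- `Xg γ` and `Tr e_o c` commute (`Xg γ` fixes `e_o`) -/
theorem Xg_mul_Tr_eo (hop : o ≠ p) (γ c : F) :
    Xg n F o p γ * Tr (eV n F o) c = Tr (eV n F o) c * Xg n F o p γ := by
  have h := conj_Tr' (Xg n F o p γ) (eV n F o) c
  rw [Xg_eo hop] at h
  calc Xg n F o p γ * Tr (eV n F o) c
      = (Xg n F o p γ * Tr (eV n F o) c * (Xg n F o p γ)⁻¹) * Xg n F o p γ := by group
    _ = Tr (eV n F o) c * Xg n F o p γ := by rw [h]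

/-- **HARD1** (`δ = 1 + γ ≠ 0`): `Xg_mul_Yg`, bracket `n Tr(e_o,c) Yg δ⁻¹ ∈ P2` (`locstep`), then `StepOK.mul_right` by
`hT o δ * hT p δ⁻¹ * Xg (γ δ⁻¹) ∈ Ph1`; `hBR` is the image of `xS_mul_yS` -/
theorem hard1 (A : T2Hyp n F H o p) {φ₁ : Sp n F → H} (P1 : Phi1 A φ₁) (γ c : F) (hδ : 1 + γ ≠ 0)
    (hBR : A.Xt γ * A.Yt 1 = A.Yt (1 + γ)⁻¹ * A.Ht (1 + γ) * A.Xt (γ * (1 + γ)⁻¹)) :
    SOK A φ₁ (nW n F o * (Xg n F o p γ * Tr (eV n F o) c) * yE n F o p)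
      (A.nto * A.ψ₁ (Xg n F o p γ * Tr (eV n F o) c) * A.ψ₂ (yE n F o p)) := by
  have hop := A.hop
  have hoK : o ∈ ({o, p} : Set (Fin n)) := Set.mem_insert o {p}
  have hpK : p ∈ ({o, p} : Set (Fin n)) := Set.mem_insert_of_mem o rfl
  have hSp1 : SS n F p ≤ PJ n F {o, p} o :=
    GJ_le_PJ (Set.singleton_subset_iff.mpr hpK) (fun h => hop (Set.mem_singleton_iff.mp h))
  have hSo2 : SS n F o ≤ PJ n F {o, p} p :=
    GJ_le_PJ (Set.singleton_subset_iff.mpr hoK) (fun h => hop.symm (Set.mem_singleton_iff.mp h))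
  have hX1 : ∀ t : F, Xg n F o p t ∈ PJ n F {o, p} o :=
    fun t => Cfsg.Agent.Lib.Helper12.SPT2G.Xg_mem_P1 hop t
  have hY2 : ∀ t : F, Yg n F o p t ∈ PJ n F {o, p} p :=
    fun t => Cfsg.Agent.Lib.Helper12.SPT2G.Yg_mem_P2 hop t
  have hTM : Tr (eV n F o) c ∈ MM n F o p := Cfsg.Agent.Lib.Helper12.SPT2G.Tr_eo_mem_MM c
  have hT1 : Tr (eV n F o) c ∈ PJ n F {o, p} o := MM_le_PJ hoK hpK o hTM
  have hT2 : Tr (eV n F o) c ∈ PJ n F {o, p} p := MM_le_PJ hoK hpK p hTM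
  have hTS : Tr (eV n F o) c ∈ SS n F o := Tr_mem_GJ (eV_mem_VJ (Set.mem_singleton o)) c
  have hno : nW n F o ∈ PJ n F {o, p} p := hSo2 (nW_mem_SS o)
  -- the bracket and the right factor
  have hb : nW n F o * Tr (eV n F o) c * Yg n F o p (1 + γ)⁻¹ ∈ PJ n F {o, p} p :=
    mul_mem (mul_mem hno hT2) (hY2 _)
  have hhoB : hT n F o (1 + γ) ∈ PhJ n F {o} o := TT_le_PhJ (Set.mem_singleton o) (hT_mem_TT o hδ)
  have hhoPh : hT n F o (1 + γ) ∈ PhJ n F {o, p} o := TT_le_PhJ hoK (hT_mem_TT o hδ)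
  have hhp1 : hT n F p (1 + γ)⁻¹ ∈ PJ n F {o, p} o := hSp1 (hT_mem_SS p (1 + γ)⁻¹)
  have hhpPh : hT n F p (1 + γ)⁻¹ ∈ PhJ n F {o, p} o := PJ_le_PhJ _ o hhp1
  have hXPh : Xg n F o p (γ * (1 + γ)⁻¹) ∈ PhJ n F {o, p} o := PJ_le_PhJ _ o (hX1 _)
  have hq : hT n F o (1 + γ) * hT n F p (1 + γ)⁻¹ * Xg n F o p (γ * (1 + γ)⁻¹) ∈ PhJ n F {o, p} o :=
    mul_mem (mul_mem hhoPh hhpPh) hXPh
  have hstep := StepOK.mul_right P1.hom (Cfsg.Agent.Lib.Helper17.SPT2LOCSTEP.locstep A P1 hb) hq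
  -- the group side
  have e : Xg n F o p γ * Yg n F o p 1 =
      Yg n F o p (1 + γ)⁻¹ * (hT n F o (1 + γ) * hT n F p (1 + γ)⁻¹) * Xg n F o p (γ * (1 + γ)⁻¹) := by
    have := Cfsg.Agent.Lib.Helper12.SPT2G.Xg_mul_Yg hop γ hδ
    rwa [div_eq_mul_inv] at this
  have hg : nW n F o * (Xg n F o p γ * Tr (eV n F o) c) * yE n F o p
      = nW n F o * Tr (eV n F o) c * Yg n F o p (1 + γ)⁻¹ *
        (hT n F o (1 + γ) * hT n F p (1 + γ)⁻¹ * Xg n F o p (γ * (1 + γ)⁻¹)) := by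
    rw [Xg_mul_Tr_eo hop, Cfsg.Agent.Lib.Helper12.SPT2G.yE_eq_Yg]
    calc nW n F o * (Tr (eV n F o) c * Xg n F o p γ) * Yg n F o p 1
        = nW n F o * Tr (eV n F o) c * (Xg n F o p γ * Yg n F o p 1) := by simp only [mul_assoc]
      _ = nW n F o * Tr (eV n F o) c * Yg n F o p (1 + γ)⁻¹ *
          (hT n F o (1 + γ) * hT n F p (1 + γ)⁻¹ * Xg n F o p (γ * (1 + γ)⁻¹)) := by
        rw [e]; simp only [mul_assoc]
  -- the `H` side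
  have hτ : A.ψ₁ (Tr (eV n F o) c) = A.ψ₂ (Tr (eV n F o) c) := A.h12 _ hTM
  have hBR' : A.ψ₁ (Xg n F o p γ) * A.ψ₂ (Yg n F o p 1)
      = A.ψ₂ (Yg n F o p (1 + γ)⁻¹) * (A.σo (hT n F o (1 + γ)) * A.σp (hT n F p (1 + γ)⁻¹)) *
        A.ψ₁ (Xg n F o p (γ * (1 + γ)⁻¹)) := hBR
  have hh : A.nto * A.ψ₁ (Xg n F o p γ * Tr (eV n F o) c) * A.ψ₂ (yE n F o p)
      = A.ψ₂ (nW n F o * Tr (eV n F o) c * Yg n F o p (1 + γ)⁻¹) *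
        φ₁ (hT n F o (1 + γ) * hT n F p (1 + γ)⁻¹ * Xg n F o p (γ * (1 + γ)⁻¹)) := by
    rw [Xg_mul_Tr_eo hop, A.hψ₁.map_mul hT1 (hX1 γ), Cfsg.Agent.Lib.Helper12.SPT2G.yE_eq_Yg,
      A.hψ₂.map_mul (mul_mem hno hT2) (hY2 _), A.hψ₂.map_mul hno hT2,
      P1.hom.map_mul (mul_mem hhoPh hhpPh) hXPh, P1.hom.map_mul hhoPh hhpPh,
      P1.onB _ hhoB, P1.onP _ hhp1, P1.onP _ (hX1 _), A.h1p _ (hT_mem_SS p (1 + γ)⁻¹),
      A.h2o _ (nW_mem_SS o), hτ]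
    calc A.nto * (A.ψ₂ (Tr (eV n F o) c) * A.ψ₁ (Xg n F o p γ)) * A.ψ₂ (Yg n F o p 1)
        = A.nto * A.ψ₂ (Tr (eV n F o) c) * (A.ψ₁ (Xg n F o p γ) * A.ψ₂ (Yg n F o p 1)) := by
          simp only [mul_assoc]
      _ = A.σo (nW n F o) * A.ψ₂ (Tr (eV n F o) c) * A.ψ₂ (Yg n F o p (1 + γ)⁻¹) *
          (A.σo (hT n F o (1 + γ)) * A.σp (hT n F p (1 + γ)⁻¹) * A.ψ₁ (Xg n F o p (γ * (1 + γ)⁻¹))) := by
        rw [hBR']; unfold T2Hyp.nto; simp only [mul_assoc]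
  exact StepOK.congr hstep hg hh

end Cfsg.Agent.Lib.Helper11.SPT2HARD1
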