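import Cfsg.Agent.Lib.Helper20.SPT2Rel
import Cfsg.Agent.Lib.Helper12.SPT2G

/-!
# S3713, super-leaf T2 (sub-planner helper20), leaf T2-NEQ `Nt_eq` (helper11)
-/

set_option autoImplicit false

namespace Cfsg.Agent.Lib.Helper11.SPT2NEQ

open Matrix Cfsg.Agent.Lib.Helper5 Cfsg.Agent.Lib.Helper14.SpPerfect Cfsg.Agent.Lib.Helper18.SP
open Cfsg.Agent.Lib.Helper20.SPT2

variable {F : Type*} [Field F] {n : ℕ} {H : Type*} [Group H] {o p : Fin n}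

/-- **NEQ**: `d̃ = σo (hT o c)`: `d̃ Nt d̃⁻¹ = Xt c * Yt (-c⁻¹) * Xt c` (`φ₁`, `ψ₂` local) and `Nt d̃ Nt⁻¹ = σp (hT p c)` (`C1`) -/
theorem Nt_eq (A : T2Hyp n F H o p) {φ₁ : Sp n F → H} (P1 : Phi1 A φ₁) (C : ConjRel A) {c : F} (hc : c ≠ 0) :
    A.Ht c * A.Nt = A.Xt c * A.Yt (-c⁻¹) * A.Xt c := by
  have hop := A.hop
  have hoK : o ∈ ({o, p} : Set (Fin n)) := Set.mem_insert o {p}
  have hSo2 : SS n F o ≤ PJ n F {o, p} p :=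
    GJ_le_PJ (Set.singleton_subset_iff.mpr hoK) (fun h => hop.symm (Set.mem_singleton_iff.mp h))
  have hhB : hT n F o c ∈ PhJ n F {o} o := TT_le_PhJ (Set.mem_singleton o) (hT_mem_TT o hc)
  have hhPh : hT n F o c ∈ PhJ n F {o, p} o := TT_le_PhJ hoK (hT_mem_TT o hc)
  have hX1 : ∀ t : F, Xg n F o p t ∈ PJ n F {o, p} o :=
    fun t => Cfsg.Agent.Lib.Helper12.SPT2G.Xg_mem_P1 hop t
  have hXPh : ∀ t : F, Xg n F o p t ∈ PhJ n F {o, p} o := fun t => PJ_le_PhJ _ o (hX1 t)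
  have hY2 : ∀ t : F, Yg n F o p t ∈ PJ n F {o, p} p :=
    fun t => Cfsg.Agent.Lib.Helper12.SPT2G.Yg_mem_P2 hop t
  have hhP2 : hT n F o c ∈ PJ n F {o, p} p := hSo2 (hT_mem_SS o c)
  -- conjugation of `Xt` by `d̃` (local in `Ph1`)
  have h1 : ∀ t : F, A.σo (hT n F o c) * A.Xt t * (A.σo (hT n F o c))⁻¹ = A.Xt (c * t) := by
    intro t
    have e := P1.hom.map_conj hhPh (hXPh t)
    rw [Cfsg.Agent.Lib.Helper12.SPT2G.hT_o_conj_Xg hop hc t, P1.onB _ hhB, P1.onP _ (hX1 t),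
      P1.onP _ (hX1 (c * t))] at e
    exact e.symm
  -- conjugation of `Yt` by `d̃` (local in `P2`)
  have h2 : ∀ t : F, A.σo (hT n F o c) * A.Yt t * (A.σo (hT n F o c))⁻¹ = A.Yt (c⁻¹ * t) := by
    intro t
    have e := A.hψ₂.map_conj hhP2 (hY2 t)
    rw [Cfsg.Agent.Lib.Helper12.SPT2G.hT_o_conj_Yg hop hc t, A.h2o _ (hT_mem_SS o c)] at e
    exact e.symm
  -- `Nt d̃ Nt⁻¹ = σp (hT p c)`
  have h3 : A.Nt * A.σo (hT n F o c) * A.Nt⁻¹ = A.σp (hT n F p c) := by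
    rw [C.C1 _ (hT_mem_SS o c), Cfsg.Agent.Lib.Helper12.SPT2G.νg_conj_hT_o hop hc]
  have h4 : A.σp (hT n F p c⁻¹) = (A.σp (hT n F p c))⁻¹ := by
    rw [← A.hσp.map_inv (hT_mem_SS p c), Cfsg.Agent.Lib.Helper12.SPT2G.hT_inv p hc]
  have h5 : A.σo (hT n F o c) * A.Nt * (A.σo (hT n F o c))⁻¹ = A.Xt c * A.Yt (-c⁻¹) * A.Xt c := by
    have e : A.σo (hT n F o c) * A.Nt * (A.σo (hT n F o c))⁻¹
        = (A.σo (hT n F o c) * A.Xt 1 * (A.σo (hT n F o c))⁻¹) *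
          (A.σo (hT n F o c) * A.Yt (-1) * (A.σo (hT n F o c))⁻¹) *
          (A.σo (hT n F o c) * A.Xt 1 * (A.σo (hT n F o c))⁻¹) := by
      unfold T2Hyp.Nt; group
    rw [e, h1, h2, mul_one, mul_neg, mul_one]
  unfold T2Hyp.Ht
  rw [h4, ← h3, ← h5]
  group

end Cfsg.Agent.Lib.Helper11.SPT2NEQ
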