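import Cfsg.Agent.Lib.Helper20.SPT2Rel
import Cfsg.Agent.Lib.Helper12.SPT2G

/-!
# S3713, super-leaf T2 (sub-planner helper20), leaf T2-NX `Nt_Xt` (helper11)
-/

set_option autoImplicit false

namespace Cfsg.Agent.Lib.Helper11.SPT2NX

open Matrix Cfsg.Agent.Lib.Helper5 Cfsg.Agent.Lib.Helper14.SpPerfect Cfsg.Agent.Lib.Helper18.SP
open Cfsg.Agent.Lib.Helper20.SPT2

variable {F : Type*} [Field F] {n : ℕ} {H : Type*} [Group H] {o p : Fin n}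

/-- **NX**: `Xt t = ntp⁻¹ Zt t ntp` (`P1`), `Nt ntp Nt⁻¹ = nto` (`C2`, `νg_conj_nWp`), `R5`, `nto⁻¹ Zt (-t) nto = Yt (-t)` (`P2`) -/
theorem Nt_Xt (A : T2Hyp n F H o p) (W : WeylRel A) (C : ConjRel A) (t : F) :
    A.Nt * A.Xt t = A.Yt (-t) * A.Nt := by
  have hop := A.hop
  have hoK : o ∈ ({o, p} : Set (Fin n)) := Set.mem_insert o {p}
  have hpK : p ∈ ({o, p} : Set (Fin n)) := Set.mem_insert_of_mem o rfl
  have hSp1 : SS n F p ≤ PJ n F {o, p} o :=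
    GJ_le_PJ (Set.singleton_subset_iff.mpr hpK) (fun h => hop (Set.mem_singleton_iff.mp h))
  have hSo2 : SS n F o ≤ PJ n F {o, p} p :=
    GJ_le_PJ (Set.singleton_subset_iff.mpr hoK) (fun h => hop.symm (Set.mem_singleton_iff.mp h))
  have hnp : nW n F p ∈ PJ n F {o, p} o := hSp1 (nW_mem_SS p)
  have hno : nW n F o ∈ PJ n F {o, p} p := hSo2 (nW_mem_SS o)
  have hZM : ∀ s : F, Zg n F o p s ∈ MM n F o p := fun s => Cfsg.Agent.Lib.Helper12.SPT2G.Zg_mem_MM s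
  have hZ1 : ∀ s : F, Zg n F o p s ∈ PJ n F {o, p} o := fun s => MM_le_PJ hoK hpK o (hZM s)
  have hZ2 : ∀ s : F, Zg n F o p s ∈ PJ n F {o, p} p := fun s => MM_le_PJ hoK hpK p (hZM s)
  -- `Xt t = ntp⁻¹ * Zt t * ntp` (local in `P1`)
  have ha : A.Xt t = A.ntp⁻¹ * A.Zt t * A.ntp := by
    unfold T2Hyp.Xt T2Hyp.Zt T2Hyp.ntp
    rw [← Cfsg.Agent.Lib.Helper12.SPT2G.nW_p_inv_conj_Zg hop t, A.hψ₁.map_conj' hnp (hZ1 t),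
      A.h1p _ (nW_mem_SS p)]
  -- `Yt (-t) = nto⁻¹ * Zt (-t) * nto` (local in `P2`)
  have hd : A.Yt (-t) = A.nto⁻¹ * A.Zt (-t) * A.nto := by
    unfold T2Hyp.Yt T2Hyp.Zt T2Hyp.nto
    rw [← Cfsg.Agent.Lib.Helper12.SPT2G.nW_o_inv_conj_Zg hop (-t), A.hψ₂.map_conj' hno (hZ2 (-t)),
      A.h2o _ (nW_mem_SS o), ← A.h12 _ (hZM (-t))]
  -- `Nt ntp Nt⁻¹ = nto`
  have hb : A.Nt * A.ntp * A.Nt⁻¹ = A.nto := by
    unfold T2Hyp.ntp T2Hyp.nto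
    rw [C.C2 _ (nW_mem_SS p), Cfsg.Agent.Lib.Helper12.SPT2G.νg_conj_nW_p hop]
  have hc := W.R5 t
  calc A.Nt * A.Xt t
      = (A.Nt * A.ntp * A.Nt⁻¹)⁻¹ * (A.Nt * A.Zt t * A.Nt⁻¹) * (A.Nt * A.ntp * A.Nt⁻¹) * A.Nt := by
        rw [ha]; group
    _ = A.nto⁻¹ * A.Zt (-t) * A.nto * A.Nt := by rw [hb, hc]
    _ = A.Yt (-t) * A.Nt := by rw [hd]

end Cfsg.Agent.Lib.Helper11.SPT2NX
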