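import Mathlib
import Cfsg.Prelude.Def_SolvableStructure
import Cfsg.Agent.Lib.Helper11.HSubC
import Cfsg.Agent.Lib.Helper4.Huppert4

set_option autoImplicit false
open Cfsg

namespace Cfsg.Agent.Lib.Helper11.SSKey

open Cfsg.Agent.Lib.Helper11.HAut Cfsg.Agent.Lib.Helper11.HSub Cfsg.Agent.Lib.Helper4
open Cfsg.Agent.Lib.Helper1.CritExtra (expo)

universe u

/-- A coprime automorphism of a finite `p`-group fixing all elements killed by `expo p`
(`p` for odd `p`, `4` for `p = 2`) is trivial. -/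
theorem fix_all_of_fix_expo {T : Type*} [Group T] [Finite T] {p : ℕ} [Fact p.Prime]
    (hT : IsPGroup p T) (a : MulAut T) (hcop : (orderOf a).Coprime p)
    (hfix : ∀ u : T, u ^ expo p = 1 → a u = u) : a = 1 := by
  by_contra hne
  obtain ⟨R, hRinv, ⟨x₀, hx₀R, hx₀⟩, -, hRexp⟩ := exists_hh_min hT a hcop hne
  apply hx₀
  apply Cfsg.Agent.Lib.Helper20.fix_of_fix_comm hT a hcop x₀
  exact hfix _ (hRexp x₀ hx₀R)

/-- Lifting elements of order prime to `r` along a homomorphism, inside `zpowers`. -/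
theorem lift_coprime {G H : Type*} [Group G] [Finite G] [Group H] (f : G →* H) (r : ℕ)
    [hr : Fact r.Prime] (x : G) (hx : (orderOf (f x)).Coprime r) :
    ∃ y ∈ Subgroup.zpowers x, f y = f x ∧ (orderOf y).Coprime r := by
  have hrp : r.Prime := hr.out
  have hn0 : orderOf x ≠ 0 := (orderOf_pos x).ne'
  obtain ⟨a, m, hm, hnm⟩ := Nat.exists_eq_pow_mul_and_not_dvd hn0 r hrp.ne_one
  have hmcop : m.Coprime r := ((Nat.Prime.coprime_iff_not_dvd hrp).mpr hm).symm
  set o := orderOf (f x) with ho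
  have hcop : (r ^ a).Coprime o := (Nat.Coprime.pow_left a hx.symm)
  by_cases ho1 : o = 1
  · refine ⟨1, Subgroup.one_mem _, ?_, by simp⟩
    rw [map_one]
    exact (orderOf_eq_one_iff.mp ho1).symm
  have ho1' : 1 < o := by
    have : 0 < o := by
      rw [ho]
      exact orderOf_pos_iff.mpr (f.isOfFinOrder (isOfFinOrder_of_finite x))
    omega
  obtain ⟨s, -, hs⟩ := Nat.exists_mul_mod_eq_one_of_coprime hcop ho1'
  refine ⟨x ^ (r ^ a * s), Subgroup.pow_mem _ (Subgroup.mem_zpowers x) _, ?_, ?_⟩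
  · rw [map_pow]
    conv_rhs => rw [← pow_one (f x)]
    rw [pow_eq_pow_iff_modEq]
    show r ^ a * s % o = 1 % o
    rw [hs, Nat.mod_eq_of_lt ho1']
  · apply Nat.Coprime.coprime_dvd_left _ hmcop
    apply orderOf_dvd_of_pow_eq_one
    rw [← pow_mul]
    have : r ^ a * s * m = orderOf x * s := by rw [hnm]; ring
    rw [this, pow_mul, pow_orderOf_eq_one, one_pow]

theorem pAbResidual_quotient_le {G : Type u} [Group G] (r : ℕ) (N : Subgroup G) [N.Normal] :
    pAbResidual r (G ⧸ N) ≤ (pAbResidual r G).map (QuotientGroup.mk' N) := by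
  unfold pAbResidual
  rw [Subgroup.closure_le]
  rintro x (⟨a, b, rfl⟩ | ⟨g, rfl⟩)
  · obtain ⟨a, rfl⟩ := QuotientGroup.mk_surjective a
    obtain ⟨b, rfl⟩ := QuotientGroup.mk_surjective b
    exact ⟨a * b * a⁻¹ * b⁻¹, Subgroup.subset_closure (Or.inl ⟨a, b, rfl⟩), rfl⟩
  · obtain ⟨g, rfl⟩ := QuotientGroup.mk_surjective g
    exact ⟨g ^ (r - 1), Subgroup.subset_closure (Or.inr ⟨g, rfl⟩), rfl⟩


open Cfsg.Agent.Lib.Helper1 in
/-- A minimal normal subgroup inside a normal `r`-subgroup `T` is central in `T`. -/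
theorem minNormal_central {G : Type u} [Group G] [Finite G] {r : ℕ} [hr : Fact r.Prime]
    (T : Subgroup G) [hTn : T.Normal] (hT : IsPGroup r T) {N : Subgroup G} (hN : IsMinNormal N)
    (hNT : N ≤ T) : ∀ u ∈ T, ∀ m ∈ N, u * m = m * u := by
  obtain ⟨hNn, hN1, hmin⟩ := hN
  have := hNn
  have hn : (N ⊓ Subgroup.centralizer (T : Set G)).Normal := inferInstance
  have hne : N ⊓ Subgroup.centralizer (T : Set G) ≠ ⊥ := by
    have h1 : (N.subgroupOf T) ≠ ⊥ := by
      intro h
      rw [Subgroup.subgroupOf_eq_bot, disjoint_iff, inf_eq_left.mpr hNT] at h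
      exact hN1 h
    obtain ⟨x, hxN, hx1, hxc⟩ :=
      Cfsg.Agent.Lib.Helper12.exists_ne_one_mem_center_of_normal hT (N.subgroupOf T) h1
    intro hbot
    apply hx1
    have h2 : (x : G) ∈ N ⊓ Subgroup.centralizer (T : Set G) := by
      refine Subgroup.mem_inf.mpr ⟨Subgroup.mem_subgroupOf.mp hxN, ?_⟩
      rw [Subgroup.mem_centralizer_iff]
      intro u hu
      have := Subgroup.mem_center_iff.mp hxc ⟨u, hu⟩
      exact congrArg Subtype.val this
    rw [hbot, Subgroup.mem_bot] at h2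
    exact Subtype.ext h2
  have h3 : N ⊓ Subgroup.centralizer (T : Set G) = N := by
    rcases hmin _ hn inf_le_left with h | h
    · exact absurd h hne
    · exact h
  intro u hu m hm
  have hm' : m ∈ N ⊓ Subgroup.centralizer (T : Set G) := by rw [h3]; exact hm
  exact (Subgroup.mem_centralizer_iff.mp (Subgroup.mem_inf.mp hm').2) u hu

open Cfsg.Agent.Lib.Helper1 in
/-- A minimal normal subgroup inside a normal `r`-subgroup has exponent `r`. -/
theorem minNormal_exp {G : Type u} [Group G] [Finite G] {r : ℕ} [hr : Fact r.Prime]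
    (T : Subgroup G) [hTn : T.Normal] (hT : IsPGroup r T) {N : Subgroup G} (hN : IsMinNormal N)
    (hNT : N ≤ T) : ∀ m ∈ N, m ^ r = 1 := by
  have hcent := minNormal_central T hT hN hNT
  obtain ⟨hNn, hN1, hmin⟩ := hN
  have hrp : r.Prime := hr.out
  let Ω : Subgroup G :=
    { carrier := {x | x ∈ N ∧ x ^ r = 1}
      one_mem' := ⟨N.one_mem, one_pow r⟩
      mul_mem' := by
        rintro a b ⟨ha, hap⟩ ⟨hb, hbp⟩
        refine ⟨N.mul_mem ha hb, ?_⟩
        have hab : Commute a b := hcent a (hNT ha) b hb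
        rw [hab.mul_pow, hap, hbp, one_mul]
      inv_mem' := by
        rintro a ⟨ha, hap⟩
        exact ⟨N.inv_mem ha, by rw [inv_pow, hap, inv_one]⟩ }
  have hΩN : Ω ≤ N := fun x hx => hx.1
  have hΩn : Ω.Normal := by
    constructor
    rintro x ⟨hx, hxp⟩ g
    refine ⟨hNn.conj_mem x hx g, ?_⟩
    rw [conj_pow, hxp, mul_one, mul_inv_cancel]
  have hΩ1 : Ω ≠ ⊥ := by
    have hNpg : IsPGroup r N := hT.to_le hNT
    have hnt : Nontrivial N := (Subgroup.nontrivial_iff_ne_bot N).mpr hN1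
    obtain ⟨k, hk0, hk⟩ := hNpg.nontrivial_iff_card.mp hnt
    have hpdvd : r ∣ Nat.card N := hk.symm ▸ dvd_pow_self _ (ne_of_gt hk0)
    obtain ⟨x, hx⟩ := exists_prime_orderOf_dvd_card' (G := N) r hpdvd
    intro h
    have hxΩ : (x : G) ∈ Ω := by
      refine ⟨x.2, ?_⟩
      have : x ^ r = 1 := by rw [← hx]; exact pow_orderOf_eq_one x
      exact_mod_cast congrArg Subtype.val this
    rw [h, Subgroup.mem_bot] at hxΩ
    have hx1 : x = 1 := Subtype.ext hxΩ
    rw [hx1, orderOf_one] at hx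
    exact hrp.one_lt.ne hx
  rcases hmin Ω hΩn hΩN with h | h
  · exact absurd h hΩ1
  · intro x hx
    rw [← h] at hx
    exact hx.2


open Cfsg.Agent.Lib.Helper1 in
/-- If the `r'`-elements of `X = pAbResidual r G` centralize the normal `r`-subgroup `T`, then `X`
centralizes every minimal normal subgroup of `G` inside `T`. -/
theorem minNormal_le_centralizer_pAbResidual {G : Type u} [Group G] [Finite G] {r : ℕ}
    [hr : Fact r.Prime] (T : Subgroup G) [hTn : T.Normal] (hT : IsPGroup r T) {N : Subgroup G}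
    (hN : IsMinNormal N) (hNT : N ≤ T)
    (ha : ∀ y ∈ pAbResidual r G, (orderOf y).Coprime r → ∀ t ∈ T, y * t = t * y) :
    N ≤ Subgroup.centralizer (pAbResidual r G : Set G) := by
  have hrp : r.Prime := hr.out
  obtain ⟨hNn, hN1, hmin⟩ := hN
  have := hNn
  set X := pAbResidual r G with hX
  have hXn : X.Normal := pAbResidual_normal r G
  set D : Subgroup G := X ⊓ Subgroup.centralizer (N : Set G) with hD
  -- Step 1
  have step1 : ∀ x ∈ X, ∃ j : ℕ, x ^ (r ^ j) ∈ D := by
    intro x hx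
    have hn0 : orderOf x ≠ 0 := (orderOf_pos x).ne'
    obtain ⟨a, m, hm, hnm⟩ := Nat.exists_eq_pow_mul_and_not_dvd hn0 r hrp.ne_one
    have hmcop : m.Coprime r := ((Nat.Prime.coprime_iff_not_dvd hrp).mpr hm).symm
    refine ⟨a, Subgroup.mem_inf.mpr ⟨Subgroup.pow_mem _ hx _, ?_⟩⟩
    have hy : (orderOf (x ^ r ^ a)).Coprime r := by
      apply Nat.Coprime.coprime_dvd_left _ hmcop
      apply orderOf_dvd_of_pow_eq_one
      rw [← pow_mul, ← hnm, pow_orderOf_eq_one]
    rw [Subgroup.mem_centralizer_iff]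
    intro n hn
    exact (ha _ (Subgroup.pow_mem _ hx _) hy n (hNT hn)).symm
  -- Step 2
  let S' : Sylow r ↥X := default
  set D' : Subgroup ↥X := D.subgroupOf X with hD'
  have hD'n : D'.Normal := by
    have : D.Normal := inferInstance
    exact Subgroup.normal_subgroupOf
  have hquot : IsPGroup r (↥X ⧸ D') := by
    intro q
    obtain ⟨x, rfl⟩ := QuotientGroup.mk_surjective q
    obtain ⟨j, hj⟩ := step1 x x.2
    refine ⟨j, ?_⟩
    rw [← QuotientGroup.mk_pow, QuotientGroup.eq_one_iff]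
    exact Subgroup.mem_subgroupOf.mpr (by simpa using hj)
  have htop : (S' : Subgroup ↥X) ⊔ D' = ⊤ := by
    rw [← Subgroup.index_eq_one]
    obtain ⟨k, hk⟩ := IsPGroup.iff_card.mp hquot
    have h1 : ((S' : Subgroup ↥X) ⊔ D').index ∣ r ^ k := by
      rw [← hk]
      exact Subgroup.index_dvd_of_le le_sup_right
    have h2 : ((S' : Subgroup ↥X) ⊔ D').index ∣ (S' : Subgroup ↥X).index :=
      Subgroup.index_dvd_of_le le_sup_left
    obtain ⟨i, -, hi⟩ := (Nat.dvd_prime_pow hrp).mp h1
    rcases Nat.eq_zero_or_pos i with h0 | hpos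
    · rw [hi, h0, pow_zero]
    · exfalso
      apply S'.not_dvd_index
      exact (hi ▸ dvd_pow_self r (by omega) : r ∣ _).trans h2
  -- Step 3
  set S : Subgroup G := (S' : Subgroup ↥X).map X.subtype with hS
  have hSp : IsPGroup r S := S'.2.map _
  have hNp : IsPGroup r N := hT.to_le hNT
  set P : Subgroup G := N ⊔ S with hP
  have hPp : IsPGroup r P := IsPGroup.to_sup_of_normal_left hNp hSp
  have hNP : N ≤ P := le_sup_left
  have h1 : (N.subgroupOf P) ≠ ⊥ := by
    intro h
    rw [Subgroup.subgroupOf_eq_bot, disjoint_iff, inf_eq_left.mpr hNP] at h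
    exact hN1 h
  obtain ⟨x, hxN, hx1, hxc⟩ :=
    Cfsg.Agent.Lib.Helper12.exists_ne_one_mem_center_of_normal hPp (N.subgroupOf P) h1
  have hzN : (x : G) ∈ N := Subgroup.mem_subgroupOf.mp hxN
  have hz1 : (x : G) ≠ 1 := fun h => hx1 (Subtype.ext h)
  have hzS : ∀ s ∈ S, s * (x : G) = (x : G) * s := by
    intro s hs
    have := Subgroup.mem_center_iff.mp hxc ⟨s, (le_sup_right : S ≤ P) hs⟩
    exact congrArg Subtype.val this
  -- Step 4
  have hzX : (x : G) ∈ Subgroup.centralizer (X : Set G) := by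
    rw [Subgroup.mem_centralizer_iff]
    intro g hg
    set Z' : Subgroup ↥X := (Subgroup.centralizer ({(x : G)} : Set G)).subgroupOf X with hZ'
    have hSZ : (S' : Subgroup ↥X) ≤ Z' := by
      intro s hs
      rw [hZ', Subgroup.mem_subgroupOf, Subgroup.mem_centralizer_iff]
      intro w hw
      rw [Set.mem_singleton_iff] at hw
      rw [hw]
      exact (hzS s ⟨s, hs, rfl⟩).symm
    have hDZ : D' ≤ Z' := by
      intro d hd
      rw [hZ', Subgroup.mem_subgroupOf, Subgroup.mem_centralizer_iff]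
      intro w hw
      rw [Set.mem_singleton_iff] at hw
      rw [hw]
      have hd' : (d : G) ∈ D := Subgroup.mem_subgroupOf.mp hd
      exact (Subgroup.mem_centralizer_iff.mp (Subgroup.mem_inf.mp hd').2) _ hzN
    have hall : (⟨g, hg⟩ : ↥X) ∈ Z' := by
      have : (⊤ : Subgroup ↥X) ≤ Z' := htop ▸ sup_le hSZ hDZ
      exact this (Subgroup.mem_top _)
    rw [hZ', Subgroup.mem_subgroupOf, Subgroup.mem_centralizer_iff] at hall
    exact (hall _ rfl).symm
  have hWn : (N ⊓ Subgroup.centralizer (X : Set G)).Normal := inferInstance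
  have hWne : N ⊓ Subgroup.centralizer (X : Set G) ≠ ⊥ := by
    intro h
    have : (x : G) ∈ N ⊓ Subgroup.centralizer (X : Set G) := ⟨hzN, hzX⟩
    rw [h, Subgroup.mem_bot] at this
    exact hz1 this
  rcases hmin _ hWn inf_le_left with h | h
  · exact absurd h hWne
  · rw [← h]; exact inf_le_right


/-- surjection `G ⧸ T → (G ⧸ N) ⧸ (T N / N)` -/
theorem isSupersolvable_quotient_map {G : Type u} [Group G] (T N : Subgroup G) [T.Normal]
    [N.Normal] [hTn' : (T.map (QuotientGroup.mk' N)).Normal] (hq : IsSupersolvable (G ⧸ T)) :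
    IsSupersolvable ((G ⧸ N) ⧸ T.map (QuotientGroup.mk' N)) := by
  refine isSupersolvable_of_surjective
    (QuotientGroup.map T (T.map (QuotientGroup.mk' N)) (QuotientGroup.mk' N)
      (Subgroup.le_comap_map _ _)) ?_ hq
  intro q
  obtain ⟨q', rfl⟩ := QuotientGroup.mk_surjective q
  obtain ⟨g, rfl⟩ := QuotientGroup.mk_surjective q'
  exact ⟨(g : G ⧸ T), rfl⟩

open Cfsg.Agent.Lib.Helper1 in
/-- **Key lemma, core form.** `T` a normal `r`-subgroup with `G ⧸ T` supersolvable such that the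
`r'`-elements of `pAbResidual r G` centralize `T`. Then `G` is supersolvable. -/
theorem kl_core (r : ℕ) [hr : Fact r.Prime] : ∀ (n : ℕ) (G : Type u) [Group G] [Finite G],
    Nat.card G = n → ∀ (T : Subgroup G) [T.Normal], IsPGroup r T → IsSupersolvable (G ⧸ T) →
    (∀ y ∈ pAbResidual r G, (orderOf y).Coprime r → ∀ t ∈ T, y * t = t * y) →
    IsSupersolvable G := by
  intro n
  induction n using Nat.strong_induction_on with
  | _ n ih =>
  intro G _ _ hn T hTn hT hq ha
  by_cases hT1 : T = ⊥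
  · have : Subsingleton ↥T := by rw [hT1]; infer_instance
    have : IsCyclic ↥T := isCyclic_of_subsingleton
    exact isSupersolvable_of_cyclic_normal T hq
  obtain ⟨N, hN, hNT⟩ := exists_isMinNormal_le T hTn hT1
  have hNn : N.Normal := hN.1
  have hN1 : N ≠ ⊥ := hN.2.1
  have hcent := minNormal_central T hT hN hNT
  have hNexp := minNormal_exp T hT hN hNT
  have hNX := minNormal_le_centralizer_pAbResidual T hT hN hNT ha
  have hNc : ∀ a ∈ N, ∀ b ∈ N, a * b = b * a := fun a ha b hb => hcent a (hNT ha) b hb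
  have hNp : IsPGroup r N := hT.to_le hNT
  have hNcyc : IsCyclic N := by
    apply isCyclic_minNormal_of_centralizes N ⊤ N hNp (by simp) hN le_rfl hNc hNexp
    exact hNX.trans (Subgroup.centralizer_le
      (SetLike.coe_subset_coe.mpr (pAbResidualOf_le_pAbResidual (p := r) (⊤ : Subgroup G))))
  have hTn' : (T.map (QuotientGroup.mk' N)).Normal :=
    Subgroup.Normal.map hTn _ (QuotientGroup.mk'_surjective N)
  have hcard : Nat.card (G ⧸ N) < n := by
    rw [← hn]
    exact card_quotient_lt_of_ne_bot' N hN1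
  have hQ : IsSupersolvable (G ⧸ N) := by
    refine ih _ hcard (G ⧸ N) rfl (T.map (QuotientGroup.mk' N)) (hT.map _)
      (isSupersolvable_quotient_map T N hq) ?_
    intro y hy hcop t ht
    obtain ⟨x, hxX, rfl⟩ := pAbResidual_quotient_le r N hy
    obtain ⟨t, htT, rfl⟩ := ht
    obtain ⟨y, hyz, hyx, hycop⟩ := lift_coprime (QuotientGroup.mk' N) r x hcop
    have hyX : y ∈ pAbResidual r G :=
      (Subgroup.zpowers_le.mpr hxX) hyz
    rw [← hyx, ← map_mul, ← map_mul, ha y hyX hycop t htT]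
  exact isSupersolvable_of_cyclic_normal N hQ

end Cfsg.Agent.Lib.Helper11.SSKey
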