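import Mathlib
import Cfsg.Prelude.Def_SolvableStructure
import Cfsg.Agent.Lib.Helper11.SSKeyA

set_option autoImplicit false
open Cfsg

namespace Cfsg.Agent.Lib.Helper11.SSKey

open Cfsg.Agent.Lib.Helper11.HAut Cfsg.Agent.Lib.Helper11.HSub Cfsg.Agent.Lib.Helper4
open Cfsg.Agent.Lib.Helper1.CritExtra (expo)

universe u

theorem conjAut_mem_of_normal {G : Type*} [Group G] (T : Subgroup G) (c : G)
    (hc : c ∈ Subgroup.normalizer (T : Set G)) (F : Subgroup ↥T)
    (hF : (F.map T.subtype).Normal) (x : ↥T) (hx : x ∈ F) : conjAut T c hc x ∈ F := by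
  obtain ⟨w, hw, hwe⟩ := hF.conj_mem (x : G) ⟨x, hx, rfl⟩ c
  have : w = conjAut T c hc x := Subtype.ext hwe
  rwa [this] at hw

theorem mem_normalizer_of_normal {G : Type*} [Group G] (T : Subgroup G) [hT : T.Normal] (c : G) :
    c ∈ Subgroup.normalizer (T : Set G) := by
  rw [Subgroup.normalizer_eq_top_iff.mpr hT]; exact Subgroup.mem_top _

/-- **Key lemma, `d = 1`, `r` odd.** -/
theorem kl_one {G : Type u} [Group G] [Finite G] (r : ℕ) [hr : Fact r.Prime] (hr2 : r ≠ 2)
    (T : Subgroup G) [hTn : T.Normal] (hT : IsPGroup r T) (hq : IsSupersolvable (G ⧸ T))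
    (hnorm : ∀ F : Subgroup G, F ≤ T → Nat.card F = r → F.Normal) : IsSupersolvable G := by
  have hrp : r.Prime := hr.out
  apply kl_core r _ G rfl T hT hq
  intro y hy hcop t ht
  have hc := mem_normalizer_of_normal T y
  set a := conjAut T y hc with ha
  have hacop : (orderOf a).Coprime r :=
    Nat.Coprime.coprime_dvd_left (orderOf_dvd_of_pow_eq_one (conjAut_pow_orderOf T y hc)) hcop
  have hexpo : expo r = r := by unfold expo; rw [if_neg hr2]
  have ha1 : a = 1 := by
    apply fix_all_of_fix_expo hT a hacop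
    intro u hu
    rw [hexpo] at hu
    by_cases hu1 : u = 1
    · rw [hu1, map_one]
    have hu' : (u : G) ^ r = 1 := by
      have := congrArg Subtype.val hu
      simpa using this
    have hu1' : (u : G) ≠ 1 := fun h => hu1 (Subtype.ext h)
    have hord : orderOf (u : G) = r := orderOf_eq_prime hu' hu1'
    have hFn : (Subgroup.zpowers (u : G)).Normal :=
      hnorm _ (by rw [Subgroup.zpowers_le]; exact u.2) (by rw [Nat.card_zpowers, hord])
    have hcen := pAbResidual_le_centralizer_of_card_prime (p := r) (Subgroup.zpowers (u : G))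
      (by rw [Nat.card_zpowers, hord]) hy
    have h1 := (Subgroup.mem_centralizer_iff.mp hcen) (u : G) (Subgroup.mem_zpowers _)
    apply Subtype.ext
    rw [ha, conjAut_apply, ← h1, mul_inv_cancel_right]
  have h2 := congrArg (fun f : MulAut ↥T => ((f ⟨t, ht⟩ : ↥T) : G)) ha1
  simp only [ha, conjAut_apply, MulAut.one_apply] at h2
  calc y * t = y * t * y⁻¹ * y := by group
    _ = t * y := by rw [h2]

/-- **Key lemma, `r = 2`.** -/
theorem kl_two {G : Type u} [Group G] [Finite G] (T : Subgroup G) [hTn : T.Normal]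
    (hT : IsPGroup 2 T) (hq : IsSupersolvable (G ⧸ T)) (d : ℕ) (hd : 1 ≤ d)
    (hlt : 2 ^ d < Nat.card T)
    (hnorm : ∀ F : Subgroup G, F ≤ T → Nat.card F = 2 ^ d → F.Normal)
    (h4 : 2 ^ d = 2 → ∀ F : Subgroup G, F ≤ T → Nat.card F = 4 → F.Normal) :
    IsSupersolvable G := by
  have : Fact (Nat.Prime 2) := ⟨Nat.prime_two⟩
  apply kl_core 2 _ G rfl T hT hq
  intro y hy hcop t ht
  have hc := mem_normalizer_of_normal T y
  set a := conjAut T y hc with ha
  have hmapn : ∀ (F : Subgroup ↥T) (e : ℕ), Nat.card F = e →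
      (∀ F' : Subgroup G, F' ≤ T → Nat.card F' = e → F'.Normal) → (F.map T.subtype).Normal := by
    intro F e hF h
    exact h _ (Subgroup.map_subtype_le F) (by rw [Subgroup.card_map_of_injective T.subtype_injective, hF])
  have hyp : ACHyp 2 ↥T a (orderOf y) d := by
    refine ⟨conjAut_pow_orderOf T y hc, hcop, by simp, hd, hlt, ?_, ?_, ?_⟩
    · intro F hF
      have hn := hmapn F _ hF hnorm
      constructor
      intro x hx g
      obtain ⟨w, hw, hwe⟩ := hn.conj_mem (x : G) ⟨x, hx, rfl⟩ (g : G)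
      have : w = g * x * g⁻¹ := Subtype.ext (by simpa using hwe)
      rwa [this] at hw
    · intro F hF x hx
      exact conjAut_mem_of_normal T y hc F (hmapn F _ hF hnorm) x hx
    · intro h2 z hz
      exact conjAut_mem_of_normal T y hc (Subgroup.zpowers z)
        (hmapn _ 4 (by rw [Nat.card_zpowers, hz]) (h4 h2)) z (Subgroup.mem_zpowers z)
  have ha1 : a = 1 := ac _ ↥T rfl hT a (orderOf y) d hyp
  have h2 := congrArg (fun f : MulAut ↥T => ((f ⟨t, ht⟩ : ↥T) : G)) ha1
  simp only [ha, conjAut_apply, MulAut.one_apply] at h2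
  calc y * t = y * t * y⁻¹ * y := by group
    _ = t * y := by rw [h2]


theorem le_normalizer_of_comm {G : Type*} [Group G] (U N₀ : Subgroup G)
    (h : ∀ u ∈ U, ∀ m ∈ N₀, u * m = m * u) : U ≤ Subgroup.normalizer (N₀ : Set G) := by
  intro u hu
  rw [Subgroup.mem_normalizer_iff]
  intro m
  constructor
  · intro hm
    rw [h u hu m hm, mul_inv_cancel_right]; exact hm
  · intro hm
    have h1 := h u hu _ hm
    have h2 : u * m * u⁻¹ * u = u * m := by group
    have h3 : u * m * u⁻¹ = m := by
      have : u * (u * m * u⁻¹) = u * m := by rw [h1]; group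
      exact mul_left_cancel this
    rwa [h3] at hm

theorem mem_sup_of_le_normalizer {G : Type*} [Group G] (U N₀ : Subgroup G)
    (h : U ≤ Subgroup.normalizer (N₀ : Set G)) {z : G} (hz : z ∈ U ⊔ N₀) :
    ∃ u ∈ U, ∃ m ∈ N₀, z = u * m := by
  have h1 : z ∈ ((U ⊔ N₀ : Subgroup G) : Set G) := hz
  rw [Subgroup.coe_mul_of_left_le_normalizer_right U N₀ h] at h1
  obtain ⟨u, hu, m, hm, rfl⟩ := h1
  exact ⟨u, hu, m, hm, rfl⟩

open Cfsg.Agent.Lib.Helper1 in
/-- **Key lemma, `r` odd, general `d`.** -/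
theorem kl_gen (r : ℕ) [hr : Fact r.Prime] (hr2 : r ≠ 2) : ∀ (n : ℕ) (G : Type u) [Group G]
    [Finite G], Nat.card G = n → ∀ (T : Subgroup G) [T.Normal], IsPGroup r T →
    IsSupersolvable (G ⧸ T) → ∀ d : ℕ, 1 ≤ d → r ^ d < Nat.card T →
    (∀ F : Subgroup G, F ≤ T → Nat.card F = r ^ d → F.Normal) → IsSupersolvable G := by
  intro n
  induction n using Nat.strong_induction_on with
  | _ n ih =>
  intro G _ _ hn T hTn hT hq d hd hlt hnorm
  have hrp : r.Prime := hr.out
  by_cases hd1 : d = 1
  · subst hd1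
    exact kl_one r hr2 T hT hq (fun F hFT hF => hnorm F hFT (by rw [hF, pow_one]))
  have hd2 : 2 ≤ d := by omega
  have hT1 : T ≠ ⊥ := by
    intro h
    rw [h, Subgroup.card_bot] at hlt
    have := Nat.one_le_pow d r hrp.pos
    omega
  obtain ⟨N, hN, hNT⟩ := exists_isMinNormal_le T hTn hT1
  have hNn : N.Normal := hN.1
  have hN1 : N ≠ ⊥ := hN.2.1
  have hmin := hN.2.2
  have hcent := minNormal_central T hT hN hNT
  have hNexp := minNormal_exp T hT hN hNT
  obtain ⟨k, hk⟩ := IsPGroup.iff_card.mp (hT.to_le hNT)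
  obtain ⟨τ, hτ⟩ := IsPGroup.iff_card.mp hT
  have hdτ : d < τ := by
    rw [hτ] at hlt
    exact (Nat.pow_lt_pow_iff_right hrp.one_lt).mp hlt
  have hk1 : 1 ≤ k := by
    by_contra hcon
    have : k = 0 := by omega
    rw [this, pow_zero, Subgroup.card_eq_one] at hk
    exact hN1 hk
  have hcontra : ∀ N₁ : Subgroup G, N₁.Normal → N₁ ≤ N → ∀ j : ℕ, Nat.card N₁ = r ^ j → 1 ≤ j →
      j < k → False := by
    intro N₁ hN₁n hN₁N j hj hj1 hjk
    rcases hmin N₁ hN₁n hN₁N with h | h
    · rw [h, Subgroup.card_bot] at hj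
      have : r ^ j = r ^ 0 := by rw [← hj, pow_zero]
      have := Nat.pow_right_injective hrp.two_le this
      omega
    · rw [h, hk] at hj
      have := Nat.pow_right_injective hrp.two_le hj
      omega
  have hcentT : ∀ (U N₀ : Subgroup G), U ≤ T → N₀ ≤ N → U ≤ Subgroup.normalizer (N₀ : Set G) :=
    fun U N₀ hU hN₀ => le_normalizer_of_comm U N₀ (fun u hu m hm => hcent u (hU hu) m (hN₀ hm))
  rcases lt_trichotomy k d with hkd | hkd | hkd
  · -- k < d : quotient
    have hTn' : (T.map (QuotientGroup.mk' N)).Normal :=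
      Subgroup.Normal.map hTn _ (QuotientGroup.mk'_surjective N)
    have hcard : Nat.card (G ⧸ N) < n := by
      rw [← hn]
      exact card_quotient_lt_of_ne_bot' N hN1
    have hcomapT : (T.map (QuotientGroup.mk' N)).comap (QuotientGroup.mk' N) = T := by
      rw [Subgroup.comap_map_eq, QuotientGroup.ker_mk', sup_eq_left.mpr hNT]
    have hcardT' : Nat.card (T.map (QuotientGroup.mk' N)) = r ^ (τ - k) := by
      have h1 := Cfsg.Agent.Lib.Helper12.card_comap_mk' N (T.map (QuotientGroup.mk' N))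
      rw [hcomapT, hτ, hk] at h1
      have h2 : r ^ τ = r ^ k * r ^ (τ - k) := by rw [← pow_add]; congr 1; omega
      rw [h2] at h1
      exact (Nat.eq_of_mul_eq_mul_left (pow_pos hrp.pos k) h1).symm
    have hQ : IsSupersolvable (G ⧸ N) := by
      refine ih _ hcard (G ⧸ N) rfl (T.map (QuotientGroup.mk' N)) (hT.map _)
        (isSupersolvable_quotient_map T N hq) (d - k) (by omega) ?_ ?_
      · rw [hcardT']
        exact (Nat.pow_lt_pow_iff_right hrp.one_lt).mpr (by omega)
      · intro F' hF'T hF'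
        have h1 := Cfsg.Agent.Lib.Helper12.card_comap_mk' N F'
        rw [hk, hF', ← pow_add] at h1
        have h2 : k + (d - k) = d := by omega
        rw [h2] at h1
        have h3 : F'.comap (QuotientGroup.mk' N) ≤ T := by
          rw [← hcomapT]; exact Subgroup.comap_mono hF'T
        have h4 := hnorm _ h3 h1
        have h5 := Subgroup.Normal.map h4 (QuotientGroup.mk' N) (QuotientGroup.mk'_surjective N)
        rwa [Subgroup.map_comap_eq_self_of_surjective (QuotientGroup.mk'_surjective N)] at h5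
    by_cases hk1' : k = 1
    · have : IsCyclic N := isCyclic_of_prime_card (p := r) (by rw [hk, hk1', pow_one])
      exact isSupersolvable_of_cyclic_normal N hQ
    have hk2 : 2 ≤ k := by omega
    apply isSupersolvable_of_prime_index
    intro M hM
    by_cases hNM : N ≤ M
    · have hker : (QuotientGroup.mk' N).ker ≤ M := by rw [QuotientGroup.ker_mk']; exact hNM
      have := prime_index_of_isSupersolvable hQ (M.map (QuotientGroup.mk' N))
        (isCoatom_map_of_ker_le (QuotientGroup.mk' N) (QuotientGroup.mk'_surjective N) hM hker)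
      rwa [Subgroup.index_map_eq _ (QuotientGroup.mk'_surjective N) hker] at this
    · exfalso
      have hNc : ∀ a ∈ N, ∀ b ∈ N, a * b = b * a := fun a ha b hb => hcent a (hNT ha) b hb
      have hsup : N ⊔ M = ⊤ := by
        by_contra hne
        have h1 : M < N ⊔ M := lt_of_le_of_ne le_sup_right (fun h => hNM (h ▸ le_sup_left))
        exact hne (hM.2 _ h1)
      have hinfn : (N ⊓ M).Normal := by
        rw [← Subgroup.normalizer_eq_top_iff, eq_top_iff, ← hsup]
        apply sup_le
        · intro n hn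
          apply Cfsg.Agent.Lib.Helper17.mem_normalizer_of_forall_conj_mem
          intro x hx
          have hxN := (Subgroup.mem_inf.mp hx).1
          have : n * x * n⁻¹ = x := by rw [hNc n hn x hxN, mul_assoc, mul_inv_cancel, mul_one]
          rw [this]; exact hx
        · intro m hm
          apply Cfsg.Agent.Lib.Helper17.mem_normalizer_of_forall_conj_mem
          intro x hx
          obtain ⟨hxN, hxM⟩ := Subgroup.mem_inf.mp hx
          exact Subgroup.mem_inf.mpr
            ⟨hNn.conj_mem x hxN m, M.mul_mem (M.mul_mem hm hxM) (M.inv_mem hm)⟩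
      have hinf : N ⊓ M = ⊥ := by
        rcases hmin _ hinfn inf_le_left with h | h
        · exact h
        · exact absurd (h ▸ inf_le_right : N ≤ M) hNM
      set B : Subgroup G := T ⊓ M with hB
      have hBN : B ⊓ N = ⊥ := by
        rw [eq_bot_iff, ← hinf]
        exact le_inf inf_le_right (inf_le_left.trans inf_le_right)
      have hBNT : B ⊔ N = T := by
        apply le_antisymm (sup_le inf_le_left hNT)
        intro t ht
        have h1 : t ∈ N ⊔ M := by rw [hsup]; exact Subgroup.mem_top _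
        obtain ⟨n, hn, m, hm, rfl⟩ := Subgroup.mem_sup_of_normal_left.mp h1
        have hmT : m ∈ T := by
          have : m = n⁻¹ * (n * m) := by group
          rw [this]; exact T.mul_mem (T.inv_mem (hNT hn)) ht
        have : n * m = m * (m⁻¹ * n * m⁻¹⁻¹) := by group
        rw [this]
        exact Subgroup.mul_mem _ (Subgroup.mem_sup_left ⟨hmT, hm⟩)
          (Subgroup.mem_sup_right (hNn.conj_mem n hn m⁻¹))
      have hBcard : Nat.card B = r ^ (τ - k) := by
        have h1 := Cfsg.Agent.Lib.Helper4.card_sup_mul_card_inf B N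
          (by rw [Subgroup.normalizer_eq_top_iff.mpr hNn]; exact le_top)
        rw [hBNT, hBN, Subgroup.card_bot, mul_one, hτ, hk] at h1
        have h2 : r ^ τ = r ^ (τ - k) * r ^ k := by rw [← pow_add]; congr 1; omega
        rw [h2] at h1
        exact (Nat.eq_of_mul_eq_mul_right (pow_pos hrp.pos k) h1).symm
      obtain ⟨T₁, -, hT₁B, hT₁⟩ := exists_between B ⊥ bot_le 0 (d - k + 1) (by simp) (by omega)
        (by rw [hBcard]; exact pow_dvd_pow r (by omega))
      obtain ⟨N₁, -, hN₁N, hN₁⟩ := exists_between N ⊥ bot_le 0 (k - 1) (by simp) (by omega)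
        (by rw [hk]; exact pow_dvd_pow r (by omega))
      have hT₁T : T₁ ≤ T := hT₁B.trans inf_le_left
      have hnz := hcentT T₁ N₁ hT₁T hN₁N
      have hT₁N₁ : T₁ ⊓ N₁ = ⊥ := by
        rw [eq_bot_iff, ← hBN]
        exact le_inf (inf_le_left.trans hT₁B) (inf_le_right.trans hN₁N)
      set F := T₁ ⊔ N₁ with hF
      have hFcard : Nat.card F = r ^ d := by
        have h1 := Cfsg.Agent.Lib.Helper4.card_sup_mul_card_inf T₁ N₁ hnz
        rw [hT₁N₁, Subgroup.card_bot, mul_one, hT₁, hN₁, ← pow_add] at h1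
        rw [h1]; congr 1; omega
      have hFT : F ≤ T := sup_le hT₁T (hN₁N.trans hNT)
      have hFn : F.Normal := hnorm F hFT hFcard
      have hFN : F ⊓ N = N₁ := by
        apply le_antisymm
        · intro z hz
          obtain ⟨t₁, ht₁, n₁, hn₁, rfl⟩ := mem_sup_of_le_normalizer T₁ N₁ hnz hz.1
          have ht₁N : t₁ ∈ N := by
            have : t₁ = (t₁ * n₁) * n₁⁻¹ := by group
            rw [this]; exact N.mul_mem hz.2 (N.inv_mem (hN₁N hn₁))
          have : t₁ ∈ B ⊓ N := ⟨hT₁B ht₁, ht₁N⟩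
          rw [hBN, Subgroup.mem_bot] at this
          rw [this, one_mul]; exact hn₁
        · exact le_inf le_sup_right hN₁N
      have hN₁n : N₁.Normal := by
        rw [← hFN]; infer_instance
      exact hcontra N₁ hN₁n hN₁N (k - 1) hN₁ (by omega) (by omega)
  · -- k = d
    obtain ⟨y₀, hy₀T, hy₀⟩ : ∃ y₀ ∈ T, y₀ ∉ N := by
      by_contra hcon
      push Not at hcon
      have hTN : T ≤ N := fun t ht => hcon t ht
      have := Subgroup.card_le_of_le hTN
      rw [hk, hkd] at this
      omega
    obtain ⟨x', hx'N, hx'p, -⟩ := exists_not_mem_pow_mem (T := ↥T) hT (N.subgroupOf T)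
      ⟨y₀, hy₀T⟩ (by rwa [Subgroup.mem_subgroupOf])
    set x : G := (x' : G) with hx
    have hxT : x ∈ T := x'.2
    have hxN : x ∉ N := by rwa [Subgroup.mem_subgroupOf] at hx'N
    have hxp : x ^ r ∈ N := by
      rw [Subgroup.mem_subgroupOf] at hx'p
      simpa using hx'p
    have hxpp : (x ^ r) ^ r = 1 := hNexp _ hxp
    obtain ⟨j, hj1, hj⟩ : ∃ j ≤ 1, orderOf (x ^ r) = r ^ j :=
      (Nat.dvd_prime_pow hrp).mp (by rw [pow_one]; exact orderOf_dvd_of_pow_eq_one hxpp)
    obtain ⟨N₀, hxN₀, hN₀N, hN₀⟩ := exists_between N (Subgroup.zpowers (x ^ r))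
      (by rw [Subgroup.zpowers_le]; exact hxp) j (d - 1) (by rw [Nat.card_zpowers, hj])
      (by omega) (by rw [hk]; exact pow_dvd_pow r (by omega))
    have hzT : Subgroup.zpowers x ≤ T := by rw [Subgroup.zpowers_le]; exact hxT
    have hnz := hcentT (Subgroup.zpowers x) N₀ hzT hN₀N
    set A := Subgroup.zpowers x ⊔ N₀ with hAdef
    have hAT : A ≤ T := sup_le hzT (hN₀N.trans hNT)
    have hAN : A ⊓ N ≤ N₀ := by
      intro z hz
      obtain ⟨w, hw, n₀, hn₀, rfl⟩ := mem_sup_of_le_normalizer _ N₀ hnz hz.1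
      obtain ⟨i, rfl⟩ := Subgroup.mem_zpowers_iff.mp hw
      have hxi : x ^ i ∈ N := by
        have : x ^ i = (x ^ i * n₀) * n₀⁻¹ := by group
        rw [this]; exact N.mul_mem hz.2 (N.inv_mem (hN₀N hn₀))
      have hpi : (r : ℤ) ∣ i := by
        have hq' : ((x : G) : G ⧸ N) ^ i = 1 := by
          rw [← QuotientGroup.mk_zpow]; exact (QuotientGroup.eq_one_iff _).mpr hxi
        have hordq : orderOf ((x : G) : G ⧸ N) = r := by
          apply orderOf_eq_prime
          · rw [← QuotientGroup.mk_pow]; exact (QuotientGroup.eq_one_iff _).mpr hxp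
          · intro h1; exact hxN ((QuotientGroup.eq_one_iff _).mp h1)
        have := orderOf_dvd_iff_zpow_eq_one.mpr hq'
        rwa [hordq] at this
      obtain ⟨q, rfl⟩ := hpi
      have : x ^ ((r : ℤ) * q) = (x ^ r) ^ q := by rw [zpow_mul, zpow_natCast]
      rw [this]
      exact N₀.mul_mem (N₀.zpow_mem (hxN₀ (Subgroup.mem_zpowers _)) q) hn₀
    have hAlt : Nat.card N₀ < Nat.card A := by
      by_contra hge
      rw [not_lt] at hge
      have : N₀ = A := Subgroup.eq_of_le_of_card_ge le_sup_right hge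
      apply hxN
      apply hN₀N
      rw [this]
      exact Subgroup.mem_sup_left (Subgroup.mem_zpowers x)
    obtain ⟨α, hα⟩ := IsPGroup.iff_card.mp (hT.to_le hAT)
    have hdα : d ≤ α := by
      rw [hN₀, hα] at hAlt
      have := (Nat.pow_lt_pow_iff_right hrp.one_lt).mp hAlt
      omega
    obtain ⟨F, hN₀F, hFA, hF⟩ := exists_between A N₀ le_sup_right (d - 1) d hN₀ (by omega)
      (by rw [hα]; exact pow_dvd_pow r hdα)
    have hFN : F ⊓ N = N₀ :=
      le_antisymm ((inf_le_inf_right N hFA).trans hAN) (le_inf hN₀F hN₀N)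
    have hFn : F.Normal := hnorm F (hFA.trans hAT) hF
    have hN₀n : N₀.Normal := by
      rw [← hFN]; infer_instance
    exact (hcontra N₀ hN₀n hN₀N (d - 1) hN₀ (by omega) (by omega)).elim
  · -- k > d
    obtain ⟨F, -, hFN, hF⟩ := exists_between N ⊥ bot_le 0 d (by simp) (by omega)
      (by rw [hk]; exact pow_dvd_pow r hkd.le)
    exact (hcontra F (hnorm F (hFN.trans hNT) hF) hFN d hF hd hkd).elim

end Cfsg.Agent.Lib.Helper11.SSKey
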