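import Mathlib
import Cfsg.Prelude.Def_SolvableStructure
import Cfsg.Agent.Lib.Helper11.SSKeyB

set_option autoImplicit false
open Cfsg
open scoped Pointwise

namespace Cfsg.Agent.Lib.Helper11.SSKey

open Cfsg.Agent.Lib.Helper11.HAut Cfsg.Agent.Lib.Helper11.HSub Cfsg.Agent.Lib.Helper4

universe u

/-- **Key lemma.** -/
theorem key_lemma {G : Type u} [Group G] [Finite G] (r : ℕ) [hr : Fact r.Prime]
    (T : Subgroup G) [hTn : T.Normal] (hT : IsPGroup r T) (hq : IsSupersolvable (G ⧸ T)) (d : ℕ)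
    (hd : 1 ≤ d) (hlt : r ^ d < Nat.card T)
    (hnorm : ∀ F : Subgroup G, F ≤ T → Nat.card F = r ^ d → F.Normal)
    (h4 : r ^ d = 2 → ∀ F : Subgroup G, F ≤ T → Nat.card F = 4 → F.Normal) :
    IsSupersolvable G := by
  by_cases hr2 : r = 2
  · subst hr2
    exact kl_two T hT hq d hd hlt hnorm h4
  · exact kl_gen r hr2 _ G rfl T hT hq d hd hlt hnorm

/-- An `ℋ`-subgroup inside a normal `q`-subgroup is normal. -/
theorem IsH.normal_of_le {G : Type*} [Group G] [Finite G] {q : ℕ} [Fact q.Prime]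
    {F : Subgroup G} (hF : IsH F) (Q : Subgroup G) [hQn : Q.Normal] (hQ : IsPGroup q Q)
    (hFQ : F ≤ Q) : F.Normal := by
  obtain ⟨P, hQP⟩ := hQ.exists_le_sylow
  have hP := hF.sylow_le_normalizer P (hFQ.trans hQP)
  constructor
  intro f hf g
  exact hF g ⟨⟨f, hf, rfl⟩, hP (hQP (hQn.conj_mem f (hFQ hf) g))⟩

/-- `ℋ`-subgroups which are `p`-groups stay `ℋ`-subgroups modulo a normal `p'`-subgroup. -/
theorem IsH.map_mk {G : Type*} [Group G] [Finite G] {p : ℕ} [hp : Fact p.Prime]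
    {F : Subgroup G} (hF : IsH F) (hFp : IsPGroup p F) (K : Subgroup G) [hKn : K.Normal] :
    IsH (F.map (QuotientGroup.mk' K)) := by
  intro g' x' hx'
  obtain ⟨hx1, hx2⟩ := hx'
  obtain ⟨g, rfl⟩ := QuotientGroup.mk_surjective g'
  obtain ⟨f', ⟨f, hf, rfl⟩, rfl⟩ := hx1
  set x : G := g * f * g⁻¹ with hx
  have hxmk : (MulAut.conj (g : G ⧸ K)).toMonoidHom (QuotientGroup.mk' K f) =
      QuotientGroup.mk' K x := by
    simp [hx]
  rw [hxmk] at hx2 ⊢
  -- the subgroup `H`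
  set H : Subgroup G := F ⊔ K ⊔ Subgroup.zpowers x with hH
  have hHnorm : H.map (QuotientGroup.mk' K) ≤
      Subgroup.normalizer ((F.map (QuotientGroup.mk' K) : Subgroup (G ⧸ K)) : Set (G ⧸ K)) := by
    rw [hH, Subgroup.map_sup, Subgroup.map_sup]
    apply sup_le (sup_le Subgroup.le_normalizer ?_) ?_
    · rintro _ ⟨k, hk, rfl⟩
      have : QuotientGroup.mk' K k = 1 := (QuotientGroup.eq_one_iff k).mpr hk
      rw [this]; exact Subgroup.one_mem _
    · rw [MonoidHom.map_zpowers, Subgroup.zpowers_le]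
      exact hx2
  have hFH : F ≤ H := le_sup_left.trans le_sup_left
  have hxH : x ∈ H := (le_sup_right : Subgroup.zpowers x ≤ H) (Subgroup.mem_zpowers x)
  -- Sylow theory in `H`
  have hF'p : IsPGroup p (F.subgroupOf H) :=
    hFp.comap_subtype
  obtain ⟨U, hFU⟩ := hF'p.exists_le_sylow
  have hxp : IsPGroup p (Subgroup.zpowers (⟨x, hxH⟩ : ↥H)) := by
    obtain ⟨j, hj⟩ := (IsPGroup.iff_orderOf.mp hFp) ⟨f, hf⟩
    apply IsPGroup.of_card (n := j)
    rw [Nat.card_zpowers, Subgroup.orderOf_mk, hx]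
    have h1 : orderOf (g * f * g⁻¹) = orderOf f :=
      ((SemiconjBy.conj_mk g f).orderOf_eq g).symm
    rw [h1, ← hj, Subgroup.orderOf_mk]
  obtain ⟨U₂, hxU₂⟩ := hxp.exists_le_sylow
  obtain ⟨h, hh⟩ := MulAction.exists_smul_eq ↥H U U₂
  have hxU : h⁻¹ * ⟨x, hxH⟩ * h ∈ (U : Subgroup ↥H) := by
    have h1 : (⟨x, hxH⟩ : ↥H) ∈ (U₂ : Subgroup ↥H) := hxU₂ (Subgroup.mem_zpowers _)
    rw [← hh, Sylow.coe_subgroup_smul, Subgroup.mem_pointwise_smul_iff_inv_smul_mem] at h1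
    simpa [MulAut.smul_def] using h1
  -- a Sylow subgroup of `G` containing the image of `U`
  have hUp : IsPGroup p ((U : Subgroup ↥H).map H.subtype) := U.2.map _
  obtain ⟨P, hUP⟩ := hUp.exists_le_sylow
  have hFP : F ≤ (P : Subgroup G) := by
    intro y hy
    apply hUP
    exact ⟨⟨y, hFH hy⟩, hFU (Subgroup.mem_subgroupOf.mpr hy), rfl⟩
  have hPn := hF.sylow_le_normalizer P hFP
  set x₂ : G := (h : G)⁻¹ * x * (h : G) with hx₂
  have hx₂U : x₂ ∈ (P : Subgroup G) := hUP ⟨_, hxU, by simp [hx₂]⟩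
  have hx₂F : x₂ ∈ F := by
    apply hF ((h : G)⁻¹ * g)
    refine ⟨⟨f, hf, ?_⟩, hPn hx₂U⟩
    simp only [MulEquiv.coe_toMonoidHom, MulAut.conj_apply, hx₂, hx]
    group
  have hmk : QuotientGroup.mk' K x =
      QuotientGroup.mk' K (h : G) * QuotientGroup.mk' K x₂ * (QuotientGroup.mk' K (h : G))⁻¹ := by
    rw [← map_inv, ← map_mul, ← map_mul, hx₂]
    congr 1
    group
  rw [hmk]
  have hhn := hHnorm ⟨(h : G), h.2, rfl⟩
  exact (Subgroup.mem_normalizer_iff.mp hhn _).mp ⟨x₂, hx₂F, rfl⟩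

end Cfsg.Agent.Lib.Helper11.SSKey
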