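import Mathlib
import Cfsg.Prelude.Def_SolvableStructure
import Cfsg.Agent.Lib.Helper11.SSKeyC
import Cfsg.Agent.S3031

set_option autoImplicit false
open Cfsg
open scoped Pointwise

namespace Cfsg.Agent.Lib.Helper11.SSKey

open Cfsg.Agent.Lib.Helper11.HAut Cfsg.Agent.Lib.Helper11.HSub Cfsg.Agent.Lib.Helper4

universe u

/-- The hypothesis of the supersolvability theorem for a subgroup `E` of `G`. -/
def Hyp {G : Type u} [Group G] (E : Subgroup G) : Prop :=
  ∀ (p : ℕ), p.Prime → ∀ P : Subgroup G, P ≤ E → IsPGroup p P → ¬ p ∣ P.relIndex E →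
    ¬ IsCyclic ↥P →
    ∃ D : Subgroup G, D ≤ P ∧ 1 < Nat.card D ∧ Nat.card D < Nat.card P ∧
      ∀ F : Subgroup G, F ≤ P → (Nat.card F = Nat.card D ∨ (Nat.card D = 2 ∧ Nat.card F = 4)) →
        IsH F

theorem relIndex_map_subtype {G : Type*} [Group G] (E : Subgroup G) (P' : Subgroup ↥E) :
    (P'.map E.subtype).relIndex E = P'.index := by
  unfold Subgroup.relIndex
  have : (P'.map E.subtype).subgroupOf E = P' :=
    Subgroup.comap_map_eq_self_of_injective E.subtype_injective P'
  rw [this]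

/-- Under `Hyp E`, `E` has a normal `p`-complement for its smallest prime divisor `p`. -/
theorem exists_pcomplement {G : Type u} [Group G] [Finite G] (E : Subgroup G) [hEn : E.Normal]
    (hE1 : E ≠ ⊥) (hyp : Hyp E) :
    ∃ (p : ℕ) (_ : p.Prime) (P K : Subgroup G) (a : ℕ), P ≤ E ∧ K ≤ E ∧ K.Normal ∧
      Nat.card P = p ^ a ∧ 1 ≤ a ∧ (Nat.card K).Coprime p ∧ Nat.card K * p ^ a = Nat.card E ∧
      (∀ e ∈ E, ∃ k ∈ K, ∃ u ∈ P, e = k * u) := by
  have hcard1 : Nat.card E ≠ 1 := fun h => hE1 (Subgroup.card_eq_one.mp h)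
  set p := (Nat.card E).minFac with hp
  have hpp : p.Prime := Nat.minFac_prime hcard1
  have : Fact p.Prime := ⟨hpp⟩
  have hdiv : p ∣ Nat.card ↥E := Nat.minFac_dvd _
  have hmin : ∀ q : ℕ, q.Prime → q ∣ Nat.card ↥E → p ≤ q := fun q _ hq => Nat.minFac_le_of_dvd
    (Nat.Prime.two_le ‹_›) hq
  let P' : Sylow p ↥E := default
  set P : Subgroup G := (P' : Subgroup ↥E).map E.subtype with hP
  have hPE : P ≤ E := Subgroup.map_subtype_le _
  have hPp : IsPGroup p P := P'.2.map _
  have hPidx : ¬ p ∣ P.relIndex E := by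
    rw [hP, relIndex_map_subtype]; exact P'.not_dvd_index
  have hcardP : Nat.card P = Nat.card (P' : Subgroup ↥E) :=
    Subgroup.card_map_of_injective E.subtype_injective
  have hS := Cfsg.Agent.S3031.result hdiv hmin P' (by
    by_cases hcyc : IsCyclic ↥P
    · left
      let e : ↥(P' : Subgroup ↥E) ≃* ↥P :=
        (P' : Subgroup ↥E).equivMapOfInjective E.subtype E.subtype_injective
      exact isCyclic_of_surjective e.symm e.symm.surjective
    · right
      obtain ⟨D, hDP, hD1, hDlt, hDH⟩ := hyp p hpp P hPE hPp hPidx hcyc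
      have hDE : D ≤ E := hDP.trans hPE
      have hcardD : Nat.card (D.subgroupOf E) = Nat.card D :=
        Nat.card_congr (Subgroup.subgroupOfEquivOfLe hDE).toEquiv
      refine ⟨D.subgroupOf E, ?_, by rw [hcardD]; exact hD1, by rw [hcardD, ← hcardP]; exact hDlt,
        ?_⟩
      · intro x hx
        obtain ⟨y, hy, hyx⟩ := hDP (Subgroup.mem_subgroupOf.mp hx)
        have : y = x := Subtype.ext hyx
        rwa [← this]
      · intro E' hE'P hE'card g
        set F : Subgroup G := E'.map E.subtype with hF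
        have hFcard : Nat.card F = Nat.card E' :=
          Subgroup.card_map_of_injective E.subtype_injective
        have hFH : IsH F := by
          apply hDH F (Subgroup.map_mono hE'P)
          rw [hFcard, ← hcardD]; exact hE'card
        rintro x ⟨hx1, hx2⟩
        have hxF : (x : G) ∈ F := by
          apply hFH (g : G)
          refine ⟨?_, ?_⟩
          · obtain ⟨e, he, rfl⟩ := hx1
            exact ⟨(e : G), ⟨e, he, rfl⟩, by simp⟩
          · apply Cfsg.Agent.Lib.Helper17.mem_normalizer_of_forall_conj_mem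
            rintro _ ⟨e, he, rfl⟩
            exact ⟨x * e * x⁻¹, (Subgroup.mem_normalizer_iff.mp hx2 e).mp he, by simp⟩
        obtain ⟨e, he, hex⟩ := hxF
        have : e = x := Subtype.ext hex
        rwa [← this])
  obtain ⟨P₀, K', hK'n, hc⟩ := hS
  obtain ⟨a, ha⟩ := IsPGroup.iff_card.mp P₀.2
  have ha1 : 1 ≤ a := by
    by_contra hcon
    have h0 : a = 0 := by omega
    rw [h0, pow_zero, Subgroup.card_eq_one] at ha
    exact P₀.ne_bot_of_dvd_card hdiv ha
  set P₁ : Subgroup G := (P₀ : Subgroup ↥E).map E.subtype with hP₁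
  set K : Subgroup G := K'.map E.subtype with hK
  have hcardP₁ : Nat.card P₁ = p ^ a := by
    rw [hP₁, Subgroup.card_map_of_injective E.subtype_injective, ha]
  have hcardK : Nat.card K = Nat.card K' := Subgroup.card_map_of_injective E.subtype_injective
  have hKcop : (Nat.card K).Coprime p := by
    rw [hcardK, ← hc.index_eq_card]
    exact ((Nat.Prime.coprime_iff_not_dvd hpp).mpr P₀.not_dvd_index).symm
  have hmul : Nat.card K * p ^ a = Nat.card E := by
    rw [hcardK, ← ha]; exact hc.card_mul_card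
  have hKn : K.Normal := by
    constructor
    rintro _ ⟨k, hk, rfl⟩ g
    have hgE : g * (k : G) * g⁻¹ ∈ E := hEn.conj_mem _ k.2 g
    refine ⟨⟨_, hgE⟩, ?_, rfl⟩
    set e : ↥E := ⟨_, hgE⟩ with he
    have hqcard : Nat.card (↥E ⧸ K') = p ^ a := by
      rw [← Subgroup.index_eq_card, hc.symm.index_eq_card, ha]
    have h1 : orderOf (QuotientGroup.mk' K' e) ∣ p ^ a := hqcard ▸ orderOf_dvd_natCard _
    have h2 : orderOf (QuotientGroup.mk' K' e) ∣ Nat.card K' := by
      refine (orderOf_map_dvd (QuotientGroup.mk' K') e).trans ?_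
      have h3 : orderOf e = orderOf k := by
        rw [← Subgroup.orderOf_coe e, ← Subgroup.orderOf_coe k, he]
        exact ((SemiconjBy.conj_mk g (k : G)).orderOf_eq g).symm
      rw [h3, ← Subgroup.orderOf_mk k hk]
      exact orderOf_dvd_natCard _
    have h4 : orderOf (QuotientGroup.mk' K' e) = 1 :=
      Nat.eq_one_of_dvd_coprimes (hcardK ▸ Nat.Coprime.pow_right a hKcop) h2 h1
    rw [orderOf_eq_one_iff] at h4
    exact (QuotientGroup.eq_one_iff e).mp h4
  refine ⟨p, hpp, P₁, K, a, Subgroup.map_subtype_le _, Subgroup.map_subtype_le _, hKn, hcardP₁, ha1,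
    hKcop, hmul, ?_⟩
  intro e he
  obtain ⟨⟨k, u⟩, hku, -⟩ := hc.existsUnique ⟨e, he⟩
  refine ⟨(k : G), ⟨k.1, k.2, rfl⟩, (u : G), ⟨u.1, u.2, rfl⟩, ?_⟩
  have := congrArg Subtype.val hku
  simpa using this.symm


/-- `Hyp` passes to the normal `p`-complement `K` of `E`. -/
theorem hyp_sub {G : Type u} [Group G] [Finite G] (E : Subgroup G) (hyp : Hyp E) {p : ℕ}
    [hp : Fact p.Prime] (K : Subgroup G) (a : ℕ) (hKE : K ≤ E) (hKcop : (Nat.card K).Coprime p)
    (hmul : Nat.card K * p ^ a = Nat.card E) : Hyp K := by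
  have hpp : p.Prime := hp.out
  intro s hs S hSK hSs hSidx hSnc
  by_cases hsp : s = p
  · subst hsp
    exfalso
    apply hSnc
    obtain ⟨i, hi⟩ := IsPGroup.iff_card.mp hSs
    have hi0 : i = 0 := by
      by_contra hne
      have h1 : s ∣ Nat.card K := (hi ▸ dvd_pow_self s hne : s ∣ Nat.card S).trans
        (Subgroup.card_dvd_of_le hSK)
      exact (Nat.Prime.coprime_iff_not_dvd hpp).mp hKcop.symm h1
    rw [hi0, pow_zero, Subgroup.card_eq_one] at hi
    have : Subsingleton ↥S := by rw [hi]; infer_instance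
    exact isCyclic_of_subsingleton
  · apply hyp s hs S (hSK.trans hKE) hSs ?_ hSnc
    rw [← Subgroup.relIndex_mul_relIndex (H := S) (K := K) (L := E) hSK hKE]
    have h1 : K.relIndex E = p ^ a := by
      have h2 := Cfsg.Agent.Lib.Helper4.card_mul_relIndex hKE
      rw [← hmul] at h2
      exact Nat.eq_of_mul_eq_mul_left Nat.card_pos h2
    rw [h1]
    intro hdvd
    rcases (Nat.Prime.dvd_mul hs).mp hdvd with h | h
    · exact hSidx h
    · exact hsp ((Nat.prime_dvd_prime_iff_eq hs hpp).mp (hs.dvd_of_dvd_pow h))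

/-- `Hyp` passes to `E / K` in `G / K`. -/
theorem hyp_quotient {G : Type u} [Group G] [Finite G] (E : Subgroup G) (hyp : Hyp E) {p : ℕ}
    [hp : Fact p.Prime] (P K : Subgroup G) [hKn : K.Normal] (a : ℕ) (hPE : P ≤ E)
    (hcardP : Nat.card P = p ^ a) (hKcop : (Nat.card K).Coprime p)
    (hmul : Nat.card K * p ^ a = Nat.card E)
    (hdec : ∀ e ∈ E, ∃ k ∈ K, ∃ u ∈ P, e = k * u) : Hyp (E.map (QuotientGroup.mk' K)) := by
  have hpp : p.Prime := hp.out
  have hPp : IsPGroup p P := IsPGroup.of_card hcardP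
  set E₁ := E.map (QuotientGroup.mk' K) with hE₁
  have hPmap : P.map (QuotientGroup.mk' K) = E₁ := by
    apply le_antisymm (Subgroup.map_mono hPE)
    rintro _ ⟨e, he, rfl⟩
    obtain ⟨k, hk, u, hu, rfl⟩ := hdec e he
    refine ⟨u, hu, ?_⟩
    have hk1 : QuotientGroup.mk' K k = 1 := (QuotientGroup.eq_one_iff k).mpr hk
    rw [map_mul, hk1, one_mul]
  have hPK : P ⊓ K = ⊥ :=
    (Subgroup.disjoint_of_coprime_natCard
      (by rw [hcardP]; exact (Nat.Coprime.pow_right a hKcop).symm)).eq_bot
  set ψ : ↥P →* G ⧸ K := (QuotientGroup.mk' K).comp P.subtype with hψ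
  have hψinj : Function.Injective ψ := by
    rw [injective_iff_map_eq_one]
    intro x hx
    have h1 : (x : G) ∈ K := (QuotientGroup.eq_one_iff (x : G)).mp hx
    have h2 : (x : G) ∈ P ⊓ K := ⟨x.2, h1⟩
    rw [hPK, Subgroup.mem_bot] at h2
    exact Subtype.ext h2
  have hcardmap : ∀ F : Subgroup G, F ≤ P →
      Nat.card (F.map (QuotientGroup.mk' K)) = Nat.card F := by
    intro F hFP
    have h1 : F.map (QuotientGroup.mk' K) = (F.subgroupOf P).map ψ := by
      rw [hψ, ← Subgroup.map_map, Subgroup.map_subgroupOf_eq_of_le hFP]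
    rw [h1, Subgroup.card_map_of_injective hψinj]
    exact Nat.card_congr (Subgroup.subgroupOfEquivOfLe hFP).toEquiv
  have hE₁card : Nat.card E₁ = p ^ a := by rw [← hPmap, hcardmap P le_rfl, hcardP]
  have hE₁p : IsPGroup p E₁ := IsPGroup.of_card hE₁card
  intro s hs P' hP'E hP's hP'idx hP'nc
  have : Fact s.Prime := ⟨hs⟩
  by_cases hsp : s = p
  · subst hsp
    have hP'eq : P' = E₁ := by
      apply le_antisymm hP'E
      rw [← Subgroup.relIndex_eq_one]
      have h1 : P'.relIndex E₁ ∣ s ^ a := by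
        rw [← hE₁card]; exact Subgroup.relIndex_dvd_card _ _
      obtain ⟨i, -, hi⟩ := (Nat.dvd_prime_pow hs).mp h1
      rcases Nat.eq_zero_or_pos i with h0 | hpos
      · rw [hi, h0, pow_zero]
      · exact absurd (hi ▸ dvd_pow_self s (by omega) : s ∣ P'.relIndex E₁) hP'idx
    have hPidx : ¬ s ∣ P.relIndex E := by
      have h2 := Cfsg.Agent.Lib.Helper4.card_mul_relIndex hPE
      rw [← hmul, hcardP, mul_comm] at h2
      have h3 : P.relIndex E = Nat.card K :=
        Nat.eq_of_mul_eq_mul_right (pow_pos hs.pos a) h2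
      rw [h3]
      exact (Nat.Prime.coprime_iff_not_dvd hs).mp hKcop.symm
    have hPnc : ¬ IsCyclic ↥P := by
      intro hc
      apply hP'nc
      rw [hP'eq, ← hPmap]
      exact isCyclic_of_surjective ((QuotientGroup.mk' K).subgroupMap P)
        ((QuotientGroup.mk' K).subgroupMap_surjective P)
    obtain ⟨D, hDP, hD1, hDlt, hDH⟩ := hyp s hs P hPE hPp hPidx hPnc
    refine ⟨D.map (QuotientGroup.mk' K), ?_, ?_, ?_, ?_⟩
    · rw [hP'eq, ← hPmap]; exact Subgroup.map_mono hDP
    · rw [hcardmap D hDP]; exact hD1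
    · rw [hcardmap D hDP, hP'eq, hE₁card, ← hcardP]; exact hDlt
    · intro F' hF'P hF'card
      set F : Subgroup G := F'.comap (QuotientGroup.mk' K) ⊓ P with hF
      have hFP : F ≤ P := inf_le_right
      have hFmap : F.map (QuotientGroup.mk' K) = F' := by
        apply le_antisymm
        · rintro _ ⟨f, hf, rfl⟩
          exact hf.1
        · intro f' hf'
          have h1 : f' ∈ P.map (QuotientGroup.mk' K) := by
            rw [hPmap, ← hP'eq]; exact hF'P hf'
          obtain ⟨u, hu, rfl⟩ := h1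
          exact ⟨u, ⟨hf', hu⟩, rfl⟩
      have hFcard : Nat.card F = Nat.card F' := by rw [← hFmap, hcardmap F hFP]
      have hFH : IsH F := by
        apply hDH F hFP
        rw [hFcard, ← hcardmap D hDP]
        exact hF'card
      rw [← hFmap]
      exact IsH.map_mk hFH (hPp.to_le hFP) K
  · exfalso
    apply hP'nc
    have h1 := IsPGroup.disjoint_of_ne s p hsp P' P' hP's (hE₁p.to_le hP'E)
    rw [disjoint_self] at h1
    have : Subsingleton ↥P' := by rw [h1]; infer_instance
    exact isCyclic_of_subsingleton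


/-- **Main theorem** (induction on `|G| + |E|`). -/
theorem main_aux : ∀ (n : ℕ) (G : Type u) [Group G] [Finite G] (E : Subgroup G) [E.Normal],
    Nat.card G + Nat.card E = n → IsSupersolvable (G ⧸ E) → Hyp E → IsSupersolvable G := by
  intro n
  induction n using Nat.strong_induction_on with
  | _ n ih =>
  intro G _ _ E hEn hn hq hyp
  by_cases hE1 : E = ⊥
  · have : Subsingleton ↥E := by rw [hE1]; infer_instance
    have : IsCyclic ↥E := isCyclic_of_subsingleton
    exact isSupersolvable_of_cyclic_normal E hq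
  obtain ⟨p, hpp, P, K, a, hPE, hKE, hKn, hcardP, ha1, hKcop, hmul, hdec⟩ :=
    exists_pcomplement E hE1 hyp
  have : Fact p.Prime := ⟨hpp⟩
  have hPp : IsPGroup p P := IsPGroup.of_card hcardP
  by_cases hK1 : K = ⊥
  · -- `E` is a `p`-group
    have hcardE : Nat.card E = p ^ a := by rw [← hmul, hK1, Subgroup.card_bot, one_mul]
    have hEp : IsPGroup p E := IsPGroup.of_card hcardE
    by_cases hcyc : IsCyclic ↥E
    · exact isSupersolvable_of_cyclic_normal E hq
    · have hidx : ¬ p ∣ E.relIndex E := by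
        rw [Subgroup.relIndex_self]
        exact fun h => hpp.one_lt.ne' (Nat.dvd_one.mp h)
      obtain ⟨D, hDE, hD1, hDlt, hDH⟩ := hyp p hpp E le_rfl hEp hidx hcyc
      obtain ⟨d, hd⟩ := IsPGroup.iff_card.mp (hEp.to_le hDE)
      have hd1 : 1 ≤ d := by
        by_contra hcon
        have : d = 0 := by omega
        rw [this, pow_zero] at hd
        omega
      apply key_lemma p E hEp hq d hd1 (by rw [← hd]; exact hDlt)
      · intro F hFE hF
        exact IsH.normal_of_le (hDH F hFE (Or.inl (by rw [hF, hd]))) E hEp hFE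
      · intro h2 F hFE hF
        exact IsH.normal_of_le (hDH F hFE (Or.inr ⟨by rw [hd]; exact h2, hF⟩)) E hEp hFE
  · -- `K ≠ ⊥`
    have hE₁n : (E.map (QuotientGroup.mk' K)).Normal :=
      Subgroup.Normal.map hEn _ (QuotientGroup.mk'_surjective K)
    have hGK : IsSupersolvable (G ⧸ K) := by
      refine ih _ ?_ (G ⧸ K) (E.map (QuotientGroup.mk' K)) rfl
        (isSupersolvable_quotient_map E K hq)
        (hyp_quotient E hyp P K a hPE hcardP hKcop hmul hdec)
      have h1 := card_quotient_lt_of_ne_bot' K hK1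
      have h2 : Nat.card (E.map (QuotientGroup.mk' K)) ≤ Nat.card E :=
        Nat.le_of_dvd Nat.card_pos (Subgroup.card_map_dvd E (QuotientGroup.mk' K))
      omega
    refine ih _ ?_ G K rfl hGK (hyp_sub E hyp K a hKE hKcop hmul)
    have h1 : Nat.card K < Nat.card E := by
      rw [← hmul]
      have h2 : 0 < Nat.card K := Nat.card_pos
      have h3 : 2 ≤ p ^ a := by
        calc 2 ≤ p := hpp.two_le
          _ = p ^ 1 := (pow_one p).symm
          _ ≤ p ^ a := Nat.pow_le_pow_right hpp.pos ha1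
      nlinarith
    omega

end Cfsg.Agent.Lib.Helper11.SSKey
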