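import Cfsg.Agent.Lib.Helper11.RegCent
import Cfsg.Agent.Lib.Helper7.ChevWeylPerm

/-!
helper11: centralisers of elements of the diagonal subgroup `H` of a Chevalley group (seven tabulated data, any field),
through helper7's sharp Bruhat form `g = h' u' n u`: such a `g` commutes with `h ∈ H` iff `u'`, `n` and `u` do.
-/

set_option autoImplicit false

namespace Cfsg.Agent.Lib.Helper11.SemiCent

open Cfsg Cfsg.Lie Matrix Cfsg.Agent.Lib.Helper7
open Cfsg.Agent.Lib.Helper3.BN

section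
variable (D : ChevalleyDatum) (hD : D ∈ [chevG2, chevB2, chevD4, chevF4, chevE6, chevE7, chevE8])
variable (F : Type*) [Field F]
include hD

/-- an element of `N` normalising every root subgroup lies in `H` -/
theorem mem_diag_of_fix (n : GL D.Idx F) (hn : n ∈ D.monomialSubgroup F)
    (hfix : ∀ s < D.nroots, ∃ c : F, ∀ t : F, n⁻¹ * xGL D hD F s t * n = xGL D hD F s (c * t)) :
    n ∈ D.diagonalSubgroup F := by
  have hNG := monomial_le_group D hD F
  have hBG := borel_le_group D hD F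
  have hU : ∀ u ∈ D.posUnipotent F, n⁻¹ * u * n⁻¹⁻¹ ∈ D.posUnipotent F := by
    unfold ChevalleyDatum.posUnipotent
    apply conj_mem_closure
    rintro x ⟨r, t, hr, hxm⟩
    have hx : x = xGL D hD F r t := Units.ext (by rw [hxm, coe_xGL])
    obtain ⟨c, hc1⟩ := hfix r hr.1
    rw [inv_inv, hx, hc1]
    apply Subgroup.subset_closure
    exact ⟨r, c * t, hr, coe_xGL D hD F _ _⟩
  have hH : ∀ k ∈ D.diagonalSubgroup F, n⁻¹ * k * n⁻¹⁻¹ ∈ D.diagonalSubgroup F := by
    intro k hk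
    have := monomialSubgroup_le_normalizer_diagonal D hD F (Subgroup.inv_mem _ hn)
    rw [Subgroup.mem_set_normalizer_iff] at this
    exact (this k).mp hk
  have hB : ∀ b ∈ D.borelSubgroup F, n⁻¹ * b * n⁻¹⁻¹ ∈ D.borelSubgroup F := by
    intro b hb
    have hb' : b ∈ ((D.borelSubgroup F : Subgroup (GL D.Idx F)) : Set (GL D.Idx F)) := hb
    rw [borel_eq_mul D hD F] at hb'
    obtain ⟨k, hk, u, hu, rfl⟩ := Set.mem_mul.mp hb'
    have e : n⁻¹ * (k * u) * n⁻¹⁻¹ = (n⁻¹ * k * n⁻¹⁻¹) * (n⁻¹ * u * n⁻¹⁻¹) := by group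
    rw [e]
    exact Subgroup.mul_mem _ (diagonal_le_borel D hD F (hH k hk))
      (posUnipotent_le_borel D hD F (hU u hu))
  obtain ⟨P, hP⟩ : ∃ P, P = chevBNPair D hD F := ⟨_, rfl⟩
  have hPB : ∀ g : ↥(D.group F), g ∈ P.B ↔ (g : GL D.Idx F) ∈ D.borelSubgroup F := by
    rw [hP]; exact mem_B_iff D hD F
  have hninv : n⁻¹ ∈ D.group F := Subgroup.inv_mem _ (hNG hn)
  have h1 : (⟨n⁻¹, hninv⟩ : ↥(D.group F)) ∈ P.B := by
    apply mem_of_conj_B_le P P.B le_rfl
    intro b hb
    rw [hPB]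
    exact hB _ ((hPB b).mp hb)
  have h2 : n⁻¹ ∈ D.borelSubgroup F := (hPB _).mp h1
  have h3 : n ∈ D.borelSubgroup F := by
    have := Subgroup.inv_mem _ h2
    rwa [inv_inv] at this
  rw [← borel_inf_monomial D hD F]
  exact Subgroup.mem_inf.mpr ⟨h3, hn⟩

/-- an element of `N` acting trivially on the roots lies in `H` -/
theorem mem_diag_of_actsAs (n : GL D.Idx F) (hn : n ∈ D.monomialSubgroup F) (f : ℕ → ℕ)
    (hf : ActsAs D hD F n f) (hid : ∀ s < D.nroots, f s = s) : n ∈ D.diagonalSubgroup F := by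
  apply mem_diag_of_fix D hD F n hn
  intro s hs
  obtain ⟨-, c, hc, h1⟩ := hf s hs
  rw [hid s hs] at h1
  refine ⟨c⁻¹, fun t => ?_⟩
  have := h1 (c⁻¹ * t)
  rw [← mul_assoc, mul_inv_cancel₀ hc, one_mul] at this
  rw [← this]; group

/-- the three outer factors of the sharp Bruhat form of an element commuting with `h ∈ H` commute with `h` -/
theorem cent_canon (h : GL D.Idx F) (hh : h ∈ D.diagonalSubgroup F)
    (h' : GL D.Idx F) (hh' : h' ∈ D.diagonalSubgroup F) (u' : GL D.Idx F) (hu' : u' ∈ D.posUnipotent F)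
    (n : GL D.Idx F) (hn : n ∈ D.monomialSubgroup F) (u : GL D.Idx F) (hu : u ∈ uMinus D F n)
    (hc : (h' * u' * n * u) * h = h * (h' * u' * n * u)) :
    n * h = h * n ∧ u' * h = h * u' ∧ u * h = h * u := by
  have hHB := diagonal_le_borel D hD F
  have hUB := posUnipotent_le_borel D hD F
  have hb : h' * u' ∈ D.borelSubgroup F := Subgroup.mul_mem _ (hHB hh') (hUB hu')
  have hk : n * h * n⁻¹ ∈ D.diagonalSubgroup F := by
    have := monomialSubgroup_le_normalizer_diagonal D hD F hn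
    rw [Subgroup.mem_set_normalizer_iff] at this
    exact (this h).mp hh
  obtain ⟨k, hkdef⟩ : ∃ k : GL D.Idx F, k = n * h * n⁻¹ := ⟨_, rfl⟩
  rw [← hkdef] at hk
  have hu₁ : h⁻¹ * u * h⁻¹⁻¹ ∈ uMinus D F n :=
    diag_conj_uMinus D hD F n h⁻¹ (Subgroup.inv_mem _ hh) u hu
  have heq : (h' * u' * k) * n * (h⁻¹ * u * h⁻¹⁻¹) = (h * (h' * u')) * n * u := by
    have e1 : (h' * u' * k) * n * (h⁻¹ * u * h⁻¹⁻¹) = (h' * u' * n * u) * h := by rw [hkdef]; group
    have e2 : (h * (h' * u')) * n * u = h * (h' * u' * n * u) := by group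
    rw [e1, e2, hc]
  have huniq := (canon_unique D hD F (h' * u' * k) (h * (h' * u')) n n _ u
    (Subgroup.mul_mem _ hb (hHB hk)) (Subgroup.mul_mem _ (hHB hh) hb) hn hn hu₁ hu heq).2 rfl
  have hbk : h' * u' * k = h * (h' * u') := huniq.1
  have hNU := diagonalSubgroup_le_normalizer_posUnipotent D hD F
  have hku : k⁻¹ * u' * k⁻¹⁻¹ ∈ D.posUnipotent F := by
    have := hNU (Subgroup.inv_mem _ hk)
    rw [Subgroup.mem_set_normalizer_iff] at this
    exact (this u').mp hu'
  have hmem : (h * h')⁻¹ * (h' * k) ∈ D.posUnipotent F ⊓ D.diagonalSubgroup F := by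
    refine Subgroup.mem_inf.mpr ⟨?_, ?_⟩
    · have e : (h * h')⁻¹ * (h' * k) = u' * (k⁻¹ * u' * k⁻¹⁻¹)⁻¹ := by
        have : h' * k = h * h' * u' * k⁻¹ * u'⁻¹ * k := by
          have h3 : h' * u' * k = h * (h' * u') := hbk
          have : h' * k = (h' * u' * k) * k⁻¹ * u'⁻¹ * k := by group
          rw [this, h3]; group
        rw [this]; group
      rw [e]
      exact Subgroup.mul_mem _ hu' (Subgroup.inv_mem _ hku)
    · exact Subgroup.mul_mem _ (Subgroup.inv_mem _ (Subgroup.mul_mem _ hh hh'))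
        (Subgroup.mul_mem _ hh' hk)
  rw [posUnipotent_inf_diagonalSubgroup D hD F, Subgroup.mem_bot] at hmem
  have h4 : h' * k = h * h' := (inv_mul_eq_one.mp hmem).symm
  rw [diagonalSubgroup_comm D hD F h h' hh hh'] at h4
  have hkh : k = h := mul_left_cancel h4
  refine ⟨?_, ?_, ?_⟩
  · have : n * h = k * n := by rw [hkdef]; group
    rw [this, hkh]
  · rw [hkh] at hbk
    have h5 : h' * (u' * h) = h' * (h * u') := by
      have e1 : h' * (u' * h) = h' * u' * h := by group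
      have e2 : h' * (h * u') = h * (h' * u') := by
        rw [← mul_assoc, diagonalSubgroup_comm D hD F h' h hh' hh, mul_assoc]
      rw [e1, e2, hbk]
    exact mul_left_cancel h5
  · have h2 : h⁻¹ * u * h⁻¹⁻¹ = u := huniq.2
    have : u * h = h * (h⁻¹ * u * h⁻¹⁻¹) := by group
    rw [this, h2]

/-- `U_{kn}⁻ = U_n⁻` for `k ∈ H` -/
theorem uMinus_diag_mul (k : GL D.Idx F) (hk : k ∈ D.diagonalSubgroup F) (n : GL D.Idx F) :
    uMinus D F (k * n) = uMinus D F n := by
  have hN := diagonalSubgroup_le_normalizer_negUnipotent D hD F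
  have key : ∀ r : ℕ, (D.rootSubgroup F r).map (MulAut.conj (k * n)).toMonoidHom ≤ D.negUnipotent F ↔
      (D.rootSubgroup F r).map (MulAut.conj n).toMonoidHom ≤ D.negUnipotent F := by
    intro r
    rw [map_conj_le_iff D hD F, map_conj_le_iff D hD F]
    constructor
    · intro h t
      have h1 := h t
      have h2 := hN (Subgroup.inv_mem _ hk)
      rw [Subgroup.mem_set_normalizer_iff] at h2
      have h3 := (h2 _).mp h1
      have e : k⁻¹ * (k * n * xGL D hD F r t * (k * n)⁻¹) * k⁻¹⁻¹ = n * xGL D hD F r t * n⁻¹ := by group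
      rwa [e] at h3
    · intro h t
      have h1 := h t
      have h2 := hN hk
      rw [Subgroup.mem_set_normalizer_iff] at h2
      have h3 := (h2 _).mp h1
      have e : k * (n * xGL D hD F r t * n⁻¹) * k⁻¹ = k * n * xGL D hD F r t * (k * n)⁻¹ := by group
      rwa [e] at h3
  unfold uMinus
  congr 1
  ext x
  constructor
  · rintro ⟨r, t, hr, hle, hx⟩
    exact ⟨r, t, hr, (key r).mp hle, hx⟩
  · rintro ⟨r, t, hr, hle, hx⟩
    exact ⟨r, t, hr, (key r).mpr hle, hx⟩

end

end Cfsg.Agent.Lib.Helper11.SemiCent
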