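import Cfsg.Agent.Lib.Helper11.SemiCentA
import Cfsg.Agent.Lib.Helper7.ChevWeylTab1
import Cfsg.Agent.Lib.Helper7.ChevWeylTabG2

/-!
helper11 (S4279): `G₂(F)`, characteristic `≠ 2`: the involution `h₀ = h_{11}(-1)` of the diagonal subgroup
(`11 = 3a+2b` the highest root, orthogonal to the short fundamental root `7 = a`); the pieces of its centraliser:
`C_U(h₀) = X_7 X_11`, `C_N(h₀) = H ⟨n_7, n_11⟩`.
-/

set_option autoImplicit false

namespace Cfsg.Agent.Lib.Helper11.SemiCent

open Cfsg Cfsg.Lie Matrix Cfsg.Agent.Lib.Helper7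
open Cfsg.Agent.Lib.Helper3.BN

theorem hG : chevG2 ∈ [chevG2, chevB2, chevD4, chevF4, chevE6, chevE7, chevE8] := by simp

variable (F : Type*) [Field F]

/-- the root elements of the two orthogonal roots -/
noncomputable def x7 (s : F) : GL chevG2.Idx F := xGL chevG2 hG F 7 s
noncomputable def x11 (t : F) : GL chevG2.Idx F := xGL chevG2 hG F 11 t

/-- the involution -/
noncomputable def h0 : GL chevG2.Idx F := wordGL chevG2 hG F (chevG2.hWord 11 (-1))

/-- its character: `1` on `±7, ±11`, `-1` on the other roots -/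
def chi0 (s : ℕ) : F := (-1 : F) ^ carR chevG2 11 s

/-- the roots on which the character is `1` -/
def isPsi (s : ℕ) : Bool := s == 0 || s == 4 || s == 7 || s == 11

theorem carR_even : ∀ s < 12, isPsi s = true → Even (carR chevG2 11 s) := by decide
theorem carR_odd : ∀ s < 12, isPsi s = false → Odd (carR chevG2 11 s) := by decide

theorem chi0_psi (s : ℕ) (hs : s < 12) (h : isPsi s = true) : chi0 F s = 1 := by
  unfold chi0
  exact (carR_even s hs h).neg_one_zpow

theorem chi0_not_psi (s : ℕ) (hs : s < 12) (h : isPsi s = false) : chi0 F s = -1 := by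
  unfold chi0
  exact (carR_odd s hs h).neg_one_zpow

theorem neg_one_ne_zero' : (-1 : F) ≠ 0 := neg_ne_zero.mpr one_ne_zero

theorem chainChar_chi0 : ChainChar chevG2 F (chi0 F) :=
  chainChar_h chevG2 hG F 11 (-1) (neg_one_ne_zero' F)

theorem coe_h0 : ((h0 F : GL chevG2.Idx F) : Matrix chevG2.Idx chevG2.Idx F) = diagChar chevG2 F (chi0 F) := by
  unfold h0
  rw [coe_wordGL]
  exact hMat_eq_diagChar chevG2 hG F 11 (by decide) (-1) (neg_one_ne_zero' F)

theorem h0_mem : h0 F ∈ chevG2.diagonalSubgroup F :=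
  hGL_mem_diagonalSubgroup chevG2 hG F 11 (by decide) (-1) (neg_one_ne_zero' F)

theorem h0_x (s : ℕ) (t : F) : h0 F * xGL chevG2 hG F s t = xGL chevG2 hG F s (chi0 F s * t) * h0 F :=
  diagGL_xGL_comm chevG2 hG F (h0 F) (chi0 F) (chainChar_chi0 F) (coe_h0 F) s t

theorem h0_x7 (s : F) : h0 F * x7 F s = x7 F s * h0 F := by
  unfold x7
  rw [h0_x, chi0_psi F 7 (by decide) (by decide), one_mul]

theorem h0_x11 (t : F) : h0 F * x11 F t = x11 F t * h0 F := by
  unfold x11
  rw [h0_x, chi0_psi F 11 (by decide) (by decide), one_mul]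

theorem posRoots_G2 : chevG2.posRoots = [6, 7, 8, 9, 10, 11] := by decide

/-- `C_U(h₀) = X_7 X_11` -/
theorem centU (h2 : (2 : F) ≠ 0) (u : GL chevG2.Idx F) (hu : u ∈ chevG2.posUnipotent F)
    (hc : u * h0 F = h0 F * u) : ∃ s t : F, u = x7 F s * x11 F t := by
  obtain ⟨w, hO⟩ := exists_ordW chevG2 hG
  have hA := chainAdd_linF chevG2 hG w
  have hGd := goodL_posRoots chevG2
  rw [posUnipotent_eq_closure_gensL] at hu
  obtain ⟨t, rfl⟩ := exists_ordProd chevG2 hG F _ hA hO _ hGd u hu
  have hc' : h0 F * ordProd chevG2 hG F chevG2.posRoots t * (h0 F)⁻¹ = ordProd chevG2 hG F chevG2.posRoots t := by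
    rw [← hc]; group
  rw [RegCent.diag_conj_ordProd chevG2 hG F (h0 F) (chi0 F) (chainChar_chi0 F) (coe_h0 F)] at hc'
  have hagree := ordProd_inj chevG2 hG F _ hA hO _ hGd _ _ hc'
  have h0' : ∀ r ∈ chevG2.posRoots, isPsi r = false → t r = 0 := by
    intro r hr hp
    have h1 : chi0 F r * t r = t r := hagree r hr
    have hr' : r < 12 := ((mem_posRoots chevG2 r).mp hr).1
    rw [chi0_not_psi F r hr' hp] at h1
    have h3 : (2 : F) * t r = 0 := by
      have : t r + t r = 0 := by nth_rewrite 1 [← h1]; ring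
      rw [two_mul]; exact this
    rcases mul_eq_zero.mp h3 with h4 | h4
    · exact absurd h4 h2
    · exact h4
  refine ⟨t 7, t 11, ?_⟩
  rw [posRoots_G2] at h0' ⊢
  have e6 := h0' 6 (by simp) (by decide)
  have e8 := h0' 8 (by simp) (by decide)
  have e9 := h0' 9 (by simp) (by decide)
  have e10 := h0' 10 (by simp) (by decide)
  simp only [ordProd_cons, ordProd_nil, e6, e8, e9, e10, xGL_zero, one_mul, mul_one]
  rfl

/-- the parametrisation of `X_7 X_11` is injective -/
theorem x7_x11_inj (s t s' t' : F) (h : x7 F s * x11 F t = x7 F s' * x11 F t') : s = s' ∧ t = t' := by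
  have e : xGL chevG2 hG F 7 (s - s') = xGL chevG2 hG F 11 (t' - t) := by
    have h1 : xGL chevG2 hG F 7 (s - s') = (x7 F s')⁻¹ * x7 F s := by
      unfold x7; rw [xGL_inv, xGL_mul]; congr 1; ring
    have h2 : xGL chevG2 hG F 11 (t' - t) = x11 F t' * (x11 F t)⁻¹ := by
      unfold x11; rw [xGL_inv, xGL_mul]; congr 1; ring
    rw [h1, h2]
    have : x7 F s = x7 F s' * x11 F t' * (x11 F t)⁻¹ := by rw [← h]; group
    rw [this]; group
  have hs : s = s' := by
    by_contra hne
    have := xGL_root_inj chevG2 hG F 7 11 (by decide) (by decide) _ _ (sub_ne_zero.mpr hne) e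
    omega
  subst hs
  rw [sub_self, xGL_zero] at e
  have := RegCent.xGL_injective chevG2 hG F 11 (by decide) (t' - t) 0 (by rw [← e, xGL_zero])
  exact ⟨rfl, (sub_eq_zero.mp this).symm⟩

end Cfsg.Agent.Lib.Helper11.SemiCent
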