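import Cfsg.Agent.Lib.Helper11.SemiCentB

/-!
helper11 (S4279): `C_N(h₀) = H · {1, n_7, n_11, n_7 n_11}` in `G₂(F)`, characteristic `≠ 2`.
-/

set_option autoImplicit false

namespace Cfsg.Agent.Lib.Helper11.SemiCent

open Cfsg Cfsg.Lie Matrix Cfsg.Agent.Lib.Helper7
open Cfsg.Agent.Lib.Helper3.BN

section generic
variable (D : ChevalleyDatum) (hD : D ∈ [chevG2, chevB2, chevD4, chevF4, chevE6, chevE7, chevE8])
variable (F : Type*) [Field F]
include hD

/-- the product of the fundamental `n_i` along a word -/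
noncomputable def mW (L : List ℕ) : GL D.Idx F := (L.map (nFund D hD F)).prod

theorem mW_mem (L : List ℕ) (hL : ∀ i ∈ L, i < D.rank) : mW D hD F L ∈ D.monomialSubgroup F := by
  unfold mW
  apply Subgroup.list_prod_mem
  intro g hg
  rw [List.mem_map] at hg
  obtain ⟨i, hi, rfl⟩ := hg
  exact nFund_mem_monomial D hD F i (hL i hi)

theorem actsAs_mW (L : List ℕ) (hL : ∀ i ∈ L, i < D.rank) : ActsAs D hD F (mW D hD F L) (reflWord D L) := by
  induction L with
  | nil =>
    unfold mW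
    rw [List.map_nil, List.prod_nil]
    exact actsAs_diag D hD F 1 (Subgroup.one_mem _)
  | cons i L ih =>
    have hi : i < D.rank := hL i List.mem_cons_self
    have ih' := ih (fun j hj => hL j (List.mem_cons_of_mem _ hj))
    have := ActsAs.mul D F (actsAs_nFund D hD F i hi) ih'
    unfold mW at this ⊢
    rw [List.map_cons, List.prod_cons]
    exact this

/-- two elements of `H` acting in the same way on all root elements are equal -/
theorem diag_eq_of_conj_eq (h₁ h₂ : GL D.Idx F) (hh₁ : h₁ ∈ D.diagonalSubgroup F) (hh₂ : h₂ ∈ D.diagonalSubgroup F)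
    (h : ∀ s < D.nroots, h₁ * xGL D hD F s 1 * h₁⁻¹ = h₂ * xGL D hD F s 1 * h₂⁻¹) : h₁ = h₂ := by
  obtain ⟨χ₁, hχ₁, hm₁⟩ := mem_diagonalSubgroup_char D hD F h₁ hh₁
  obtain ⟨χ₂, hχ₂, hm₂⟩ := mem_diagonalSubgroup_char D hD F h₂ hh₂
  have hag : ∀ s < D.nroots, χ₁ s = χ₂ s := by
    intro s hs
    have e1 : h₁ * xGL D hD F s 1 * h₁⁻¹ = xGL D hD F s (χ₁ s * 1) := by
      rw [diagGL_xGL_comm D hD F h₁ χ₁ hχ₁ hm₁ s 1]; group
    have e2 : h₂ * xGL D hD F s 1 * h₂⁻¹ = xGL D hD F s (χ₂ s * 1) := by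
      rw [diagGL_xGL_comm D hD F h₂ χ₂ hχ₂ hm₂ s 1]; group
    have := RegCent.xGL_injective D hD F s hs _ _ (e1.symm.trans ((h s hs).trans e2))
    rwa [mul_one, mul_one] at this
  apply Units.ext
  rw [hm₁, hm₂]
  unfold diagChar
  congr 1
  funext i
  rcases i with i | i
  · rfl
  · exact hag i.val i.isLt

/-- an element `n` of `N` acting on the roots by an involution `f` preserving the character of `h ∈ H` commutes
with `h` -/
theorem comm_of_actsAs (n : GL D.Idx F) (hn : n ∈ D.monomialSubgroup F) (f : ℕ → ℕ) (hf : ActsAs D hD F n f)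
    (hinv : ∀ s < D.nroots, f (f s) = s)
    (h : GL D.Idx F) (hh : h ∈ D.diagonalSubgroup F) (χ : ℕ → F) (hχ : ChainChar D F χ)
    (hm : (h : Matrix D.Idx D.Idx F) = diagChar D F χ) (hpres : ∀ s < D.nroots, χ (f s) = χ s) :
    n * h = h * n := by
  have hk : n * h * n⁻¹ ∈ D.diagonalSubgroup F := by
    have := monomialSubgroup_le_normalizer_diagonal D hD F hn
    rw [Subgroup.mem_set_normalizer_iff] at this
    exact (this h).mp hh
  have key : n * h * n⁻¹ = h := by
    apply diag_eq_of_conj_eq D hD F _ _ hk hh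
    intro s hs
    obtain ⟨hlt, c, hc, h1⟩ := hf s hs
    obtain ⟨hlt', c', hc', h1'⟩ := hf (f s) hlt
    rw [hinv s hs] at h1'
    -- `n⁻¹ x_s(1) n = x_{f s}(c'⁻¹)`
    have e1 : n⁻¹ * xGL D hD F s 1 * n = xGL D hD F (f s) c'⁻¹ := by
      have := h1' c'⁻¹
      rw [mul_inv_cancel₀ hc'] at this
      rw [← this]; group
    have e2 : n * h * n⁻¹ * xGL D hD F s 1 * (n * h * n⁻¹)⁻¹ =
        n * (h * (n⁻¹ * xGL D hD F s 1 * n) * h⁻¹) * n⁻¹ := by group
    rw [e2, e1]
    have e3 : h * xGL D hD F (f s) c'⁻¹ * h⁻¹ = xGL D hD F (f s) (χ (f s) * c'⁻¹) := by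
      rw [diagGL_xGL_comm D hD F h χ hχ hm (f s) c'⁻¹]; group
    rw [e3, h1', hpres s hs]
    have e4 : h * xGL D hD F s 1 * h⁻¹ = xGL D hD F s (χ s * 1) := by
      rw [diagGL_xGL_comm D hD F h χ hχ hm s 1]; group
    rw [e4]
    congr 1
    field_simp
  calc n * h = (n * h * n⁻¹) * n := by group
    _ = h * n := by rw [key]

/-- the action on the roots of an element of `N` commuting with `h ∈ H` preserves the character of `h` -/
theorem pres_of_comm (n : GL D.Idx F) (f : ℕ → ℕ) (hf : ActsAs D hD F n f)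
    (h : GL D.Idx F) (χ : ℕ → F) (hχ : ChainChar D F χ)
    (hm : (h : Matrix D.Idx D.Idx F) = diagChar D F χ) (hc : n * h = h * n) :
    ∀ s < D.nroots, χ (f s) = χ s := by
  intro s hs
  obtain ⟨hlt, c, hc0, h1⟩ := hf s hs
  have e1 : n * (h * xGL D hD F s 1 * h⁻¹) * n⁻¹ = xGL D hD F (f s) (c * (χ s * 1)) := by
    have : h * xGL D hD F s 1 * h⁻¹ = xGL D hD F s (χ s * 1) := by
      rw [diagGL_xGL_comm D hD F h χ hχ hm s 1]; group
    rw [this, h1]
  have e2 : n * (h * xGL D hD F s 1 * h⁻¹) * n⁻¹ = xGL D hD F (f s) (χ (f s) * (c * 1)) := by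
    have hc' : h⁻¹ * n⁻¹ = n⁻¹ * h⁻¹ := by
      rw [← _root_.mul_inv_rev, ← _root_.mul_inv_rev, hc]
    have : n * (h * xGL D hD F s 1 * h⁻¹) * n⁻¹ = (n * h) * xGL D hD F s 1 * (h⁻¹ * n⁻¹) := by group
    rw [this, hc, hc']
    have : h * n * xGL D hD F s 1 * (n⁻¹ * h⁻¹) = h * (n * xGL D hD F s 1 * n⁻¹) * h⁻¹ := by group
    rw [this, h1, diagGL_xGL_comm D hD F h χ hχ hm (f s) (c * 1)]; group
  have e3 := RegCent.xGL_injective D hD F (f s) hlt _ _ (e1.symm.trans e2)
  rw [mul_one, mul_one] at e3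
  have : c * χ s = c * χ (f s) := by rw [e3, mul_comm]
  exact (mul_left_cancel₀ hc0 this).symm

end generic

variable (F : Type*) [Field F]

/-- words for the four elements of the Weyl group fixing `h₀` -/
def wordC : Fin 4 → List ℕ := ![[], [0], [1, 0, 1, 0, 1], [0, 1, 0, 1, 0, 1]]

/-- representatives in `N` -/
noncomputable def mC (c : Fin 4) : GL chevG2.Idx F := mW chevG2 hG F (wordC c)

/-- their actions on the roots, as lists -/
def permC : Fin 4 → List ℕ := ![[0, 1, 2, 3, 4, 5, 6, 7, 8, 9, 10, 11], [0, 5, 3, 2, 7, 1, 10, 4, 9, 8, 6, 11],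
  [11, 6, 8, 9, 4, 10, 1, 7, 2, 3, 5, 0], [11, 10, 9, 8, 7, 6, 5, 4, 3, 2, 1, 0]]

theorem wordC_lt (c : Fin 4) : ∀ i ∈ wordC c, i < chevG2.rank := by
  fin_cases c <;> decide

theorem reflWord_wordC : ∀ c : Fin 4, ∀ s < 12, reflWord chevG2 (wordC c) s = (permC c).getD s 0 := by
  decide

theorem permC_invol : ∀ c : Fin 4, ∀ s < 12, (permC c).getD ((permC c).getD s 0) 0 = s := by decide

theorem permC_lt : ∀ c : Fin 4, ∀ s < 12, (permC c).getD s 0 < 12 := by decide

theorem permC_psi : ∀ c : Fin 4, ∀ s < 12, isPsi ((permC c).getD s 0) = isPsi s := by decide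

theorem mC_mem (c : Fin 4) : mC F c ∈ chevG2.monomialSubgroup F := mW_mem chevG2 hG F _ (wordC_lt c)

theorem actsAs_mC (c : Fin 4) : ActsAs chevG2 hG F (mC F c) (reflWord chevG2 (wordC c)) :=
  actsAs_mW chevG2 hG F _ (wordC_lt c)

theorem chi0_eq_of_psi (s s' : ℕ) (hs : s < 12) (hs' : s' < 12) (h : isPsi s = isPsi s') : chi0 F s = chi0 F s' := by
  cases hp : isPsi s'
  · rw [chi0_not_psi F s hs (h.trans hp), chi0_not_psi F s' hs' hp]
  · rw [chi0_psi F s hs (h.trans hp), chi0_psi F s' hs' hp]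

theorem psi_eq_of_chi0 (h2 : (2 : F) ≠ 0) (s s' : ℕ) (hs : s < 12) (hs' : s' < 12) (h : chi0 F s = chi0 F s') :
    isPsi s = isPsi s' := by
  have hne : (1 : F) ≠ -1 := by
    intro h1
    apply h2
    have : (1 : F) + 1 = 0 := by nth_rewrite 1 [h1]; ring
    rw [← one_add_one_eq_two]; exact this
  cases hp : isPsi s <;> cases hp' : isPsi s'
  · rfl
  · rw [chi0_not_psi F s hs hp, chi0_psi F s' hs' hp'] at h
    exact absurd h.symm hne
  · rw [chi0_psi F s hs hp, chi0_not_psi F s' hs' hp'] at h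
    exact absurd h hne
  · rfl

/-- the representatives commute with `h₀` -/
theorem mC_comm (c : Fin 4) : mC F c * h0 F = h0 F * mC F c := by
  apply comm_of_actsAs chevG2 hG F _ (mC_mem F c) _ (actsAs_mC F c) _ (h0 F) (h0_mem F) (chi0 F)
    (chainChar_chi0 F) (coe_h0 F)
  · intro s hs
    have hs' : s < 12 := hs
    rw [reflWord_wordC c s hs']
    exact chi0_eq_of_psi F _ _ (permC_lt c s hs') hs' (permC_psi c s hs')
  · intro s hs
    have hs' : s < 12 := hs
    rw [reflWord_wordC c s hs', reflWord_wordC c _ (permC_lt c s hs')]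
    exact permC_invol c s hs'

theorem tab_psi : ∀ e < 12, (∀ s < 12, isPsi ((weylTab_G2.elems.getD e []).getD s 0) = isPsi s) →
    ∃ c : Fin 4, weylTab_G2.elems.getD e [] = permC c := by
  decide

/-- `C_N(h₀) = H · {1, n_7, n_11, n_7 n_11}` -/
theorem centN (h2 : (2 : F) ≠ 0) (n : GL chevG2.Idx F) (hn : n ∈ chevG2.monomialSubgroup F)
    (hc : n * h0 F = h0 F * n) : ∃ k ∈ chevG2.diagonalSubgroup F, ∃ c : Fin 4, n = k * mC F c := by
  obtain ⟨L, hL, hact⟩ := exists_actsAs chevG2 hG F n hn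
  obtain ⟨e, he, hel⟩ := tab_word chevG2 weylTab_G2 (tabFacts_of_tabOKB _ _ tabOKB_G2) L hL
  have hpres := pres_of_comm chevG2 hG F n _ hact (h0 F) (chi0 F) (chainChar_chi0 F) (coe_h0 F) hc
  have hget : ∀ s < 12, (weylTab_G2.elems.getD e []).getD s 0 = reflWord chevG2 L s := by
    intro s hs
    rw [hel]
    have : chevG2.nroots = 12 := rfl
    rw [this]
    simp [List.getD_eq_getElem?_getD, hs]
  have hlt : ∀ s < 12, reflWord chevG2 L s < 12 := fun s hs => (hact s hs).1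
  obtain ⟨c, hcc⟩ := tab_psi e he (by
    intro s hs
    rw [hget s hs]
    exact psi_eq_of_chi0 F h2 _ _ (hlt s hs) hs (hpres s hs))
  -- `n * mC c` acts trivially
  have hact2 := ActsAs.mul chevG2 F hact (actsAs_mC F c)
  have hid : ∀ s < chevG2.nroots, (reflWord chevG2 L ∘ reflWord chevG2 (wordC c)) s = s := by
    intro s hs
    have hs' : s < 12 := hs
    show reflWord chevG2 L (reflWord chevG2 (wordC c) s) = s
    rw [reflWord_wordC c s hs', ← hget _ (permC_lt c s hs'), hcc]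
    exact permC_invol c s hs'
  have hk1 : n * mC F c ∈ chevG2.diagonalSubgroup F :=
    mem_diag_of_actsAs chevG2 hG F _ (Subgroup.mul_mem _ hn (mC_mem F c)) _ hact2 hid
  -- `mC c * mC c` acts trivially
  have hact3 := ActsAs.mul chevG2 F (actsAs_mC F c) (actsAs_mC F c)
  have hid3 : ∀ s < chevG2.nroots, (reflWord chevG2 (wordC c) ∘ reflWord chevG2 (wordC c)) s = s := by
    intro s hs
    have hs' : s < 12 := hs
    show reflWord chevG2 (wordC c) (reflWord chevG2 (wordC c) s) = s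
    rw [reflWord_wordC c s hs', reflWord_wordC c _ (permC_lt c s hs')]
    exact permC_invol c s hs'
  have hk2 : mC F c * mC F c ∈ chevG2.diagonalSubgroup F :=
    mem_diag_of_actsAs chevG2 hG F _ (Subgroup.mul_mem _ (mC_mem F c) (mC_mem F c)) _ hact3 hid3
  refine ⟨n * mC F c * (mC F c * mC F c)⁻¹, Subgroup.mul_mem _ hk1 (Subgroup.inv_mem _ hk2), c, ?_⟩
  group

end Cfsg.Agent.Lib.Helper11.SemiCent
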