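import Cfsg.Agent.Lib.Helper11.SemiCentC
import Cfsg.Agent.Lib.Helper7.ChevOrderG2

/-!
helper11 (S4279): the order of the centraliser of the involution `h₀` in `G₂(q)`, `q` odd:
`|C(h₀)| = q² (q-1)² (1 + q + q + q²)`, by the parametrisation `k · x_7(s) x_11(t) · n_c · u`.
-/

set_option autoImplicit false

namespace Cfsg.Agent.Lib.Helper11.SemiCent

open Cfsg Cfsg.Lie Matrix Cfsg.Agent.Lib.Helper7
open Cfsg.Agent.Lib.Helper3.BN

variable (F : Type*) [Field F]

/-- parameters: the Weyl group element and the part in `U_w⁻` -/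
abbrev Par (F : Type*) := Unit ⊕ F ⊕ F ⊕ (F × F)

variable {F} in
def parC : Par F → Fin 4 :=
  Sum.elim (fun _ => 0) (Sum.elim (fun _ => 1) (Sum.elim (fun _ => 2) (fun _ => 3)))

noncomputable def parU : Par F → GL chevG2.Idx F :=
  Sum.elim (fun _ => 1) (Sum.elim (fun s => x7 F s) (Sum.elim (fun t => x11 F t) (fun p => x7 F p.1 * x11 F p.2)))

theorem x7_mem_U (s : F) : x7 F s ∈ chevG2.posUnipotent F := xGL_pos_mem chevG2 hG F 7 (by decide) s
theorem x11_mem_U (t : F) : x11 F t ∈ chevG2.posUnipotent F := xGL_pos_mem chevG2 hG F 11 (by decide) t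

theorem x7_zero : x7 F 0 = 1 := xGL_zero chevG2 hG F 7
theorem x11_zero : x11 F 0 = 1 := xGL_zero chevG2 hG F 11

/-- a positive root element sent to a negative one lies in `U_n⁻` -/
theorem xGL_mem_uMinus (c : Fin 4) (r : ℕ) (hr : chevG2.IsPosRoot r)
    (hneg : chevG2.IsNegRoot ((permC c).getD r 0)) (t : F) :
    xGL chevG2 hG F r t ∈ uMinus chevG2 F (mC F c) := by
  unfold uMinus
  apply Subgroup.subset_closure
  refine ⟨r, t, hr, ?_, coe_xGL chevG2 hG F r t⟩
  rw [map_conj_le_iff chevG2 hG F]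
  intro t'
  obtain ⟨-, c', -, h1⟩ := actsAs_mC F c r hr.1
  rw [h1, reflWord_wordC c r hr.1]
  exact xGL_neg_mem chevG2 hG F _ hneg _

theorem parU_mem (p : Par F) : parU F p ∈ uMinus chevG2 F (mC F (parC p)) := by
  rcases p with _ | s | t | ⟨s, t⟩
  · exact Subgroup.one_mem _
  · exact xGL_mem_uMinus F 1 7 (by decide) (by decide) s
  · exact xGL_mem_uMinus F 2 11 (by decide) (by decide) t
  · exact Subgroup.mul_mem _ (xGL_mem_uMinus F 3 7 (by decide) (by decide) s)
      (xGL_mem_uMinus F 3 11 (by decide) (by decide) t)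

theorem parU_comm (p : Par F) : parU F p * h0 F = h0 F * parU F p := by
  rcases p with _ | s | t | ⟨s, t⟩
  · show 1 * h0 F = h0 F * 1
    rw [one_mul, mul_one]
  · exact (h0_x7 F s).symm
  · exact (h0_x11 F t).symm
  · show x7 F s * x11 F t * h0 F = h0 F * (x7 F s * x11 F t)
    rw [mul_assoc, ← h0_x11, ← mul_assoc, ← h0_x7, mul_assoc]

theorem parU_inj (p p' : Par F) (hc : parC p = parC p') (hu : parU F p = parU F p') : p = p' := by
  rcases p with _ | s | t | ⟨s, t⟩ <;> rcases p' with _ | s' | t' | ⟨s', t'⟩ <;>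
    simp [parC] at hc
  · rfl
  · have h : x7 F s * x11 F 0 = x7 F s' * x11 F 0 := by
      rw [x11_zero, mul_one, mul_one]; exact hu
    rw [(x7_x11_inj F _ _ _ _ h).1]
  · have h : x7 F 0 * x11 F t = x7 F 0 * x11 F t' := by
      rw [x7_zero, one_mul, one_mul]; exact hu
    rw [(x7_x11_inj F _ _ _ _ h).2]
  · have h : x7 F s * x11 F t = x7 F s' * x11 F t' := hu
    obtain ⟨h1, h2⟩ := x7_x11_inj F _ _ _ _ h
    rw [h1, h2]

/-- an element of `U ∩ U⁻` is trivial -/
theorem eq_one_of_mem_U_V (u : GL chevG2.Idx F) (h1 : u ∈ chevG2.posUnipotent F) (h2 : u ∈ chevG2.negUnipotent F) :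
    u = 1 := by
  have : u ∈ chevG2.posUnipotent F ⊓ chevG2.negUnipotent F := Subgroup.mem_inf.mpr ⟨h1, h2⟩
  rw [posUnipotent_inf_negUnipotent chevG2 hG F, Subgroup.mem_bot] at this
  exact this

theorem xGL_eq_one (r : ℕ) (hr : r < 12) (t : F) (h : xGL chevG2 hG F r t = 1) : t = 0 :=
  RegCent.xGL_injective chevG2 hG F r hr t 0 (by rw [h, xGL_zero])

/-- the elements of `X_7 X_11` in `U_{n_c}⁻` -/
theorem exists_par (c : Fin 4) (s t : F) (hu : x7 F s * x11 F t ∈ uMinus chevG2 F (mC F c)) :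
    ∃ p : Par F, parC p = c ∧ parU F p = x7 F s * x11 F t := by
  have hconj := conj_uMinus_le chevG2 hG F (mC F c) _ hu
  obtain ⟨-, c7, hc7, h7⟩ := actsAs_mC F c 7 (by decide)
  obtain ⟨-, c11, hc11, h11⟩ := actsAs_mC F c 11 (by decide)
  have e : mC F c * (x7 F s * x11 F t) * (mC F c)⁻¹ =
      (mC F c * x7 F s * (mC F c)⁻¹) * (mC F c * x11 F t * (mC F c)⁻¹) := by group
  rw [e] at hconj
  unfold x7 x11 at hconj
  rw [h7, h11, reflWord_wordC c 7 (by decide), reflWord_wordC c 11 (by decide)] at hconj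
  fin_cases c
  · -- `w = 1`
    have h1 : x7 F s * x11 F t = 1 := by
      apply eq_one_of_mem_U_V F _ (Subgroup.mul_mem _ (x7_mem_U F s) (x11_mem_U F t))
      have := conj_uMinus_le chevG2 hG F (mC F 0) _ hu
      have e0 : mC F 0 = 1 := by
        unfold mC mW wordC; simp
      rw [e0] at this
      simpa using this
    exact ⟨Sum.inl (), rfl, h1.symm⟩
  · -- `w = s_7`: `t = 0`
    have hx : xGL chevG2 hG F 11 (c11 * t) ∈ chevG2.negUnipotent F := by
      have h4 : xGL chevG2 hG F 4 (c7 * s) ∈ chevG2.negUnipotent F := xGL_neg_mem chevG2 hG F 4 (by decide) _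
      have := Subgroup.mul_mem _ (Subgroup.inv_mem _ h4) hconj
      simpa [permC] using this
    have h0 := xGL_eq_one F 11 (by decide) _
      (eq_one_of_mem_U_V F _ (xGL_pos_mem chevG2 hG F 11 (by decide) _) hx)
    have ht : t = 0 := by
      rcases mul_eq_zero.mp h0 with h | h
      · exact absurd h hc11
      · exact h
    refine ⟨Sum.inr (Sum.inl s), rfl, ?_⟩
    rw [ht, x11_zero, mul_one]; rfl
  · -- `w = s_11`: `s = 0`
    have hx : xGL chevG2 hG F 7 (c7 * s) ∈ chevG2.negUnipotent F := by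
      have h4 : xGL chevG2 hG F 0 (c11 * t) ∈ chevG2.negUnipotent F := xGL_neg_mem chevG2 hG F 0 (by decide) _
      have := Subgroup.mul_mem _ hconj (Subgroup.inv_mem _ h4)
      simpa [permC] using this
    have h0 := xGL_eq_one F 7 (by decide) _
      (eq_one_of_mem_U_V F _ (xGL_pos_mem chevG2 hG F 7 (by decide) _) hx)
    have hs : s = 0 := by
      rcases mul_eq_zero.mp h0 with h | h
      · exact absurd h hc7
      · exact h
    refine ⟨Sum.inr (Sum.inr (Sum.inl t)), rfl, ?_⟩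
    rw [hs, x7_zero, one_mul]; rfl
  · exact ⟨Sum.inr (Sum.inr (Sum.inr (s, t))), rfl, rfl⟩

/-- different representatives lie in different cosets of `H` -/
theorem mC_coset_inj (c c' : Fin 4) (h : (mC F c)⁻¹ * mC F c' ∈ chevG2.diagonalSubgroup F) : c = c' := by
  have hact := ActsAs.mul chevG2 F (actsAs_mC F c) (actsAs_diag chevG2 hG F _ h)
  have e : mC F c * ((mC F c)⁻¹ * mC F c') = mC F c' := by group
  rw [e] at hact
  have h7 := ActsAs.unique chevG2 hG F hact (actsAs_mC F c') 7 (by decide)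
  have h11 := ActsAs.unique chevG2 hG F hact (actsAs_mC F c') 11 (by decide)
  simp only [Function.comp, id] at h7 h11
  rw [reflWord_wordC c 7 (by decide), reflWord_wordC c' 7 (by decide)] at h7
  rw [reflWord_wordC c 11 (by decide), reflWord_wordC c' 11 (by decide)] at h11
  have key : ∀ c c' : Fin 4, (permC c).getD 7 0 = (permC c').getD 7 0 →
      (permC c).getD 11 0 = (permC c').getD 11 0 → c = c' := by decide
  exact key c c' h7 h11

/-- the centraliser of `h₀` in `G₂(F)`, inside `GL` -/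
noncomputable def centG : Subgroup (GL chevG2.Idx F) :=
  chevG2.group F ⊓ Subgroup.centralizer {h0 F}

theorem mem_centG (g : GL chevG2.Idx F) : g ∈ centG F ↔ g ∈ chevG2.group F ∧ g * h0 F = h0 F * g := by
  unfold centG
  rw [Subgroup.mem_inf, Subgroup.mem_centralizer_iff]
  constructor
  · rintro ⟨h1, h2⟩
    exact ⟨h1, (h2 _ rfl).symm⟩
  · rintro ⟨h1, h2⟩
    refine ⟨h1, fun x hx => ?_⟩
    rw [Set.mem_singleton_iff.mp hx]
    exact h2.symm

theorem diag_le_group : chevG2.diagonalSubgroup F ≤ chevG2.group F :=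
  (diagonal_le_borel chevG2 hG F).trans (borel_le_group chevG2 hG F)

theorem posU_le_group : chevG2.posUnipotent F ≤ chevG2.group F :=
  (posUnipotent_le_borel chevG2 hG F).trans (borel_le_group chevG2 hG F)

/-- the parametrisation -/
noncomputable def Phi (a : (F × F) × ↥(chevG2.diagonalSubgroup F) × Par F) : GL chevG2.Idx F :=
  (a.2.1 : GL chevG2.Idx F) * (x7 F a.1.1 * x11 F a.1.2) * mC F (parC a.2.2) * parU F a.2.2

theorem Phi_mem (a : (F × F) × ↥(chevG2.diagonalSubgroup F) × Par F) : Phi F a ∈ centG F := by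
  rw [mem_centG]
  obtain ⟨⟨s, t⟩, ⟨k, hk⟩, p⟩ := a
  have hv : x7 F s * x11 F t ∈ chevG2.posUnipotent F := Subgroup.mul_mem _ (x7_mem_U F s) (x11_mem_U F t)
  have hpu : parU F p ∈ chevG2.posUnipotent F := uMinus_le_posUnipotent chevG2 F _ (parU_mem F p)
  constructor
  · exact Subgroup.mul_mem _ (Subgroup.mul_mem _ (Subgroup.mul_mem _ (diag_le_group F hk) (posU_le_group F hv))
      (monomial_le_group chevG2 hG F (mC_mem F _))) (posU_le_group F hpu)
  · show k * (x7 F s * x11 F t) * mC F (parC p) * parU F p * h0 F =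
      h0 F * (k * (x7 F s * x11 F t) * mC F (parC p) * parU F p)
    have e1 := parU_comm F p
    have e2 := mC_comm F (parC p)
    have e3 : x7 F s * x11 F t * h0 F = h0 F * (x7 F s * x11 F t) := by
      rw [mul_assoc, ← h0_x11, ← mul_assoc, ← h0_x7, mul_assoc]
    have e4 : k * h0 F = h0 F * k := diagonalSubgroup_comm chevG2 hG F _ _ hk (h0_mem F)
    calc k * (x7 F s * x11 F t) * mC F (parC p) * parU F p * h0 F
        = k * (x7 F s * x11 F t) * mC F (parC p) * (parU F p * h0 F) := by group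
      _ = k * (x7 F s * x11 F t) * (mC F (parC p) * h0 F) * parU F p := by rw [e1]; group
      _ = k * (x7 F s * x11 F t * h0 F) * mC F (parC p) * parU F p := by rw [e2]; group
      _ = (k * h0 F) * (x7 F s * x11 F t) * mC F (parC p) * parU F p := by rw [e3]; group
      _ = h0 F * (k * (x7 F s * x11 F t) * mC F (parC p) * parU F p) := by rw [e4]; group

theorem Phi_injective : Function.Injective (Phi F) := by
  rintro ⟨⟨s, t⟩, ⟨k, hk⟩, p⟩ ⟨⟨s', t'⟩, ⟨k', hk'⟩, p'⟩ h
  have hHB := diagonal_le_borel chevG2 hG F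
  have hUB := posUnipotent_le_borel chevG2 hG F
  have hv : x7 F s * x11 F t ∈ chevG2.posUnipotent F := Subgroup.mul_mem _ (x7_mem_U F s) (x11_mem_U F t)
  have hv' : x7 F s' * x11 F t' ∈ chevG2.posUnipotent F := Subgroup.mul_mem _ (x7_mem_U F s') (x11_mem_U F t')
  have h' : k * (x7 F s * x11 F t) * mC F (parC p) * parU F p =
      k' * (x7 F s' * x11 F t') * mC F (parC p') * parU F p' := h
  have hcu := canon_unique chevG2 hG F (k * (x7 F s * x11 F t)) (k' * (x7 F s' * x11 F t')) (mC F (parC p))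
    (mC F (parC p')) (parU F p) (parU F p') (Subgroup.mul_mem _ (hHB hk) (hUB hv))
    (Subgroup.mul_mem _ (hHB hk') (hUB hv')) (mC_mem F _) (mC_mem F _) (parU_mem F p) (parU_mem F p') h'
  have hcc : parC p = parC p' := mC_coset_inj F _ _ hcu.1
  obtain ⟨hb, hu⟩ := hcu.2 (by rw [hcc])
  have hp : p = p' := parU_inj F p p' hcc hu
  -- `k = k'`
  have hmem : k'⁻¹ * k ∈ chevG2.posUnipotent F ⊓ chevG2.diagonalSubgroup F := by
    refine Subgroup.mem_inf.mpr ⟨?_, Subgroup.mul_mem _ (Subgroup.inv_mem _ hk') hk⟩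
    have : k'⁻¹ * k = (x7 F s' * x11 F t') * (x7 F s * x11 F t)⁻¹ := by
      have : k = k' * (x7 F s' * x11 F t') * (x7 F s * x11 F t)⁻¹ := by rw [← hb]; group
      rw [this]; group
    rw [this]
    exact Subgroup.mul_mem _ hv' (Subgroup.inv_mem _ hv)
  rw [posUnipotent_inf_diagonalSubgroup chevG2 hG F, Subgroup.mem_bot] at hmem
  have hkk : k = k' := (inv_mul_eq_one.mp hmem).symm
  subst hkk
  obtain ⟨h1, h2⟩ := x7_x11_inj F _ _ _ _ (mul_left_cancel hb)
  subst h1 h2 hp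
  rfl

theorem Phi_surjective (h2 : (2 : F) ≠ 0) (g : GL chevG2.Idx F) (hg : g ∈ centG F) : ∃ a, Phi F a = g := by
  rw [mem_centG] at hg
  obtain ⟨hgG, hgc⟩ := hg
  obtain ⟨b, hb, n, hn, u, hu, rfl⟩ := canon_exists chevG2 hG F g hgG
  have hb' : b ∈ ((chevG2.borelSubgroup F : Subgroup (GL chevG2.Idx F)) : Set (GL chevG2.Idx F)) := hb
  rw [borel_eq_mul chevG2 hG F] at hb'
  obtain ⟨h', hh', u', hu', rfl⟩ := Set.mem_mul.mp hb'
  obtain ⟨hnc, hu'c, huc⟩ := cent_canon chevG2 hG F (h0 F) (h0_mem F) h' hh' u' hu' n hn u hu hgc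
  obtain ⟨k, hk, c, rfl⟩ := centN F h2 n hn hnc
  rw [uMinus_diag_mul chevG2 hG F k hk] at hu
  obtain ⟨s₁, t₁, rfl⟩ := centU F h2 u (uMinus_le_posUnipotent chevG2 F _ hu) huc
  obtain ⟨p, hpc, hpu⟩ := exists_par F c s₁ t₁ hu
  -- `k⁻¹ u' k`
  have hNU := diagonalSubgroup_le_normalizer_posUnipotent chevG2 hG F
  have hku : k⁻¹ * u' * k⁻¹⁻¹ ∈ chevG2.posUnipotent F := by
    have := hNU (Subgroup.inv_mem _ hk)
    rw [Subgroup.mem_set_normalizer_iff] at this
    exact (this u').mp hu'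
  have hkc : k * h0 F = h0 F * k := diagonalSubgroup_comm chevG2 hG F _ _ hk (h0_mem F)
  have hkic : k⁻¹ * h0 F = h0 F * k⁻¹ :=
    diagonalSubgroup_comm chevG2 hG F _ _ (Subgroup.inv_mem _ hk) (h0_mem F)
  have hkuc : k⁻¹ * u' * k⁻¹⁻¹ * h0 F = h0 F * (k⁻¹ * u' * k⁻¹⁻¹) := by
    rw [inv_inv]
    calc k⁻¹ * u' * k * h0 F = k⁻¹ * u' * (k * h0 F) := by group
      _ = k⁻¹ * (u' * h0 F) * k := by rw [hkc]; group
      _ = (k⁻¹ * h0 F) * u' * k := by rw [hu'c]; group
      _ = h0 F * (k⁻¹ * u' * k) := by rw [hkic]; group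
  obtain ⟨s₂, t₂, he⟩ := centU F h2 _ hku hkuc
  refine ⟨((s₂, t₂), ⟨h' * k, Subgroup.mul_mem _ hh' hk⟩, p), ?_⟩
  show h' * k * (x7 F s₂ * x11 F t₂) * mC F (parC p) * parU F p = _
  rw [hpc, hpu, ← he]
  group

/-- the parametrisation as an equivalence -/
noncomputable def PhiEquiv (h2 : (2 : F) ≠ 0) :
    ((F × F) × ↥(chevG2.diagonalSubgroup F) × Par F) ≃ ↥(centG F) :=
  Equiv.ofBijective (fun a => ⟨Phi F a, Phi_mem F a⟩)
    ⟨fun a a' h => Phi_injective F (congrArg Subtype.val h),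
     fun g => by
      obtain ⟨a, ha⟩ := Phi_surjective F h2 g.1 g.2
      exact ⟨a, Subtype.ext ha⟩⟩

theorem card_centG [Fintype F] (h2 : (2 : F) ≠ 0) :
    Nat.card ↥(centG F) = Fintype.card F ^ 2 * (Fintype.card F ^ 2 - 1) ^ 2 := by
  rw [← Nat.card_congr (PhiEquiv F h2), Nat.card_prod, Nat.card_prod, Nat.card_prod, card_diagonal_G2,
    Nat.card_eq_fintype_card, Nat.card_eq_fintype_card]
  simp only [Fintype.card_sum, Fintype.card_prod, Fintype.card_unit]
  obtain ⟨q, hq⟩ : ∃ q, q = Fintype.card F := ⟨_, rfl⟩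
  rw [← hq]
  have h1 : 1 ≤ q := by rw [hq]; exact Fintype.card_pos
  have h2' : 1 ≤ q ^ 2 := Nat.one_le_pow _ _ h1
  zify [h1, h2']
  ring

end Cfsg.Agent.Lib.Helper11.SemiCent
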