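import Cfsg.Agent.Lib.Helper11.SemiCentD
import Cfsg.Agent.Lib.Helper11.ChevSL2
import Cfsg.Agent.Lib.Helper7.ChevUp

/-!
helper11 (S4279): injectivity of the rank one homomorphisms `SL₂(F) → ⟨X_r, X_{-r}⟩` of a Chevalley group when
`h_r(-1) ≠ 1`, and the two commuting copies of `SL₂(F)` in the centraliser of the involution `h₀` of `G₂(F)`.
-/

set_option autoImplicit false

namespace Cfsg.Agent.Lib.Helper11.SemiCent

open Cfsg Cfsg.Lie Matrix Cfsg.Agent.Lib.Helper7 Cfsg.Agent.Lib.Helper11.SL2Hom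
open Cfsg.Agent.Lib.Helper3.BN

section generic
variable (D : ChevalleyDatum) (hD : D ∈ [chevG2, chevB2, chevD4, chevF4, chevE6, chevE7, chevE8])
variable (F : Type*) [Field F]

local notation:1024 "↑ₘ" A:1024 => ((A : SpecialLinearGroup (Fin 2) F) : Matrix (Fin 2) (Fin 2) F)

theorem wS_eq : (wS : SpecialLinearGroup (Fin 2) F) = xS 1 * yS (-1) * xS 1 := by
  apply Matrix.SpecialLinearGroup.ext
  intro i j
  show (↑ₘ(wS : SpecialLinearGroup (Fin 2) F)) i j = (↑ₘ(xS (1 : F) * yS (-1) * xS 1)) i j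
  fin_cases i <;> fin_cases j <;>
    simp [coe_xS, coe_yS, coe_wS, Matrix.mul_apply, Fin.sum_univ_two]

theorem hS_eq (s : F) (hs : s ≠ 0) :
    hS s hs = xS s * yS (-s⁻¹) * xS s * (xS (-1) * yS (-(-1 : F)⁻¹) * xS (-1)) := by
  apply Matrix.SpecialLinearGroup.ext
  intro i j
  show (↑ₘ(hS s hs)) i j = (↑ₘ(xS s * yS (-s⁻¹) * xS s * (xS (-1) * yS (-(-1 : F)⁻¹) * xS (-1)))) i j
  fin_cases i <;> fin_cases j <;>
    simp [coe_xS, coe_yS, coe_hS, Matrix.mul_apply, Fin.sum_univ_two]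
  · left
    rw [mul_inv_cancel₀ hs]; ring
  · rw [mul_inv_cancel₀ hs]; ring
  · rw [inv_mul_cancel₀ hs]; ring

/-- conjugating `xS t` by an upper triangular matrix -/
theorem upper_conj_xS (a : F) (ha : a ≠ 0) (b t : F) :
    (xS b * hS a ha) * xS t * (xS b * hS a ha)⁻¹ = xS (a ^ 2 * t) := by
  rw [mul_inv_eq_iff_eq_mul]
  apply Matrix.SpecialLinearGroup.ext
  intro i j
  show (↑ₘ(xS b * hS a ha * xS t)) i j = (↑ₘ(xS (a ^ 2 * t) * (xS b * hS a ha))) i j
  fin_cases i <;> fin_cases j <;>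
    simp [coe_xS, coe_hS, Matrix.mul_apply, Fin.sum_univ_two] <;> field_simp <;> ring

theorem wS_conj_xS (t : F) : (wS : SpecialLinearGroup (Fin 2) F) * xS t * wS⁻¹ = yS (-t) := by
  rw [mul_inv_eq_iff_eq_mul]
  apply Matrix.SpecialLinearGroup.ext
  intro i j
  show (↑ₘ((wS : SpecialLinearGroup (Fin 2) F) * xS t)) i j = (↑ₘ(yS (-t) * (wS : SpecialLinearGroup (Fin 2) F))) i j
  fin_cases i <;> fin_cases j <;>
    simp [coe_xS, coe_yS, coe_wS, Matrix.mul_apply, Fin.sum_univ_two]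

theorem hS_conj_xS (a : F) (ha : a ≠ 0) (t : F) : hS a ha * xS t * (hS a ha)⁻¹ = xS (a ^ 2 * t) := by
  rw [mul_inv_eq_iff_eq_mul]
  apply Matrix.SpecialLinearGroup.ext
  intro i j
  show (↑ₘ(hS a ha * xS t)) i j = (↑ₘ(xS (a ^ 2 * t) * hS a ha)) i j
  fin_cases i <;> fin_cases j <;>
    simp [coe_xS, coe_hS, Matrix.mul_apply, Fin.sum_univ_two] <;> field_simp

include hD

/-- the image of the diagonal matrices -/
theorem hom_hS (r : ℕ) (φ : SpecialLinearGroup (Fin 2) F →* GL D.Idx F)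
    (hx : ∀ t : F, φ (xS t) = xGL D hD F r t) (hy : ∀ t : F, φ (yS t) = xGL D hD F (D.neg r) t)
    (s : F) (hs : s ≠ 0) : φ (hS s hs) = wordGL D hD F (D.hWord r s) := by
  rw [hS_eq F s hs]
  simp only [map_mul, hx, hy]
  unfold ChevalleyDatum.hWord ChevalleyDatum.nWord wordGL
  simp only [List.cons_append, List.nil_append, List.map_cons, List.map_nil, List.prod_cons, List.prod_nil, mul_one]
  group

/-- the rank one homomorphism of a positive root `r` with `h_r(-1) ≠ 1` is injective -/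
theorem sl2_hom_injective (r : ℕ) (hpos : D.IsPosRoot r) (φ : SpecialLinearGroup (Fin 2) F →* GL D.Idx F)
    (hx : ∀ t : F, φ (xS t) = xGL D hD F r t) (hy : ∀ t : F, φ (yS t) = xGL D hD F (D.neg r) t)
    (hne : wordGL D hD F (D.hWord r (-1)) ≠ 1) : Function.Injective φ := by
  have hr : r < D.nroots := hpos.1
  have hN := negOK_of_mem D hD r hr
  rw [injective_iff_map_eq_one]
  intro g hg
  by_cases hc : (↑ₘg) 1 0 = 0
  · have hdet := det_eq g
    rw [hc, mul_zero, sub_zero] at hdet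
    have ha : (↑ₘg) 0 0 ≠ 0 := left_ne_zero_of_mul_eq_one hdet
    have hgd := RankOneData.eq_of_lower_zero g hc ha
    set a := (↑ₘg) 0 0 with hadef
    set b := a * (↑ₘg) 0 1 with hbdef
    -- `a² = 1`
    have h1 : φ (g * xS 1 * g⁻¹) = xGL D hD F r 1 := by
      rw [map_mul, map_mul, map_inv, hg, hx]; group
    have h2 : g * xS 1 * g⁻¹ = xS (a ^ 2 * 1) := by
      rw [hgd]; exact upper_conj_xS F a ha b 1
    rw [h2, hx] at h1
    have ha2 : a ^ 2 * 1 = 1 := RegCent.xGL_injective D hD F r hr _ _ h1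
    rw [mul_one] at ha2
    -- the unipotent part is trivial
    have h3 : xGL D hD F r b * wordGL D hD F (D.hWord r a) = 1 := by
      rw [← hx, ← hom_hS D hD F r φ hx hy a ha, ← map_mul, ← hgd, hg]
    have hmem : xGL D hD F r b ∈ D.posUnipotent F ⊓ D.diagonalSubgroup F := by
      refine Subgroup.mem_inf.mpr ⟨xGL_pos_mem D hD F r hpos b, ?_⟩
      have : xGL D hD F r b = (wordGL D hD F (D.hWord r a))⁻¹ := eq_inv_of_mul_eq_one_left h3
      rw [this]
      exact Subgroup.inv_mem _ (hGL_mem_diagonalSubgroup D hD F r hr a ha)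
    rw [posUnipotent_inf_diagonalSubgroup D hD F, Subgroup.mem_bot] at hmem
    have hb0 : b = 0 := RegCent.xGL_injective D hD F r hr b 0 (by rw [hmem, xGL_zero])
    rw [hmem, one_mul] at h3
    have hcases : a = 1 ∨ a = -1 := sq_eq_one_iff.mp ha2
    rcases hcases with h | h
    · rw [hgd, hb0]
      apply Matrix.SpecialLinearGroup.ext
      intro i j
      show (↑ₘ(xS (0 : F) * hS a ha)) i j = (1 : Matrix (Fin 2) (Fin 2) F) i j
      fin_cases i <;> fin_cases j <;>
        simp [coe_xS, coe_hS, Matrix.mul_apply, Fin.sum_univ_two, h]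
    · rw [h] at h3
      exact absurd h3 hne
  · exfalso
    have hgd := RankOneData.eq_of_lower_ne_zero g hc
    set a := (↑ₘg) 0 0 / (↑ₘg) 1 0
    set s := -(↑ₘg) 1 0
    have hs : s ≠ 0 := neg_ne_zero.mpr hc
    set b := (↑ₘg) 1 1 / (↑ₘg) 1 0
    -- `wS * hS s = xS (-a) * xS (-b)` modulo the kernel
    have h1 : φ (wS * hS s hs) = xGL D hD F r (-a + -b) := by
      have : wS * hS s hs = (xS a)⁻¹ * g * (xS b)⁻¹ := by
        have e : g = xS a * wS * hS s hs * xS b := hgd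
        rw [e]; group
      rw [this, map_mul, map_mul, hg, map_inv, map_inv, hx, hx, xGL_inv, xGL_inv, mul_one, xGL_mul]
    have h2 : φ ((wS * hS s hs) * xS 1 * (wS * hS s hs)⁻¹) = xGL D hD F r 1 := by
      rw [map_mul, map_mul, map_inv, h1, hx, xGL_inv, xGL_mul, xGL_mul]
      congr 1; ring
    have h3 : (wS * hS s hs) * xS 1 * (wS * hS s hs)⁻¹ = yS (-(s ^ 2 * 1)) := by
      have : (wS * hS s hs) * xS 1 * (wS * hS s hs)⁻¹ = wS * (hS s hs * xS 1 * (hS s hs)⁻¹) * wS⁻¹ := by group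
      rw [this, hS_conj_xS, wS_conj_xS]
    rw [h3, hy] at h2
    have h4 := xGL_root_inj D hD F (D.neg r) r hN.1 hr _ _ (by
      rw [mul_one]; exact neg_ne_zero.mpr (pow_ne_zero 2 hs)) h2
    exact hN.2 h4

/-- root elements whose roots have no sum commute -/
theorem comm_of_nil' (r s : ℕ) (hr : r < D.nroots) (hs : s < D.nroots) (hsr : s ≠ r)
    (hsn : s ≠ D.neg r) (h : D.commTerms r s = []) (a b : F) :
    xGL D hD F r a * xGL D hD F s b = xGL D hD F s b * xGL D hD F r a := by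
  have := comm_formula_GL D hD F r s hr hs hsr hsn a b
  unfold ChevalleyDatum.commWord at this
  rw [h] at this
  simp only [List.map_nil, wordGL, List.prod_nil, mul_one] at this
  exact this.symm

end generic

end Cfsg.Agent.Lib.Helper11.SemiCent
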