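import Cfsg.Agent.Lib.Helper11.SemiCentE
import Cfsg.Agent.Lib.Helper13.SL2

/-!
helper11 (S4279): the two commuting copies of `SL₂(F)` in the centraliser of the involution `h₀` of `G₂(F)`,
characteristic `≠ 2`: their intersection is `⟨h₀⟩` and their product has index `2` in the centraliser.
-/

set_option autoImplicit false

namespace Cfsg.Agent.Lib.Helper11.SemiCent

open Cfsg Cfsg.Lie Matrix Cfsg.Agent.Lib.Helper7 Cfsg.Agent.Lib.Helper11.SL2Hom
open Cfsg.Agent.Lib.Helper3.BN

variable (F : Type*) [Field F]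

local notation:1024 "↑ₘ" A:1024 => ((A : SpecialLinearGroup (Fin 2) F) : Matrix (Fin 2) (Fin 2) F)

theorem carR7_even : ∀ s < 12, isPsi s = true → Even (carR chevG2 7 s) := by decide
theorem carR7_odd : ∀ s < 12, isPsi s = false → Odd (carR chevG2 7 s) := by decide

/-- `h_7(-1) = h_11(-1)` -/
theorem h7_eq_h0 : wordGL chevG2 hG F (chevG2.hWord 7 (-1)) = h0 F := by
  apply Units.ext
  rw [coe_h0, coe_wordGL]
  have := hMat_eq_diagChar chevG2 hG F 7 (by decide) (-1) (neg_one_ne_zero' F)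
  show chevG2.hMat F 7 (-1) = _
  rw [this]
  unfold diagChar
  congr 1
  funext i
  rcases i with i | i
  · rfl
  · show (-1 : F) ^ carR chevG2 7 i.val = chi0 F i.val
    have hi : i.val < 12 := i.isLt
    cases hp : isPsi i.val
    · rw [chi0_not_psi F _ hi hp, (carR7_odd _ hi hp).neg_one_zpow]
    · rw [chi0_psi F _ hi hp, (carR7_even _ hi hp).neg_one_zpow]

theorem h0_ne_one (h2 : (2 : F) ≠ 0) : h0 F ≠ 1 := by
  intro h
  have h1 := h0_x F 6 1
  rw [h, one_mul, mul_one, chi0_not_psi F 6 (by decide) (by decide), mul_one] at h1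
  have := RegCent.xGL_injective chevG2 hG F 6 (by decide) _ _ h1
  apply h2
  have e : (1 : F) + 1 = 0 := by nth_rewrite 1 [this]; ring
  rw [← one_add_one_eq_two]; exact e

variable {F} in
/-- a statement on the generators of `SL₂(F)` extends to `SL₂(F)` -/
theorem forall_of_gens {G : Type*} [Group G] (φ : SpecialLinearGroup (Fin 2) F →* G) (P : Subgroup G)
    (hx : ∀ t : F, φ (xS t) ∈ P) (hy : ∀ t : F, φ (yS t) ∈ P) (A : SpecialLinearGroup (Fin 2) F) : φ A ∈ P := by
  have : (⊤ : Subgroup (SpecialLinearGroup (Fin 2) F)) ≤ P.comap φ := by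
    rw [← closure_xS_yS, Subgroup.closure_le]
    rintro g (⟨t, rfl⟩ | ⟨t, rfl⟩)
    · exact hx t
    · exact hy t
  exact this (Subgroup.mem_top A)

/-- the central elements of `SL₂(F)` -/
theorem sl2_central (A : SpecialLinearGroup (Fin 2) F) (h : ∀ C : SpecialLinearGroup (Fin 2) F, A * C = C * A) :
    A = 1 ∨ A = hS (-1) (neg_one_ne_zero' F) := by
  have h1 := h (xS 1)
  have h2 := h (yS 1)
  have e1 := congrArg (fun M : SpecialLinearGroup (Fin 2) F => (↑ₘM) 0 0) h1
  have e2 := congrArg (fun M : SpecialLinearGroup (Fin 2) F => (↑ₘM) 0 1) h1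
  have e3 := congrArg (fun M : SpecialLinearGroup (Fin 2) F => (↑ₘM) 0 0) h2
  simp [coe_xS, coe_yS, Matrix.mul_apply, Fin.sum_univ_two] at e1 e2 e3
  have hdet := det_eq A
  rw [e1, e3, zero_mul, sub_zero] at hdet
  have hd : (↑ₘA) 1 1 = (↑ₘA) 0 0 := by
    have : (↑ₘA) 0 0 + (↑ₘA) 0 1 = (↑ₘA) 0 1 + (↑ₘA) 1 1 := e2
    rw [e3] at this
    simpa using this.symm
  rw [hd] at hdet
  have hsq : (↑ₘA) 0 0 ^ 2 = 1 := by rw [pow_two]; exact hdet
  rcases sq_eq_one_iff.mp hsq with ha | ha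
  · left
    apply Matrix.SpecialLinearGroup.ext
    intro i j
    show (↑ₘA) i j = (1 : Matrix (Fin 2) (Fin 2) F) i j
    fin_cases i <;> fin_cases j <;> simp [e1, e3, hd, ha]
  · right
    apply Matrix.SpecialLinearGroup.ext
    intro i j
    show (↑ₘA) i j = (↑ₘ(hS (-1) (neg_one_ne_zero' F))) i j
    fin_cases i <;> fin_cases j <;> simp [coe_hS, e1, e3, hd, ha]

theorem hS_neg_one_sq : hS (-1 : F) (neg_one_ne_zero' F) * hS (-1 : F) (neg_one_ne_zero' F) = 1 := by
  apply Matrix.SpecialLinearGroup.ext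
  intro i j
  show (↑ₘ(hS (-1 : F) (neg_one_ne_zero' F) * hS (-1 : F) (neg_one_ne_zero' F))) i j =
    (1 : Matrix (Fin 2) (Fin 2) F) i j
  fin_cases i <;> fin_cases j <;> simp [coe_hS, Matrix.mul_apply, Fin.sum_univ_two]

theorem commTerms_G2 : chevG2.commTerms 11 7 = [] ∧ chevG2.commTerms 11 4 = [] ∧
    chevG2.commTerms 0 7 = [] ∧ chevG2.commTerms 0 4 = [] := by decide

/-- the two copies of `SL₂(F)` -/
theorem exists_L [Fintype F] (h2 : (2 : F) ≠ 0) :
    ∃ φ₁ φ₂ : SpecialLinearGroup (Fin 2) F →* GL chevG2.Idx F,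
      Function.Injective φ₁ ∧ Function.Injective φ₂ ∧
      (∀ A B, φ₁ A * φ₂ B = φ₂ B * φ₁ A) ∧
      (∀ A B, φ₁ A = φ₂ B → φ₁ A = 1 ∨ φ₁ A = h0 F) ∧
      (∃ A, φ₁ A = h0 F) ∧ (∃ B, φ₂ B = h0 F) ∧
      (∀ A, φ₁ A ∈ centG F) ∧ (∀ B, φ₂ B ∈ centG F) ∧
      Nat.card ↥(φ₁.range ⊔ φ₂.range) * 2 = Nat.card ↥(centG F) := by
  obtain ⟨φ₁, -, hx₁, hy₁⟩ := ChevSL2.exists_sl2_hom chevG2 hG F 11 (by decide)
  obtain ⟨φ₂, -, hx₂, hy₂⟩ := ChevSL2.exists_sl2_hom chevG2 hG F 7 (by decide)
  have hn11 : chevG2.neg 11 = 0 := by decide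
  have hn7 : chevG2.neg 7 = 4 := by decide
  rw [hn11] at hy₁
  rw [hn7] at hy₂
  have hinj₁ : Function.Injective φ₁ :=
    sl2_hom_injective chevG2 hG F 11 (by decide) φ₁ hx₁ (by rw [hn11]; exact hy₁) (h0_ne_one F h2)
  have hinj₂ : Function.Injective φ₂ :=
    sl2_hom_injective chevG2 hG F 7 (by decide) φ₂ hx₂ (by rw [hn7]; exact hy₂)
      (by rw [h7_eq_h0]; exact h0_ne_one F h2)
  -- commutation
  obtain ⟨c1, c2, c3, c4⟩ := commTerms_G2
  have hcomm : ∀ A B, φ₁ A * φ₂ B = φ₂ B * φ₁ A := by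
    have step : ∀ (r : ℕ) (t : F), (r = 11 ∨ r = 0) → ∀ B, φ₂ B ∈ Subgroup.centralizer {xGL chevG2 hG F r t} := by
      intro r t hr B
      apply forall_of_gens φ₂
      · intro u
        rw [Subgroup.mem_centralizer_iff]
        intro x hx
        rw [Set.mem_singleton_iff.mp hx, hx₂]
        rcases hr with rfl | rfl
        · exact comm_of_nil' chevG2 hG F 11 7 (by decide) (by decide) (by decide) (by decide) c1 t u
        · exact comm_of_nil' chevG2 hG F 0 7 (by decide) (by decide) (by decide) (by decide) c3 t u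
      · intro u
        rw [Subgroup.mem_centralizer_iff]
        intro x hx
        rw [Set.mem_singleton_iff.mp hx, hy₂]
        rcases hr with rfl | rfl
        · exact comm_of_nil' chevG2 hG F 11 4 (by decide) (by decide) (by decide) (by decide) c2 t u
        · exact comm_of_nil' chevG2 hG F 0 4 (by decide) (by decide) (by decide) (by decide) c4 t u
    intro A B
    have : φ₁ A ∈ Subgroup.centralizer {φ₂ B} := by
      apply forall_of_gens φ₁
      · intro t
        rw [Subgroup.mem_centralizer_iff]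
        intro x hx
        rw [Set.mem_singleton_iff.mp hx, hx₁]
        have := step 11 t (Or.inl rfl) B
        rw [Subgroup.mem_centralizer_iff] at this
        exact (this _ rfl).symm
      · intro t
        rw [Subgroup.mem_centralizer_iff]
        intro x hx
        rw [Set.mem_singleton_iff.mp hx, hy₁]
        have := step 0 t (Or.inr rfl) B
        rw [Subgroup.mem_centralizer_iff] at this
        exact (this _ rfl).symm
    rw [Subgroup.mem_centralizer_iff] at this
    exact (this _ rfl).symm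
  -- images of `-1`
  have hz₁ : φ₁ (hS (-1) (neg_one_ne_zero' F)) = h0 F :=
    hom_hS chevG2 hG F 11 φ₁ hx₁ (by rw [hn11]; exact hy₁) (-1) (neg_one_ne_zero' F)
  have hz₂ : φ₂ (hS (-1) (neg_one_ne_zero' F)) = h0 F := by
    rw [hom_hS chevG2 hG F 7 φ₂ hx₂ (by rw [hn7]; exact hy₂) (-1) (neg_one_ne_zero' F), h7_eq_h0]
  -- intersection
  have hint : ∀ A B, φ₁ A = φ₂ B → A = 1 ∨ A = hS (-1) (neg_one_ne_zero' F) := by
    intro A B hAB
    apply sl2_central
    intro C
    apply hinj₁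
    rw [map_mul, map_mul, hAB]
    exact (hcomm C B).symm
  have hint' : ∀ A B, φ₁ A = φ₂ B → φ₁ A = 1 ∨ φ₁ A = h0 F := by
    intro A B hAB
    rcases hint A B hAB with h | h
    · left; rw [h, map_one]
    · right; rw [h, hz₁]
  -- in the centraliser
  have hmem : ∀ (r : ℕ) (t : F), r < 12 → isPsi r = true → xGL chevG2 hG F r t ∈ centG F := by
    intro r t hr hp
    rw [mem_centG]
    refine ⟨xGL_mem_group chevG2 hG F r t, ?_⟩
    rw [h0_x, chi0_psi F r hr hp, one_mul]
  have hc₁ : ∀ A, φ₁ A ∈ centG F := by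
    apply forall_of_gens φ₁
    · intro t; rw [hx₁]; exact hmem 11 t (by decide) (by decide)
    · intro t; rw [hy₁]; exact hmem 0 t (by decide) (by decide)
  have hc₂ : ∀ B, φ₂ B ∈ centG F := by
    apply forall_of_gens φ₂
    · intro t; rw [hx₂]; exact hmem 7 t (by decide) (by decide)
    · intro t; rw [hy₂]; exact hmem 4 t (by decide) (by decide)
  refine ⟨φ₁, φ₂, hinj₁, hinj₂, hcomm, hint', ⟨_, hz₁⟩, ⟨_, hz₂⟩, hc₁, hc₂, ?_⟩
  -- the order of the product
  set ψ : SpecialLinearGroup (Fin 2) F × SpecialLinearGroup (Fin 2) F →* GL chevG2.Idx F :=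
    MonoidHom.noncommCoprod φ₁ φ₂ (fun A B => hcomm A B) with hψ
  have hrange : ψ.range = φ₁.range ⊔ φ₂.range := MonoidHom.noncommCoprod_range φ₁ φ₂ _
  set z : SpecialLinearGroup (Fin 2) F := hS (-1) (neg_one_ne_zero' F) with hzdef
  have hzz : z * z = 1 := hS_neg_one_sq F
  have hz1 : z ≠ 1 := by
    intro h
    have : φ₁ z = 1 := by rw [h, map_one]
    rw [hz₁] at this
    exact h0_ne_one F h2 this
  have hker : ψ.ker = Subgroup.zpowers ((z, z) : SpecialLinearGroup (Fin 2) F × SpecialLinearGroup (Fin 2) F) := by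
    ext ⟨A, B⟩
    rw [MonoidHom.mem_ker, Subgroup.mem_zpowers_iff]
    constructor
    · intro h
      have h' : φ₁ A * φ₂ B = 1 := h
      have hAB : φ₁ A = φ₂ B⁻¹ := by rw [map_inv]; exact eq_inv_of_mul_eq_one_left h'
      rcases hint A B⁻¹ hAB with hA | hA
      · refine ⟨0, ?_⟩
        rw [hA, map_one, one_mul] at h'
        have hB : B = 1 := hinj₂ (by rw [h', map_one])
        rw [hA, hB]; rfl
      · refine ⟨1, ?_⟩
        rw [zpow_one]
        have hB : B⁻¹ = z := hinj₂ (by rw [← hAB, hA, hz₁, hz₂])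
        have hB' : B = z := by
          have : B = z⁻¹ := by rw [← hB, inv_inv]
          rw [this]; exact inv_eq_of_mul_eq_one_left hzz
        rw [hA, hB']
    · rintro ⟨k, hk⟩
      have hzk : ψ (z, z) = 1 := by
        show φ₁ z * φ₂ z = 1
        rw [hz₁, hz₂, ← hz₁, ← map_mul, hzz, map_one]
      rw [← hk, map_zpow, hzk, _root_.one_zpow]
  have hcardker : Nat.card ↥ψ.ker = 2 := by
    rw [hker, Nat.card_zpowers]
    apply orderOf_eq_prime
    · rw [pow_two]
      exact Prod.ext hzz hzz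
    · intro h
      exact hz1 (congrArg Prod.fst h)
  have h1 := Subgroup.card_eq_card_quotient_mul_card_subgroup ψ.ker
  rw [Nat.card_congr (QuotientGroup.quotientKerEquivRange ψ).toEquiv, hcardker, Nat.card_prod,
    Cfsg.Agent.Lib.Helper13.card_SL2] at h1
  rw [← hrange, ← h1, card_centG F h2]
  ring

end Cfsg.Agent.Lib.Helper11.SemiCent
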