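import Cfsg.Agent.Lib.Helper11.SemiCentF

/-!
helper11 (S4279): the centraliser of the involution `h₀` of `G₂(q)`, `q` odd, inside the group `↥(chevG2.group F)`:
order `q² (q² - 1)²`, and two commuting copies of `SL₂(q)` meeting in `⟨h₀⟩` whose product has index `2`;
the statement is invariant under conjugation.
-/

set_option autoImplicit false

namespace Cfsg.Agent.Lib.Helper11.SemiCent

open Cfsg Cfsg.Lie Matrix Cfsg.Agent.Lib.Helper7 Cfsg.Agent.Lib.Helper11.SL2Hom
open Cfsg.Agent.Lib.Helper3.BN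

variable (F : Type*) [Field F] [Fintype F]

/-- the statement of `S4279` for an element `t` -/
def Goal (t : ↥(chevG2.group F)) : Prop :=
  Nat.card (Subgroup.centralizer ({t} : Set ↥(chevG2.group F))) =
      Fintype.card F ^ 2 * (Fintype.card F ^ 2 - 1) ^ 2 ∧
    ∃ L₁ L₂ : Subgroup ↥(chevG2.group F),
      Nonempty (L₁ ≃* Matrix.SpecialLinearGroup (Fin 2) F) ∧ Nonempty (L₂ ≃* Matrix.SpecialLinearGroup (Fin 2) F) ∧
      (∀ x ∈ L₁, ∀ y ∈ L₂, x * y = y * x) ∧ L₁ ⊓ L₂ = Subgroup.zpowers t ∧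
      L₁ ⊔ L₂ ≤ Subgroup.centralizer ({t} : Set ↥(chevG2.group F)) ∧
      (L₁ ⊔ L₂).relIndex (Subgroup.centralizer ({t} : Set ↥(chevG2.group F))) = 2

/-- the involution as an element of the group -/
noncomputable def h0G : ↥(chevG2.group F) := ⟨h0 F, diag_le_group F (h0_mem F)⟩

omit [Fintype F] in
theorem centralizer_h0G :
    Subgroup.centralizer ({h0G F} : Set ↥(chevG2.group F)) = (centG F).subgroupOf (chevG2.group F) := by
  ext x
  rw [Subgroup.mem_centralizer_iff, Subgroup.mem_subgroupOf, mem_centG]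
  constructor
  · intro h
    refine ⟨x.2, ?_⟩
    have := congrArg Subtype.val (h _ rfl)
    exact this.symm
  · rintro ⟨-, h⟩ y hy
    rw [Set.mem_singleton_iff.mp hy]
    exact Subtype.ext h.symm

omit [Fintype F] in
theorem centG_le : centG F ≤ chevG2.group F := inf_le_left

theorem goal_h0 (h2 : (2 : F) ≠ 0) : Goal F (h0G F) := by
  obtain ⟨φ₁, φ₂, hinj₁, hinj₂, hcomm, hint, ⟨A₀, hA₀⟩, ⟨B₀, hB₀⟩, hc₁, hc₂, hcard⟩ := exists_L F h2
  have hcardC : Nat.card (Subgroup.centralizer ({h0G F} : Set ↥(chevG2.group F))) =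
      Fintype.card F ^ 2 * (Fintype.card F ^ 2 - 1) ^ 2 := by
    rw [centralizer_h0G, Nat.card_congr (Subgroup.subgroupOfEquivOfLe (centG_le F)).toEquiv, card_centG F h2]
  refine ⟨hcardC, ?_⟩
  set ψ₁ : SpecialLinearGroup (Fin 2) F →* ↥(chevG2.group F) :=
    φ₁.codRestrict (chevG2.group F) (fun A => centG_le F (hc₁ A)) with hψ₁
  set ψ₂ : SpecialLinearGroup (Fin 2) F →* ↥(chevG2.group F) :=
    φ₂.codRestrict (chevG2.group F) (fun A => centG_le F (hc₂ A)) with hψ₂
  have hi₁ : Function.Injective ψ₁ := fun A B h => hinj₁ (congrArg Subtype.val h)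
  have hi₂ : Function.Injective ψ₂ := fun A B h => hinj₂ (congrArg Subtype.val h)
  have hle₁ : ψ₁.range ≤ Subgroup.centralizer ({h0G F} : Set ↥(chevG2.group F)) := by
    rintro x ⟨A, rfl⟩
    rw [centralizer_h0G, Subgroup.mem_subgroupOf]
    exact hc₁ A
  have hle₂ : ψ₂.range ≤ Subgroup.centralizer ({h0G F} : Set ↥(chevG2.group F)) := by
    rintro x ⟨A, rfl⟩
    rw [centralizer_h0G, Subgroup.mem_subgroupOf]
    exact hc₂ A
  have hsup : ψ₁.range ⊔ ψ₂.range ≤ Subgroup.centralizer ({h0G F} : Set ↥(chevG2.group F)) := sup_le hle₁ hle₂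
  refine ⟨ψ₁.range, ψ₂.range, ⟨(MonoidHom.ofInjective hi₁).symm⟩, ⟨(MonoidHom.ofInjective hi₂).symm⟩, ?_, ?_,
    hsup, ?_⟩
  · rintro x ⟨A, rfl⟩ y ⟨B, rfl⟩
    exact Subtype.ext (hcomm A B)
  · apply le_antisymm
    · rintro x ⟨⟨A, rfl⟩, ⟨B, hB⟩⟩
      have hAB : φ₁ A = φ₂ B := (congrArg Subtype.val hB).symm
      rcases hint A B hAB with h | h
      · have : ψ₁ A = 1 := Subtype.ext h
        rw [this]; exact Subgroup.one_mem _
      · have : ψ₁ A = h0G F := Subtype.ext h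
        rw [this]; exact Subgroup.mem_zpowers _
    · rw [Subgroup.zpowers_le]
      refine Subgroup.mem_inf.mpr ⟨⟨A₀, Subtype.ext hA₀⟩, ⟨B₀, Subtype.ext hB₀⟩⟩
  · -- index two
    have hmap : (ψ₁.range ⊔ ψ₂.range).map (chevG2.group F).subtype = φ₁.range ⊔ φ₂.range := by
      rw [Subgroup.map_sup, ← MonoidHom.range_comp, ← MonoidHom.range_comp]
      rfl
    have hcardL : Nat.card ↥(ψ₁.range ⊔ ψ₂.range) = Nat.card ↥(φ₁.range ⊔ φ₂.range) := by
      rw [← hmap]
      exact Nat.card_congr (Subgroup.equivMapOfInjective _ _ (Subgroup.subtype_injective _)).toEquiv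
    have h1 := Subgroup.relIndex_mul_relIndex (⊥ : Subgroup ↥(chevG2.group F)) (ψ₁.range ⊔ ψ₂.range) _ bot_le hsup
    rw [Subgroup.relIndex_bot_left, Subgroup.relIndex_bot_left, hcardL, hcardC, ← card_centG F h2, ← hcard] at h1
    have hpos : 0 < Nat.card ↥(φ₁.range ⊔ φ₂.range) := Nat.card_pos
    exact Nat.eq_of_mul_eq_mul_left hpos h1

/-- the statement is invariant under conjugation -/
theorem goal_conj (t c : ↥(chevG2.group F)) (h : Goal F t) : Goal F (c * t * c⁻¹) := by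
  obtain ⟨hcard, L₁, L₂, ⟨e₁⟩, ⟨e₂⟩, hcomm, hinf, hsup, hidx⟩ := h
  set κ : ↥(chevG2.group F) →* ↥(chevG2.group F) := (MulAut.conj c).toMonoidHom with hκ
  have hκi : Function.Injective κ := (MulAut.conj c).injective
  have hκa : ∀ x, κ x = c * x * c⁻¹ := fun x => rfl
  have hcent : Subgroup.centralizer ({c * t * c⁻¹} : Set ↥(chevG2.group F)) =
      (Subgroup.centralizer ({t} : Set ↥(chevG2.group F))).map κ := by
    ext x
    rw [Subgroup.mem_centralizer_iff, Subgroup.mem_map]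
    constructor
    · intro hx
      refine ⟨c⁻¹ * x * c, ?_, ?_⟩
      · rw [Subgroup.mem_centralizer_iff]
        intro y hy
        rw [Set.mem_singleton_iff.mp hy]
        have := hx _ rfl
        have e1 : t * (c⁻¹ * x * c) = c⁻¹ * ((c * t * c⁻¹) * x) * c := by group
        have e2 : c⁻¹ * x * c * t = c⁻¹ * (x * (c * t * c⁻¹)) * c := by group
        rw [e1, e2, this]
      · rw [hκa]; group
    · rintro ⟨y, hy, rfl⟩ z hz
      rw [Set.mem_singleton_iff.mp hz, hκa]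
      rw [Subgroup.mem_centralizer_iff] at hy
      have := hy _ rfl
      have e1 : c * t * c⁻¹ * (c * y * c⁻¹) = c * (t * y) * c⁻¹ := by group
      have e2 : c * y * c⁻¹ * (c * t * c⁻¹) = c * (y * t) * c⁻¹ := by group
      rw [e1, e2, this]
  refine ⟨?_, L₁.map κ, L₂.map κ, ⟨(Subgroup.equivMapOfInjective L₁ κ hκi).symm.trans e₁⟩,
    ⟨(Subgroup.equivMapOfInjective L₂ κ hκi).symm.trans e₂⟩, ?_, ?_, ?_, ?_⟩
  · rw [hcent, ← hcard]
    exact (Nat.card_congr (Subgroup.equivMapOfInjective _ κ hκi).toEquiv).symm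
  · rintro x ⟨a, ha, rfl⟩ y ⟨b, hb, rfl⟩
    rw [← map_mul, ← map_mul, hcomm a ha b hb]
  · rw [← Subgroup.map_inf _ _ κ hκi, hinf, MonoidHom.map_zpowers]
    rfl
  · rw [hcent, ← Subgroup.map_sup]
    exact Subgroup.map_mono hsup
  · rw [hcent, ← Subgroup.map_sup, Subgroup.relIndex_map_map_of_injective _ _ hκi]
    exact hidx

end Cfsg.Agent.Lib.Helper11.SemiCent
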