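import Cfsg.Agent.Lib.Helper11.SemiCentA
import Cfsg.Agent.Lib.Helper7.ChevOrdA
import Cfsg.Agent.Lib.Helper7.ChevWeylPerm2

/-!
helper11: closed sets of positive roots in a Chevalley group (seven tabulated data, any field).
* additive functionals compatible with the fundamental reflections (`LinFacts`), stable under composition with a word
  in the reflections;
* for a list `l` of positive roots in increasing order, closed under the terms of the commutator formula
  (`ClosedL`), every element of `⟨X_r : r ∈ l⟩` is a unique ordered product (`exists_ordProdC`, `ordProd_injC`).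
-/

set_option autoImplicit false

namespace Cfsg.Agent.Lib.Helper11.SemiCent

open Cfsg Cfsg.Lie Matrix Cfsg.Agent.Lib.Helper7

/-- `ChainAdd` only depends on the values on the roots -/
theorem chainAdd_congr (D : ChevalleyDatum) (A B : ℕ → ℤ) (hA : ChainAdd D A)
    (h : ∀ r < D.nroots, B r = A r) : ChainAdd D B :=
  ⟨fun s hs hn => by rw [h _ hn, h s hs, hA.negA s hs hn],
   fun s hs v hv x hx hx1 => by rw [h _ hx1, h v hv, h s hs, hA.addA s hs v hv x hx hx1]⟩

/-- an additive functional on the roots which is compatible with the fundamental reflections -/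
structure LinFacts (D : ChevalleyDatum) (A : ℕ → ℤ) : Prop where
  add : ChainAdd D A
  refl : ∀ i < D.rank, ∀ s < D.nroots, A (D.reflectRoot i s) = A s - D.cartan i s * A (D.simple i)

section
variable (D : ChevalleyDatum) (hD : D ∈ [chevG2, chevB2, chevD4, chevF4, chevE6, chevE7, chevE8])
include hD

omit hD in
theorem list_sum_refl (L : List ℕ) (w : ℕ → ℤ) (a b c : ℕ → ℤ) (d : ℤ)
    (h : ∀ k ∈ L, a k = b k - d * c k) :
    (L.map fun k => w k * a k).sum = (L.map fun k => w k * b k).sum - d * (L.map fun k => w k * c k).sum := by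
  induction L with
  | nil => simp
  | cons k L ih =>
    have ih' := ih (fun j hj => h j (List.mem_cons_of_mem _ hj))
    simp only [List.map_cons, List.sum_cons]
    rw [ih', h k List.mem_cons_self]
    ring

theorem linFacts_linF (w : List ℤ) : LinFacts D (linF D w) := by
  refine ⟨chainAdd_linF D hD w, ?_⟩
  intro i hi s hs
  have hC := conjFacts_of_mem D hD i hi
  unfold linF
  exact list_sum_refl (List.range D.rank) (fun k => w.getD k 0) (fun k => D.cartan k (D.reflectRoot i s))
    (fun k => D.cartan k s) (fun k => D.cartan k (D.simple i)) (D.cartan i s)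
    (fun k hk => hC.carRefl k (List.mem_range.mp hk) s hs)

theorem LinFacts.comp {A : ℕ → ℤ} (hA : LinFacts D A) (i : ℕ) (hi : i < D.rank) :
    LinFacts D (fun s => A (D.reflectRoot i s)) := by
  have hC := conjFacts_of_mem D hD i hi
  have hF := fundFacts_of_mem D hD i hi
  have hH := hxFacts_of_mem D hD i hi
  constructor
  · have h1 : ChainAdd D (fun s => A s + (- A (D.simple i)) * D.cartan i s) :=
      hA.add.add ((chainAdd_cartan D i hH).smul (- A (D.simple i)))
    apply chainAdd_congr D _ _ h1
    intro r hr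
    show A (D.reflectRoot i r) = A r + (- A (D.simple i)) * D.cartan i r
    rw [hA.refl i hi r hr]; ring
  · intro j hj s hs
    have hCj := conjFacts_of_mem D hD j hj
    have hFj := fundFacts_of_mem D hD j hj
    show A (D.reflectRoot i (D.reflectRoot j s)) =
      A (D.reflectRoot i s) - D.cartan j s * A (D.reflectRoot i (D.simple j))
    rw [hA.refl i hi _ (hCj.wlt s hs), hA.refl j hj s hs, hA.refl i hi s hs, hA.refl i hi _ hFj.hp,
      hCj.carRefl i hi s hs]
    ring

theorem LinFacts.compWord (L : List ℕ) (hL : ∀ i ∈ L, i < D.rank) : ∀ {A : ℕ → ℤ}, LinFacts D A →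
    LinFacts D (fun s => A (reflWord D L s)) := by
  induction L with
  | nil => intro A hA; exact hA
  | cons i L ih =>
    intro A hA
    have h1 := hA.comp D hD i (hL i List.mem_cons_self)
    exact ih (fun j hj => hL j (List.mem_cons_of_mem _ hj)) h1

end

/-- a list of positive roots in increasing order, closed under the terms of the commutator formula -/
structure ClosedL (D : ChevalleyDatum) (l : List ℕ) : Prop where
  sorted : l.Pairwise (· < ·)
  pos : ∀ r ∈ l, D.IsPosRoot r
  closed : ∀ r ∈ l, ∀ s ∈ l, ∀ c ∈ D.commTerms r s, c.1 ∈ l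

section
variable (D : ChevalleyDatum) (hD : D ∈ [chevG2, chevB2, chevD4, chevF4, chevE6, chevE7, chevE8])
variable (F : Type*) [Field F]
variable (A : ℕ → ℤ) (hA : ChainAdd D A) (hO : OrdFacts D A)
include hD hA hO

omit F in
/-- the terms of the commutator formula of two positive roots are later than both -/
theorem commTerm_gt (r s : ℕ) (hr : D.IsPosRoot r) (hs : D.IsPosRoot s) (c : ℕ × ℤ × ℕ × ℕ)
    (hc : c ∈ D.commTerms r s) : D.IsPosRoot c.1 ∧ r < c.1 ∧ s < c.1 := by
  obtain ⟨hc1, hi, hj, hlin⟩ := hA.commTerms D hD r s hr.1 hs.1 c hc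
  have hAr := hO.pos r hr
  have hAs := hO.pos s hs
  have h1 : A r ≤ c.2.2.1 * A r := by
    have : (1 : ℤ) ≤ c.2.2.1 := by exact_mod_cast hi
    nlinarith
  have h2 : A s ≤ c.2.2.2 * A s := by
    have : (1 : ℤ) ≤ c.2.2.2 := by exact_mod_cast hj
    nlinarith
  have h3 : 0 ≤ (c.2.2.1 : ℤ) * A r := by positivity
  have h4 : 0 ≤ (c.2.2.2 : ℤ) * A s := by positivity
  have hcpos : D.IsPosRoot c.1 := isPosRoot_of_A_pos D hD A hA hO c.1 hc1 (by omega)
  refine ⟨hcpos, ?_, ?_⟩
  · by_contra hcon
    push Not at hcon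
    rcases Nat.lt_or_eq_of_le hcon with h' | h'
    · have := hO.mono c.1 r h' hr.1
      omega
    · rw [h'] at hlin; omega
  · by_contra hcon
    push Not at hcon
    rcases Nat.lt_or_eq_of_le hcon with h' | h'
    · have := hO.mono c.1 s h' hs.1
      omega
    · rw [h'] at hlin; omega

omit F in
theorem ClosedL.tail {r : ℕ} {l : List ℕ} (h : ClosedL D (r :: l)) : ClosedL D l := by
  have hs := List.pairwise_cons.mp h.sorted
  refine ⟨hs.2, fun s hs' => h.pos s (List.mem_cons_of_mem _ hs'), ?_⟩
  intro a ha s hs' c hc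
  have hmem := h.closed a (List.mem_cons_of_mem _ ha) s (List.mem_cons_of_mem _ hs') c hc
  rcases List.mem_cons.mp hmem with h' | h'
  · exfalso
    have hgt := (commTerm_gt D hD A hA hO a s (h.pos a (List.mem_cons_of_mem _ ha))
      (h.pos s (List.mem_cons_of_mem _ hs')) c hc).2.1
    have := hs.1 a ha
    omega
  · exact h'

/-- `X_r` normalises the subgroup generated by the later root subgroups of a closed list -/
theorem xGL_conj_gensLC (r : ℕ) (l : List ℕ) (hl : ClosedL D (r :: l)) (u : F) :
    ∀ y ∈ gensL D F l, xGL D hD F r u * y * (xGL D hD F r u)⁻¹ ∈ Subgroup.closure (gensL D F l) := by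
  rintro y ⟨s, hs, t, hym⟩
  have hy : y = xGL D hD F s t := Units.ext (by rw [hym, coe_xGL])
  rw [hy]
  have hsort := List.pairwise_cons.mp hl.sorted
  have hrpos := hl.pos r (List.mem_cons_self ..)
  have hspos := hl.pos s (List.mem_cons_of_mem _ hs)
  have hrs : r < s := hsort.1 s hs
  have hAr := hO.pos r hrpos
  have hAs := hO.pos s hspos
  have hsr : s ≠ r := by omega
  have hsn : s ≠ D.neg r := by
    intro h
    have hN := negOK_of_mem D hD r hrpos.1
    have := hA.negA r hrpos.1 hN.1
    rw [← h] at this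
    omega
  rw [xGL_conj_xGL D hD F r s hrpos.1 hspos.1 hsr hsn u t]
  apply Subgroup.mul_mem
  · apply Subgroup.subset_closure
    exact ⟨s, hs, t, coe_xGL D hD F _ _⟩
  · unfold wordGL
    apply Subgroup.list_prod_mem
    intro g hg
    rw [List.mem_map] at hg
    obtain ⟨p, hp, rfl⟩ := hg
    unfold ChevalleyDatum.commWord at hp
    rw [List.mem_map] at hp
    obtain ⟨c, hc, rfl⟩ := hp
    have hgt := (commTerm_gt D hD A hA hO r s hrpos hspos c hc).2.1
    have hmem := hl.closed r (List.mem_cons_self ..) s (List.mem_cons_of_mem _ hs) c hc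
    have hmem' : c.1 ∈ l := by
      rcases List.mem_cons.mp hmem with h' | h'
      · omega
      · exact h'
    apply Subgroup.subset_closure
    exact ⟨c.1, hmem', _, coe_xGL D hD F _ _⟩

/-- every element of `⟨X_r : r ∈ l⟩`, `l` closed, is an ordered product -/
theorem exists_ordProdC : ∀ (l : List ℕ), ClosedL D l → ∀ g ∈ Subgroup.closure (gensL D F l),
    ∃ t : ℕ → F, g = ordProd D hD F l t
  | [], _, g, hg => by
    have : gensL D F [] = ∅ := by
      ext g; simp [gensL]
    rw [this, Subgroup.closure_empty, Subgroup.mem_bot] at hg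
    exact ⟨fun _ => 0, by rw [hg, ordProd_nil]⟩
  | r :: l, hl, g, hg => by
    have ih := exists_ordProdC l (hl.tail D hD A hA hO)
    have hnorm : D.rootSubgroup F r ≤ Subgroup.normalizer (Subgroup.closure (gensL D F l) : Set (GL D.Idx F)) := by
      intro x hx
      obtain ⟨u, rfl⟩ := (mem_rootSubgroup_iff D hD F r x).mp hx
      apply mem_normalizer_closure
      · exact xGL_conj_gensLC D hD F A hA hO r l hl u
      · intro y hy
        rw [xGL_inv]
        exact xGL_conj_gensLC D hD F A hA hO r l hl (-u) y hy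
    rw [closure_gensL_cons D F r l] at hg
    have hg' : g ∈ ((D.rootSubgroup F r ⊔ Subgroup.closure (gensL D F l) : Subgroup (GL D.Idx F)) :
        Set (GL D.Idx F)) := hg
    rw [Subgroup.coe_mul_of_left_le_normalizer_right _ _ hnorm] at hg'
    obtain ⟨x, hx, k, hk, rfl⟩ := Set.mem_mul.mp hg'
    obtain ⟨u, rfl⟩ := (mem_rootSubgroup_iff D hD F r x).mp hx
    obtain ⟨t, rfl⟩ := ih k hk
    have hrl : r ∉ l := by
      intro h
      have := (List.pairwise_cons.mp hl.sorted).1 r h
      omega
    refine ⟨Function.update t r u, ?_⟩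
    rw [ordProd_cons, Function.update_self]
    congr 1
    apply ordProd_congr
    intro s hs
    rw [Function.update_of_ne]
    rintro rfl
    exact hrl hs

/-- a root element lying in the subgroup generated by later root subgroups is trivial -/
theorem eq_zero_of_xGL_memC (r : ℕ) (l : List ℕ) (hsort : ∀ s ∈ l, r < s) (hrpos : D.IsPosRoot r)
    (hpos : ∀ s ∈ l, D.IsPosRoot s) (d : F)
    (h : xGL D hD F r d ∈ Subgroup.closure (gensL D F l)) : d = 0 := by
  have hAr := hO.pos r hrpos
  obtain ⟨m, hm⟩ : ∃ m : ℕ, (m : ℤ) = A r + 1 := ⟨(A r + 1).toNat, Int.toNat_of_nonneg (by omega)⟩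
  have hK : Subgroup.closure (gensL D F l) ≤
      unitriSubgroup (R := F) (lvlA D A) (2 * bndA D A + 1) (lvlA_lt D A) m (by omega) := by
    rw [Subgroup.closure_le]
    rintro g ⟨s, hs, t, hg⟩
    show Level (lvlA D A) m ((g : Matrix D.Idx D.Idx F) - 1)
    have hspos := hpos s hs
    rw [hg, x_eq_xMat D F s hspos.1]
    apply xMat_level D hD F hA ⟨s, hspos.1⟩ t m (by omega)
    have := hO.mono r s (hsort s hs) hspos.1
    show (m : ℤ) ≤ A s
    omega
  have hlev : Level (lvlA D A) m (((xGL D hD F r d : GL D.Idx F) : Matrix D.Idx D.Idx F) - 1) := hK h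
  rw [coe_xGL, x_eq_xMat D F r hrpos.1] at hlev
  have hN := negOK_of_mem D hD r hrpos.1
  have hnegA : A (D.negIdx.getD r 0) = - A r := hA.negA r hrpos.1 hN.1
  have hne : (⟨D.negIdx.getD r 0, hN.1⟩ : Fin D.nroots) ≠ ⟨r, hrpos.1⟩ := by
    intro hh; exact hN.2 (Fin.mk.inj_iff.mp hh)
  have hent : ∀ j : Fin D.rank, (((D.coroot.getD r #[]).getD j.val 0 : ℤ) : F) * d = 0 := by
    intro j
    have hlt : lvlA D A (Sum.inl j) < lvlA D A (Sum.inr ⟨D.negIdx.getD r 0, hN.1⟩) + m := by
      have c1 := lvlA_cast D A (Sum.inl j)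
      have c2 := lvlA_cast D A (Sum.inr ⟨D.negIdx.getD r 0, hN.1⟩)
      have w1 : wtF D A (Sum.inl j) = 0 := rfl
      have w2 : wtF D A (Sum.inr ⟨D.negIdx.getD r 0, hN.1⟩) = A (D.negIdx.getD r 0) := rfl
      omega
    have := hlev _ _ hlt
    rw [Matrix.sub_apply, Matrix.one_apply, if_neg (by simp), sub_zero,
      xMat_inl_neg D F ⟨r, hrpos.1⟩ d ⟨D.negIdx.getD r 0, hN.1⟩ hne rfl j] at this
    exact this
  have hg := gcdL_cast_mul_eq_zero d (corL D r) (by
    intro c hc
    unfold corL at hc
    rw [List.mem_map] at hc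
    obtain ⟨j, hj, rfl⟩ := hc
    exact hent ⟨j, List.mem_range.mp hj⟩)
  rw [hO.prim r hrpos.1] at hg
  simpa using hg

/-- uniqueness of the ordered product over an increasing list of positive roots -/
theorem ordProd_injC : ∀ (l : List ℕ), l.Pairwise (· < ·) → (∀ r ∈ l, D.IsPosRoot r) → ∀ t u : ℕ → F,
    ordProd D hD F l t = ordProd D hD F l u → ∀ r ∈ l, t r = u r
  | [], _, _, _, _, _, r, hr => by simp at hr
  | r :: l, hsorted, hpos, t, u, h, s, hs => by
    have hsort := List.pairwise_cons.mp hsorted
    have ih := ordProd_injC l hsort.2 (fun s hs' => hpos s (List.mem_cons_of_mem _ hs')) t u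
    rw [ordProd_cons, ordProd_cons] at h
    have hd : xGL D hD F r (t r - u r) ∈ Subgroup.closure (gensL D F l) := by
      have e : xGL D hD F r (t r - u r) = ordProd D hD F l u * (ordProd D hD F l t)⁻¹ := by
        have h1 : xGL D hD F r (t r - u r) = (xGL D hD F r (u r))⁻¹ * xGL D hD F r (t r) := by
          rw [xGL_inv, xGL_mul]; congr 1; ring
        rw [h1]
        have h2 : xGL D hD F r (t r) = xGL D hD F r (u r) * ordProd D hD F l u *
            (ordProd D hD F l t)⁻¹ := by rw [← h]; group
        rw [h2]; group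
      rw [e]
      exact Subgroup.mul_mem _ (ordProd_mem D hD F l u) (Subgroup.inv_mem _ (ordProd_mem D hD F l t))
    have h0 := eq_zero_of_xGL_memC D hD F A hA hO r l hsort.1 (hpos r List.mem_cons_self)
      (fun s hs' => hpos s (List.mem_cons_of_mem _ hs')) _ hd
    have htr : t r = u r := sub_eq_zero.mp h0
    rcases List.mem_cons.mp hs with rfl | hs'
    · exact htr
    · rw [htr] at h
      exact ih (mul_left_cancel h) s hs'

end

end Cfsg.Agent.Lib.Helper11.SemiCent
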