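import Cfsg.Agent.Lib.Helper11.SemiCentH

/-!
helper11: the centraliser of `h ∈ H` in the subgroup `⟨X_r : r ∈ l⟩` of a closed list `l` of positive roots consists of
the ordered products supported on the roots with `χ(r) = 1`; its order is `q^{#{r ∈ l : χ(r) = 1}}`.  The subgroup
`U_n⁻` of an element `n ∈ N` acting on the roots as a word in the fundamental reflections is of this kind.
-/

set_option autoImplicit false

namespace Cfsg.Agent.Lib.Helper11.SemiCent

open Cfsg Cfsg.Lie Matrix Cfsg.Agent.Lib.Helper7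

section
variable (D : ChevalleyDatum) (hD : D ∈ [chevG2, chevB2, chevD4, chevF4, chevE6, chevE7, chevE8])
variable (F : Type*) [Field F]
include hD

/-- the positive roots form a closed list -/
theorem closedL_posRoots : ClosedL D D.posRoots := by
  obtain ⟨w, hO⟩ := exists_ordW D hD
  have hA := chainAdd_linF D hD w
  have hG := goodL_posRoots D
  refine ⟨hG.sorted, hG.pos, ?_⟩
  intro r hr s hs c hc
  rw [mem_posRoots]
  exact (commTerm_gt D hD _ hA hO r s (hG.pos r hr) (hG.pos s hs) c hc).1

theorem reflWord_lt (L : List ℕ) (hL : ∀ i ∈ L, i < D.rank) (s : ℕ) (hs : s < D.nroots) :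
    reflWord D L s < D.nroots := by
  induction L with
  | nil => exact hs
  | cons i L ih =>
    have hC := conjFacts_of_mem D hD i (hL i List.mem_cons_self)
    exact hC.wlt _ (ih (fun j hj => hL j (List.mem_cons_of_mem _ hj)))

/-- the positive roots made negative by a word in the fundamental reflections form a closed list -/
theorem closedL_filter_neg (L : List ℕ) (hL : ∀ i ∈ L, i < D.rank) :
    ClosedL D (D.posRoots.filter (fun r => decide (D.IsNegRoot (reflWord D L r)))) := by
  obtain ⟨w, hO⟩ := exists_ordW D hD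
  have hA := chainAdd_linF D hD w
  have hG := goodL_posRoots D
  have hB := ((linFacts_linF D hD w).compWord D hD L hL).add
  refine ⟨List.Pairwise.filter _ hG.sorted, fun r hr => hG.pos r (List.mem_filter.mp hr).1, ?_⟩
  intro r hr s hs c hc
  rw [List.mem_filter, decide_eq_true_iff] at hr hs ⊢
  have hrp := hG.pos r hr.1
  have hsp := hG.pos s hs.1
  have hcp := (commTerm_gt D hD _ hA hO r s hrp hsp c hc).1
  refine ⟨(mem_posRoots D c.1).mpr hcp, ?_⟩
  obtain ⟨hc1, hi, hj, hlin⟩ := hB.commTerms D hD r s hrp.1 hsp.1 c hc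
  have hBr : linF D w (reflWord D L r) < 0 := A_neg_of_neg D hD _ hA hO _ hr.2
  have hBs : linF D w (reflWord D L s) < 0 := A_neg_of_neg D hD _ hA hO _ hs.2
  have hlin' : linF D w (reflWord D L c.1) =
      c.2.2.1 * linF D w (reflWord D L r) + c.2.2.2 * linF D w (reflWord D L s) := hlin
  have h1 : (c.2.2.1 : ℤ) * linF D w (reflWord D L r) < 0 := by
    have : (1 : ℤ) ≤ c.2.2.1 := by exact_mod_cast hi
    nlinarith
  have h2 : (c.2.2.2 : ℤ) * linF D w (reflWord D L s) < 0 := by
    have : (1 : ℤ) ≤ c.2.2.2 := by exact_mod_cast hj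
    nlinarith
  have hlt := reflWord_lt D hD L hL c.1 hc1
  rcases posOrNeg_of_mem D hD _ hlt with hp | hn
  · have := hO.pos _ hp
    omega
  · exact hn

/-- `U_n⁻` is generated by the root subgroups of the positive roots made negative by `n` -/
theorem uMinus_eq_closure (n : GL D.Idx F) (f : ℕ → ℕ) (hf : ActsAs D hD F n f) :
    uMinus D F n = Subgroup.closure (gensL D F (D.posRoots.filter (fun r => decide (D.IsNegRoot (f r))))) := by
  unfold uMinus gensL
  congr 1
  ext x
  constructor
  · rintro ⟨r, t, hr, hle, hx⟩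
    refine ⟨r, ?_, t, hx⟩
    rw [List.mem_filter, decide_eq_true_iff]
    refine ⟨(mem_posRoots D r).mpr hr, ?_⟩
    rw [map_conj_le_iff D hD F] at hle
    obtain ⟨hlt, c, hc, h1⟩ := hf r hr.1
    apply isNegRoot_of_mem D hD F _ hlt
    intro t'
    have := hle (c⁻¹ * t')
    rw [h1, ← mul_assoc, mul_inv_cancel₀ hc, one_mul] at this
    exact this
  · rintro ⟨r, hr, t, hx⟩
    rw [List.mem_filter, decide_eq_true_iff] at hr
    refine ⟨r, t, (mem_posRoots D r).mp hr.1, ?_, hx⟩
    rw [map_conj_le_iff D hD F]
    intro t'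
    obtain ⟨hlt, c, hc, h1⟩ := hf r ((mem_posRoots D r).mp hr.1).1
    rw [h1]
    exact xGL_neg_mem D hD F _ hr.2 _

/-- the list of positive roots made negative by `n` is closed -/
theorem closedL_of_actsAs (n : GL D.Idx F) (hn : n ∈ D.monomialSubgroup F) (f : ℕ → ℕ) (hf : ActsAs D hD F n f) :
    ClosedL D (D.posRoots.filter (fun r => decide (D.IsNegRoot (f r)))) := by
  obtain ⟨L, hL, hfL⟩ := exists_actsAs D hD F n hn
  have := closedL_filter_neg D hD L hL
  have e : D.posRoots.filter (fun r => decide (D.IsNegRoot (f r))) =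
      D.posRoots.filter (fun r => decide (D.IsNegRoot (reflWord D L r))) := by
    apply List.filter_congr
    intro r hr
    rw [hf.unique D hD F hfL r ((mem_posRoots D r).mp hr).1]
  rw [e]
  exact this

variable (h : GL D.Idx F) (χ : ℕ → F) (hχ : ChainChar D F χ) (hm : (h : Matrix D.Idx D.Idx F) = diagChar D F χ)
include hχ hm

/-- `h · ∏ x_r(t_r) · h⁻¹ = ∏ x_r(χ(r) t_r)` -/
theorem diag_conj_ordProd (l : List ℕ) (t : ℕ → F) :
    h * ordProd D hD F l t = ordProd D hD F l (fun r => χ r * t r) * h := by
  induction l with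
  | nil => rw [ordProd_nil, ordProd_nil, mul_one, one_mul]
  | cons r l ih =>
    rw [ordProd_cons, ordProd_cons, ← mul_assoc, diagGL_xGL_comm D hD F h χ hχ hm r (t r), mul_assoc, ih,
      mul_assoc]

/-- an ordered product commutes with `h` iff its coefficients vanish outside `χ = 1` -/
theorem ordProd_comm_iff (l : List ℕ) (hs : l.Pairwise (· < ·)) (hp : ∀ r ∈ l, D.IsPosRoot r) (t : ℕ → F) :
    ordProd D hD F l t * h = h * ordProd D hD F l t ↔ ∀ r ∈ l, χ r * t r = t r := by
  obtain ⟨w, hO⟩ := exists_ordW D hD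
  have hA := chainAdd_linF D hD w
  rw [diag_conj_ordProd D hD F h χ hχ hm l t]
  constructor
  · intro he
    have := mul_right_cancel he
    intro r hr
    exact (ordProd_injC D hD F _ hA hO l hs hp _ _ this r hr).symm
  · intro he
    congr 1
    apply ordProd_congr
    intro r hr
    exact (he r hr).symm

/-- `|C_{⟨X_r : r ∈ l⟩}(h)| = q^{#{r ∈ l : χ(r) = 1}}` for a closed list `l` -/
theorem card_cent_closed [Fintype F] (l : List ℕ) (hl : ClosedL D l) (psi : ℕ → Bool)
    (hpsi : ∀ r < D.nroots, (χ r = 1 ↔ psi r = true)) :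
    Nat.card {u : GL D.Idx F // u ∈ Subgroup.closure (gensL D F l) ∧ u * h = h * u} =
      Fintype.card F ^ (l.filter psi).length := by
  obtain ⟨w, hO⟩ := exists_ordW D hD
  have hA := chainAdd_linF D hD w
  classical
  have hnd : (l.filter psi).Nodup := by
    apply List.Nodup.filter
    exact hl.sorted.imp (fun h => Nat.ne_of_lt h)
  let extF : (↥((l.filter psi).toFinset) → F) → ℕ → F :=
    fun f r => if hr : r ∈ (l.filter psi).toFinset then f ⟨r, hr⟩ else 0
  have hcomm : ∀ f : ↥((l.filter psi).toFinset) → F,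
      ordProd D hD F l (extF f) * h = h * ordProd D hD F l (extF f) := by
    intro f
    rw [ordProd_comm_iff D hD F h χ hχ hm l hl.sorted hl.pos]
    intro r hr
    by_cases hrT : r ∈ (l.filter psi).toFinset
    · have h1 : psi r = true := (List.mem_filter.mp (List.mem_toFinset.mp hrT)).2
      rw [(hpsi r (hl.pos r hr).1).mpr h1, one_mul]
    · simp only [extF, dif_neg hrT, mul_zero]
  let φ : (↥((l.filter psi).toFinset) → F) →
      {u : GL D.Idx F // u ∈ Subgroup.closure (gensL D F l) ∧ u * h = h * u} :=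
    fun f => ⟨ordProd D hD F l (extF f), ordProd_mem D hD F l _, hcomm f⟩
  have hinj : Function.Injective φ := by
    intro f f' he
    have h1 : ordProd D hD F l (extF f) = ordProd D hD F l (extF f') := congrArg Subtype.val he
    have hagree := ordProd_injC D hD F _ hA hO l hl.sorted hl.pos _ _ h1
    funext ⟨r, hr⟩
    have := hagree r (List.mem_filter.mp (List.mem_toFinset.mp hr)).1
    simp only [extF, dif_pos hr] at this
    exact this
  have hsurj : Function.Surjective φ := by
    rintro ⟨g, hg, hgc⟩
    obtain ⟨t, rfl⟩ := exists_ordProdC D hD F _ hA hO l hl g hg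
    rw [ordProd_comm_iff D hD F h χ hχ hm l hl.sorted hl.pos] at hgc
    refine ⟨fun x => t x.val, ?_⟩
    apply Subtype.ext
    show ordProd D hD F l (extF fun x => t x.val) = ordProd D hD F l t
    apply ordProd_congr
    intro r hr
    by_cases hrT : r ∈ (l.filter psi).toFinset
    · simp only [extF, dif_pos hrT]
    · simp only [extF, dif_neg hrT]
      have h1 : ¬ psi r = true := by
        intro hp
        exact hrT (List.mem_toFinset.mpr (List.mem_filter.mpr ⟨hr, hp⟩))
      have h2 : χ r ≠ 1 := fun hc => h1 ((hpsi r (hl.pos r hr).1).mp hc)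
      have h3 := hgc r hr
      have h4 : (χ r - 1) * t r = 0 := by rw [sub_mul, one_mul, h3, sub_self]
      rcases mul_eq_zero.mp h4 with h5 | h5
      · exact absurd (sub_eq_zero.mp h5) h2
      · exact h5.symm
  rw [← Nat.card_congr (Equiv.ofBijective φ ⟨hinj, hsurj⟩), Nat.card_eq_fintype_card, Fintype.card_fun,
    Fintype.card_coe, List.toFinset_card_of_nodup hnd]

end

end Cfsg.Agent.Lib.Helper11.SemiCent
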