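import Cfsg.Agent.Lib.Helper11.SemiCentI
import Cfsg.Agent.Lib.Helper11.SemiCentC
import Cfsg.Agent.Lib.Helper7.ChevWeylEnum

/-!
helper11: the order of the centraliser of an element `h` of the diagonal subgroup `H` of a finite Chevalley group
(seven tabulated data), in terms of an enumeration of the Weyl group (helper7's `WeylEnum`):
`|C_G(h)| = |H| · q^{|Ψ⁺|} · Σ_{e, perm e preserves χ} q^{#{r ∈ Ψ⁺ : (perm e)(r) < 0}}`, `Ψ = {r : χ(r) = 1}`.
-/

set_option autoImplicit false

namespace Cfsg.Agent.Lib.Helper11.SemiCent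

open Cfsg Cfsg.Lie Matrix Cfsg.Agent.Lib.Helper7
open Cfsg.Agent.Lib.Helper3.BN

section
variable (D : ChevalleyDatum) (hD : D ∈ [chevG2, chevB2, chevD4, chevF4, chevE6, chevE7, chevE8])
variable (F : Type*) [Field F]
include hD

/-- the action of an element of `N` on the roots is surjective -/
theorem actsAs_surj (n : GL D.Idx F) (hn : n ∈ D.monomialSubgroup F) (f : ℕ → ℕ) (hf : ActsAs D hD F n f)
    (s : ℕ) (hs : s < D.nroots) : ∃ s' < D.nroots, f s' = s := by
  obtain ⟨L, -, hg⟩ := exists_actsAs D hD F n⁻¹ (Subgroup.inv_mem _ hn)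
  have h1 : ActsAs D hD F (n * n⁻¹) (f ∘ reflWord D L) := hf.mul D F hg
  have hone : ActsAs D hD F (n * n⁻¹) id := by
    rw [mul_inv_cancel]
    intro s hs
    exact ⟨hs, 1, one_ne_zero, fun t => by simp⟩
  exact ⟨reflWord D L s, (hg s hs).1, h1.unique D hD F hone s hs⟩

/-- two elements of `N` acting in the same way on the roots differ by an element of `H` -/
theorem inv_mul_mem_diag (n n' : GL D.Idx F) (hn : n ∈ D.monomialSubgroup F) (hn' : n' ∈ D.monomialSubgroup F)
    (f f' : ℕ → ℕ) (hf : ActsAs D hD F n f) (hf' : ActsAs D hD F n' f') (hff : ∀ s < D.nroots, f s = f' s) :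
    n⁻¹ * n' ∈ D.diagonalSubgroup F := by
  obtain ⟨L, -, hg⟩ := exists_actsAs D hD F n⁻¹ (Subgroup.inv_mem _ hn)
  have h1 : ActsAs D hD F (n⁻¹ * n) (reflWord D L ∘ f) := hg.mul D F hf
  have h2 : ActsAs D hD F (n⁻¹ * n') (reflWord D L ∘ f') := hg.mul D F hf'
  have hone : ActsAs D hD F (n⁻¹ * n) id := by
    rw [inv_mul_cancel]
    intro s hs
    exact ⟨hs, 1, one_ne_zero, fun t => by simp⟩
  apply mem_diag_of_actsAs D hD F _ (Subgroup.mul_mem _ (Subgroup.inv_mem _ hn) hn') _ h2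
  intro s hs
  show reflWord D L (f' s) = s
  rw [← hff s hs]
  exact h1.unique D hD F hone s hs

variable (h : GL D.Idx F) (hh : h ∈ D.diagonalSubgroup F) (χ : ℕ → F) (hχ : ChainChar D F χ)
  (hm : (h : Matrix D.Idx D.Idx F) = diagChar D F χ)
include hh hχ hm

/-- an element `n` of `N` whose action on the roots preserves the character of `h ∈ H` commutes with `h` -/
theorem comm_of_actsAs' (n : GL D.Idx F) (hn : n ∈ D.monomialSubgroup F) (f : ℕ → ℕ) (hf : ActsAs D hD F n f)
    (hpres : ∀ s < D.nroots, χ (f s) = χ s) : n * h = h * n := by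
  have hk : n * h * n⁻¹ ∈ D.diagonalSubgroup F := by
    have := monomialSubgroup_le_normalizer_diagonal D hD F hn
    rw [Subgroup.mem_set_normalizer_iff] at this
    exact (this h).mp hh
  have key : n * h * n⁻¹ = h := by
    apply diag_eq_of_conj_eq D hD F _ _ hk hh
    intro s hs
    obtain ⟨s', hs', rfl⟩ := actsAs_surj D hD F n hn f hf s hs
    obtain ⟨hlt, c, hc, h1⟩ := hf s' hs'
    -- `n⁻¹ x_{f s'}(1) n = x_{s'}(c⁻¹)`
    have e1 : n⁻¹ * xGL D hD F (f s') 1 * n = xGL D hD F s' c⁻¹ := by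
      have := h1 c⁻¹
      rw [mul_inv_cancel₀ hc] at this
      rw [← this]; group
    have e2 : n * h * n⁻¹ * xGL D hD F (f s') 1 * (n * h * n⁻¹)⁻¹ =
        n * (h * (n⁻¹ * xGL D hD F (f s') 1 * n) * h⁻¹) * n⁻¹ := by group
    rw [e2, e1]
    have e3 : h * xGL D hD F s' c⁻¹ * h⁻¹ = xGL D hD F s' (χ s' * c⁻¹) := by
      rw [diagGL_xGL_comm D hD F h χ hχ hm s' c⁻¹]; group
    rw [e3, h1]
    have e4 : h * xGL D hD F (f s') 1 * h⁻¹ = xGL D hD F (f s') (χ (f s') * 1) := by
      rw [diagGL_xGL_comm D hD F h χ hχ hm (f s') 1]; group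
    rw [e4, hpres s' hs']
    congr 1
    field_simp
  calc n * h = (n * h * n⁻¹) * n := by group
    _ = h * n := by rw [key]

end

section
variable (D : ChevalleyDatum) (hD : D ∈ [chevG2, chevB2, chevD4, chevF4, chevE6, chevE7, chevE8])
variable (F : Type*) [Field F] {I : Type} (S : Finset I) (perm : I → List ℕ) (dep : I → ℕ) (e0 : I)
variable (hT : WeylEnum D S perm dep e0)
include hD hT

/-- every member of the enumeration is realised by an element of `N` -/
theorem exists_rep (e : I) (he : e ∈ S) :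
    ∃ n : GL D.Idx F, n ∈ D.monomialSubgroup F ∧ ActsAs D hD F n (fun s => (perm e).getD s 0) := by
  obtain ⟨w, hw⟩ := enumIdx_surj D hD F S perm dep e0 hT (dep e) e he rfl
  have hr := enumIdx_rel D hD F S perm dep e0 hT w
  rw [hw] at hr
  obtain ⟨n, hn, -, f, hf, hp⟩ := hr
  refine ⟨(n : GL D.Idx F), (mem_N_iff D hD F n).mp hn, ?_⟩
  intro s hs
  have : (perm e).getD s 0 = f s := by
    rw [hp]
    simp [List.getD_eq_getElem?_getD, hs]
  show (perm e).getD s 0 < D.nroots ∧ ∃ c : F, c ≠ 0 ∧ ∀ t : F,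
    (n : GL D.Idx F) * xGL D hD F s t * (n : GL D.Idx F)⁻¹ = xGL D hD F ((perm e).getD s 0) (c * t)
  rw [this]
  exact hf s hs

/-- every element of `N` is a member of the enumeration, up to `H` -/
theorem exists_idx (n : GL D.Idx F) (hn : n ∈ D.monomialSubgroup F) :
    ∃ e ∈ S, ∃ f : ℕ → ℕ, ActsAs D hD F n f ∧ ∀ s < D.nroots, (perm e).getD s 0 = f s := by
  obtain ⟨L, hL, hf⟩ := exists_actsAs D hD F n hn
  obtain ⟨e, he, hp⟩ := enum_word D S perm dep e0 hT L hL
  refine ⟨e, he, _, hf, ?_⟩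
  intro s hs
  rw [hp]
  simp [List.getD_eq_getElem?_getD, hs]

/-- the permutation of a member of the enumeration determines it -/
theorem idx_inj (e e' : I) (he : e ∈ S) (he' : e' ∈ S)
    (h : ∀ s < D.nroots, (perm e).getD s 0 = (perm e').getD s 0) : e = e' := by
  obtain ⟨n, -, hn⟩ := exists_rep D hD ℚ S perm dep e0 hT e he
  obtain ⟨n', -, hn'⟩ := exists_rep D hD ℚ S perm dep e0 hT e' he'
  -- the lists have length `nroots`
  have hlen : ∀ e ∈ S, (perm e).length = D.nroots := by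
    intro e he
    obtain ⟨w, hw⟩ := enumIdx_surj D hD ℚ S perm dep e0 hT (dep e) e he rfl
    have hr := enumIdx_rel D hD ℚ S perm dep e0 hT w
    rw [hw] at hr
    obtain ⟨n, hn, -, f, hf, hp⟩ := hr
    rw [hp]; simp
  apply hT.inj e he e' he'
  apply List.ext_getElem
  · rw [hlen e he, hlen e' he']
  · intro i h1 h2
    have := h i (by rw [← hlen e he]; exact h1)
    simpa [List.getD_eq_getElem?_getD, h1, h2] using this

end

end Cfsg.Agent.Lib.Helper11.SemiCent
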