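import Cfsg.Agent.Lib.Helper11.SemiCentJ

/-!
helper11: the order of the centraliser of an element `h` of the diagonal subgroup `H` of a finite Chevalley group
(seven tabulated data), in terms of an enumeration of the Weyl group (helper7's `WeylEnum`):
`|C_G(h)| = |H| · q^{|Ψ⁺|} · Σ_{e, perm e preserves χ} q^{#{r ∈ Ψ⁺ : (perm e)(r) < 0}}`, `Ψ = {r : χ(r) = 1}`
(`card_cent_diag`, `card_centralizer_diag`).  The proof is the parametrisation `(e, k, u', u) ↦ k u' n_e u` of the
centraliser by the sharp Bruhat form.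
-/

set_option autoImplicit false

namespace Cfsg.Agent.Lib.Helper11.SemiCent

open Cfsg Cfsg.Lie Matrix Cfsg.Agent.Lib.Helper7
open Cfsg.Agent.Lib.Helper3.BN

section
variable (D : ChevalleyDatum) (hD : D ∈ [chevG2, chevB2, chevD4, chevF4, chevE6, chevE7, chevE8])
variable (F : Type*) [Field F] {I : Type} (S : Finset I) (perm : I → List ℕ) (dep : I → ℕ) (e0 : I)
variable (hT : WeylEnum D S perm dep e0)

/-- a representative in `N` of a member of the enumeration -/
noncomputable def repN (e : I) (he : e ∈ S) : GL D.Idx F :=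
  Classical.choose (exists_rep D hD F S perm dep e0 hT e he)

theorem repN_mem (e : I) (he : e ∈ S) : repN D hD F S perm dep e0 hT e he ∈ D.monomialSubgroup F :=
  (Classical.choose_spec (exists_rep D hD F S perm dep e0 hT e he)).1

theorem repN_acts (e : I) (he : e ∈ S) :
    ActsAs D hD F (repN D hD F S perm dep e0 hT e he) (fun s => (perm e).getD s 0) :=
  (Classical.choose_spec (exists_rep D hD F S perm dep e0 hT e he)).2

/-- the positive roots made negative by a member of the enumeration -/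
def lNeg (e : I) : List ℕ := D.posRoots.filter (fun r => decide (D.IsNegRoot ((perm e).getD r 0)))

/-- the centraliser of `h` in `⟨X_r : r ∈ l⟩` -/
abbrev CU (h : GL D.Idx F) (l : List ℕ) : Type _ :=
  {u : GL D.Idx F // u ∈ Subgroup.closure (gensL D F l) ∧ u * h = h * u}

/-- the centraliser of `h` in the Chevalley group, as a subtype of `GL` -/
abbrev CG (h : GL D.Idx F) : Type _ := {g : GL D.Idx F // g ∈ D.group F ∧ g * h = h * g}

variable (h : GL D.Idx F) (hh : h ∈ D.diagonalSubgroup F) (χ : ℕ → F) (hχ : ChainChar D F χ)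
  (hm : (h : Matrix D.Idx D.Idx F) = diagChar D F χ)
  (pres : I → Bool) (hpres : ∀ e ∈ S, (pres e = true ↔ ∀ s < D.nroots, χ ((perm e).getD s 0) = χ s))

/-- the parameter space -/
abbrev ParK : Type _ :=
  Σ e : ↥(S.filter (fun e => pres e = true)),
    (↥(D.diagonalSubgroup F) × CU D F h D.posRoots × CU D F h (lNeg D perm e.1))

theorem mem_S_of_par (e : ↥(S.filter (fun e => pres e = true))) : e.1 ∈ S := (Finset.mem_filter.mp e.2).1

/-- the parametrisation `(e, k, u', u) ↦ k u' n_e u` -/
noncomputable def PhiK (x : ParK D F S perm h pres) : GL D.Idx F :=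
  (x.2.1 : GL D.Idx F) * (x.2.2.1 : GL D.Idx F) *
    repN D hD F S perm dep e0 hT x.1.1 (mem_S_of_par S pres x.1) * (x.2.2.2 : GL D.Idx F)

include hh hχ hm hpres

theorem repN_comm (e : ↥(S.filter (fun e => pres e = true))) :
    repN D hD F S perm dep e0 hT e.1 (mem_S_of_par S pres e) * h =
      h * repN D hD F S perm dep e0 hT e.1 (mem_S_of_par S pres e) := by
  have he := mem_S_of_par S pres e
  apply comm_of_actsAs' D hD F h hh χ hχ hm _ (repN_mem D hD F S perm dep e0 hT e.1 he) _
    (repN_acts D hD F S perm dep e0 hT e.1 he)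
  exact (hpres e.1 he).mp (Finset.mem_filter.mp e.2).2

omit hh hχ hm hpres in
theorem lNeg_closure (e : I) (he : e ∈ S) :
    uMinus D F (repN D hD F S perm dep e0 hT e he) = Subgroup.closure (gensL D F (lNeg D perm e)) :=
  uMinus_eq_closure D hD F _ _ (repN_acts D hD F S perm dep e0 hT e he)

theorem PhiK_mem (x : ParK D F S perm h pres) :
    PhiK D hD F S perm dep e0 hT h pres x ∈ D.group F ∧
      PhiK D hD F S perm dep e0 hT h pres x * h = h * PhiK D hD F S perm dep e0 hT h pres x := by
  obtain ⟨e, ⟨k, hk⟩, ⟨u', hu', hu'c⟩, ⟨u, hu, huc⟩⟩ := x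
  have he := mem_S_of_par S pres e
  have hHG : D.diagonalSubgroup F ≤ D.group F := (diagonal_le_borel D hD F).trans (borel_le_group D hD F)
  have hUG : D.posUnipotent F ≤ D.group F := (posUnipotent_le_borel D hD F).trans (borel_le_group D hD F)
  rw [← posUnipotent_eq_closure_gensL] at hu'
  rw [← lNeg_closure D hD F S perm dep e0 hT e.1 he] at hu
  have hu2 : u ∈ D.posUnipotent F := uMinus_le_posUnipotent D F _ hu
  have hnc := repN_comm D hD F S perm dep e0 hT h hh χ hχ hm pres hpres e
  have hkc : k * h = h * k := diagonalSubgroup_comm D hD F _ _ hk hh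
  constructor
  · exact Subgroup.mul_mem _ (Subgroup.mul_mem _ (Subgroup.mul_mem _ (hHG hk) (hUG hu'))
      (monomial_le_group D hD F (repN_mem D hD F S perm dep e0 hT e.1 he))) (hUG hu2)
  · show k * u' * repN D hD F S perm dep e0 hT e.1 he * u * h =
      h * (k * u' * repN D hD F S perm dep e0 hT e.1 he * u)
    obtain ⟨n, hn⟩ : ∃ n, n = repN D hD F S perm dep e0 hT e.1 he := ⟨_, rfl⟩
    rw [← hn] at hnc ⊢
    calc k * u' * n * u * h = k * u' * n * (u * h) := by group
      _ = k * u' * (n * h) * u := by rw [huc]; group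
      _ = k * (u' * h) * n * u := by rw [hnc]; group
      _ = (k * h) * u' * n * u := by rw [hu'c]; group
      _ = h * (k * u' * n * u) := by rw [hkc]; group

omit hh hχ hm hpres in
theorem PhiK_injective : Function.Injective (PhiK D hD F S perm dep e0 hT h pres) := by
  rintro ⟨e, ⟨k, hk⟩, ⟨u', hu', hu'c⟩, ⟨u, hu, huc⟩⟩ ⟨e', ⟨k', hk'⟩, ⟨v', hv', hv'c⟩, ⟨v, hv, hvc⟩⟩ heq
  have he := mem_S_of_par S pres e
  have he' := mem_S_of_par S pres e'
  have hHB := diagonal_le_borel D hD F
  have hUB := posUnipotent_le_borel D hD F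
  have hu'' := hu'
  have hv'' := hv'
  rw [← posUnipotent_eq_closure_gensL] at hu'' hv''
  have hu2 := hu
  have hv2 := hv
  rw [← lNeg_closure D hD F S perm dep e0 hT e.1 he] at hu2
  rw [← lNeg_closure D hD F S perm dep e0 hT e'.1 he'] at hv2
  have heq' : k * u' * repN D hD F S perm dep e0 hT e.1 he * u =
      k' * v' * repN D hD F S perm dep e0 hT e'.1 he' * v := heq
  have hcu := canon_unique D hD F (k * u') (k' * v') _ _ u v (Subgroup.mul_mem _ (hHB hk) (hUB hu''))
    (Subgroup.mul_mem _ (hHB hk') (hUB hv'')) (repN_mem D hD F S perm dep e0 hT e.1 he)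
    (repN_mem D hD F S perm dep e0 hT e'.1 he') hu2 hv2 heq'
  -- the members of the enumeration agree
  have hee : e = e' := by
    apply Subtype.ext
    apply idx_inj D hD S perm dep e0 hT e.1 e'.1 he he'
    intro s hs
    have hact := ActsAs.mul D F (repN_acts D hD F S perm dep e0 hT e.1 he) (actsAs_diag D hD F _ hcu.1)
    have e1 : repN D hD F S perm dep e0 hT e.1 he *
        ((repN D hD F S perm dep e0 hT e.1 he)⁻¹ * repN D hD F S perm dep e0 hT e'.1 he') =
        repN D hD F S perm dep e0 hT e'.1 he' := by group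
    rw [e1] at hact
    exact hact.unique D hD F (repN_acts D hD F S perm dep e0 hT e'.1 he') s hs
  subst hee
  obtain ⟨hb, huv⟩ := hcu.2 rfl
  -- `k = k'`
  have hmem : k'⁻¹ * k ∈ D.posUnipotent F ⊓ D.diagonalSubgroup F := by
    refine Subgroup.mem_inf.mpr ⟨?_, Subgroup.mul_mem _ (Subgroup.inv_mem _ hk') hk⟩
    have : k'⁻¹ * k = v' * u'⁻¹ := by
      have : k = k' * v' * u'⁻¹ := by rw [← hb]; group
      rw [this]; group
    rw [this]
    exact Subgroup.mul_mem _ hv'' (Subgroup.inv_mem _ hu'')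
  rw [posUnipotent_inf_diagonalSubgroup D hD F, Subgroup.mem_bot] at hmem
  have hkk : k = k' := (inv_mul_eq_one.mp hmem).symm
  subst hkk
  have huv' : u' = v' := mul_left_cancel hb
  subst huv' huv
  rfl

theorem PhiK_surjective (g : GL D.Idx F) (hgG : g ∈ D.group F) (hgc : g * h = h * g) :
    ∃ x, PhiK D hD F S perm dep e0 hT h pres x = g := by
  obtain ⟨b, hb, n, hn, u, hu, rfl⟩ := canon_exists D hD F g hgG
  have hb' : b ∈ ((D.borelSubgroup F : Subgroup (GL D.Idx F)) : Set (GL D.Idx F)) := hb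
  rw [borel_eq_mul D hD F] at hb'
  obtain ⟨h', hh', u', hu', rfl⟩ := Set.mem_mul.mp hb'
  obtain ⟨hnc, hu'c, huc⟩ := cent_canon D hD F h hh h' hh' u' hu' n hn u hu hgc
  obtain ⟨e, he, f, hf, hpf⟩ := exists_idx D hD F S perm dep e0 hT n hn
  have hpe : pres e = true := by
    rw [hpres e he]
    intro s hs
    rw [hpf s hs]
    exact pres_of_comm D hD F n f hf h χ hχ hm hnc s hs
  have heS : e ∈ S.filter (fun e => pres e = true) := Finset.mem_filter.mpr ⟨he, hpe⟩
  obtain ⟨m, hmdef⟩ : ∃ m, m = repN D hD F S perm dep e0 hT e he := ⟨_, rfl⟩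
  have hmN : m ∈ D.monomialSubgroup F := by rw [hmdef]; exact repN_mem D hD F S perm dep e0 hT e he
  have hmact : ActsAs D hD F m (fun s => (perm e).getD s 0) := by
    rw [hmdef]; exact repN_acts D hD F S perm dep e0 hT e he
  have hk2 : m⁻¹ * n ∈ D.diagonalSubgroup F :=
    inv_mul_mem_diag D hD F m n hmN hn _ f hmact hf hpf
  -- `n = k₁ m`
  have hk1 : m * (m⁻¹ * n) * m⁻¹ ∈ D.diagonalSubgroup F := by
    have := monomialSubgroup_le_normalizer_diagonal D hD F hmN
    rw [Subgroup.mem_set_normalizer_iff] at this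
    exact (this _).mp hk2
  obtain ⟨k, hkdef⟩ : ∃ k, k = m * (m⁻¹ * n) * m⁻¹ := ⟨_, rfl⟩
  rw [← hkdef] at hk1
  have hnk : n = k * m := by rw [hkdef]; group
  rw [hnk, uMinus_diag_mul D hD F k hk1, hmdef, lNeg_closure D hD F S perm dep e0 hT e he] at hu
  -- `k⁻¹ u' k`
  have hNU := diagonalSubgroup_le_normalizer_posUnipotent D hD F
  have hku : k⁻¹ * u' * k⁻¹⁻¹ ∈ D.posUnipotent F := by
    have := hNU (Subgroup.inv_mem _ hk1)
    rw [Subgroup.mem_set_normalizer_iff] at this
    exact (this u').mp hu'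
  have hkc : k * h = h * k := diagonalSubgroup_comm D hD F _ _ hk1 hh
  have hkic : k⁻¹ * h = h * k⁻¹ := diagonalSubgroup_comm D hD F _ _ (Subgroup.inv_mem _ hk1) hh
  have hkuc : k⁻¹ * u' * k⁻¹⁻¹ * h = h * (k⁻¹ * u' * k⁻¹⁻¹) := by
    rw [inv_inv]
    calc k⁻¹ * u' * k * h = k⁻¹ * u' * (k * h) := by group
      _ = k⁻¹ * (u' * h) * k := by rw [hkc]; group
      _ = (k⁻¹ * h) * u' * k := by rw [hu'c]; group
      _ = h * (k⁻¹ * u' * k) := by rw [hkic]; group
  rw [posUnipotent_eq_closure_gensL] at hku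
  refine ⟨⟨⟨e, heS⟩, ⟨h' * k, Subgroup.mul_mem _ hh' hk1⟩, ⟨k⁻¹ * u' * k⁻¹⁻¹, hku, hkuc⟩, ⟨u, hu, huc⟩⟩, ?_⟩
  show h' * k * (k⁻¹ * u' * k⁻¹⁻¹) * repN D hD F S perm dep e0 hT e he * u = h' * u' * n * u
  rw [hnk, ← hmdef]
  group

/-- the parametrisation as an equivalence -/
noncomputable def PhiKEquiv : ParK D F S perm h pres ≃ CG D F h :=
  Equiv.ofBijective (fun x => ⟨PhiK D hD F S perm dep e0 hT h pres x,
      PhiK_mem D hD F S perm dep e0 hT h hh χ hχ hm pres hpres x⟩)
    ⟨fun a a' he => PhiK_injective D hD F S perm dep e0 hT h pres (congrArg Subtype.val he),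
     fun g => by
      obtain ⟨a, ha⟩ := PhiK_surjective D hD F S perm dep e0 hT h hh χ hχ hm pres hpres g.1 g.2.1 g.2.2
      exact ⟨a, Subtype.ext ha⟩⟩

omit hh hχ hm hpres in
theorem finite_GL [Fintype F] : Finite (GL D.Idx F) := by
  have : Finite (Matrix D.Idx D.Idx F) := inferInstance
  exact Finite.of_injective (fun g : GL D.Idx F => (g : Matrix D.Idx D.Idx F)) Units.val_injective

include hD hT in
/-- `|C_G(h)| = |H| · q^{|Ψ⁺|} · Σ_{e, perm e preserves χ} q^{#{r ∈ Ψ⁺ : (perm e)(r) < 0}}` -/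
theorem card_cent_diag [Fintype F] (psi : ℕ → Bool) (hpsi : ∀ r < D.nroots, (χ r = 1 ↔ psi r = true)) :
    Nat.card {g : GL D.Idx F // g ∈ D.group F ∧ g * h = h * g} =
      Nat.card (D.diagonalSubgroup F) * Fintype.card F ^ (D.posRoots.filter psi).length *
        ∑ e ∈ S, if pres e = true then
          Fintype.card F ^ (D.posRoots.filter
            (fun r => psi r && decide (D.IsNegRoot ((perm e).getD r 0)))).length else 0 := by
  have hfin := finite_GL D F
  rw [← Nat.card_congr (PhiKEquiv D hD F S perm dep e0 hT h hh χ hχ hm pres hpres), Nat.card_sigma]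
  have hterm : ∀ e : ↥(S.filter (fun e => pres e = true)),
      Nat.card (↥(D.diagonalSubgroup F) × CU D F h D.posRoots × CU D F h (lNeg D perm e.1)) =
        Nat.card (D.diagonalSubgroup F) * Fintype.card F ^ (D.posRoots.filter psi).length *
          Fintype.card F ^ (D.posRoots.filter
            (fun r => psi r && decide (D.IsNegRoot ((perm e.1).getD r 0)))).length := by
    intro e
    have he := mem_S_of_par S pres e
    rw [Nat.card_prod, Nat.card_prod,
      card_cent_closed D hD F h χ hχ hm D.posRoots (closedL_posRoots D hD) psi hpsi,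
      card_cent_closed D hD F h χ hχ hm (lNeg D perm e.1)
        (closedL_of_actsAs D hD F _ (repN_mem D hD F S perm dep e0 hT e.1 he) _
          (repN_acts D hD F S perm dep e0 hT e.1 he)) psi hpsi, mul_assoc]
    congr 3
    unfold lNeg
    rw [List.filter_filter]
  rw [Finset.sum_congr rfl (fun e _ => hterm e), ← Finset.mul_sum,
    Finset.sum_coe_sort (S.filter (fun e => pres e = true)) (fun e => Fintype.card F ^ (D.posRoots.filter
      (fun r => psi r && decide (D.IsNegRoot ((perm e).getD r 0)))).length), Finset.sum_filter]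

include hD hT in
/-- the same for the centraliser in the group `D.group F` -/
theorem card_centralizer_diag [Fintype F] (psi : ℕ → Bool) (hpsi : ∀ r < D.nroots, (χ r = 1 ↔ psi r = true))
    (hG : h ∈ D.group F) :
    Nat.card (Subgroup.centralizer ({(⟨h, hG⟩ : ↥(D.group F))} : Set ↥(D.group F))) =
      Nat.card (D.diagonalSubgroup F) * Fintype.card F ^ (D.posRoots.filter psi).length *
        ∑ e ∈ S, if pres e = true then
          Fintype.card F ^ (D.posRoots.filter
            (fun r => psi r && decide (D.IsNegRoot ((perm e).getD r 0)))).length else 0 := by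
  rw [← card_cent_diag D hD F S perm dep e0 hT h hh χ hχ hm pres hpres psi hpsi]
  apply Nat.card_congr
  refine ⟨fun g => ⟨g.1.1, g.1.2, ?_⟩, fun g => ⟨⟨g.1, g.2.1⟩, ?_⟩, fun g => rfl, fun g => rfl⟩
  · have := Subgroup.mem_centralizer_iff.mp g.2 ⟨h, hG⟩ rfl
    exact (congrArg Subtype.val this).symm
  · rw [Subgroup.mem_centralizer_iff]
    intro x hx
    rw [Set.mem_singleton_iff.mp hx]
    exact Subtype.ext g.2.2.symm

end

end Cfsg.Agent.Lib.Helper11.SemiCent
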