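import Cfsg.Agent.Lib.Helper11.SemiCentK

/-!
helper11: the order of the centraliser of `h ∈ H` from an enumeration of `C_N(h)/H` only (`CentEnum`): a finite set of
permutations of the roots, each realised by an element of `N` commuting with `h`, pairwise different, and exhausting
`C_N(h)`:  `|C_G(h)| = |H| · q^{|Ψ⁺|} · Σ_e q^{#{r ∈ Ψ⁺ : (perm e)(r) < 0}}` (`card_cent_of_centEnum`).
-/

set_option autoImplicit false

namespace Cfsg.Agent.Lib.Helper11.SemiCent

open Cfsg Cfsg.Lie Matrix Cfsg.Agent.Lib.Helper7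
open Cfsg.Agent.Lib.Helper3.BN

/-- an enumeration of `C_N(h)/H` by permutations of the roots -/
structure CentEnum (D : ChevalleyDatum) (hD : D ∈ [chevG2, chevB2, chevD4, chevF4, chevE6, chevE7, chevE8])
    (F : Type*) [Field F] (h : GL D.Idx F) {I : Type} (S : Finset I) (perm : I → List ℕ) : Prop where
  real : ∀ e ∈ S, ∃ n : GL D.Idx F, n ∈ D.monomialSubgroup F ∧ n * h = h * n ∧
    ActsAs D hD F n (fun s => (perm e).getD s 0)
  compl : ∀ n : GL D.Idx F, n ∈ D.monomialSubgroup F → n * h = h * n →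
    ∃ e ∈ S, ∃ f : ℕ → ℕ, ActsAs D hD F n f ∧ ∀ s < D.nroots, (perm e).getD s 0 = f s
  inj : ∀ e ∈ S, ∀ e' ∈ S, (∀ s < D.nroots, (perm e).getD s 0 = (perm e').getD s 0) → e = e'

section
variable (D : ChevalleyDatum) (hD : D ∈ [chevG2, chevB2, chevD4, chevF4, chevE6, chevE7, chevE8])
variable (F : Type*) [Field F] {I : Type} (S : Finset I) (perm : I → List ℕ)
variable (h : GL D.Idx F) (hE : CentEnum D hD F h S perm)

/-- a representative in `C_N(h)` of a member of the enumeration -/
noncomputable def repC (e : I) (he : e ∈ S) : GL D.Idx F := Classical.choose (hE.real e he)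

theorem repC_mem (e : I) (he : e ∈ S) : repC D hD F S perm h hE e he ∈ D.monomialSubgroup F :=
  (Classical.choose_spec (hE.real e he)).1

theorem repC_comm (e : I) (he : e ∈ S) : repC D hD F S perm h hE e he * h = h * repC D hD F S perm h hE e he :=
  (Classical.choose_spec (hE.real e he)).2.1

theorem repC_acts (e : I) (he : e ∈ S) :
    ActsAs D hD F (repC D hD F S perm h hE e he) (fun s => (perm e).getD s 0) :=
  (Classical.choose_spec (hE.real e he)).2.2

/-- the parameter space -/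
abbrev ParL : Type _ :=
  Σ e : ↥S, (↥(D.diagonalSubgroup F) × CU D F h D.posRoots × CU D F h (lNeg D perm e.1))

/-- the parametrisation `(e, k, u', u) ↦ k u' n_e u` -/
noncomputable def PhiL (x : ParL D F S perm h) : GL D.Idx F :=
  (x.2.1 : GL D.Idx F) * (x.2.2.1 : GL D.Idx F) * repC D hD F S perm h hE x.1.1 x.1.2 * (x.2.2.2 : GL D.Idx F)

theorem lNeg_closureC (e : I) (he : e ∈ S) :
    uMinus D F (repC D hD F S perm h hE e he) = Subgroup.closure (gensL D F (lNeg D perm e)) :=
  uMinus_eq_closure D hD F _ _ (repC_acts D hD F S perm h hE e he)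

variable (hh : h ∈ D.diagonalSubgroup F)
include hh

theorem PhiL_mem (x : ParL D F S perm h) :
    PhiL D hD F S perm h hE x ∈ D.group F ∧ PhiL D hD F S perm h hE x * h = h * PhiL D hD F S perm h hE x := by
  obtain ⟨e, ⟨k, hk⟩, ⟨u', hu', hu'c⟩, ⟨u, hu, huc⟩⟩ := x
  have he := e.2
  have hHG : D.diagonalSubgroup F ≤ D.group F := (diagonal_le_borel D hD F).trans (borel_le_group D hD F)
  have hUG : D.posUnipotent F ≤ D.group F := (posUnipotent_le_borel D hD F).trans (borel_le_group D hD F)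
  rw [← posUnipotent_eq_closure_gensL] at hu'
  rw [← lNeg_closureC D hD F S perm h hE e.1 he] at hu
  have hu2 : u ∈ D.posUnipotent F := uMinus_le_posUnipotent D F _ hu
  have hnc := repC_comm D hD F S perm h hE e.1 he
  have hkc : k * h = h * k := diagonalSubgroup_comm D hD F _ _ hk hh
  constructor
  · exact Subgroup.mul_mem _ (Subgroup.mul_mem _ (Subgroup.mul_mem _ (hHG hk) (hUG hu'))
      (monomial_le_group D hD F (repC_mem D hD F S perm h hE e.1 he))) (hUG hu2)
  · show k * u' * repC D hD F S perm h hE e.1 he * u * h = h * (k * u' * repC D hD F S perm h hE e.1 he * u)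
    obtain ⟨n, hn⟩ : ∃ n, n = repC D hD F S perm h hE e.1 he := ⟨_, rfl⟩
    rw [← hn] at hnc ⊢
    calc k * u' * n * u * h = k * u' * n * (u * h) := by group
      _ = k * u' * (n * h) * u := by rw [huc]; group
      _ = k * (u' * h) * n * u := by rw [hnc]; group
      _ = (k * h) * u' * n * u := by rw [hu'c]; group
      _ = h * (k * u' * n * u) := by rw [hkc]; group

omit hh in
theorem PhiL_injective : Function.Injective (PhiL D hD F S perm h hE) := by
  rintro ⟨e, ⟨k, hk⟩, ⟨u', hu', hu'c⟩, ⟨u, hu, huc⟩⟩ ⟨e', ⟨k', hk'⟩, ⟨v', hv', hv'c⟩, ⟨v, hv, hvc⟩⟩ heq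
  have he := e.2
  have he' := e'.2
  have hHB := diagonal_le_borel D hD F
  have hUB := posUnipotent_le_borel D hD F
  have hu'' := hu'
  have hv'' := hv'
  rw [← posUnipotent_eq_closure_gensL] at hu'' hv''
  have hu2 := hu
  have hv2 := hv
  rw [← lNeg_closureC D hD F S perm h hE e.1 he] at hu2
  rw [← lNeg_closureC D hD F S perm h hE e'.1 he'] at hv2
  have heq' : k * u' * repC D hD F S perm h hE e.1 he * u =
      k' * v' * repC D hD F S perm h hE e'.1 he' * v := heq
  have hcu := canon_unique D hD F (k * u') (k' * v') _ _ u v (Subgroup.mul_mem _ (hHB hk) (hUB hu''))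
    (Subgroup.mul_mem _ (hHB hk') (hUB hv'')) (repC_mem D hD F S perm h hE e.1 he)
    (repC_mem D hD F S perm h hE e'.1 he') hu2 hv2 heq'
  have hee : e = e' := by
    apply Subtype.ext
    apply hE.inj e.1 he e'.1 he'
    intro s hs
    have hact := ActsAs.mul D F (repC_acts D hD F S perm h hE e.1 he) (actsAs_diag D hD F _ hcu.1)
    have e1 : repC D hD F S perm h hE e.1 he *
        ((repC D hD F S perm h hE e.1 he)⁻¹ * repC D hD F S perm h hE e'.1 he') =
        repC D hD F S perm h hE e'.1 he' := by group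
    rw [e1] at hact
    exact hact.unique D hD F (repC_acts D hD F S perm h hE e'.1 he') s hs
  subst hee
  obtain ⟨hb, huv⟩ := hcu.2 rfl
  have hmem : k'⁻¹ * k ∈ D.posUnipotent F ⊓ D.diagonalSubgroup F := by
    refine Subgroup.mem_inf.mpr ⟨?_, Subgroup.mul_mem _ (Subgroup.inv_mem _ hk') hk⟩
    have : k'⁻¹ * k = v' * u'⁻¹ := by
      have : k = k' * v' * u'⁻¹ := by rw [← hb]; group
      rw [this]; group
    rw [this]
    exact Subgroup.mul_mem _ hv'' (Subgroup.inv_mem _ hu'')
  rw [posUnipotent_inf_diagonalSubgroup D hD F, Subgroup.mem_bot] at hmem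
  have hkk : k = k' := (inv_mul_eq_one.mp hmem).symm
  subst hkk
  have huv' : u' = v' := mul_left_cancel hb
  subst huv' huv
  rfl

theorem PhiL_surjective (g : GL D.Idx F) (hgG : g ∈ D.group F) (hgc : g * h = h * g) :
    ∃ x, PhiL D hD F S perm h hE x = g := by
  obtain ⟨b, hb, n, hn, u, hu, rfl⟩ := canon_exists D hD F g hgG
  have hb' : b ∈ ((D.borelSubgroup F : Subgroup (GL D.Idx F)) : Set (GL D.Idx F)) := hb
  rw [borel_eq_mul D hD F] at hb'
  obtain ⟨h', hh', u', hu', rfl⟩ := Set.mem_mul.mp hb'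
  obtain ⟨hnc, hu'c, huc⟩ := cent_canon D hD F h hh h' hh' u' hu' n hn u hu hgc
  obtain ⟨e, he, f, hf, hpf⟩ := hE.compl n hn hnc
  obtain ⟨m, hmdef⟩ : ∃ m, m = repC D hD F S perm h hE e he := ⟨_, rfl⟩
  have hmN : m ∈ D.monomialSubgroup F := by rw [hmdef]; exact repC_mem D hD F S perm h hE e he
  have hmact : ActsAs D hD F m (fun s => (perm e).getD s 0) := by
    rw [hmdef]; exact repC_acts D hD F S perm h hE e he
  have hk2 : m⁻¹ * n ∈ D.diagonalSubgroup F :=
    inv_mul_mem_diag D hD F m n hmN hn _ f hmact hf hpf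
  have hk1 : m * (m⁻¹ * n) * m⁻¹ ∈ D.diagonalSubgroup F := by
    have := monomialSubgroup_le_normalizer_diagonal D hD F hmN
    rw [Subgroup.mem_set_normalizer_iff] at this
    exact (this _).mp hk2
  obtain ⟨k, hkdef⟩ : ∃ k, k = m * (m⁻¹ * n) * m⁻¹ := ⟨_, rfl⟩
  rw [← hkdef] at hk1
  have hnk : n = k * m := by rw [hkdef]; group
  rw [hnk, uMinus_diag_mul D hD F k hk1, hmdef, lNeg_closureC D hD F S perm h hE e he] at hu
  have hNU := diagonalSubgroup_le_normalizer_posUnipotent D hD F
  have hku : k⁻¹ * u' * k⁻¹⁻¹ ∈ D.posUnipotent F := by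
    have := hNU (Subgroup.inv_mem _ hk1)
    rw [Subgroup.mem_set_normalizer_iff] at this
    exact (this u').mp hu'
  have hkc : k * h = h * k := diagonalSubgroup_comm D hD F _ _ hk1 hh
  have hkic : k⁻¹ * h = h * k⁻¹ := diagonalSubgroup_comm D hD F _ _ (Subgroup.inv_mem _ hk1) hh
  have hkuc : k⁻¹ * u' * k⁻¹⁻¹ * h = h * (k⁻¹ * u' * k⁻¹⁻¹) := by
    rw [inv_inv]
    calc k⁻¹ * u' * k * h = k⁻¹ * u' * (k * h) := by group
      _ = k⁻¹ * (u' * h) * k := by rw [hkc]; group
      _ = (k⁻¹ * h) * u' * k := by rw [hu'c]; group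
      _ = h * (k⁻¹ * u' * k) := by rw [hkic]; group
  rw [posUnipotent_eq_closure_gensL] at hku
  refine ⟨⟨⟨e, he⟩, ⟨h' * k, Subgroup.mul_mem _ hh' hk1⟩, ⟨k⁻¹ * u' * k⁻¹⁻¹, hku, hkuc⟩, ⟨u, hu, huc⟩⟩, ?_⟩
  show h' * k * (k⁻¹ * u' * k⁻¹⁻¹) * repC D hD F S perm h hE e he * u = h' * u' * n * u
  rw [hnk, ← hmdef]
  group

/-- the parametrisation as an equivalence -/
noncomputable def PhiLEquiv : ParL D F S perm h ≃ CG D F h :=
  Equiv.ofBijective (fun x => ⟨PhiL D hD F S perm h hE x, PhiL_mem D hD F S perm h hE hh x⟩)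
    ⟨fun a a' he => PhiL_injective D hD F S perm h hE (congrArg Subtype.val he),
     fun g => by
      obtain ⟨a, ha⟩ := PhiL_surjective D hD F S perm h hE hh g.1 g.2.1 g.2.2
      exact ⟨a, Subtype.ext ha⟩⟩

variable (χ : ℕ → F) (hχ : ChainChar D F χ) (hm : (h : Matrix D.Idx D.Idx F) = diagChar D F χ)
include hχ hm hE

/-- `|C_G(h)| = |H| · q^{|Ψ⁺|} · Σ_e q^{#{r ∈ Ψ⁺ : (perm e)(r) < 0}}` over an enumeration of `C_N(h)/H` -/
theorem card_cent_of_centEnum [Fintype F] (psi : ℕ → Bool) (hpsi : ∀ r < D.nroots, (χ r = 1 ↔ psi r = true)) :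
    Nat.card {g : GL D.Idx F // g ∈ D.group F ∧ g * h = h * g} =
      Nat.card (D.diagonalSubgroup F) * Fintype.card F ^ (D.posRoots.filter psi).length *
        ∑ e ∈ S, Fintype.card F ^ (D.posRoots.filter
            (fun r => psi r && decide (D.IsNegRoot ((perm e).getD r 0)))).length := by
  have hfin := finite_GL D F
  rw [← Nat.card_congr (PhiLEquiv D hD F S perm h hE hh), Nat.card_sigma]
  have hterm : ∀ e : ↥S,
      Nat.card (↥(D.diagonalSubgroup F) × CU D F h D.posRoots × CU D F h (lNeg D perm e.1)) =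
        Nat.card (D.diagonalSubgroup F) * Fintype.card F ^ (D.posRoots.filter psi).length *
          Fintype.card F ^ (D.posRoots.filter
            (fun r => psi r && decide (D.IsNegRoot ((perm e.1).getD r 0)))).length := by
    intro e
    have he := e.2
    rw [Nat.card_prod, Nat.card_prod,
      card_cent_closed D hD F h χ hχ hm D.posRoots (closedL_posRoots D hD) psi hpsi,
      card_cent_closed D hD F h χ hχ hm (lNeg D perm e.1)
        (closedL_of_actsAs D hD F _ (repC_mem D hD F S perm h hE e.1 he) _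
          (repC_acts D hD F S perm h hE e.1 he)) psi hpsi, mul_assoc]
    congr 3
    unfold lNeg
    rw [List.filter_filter]
  rw [Finset.sum_congr rfl (fun e _ => hterm e), ← Finset.mul_sum,
    Finset.sum_coe_sort S (fun e => Fintype.card F ^ (D.posRoots.filter
      (fun r => psi r && decide (D.IsNegRoot ((perm e).getD r 0)))).length)]

/-- the same for the centraliser in the group `D.group F` -/
theorem card_centralizer_of_centEnum [Fintype F] (psi : ℕ → Bool)
    (hpsi : ∀ r < D.nroots, (χ r = 1 ↔ psi r = true)) (hG : h ∈ D.group F) :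
    Nat.card (Subgroup.centralizer ({(⟨h, hG⟩ : ↥(D.group F))} : Set ↥(D.group F))) =
      Nat.card (D.diagonalSubgroup F) * Fintype.card F ^ (D.posRoots.filter psi).length *
        ∑ e ∈ S, Fintype.card F ^ (D.posRoots.filter
            (fun r => psi r && decide (D.IsNegRoot ((perm e).getD r 0)))).length := by
  rw [← card_cent_of_centEnum D hD F S perm h hE hh χ hχ hm psi hpsi]
  apply Nat.card_congr
  refine ⟨fun g => ⟨g.1.1, g.1.2, ?_⟩, fun g => ⟨⟨g.1, g.2.1⟩, ?_⟩, fun g => rfl, fun g => rfl⟩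
  · have := Subgroup.mem_centralizer_iff.mp g.2 ⟨h, hG⟩ rfl
    exact (congrArg Subtype.val this).symm
  · rw [Subgroup.mem_centralizer_iff]
    intro x hx
    rw [Set.mem_singleton_iff.mp hx]
    exact Subtype.ext g.2.2.symm

end

end Cfsg.Agent.Lib.Helper11.SemiCent
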