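import Cfsg.Agent.Lib.Helper11.SemiCentL

/-!
helper11: completeness of an enumeration of `C_N(h)/H` by counting.  Given an enumeration `S` of the whole Weyl group
(helper7's `WeylEnum`), a family `S'` of pairwise different permutations realised by elements of `C_N(h)`, and `m`
words `K_j` in the fundamental reflections such that the characters `χ ∘ w_{K_j}` are pairwise different on the
fundamental roots, with `m · |S'| = |S|`: then `S'` exhausts `C_N(h)/H` (`centEnum_of_count`).
-/

set_option autoImplicit false

namespace Cfsg.Agent.Lib.Helper11.SemiCent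

open Cfsg Cfsg.Lie Matrix Cfsg.Agent.Lib.Helper7
open Cfsg.Agent.Lib.Helper3.BN

section
variable (D : ChevalleyDatum) (hD : D ∈ [chevG2, chevB2, chevD4, chevF4, chevE6, chevE7, chevE8])
variable (F : Type*) [Field F]
include hD

omit hD in
theorem ActsAs.congr {hD : D ∈ [chevG2, chevB2, chevD4, chevF4, chevE6, chevE7, chevE8]}
    {n : GL D.Idx F} {f g : ℕ → ℕ} (hf : ActsAs D hD F n f)
    (h : ∀ s < D.nroots, f s = g s) : ActsAs D hD F n g := by
  intro s hs
  rw [← h s hs]
  exact hf s hs

theorem actsAs_one : ActsAs D hD F 1 id := by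
  intro s hs
  exact ⟨hs, 1, one_ne_zero, fun t => by simp⟩

/-- the inverse of `n_L` acts as the reversed word -/
theorem actsAs_mW_inv (L : List ℕ) (hL : ∀ i ∈ L, i < D.rank) :
    ActsAs D hD F (mW D hD F L)⁻¹ (reflWord D L.reverse) := by
  induction L with
  | nil =>
    unfold mW
    rw [List.map_nil, List.prod_nil, inv_one]
    exact actsAs_one D hD F
  | cons i L ih =>
    have hi : i < D.rank := hL i List.mem_cons_self
    have ih' := ih (fun j hj => hL j (List.mem_cons_of_mem _ hj))
    have h1 := ActsAs.mul D F ih' (actsAs_nFund_inv D hD F i hi)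
    have e : (mW D hD F (i :: L))⁻¹ = (mW D hD F L)⁻¹ * (nFund D hD F i)⁻¹ := by
      unfold mW
      rw [List.map_cons, List.prod_cons, _root_.mul_inv_rev]
    rw [e, List.reverse_cons, reflWord_append]
    exact h1

omit F in
/-- the reversed word undoes the word -/
theorem reflWord_reverse_cancel (L : List ℕ) (hL : ∀ i ∈ L, i < D.rank) (s : ℕ) (hs : s < D.nroots) :
    reflWord D L.reverse (reflWord D L s) = s := by
  induction L with
  | nil => rfl
  | cons i L ih =>
    have hi : i < D.rank := hL i List.mem_cons_self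
    have hL' : ∀ j ∈ L, j < D.rank := fun j hj => hL j (List.mem_cons_of_mem _ hj)
    have hC := conjFacts_of_mem D hD i hi
    rw [List.reverse_cons, reflWord_append]
    show reflWord D L.reverse (D.reflectRoot i (D.reflectRoot i (reflWord D L s))) = s
    rw [hC.winv _ (reflWord_lt D hD L hL' s hs)]
    exact ih hL'

end

section
variable (D : ChevalleyDatum) (hD : D ∈ [chevG2, chevB2, chevD4, chevF4, chevE6, chevE7, chevE8])
variable (F : Type*) [Field F] [Fintype F] {I : Type} (S : Finset I) (perm : I → List ℕ) (dep : I → ℕ) (e0 : I)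
variable (hT : WeylEnum D S perm dep e0)
include hD hT

/-- `|N| ≤ |H| · |W|` -/
theorem card_monomial_le :
    Nat.card (D.monomialSubgroup F) ≤ Nat.card (D.diagonalSubgroup F) * S.card := by
  have hfin := finite_GL D F
  classical
  have hex : ∀ n : ↥(D.monomialSubgroup F), ∃ e : ↥S, ∃ f : ℕ → ℕ, ActsAs D hD F (n : GL D.Idx F) f ∧
      ∀ s < D.nroots, (perm e.1).getD s 0 = f s := by
    intro n
    obtain ⟨e, he, f, hf, hpf⟩ := exists_idx D hD F S perm dep e0 hT n.1 n.2
    exact ⟨⟨e, he⟩, f, hf, hpf⟩
  let idx : ↥(D.monomialSubgroup F) → ↥S := fun n => Classical.choose (hex n)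
  have hidx : ∀ n : ↥(D.monomialSubgroup F), ∃ f : ℕ → ℕ, ActsAs D hD F (n : GL D.Idx F) f ∧
      ∀ s < D.nroots, (perm (idx n).1).getD s 0 = f s := fun n => Classical.choose_spec (hex n)
  have hk : ∀ n : ↥(D.monomialSubgroup F),
      (repN D hD F S perm dep e0 hT (idx n).1 (idx n).2)⁻¹ * (n : GL D.Idx F) ∈ D.diagonalSubgroup F := by
    intro n
    obtain ⟨f, hf, hpf⟩ := hidx n
    exact inv_mul_mem_diag D hD F _ _ (repN_mem D hD F S perm dep e0 hT _ _) n.2 _ f
      (repN_acts D hD F S perm dep e0 hT _ _) hf hpf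
  let φ : ↥(D.monomialSubgroup F) → ↥(D.diagonalSubgroup F) × ↥S := fun n => (⟨_, hk n⟩, idx n)
  have hinj : Function.Injective φ := by
    intro n n' he
    have h1 : idx n = idx n' := congrArg Prod.snd he
    have h2 : (repN D hD F S perm dep e0 hT (idx n).1 (idx n).2)⁻¹ * (n : GL D.Idx F) =
        (repN D hD F S perm dep e0 hT (idx n').1 (idx n').2)⁻¹ * (n' : GL D.Idx F) :=
      congrArg (fun p => (p.1 : GL D.Idx F)) he
    rw [← h1] at h2
    exact Subtype.ext (mul_left_cancel h2)
  have := Nat.card_le_card_of_injective φ hinj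
  rwa [Nat.card_prod, Nat.card_eq_fintype_card (α := ↥S), Fintype.card_coe] at this

variable (h : GL D.Idx F) (hh : h ∈ D.diagonalSubgroup F) (χ : ℕ → F) (hχ : ChainChar D F χ)
  (hm : (h : Matrix D.Idx D.Idx F) = diagChar D F χ)
  (psi : ℕ → Bool) (hpsi : ∀ r < D.nroots, (χ r = 1 ↔ psi r = true))
variable {I' : Type} (S' : Finset I') (perm' : I' → List ℕ)
  (hreal : ∀ e ∈ S', ∃ n : GL D.Idx F, n ∈ D.monomialSubgroup F ∧ n * h = h * n ∧
    ActsAs D hD F n (fun s => (perm' e).getD s 0))
  (hinj : ∀ e ∈ S', ∀ e' ∈ S', (∀ s < D.nroots, (perm' e).getD s 0 = (perm' e').getD s 0) → e = e')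
  (orbWords : List (List ℕ)) (horbLt : ∀ L ∈ orbWords, ∀ i ∈ L, i < D.rank)
  (horbNodup : (orbWords.map (fun L => (List.range D.rank).map
    (fun j => psi (reflWord D L (D.simple j))))).Nodup)
  (hcount : orbWords.length * S'.card = S.card)
include hh hχ hm hpsi hreal hinj horbLt horbNodup hcount

/-- completeness of an enumeration of `C_N(h)/H` by counting -/
theorem centEnum_of_count : CentEnum D hD F h S' perm' := by
  have hfin := finite_GL D F
  classical
  refine ⟨hreal, ?_, hinj⟩
  -- representatives
  let rep : ↥S' → GL D.Idx F := fun e => Classical.choose (hreal e.1 e.2)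
  have hrepN : ∀ e : ↥S', rep e ∈ D.monomialSubgroup F := fun e => (Classical.choose_spec (hreal e.1 e.2)).1
  have hrepC : ∀ e : ↥S', rep e * h = h * rep e := fun e => (Classical.choose_spec (hreal e.1 e.2)).2.1
  have hrepA : ∀ e : ↥S', ActsAs D hD F (rep e) (fun s => (perm' e.1).getD s 0) :=
    fun e => (Classical.choose_spec (hreal e.1 e.2)).2.2
  have hHN : D.diagonalSubgroup F ≤ D.monomialSubgroup F := by
    unfold ChevalleyDatum.monomialSubgroup
    exact le_sup_left
  -- the injection `H × S' → C_N(h)`
  let CN : Type _ := {n : GL D.Idx F // n ∈ D.monomialSubgroup F ∧ n * h = h * n}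
  let ι : ↥(D.diagonalSubgroup F) × ↥S' → CN := fun p =>
    ⟨(p.1 : GL D.Idx F) * rep p.2, Subgroup.mul_mem _ (hHN p.1.2) (hrepN p.2), by
      have hkc : (p.1 : GL D.Idx F) * h = h * (p.1 : GL D.Idx F) := diagonalSubgroup_comm D hD F _ _ p.1.2 hh
      calc (p.1 : GL D.Idx F) * rep p.2 * h = (p.1 : GL D.Idx F) * (rep p.2 * h) := by group
        _ = ((p.1 : GL D.Idx F) * h) * rep p.2 := by rw [hrepC]; group
        _ = h * ((p.1 : GL D.Idx F) * rep p.2) := by rw [hkc]; group⟩
  have hι : Function.Injective ι := by
    rintro ⟨k, e⟩ ⟨k', e'⟩ heq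
    have h1 : (k : GL D.Idx F) * rep e = (k' : GL D.Idx F) * rep e' := congrArg Subtype.val heq
    have hee : e = e' := by
      apply Subtype.ext
      apply hinj e.1 e.2 e'.1 e'.2
      intro s hs
      have hk'' : (k' : GL D.Idx F)⁻¹ * (k : GL D.Idx F) ∈ D.diagonalSubgroup F :=
        Subgroup.mul_mem _ (Subgroup.inv_mem _ k'.2) k.2
      have hact := ActsAs.mul D F (actsAs_diag D hD F _ hk'') (hrepA e)
      have e1 : (k' : GL D.Idx F)⁻¹ * (k : GL D.Idx F) * rep e = rep e' := by
        have : (k' : GL D.Idx F)⁻¹ * (k : GL D.Idx F) * rep e = (k' : GL D.Idx F)⁻¹ * ((k : GL D.Idx F) * rep e) := by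
          group
        rw [this, h1]; group
      rw [e1] at hact
      exact hact.unique D hD F (hrepA e') s hs
    subst hee
    have : k = k' := Subtype.ext (mul_right_cancel h1)
    rw [this]
  have hc2 : Nat.card (D.diagonalSubgroup F) * S'.card ≤ Nat.card CN := by
    have := Nat.card_le_card_of_injective ι hι
    rwa [Nat.card_prod, Nat.card_eq_fintype_card (α := ↥S'), Fintype.card_coe] at this
  -- the injection `Fin m × C_N(h) → N`
  have hKN : ∀ j : Fin orbWords.length, (mW D hD F (orbWords.get j))⁻¹ ∈ D.monomialSubgroup F := fun j =>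
    Subgroup.inv_mem _ (mW_mem D hD F _ (horbLt _ (List.get_mem _ _)))
  let κ : Fin orbWords.length × CN → ↥(D.monomialSubgroup F) := fun p =>
    ⟨(mW D hD F (orbWords.get p.1))⁻¹ * p.2.1, Subgroup.mul_mem _ (hKN p.1) p.2.2.1⟩
  have hκ : Function.Injective κ := by
    rintro ⟨j, c⟩ ⟨l, c'⟩ heq
    have h1 : (mW D hD F (orbWords.get j))⁻¹ * c.1 = (mW D hD F (orbWords.get l))⁻¹ * c'.1 :=
      congrArg Subtype.val heq
    have hjl : j = l := by
      -- `g = n_l n_j⁻¹` commutes with `h`
      obtain ⟨g, hg⟩ : ∃ g, g = mW D hD F (orbWords.get l) * (mW D hD F (orbWords.get j))⁻¹ := ⟨_, rfl⟩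
      have hgc : g = c'.1 * c.1⁻¹ := by
        have : c'.1 = mW D hD F (orbWords.get l) * ((mW D hD F (orbWords.get j))⁻¹ * c.1) := by
          rw [h1]; group
        rw [this, hg]; group
      have hcomm : g * h = h * g := by
        have hc := c.2.2
        have hc' := c'.2.2
        have hci : c.1⁻¹ * h = h * c.1⁻¹ := by
          have : c.1⁻¹ * h = c.1⁻¹ * (h * c.1) * c.1⁻¹ := by group
          rw [this, ← hc]; group
        rw [hgc]
        calc c'.1 * c.1⁻¹ * h = c'.1 * (c.1⁻¹ * h) := by group
          _ = (c'.1 * h) * c.1⁻¹ := by rw [hci]; group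
          _ = h * (c'.1 * c.1⁻¹) := by rw [hc']; group
      have hLj := horbLt _ (List.get_mem orbWords j)
      have hLl := horbLt _ (List.get_mem orbWords l)
      have hact : ActsAs D hD F g (reflWord D (orbWords.get l) ∘ reflWord D (orbWords.get j).reverse) := by
        rw [hg]
        exact ActsAs.mul D F (actsAs_mW D hD F _ hLl) (actsAs_mW_inv D hD F _ hLj)
      have hpres := pres_of_comm D hD F g _ hact h χ hχ hm hcomm
      -- the characters agree on the fundamental roots
      have hvec : (List.range D.rank).map (fun a => psi (reflWord D (orbWords.get j) (D.simple a))) =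
          (List.range D.rank).map (fun a => psi (reflWord D (orbWords.get l) (D.simple a))) := by
        apply List.map_congr_left
        intro a ha
        have ha' := List.mem_range.mp ha
        have hF := fundFacts_of_mem D hD a ha'
        have hlt := reflWord_lt D hD _ hLj (D.simple a) hF.hp
        have h2 := hpres _ hlt
        simp only [Function.comp] at h2
        rw [reflWord_reverse_cancel D hD _ hLj _ hF.hp] at h2
        have hlt' := reflWord_lt D hD _ hLl (D.simple a) hF.hp
        have : (psi (reflWord D (orbWords.get j) (D.simple a)) = true ↔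
            psi (reflWord D (orbWords.get l) (D.simple a)) = true) := by
          rw [← hpsi _ hlt, ← hpsi _ hlt', h2]
        exact Bool.eq_iff_iff.mpr this
      have hnd := horbNodup
      rw [List.nodup_iff_injective_get] at hnd
      have hlen : (orbWords.map (fun L => (List.range D.rank).map
          (fun a => psi (reflWord D L (D.simple a))))).length = orbWords.length := List.length_map _
      have := @hnd (Fin.cast hlen.symm j) (Fin.cast hlen.symm l) (by
        simp only [List.get_eq_getElem, List.getElem_map, Fin.val_cast]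
        exact hvec)
      exact Fin.ext (by simpa using congrArg Fin.val this)
    subst hjl
    have : c = c' := Subtype.ext (mul_left_cancel h1)
    rw [this]
  have hc3 : orbWords.length * Nat.card CN ≤ Nat.card (D.monomialSubgroup F) := by
    have := Nat.card_le_card_of_injective κ hκ
    rwa [Nat.card_prod, Nat.card_eq_fintype_card (α := Fin orbWords.length), Fintype.card_fin] at this
  have hc1 := card_monomial_le D hD F S perm dep e0 hT
  -- `|C_N(h)| ≤ |H| · |S'|`
  have hmpos : 0 < orbWords.length := by
    rcases Nat.eq_zero_or_pos orbWords.length with h0 | h0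
    · rw [h0, zero_mul] at hcount
      have : e0 ∈ S := hT.idMem
      rw [Finset.card_eq_zero.mp hcount.symm] at this
      simp at this
    · exact h0
  have hc4 : Nat.card CN ≤ Nat.card (D.diagonalSubgroup F) * S'.card := by
    have h5 : orbWords.length * Nat.card CN ≤ orbWords.length * (Nat.card (D.diagonalSubgroup F) * S'.card) := by
      calc orbWords.length * Nat.card CN ≤ Nat.card (D.monomialSubgroup F) := hc3
        _ ≤ Nat.card (D.diagonalSubgroup F) * S.card := hc1
        _ = orbWords.length * (Nat.card (D.diagonalSubgroup F) * S'.card) := by rw [← hcount]; ring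
    exact Nat.le_of_mul_le_mul_left h5 hmpos
  have hfinCN : Finite CN := inferInstance
  have hbij : Function.Bijective ι := by
    apply Function.Injective.bijective_of_nat_card_le hι
    rw [Nat.card_prod, Nat.card_eq_fintype_card (α := ↥S'), Fintype.card_coe]
    exact hc4
  -- completeness
  intro n hn hnc
  obtain ⟨⟨k, e⟩, hke⟩ := hbij.2 ⟨n, hn, hnc⟩
  have hne : (k : GL D.Idx F) * rep e = n := congrArg Subtype.val hke
  refine ⟨e.1, e.2, _, ?_, fun s _ => rfl⟩
  have hact := ActsAs.mul D F (actsAs_diag D hD F _ k.2) (hrepA e)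
  rw [hne] at hact
  exact hact

end

end Cfsg.Agent.Lib.Helper11.SemiCent
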