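import Cfsg.Agent.Lib.Helper11.SemiCentM
import Cfsg.Agent.Lib.Helper11.ChainInv

/-!
helper11: the order of the centraliser of an involution-like element `h ∈ H` (character with values `±1`) of a finite
Chevalley group from a verified chain of coset representatives (helper7's `ChainLevel` formalism) for the stabiliser
of its character in the Weyl group: `|C_G(h)| = |H| · q^{|Ψ⁺|} · chainPoly q levels` (`card_centralizer_of_chain`).
-/

set_option autoImplicit false

namespace Cfsg.Agent.Lib.Helper11.SemiCent

open Cfsg Cfsg.Lie Matrix Cfsg.Agent.Lib.Helper7 Cfsg.Agent.Lib.Helper11.ChainInv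
open Cfsg.Agent.Lib.Helper3.BN

section
variable (D : ChevalleyDatum) (hD : D ∈ [chevG2, chevB2, chevD4, chevF4, chevE6, chevE7, chevE8])
variable (F : Type*) [Field F] [Fintype F] {I : Type} (S : Finset I) (perm : I → List ℕ) (dep : I → ℕ) (e0 : I)
variable (hT : WeylEnum D S perm dep e0)
variable (h : GL D.Idx F) (hh : h ∈ D.diagonalSubgroup F) (χ : ℕ → F) (hχ : ChainChar D F χ)
  (hm : (h : Matrix D.Idx D.Idx F) = diagChar D F χ)
  (psi : ℕ → Bool) (hpsi : ∀ r < D.nroots, (χ r = 1 ↔ psi r = true))
  (hval : ∀ r < D.nroots, psi r = false → χ r = -1)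
  (negB : ℕ → Bool) (hneg : ∀ r < D.nroots, negB r = decide (D.IsNegRoot r))
  (refls : List (List ℕ)) (words : List (List ℕ)) (levels : List ChainLevel)
  (QMs : List (List ℕ × List ℕ)) (orbWords : List (List ℕ))
  (hwLt : ∀ L ∈ words, ∀ i ∈ L, i < D.rank)
  (hgw : ∀ i ∈ headGens levels, i < words.length)
  (hrefl : ∀ i ∈ headGens levels, refls.getD i [] = (List.range D.nroots).map (reflWord D (words.getD i [])))
  (hrpsi : ∀ i ∈ headGens levels, ∀ s < D.nroots, psi ((refls.getD i []).getD s 0) = psi s)
  (hginv : ∀ i ∈ headGens levels, comp (refls.getD i []) (refls.getD i []) = List.range D.nroots)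
  (hch : chainOKB D.nroots refls levels = true)
  (hinv : invOKB D.nroots refls negB levels QMs = true)
  (hperm : (D.posRoots.filter psi).Perm (posOf QMs))
  (horbLt : ∀ L ∈ orbWords, ∀ i ∈ L, i < D.rank)
  (horbNodup : (orbWords.map (fun L => (List.range D.rank).map
    (fun j => psi (reflWord D L (D.simple j))))).Nodup)
  (hcount : orbWords.length * (nfFin levels).card = S.card)
include hD hT hh hχ hm hpsi hval hneg hwLt hgw hrefl hrpsi hginv hch hinv hperm horbLt horbNodup hcount

omit hT hneg hinv hperm horbLt horbNodup hcount [Fintype F] in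
/-- the normal forms of the chain are realised by elements of `C_N(h)` -/
theorem chain_real (es : List ℕ) (hes : IsNF levels es) :
    ∃ n : GL D.Idx F, n ∈ D.monomialSubgroup F ∧ n * h = h * n ∧
      ActsAs D hD F n (fun s => (nfPerm D.nroots levels es).getD s 0) := by
  -- `χ` is determined by `psi`
  have hχpsi : ∀ x < D.nroots, ∀ y < D.nroots, psi x = psi y → χ x = χ y := by
    intro x hx y hy hxy
    cases hp : psi y
    · rw [hp] at hxy
      rw [hval x hx hxy, hval y hy hp]
    · rw [hp] at hxy
      rw [(hpsi x hx).mpr hxy, (hpsi y hy).mpr hp]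
  apply chain_induction D.nroots refls levels hch hginv
    (fun p => ∃ n : GL D.Idx F, n ∈ D.monomialSubgroup F ∧ n * h = h * n ∧
      ActsAs D hD F n (fun s => p.getD s 0)) ?_ ?_ es hes
  · refine ⟨1, Subgroup.one_mem _, by rw [one_mul, mul_one], ?_⟩
    apply ActsAs.congr D F (actsAs_one D hD F)
    intro s hs
    exact (getD_range D.nroots s hs).symm
  · rintro i hi p hp ⟨n, hn, hnc, hna⟩
    have hw : words.getD i [] ∈ words := by
      rw [List.getD_eq_getElem _ _ (hgw i hi)]; exact List.getElem_mem _
    have hwl := hwLt _ hw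
    have hgN := mW_mem D hD F _ hwl
    have hgA := actsAs_mW D hD F _ hwl
    have hrget : ∀ t < D.nroots, (refls.getD i []).getD t 0 = reflWord D (words.getD i []) t := by
      intro t ht
      rw [hrefl i hi]
      simp [List.getD_eq_getElem?_getD, ht]
    have hgc : mW D hD F (words.getD i []) * h = h * mW D hD F (words.getD i []) := by
      apply comm_of_actsAs' D hD F h hh χ hχ hm _ hgN _ hgA
      intro s hs
      apply hχpsi _ (reflWord_lt D hD _ hwl s hs) s hs
      rw [← hrget s hs]
      exact hrpsi i hi s hs
    refine ⟨mW D hD F (words.getD i []) * n, Subgroup.mul_mem _ hgN hn, ?_, ?_⟩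
    · calc mW D hD F (words.getD i []) * n * h = mW D hD F (words.getD i []) * (n * h) := by group
        _ = (mW D hD F (words.getD i []) * h) * n := by rw [hnc]; group
        _ = h * (mW D hD F (words.getD i []) * n) := by rw [hgc]; group
    · apply ActsAs.congr D F (Cfsg.Agent.Lib.Helper7.ActsAs.mul D F hgA hna)
      intro s hs
      show reflWord D (words.getD i []) (p.getD s 0) = (comp (refls.getD i []) p).getD s 0
      rw [getD_comp _ _ s (by rw [hp.1]; exact hs)]
      have hlt : p.getD s 0 < D.nroots := by
        apply hp.2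
        rw [List.getD_eq_getElem _ _ (by rw [hp.1]; exact hs)]
        exact List.getElem_mem _
      rw [hrget _ hlt]

omit hT hh hχ hm hpsi hval hneg hwLt hgw hrefl hrpsi hginv hinv hperm horbLt horbNodup hcount [Fintype F] hD in
/-- the permutation of a normal form determines it -/
theorem chain_inj' (es es' : List ℕ) (hes : IsNF levels es) (hes' : IsNF levels es')
    (hag : ∀ s < D.nroots, (nfPerm D.nroots levels es).getD s 0 = (nfPerm D.nroots levels es').getD s 0) :
    es = es' := by
  have hv := chain_valid D.nroots refls levels hch es hes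
  have hv' := chain_valid D.nroots refls levels hch es' hes'
  apply chain_inj D.nroots refls levels hch es es' hes hes'
  apply List.ext_getElem
  · rw [hv.1, hv'.1]
  · intro i h1 h2
    have := hag i (by rw [← hv.1]; exact h1)
    simpa [List.getD_eq_getElem?_getD, h1, h2] using this

omit hT hh hχ hm hpsi hval hwLt hgw hrefl hrpsi hginv horbLt horbNodup hcount [Fintype F] hD in
/-- the number of positive roots of `Ψ` made negative by a normal form is its length -/
theorem chain_cnt' (es : List ℕ) (hes : IsNF levels es) :
    (D.posRoots.filter (fun r => psi r &&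
      decide (D.IsNegRoot ((nfPerm D.nroots levels es).getD r 0)))).length = nfDep levels es := by
  have hv := chain_valid D.nroots refls levels hch es hes
  rw [← chain_cnt D.nroots refls negB levels QMs hch hinv es hes, ← cnt_perm negB _ _ _ hperm]
  unfold cnt
  rw [List.filter_filter]
  congr 1
  apply List.filter_congr
  intro r hr
  have hr' := ((mem_posRoots D r).mp hr).1
  have hlt : (nfPerm D.nroots levels es).getD r 0 < D.nroots := by
    apply hv.2
    rw [List.getD_eq_getElem _ _ (by rw [hv.1]; exact hr')]
    exact List.getElem_mem _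
  rw [hneg _ hlt, Bool.and_comm]

/-- `|C_G(h)| = |H| · q^{|Ψ⁺|} · (Poincaré polynomial of the chain)` -/
theorem card_centralizer_of_chain (hG : h ∈ D.group F) :
    Nat.card (Subgroup.centralizer ({(⟨h, hG⟩ : ↥(D.group F))} : Set ↥(D.group F))) =
      Nat.card (D.diagonalSubgroup F) * Fintype.card F ^ (D.posRoots.filter psi).length *
        chainPoly (Fintype.card F) levels := by
  have hE : CentEnum D hD F h (nfFin levels) (nfPerm D.nroots levels) := by
    apply centEnum_of_count D hD F S perm dep e0 hT h hh χ hχ hm psi hpsi (nfFin levels)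
      (nfPerm D.nroots levels) ?_ ?_ orbWords horbLt horbNodup hcount
    · intro es hes
      exact chain_real D hD F h hh χ hχ hm psi hpsi hval refls words levels hwLt hgw hrefl hrpsi hginv hch es
        ((mem_nfFin _ _).mp hes)
    · intro es hes es' hes' hag
      exact chain_inj' D refls levels hch es es' ((mem_nfFin _ _).mp hes) ((mem_nfFin _ _).mp hes') hag
  rw [card_centralizer_of_centEnum D hD F (nfFin levels) (nfPerm D.nroots levels) h hE hh χ hχ hm psi hpsi hG,
    ← sum_nfFin]
  congr 1
  apply Finset.sum_congr rfl
  intro es hes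
  rw [chain_cnt' D psi negB hneg refls levels QMs hch hinv hperm es ((mem_nfFin _ _).mp hes)]

end

end Cfsg.Agent.Lib.Helper11.SemiCent
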