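import Cfsg.Agent.Lib.Helper11.SemiCentN
import Cfsg.Agent.Lib.Helper7.ChevWeylChainChunk

/-!
helper11: tools for the table checks behind `card_centralizer_of_chain`: words in the fundamental reflections as
compositions of the rows of the table of fundamental reflections (`wordPerm`, `wordPt`), the check `invOKB` cut into
levels, and the number of normal forms of a chain.
-/

set_option autoImplicit false

namespace Cfsg.Agent.Lib.Helper11.SemiCent

open Cfsg Cfsg.Lie Matrix Cfsg.Agent.Lib.Helper7 Cfsg.Agent.Lib.Helper11.ChainInv

/-- the permutation of a word, from the table `T` of the fundamental reflections -/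
def wordPerm (n : ℕ) (T : List (List ℕ)) : List ℕ → List ℕ
  | [] => List.range n
  | i :: L => compG (T.getD i []) (wordPerm n T L)

/-- the image of a point under a word, from the table `T` of the fundamental reflections -/
def wordPt (T : List (List ℕ)) : List ℕ → ℕ → ℕ
  | [], s => s
  | i :: L, s => (T.getD i []).getD (wordPt T L s) 0

section
variable (D : ChevalleyDatum) (hD : D ∈ [chevG2, chevB2, chevD4, chevF4, chevE6, chevE7, chevE8])
variable (T : List (List ℕ))
  (hT : T = (List.range D.rank).map fun i => (List.range D.nroots).map (D.reflectRoot i))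
include hD hT

omit hD in
theorem table_getD (i : ℕ) (hi : i < D.rank) (s : ℕ) (hs : s < D.nroots) :
    (T.getD i []).getD s 0 = D.reflectRoot i s := by
  rw [hT]
  simp [List.getD_eq_getElem?_getD, hi, hs]

theorem wordPt_eq (L : List ℕ) (hL : ∀ i ∈ L, i < D.rank) (s : ℕ) (hs : s < D.nroots) :
    wordPt T L s = reflWord D L s := by
  induction L with
  | nil => rfl
  | cons i L ih =>
    have hi : i < D.rank := hL i List.mem_cons_self
    have hL' : ∀ j ∈ L, j < D.rank := fun j hj => hL j (List.mem_cons_of_mem _ hj)
    show (T.getD i []).getD (wordPt T L s) 0 = D.reflectRoot i (reflWord D L s)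
    rw [ih hL', table_getD D T hT i hi _ (reflWord_lt D hD L hL' s hs)]

theorem wordPerm_eq (L : List ℕ) (hL : ∀ i ∈ L, i < D.rank) :
    wordPerm D.nroots T L = (List.range D.nroots).map (reflWord D L) := by
  induction L with
  | nil =>
    show List.range D.nroots = (List.range D.nroots).map id
    rw [List.map_id]
  | cons i L ih =>
    have hi : i < D.rank := hL i List.mem_cons_self
    have hL' : ∀ j ∈ L, j < D.rank := fun j hj => hL j (List.mem_cons_of_mem _ hj)
    show compG (T.getD i []) (wordPerm D.nroots T L) = _
    rw [compG_eq, ih hL']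
    unfold Cfsg.Agent.Lib.Helper7.comp
    rw [List.map_map]
    apply List.map_congr_left
    intro s hs
    have hs' : s < D.nroots := List.mem_range.mp hs
    show (T.getD i []).getD (reflWord D L s) 0 = D.reflectRoot i (reflWord D L s)
    exact table_getD D T hT i hi _ (reflWord_lt D hD L hL' s hs')

end

/-- the part of `invOKB` for one level -/
def invLevelOKB (n : ℕ) (refls : List (List ℕ)) (negB : ℕ → Bool) (L : ChainLevel) (Ls : List ChainLevel)
    (QM : List ℕ × List ℕ) (QMs : List (List ℕ × List ℕ)) : Bool :=
  decide QM.1.Nodup && QM.1.all (fun t => decide (t < n)) &&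
  (posOf QMs ++ negOf QMs).all (fun t => decide (t < n)) &&
  (posOf QMs ++ negOf QMs).all (fun t => L.elems.all (fun d => negB (d.getD t 0) == negB t)) &&
  (headGens Ls).all (fun i => (posOf QMs ++ negOf QMs).all
    (fun t => (posOf QMs ++ negOf QMs).contains ((refls.getD i []).getD t 0))) &&
  (headGens Ls).all (fun i => QM.1.all (fun t => QM.1.contains ((refls.getD i []).getD t 0))) &&
  (headGens Ls).all (fun i => Cfsg.Agent.Lib.Helper7.comp (refls.getD i []) (refls.getD i []) == List.range n) &&
  (List.range L.elems.length).all (fun e => cnt negB QM.1 (L.elems.getD e []) == L.dep.getD e 0)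

theorem invOKB_cons (n : ℕ) (refls : List (List ℕ)) (negB : ℕ → Bool) (L : ChainLevel) (Ls : List ChainLevel)
    (QM : List ℕ × List ℕ) (QMs : List (List ℕ × List ℕ))
    (h1 : invLevelOKB n refls negB L Ls QM QMs = true) (h2 : invOKB n refls negB Ls QMs = true) :
    invOKB n refls negB (L :: Ls) (QM :: QMs) = true := by
  show (invLevelOKB n refls negB L Ls QM QMs && invOKB n refls negB Ls QMs) = true
  rw [h1, h2]; rfl

theorem invOKB_nil (n : ℕ) (refls : List (List ℕ)) (negB : ℕ → Bool) : invOKB n refls negB [] [] = true := rfl

/-- the number of normal forms of a chain -/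
theorem card_nfFin : ∀ Ls : List ChainLevel, (nfFin Ls).card = (Ls.map fun L => L.elems.length).prod
  | [] => rfl
  | L :: Ls => by
    show ((Finset.range L.elems.length ×ˢ nfFin Ls).image fun p => p.1 :: p.2).card = _
    rw [Finset.card_image_of_injective _ (by
      intro p p' h
      have h1 : p.1 :: p.2 = p'.1 :: p'.2 := h
      rw [List.cons.injEq] at h1
      exact Prod.ext h1.1 h1.2), Finset.card_product, Finset.card_range, card_nfFin Ls, List.map_cons,
      List.prod_cons]

end Cfsg.Agent.Lib.Helper11.SemiCent
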