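import Mathlib
import Cfsg.Prelude.Def_Classical
import Cfsg.Prelude.Def_ClassicalGeometry
import Cfsg.Agent.Lib.Helper11.Sp2Calc
import Cfsg.Agent.Lib.Helper5.Symp
import Cfsg.Agent.Lib.Helper5.SympGen2
import Cfsg.Agent.Lib.Helper14.SpPerfect
import Cfsg.Agent.Lib.Helper15.SympChar2

/-! Helper11 library (S2142): `Matrix.symplecticGroup (Fin m) F`, `|F| = 2`, acting on `Fin m ⊕ Fin m → F`
is an instance of the abstract setting `Sp2.Setting`. -/

set_option autoImplicit false

namespace Cfsg.Agent.Lib.Helper11.Sp2Inst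

open Matrix Cfsg.Agent.Lib.Helper11.Sp2 Cfsg.Agent.Lib.Helper5 Cfsg.Agent.Lib.Helper14.SpPerfect
  Cfsg.Agent.Lib.Helper15

variable {F : Type*} [Field F] (m : ℕ)

/-- `Sp_2m(F)` acts on column vectors -/
@[reducible] def spAct (F : Type*) [Field F] (m : ℕ) :
    DistribMulAction (Matrix.symplecticGroup (Fin m) F) (Fin m ⊕ Fin m → F) where
  smul g x := (g : Matrix (Fin m ⊕ Fin m) (Fin m ⊕ Fin m) F) *ᵥ x
  one_smul x := coe_one_mulVec x
  mul_smul g h x := coe_mul_mulVec g h x
  smul_zero g := Matrix.mulVec_zero _
  smul_add g x y := Matrix.mulVec_add _ x y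

theorem spAct_smul (g : Matrix.symplecticGroup (Fin m) F) (x : Fin m ⊕ Fin m → F) :
    letI := spAct F m
    g • x = (g : Matrix (Fin m ⊕ Fin m) (Fin m ⊕ Fin m) F) *ᵥ x := rfl

theorem zero_or_one_of_card [Fintype F] (hF : Fintype.card F = 2) (a : F) : a = 0 ∨ a = 1 := by
  classical
  by_contra h
  push Not at h
  have h3 : ({0, 1, a} : Finset F).card = 3 := by
    rw [Finset.card_insert_of_notMem, Finset.card_insert_of_notMem, Finset.card_singleton]
    · simp only [Finset.mem_singleton]; exact fun h1 => h.2 h1.symm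
    · simp only [Finset.mem_insert, Finset.mem_singleton, not_or]
      exact ⟨zero_ne_one, fun h0 => h.1 h0.symm⟩
  have := Finset.card_le_univ ({0, 1, a} : Finset F)
  omega

/-- the setting -/
noncomputable def spSetting [Fintype F] (hF : Fintype.card F = 2) :
    @Setting F (Fin m ⊕ Fin m → F) (Matrix.symplecticGroup (Fin m) F) _ _ _ _ (spAct F m) :=
  letI := spAct F m
  { B := sympBilin m
    tv := fun v => Tr v 1
    h01 := zero_or_one_of_card hF
    alt := fun x => by rw [sympBilin_apply]; exact sympForm_self m x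
    nondeg := fun x hx => by
      by_contra h0
      obtain ⟨a, ha⟩ := sympForm_nondeg x h0
      exact ha (by rw [← sympBilin_apply]; exact hx a)
    iso := fun g x y => by
      rw [sympBilin_apply, sympBilin_apply]
      exact sympForm_invariant m g x y
    tv_smul := fun v z => by
      rw [sympBilin_apply]
      show ((Tr v (1 : F) : Matrix.symplecticGroup (Fin m) F) :
        Matrix (Fin m ⊕ Fin m) (Fin m ⊕ Fin m) F) *ᵥ z = _
      rw [Tr_mulVec, one_mul]
    gen := by
      rw [eq_top_iff, ← transvGroup_eq_top (m := m) (F := F)]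
      unfold transvGroup
      rw [Subgroup.closure_le]
      rintro A ⟨w, c, hA⟩
      rcases zero_or_one_of_card hF c with rfl | rfl
      · have : A = 1 := by
          apply Subtype.ext
          rw [hA]
          exact congrArg Subtype.val (Tr_zero (m := m) w)
        rw [this]
        exact Subgroup.one_mem _
      · apply Subgroup.subset_closure
        exact ⟨w, Subtype.ext hA.symm⟩
    faithful := fun g hg => by
      apply sp_ext
      intro x
      rw [coe_one_mulVec]
      exact hg x }

end Cfsg.Agent.Lib.Helper11.Sp2Inst
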