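import Mathlib
import Cfsg.Agent.Lib.Helper11.Sp2Calc
import Cfsg.Agent.Lib.Helper1.Sp2G
import Cfsg.Agent.Lib.Helper12.Sp2B1
import Cfsg.Agent.Lib.Helper12.Sp2D
import Cfsg.Agent.Lib.Helper13.Sp2Q
import Cfsg.Agent.Lib.Helper22.Sp2T
import Cfsg.Agent.Lib.Helper22.Sp2C
import Cfsg.Agent.Lib.Helper23.Sp2P
import Cfsg.Agent.Lib.Helper23.Sp2Z

/-! Helper11 library (S2142): the three local bounds A1, A2, B2 for `|G_v : G_v ∩ H|`. -/

set_option autoImplicit false

namespace Cfsg.Agent.Lib.Helper11.Sp2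

open MulAction Pointwise Cfsg.Agent.Lib.Helper1.Sp2Leaf Cfsg.Agent.Lib.Helper12.Sp2Leaf
  Cfsg.Agent.Lib.Helper13.Sp2Leaf Cfsg.Agent.Lib.Helper22.Sp2Leaf Cfsg.Agent.Lib.Helper23.Sp2Leaf

variable {F V G : Type*} [Field F] [AddCommGroup V] [Module F V] [Group G] [DistribMulAction G V]
variable (S : Setting F V G)

/-- `(H ⊓ K).relIndex Q = H.relIndex Q` for `Q ≤ K` -/
theorem inf_relIndex_of_le {G : Type*} [Group G] (H K Q : Subgroup G) (hQK : Q ≤ K) :
    (H ⊓ K).relIndex Q = H.relIndex Q := by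
  rw [← Subgroup.relIndex_inf_mul_relIndex, Subgroup.relIndex_eq_one.mpr hQK, mul_one,
    inf_eq_right.mpr hQK]

/-- general bound: `|G_v : Stab_{G_v}(U)| · |Q_v : H ∩ Q_v| ≤ |G_v : G_v ∩ H|` for an `H ∩ G_v`-invariant
subspace `v ∈ U ⊆ v^⊥` -/
theorem stab_bound [Finite G] (H : Subgroup G) {v : V} (U : Submodule F V) (hvU : v ∈ U)
    (hU : ∀ u ∈ U, S.B v u = 0) (hinv : ∀ p ∈ H, p • v = v → ∀ u ∈ U, p • u ∈ U) :
    (stabilizer G (U : Set V)).relIndex (stabilizer G v) * H.relIndex (S.Q v)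
      ≤ H.relIndex (stabilizer G v) := by
  have key := relIndex_mul_relIndex_le (stabilizer G v) (stabilizer G (U : Set V) ⊓ stabilizer G v)
    (H ⊓ stabilizer G v) (S.Q v) ?_ ?_ inf_le_right
    (inf_le_right.trans (S.stabilizer_le_normalizer_Q v))
  · rwa [Subgroup.inf_relIndex_right, Subgroup.inf_relIndex_right,
      inf_relIndex_of_le _ _ _ (S.Q_le_stabilizer v)] at key
  · rintro p ⟨hpH, hpv⟩
    refine ⟨?_, hpv⟩
    have hpv' : p • v = v := hpv
    show p ∈ stabilizer G (U : Set V)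
    rw [mem_stabilizer_set]
    intro b
    constructor
    · intro hb
      have h1 := hinv p⁻¹ (H.inv_mem hpH) (by rw [inv_smul_eq_iff, hpv']) _ hb
      rwa [inv_smul_smul] at h1
    · exact hinv p hpH hpv' b
  · intro g hg
    refine ⟨?_, S.Q_le_stabilizer v hg⟩
    have hstep : ∀ g' ∈ S.Q v, ∀ u ∈ U, g' • u ∈ U := by
      rintro _ ⟨w, c, hw, rfl⟩ u hu
      rw [S.gq_smul_of_perp hw c (hU u hu)]
      exact U.add_mem hu (U.smul_mem _ hvU)
    show g ∈ stabilizer G (U : Set V)
    rw [mem_stabilizer_set]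
    intro b
    constructor
    · intro hb
      have h1 := hstep g⁻¹ ((S.Q v).inv_mem hg) _ hb
      rwa [inv_smul_smul] at h1
    · exact hstep g hg b

theorem card_le_two_of_forall {α : Type*} (P : α → Prop) (a b : α) (h : ∀ x, P x → x = a ∨ x = b) :
    Nat.card {x // P x} ≤ 2 := by
  have h1 : Nat.card {x // P x} = Set.ncard {x | P x} := Nat.card_coe_set_eq _
  rw [h1]
  have h2 : {x | P x} ⊆ ({a, b} : Set α) := by
    intro x hx
    rcases h x hx with rfl | rfl <;> simp
  calc Set.ncard {x | P x} ≤ Set.ncard ({a, b} : Set α) :=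
        Set.ncard_le_ncard h2 (Set.toFinite _)
    _ ≤ 2 := Set.ncard_insert_le _ _ |>.trans (by rw [Set.ncard_singleton])

theorem two_pow_card [Finite V] {m : ℕ} (hV : Nat.card V = 2 ^ (2 * m)) (hm : 2 ≤ m) :
    16 ≤ Nat.card V ∧ Nat.card V = 4 * 2 ^ (2 * m - 2) ∧ Nat.card V = 2 * 2 ^ (2 * m - 1) := by
  obtain ⟨k, rfl⟩ : ∃ k, m = k + 2 := ⟨m - 2, by omega⟩
  have e1 : 2 * (k + 2) = 2 * k + 4 := by ring
  have e2 : 2 * (k + 2) - 2 = 2 * k + 2 := by omega
  have e3 : 2 * (k + 2) - 1 = 2 * k + 3 := by omega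
  rw [hV, e2, e3, e1]
  have hpos : 1 ≤ 2 ^ (2 * k) := Nat.one_le_two_pow
  refine ⟨?_, ?_, ?_⟩
  · rw [pow_add]; omega
  · rw [pow_add, pow_add]; ring
  · rw [pow_add, pow_add]; ring

/-- A1 -/
theorem relIndex_stab_ge_of_not_isB [Finite V] [Finite G] {m : ℕ} (hV : Nat.card V = 2 ^ (2 * m))
    (hm : 2 ≤ m) (H : Subgroup G) {v : V} (hv : v ≠ 0) (ht : S.tv v ∉ H) (hB : ¬ S.IsB H v) :
    2 ^ (2 * m - 1) - 1 ≤ H.relIndex (stabilizer G v) := by
  obtain ⟨h16, -, hV2⟩ := two_pow_card hV hm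
  set D := S.Dbar H v with hD
  set E := S.B.orthogonal D with hE
  have hvE : v ∈ E := by
    rw [hE, LinearMap.BilinForm.mem_orthogonal_iff]
    intro d hd
    rw [S.B_symm]
    exact hd.1
  have hEperp : ∀ e ∈ E, S.B v e = 0 := by
    intro e he
    rw [hE, LinearMap.BilinForm.mem_orthogonal_iff] at he
    exact he v (S.self_mem_Dbar H v)
  have hne : ∃ e ∈ E, e ≠ 0 ∧ e ≠ v := by
    by_contra hcon
    push Not at hcon
    apply hB
    rw [S.isB_iff]
    refine ⟨hv, ht, ?_⟩
    intro w hw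
    have hDD : D = S.B.orthogonal E := (orthogonal_orthogonal_eq S D).symm
    rw [← hD, hDD, LinearMap.BilinForm.mem_orthogonal_iff]
    intro e he
    by_cases he0 : e = 0
    · rw [he0, S.Bzero_left]
    · rw [hcon e he he0]; exact hw
  have hinv : ∀ p ∈ H, p • v = v → ∀ u ∈ E, p • u ∈ E := by
    intro p hp hpv u hu
    rw [hE, LinearMap.BilinForm.mem_orthogonal_iff] at hu ⊢
    intro d hd
    have h1 : S.B d (p • u) = S.B (p⁻¹ • d) u := by
      rw [← S.iso p⁻¹ d (p • u), inv_smul_smul]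
    rw [h1]
    apply hu
    exact S.smul_mem_Dbar (H.inv_mem hp) (by rw [inv_smul_eq_iff, hpv]) hd
  have hb := stab_bound S H E hvE hEperp hinv
  have hc := covering_bound S hv E hvE hEperp hne
  have hq := relIndex_Q_of_not_mem S H hv ht
  have hp1 := card_mul_card_orthogonal S D
  rw [← hD] at hq
  rw [← hE] at hp1
  have hDpos : 0 < Nat.card D := Nat.card_pos
  have hrel : H.relIndex (S.Q v) = Nat.card E := by
    have : H.relIndex (S.Q v) * Nat.card D = Nat.card E * Nat.card D := by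
      rw [hq, mul_comm, hp1]
    exact Nat.eq_of_mul_eq_mul_right hDpos this
  rw [hrel] at hb
  set k := (stabilizer G (E : Set V)).relIndex (stabilizer G v) with hk
  have hkpos : 1 ≤ k := Nat.one_le_iff_ne_zero.mpr
    (Subgroup.index_ne_zero_of_finite :
      ((stabilizer G (E : Set V)).subgroupOf (stabilizer G v)).index ≠ 0)
  set e := Nat.card E with he
  set o := H.relIndex (stabilizer G v) with ho
  -- arithmetic
  by_cases he2 : e < 2
  · have : e - 2 = 0 := by omega
    rw [this, zero_mul, mul_zero] at hc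
    omega
  · push Not at he2
    obtain ⟨t, ht'⟩ : ∃ t, e = t + 2 := ⟨e - 2, by omega⟩
    rw [ht'] at hb hc
    have h1 : t + 2 - 2 = t := by omega
    rw [h1] at hc
    have h2 : k * (t + 2) = t * k + 2 * k := by ring
    rw [h2] at hb
    omega

/-- the stabiliser of `γ_v` in `G_v` -/
def gamStab (H : Subgroup G) (v : V) : Subgroup G where
  carrier := {p | p • v = v ∧ ∀ w, S.B v w = 0 → S.gam H v (p • w) = S.gam H v w}
  mul_mem' := by
    rintro p q ⟨hp1, hp2⟩ ⟨hq1, hq2⟩
    refine ⟨by rw [mul_smul, hq1, hp1], ?_⟩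
    intro w hw
    have hqw : S.B v (q • w) = 0 := by
      have := S.iso q v w
      rw [hq1] at this
      rw [this, hw]
    rw [mul_smul, hp2 _ hqw, hq2 _ hw]
  one_mem' := ⟨one_smul _ _, fun w _ => by rw [one_smul]⟩
  inv_mem' := by
    rintro p ⟨hp1, hp2⟩
    have hp1' : p⁻¹ • v = v := by rw [inv_smul_eq_iff, hp1]
    refine ⟨hp1', ?_⟩
    intro w hw
    have hpw : S.B v (p⁻¹ • w) = 0 := by
      have := S.iso p⁻¹ v w
      rw [hp1'] at this
      rw [this, hw]
    have := hp2 _ hpw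
    rw [smul_inv_smul] at this
    exact this.symm

theorem mem_gamStab {H : Subgroup G} {v : V} {p : G} :
    p ∈ gamStab S H v ↔ p • v = v ∧ ∀ w, S.B v w = 0 → S.gam H v (p • w) = S.gam H v w := Iff.rfl

/-- A2 -/
theorem relIndex_stab_ge_of_isB [Finite V] [Finite G] {m : ℕ} (hV : Nat.card V = 2 ^ (2 * m))
    (hm : 2 ≤ m) (H : Subgroup G) {v : V} (hB : S.IsB H v) :
    2 ^ (2 * m - 2) - 2 ^ (m - 1) ≤ H.relIndex (stabilizer G v) := by
  obtain ⟨h16, hV4, hV2⟩ := two_pow_card hV hm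
  have hv : v ≠ 0 := hB.1
  have ht : S.tv v ∉ H := hB.2.1
  set K := stabilizer G v with hK
  set St := gamStab S H v with hSt
  -- G2
  have hASt : H ⊓ K ≤ St := by
    rintro p ⟨hpH, hpv⟩
    exact ⟨hpv, fun w hw => S.gam_smul hB hpH hpv hw⟩
  have hQSt : S.Q v ≤ St := by
    rintro _ ⟨u, c, hu, rfl⟩
    refine ⟨S.gq_smul_self hu c, ?_⟩
    intro w hw
    rw [S.gq_smul_of_perp hu c hw]
    rcases S.h01 (S.B w u) with h1 | h1
    · rw [h1, zero_smul, add_zero]
    · rw [h1, one_smul, S.gam_add_self hB hw]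
  have hStK : St ≤ K := fun p hp => hp.1
  have key := relIndex_mul_relIndex_le K St (H ⊓ K) (S.Q v) hASt hQSt hStK
    (inf_le_right.trans (S.stabilizer_le_normalizer_Q v))
  rw [Subgroup.inf_relIndex_right, inf_relIndex_of_le _ _ _ (S.Q_le_stabilizer v)] at key
  -- relIndex H Q = 2
  have hq := relIndex_Q_of_not_mem S H hv ht
  have hp4 := two_mul_card_perp S hv
  have hD : Nat.card (S.Dbar H v) = Nat.card {z : V // S.B v z = 0} := by
    apply Nat.card_congr
    refine Equiv.subtypeEquivRight (fun w => ?_)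
    constructor
    · intro hw; exact hw.1
    · intro hw; exact ⟨hw, hB.2.2 w hw⟩
  have hrel : H.relIndex (S.Q v) = 2 := by
    rw [hD] at hq
    have hpos : 0 < Nat.card {z : V // S.B v z = 0} := by
      haveI : Nonempty {z : V // S.B v z = 0} := ⟨⟨0, S.Bzero_right v⟩⟩
      exact Nat.card_pos
    have : H.relIndex (S.Q v) * Nat.card {z : V // S.B v z = 0}
        = 2 * Nat.card {z : V // S.B v z = 0} := by rw [hq, hp4]
    exact Nat.eq_of_mul_eq_mul_right hpos this
  rw [hrel] at key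
  -- G3
  have hg3 := card_le_mul_relIndex St K
    (fun a : {a : V // S.B v a = 0 ∧ S.gam H v a = 0} => S.tv a.1)
    (fun a => by
      show S.tv a.1 • v = v
      rw [S.tv_smul, a.2.1, zero_smul, add_zero]) 2 ?_
  · have hz := card_gam_zeros_ge S hV (by omega) H hB
    omega
  · intro i
    apply card_le_two_of_forall _ i ⟨i.1 + v, by rw [S.B_add_self_right]; exact i.2.1,
      by rw [S.gam_add_self hB i.2.1]; exact i.2.2⟩
    intro j hj
    obtain ⟨i, hi1, hi2⟩ := i
    obtain ⟨j, hj1, hj2⟩ := j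
    simp only [Subtype.mk.injEq]
    rw [S.tv_inv] at hj
    have hcond : ∀ w, S.B v w = 0 → S.B w j + S.B w i + S.B w j * S.B j i = 0 := by
      intro w hw
      have h1 := hj.2 w hw
      rw [mul_smul] at h1
      have hjw : S.B v (S.tv j • w) = 0 := by
        rw [S.tv_smul, S.Badd_right, S.Bsmul_right, hw, hj1, mul_zero, add_zero]
      rw [S.gam_tv hB hi1 hjw, S.gam_tv hB hj1 hw, hi2, hj2, zero_add, mul_one, mul_one,
        S.tv_smul, S.Badd_left, S.Bsmul_left] at h1
      have h2 : S.gam H v w + (S.B w j + (S.B w i + S.B w j * S.B j i)) = S.gam H v w + 0 := by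
        rw [add_zero, ← add_assoc]
        exact h1
      have h3 := add_left_cancel h2
      calc S.B w j + S.B w i + S.B w j * S.B j i
          = S.B w j + (S.B w i + S.B w j * S.B j i) := by ring
        _ = 0 := h3
    rcases S.h01 (S.B j i) with hji | hji
    · have h1 : ∀ z, S.B v z = 0 → S.B z (i + j) = 0 := by
        intro z hz
        have := hcond z hz
        rw [hji, mul_zero, add_zero] at this
        rw [S.Badd_right, add_comm]
        exact this
      rcases S.eq_zero_or_eq_of_perp h1 with h2 | h2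
      · left
        exact (S.vadd_eq_zero_iff.mp h2).symm
      · right
        have : i + (i + j) = i + v := by rw [h2]
        rwa [S.vadd_cancel_left] at this
    · exfalso
      have h1 : ∀ z, S.B v z = 0 → S.B z i = 0 := by
        intro z hz
        have := hcond z hz
        rw [hji, mul_one] at this
        have h2 : S.B z j + S.B z i + S.B z j = S.B z i := by
          rw [add_comm (S.B z j) (S.B z i), add_assoc, S.fadd_self, add_zero]
        rw [h2] at this
        exact this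
      rcases S.eq_zero_or_eq_of_perp h1 with h2 | h2
      · rw [h2, S.Bzero_right] at hji
        exact zero_ne_one hji
      · rw [h2, S.B_symm, hj1] at hji
        exact zero_ne_one hji

/-- B2 -/
theorem relIndex_stab_ge_of_perp_isB [Finite V] [Finite G] {m : ℕ} (hV : Nat.card V = 2 ^ (2 * m))
    (hm : 2 ≤ m) (H : Subgroup G) {x v : V} (hx : S.IsB H x) (hv0 : v ≠ 0) (hvx : v ≠ x)
    (hperp : S.B x v = 0) (ht : S.tv v ∈ H) :
    2 ^ (2 * m - 2) ≤ H.relIndex (stabilizer G v) := by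
  obtain ⟨h16, hV4, hV2⟩ := two_pow_card hV hm
  have hb1 := Dbar_inf_perp S H hx hv0 hvx hperp ht
  set D := S.Dbar H v with hD
  have hq := relIndex_Q_of_mem S H hv0 ht
  rw [← hD] at hq
  have hp3 := card_perp_inf S D x
  have hle2 : Nat.card {u : V // u ∈ D ∧ S.B x u = 0} ≤ 2 :=
    card_le_two_of_forall _ 0 v (fun u hu => hb1 u hu.1 hu.2)
  have hd4 : Nat.card D ≤ 4 := by omega
  have hDperp : ∀ u ∈ D, S.B v u = 0 := fun u hu => hu.1
  have hinv : ∀ p ∈ H, p • v = v → ∀ u ∈ D, p • u ∈ D :=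
    fun p hp hpv u hu => S.smul_mem_Dbar hp hpv hu
  have hb := stab_bound S H D (S.self_mem_Dbar H v) hDperp hinv
  set k := (stabilizer G (D : Set V)).relIndex (stabilizer G v) with hk
  have hkpos : 1 ≤ k := Nat.one_le_iff_ne_zero.mpr
    (Subgroup.index_ne_zero_of_finite :
      ((stabilizer G (D : Set V)).subgroupOf (stabilizer G v)).index ≠ 0)
  set r := H.relIndex (S.Q v) with hr
  set d := Nat.card D with hd
  set o := H.relIndex (stabilizer G v) with ho
  have hrd : r * d ≤ r * 4 := Nat.mul_le_mul_left r hd4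
  by_cases hne : ∃ u ∈ D, u ≠ 0 ∧ u ≠ v
  · have hc := covering_bound S hv0 D (S.self_mem_Dbar H v) hDperp hne
    rw [← hk, ← hd] at hc
    have h1 : (d - 2) * k ≤ 2 * k := Nat.mul_le_mul_right k (by omega)
    have hk3 : 3 ≤ k := by omega
    have h2 : 3 * r ≤ k * r := Nat.mul_le_mul_right r hk3
    omega
  · push Not at hne
    have hd2 : d ≤ 2 := by
      have h1 : Nat.card D = Nat.card {u : V // u ∈ D} := rfl
      rw [hd, h1]
      exact card_le_two_of_forall _ 0 v (fun u hu => by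
        by_cases h0 : u = 0
        · left; exact h0
        · right; exact hne u hu h0)
    have hrd2 : r * d ≤ r * 2 := Nat.mul_le_mul_left r hd2
    have h2 : 1 * r ≤ k * r := Nat.mul_le_mul_right r hkpos
    omega

end Cfsg.Agent.Lib.Helper11.Sp2
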