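import Mathlib
import Cfsg.Agent.Lib.Helper11.Sp2Calc
import Cfsg.Agent.Lib.Helper11.Sp2Local
import Cfsg.Agent.Lib.Helper1.Sp2G
import Cfsg.Agent.Lib.Helper12.Sp2B1
import Cfsg.Agent.Lib.Helper12.Sp2D
import Cfsg.Agent.Lib.Helper13.Sp2Q
import Cfsg.Agent.Lib.Helper22.Sp2T
import Cfsg.Agent.Lib.Helper22.Sp2C
import Cfsg.Agent.Lib.Helper23.Sp2P
import Cfsg.Agent.Lib.Helper23.Sp2Z

/-! Helper11 library (S2142): the lower bound `|G : H| ≥ 2^(m-1)(2^m-1)` in the abstract setting. -/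

set_option autoImplicit false

namespace Cfsg.Agent.Lib.Helper11.Sp2

open MulAction Cfsg.Agent.Lib.Helper1.Sp2Leaf Cfsg.Agent.Lib.Helper12.Sp2Leaf
  Cfsg.Agent.Lib.Helper13.Sp2Leaf Cfsg.Agent.Lib.Helper22.Sp2Leaf Cfsg.Agent.Lib.Helper23.Sp2Leaf

variable {F V G : Type*} [Field F] [AddCommGroup V] [Module F V] [Group G] [DistribMulAction G V]
variable (S : Setting F V G)

theorem pow_arith (m : ℕ) (hm : 1 ≤ m) :
    2 ^ (m - 1) * (2 ^ m - 1) = 2 ^ (2 * m - 2) + (2 ^ (2 * m - 2) - 2 ^ (m - 1)) ∧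
    2 ^ (m - 1) * (2 ^ m - 1) ≤ 2 ^ (2 * m - 1) - 1 ∧ 2 ^ (m - 1) ≤ 2 ^ (2 * m - 2) := by
  obtain ⟨k, rfl⟩ : ∃ k, m = k + 1 := ⟨m - 1, by omega⟩
  have e1 : k + 1 - 1 = k := by omega
  have e2 : 2 * (k + 1) - 2 = 2 * k := by omega
  have e3 : 2 * (k + 1) - 1 = 2 * k + 1 := by omega
  rw [e1, e2, e3]
  have h1 : (2 : ℕ) ^ (2 * k) = 2 ^ k * 2 ^ k := by rw [← pow_add]; congr 1; omega
  have h2 : (2 : ℕ) ^ (k + 1) = 2 * 2 ^ k := by rw [pow_succ]; ring
  have h3 : (2 : ℕ) ^ (2 * k + 1) = 2 * (2 ^ k * 2 ^ k) := by rw [pow_succ, h1]; ring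
  have hpos : 1 ≤ 2 ^ k := Nat.one_le_two_pow
  rw [h1, h2, h3]
  set a := 2 ^ k with ha
  have hle : a ≤ a * a := Nat.le_mul_self a
  have hmul : a * (2 * a - 1) = 2 * (a * a) - a := by
    rw [Nat.mul_sub, mul_one]; congr 1; ring
  refine ⟨?_, ?_, hle⟩
  · rw [hmul]; omega
  · rw [hmul]; omega

include S in
/-- MAIN lower bound -/
theorem index_ge [Finite V] [Finite G] {m : ℕ} (hV : Nat.card V = 2 ^ (2 * m)) (hm : 3 ≤ m)
    (H : Subgroup G) (hH : H ≠ ⊤) : 2 ^ (m - 1) * (2 ^ m - 1) ≤ H.index := by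
  by_contra hlt
  push Not at hlt
  obtain ⟨hM1, hM2, hM3⟩ := pow_arith m (by omega)
  have hidx : H.index ≠ 0 := Subgroup.index_ne_zero_of_finite
  have hle : ∀ v : V, H.relIndex (stabilizer G v) ≤ H.index := by
    intro v
    have := Subgroup.relIndex_le_of_le_right (H := H) (le_top : stabilizer G v ≤ ⊤)
      (by rw [Subgroup.relIndex_top_right]; exact hidx)
    rwa [Subgroup.relIndex_top_right] at this
  -- step 2
  have step2 : ∀ v, v ≠ 0 → S.tv v ∉ H → S.IsB H v := by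
    intro v hv ht
    by_contra hB
    have h1 := relIndex_stab_ge_of_not_isB S hV (by omega) H hv ht hB
    have h2 := hle v
    omega
  -- step 3
  have step3 : ∀ x v, S.IsB H x → v ≠ 0 → S.B x v = 0 → S.IsB H v := by
    intro x v hx hv hperp
    by_cases ht : S.tv v ∈ H
    · exfalso
      have hvx : v ≠ x := by
        rintro rfl
        exact hx.2.1 ht
      have hdiff : ∀ h ∈ H, h • x ≠ v := by
        intro h hh he
        apply hx.2.1
        have h1 := S.conj_tv h⁻¹ v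
        rw [← he, inv_smul_smul, inv_inv] at h1
        rw [← h1]
        exact H.mul_mem (H.mul_mem (H.inv_mem hh) (he ▸ ht)) hh
      have h1 := relIndex_add_relIndex_le H x v (exists_smul_eq_of_ne_zero S hx.1 hv) hdiff
      have h2 := relIndex_stab_ge_of_isB S hV (by omega) H hx
      have h3 := relIndex_stab_ge_of_perp_isB S hV (by omega) H hx hv hvx hperp ht
      omega
    · exact step2 v hv ht
  -- step 1
  have step1 : ∃ v, v ≠ 0 ∧ S.tv v ∉ H := by
    by_contra hno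
    push Not at hno
    apply hH
    rw [eq_top_iff, ← S.gen, Subgroup.closure_le]
    rintro _ ⟨v, rfl⟩
    by_cases hv : v = 0
    · subst hv
      rw [S.tv_zero]
      exact H.one_mem
    · exact hno v hv
  obtain ⟨v0, hv0, ht0⟩ := step1
  have hB0 := step2 v0 hv0 ht0
  -- connectivity
  have conn : ∀ x y : V, ∃ z, z ≠ 0 ∧ S.B x z = 0 ∧ S.B y z = 0 := by
    intro x y
    have h1 := card_perp_inf S (⊤ : Submodule F V) x
    have h2 := card_perp_inf S (LinearMap.ker (S.B x)) y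
    have e1 : Nat.card (⊤ : Submodule F V) = Nat.card V :=
      Nat.card_congr (Submodule.topEquiv (R := F) (M := V)).toEquiv
    have e2 : Nat.card {u : V // u ∈ (⊤ : Submodule F V) ∧ S.B x u = 0}
        = Nat.card (LinearMap.ker (S.B x)) := by
      apply Nat.card_congr
      exact Equiv.subtypeEquivRight (fun u => by simp [LinearMap.mem_ker])
    rw [e1, e2] at h1
    have h16 : 64 ≤ Nat.card V := by
      rw [hV]
      calc 64 = 2 ^ 6 := by norm_num
        _ ≤ 2 ^ (2 * m) := Nat.pow_le_pow_right (by norm_num) (by omega)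
    have h3 : 1 < Nat.card {u : V // u ∈ LinearMap.ker (S.B x) ∧ S.B y u = 0} := by omega
    have : Finite {u : V // u ∈ LinearMap.ker (S.B x) ∧ S.B y u = 0} := Subtype.finite
    obtain ⟨a, b, hab⟩ := Finite.one_lt_card_iff_nontrivial.mp h3 |>.exists_pair_ne
    by_cases ha : (a : V) = 0
    · refine ⟨b, ?_, ?_, b.2.2⟩
      · intro hb
        exact hab (Subtype.ext (ha.trans hb.symm))
      · exact LinearMap.mem_ker.mp b.2.1
    · exact ⟨a, ha, LinearMap.mem_ker.mp a.2.1, a.2.2⟩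
  -- all points are of type B
  have hall : ∀ y : V, y ≠ 0 → S.IsB H y := by
    intro y hy
    obtain ⟨z, hz, h1, h2⟩ := conn v0 y
    have hBz := step3 v0 z hB0 hz h1
    exact step3 z y hBz hy (by rw [S.B_symm]; exact h2)
  exact not_forall_isB S hV hm H hall

end Cfsg.Agent.Lib.Helper11.Sp2
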