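import Mathlib
import Cfsg.Agent.Lib.Helper11.Sp2Main
import Cfsg.Agent.Lib.Helper11.Sp2Inst
import Cfsg.Agent.Lib.Helper18.PSpAutE

/-! Helper11 library (S2142): the lower bound for `Matrix.symplecticGroup (Fin m) F`, `|F| = 2`, and the
transfer between `Sp` and `PSp` in characteristic 2. -/

set_option autoImplicit false

namespace Cfsg.Agent.Lib.Helper11.Sp2Inst

open Matrix Cfsg.Agent.Lib.Helper11.Sp2 Cfsg.Agent.Lib.Helper18.PSpAut

variable {F : Type*} [Field F] [Fintype F]

theorem sp_index_ge (hF : Fintype.card F = 2) (m : ℕ) (hm : 3 ≤ m)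
    (H : Subgroup (Matrix.symplecticGroup (Fin m) F)) (hH : H ≠ ⊤) :
    2 ^ (m - 1) * (2 ^ m - 1) ≤ H.index := by
  letI := spAct F m
  have hV : Nat.card (Fin m ⊕ Fin m → F) = 2 ^ (2 * m) := by
    rw [Nat.card_fun, Nat.card_eq_fintype_card, Nat.card_eq_fintype_card, hF, Fintype.card_sum,
      Fintype.card_fin, two_mul]
  exact index_ge (spSetting m hF) hV hm H hH

theorem two_eq_zero_of_card (hF : Fintype.card F = 2) : (2 : F) = 0 := by
  have h := zero_or_one_of_card hF (1 + 1)
  rcases h with h | h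
  · rw [← h]; norm_num
  · exfalso
    have : (1 : F) = 0 := by linear_combination h
    exact one_ne_zero this

theorem psp_index_ge (hF : Fintype.card F = 2) (m : ℕ) (hm : 3 ≤ m)
    (H : Subgroup (Cfsg.PSp m F)) (hH : H ≠ ⊤) :
    2 ^ (m - 1) * (2 ^ m - 1) ≤ H.index := by
  have hs : Function.Surjective (pi (m := m) (F := F)) := pi_surjective
  rw [← Subgroup.index_comap_of_surjective H hs]
  apply sp_index_ge hF m hm
  intro h
  apply hH
  apply Subgroup.comap_injective hs
  rw [h, Subgroup.comap_top]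

theorem psp_exists_of_sp (hF : Fintype.card F = 2) (m : ℕ) (hm : 1 ≤ m) (M : ℕ)
    (h : ∃ H : Subgroup (Matrix.symplecticGroup (Fin m) F), H.index = M) :
    ∃ H : Subgroup (Cfsg.PSp m F), H.index = M := by
  obtain ⟨H, hH⟩ := h
  refine ⟨H.map (pi (m := m) (F := F)), ?_⟩
  rw [Subgroup.index_map_of_bijective
    ⟨pi_injective_of_two hm (two_eq_zero_of_card hF), pi_surjective⟩, hH]

end Cfsg.Agent.Lib.Helper11.Sp2Inst
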