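import Mathlib
import Cfsg.Agent.Lib.Helper29.SpAschTools
import Cfsg.Agent.Lib.Helper20.AschTS
import Cfsg.Agent.Lib.Helper29.AschKF2
import Cfsg.Agent.Lib.Helper27.AschKF3
import Cfsg.Agent.Lib.Helper7.AschForms

/-!
S5662, market FQ (planner helper29), leaves (Q1) `invariant_bilinear_eq`, (Q2) `quad_odd_false` (helper11).
-/

set_option autoImplicit false
set_option linter.unusedSectionVars false
set_option linter.unusedVariables false

namespace Cfsg.Agent.Lib.Helper11.SpAschLeaf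
open Matrix Cfsg Cfsg.Geo Cfsg.Agent.Lib.Helper20.Asch Cfsg.Agent.Lib.Helper29.SpAsch
open scoped Kronecker

variable {F : Type*} [Field F] [Fintype F] {n m : ℕ} {J : Matrix (Fin n) (Fin n) F}
  {H N : Subgroup (GL (Fin n) F)}

/-- `xᵀ J x = J` gives `x J⁻¹ xᵀ = J⁻¹` -/
theorem inv_conj_of_isom (hd : J.det ≠ 0) {x : GL (Fin n) F}
    (hx : (x : Matrix (Fin n) (Fin n) F)ᵀ * J * (x : Matrix (Fin n) (Fin n) F) = J) :
    (x : Matrix (Fin n) (Fin n) F) * J⁻¹ * (x : Matrix (Fin n) (Fin n) F)ᵀ = J⁻¹ := by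
  have hJ1 : J⁻¹ * J = 1 := Matrix.nonsing_inv_mul J (Ne.isUnit hd)
  have hJ2 : J * J⁻¹ = 1 := Matrix.mul_nonsing_inv J (Ne.isUnit hd)
  have hxx : (x : Matrix (Fin n) (Fin n) F) * ((x⁻¹ : GL (Fin n) F) : Matrix (Fin n) (Fin n) F) = 1 := by
    rw [← Units.val_mul, mul_inv_cancel, Units.val_one]
  have h1 : (x : Matrix (Fin n) (Fin n) F) * J⁻¹ * (x : Matrix (Fin n) (Fin n) F)ᵀ * J = 1 := by
    calc (x : Matrix (Fin n) (Fin n) F) * J⁻¹ * (x : Matrix (Fin n) (Fin n) F)ᵀ * J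
        = (x : Matrix (Fin n) (Fin n) F) * J⁻¹ * ((x : Matrix (Fin n) (Fin n) F)ᵀ * J *
            ((x : Matrix (Fin n) (Fin n) F) * ((x⁻¹ : GL (Fin n) F) : Matrix (Fin n) (Fin n) F))) := by
          rw [hxx, mul_one]; simp only [mul_assoc]
      _ = (x : Matrix (Fin n) (Fin n) F) * J⁻¹ * (((x : Matrix (Fin n) (Fin n) F)ᵀ * J *
            (x : Matrix (Fin n) (Fin n) F)) * ((x⁻¹ : GL (Fin n) F) : Matrix (Fin n) (Fin n) F)) := by
          simp only [mul_assoc]
      _ = 1 := by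
          rw [hx, mul_assoc, ← mul_assoc J⁻¹, hJ1, one_mul, hxx]
  calc (x : Matrix (Fin n) (Fin n) F) * J⁻¹ * (x : Matrix (Fin n) (Fin n) F)ᵀ
      = (x : Matrix (Fin n) (Fin n) F) * J⁻¹ * (x : Matrix (Fin n) (Fin n) F)ᵀ * (J * J⁻¹) := by
        rw [hJ2, mul_one]
    _ = J⁻¹ := by rw [← mul_assoc, h1, one_mul]

/-- (Q1) SCHUR: an invariant bilinear form of an absolutely irreducible subgroup of `isoG J` is a multiple of `bfm J`. -/
theorem invariant_bilinear_eq (hJ : IsAltGram J) (hNJ : N ≤ isoG J) (habs : AbsIrr N)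
    (B : (Fin n → F) → (Fin n → F) → F) (hB : IsBilinearForm B) (hfix : FixesForm (matrixSet N) B) :
    ∃ c : F, ∀ u v, B u v = c * bfm J u v := by
  have hrep : ∀ u v, B u v = bfm (Cfsg.Agent.Lib.Helper7.AschLeaf.gramF B) u v := by
    intro u v
    have h := Cfsg.Agent.Lib.Helper7.AschLeaf.rep_of (RingHom.id F) B hB.add_left hB.smul_left hB.add_right
      (by intro c v x; simpa using hB.smul_right c v x) u v
    exact h
  set G := Cfsg.Agent.Lib.Helper7.AschLeaf.gramF B with hG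
  have hJ1 : J⁻¹ * J = 1 := Matrix.nonsing_inv_mul J (Ne.isUnit hJ.det)
  have hJ2 : J * J⁻¹ = 1 := Matrix.mul_nonsing_inv J (Ne.isUnit hJ.det)
  have hxG : ∀ x ∈ N, (x : Matrix (Fin n) (Fin n) F)ᵀ * G * (x : Matrix (Fin n) (Fin n) F) = G := by
    intro x hx
    apply bfm_injective
    intro u v
    rw [← bfm_mulVec, ← hrep, ← hrep]
    exact hfix _ ⟨x, hx, rfl⟩ u v
  have hcomm : ∀ s ∈ matrixSet N, (J⁻¹ * G) * s = s * (J⁻¹ * G) := by
    rintro _ ⟨x, hx, rfl⟩
    have hxJ := (mem_isoG_iff x).1 (hNJ hx)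
    have hinv := inv_conj_of_isom hJ.det hxJ
    calc J⁻¹ * G * (x : Matrix (Fin n) (Fin n) F)
        = (x : Matrix (Fin n) (Fin n) F) * J⁻¹ * (x : Matrix (Fin n) (Fin n) F)ᵀ * G *
            (x : Matrix (Fin n) (Fin n) F) := by rw [hinv]
      _ = (x : Matrix (Fin n) (Fin n) F) * J⁻¹ * ((x : Matrix (Fin n) (Fin n) F)ᵀ * G *
            (x : Matrix (Fin n) (Fin n) F)) := by simp only [mul_assoc]
      _ = (x : Matrix (Fin n) (Fin n) F) * (J⁻¹ * G) := by rw [hxG x hx, mul_assoc]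
  obtain ⟨c, hc⟩ := habs.2 (J⁻¹ * G) hcomm
  refine ⟨c, fun u v => ?_⟩
  have hGJ : G = c • J := by
    calc G = J * (J⁻¹ * G) := by rw [← mul_assoc, hJ2, one_mul]
      _ = c • J := by rw [hc, Matrix.mul_smul, mul_one]
  rw [hrep, hGJ]
  unfold bfm
  rw [Matrix.smul_mulVec, dotProduct_smul, smul_eq_mul]

/-- (Q2) odd characteristic: no invariant quadratic form whose polar form is a multiple of `bfm J`. -/
theorem quad_odd_false (hJ : IsAltGram J) (hn : 0 < n) (h2 : (2 : F) ≠ 0) (Q : (Fin n → F) → F)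
    (hQ : IsNondegenerateQuadraticForm Q) (c : F)
    (hc : ∀ u v, QuadraticMap.polar Q u v = c * bfm J u v) : False := by
  have hzero : ∀ u v, QuadraticMap.polar Q u v = 0 := by
    intro u v
    have h1 : QuadraticMap.polar Q u v = QuadraticMap.polar Q v u := QuadraticMap.polar_comm Q u v
    have h3 := bfm_skew hJ u v
    have h4 : (2 : F) * QuadraticMap.polar Q u v = 0 := by
      have e1 := hc u v
      have e2 := hc v u
      rw [← h1] at e2
      linear_combination e1 + e2 + c * h3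
    rcases mul_eq_zero.1 h4 with h | h
    · exact absurd h h2
    · exact h
  have hv : (Pi.single (⟨0, hn⟩ : Fin n) (1 : F) : Fin n → F) ≠ 0 := by
    intro h
    have := congrFun h ⟨0, hn⟩
    simp at this
  obtain ⟨⟨x, hx⟩, _⟩ := hQ.nondegenerate _ hv
  exact hx (hzero _ _)

end Cfsg.Agent.Lib.Helper11.SpAschLeaf
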