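import Mathlib
import Cfsg.Agent.Lib.Helper29.SpAschTools
import Cfsg.Agent.Lib.Helper20.AschTS
import Cfsg.Agent.Lib.Helper29.AschKF2
import Cfsg.Agent.Lib.Helper27.AschKF3
import Cfsg.Agent.Lib.Helper7.AschForms
import Cfsg.Agent.Lib.Helper11.SpAschQ12

/-!
S5662, market FQ (planner helper29), leaves (U1) `unitary_rep`, (U2) `unitary_conj`, (U3) `exists_fixed_subfield` (helper11).
-/

set_option autoImplicit false
set_option linter.unusedSectionVars false
set_option linter.unusedVariables false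

namespace Cfsg.Agent.Lib.Helper11.SpAschLeaf
open Matrix Cfsg Cfsg.Geo Cfsg.Agent.Lib.Helper20.Asch Cfsg.Agent.Lib.Helper29.SpAsch
open scoped Kronecker

variable {F : Type*} [Field F] [Fintype F] {n m : ℕ} {J : Matrix (Fin n) (Fin n) F}
  {H N : Subgroup (GL (Fin n) F)}

/-- (U1) Gram matrix of a unitary form. -/
theorem unitary_rep (σ : F ≃+* F) (g : (Fin n → F) → (Fin n → F) → F) (hg : IsUnitaryForm σ g) :
    ∃ G : Matrix (Fin n) (Fin n) F, G.det ≠ 0 ∧
      ∀ u v : Fin n → F, g u v = u ⬝ᵥ (G *ᵥ (fun i => σ (v i))) := by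
  have har : ∀ v x y, g v (x + y) = g v x + g v y := by
    intro v x y
    rw [hg.herm v (x + y), hg.add_left, map_add, ← hg.herm, ← hg.herm]
  have hsr : ∀ (c : F) (v x : Fin n → F), g v (c • x) = (σ : F →+* F) c * g v x := by
    intro c v x
    rw [hg.herm v (c • x), hg.smul_left, map_mul, ← hg.herm]
    rfl
  have hrep := Cfsg.Agent.Lib.Helper7.AschLeaf.rep_of (σ : F →+* F) g hg.add_left hg.smul_left har hsr
  refine ⟨Cfsg.Agent.Lib.Helper7.AschLeaf.gramF g,
    Cfsg.Agent.Lib.Helper7.AschLeaf.gram_det_ne_zero' (σ : F →+* F) g hrep hg.nondegenerate, ?_⟩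
  intro u v
  exact hrep u v

/-- (U2) an invariant unitary form of a subgroup of `isoG J`: `σ(x) = C⁻¹ x C`, `C = J⁻¹ G`. -/
theorem unitary_conj (hJ : IsAltGram J) (hNJ : N ≤ isoG J) (σ : F ≃+* F) (G : Matrix (Fin n) (Fin n) F)
    (hG : G.det ≠ 0) (g : (Fin n → F) → (Fin n → F) → F)
    (hrep : ∀ u v : Fin n → F, g u v = u ⬝ᵥ (G *ᵥ (fun i => σ (v i))))
    (hfix : FixesForm (matrixSet N) g) :
    ∃ C : GL (Fin n) F, ∀ x ∈ N, (x : Matrix (Fin n) (Fin n) F).map σ =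
      ((C⁻¹ : GL (Fin n) F) : Matrix (Fin n) (Fin n) F) * (x : Matrix (Fin n) (Fin n) F) * (C : Matrix (Fin n) (Fin n) F) := by
  have hJ1 : J⁻¹ * J = 1 := Matrix.nonsing_inv_mul J (Ne.isUnit hJ.det)
  have hJ2 : J * J⁻¹ = 1 := Matrix.mul_nonsing_inv J (Ne.isUnit hJ.det)
  have hG1 : G⁻¹ * G = 1 := Matrix.nonsing_inv_mul G (Ne.isUnit hG)
  have hG2 : G * G⁻¹ = 1 := Matrix.mul_nonsing_inv G (Ne.isUnit hG)
  let C : GL (Fin n) F := ⟨J⁻¹ * G, G⁻¹ * J, by
      rw [mul_assoc, ← mul_assoc G, hG2, one_mul, hJ1], by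
      rw [mul_assoc, ← mul_assoc J, hJ2, one_mul, hG1]⟩
  refine ⟨C, fun x hx => ?_⟩
  have hxG : (x : Matrix (Fin n) (Fin n) F)ᵀ * G * (x : Matrix (Fin n) (Fin n) F).map σ = G := by
    apply Cfsg.Agent.Lib.Helper7.AschLeaf.eq_of_forall_dot (σ : F →+* F)
    intro u v
    have hd := Cfsg.Agent.Lib.Helper7.AschLeaf.dot_conj (σ : F →+* F) G (x : Matrix (Fin n) (Fin n) F) u v
    have h := hfix _ ⟨x, hx, rfl⟩ u v
    rw [hrep, hrep] at h
    exact hd.symm.trans h
  have hxJ := (mem_isoG_iff x).1 (hNJ hx)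
  have hinv := inv_conj_of_isom hJ.det hxJ
  show (x : Matrix (Fin n) (Fin n) F).map σ = G⁻¹ * J * (x : Matrix (Fin n) (Fin n) F) * (J⁻¹ * G)
  calc (x : Matrix (Fin n) (Fin n) F).map σ
      = G⁻¹ * (J * J⁻¹) * G * (x : Matrix (Fin n) (Fin n) F).map σ := by
        rw [hJ2, mul_one, hG1, one_mul]
    _ = G⁻¹ * J * ((x : Matrix (Fin n) (Fin n) F) * J⁻¹ * (x : Matrix (Fin n) (Fin n) F)ᵀ) * G *
          (x : Matrix (Fin n) (Fin n) F).map σ := by rw [hinv]; simp only [mul_assoc]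
    _ = G⁻¹ * J * (x : Matrix (Fin n) (Fin n) F) * J⁻¹ * ((x : Matrix (Fin n) (Fin n) F)ᵀ * G *
          (x : Matrix (Fin n) (Fin n) F).map σ) := by simp only [mul_assoc]
    _ = G⁻¹ * J * (x : Matrix (Fin n) (Fin n) F) * (J⁻¹ * G) := by rw [hxG]; simp only [mul_assoc]

/-- (U3) the fixed field of a non-trivial automorphism is a proper subfield. -/
theorem exists_fixed_subfield (σ : F ≃+* F) (hσ : σ ≠ RingEquiv.refl F) :
    ∃ F₀ : Subfield F, F₀ ≠ ⊤ ∧ ∀ c : F, c ∈ F₀ ↔ σ c = c := by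
  let F₀ : Subfield F :=
    { carrier := {c | σ c = c}
      mul_mem' := by
        intro a b ha hb
        show σ (a * b) = a * b
        rw [map_mul, ha, hb]
      one_mem' := map_one σ
      add_mem' := by
        intro a b ha hb
        show σ (a + b) = a + b
        rw [map_add, ha, hb]
      zero_mem' := map_zero σ
      neg_mem' := by
        intro a ha
        show σ (-a) = -a
        rw [map_neg, ha]
      inv_mem' := by
        intro a ha
        show σ a⁻¹ = a⁻¹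
        rw [map_inv₀, ha] }
  refine ⟨F₀, ?_, fun c => Iff.rfl⟩
  intro htop
  apply hσ
  ext c
  have hc : c ∈ F₀ := by rw [htop]; trivial
  exact hc

end Cfsg.Agent.Lib.Helper11.SpAschLeaf
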