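import Cfsg.Agent.Lib.Helper7.ChevOrdA
import Cfsg.Agent.Lib.Helper7.ChevWeylPerm
import Cfsg.Agent.Lib.Helper7.ChevCoef

/-! Steinberg's presentation, part A (helper11): abstract groups generated by elements `x r t`
subject to the relations (R1), (R2) and mapping to the Chevalley group; the map is injective on the
subgroups generated by the root elements of the roots on the positive side of a linear functional. -/

set_option autoImplicit false

namespace Cfsg.Agent.Lib.Helper11.StPres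

open Cfsg Cfsg.Lie Matrix
open Cfsg.Agent.Lib.Helper7

/-- the product of a word in the generators -/
def wordG {K : Type*} {Γ : Type*} [Group Γ] (x : ℕ → K → Γ) (w : List (ℕ × K)) : Γ :=
  (w.map fun p => x p.1 p.2).prod

theorem wordG_nil {K : Type*} {Γ : Type*} [Group Γ] (x : ℕ → K → Γ) : wordG x [] = 1 := rfl

theorem wordG_cons {K : Type*} {Γ : Type*} [Group Γ] (x : ℕ → K → Γ) (p : ℕ × K) (w : List (ℕ × K)) :
    wordG x (p :: w) = x p.1 p.2 * wordG x w := by
  unfold wordG; rw [List.map_cons, List.prod_cons]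

theorem wordG_append {K : Type*} {Γ : Type*} [Group Γ] (x : ℕ → K → Γ) (w w' : List (ℕ × K)) :
    wordG x (w ++ w') = wordG x w * wordG x w' := by
  unfold wordG; rw [List.map_append, List.prod_append]

theorem wordG_mem {K : Type*} {Γ : Type*} [Group Γ] (x : ℕ → K → Γ) (P : Subgroup Γ) (w : List (ℕ × K))
    (h : ∀ p ∈ w, x p.1 p.2 ∈ P) : wordG x w ∈ P := by
  unfold wordG
  apply Subgroup.list_prod_mem
  intro g hg
  rw [List.mem_map] at hg
  obtain ⟨p, hp, rfl⟩ := hg
  exact h p hp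

/-- a group with elements `x r t` satisfying the relations (R1) and (R2), with a homomorphism to the
Chevalley group mapping `x r t` to the root element `x_r(t)` -/
structure StData (D : ChevalleyDatum) (hD : D ∈ [chevG2, chevB2, chevD4, chevF4, chevE6, chevE7, chevE8])
    (K : Type*) [Field K] (Γ : Type*) [Group Γ] where
  x : ℕ → K → Γ
  x_add : ∀ r, r < D.nroots → ∀ t u : K, x r t * x r u = x r (t + u)
  x_comm : ∀ r s, r < D.nroots → s < D.nroots → s ≠ r → s ≠ D.neg r → ∀ t u : K,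
    x s u * x r t = x r t * x s u * wordG x (D.commWord K r s t u)
  θ : Γ →* GL D.Idx K
  θ_x : ∀ r, r < D.nroots → ∀ t : K, θ (x r t) = xGL D hD K r t
  gen : Subgroup.closure {g | ∃ r, r < D.nroots ∧ ∃ t : K, g = x r t} = ⊤

section
variable {D : ChevalleyDatum} {hD : D ∈ [chevG2, chevB2, chevD4, chevF4, chevE6, chevE7, chevE8]}
variable {K : Type*} [Field K] {Γ : Type*} [Group Γ] (S : StData D hD K Γ)

namespace StData

theorem x_zero (r : ℕ) (hr : r < D.nroots) : S.x r 0 = 1 := by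
  have := S.x_add r hr 0 0
  rw [add_zero] at this
  exact mul_eq_left.mp this

theorem x_inv (r : ℕ) (hr : r < D.nroots) (t : K) : (S.x r t)⁻¹ = S.x r (-t) := by
  rw [inv_eq_iff_mul_eq_one, S.x_add r hr, add_neg_cancel, S.x_zero r hr]

theorem θ_word (w : List (ℕ × K)) (hw : ∀ p ∈ w, p.1 < D.nroots) :
    S.θ (wordG S.x w) = wordGL D hD K w := by
  induction w with
  | nil => simp [wordG, wordGL]
  | cons p w ih =>
    rw [wordG_cons, map_mul, ih (fun q hq => hw q (List.mem_cons_of_mem _ hq)),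
      S.θ_x p.1 (hw p List.mem_cons_self)]
    unfold wordGL
    rw [List.map_cons, List.prod_cons]

/-- `x_q(t)⁻¹ x_s(u) x_q(t) = x_s(u) ∏ …` -/
theorem x_conj (q s : ℕ) (hq : q < D.nroots) (hs : s < D.nroots) (hsq : s ≠ q) (hsn : s ≠ D.neg q)
    (t u : K) :
    (S.x q t)⁻¹ * S.x s u * S.x q t = S.x s u * wordG S.x (D.commWord K q s t u) := by
  rw [mul_assoc, S.x_comm q s hq hs hsq hsn t u]
  group

/-- the subgroup generated by the root elements of the roots `r` with `c < A r` -/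
def XA (A : ℕ → ℤ) (c : ℤ) : Subgroup Γ :=
  Subgroup.closure {g | ∃ r, r < D.nroots ∧ c < A r ∧ ∃ t : K, g = S.x r t}

theorem x_mem_XA (A : ℕ → ℤ) (c : ℤ) (r : ℕ) (hr : r < D.nroots) (h : c < A r) (t : K) :
    S.x r t ∈ S.XA A c :=
  Subgroup.subset_closure ⟨r, hr, h, t, rfl⟩

theorem XA_anti (A : ℕ → ℤ) {c c' : ℤ} (h : c ≤ c') : S.XA A c' ≤ S.XA A c := by
  apply Subgroup.closure_mono
  rintro g ⟨r, hr, hc, t, rfl⟩
  exact ⟨r, hr, by omega, t, rfl⟩


/-- `x_{r0}` conjugates the generators of `XA A c` into `XA A c` when `A r0 = c ≥ 1` -/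
theorem conj_mem_XA {A : ℕ → ℤ} (hA : ChainAdd D A) (c : ℤ) (hc : 1 ≤ c) (r0 : ℕ) (hr0 : r0 < D.nroots)
    (h0 : A r0 = c) (t : K) (r : ℕ) (hr : r < D.nroots) (hcr : c < A r) (u : K) :
    (S.x r0 t)⁻¹ * S.x r u * S.x r0 t ∈ S.XA A c := by
  have hN := negOK_of_mem D hD r0 hr0
  have hnegA : A (D.neg r0) = - A r0 := hA.negA r0 hr0 hN.1
  have hsq : r ≠ r0 := by rintro rfl; omega
  have hsn : r ≠ D.neg r0 := by rintro rfl; omega
  rw [S.x_conj r0 r hr0 hr hsq hsn]
  apply Subgroup.mul_mem _ (S.x_mem_XA A c r hr hcr u)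
  apply wordG_mem
  intro p hp
  unfold ChevalleyDatum.commWord at hp
  rw [List.mem_map] at hp
  obtain ⟨e, he, rfl⟩ := hp
  obtain ⟨he1, hi, hj, hlin⟩ := hA.commTerms D hD r0 r hr0 hr e he
  apply S.x_mem_XA A c e.1 he1
  have h1 : A r0 ≤ e.2.2.1 * A r0 := by
    have : (1 : ℤ) ≤ e.2.2.1 := by exact_mod_cast hi
    nlinarith
  have h2 : A r ≤ e.2.2.2 * A r := by
    have : (1 : ℤ) ≤ e.2.2.2 := by exact_mod_cast hj
    nlinarith
  omega

/-- every element of `XA A (c-1)` is of the form `x_{r0}(t) k` with `k ∈ XA A c`, when `r0` is the only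
root with `A r0 = c` -/
theorem exists_factor_XA {A : ℕ → ℤ} (hA : ChainAdd D A) (c : ℤ) (hc : 1 ≤ c) (r0 : ℕ) (hr0 : r0 < D.nroots)
    (h0 : A r0 = c) (huniq : ∀ r, r < D.nroots → A r = c → r = r0) (g : Γ) (hg : g ∈ S.XA A (c - 1)) :
    ∃ (t : K) (k : Γ), k ∈ S.XA A c ∧ g = S.x r0 t * k := by
  unfold XA at hg
  induction hg using Subgroup.closure_induction_left with
  | one => exact ⟨0, 1, Subgroup.one_mem _, by rw [S.x_zero r0 hr0, one_mul]⟩
  | mul_left y hy z _ ih =>
    obtain ⟨t, k, hk, rfl⟩ := ih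
    obtain ⟨r, hr, hcr, u, rfl⟩ := hy
    by_cases hrc : A r = c
    · have := huniq r hr hrc
      subst this
      exact ⟨u + t, k, hk, by rw [← mul_assoc, S.x_add r hr]⟩
    · have hcr' : c < A r := by omega
      refine ⟨t, (S.x r0 t)⁻¹ * S.x r u * S.x r0 t * k, ?_, by group⟩
      exact Subgroup.mul_mem _ (S.conj_mem_XA hA c hc r0 hr0 h0 t r hr hcr' u) hk
  | inv_mul_cancel y hy z _ ih =>
    obtain ⟨t, k, hk, rfl⟩ := ih
    obtain ⟨r, hr, hcr, u, rfl⟩ := hy
    rw [S.x_inv r hr]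
    by_cases hrc : A r = c
    · have := huniq r hr hrc
      subst this
      exact ⟨-u + t, k, hk, by rw [← mul_assoc, S.x_add r hr]⟩
    · have hcr' : c < A r := by omega
      refine ⟨t, (S.x r0 t)⁻¹ * S.x r (-u) * S.x r0 t * k, ?_, by group⟩
      exact Subgroup.mul_mem _ (S.conj_mem_XA hA c hc r0 hr0 h0 t r hr hcr' (-u)) hk


/-- the image of `XA A c` is unitriangular of level `c + 1` -/
theorem θ_XA_le {A : ℕ → ℤ} (hA : ChainAdd D A) (c : ℤ) (m : ℕ) (hm : 1 ≤ m) (hmc : (m : ℤ) = c + 1) :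
    (S.XA A c).map S.θ ≤
      unitriSubgroup (R := K) (lvlA D A) (2 * bndA D A + 1) (lvlA_lt D A) m hm := by
  rw [Subgroup.map_le_iff_le_comap]
  unfold XA
  rw [Subgroup.closure_le]
  rintro g ⟨r, hr, hcr, t, rfl⟩
  show Level (lvlA D A) m (((S.θ (S.x r t) : GL D.Idx K) : Matrix D.Idx D.Idx K) - 1)
  rw [S.θ_x r hr, coe_xGL, x_eq_xMat D K r hr]
  apply xMat_level D hD K hA ⟨r, hr⟩ t m hm
  show (m : ℤ) ≤ A r
  omega

end StData

/-- a root element `x_r(d)` which is unitriangular of level `A r + 1` is trivial -/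
theorem eq_zero_of_xGL_level {A : ℕ → ℤ} (hA : ChainAdd D A) (r : ℕ) (hr : r < D.nroots) (m : ℕ)
    (hm : 1 ≤ m) (hmA : (m : ℤ) = A r + 1) (d : K)
    (h : xGL D hD K r d ∈ unitriSubgroup (R := K) (lvlA D A) (2 * bndA D A + 1) (lvlA_lt D A) m hm) :
    d = 0 := by
  obtain ⟨w, hO⟩ := exists_ordW D hD
  have hlev : Level (lvlA D A) m (((xGL D hD K r d : GL D.Idx K) : Matrix D.Idx D.Idx K) - 1) := h
  rw [coe_xGL, x_eq_xMat D K r hr] at hlev
  have hN := negOK_of_mem D hD r hr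
  have hnegA : A (D.negIdx.getD r 0) = - A r := hA.negA r hr hN.1
  have hne : (⟨D.negIdx.getD r 0, hN.1⟩ : Fin D.nroots) ≠ ⟨r, hr⟩ := by
    intro hh; exact hN.2 (Fin.mk.inj_iff.mp hh)
  have hent : ∀ j : Fin D.rank, (((D.coroot.getD r #[]).getD j.val 0 : ℤ) : K) * d = 0 := by
    intro j
    have hlt : lvlA D A (Sum.inl j) < lvlA D A (Sum.inr ⟨D.negIdx.getD r 0, hN.1⟩) + m := by
      have c1 := lvlA_cast D A (Sum.inl j)
      have c2 := lvlA_cast D A (Sum.inr ⟨D.negIdx.getD r 0, hN.1⟩)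
      have w1 : wtF D A (Sum.inl j) = 0 := rfl
      have w2 : wtF D A (Sum.inr ⟨D.negIdx.getD r 0, hN.1⟩) = A (D.negIdx.getD r 0) := rfl
      omega
    have := hlev _ _ hlt
    rw [Matrix.sub_apply, Matrix.one_apply, if_neg (by simp), sub_zero,
      xMat_inl_neg D K ⟨r, hr⟩ d ⟨D.negIdx.getD r 0, hN.1⟩ hne rfl j] at this
    exact this
  have hg := gcdL_cast_mul_eq_zero d (corL D r) (by
    intro c hc
    unfold corL at hc
    rw [List.mem_map] at hc
    obtain ⟨j, hj, rfl⟩ := hc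
    exact hent ⟨j, List.mem_range.mp hj⟩)
  rw [hO.prim r hr] at hg
  simpa using hg

namespace StData


/-- `θ` is injective on `XA A c` for `c ≥ 0`, when `A` is injective on the roots -/
theorem inj_XA_aux {A : ℕ → ℤ} (hA : ChainAdd D A)
    (hinj : ∀ r s, r < D.nroots → s < D.nroots → A r = A s → r = s) :
    ∀ (n : ℕ) (c : ℤ), 0 ≤ c → (bndA D A : ℤ) ≤ c + n → ∀ g ∈ S.XA A c, S.θ g = 1 → g = 1 := by
  intro n
  induction n with
  | zero =>
    intro c hc hb g hg _
    have : S.XA A c = ⊥ := by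
      unfold XA
      rw [Subgroup.closure_eq_bot_iff]
      rintro g ⟨r, hr, hcr, t, rfl⟩
      exfalso
      have := natAbs_le_bndA D A r hr
      omega
    rw [this, Subgroup.mem_bot] at hg
    exact hg
  | succ n ih =>
    intro c hc hb g hg hθ
    have ih' := ih (c + 1) (by omega) (by push_cast at hb ⊢; omega)
    by_cases hex : ∃ r0, r0 < D.nroots ∧ A r0 = c + 1
    · obtain ⟨r0, hr0, h0⟩ := hex
      have hg' : g ∈ S.XA A (c + 1 - 1) := by rwa [add_sub_cancel_right]
      obtain ⟨t, k, hk, rfl⟩ := S.exists_factor_XA hA (c + 1) (by omega) r0 hr0 h0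
        (fun r hr hrc => hinj r r0 hr hr0 (by rw [hrc, h0])) g hg'
      obtain ⟨m, hm⟩ : ∃ m : ℕ, (m : ℤ) = c + 1 + 1 := ⟨(c + 1 + 1).toNat, Int.toNat_of_nonneg (by omega)⟩
      have hm1 : 1 ≤ m := by omega
      have hkθ : S.θ k ∈ unitriSubgroup (R := K) (lvlA D A) (2 * bndA D A + 1) (lvlA_lt D A) m hm1 :=
        S.θ_XA_le hA (c + 1) m hm1 hm (Subgroup.mem_map_of_mem _ hk)
      have hx : xGL D hD K r0 t = (S.θ k)⁻¹ := by
        rw [map_mul, S.θ_x r0 hr0] at hθ
        exact eq_inv_of_mul_eq_one_left hθ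
      have ht : t = 0 := by
        apply eq_zero_of_xGL_level (hD := hD) hA r0 hr0 m hm1 (by omega) t
        rw [hx]
        exact Subgroup.inv_mem _ hkθ
      subst ht
      rw [S.x_zero r0 hr0, one_mul] at hθ ⊢
      exact ih' k hk hθ
    · have : S.XA A c = S.XA A (c + 1) := by
        apply le_antisymm _ (S.XA_anti A (by omega))
        apply Subgroup.closure_mono
        rintro g ⟨r, hr, hcr, t, rfl⟩
        refine ⟨r, hr, ?_, t, rfl⟩
        have : A r ≠ c + 1 := fun h => hex ⟨r, hr, h⟩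
        omega
      rw [this] at hg
      exact ih' g hg hθ

theorem inj_XA {A : ℕ → ℤ} (hA : ChainAdd D A)
    (hinj : ∀ r s, r < D.nroots → s < D.nroots → A r = A s → r = s) (g : Γ) (hg : g ∈ S.XA A 0)
    (h : S.θ g = 1) : g = 1 :=
  S.inj_XA_aux hA hinj (bndA D A) 0 le_rfl (by omega) g hg h

/-- the subgroup generated by the root elements of the roots on the positive side of `f` -/
def XF (f : ℕ → ℤ) : Subgroup Γ := S.XA f 0

/-- `θ` is injective on the subgroup generated by the root elements of the roots on the positive side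
of an additive functional -/
theorem inj_XF {f : ℕ → ℤ} (hf : ChainAdd D f) (g g' : Γ) (hg : g ∈ S.XF f) (hg' : g' ∈ S.XF f)
    (h : S.θ g = S.θ g') : g = g' := by
  obtain ⟨w0, hO⟩ := exists_ordW D hD
  set N : ℤ := 2 * (bndA D (linF D w0) : ℤ) + 1 with hN
  set A : ℕ → ℤ := fun r => N * f r + linF D w0 r with hAdef
  have hA : ChainAdd D A := (hf.smul N).add (chainAdd_linF D hD w0)
  have hle : S.XF f ≤ S.XA A 0 := by
    apply Subgroup.closure_mono
    rintro g ⟨r, hr, hcr, t, rfl⟩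
    refine ⟨r, hr, ?_, t, rfl⟩
    have := natAbs_le_bndA D (linF D w0) r hr
    show 0 < N * f r + linF D w0 r
    have h1 : N ≤ N * f r := by nlinarith
    omega
  have hinj : ∀ r s, r < D.nroots → s < D.nroots → A r = A s → r = s := by
    intro r s hr hs hrs
    have h1 := natAbs_le_bndA D (linF D w0) r hr
    have h2 := natAbs_le_bndA D (linF D w0) s hs
    have h3 : N * (f r - f s) = linF D w0 s - linF D w0 r := by
      have hrs' : N * f r + linF D w0 r = N * f s + linF D w0 s := hrs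
      linarith
    have h4 : f r - f s = 0 := by
      by_contra hne
      have h5 : N ≤ |N * (f r - f s)| := by
        rw [abs_mul]
        have : 1 ≤ |f r - f s| := Int.one_le_abs hne
        have hNpos : 0 ≤ |N| := abs_nonneg N
        have : |N| = N := abs_of_nonneg (by omega)
        nlinarith
      rw [h3] at h5
      have h6 : |linF D w0 s - linF D w0 r| ≤ 2 * (bndA D (linF D w0) : ℤ) := by
        rw [abs_le]; omega
      omega
    have h7 : linF D w0 r = linF D w0 s := by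
      rw [h4, mul_zero] at h3; omega
    by_contra hne
    rcases Nat.lt_or_gt_of_ne hne with hlt | hlt
    · have := hO.mono r s hlt hs; omega
    · have := hO.mono s r hlt hr; omega
  have key := S.inj_XA hA hinj (g * g'⁻¹) (Subgroup.mul_mem _ (hle hg) (Subgroup.inv_mem _ (hle hg')))
    (by rw [map_mul, map_inv, h, mul_inv_cancel])
  exact mul_inv_eq_one.mp key

theorem x_mem_XF (f : ℕ → ℤ) (r : ℕ) (hr : r < D.nroots) (h : 0 < f r) (t : K) : S.x r t ∈ S.XF f :=
  S.x_mem_XA f 0 r hr h t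

/-- the subgroup generated by the root elements of the roots in the kernel of `f` -/
def ZF (f : ℕ → ℤ) : Subgroup Γ :=
  Subgroup.closure {g | ∃ q, q < D.nroots ∧ f q = 0 ∧ ∃ t : K, g = S.x q t}

theorem x_mem_ZF (f : ℕ → ℤ) (q : ℕ) (hq : q < D.nroots) (h : f q = 0) (t : K) : S.x q t ∈ S.ZF f :=
  Subgroup.subset_closure ⟨q, hq, h, t, rfl⟩

theorem conj_gen_mem_XF {f : ℕ → ℤ} (hf : ChainAdd D f) (q : ℕ) (hq : q < D.nroots) (h0 : f q = 0) (t : K)
    (r : ℕ) (hr : r < D.nroots) (hfr : 0 < f r) (u : K) :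
    (S.x q t)⁻¹ * S.x r u * S.x q t ∈ S.XF f := by
  have hN := negOK_of_mem D hD q hq
  have hnegA : f (D.neg q) = - f q := hf.negA q hq hN.1
  have hsq : r ≠ q := by rintro rfl; omega
  have hsn : r ≠ D.neg q := by rintro rfl; omega
  rw [S.x_conj q r hq hr hsq hsn]
  apply Subgroup.mul_mem _ (S.x_mem_XF f r hr hfr u)
  apply wordG_mem
  intro p hp
  unfold ChevalleyDatum.commWord at hp
  rw [List.mem_map] at hp
  obtain ⟨e, he, rfl⟩ := hp
  obtain ⟨he1, hi, hj, hlin⟩ := hf.commTerms D hD q r hq hr e he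
  apply S.x_mem_XF f e.1 he1
  have h2 : f r ≤ e.2.2.2 * f r := by
    have : (1 : ℤ) ≤ e.2.2.2 := by exact_mod_cast hj
    nlinarith
  rw [hlin, h0, mul_zero, zero_add]
  omega

/-- the root elements of the roots in the kernel of `f` normalise `XF f` -/
theorem ZF_le_normalizer {f : ℕ → ℤ} (hf : ChainAdd D f) :
    S.ZF f ≤ Subgroup.normalizer (S.XF f : Set Γ) := by
  unfold ZF
  rw [Subgroup.closure_le]
  rintro n ⟨q, hq, h0, t, rfl⟩
  unfold XF XA
  apply mem_normalizer_closure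
  · rintro y ⟨r, hr, hfr, u, rfl⟩
    have := S.conj_gen_mem_XF hf q hq h0 (-t) r hr hfr u
    rwa [← S.x_inv q hq, inv_inv] at this
  · rintro y ⟨r, hr, hfr, u, rfl⟩
    have := S.conj_gen_mem_XF hf q hq h0 t r hr hfr u
    rwa [inv_inv]

theorem ZF_conj_mem {f : ℕ → ℤ} (hf : ChainAdd D f) (n : Γ) (hn : n ∈ S.ZF f) (g : Γ) (hg : g ∈ S.XF f) :
    n * g * n⁻¹ ∈ S.XF f :=
  (Subgroup.mem_set_normalizer_iff.mp (S.ZF_le_normalizer hf hn) g).mp hg

/-- transfer of a conjugation formula from the Chevalley group: if `n` is a product of root elements of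
roots in the kernel of `f` and `s`, `s'` are on the positive side -/
theorem conj_transfer {f : ℕ → ℤ} (hf : ChainAdd D f) (n : Γ) (hn : n ∈ S.ZF f) (s s' : ℕ)
    (hs : s < D.nroots) (hs' : s' < D.nroots) (hfs : 0 < f s) (hfs' : 0 < f s') (u v : K)
    (h : S.θ n * xGL D hD K s u * (S.θ n)⁻¹ = xGL D hD K s' v) :
    n * S.x s u * n⁻¹ = S.x s' v := by
  apply S.inj_XF hf _ _ (S.ZF_conj_mem hf n hn _ (S.x_mem_XF f s hs hfs u)) (S.x_mem_XF f s' hs' hfs' v)
  rw [map_mul, map_mul, map_inv, S.θ_x s hs, S.θ_x s' hs', h]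

end StData

end

end Cfsg.Agent.Lib.Helper11.StPres
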