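import Cfsg.Agent.Lib.Helper7.ChevLin
import Cfsg.Agent.Lib.Helper7.ChevCoef

/-! Steinberg's presentation: table checks (helper11). For every fundamental root `p` a functional
vanishing on `p` and positive on the other positive roots, and a certificate expressing the root
elements of `p` through a commutator of root elements of roots different from `±p`. -/

set_option autoImplicit false
set_option maxRecDepth 100000

namespace Cfsg.Agent.Lib.Helper11.StPres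

open Cfsg Cfsg.Lie
open Cfsg.Agent.Lib.Helper7

/-- check for the weights of the `i`-th fundamental functional -/
def fundWOKB (D : ChevalleyDatum) (i : ℕ) (w : List ℤ) : Bool :=
  decide (linF D w (D.simple i) = 0) &&
  (List.range D.nroots).all fun r => !decide (D.IsPosRoot r) || r == D.simple i || decide (0 < linF D w r)

structure FundWFacts (D : ChevalleyDatum) (i : ℕ) (w : List ℤ) : Prop where
  zero : linF D w (D.simple i) = 0
  pos : ∀ r, D.IsPosRoot r → r ≠ D.simple i → 0 < linF D w r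

theorem fundWFacts_of_OKB (D : ChevalleyDatum) (i : ℕ) (w : List ℤ) (h : fundWOKB D i w = true) :
    FundWFacts D i w := by
  unfold fundWOKB at h
  simp only [Bool.and_eq_true, decide_eq_true_eq, List.all_eq_true, List.mem_range, Bool.or_eq_true,
    Bool.not_eq_true', decide_eq_false_iff_not, beq_iff_eq] at h
  refine ⟨h.1, fun r hr hne => ?_⟩
  rcases h.2 r hr.1 with (h' | h') | h'
  · exact absurd hr h'
  · exact absurd h' hne
  · exact h'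

def fundAllB (D : ChevalleyDatum) (W : List (List ℤ)) : Bool :=
  (List.range D.rank).all fun i => fundWOKB D i (W.getD i [])

/-- the functional `f ∘ w_p` for `f = linF D w` -/
def gF (D : ChevalleyDatum) (i : ℕ) (w : List ℤ) (r : ℕ) : ℤ :=
  linF D w r - D.cartan i r * linF D w (D.simple i)

/-- rank one certificate check: `(a, b, k, w)` -/
def r1OKB (D : ChevalleyDatum) (i : ℕ) (c : ℕ × ℕ × ℕ × List ℤ) : Bool :=
  decide (c.1 < D.nroots) && decide (c.2.1 < D.nroots) && c.1 != D.simple i && c.1 != D.neg (D.simple i) &&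
  c.2.1 != D.simple i && c.2.1 != D.neg (D.simple i) && c.2.1 != c.1 && c.2.1 != D.neg c.1 &&
  (match (D.commTerms c.1 c.2.1)[c.2.2.1]? with
   | none => false
   | some e => e.1 == D.simple i && (e.2.1 == 1 || e.2.1 == -1) && (e.2.2.1 == 1 || e.2.2.2 == 1)) &&
  (((D.commTerms c.1 c.2.1).take c.2.2.1 ++ (D.commTerms c.1 c.2.1).drop (c.2.2.1 + 1)).all fun e =>
    e.1 != D.simple i && e.1 != D.neg (D.simple i)) &&
  decide (0 < gF D i c.2.2.2 c.1) && decide (0 < gF D i c.2.2.2 c.2.1)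

structure R1Facts (D : ChevalleyDatum) (i : ℕ) (a b k : ℕ) (w : List ℤ) : Prop where
  ha : a < D.nroots
  hb : b < D.nroots
  hap : a ≠ D.simple i
  hanp : a ≠ D.neg (D.simple i)
  hbp : b ≠ D.simple i
  hbnp : b ≠ D.neg (D.simple i)
  hba : b ≠ a
  hbna : b ≠ D.neg a
  term : ∃ e, (D.commTerms a b)[k]? = some e ∧ e.1 = D.simple i ∧ (e.2.1 = 1 ∨ e.2.1 = -1) ∧
    (e.2.2.1 = 1 ∨ e.2.2.2 = 1)
  others : ∀ e ∈ (D.commTerms a b).take k ++ (D.commTerms a b).drop (k + 1),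
    e.1 ≠ D.simple i ∧ e.1 ≠ D.neg (D.simple i)
  ga : 0 < gF D i w a
  gb : 0 < gF D i w b

theorem r1Facts_of_OKB (D : ChevalleyDatum) (i : ℕ) (c : ℕ × ℕ × ℕ × List ℤ) (h : r1OKB D i c = true) :
    R1Facts D i c.1 c.2.1 c.2.2.1 c.2.2.2 := by
  unfold r1OKB at h
  simp only [Bool.and_eq_true, decide_eq_true_eq, bne_iff_ne, ne_eq, List.all_eq_true] at h
  obtain ⟨⟨⟨⟨⟨⟨⟨⟨⟨⟨⟨h1, h2⟩, h3⟩, h4⟩, h5⟩, h6⟩, h7⟩, h8⟩, h9⟩, h10⟩, h11⟩, h12⟩ := h
  refine ⟨h1, h2, h3, h4, h5, h6, h7, h8, ?_, ?_, h11, h12⟩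
  · cases hk : (D.commTerms c.1 c.2.1)[c.2.2.1]? with
    | none => rw [hk] at h9; exact absurd h9 (by simp)
    | some e =>
      rw [hk] at h9
      simp only [Bool.and_eq_true, beq_iff_eq, Bool.or_eq_true] at h9
      exact ⟨e, rfl, h9.1.1, h9.1.2, h9.2⟩
  · intro e he
    exact h10 e he

def r1AllB (D : ChevalleyDatum) (C : List (ℕ × ℕ × ℕ × List ℤ)) : Bool :=
  (List.range D.rank).all fun i => r1OKB D i (C.getD i (0, 0, 0, []))

def fundW_G2 : List (List ℤ) := [[1, 2], [2, 3]]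
def fundW_B2 : List (List ℤ) := [[1, 2], [2, 2]]
def fundW_D4 : List (List ℤ) := [[4, 8, 5, 5], [4, 6, 4, 4], [5, 8, 4, 5], [5, 8, 5, 4]]
def fundW_F4 : List (List ℤ) := [[6, 12, 17, 9], [5, 9, 13, 7], [6, 11, 15, 8], [7, 13, 18, 9]]
def fundW_E6 : List (List ℤ) := [[20, 30, 40, 57, 41, 22], [21, 27, 39, 54, 39, 21], [19, 27, 35, 51, 37, 20],
  [18, 24, 33, 45, 33, 18], [20, 27, 37, 51, 35, 19], [22, 30, 41, 57, 40, 20]]
def fundW_E7 : List (List ℤ) := [[30, 45, 60, 88, 69, 48, 25], [30, 42, 58, 84, 66, 46, 24],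
  [28, 41, 54, 80, 63, 44, 23], [26, 37, 50, 72, 57, 40, 21], [28, 40, 54, 78, 60, 42, 22],
  [30, 43, 58, 84, 65, 44, 23], [32, 46, 62, 90, 70, 48, 24]]
def fundW_E8 : List (List ℤ) := [[42, 63, 84, 125, 102, 78, 53, 27], [41, 60, 81, 120, 98, 75, 51, 26],
  [39, 58, 77, 115, 94, 72, 49, 25], [36, 53, 71, 105, 86, 66, 45, 23], [38, 56, 75, 111, 90, 69, 47, 24],
  [40, 59, 79, 117, 95, 72, 49, 25], [42, 62, 83, 123, 100, 76, 51, 26], [44, 65, 87, 129, 105, 80, 54, 27]]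

theorem fundAllB_G2 : fundAllB chevG2 fundW_G2 = true := by decide +kernel
theorem fundAllB_B2 : fundAllB chevB2 fundW_B2 = true := by decide +kernel
theorem fundAllB_D4 : fundAllB chevD4 fundW_D4 = true := by decide +kernel
theorem fundAllB_F4 : fundAllB chevF4 fundW_F4 = true := by decide +kernel
theorem fundAllB_E6 : fundAllB chevE6 fundW_E6 = true := by decide +kernel
theorem fundAllB_E7 : fundAllB chevE7 fundW_E7 = true := by decide +kernel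
theorem fundAllB_E8 : fundAllB chevE8 fundW_E8 = true := by decide +kernel

def r1C_G2 : List (ℕ × ℕ × ℕ × List ℤ) := [(0, 9, 1, [-2, -1]), (1, 11, 0, [0, -1])]
def r1C_B2 : List (ℕ × ℕ × ℕ × List ℤ) := [(1, 7, 0, [-2, -1]), (0, 6, 1, [-1, -3])]
def r1C_D4 : List (ℕ × ℕ × ℕ × List ℤ) := [(6, 22, 0, [-1, 0, 0, 0]), (1, 23, 0, [0, -1, 0, 0]),
  (3, 22, 0, [0, 0, -1, 0]), (2, 22, 0, [0, 0, 0, -1])]
def r1C_F4 : List (ℕ × ℕ × ℕ × List ℤ) := [(7, 44, 0, [-1, 0, 0, 0]), (8, 40, 0, [0, -1, 0, 0]),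
  (2, 46, 0, [0, 0, -1, 0]), (1, 47, 0, [0, 0, 0, -1])]
def r1C_E6 : List (ℕ × ℕ × ℕ × List ℤ) := [(16, 66, 0, [-1, 0, 0, 0, 0, 0]), (1, 71, 0, [0, -1, 0, 0, 0, 0]),
  (5, 69, 0, [0, 0, -1, 0, 0, 0]), (2, 70, 0, [0, 0, 0, -1, 0, 0]), (3, 69, 0, [0, 0, 0, 0, -1, 0]),
  (4, 68, 0, [0, 0, 0, 0, 0, -1])]
def r1C_E7 : List (ℕ × ℕ × ℕ × List ℤ) := [(1, 125, 0, [-1, 0, 0, 0, 0, 0, 0]), (7, 122, 0, [0, -1, 0, 0, 0, 0, 0]),
  (2, 124, 0, [0, 0, -1, 0, 0, 0, 0]), (3, 123, 0, [0, 0, 0, -1, 0, 0, 0]),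
  (4, 122, 0, [0, 0, 0, 0, -1, 0, 0]), (5, 121, 0, [0, 0, 0, 0, 0, -1, 0]),
  (6, 120, 0, [0, 0, 0, 0, 0, 0, -1])]
def r1C_E8 : List (ℕ × ℕ × ℕ × List ℤ) := [(14, 233, 0, [-1, 0, 0, 0, 0, 0, 0, 0]), (7, 234, 0, [0, -1, 0, 0, 0, 0, 0, 0]),
  (6, 234, 0, [0, 0, -1, 0, 0, 0, 0, 0]), (5, 235, 0, [0, 0, 0, -1, 0, 0, 0, 0]),
  (4, 236, 0, [0, 0, 0, 0, -1, 0, 0, 0]), (3, 237, 0, [0, 0, 0, 0, 0, -1, 0, 0]),
  (2, 238, 0, [0, 0, 0, 0, 0, 0, -1, 0]), (1, 239, 0, [0, 0, 0, 0, 0, 0, 0, -1])]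

theorem r1AllB_G2 : r1AllB chevG2 r1C_G2 = true := by decide +kernel
theorem r1AllB_B2 : r1AllB chevB2 r1C_B2 = true := by decide +kernel
theorem r1AllB_D4 : r1AllB chevD4 r1C_D4 = true := by decide +kernel
theorem r1AllB_F4 : r1AllB chevF4 r1C_F4 = true := by decide +kernel
theorem r1AllB_E6 : r1AllB chevE6 r1C_E6 = true := by decide +kernel
theorem r1AllB_E7 : r1AllB chevE7 r1C_E7 = true := by decide +kernel
theorem r1AllB_E8 : r1AllB chevE8 r1C_E8 = true := by decide +kernel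

theorem exists_fundW (D : ChevalleyDatum)
    (hD : D ∈ [chevG2, chevB2, chevD4, chevF4, chevE6, chevE7, chevE8]) (i : ℕ) (hi : i < D.rank) :
    ∃ w : List ℤ, FundWFacts D i w := by
  have h : ∃ W, fundAllB D W = true :=
    mem_seven_cases (P := fun D => ∃ W, fundAllB D W = true)
      ⟨_, fundAllB_G2⟩ ⟨_, fundAllB_B2⟩ ⟨_, fundAllB_D4⟩ ⟨_, fundAllB_F4⟩ ⟨_, fundAllB_E6⟩
      ⟨_, fundAllB_E7⟩ ⟨_, fundAllB_E8⟩ D hD
  obtain ⟨W, hW⟩ := h
  unfold fundAllB at hW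
  rw [List.all_eq_true] at hW
  exact ⟨_, fundWFacts_of_OKB D i _ (hW i (List.mem_range.mpr hi))⟩

theorem exists_r1 (D : ChevalleyDatum)
    (hD : D ∈ [chevG2, chevB2, chevD4, chevF4, chevE6, chevE7, chevE8]) (i : ℕ) (hi : i < D.rank) :
    ∃ (a b k : ℕ) (w : List ℤ), R1Facts D i a b k w := by
  have h : ∃ C, r1AllB D C = true :=
    mem_seven_cases (P := fun D => ∃ C, r1AllB D C = true)
      ⟨_, r1AllB_G2⟩ ⟨_, r1AllB_B2⟩ ⟨_, r1AllB_D4⟩ ⟨_, r1AllB_F4⟩ ⟨_, r1AllB_E6⟩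
      ⟨_, r1AllB_E7⟩ ⟨_, r1AllB_E8⟩ D hD
  obtain ⟨C, hC⟩ := h
  unfold r1AllB at hC
  rw [List.all_eq_true] at hC
  exact ⟨_, _, _, _, r1Facts_of_OKB D i _ (hC i (List.mem_range.mpr hi))⟩

end Cfsg.Agent.Lib.Helper11.StPres
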