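import Cfsg.Agent.Lib.Helper11.StPresA
import Cfsg.Agent.Lib.Helper11.StPresTab

/-! Steinberg's presentation, part B (helper11): the elements `w̄_p(t)` of an abstract group with the
relations (R1), (R2) conjugate the root elements like the elements `n_p(t)` of the Chevalley group. -/

set_option autoImplicit false

namespace Cfsg.Agent.Lib.Helper11.StPres

open Cfsg Cfsg.Lie Matrix
open Cfsg.Agent.Lib.Helper7

theorem list_sum_sub_mul (L : List ℕ) (a b d : ℕ → ℤ) (c : ℤ) (h : ∀ k ∈ L, a k = b k - c * d k) :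
    (L.map a).sum = (L.map b).sum - c * (L.map d).sum := by
  induction L with
  | nil => simp
  | cons k L ih =>
    rw [List.map_cons, List.sum_cons, List.map_cons, List.sum_cons, List.map_cons, List.sum_cons,
      ih (fun j hj => h j (List.mem_cons_of_mem _ hj)), h k List.mem_cons_self]
    ring

section
variable {D : ChevalleyDatum} (hD : D ∈ [chevG2, chevB2, chevD4, chevF4, chevE6, chevE7, chevE8])
include hD

theorem linF_reflect (w : List ℤ) (i : ℕ) (hi : i < D.rank) (s : ℕ) (hs : s < D.nroots) :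
    linF D w (D.reflectRoot i s) = linF D w s - D.cartan i s * linF D w (D.simple i) := by
  have hC := conjFacts_of_mem D hD i hi
  unfold linF
  apply list_sum_sub_mul
  intro k hk
  rw [hC.carRefl k (List.mem_range.mp hk) s hs]
  ring

theorem chainAdd_gF (w : List ℤ) (i : ℕ) (hi : i < D.rank) : ChainAdd D (gF D i w) := by
  have h1 := chainAdd_linF D hD w
  have h2 := (chainAdd_cartan D i (hxFacts_of_mem D hD i hi)).smul (- linF D w (D.simple i))
  have h3 := h1.add h2
  have e : gF D i w = fun s => linF D w s + - linF D w (D.simple i) * D.cartan i s := by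
    funext s; unfold gF; ring
  rw [e]; exact h3

variable (K : Type*) [Field K]

/-- `n_p(t)` acts on the root subgroups like the reflection `w_p` -/
theorem actsAs_nGL (i : ℕ) (hi : i < D.rank) (t : K) (ht : t ≠ 0) :
    ActsAs D hD K (wordGL D hD K (D.nWord (D.simple i) t)) (D.reflectRoot i) := by
  have hF := fundFacts_of_mem D hD i hi
  rw [nGL_eq_hGL_mul]
  have hh : wordGL D hD K (D.hWord (D.simple i) t) ∈ D.diagonalSubgroup K := by
    apply Subgroup.subset_closure
    exact ⟨D.simple i, t, hF.hp, ht, coe_wordGL D hD K _⟩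
  have := ActsAs.mul D K (actsAs_diag D hD K _ hh) (actsAs_nFund D hD K i hi)
  exact this

end

section
variable {D : ChevalleyDatum} {hD : D ∈ [chevG2, chevB2, chevD4, chevF4, chevE6, chevE7, chevE8]}
variable {K : Type*} [Field K] {Γ : Type*} [Group Γ] (S : StData D hD K Γ)

namespace StData

/-- `w̄_r(t) = x̄_r(t) x̄_{-r}(-t⁻¹) x̄_r(t)` -/
def w (r : ℕ) (t : K) : Γ := S.x r t * S.x (D.neg r) (-t⁻¹) * S.x r t

theorem w_eq_word (r : ℕ) (t : K) : S.w r t = wordG S.x (D.nWord r t) := by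
  unfold w wordG ChevalleyDatum.nWord
  simp [mul_assoc]

theorem θ_w (r : ℕ) (hr : r < D.nroots) (t : K) : S.θ (S.w r t) = wordGL D hD K (D.nWord r t) := by
  have hN := negOK_of_mem D hD r hr
  rw [w_eq_word]
  apply S.θ_word
  intro p hp
  unfold ChevalleyDatum.nWord at hp
  simp only [List.mem_cons, List.not_mem_nil, or_false] at hp
  rcases hp with rfl | rfl | rfl
  · exact hr
  · exact hN.1
  · exact hr

theorem w_inv (r : ℕ) (hr : r < D.nroots) (t : K) : (S.w r t)⁻¹ = S.w r (-t) := by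
  have hN := negOK_of_mem D hD r hr
  unfold w
  rw [_root_.mul_inv_rev, _root_.mul_inv_rev, S.x_inv r hr, S.x_inv (D.neg r) hN.1, inv_neg, mul_assoc]

theorem w_mem_ZF {f : ℕ → ℤ} (hf : ChainAdd D f) (r : ℕ) (hr : r < D.nroots) (h0 : f r = 0) (t : K) :
    S.w r t ∈ S.ZF f := by
  have hN := negOK_of_mem D hD r hr
  have h1 : f (D.neg r) = 0 := by rw [hf.negA r hr hN.1, h0, neg_zero]
  exact Subgroup.mul_mem _ (Subgroup.mul_mem _ (S.x_mem_ZF f r hr h0 t) (S.x_mem_ZF f _ hN.1 h1 _))
    (S.x_mem_ZF f r hr h0 t)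

/-- conjugation by `w̄_p(t)` of the root elements of the roots `s ≠ ±p`: the formula of the Chevalley
group holds -/
theorem w_conj_ne (i : ℕ) (hi : i < D.rank) (t : K) (s : ℕ) (hs : s < D.nroots)
    (hsp : s ≠ D.simple i) (hsn : s ≠ D.neg (D.simple i)) (u v : K)
    (h : wordGL D hD K (D.nWord (D.simple i) t) * xGL D hD K s u *
      (wordGL D hD K (D.nWord (D.simple i) t))⁻¹ = xGL D hD K (D.reflectRoot i s) v) :
    S.w (D.simple i) t * S.x s u * (S.w (D.simple i) t)⁻¹ = S.x (D.reflectRoot i s) v := by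
  have hF := fundFacts_of_mem D hD i hi
  have hC := conjFacts_of_mem D hD i hi
  obtain ⟨w, hw⟩ := exists_fundW D hD i hi
  have hf := chainAdd_linF D hD w
  have hrefl : linF D w (D.reflectRoot i s) = linF D w s := by
    rw [linF_reflect hD w i hi s hs, hw.zero, mul_zero, sub_zero]
  rw [← S.θ_w _ hF.hp] at h
  rcases posOrNeg_of_mem D hD s hs with hpos | hneg
  · have hfs : 0 < linF D w s := hw.pos s hpos hsp
    exact S.conj_transfer hf _ (S.w_mem_ZF hf _ hF.hp hw.zero t) s _ hs (hC.wlt s hs) hfs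
      (by rw [hrefl]; exact hfs) u v h
  · have hNI := negInvOK_of_mem D hD s hs
    have hns : D.neg s ≠ D.simple i := by
      intro hh
      apply hsn
      rw [← hh]
      exact hNI.1.symm
    have hfs : 0 < linF D w (D.neg s) := hw.pos _ (hNI.2.2 hneg) hns
    rw [hf.negA s hs hNI.2.1] at hfs
    have hf' := hf.smul (-1)
    have h0' : (fun r => -1 * linF D w r) (D.simple i) = 0 := by
      show -1 * linF D w (D.simple i) = 0
      rw [hw.zero, mul_zero]
    exact S.conj_transfer hf' _ (S.w_mem_ZF hf' _ hF.hp h0' t) s _ hs (hC.wlt s hs)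
      (by show 0 < -1 * linF D w s; omega) (by show 0 < -1 * linF D w (D.reflectRoot i s); rw [hrefl]; omega)
      u v h


theorem reflectRoot_simple (i : ℕ) : D.reflectRoot i (D.simple i) = D.neg (D.simple i) := by
  unfold ChevalleyDatum.reflectRoot
  simp

theorem reflectRoot_neg_simple (i : ℕ) (h : D.neg (D.simple i) ≠ D.simple i) :
    D.reflectRoot i (D.neg (D.simple i)) = D.simple i := by
  unfold ChevalleyDatum.reflectRoot
  simp [h]

/-- conjugation by `w̄_p(t)` of the root elements of `p` -/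
theorem w_conj_self (i : ℕ) (hi : i < D.rank) (t : K) (ht : t ≠ 0) (z v : K)
    (h : wordGL D hD K (D.nWord (D.simple i) t) * xGL D hD K (D.simple i) z *
      (wordGL D hD K (D.nWord (D.simple i) t))⁻¹ = xGL D hD K (D.neg (D.simple i)) v) :
    S.w (D.simple i) t * S.x (D.simple i) z * (S.w (D.simple i) t)⁻¹ = S.x (D.neg (D.simple i)) v := by
  have hF := fundFacts_of_mem D hD i hi
  have hC := conjFacts_of_mem D hD i hi
  obtain ⟨a, b, k, w, hR⟩ := exists_r1 D hD i hi
  have hf := chainAdd_linF D hD w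
  have hg := chainAdd_gF hD w i hi
  have hfg : ∀ s, s < D.nroots → linF D w (D.reflectRoot i s) = gF D i w s :=
    fun s hs => linF_reflect hD w i hi s hs
  have hact := actsAs_nGL hD K i hi t ht
  -- the subgroup of the elements conjugated into `XF f`
  have hgood : ∀ c, c < D.nroots → c ≠ D.simple i → c ≠ D.neg (D.simple i) → 0 < gF D i w c → ∀ v : K,
      S.x c v ∈ (S.XF (linF D w)).comap (MulAut.conj (S.w (D.simple i) t)).toMonoidHom := by
    intro c hc hcp hcn hgc v
    obtain ⟨hlt, c', hc', h1⟩ := hact c hc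
    rw [Subgroup.mem_comap]
    show S.w (D.simple i) t * S.x c v * (S.w (D.simple i) t)⁻¹ ∈ _
    rw [S.w_conj_ne i hi t c hc hcp hcn v (c' * v) (h1 v)]
    exact S.x_mem_XF _ _ hlt (by rw [hfg c hc]; exact hgc) _
  obtain ⟨e, hek, he1, heC, heij⟩ := hR.term
  have hklt : k < (D.commTerms a b).length := by
    by_contra hcon
    rw [List.getElem?_eq_none (by omega)] at hek
    exact absurd hek (by simp)
  have hekk : (D.commTerms a b)[k] = e := by
    rw [List.getElem?_eq_getElem hklt] at hek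
    exact Option.some.inj hek
  have hsplit : D.commTerms a b = (D.commTerms a b).take k ++ e :: (D.commTerms a b).drop (k + 1) := by
    rw [← hekk, ← List.drop_eq_getElem_cons hklt, List.take_append_drop]
  have hemem : e ∈ D.commTerms a b := by rw [← hekk]; exact List.getElem_mem hklt
  have hterms := hg.commTerms D hD a b hR.ha hR.hb
  have hgpos : ∀ c ∈ D.commTerms a b, 0 < gF D i w c.1 := by
    intro c hc
    obtain ⟨-, hi', hj', hlin⟩ := hterms c hc
    rw [hlin]
    have h1 : (1 : ℤ) ≤ c.2.2.1 := by exact_mod_cast hi'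
    have h2 : (1 : ℤ) ≤ c.2.2.2 := by exact_mod_cast hj'
    have := hR.ga
    have := hR.gb
    nlinarith
  have hgp : 0 < gF D i w (D.simple i) := by rw [← he1]; exact hgpos e hemem
  -- choice of the parameters
  obtain ⟨ta, ub, hz⟩ : ∃ ta ub : K, ((e.2.1 : ℤ) : K) * (-ta) ^ e.2.2.1 * ub ^ e.2.2.2 = z := by
    have hCC : ((e.2.1 : ℤ) : K) * ((e.2.1 : ℤ) : K) = 1 := by
      rcases heC with h' | h' <;> rw [h'] <;> norm_num
    rcases heij with h' | h'
    · refine ⟨-(((e.2.1 : ℤ) : K) * z), 1, ?_⟩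
      rw [h', neg_neg, pow_one, one_pow, mul_one, ← mul_assoc, hCC, one_mul]
    · refine ⟨-1, ((e.2.1 : ℤ) : K) * z, ?_⟩
      rw [h', neg_neg, one_pow, mul_one, pow_one, ← mul_assoc, hCC, one_mul]
  set φ : ℕ × ℤ × ℕ × ℕ → ℕ × K := fun c => (c.1, ((c.2.1 : ℤ) : K) * (-ta) ^ c.2.2.1 * ub ^ c.2.2.2) with hφ
  have hword : D.commWord K a b ta ub = ((D.commTerms a b).take k).map φ ++
      (D.simple i, z) :: ((D.commTerms a b).drop (k + 1)).map φ := by
    have : D.commWord K a b ta ub = (D.commTerms a b).map φ := rfl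
    rw [this]
    conv_lhs => rw [hsplit]
    rw [List.map_append, List.map_cons]
    have : φ e = (D.simple i, z) := by
      show (e.1, _) = _
      rw [he1, hz]
    rw [this]
  set G := (S.XF (linF D w)).comap (MulAut.conj (S.w (D.simple i) t)).toMonoidHom with hG
  have hW : ∀ T : List (ℕ × ℤ × ℕ × ℕ), (∀ c ∈ T, c ∈ D.commTerms a b ∧ c.1 ≠ D.simple i ∧
      c.1 ≠ D.neg (D.simple i)) → wordG S.x (T.map φ) ∈ G := by
    intro T hT
    apply wordG_mem
    intro q hq
    rw [List.mem_map] at hq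
    obtain ⟨c, hc, rfl⟩ := hq
    obtain ⟨hc1, hc2, hc3⟩ := hT c hc
    exact hgood c.1 (hterms c hc1).1 hc2 hc3 (hgpos c hc1) _
  have hW1 := hW ((D.commTerms a b).take k) (fun c hc =>
    ⟨List.mem_of_mem_take hc, hR.others c (List.mem_append_left _ hc)⟩)
  have hW2 := hW ((D.commTerms a b).drop (k + 1)) (fun c hc =>
    ⟨List.mem_of_mem_drop hc, hR.others c (List.mem_append_right _ hc)⟩)
  have hxa : S.x a ta ∈ G := hgood a hR.ha hR.hap hR.hanp hR.ga _
  have hxb : S.x b ub ∈ G := hgood b hR.hb hR.hbp hR.hbnp hR.gb _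
  have hrel := S.x_comm a b hR.ha hR.hb hR.hba hR.hbna ta ub
  rw [hword, wordG_append, wordG_cons] at hrel
  have hxp : S.x (D.simple i) z ∈ G := by
    have e1 : S.x (D.simple i) z = (wordG S.x (((D.commTerms a b).take k).map φ))⁻¹ *
        (S.x a ta * S.x b ub)⁻¹ * (S.x b ub * S.x a ta) *
        (wordG S.x (((D.commTerms a b).drop (k + 1)).map φ))⁻¹ := by
      rw [hrel]; group
    rw [e1]
    exact Subgroup.mul_mem _ (Subgroup.mul_mem _ (Subgroup.mul_mem _ (Subgroup.inv_mem _ hW1)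
      (Subgroup.inv_mem _ (Subgroup.mul_mem _ hxa hxb))) (Subgroup.mul_mem _ hxb hxa))
      (Subgroup.inv_mem _ hW2)
  have hxp' : S.w (D.simple i) t * S.x (D.simple i) z * (S.w (D.simple i) t)⁻¹ ∈ S.XF (linF D w) := hxp
  have hfnp : 0 < linF D w (D.neg (D.simple i)) := by
    rw [← reflectRoot_simple, hfg _ hF.hp]; exact hgp
  apply S.inj_XF hf _ _ hxp' (S.x_mem_XF _ _ hF.hpb hfnp v)
  rw [map_mul, map_mul, map_inv, S.θ_w _ hF.hp, S.θ_x _ hF.hp, S.θ_x _ hF.hpb, h]


include S in
theorem θ_w_neg (r : ℕ) (hr : r < D.nroots) (t : K) :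
    wordGL D hD K (D.nWord r (-t)) = (wordGL D hD K (D.nWord r t))⁻¹ := by
  rw [← S.θ_w r hr, ← S.θ_w r hr, ← S.w_inv r hr, map_inv]

/-- conjugation by `w̄_p(t)` of the root elements of `-p` -/
theorem w_conj_neg_self (i : ℕ) (hi : i < D.rank) (t : K) (ht : t ≠ 0) (z v : K)
    (h : wordGL D hD K (D.nWord (D.simple i) t) * xGL D hD K (D.neg (D.simple i)) z *
      (wordGL D hD K (D.nWord (D.simple i) t))⁻¹ = xGL D hD K (D.simple i) v) :
    S.w (D.simple i) t * S.x (D.neg (D.simple i)) z * (S.w (D.simple i) t)⁻¹ = S.x (D.simple i) v := by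
  have hF := fundFacts_of_mem D hD i hi
  have h' : wordGL D hD K (D.nWord (D.simple i) (-t)) * xGL D hD K (D.simple i) v *
      (wordGL D hD K (D.nWord (D.simple i) (-t)))⁻¹ = xGL D hD K (D.neg (D.simple i)) z := by
    rw [S.θ_w_neg _ hF.hp, ← h]; group
  have key := S.w_conj_self i hi (-t) (neg_ne_zero.mpr ht) v z h'
  rw [← S.w_inv _ hF.hp] at key
  rw [← key]; group

/-- conjugation by `w̄_p(t)` of the root elements: the formula of the Chevalley group holds -/
theorem w_conj (i : ℕ) (hi : i < D.rank) (t : K) (ht : t ≠ 0) (s : ℕ) (hs : s < D.nroots) (u v : K)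
    (h : wordGL D hD K (D.nWord (D.simple i) t) * xGL D hD K s u *
      (wordGL D hD K (D.nWord (D.simple i) t))⁻¹ = xGL D hD K (D.reflectRoot i s) v) :
    S.w (D.simple i) t * S.x s u * (S.w (D.simple i) t)⁻¹ = S.x (D.reflectRoot i s) v := by
  have hF := fundFacts_of_mem D hD i hi
  have hN := negOK_of_mem D hD _ hF.hp
  by_cases hsp : s = D.simple i
  · subst hsp
    rw [reflectRoot_simple] at h ⊢
    exact S.w_conj_self i hi t ht u v h
  · by_cases hsn : s = D.neg (D.simple i)
    · subst hsn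
      rw [reflectRoot_neg_simple i hN.2] at h ⊢
      exact S.w_conj_neg_self i hi t ht u v h
    · exact S.w_conj_ne i hi t s hs hsp hsn u v h

/-- `n X̄_s n⁻¹ = X̄_{f s}` for all roots `s`, in parametrised form compatible with `θ` -/
def ActsAsG (n : Γ) (f : ℕ → ℕ) : Prop :=
  ∀ s < D.nroots, f s < D.nroots ∧ ∃ c : K, c ≠ 0 ∧ ∀ u : K, n * S.x s u * n⁻¹ = S.x (f s) (c * u)

theorem actsAsG_w (i : ℕ) (hi : i < D.rank) (t : K) (ht : t ≠ 0) :
    S.ActsAsG (S.w (D.simple i) t) (D.reflectRoot i) := by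
  intro s hs
  obtain ⟨hlt, c, hc, h1⟩ := actsAs_nGL hD K i hi t ht s hs
  exact ⟨hlt, c, hc, fun u => S.w_conj i hi t ht s hs u (c * u) (h1 u)⟩

theorem actsAsG_one : S.ActsAsG 1 id := by
  intro s hs
  exact ⟨hs, 1, one_ne_zero, fun u => by simp⟩

theorem ActsAsG.mul {n n' : Γ} {f f' : ℕ → ℕ} (h : S.ActsAsG n f) (h' : S.ActsAsG n' f') :
    S.ActsAsG (n * n') (f ∘ f') := by
  intro s hs
  obtain ⟨hlt', c', hc', h1'⟩ := h' s hs
  obtain ⟨hlt, c, hc, h1⟩ := h (f' s) hlt'
  refine ⟨hlt, c * c', mul_ne_zero hc hc', fun t => ?_⟩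
  have e : n * n' * S.x s t * (n * n')⁻¹ = n * (n' * S.x s t * n'⁻¹) * n⁻¹ := by group
  rw [e, h1', h1, mul_assoc]
  rfl

/-- `θ` transports the action on the root subgroups -/
theorem ActsAsG.θ {n : Γ} {f : ℕ → ℕ} (h : S.ActsAsG n f) : ActsAs D hD K (S.θ n) f := by
  intro s hs
  obtain ⟨hlt, c, hc, h1⟩ := h s hs
  refine ⟨hlt, c, hc, fun t => ?_⟩
  have := congrArg S.θ (h1 t)
  rwa [map_mul, map_mul, map_inv, S.θ_x s hs, S.θ_x _ hlt] at this

end StData

end

end Cfsg.Agent.Lib.Helper11.StPres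

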