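import Cfsg.Agent.Lib.Helper11.StPresB
import Cfsg.Agent.Lib.Helper7.ChevLong
import Cfsg.Agent.Lib.Helper7.ChevMono
import Cfsg.Agent.Lib.Helper7.ChevLongCent
import Cfsg.Agent.Lib.Helper7.ChevPar0

/-! Steinberg's presentation, part C (helper11): the Bruhat decomposition of an abstract group with the
relations (R1), (R2), and the centrality of the kernel of the map to the Chevalley group. -/

set_option autoImplicit false

namespace Cfsg.Agent.Lib.Helper11.StPres

open Cfsg Cfsg.Lie Matrix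
open Cfsg.Agent.Lib.Helper7

section
variable {D : ChevalleyDatum} (hD : D ∈ [chevG2, chevB2, chevD4, chevF4, chevE6, chevE7, chevE8])
include hD

theorem reflWord_lt (L : List ℕ) (hL : ∀ i ∈ L, i < D.rank) (s : ℕ) (hs : s < D.nroots) :
    reflWord D L s < D.nroots := by
  induction L with
  | nil => exact hs
  | cons i L ih =>
    have hi : i < D.rank := hL i List.mem_cons_self
    exact (conjFacts_of_mem D hD i hi).wlt _ (ih (fun j hj => hL j (List.mem_cons_of_mem _ hj)))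

theorem reflWord_neg (L : List ℕ) (hL : ∀ i ∈ L, i < D.rank) (s : ℕ) (hs : s < D.nroots) :
    reflWord D L (D.neg s) = D.neg (reflWord D L s) := by
  induction L with
  | nil => rfl
  | cons i L ih =>
    have hi : i < D.rank := hL i List.mem_cons_self
    have hL' : ∀ j ∈ L, j < D.rank := fun j hj => hL j (List.mem_cons_of_mem _ hj)
    show D.reflectRoot i (reflWord D L (D.neg s)) = D.neg (D.reflectRoot i (reflWord D L s))
    rw [ih hL']
    exact ((conjFacts_of_mem D hD i hi).wneg _ (reflWord_lt hD L hL' s hs)).2.1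

omit hD in
theorem actW_eq_reflWord (L : List ℕ) (s : ℕ) : actW D L s = reflWord D L s := by
  induction L with
  | nil => rfl
  | cons i L ih =>
    show D.reflectRoot i (actW D L s) = D.reflectRoot i (reflWord D L s)
    rw [ih]

end

section
variable {D : ChevalleyDatum} {hD : D ∈ [chevG2, chevB2, chevD4, chevF4, chevE6, chevE7, chevE8]}
variable {K : Type*} [Field K] {Γ : Type*} [Group Γ] (S : StData D hD K Γ)

namespace StData

/-- the subgroup generated by the positive root elements -/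
def Ubar : Subgroup Γ := Subgroup.closure {g | ∃ r, D.IsPosRoot r ∧ ∃ t : K, g = S.x r t}

/-- the subgroup generated by the elements `w̄_p(t)`, `p` fundamental -/
def Nbar : Subgroup Γ :=
  Subgroup.closure {g | ∃ i, i < D.rank ∧ ∃ t : K, t ≠ 0 ∧ g = S.w (D.simple i) t}

theorem x_mem_Ubar (r : ℕ) (hr : D.IsPosRoot r) (t : K) : S.x r t ∈ S.Ubar :=
  Subgroup.subset_closure ⟨r, hr, t, rfl⟩

theorem w_mem_Nbar (i : ℕ) (hi : i < D.rank) (t : K) (ht : t ≠ 0) : S.w (D.simple i) t ∈ S.Nbar :=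
  Subgroup.subset_closure ⟨i, hi, t, ht, rfl⟩

theorem Ubar_le_XF (w0 : List ℤ) (hO : OrdFacts D (linF D w0)) : S.Ubar ≤ S.XF (linF D w0) := by
  apply Subgroup.closure_mono
  rintro g ⟨r, hr, t, rfl⟩
  exact ⟨r, hr.1, hO.pos r hr, t, rfl⟩

/-- `θ` is injective on `Ū` -/
theorem inj_Ubar (g g' : Γ) (hg : g ∈ S.Ubar) (hg' : g' ∈ S.Ubar) (h : S.θ g = S.θ g') : g = g' := by
  obtain ⟨w0, hO⟩ := exists_ordW D hD
  exact S.inj_XF (chainAdd_linF D hD w0) g g' (S.Ubar_le_XF w0 hO hg) (S.Ubar_le_XF w0 hO hg') h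

theorem θ_Ubar (g : Γ) (hg : g ∈ S.Ubar) : S.θ g ∈ D.posUnipotent K := by
  have : S.Ubar ≤ (D.posUnipotent K).comap S.θ := by
    unfold Ubar
    rw [Subgroup.closure_le]
    rintro g ⟨r, hr, t, rfl⟩
    show S.θ (S.x r t) ∈ D.posUnipotent K
    rw [S.θ_x r hr.1]
    exact Subgroup.subset_closure ⟨r, t, hr, coe_xGL D hD K r t⟩
  exact this hg

theorem θ_Nbar (g : Γ) (hg : g ∈ S.Nbar) : S.θ g ∈ D.monomialSubgroup K := by
  have : S.Nbar ≤ (D.monomialSubgroup K).comap S.θ := by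
    unfold Nbar
    rw [Subgroup.closure_le]
    rintro g ⟨i, hi, t, ht, rfl⟩
    have hF := fundFacts_of_mem D hD i hi
    show S.θ (S.w (D.simple i) t) ∈ D.monomialSubgroup K
    rw [S.θ_w _ hF.hp, nGL_eq_hGL_mul]
    apply Subgroup.mul_mem
    · have hh : wordGL D hD K (D.hWord (D.simple i) t) ∈ D.diagonalSubgroup K := by
        apply Subgroup.subset_closure
        exact ⟨D.simple i, t, hF.hp, ht, coe_wordGL D hD K _⟩
      unfold ChevalleyDatum.monomialSubgroup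
      exact Subgroup.mem_sup_left hh
    · exact nFund_mem_monomial D hD K i hi
  exact this hg

/-- every element of `N̄` acts on the root subgroups as a word in the fundamental reflections -/
theorem exists_word_of_mem_Nbar (n : Γ) (hn : n ∈ S.Nbar) :
    ∃ L : List ℕ, (∀ i ∈ L, i < D.rank) ∧ S.ActsAsG n (reflWord D L) := by
  unfold Nbar at hn
  induction hn using Subgroup.closure_induction'' with
  | mem x hx =>
    obtain ⟨i, hi, t, ht, rfl⟩ := hx
    exact ⟨[i], by simpa using hi, S.actsAsG_w i hi t ht⟩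
  | inv_mem x hx =>
    obtain ⟨i, hi, t, ht, rfl⟩ := hx
    have hF := fundFacts_of_mem D hD i hi
    rw [S.w_inv _ hF.hp]
    exact ⟨[i], by simpa using hi, S.actsAsG_w i hi (-t) (neg_ne_zero.mpr ht)⟩
  | one => exact ⟨[], by simp, S.actsAsG_one⟩
  | mul x y _ _ ihx ihy =>
    obtain ⟨L, hL, hx⟩ := ihx
    obtain ⟨L', hL', hy⟩ := ihy
    refine ⟨L ++ L', ?_, ?_⟩
    · intro i hi
      rcases List.mem_append.mp hi with h | h
      · exact hL i h
      · exact hL' i h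
    · rw [reflWord_append]
      exact ActsAsG.mul S hx hy

/-- words in the fundamental reflections are realised in `N̄` -/
theorem exists_Nbar_word (L : List ℕ) (hL : ∀ i ∈ L, i < D.rank) :
    ∃ n : Γ, n ∈ S.Nbar ∧ S.ActsAsG n (reflWord D L) := by
  induction L with
  | nil => exact ⟨1, Subgroup.one_mem _, S.actsAsG_one⟩
  | cons i L ih =>
    obtain ⟨n, hn, hact⟩ := ih (fun j hj => hL j (List.mem_cons_of_mem _ hj))
    have hi : i < D.rank := hL i List.mem_cons_self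
    exact ⟨S.w (D.simple i) 1 * n, Subgroup.mul_mem _ (S.w_mem_Nbar i hi 1 one_ne_zero) hn,
      ActsAsG.mul S (S.actsAsG_w i hi 1 one_ne_zero) hact⟩

/-- the set `Ū N̄ Ū` -/
def BNB : Set Γ := {g | ∃ u ∈ S.Ubar, ∃ n ∈ S.Nbar, ∃ u' ∈ S.Ubar, g = u * n * u'}

theorem one_mem_BNB : (1 : Γ) ∈ S.BNB :=
  ⟨1, Subgroup.one_mem _, 1, Subgroup.one_mem _, 1, Subgroup.one_mem _, by simp⟩

theorem U_mul_BNB (v : Γ) (hv : v ∈ S.Ubar) (g : Γ) (hg : g ∈ S.BNB) : v * g ∈ S.BNB := by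
  obtain ⟨u, hu, n, hn, u', hu', rfl⟩ := hg
  exact ⟨v * u, Subgroup.mul_mem _ hv hu, n, hn, u', hu', by group⟩

theorem BNB_mul_U (v : Γ) (hv : v ∈ S.Ubar) (g : Γ) (hg : g ∈ S.BNB) : g * v ∈ S.BNB := by
  obtain ⟨u, hu, n, hn, u', hu', rfl⟩ := hg
  exact ⟨u, hu, n, hn, u' * v, Subgroup.mul_mem _ hu' hv, by group⟩

/-- `x̄_{-p}(c) = x̄_p(c⁻¹) w̄_p(-c⁻¹) x̄_p(c⁻¹)` -/
theorem x_neg_eq (r : ℕ) (hr : r < D.nroots) (c : K) :
    S.x (D.neg r) c = S.x r c⁻¹ * S.w r (-c⁻¹) * S.x r c⁻¹ := by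
  unfold w
  have e : -(-c⁻¹)⁻¹ = c := by rw [inv_neg, neg_neg, inv_inv]
  rw [e]
  have h1 : S.x r c⁻¹ * S.x r (-c⁻¹) = 1 := by rw [S.x_add r hr, add_neg_cancel, S.x_zero r hr]
  have h2 : S.x r (-c⁻¹) * S.x r c⁻¹ = 1 := by rw [S.x_add r hr, neg_add_cancel, S.x_zero r hr]
  calc S.x (D.neg r) c = 1 * S.x (D.neg r) c * 1 := by group
    _ = (S.x r c⁻¹ * S.x r (-c⁻¹)) * S.x (D.neg r) c * (S.x r (-c⁻¹) * S.x r c⁻¹) := by rw [h1, h2]
    _ = _ := by group


/-- `w̄_p(t) x̄_p(c) n ∈ Ū N̄ Ū` for `n ∈ N̄` -/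
theorem w_x_n_mem_BNB (i : ℕ) (hi : i < D.rank) (t : K) (ht : t ≠ 0) (c : K) (n : Γ) (hn : n ∈ S.Nbar) :
    S.w (D.simple i) t * S.x (D.simple i) c * n ∈ S.BNB := by
  have hF := fundFacts_of_mem D hD i hi
  have hwN := S.w_mem_Nbar i hi t ht
  obtain ⟨L', hL', hact'⟩ := S.exists_word_of_mem_Nbar n⁻¹ (Subgroup.inv_mem _ hn)
  obtain ⟨hslt, c', hc', h1⟩ := hact' _ hF.hp
  rw [inv_inv] at h1
  rcases posOrNeg_of_mem D hD _ hslt with hpos | hneg
  · refine ⟨1, Subgroup.one_mem _, S.w (D.simple i) t * n, Subgroup.mul_mem _ hwN hn,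
      S.x (reflWord D L' (D.simple i)) (c' * c), S.x_mem_Ubar _ hpos _, ?_⟩
    rw [← h1 c]; group
  · by_cases hc0 : c = 0
    · refine ⟨1, Subgroup.one_mem _, S.w (D.simple i) t * n, Subgroup.mul_mem _ hwN hn, 1,
        Subgroup.one_mem _, ?_⟩
      rw [hc0, S.x_zero _ hF.hp]; group
    · obtain ⟨-, a, ha, h2⟩ := S.actsAsG_w i hi t ht _ hF.hp
      rw [reflectRoot_simple] at h2
      have hc1 : a * c ≠ 0 := mul_ne_zero ha hc0
      -- the element `n' = w̄ n` and the action of its inverse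
      have hact'' : S.ActsAsG (n⁻¹ * S.w (D.simple i) (-t)) (reflWord D L' ∘ D.reflectRoot i) :=
        ActsAsG.mul S hact' (S.actsAsG_w i hi (-t) (neg_ne_zero.mpr ht))
      obtain ⟨-, c'', hc'', h3⟩ := hact'' _ hF.hp
      have hroot : (reflWord D L' ∘ D.reflectRoot i) (D.simple i) = D.neg (reflWord D L' (D.simple i)) := by
        show reflWord D L' (D.reflectRoot i (D.simple i)) = _
        rw [reflectRoot_simple, reflWord_neg hD L' hL' _ hF.hp]
      rw [hroot] at h3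
      have hNI := negInvOK_of_mem D hD _ hslt
      have hpos' : D.IsPosRoot (D.neg (reflWord D L' (D.simple i))) := hNI.2.2 hneg
      have hinv : (n⁻¹ * S.w (D.simple i) (-t))⁻¹ = S.w (D.simple i) t * n := by
        rw [_root_.mul_inv_rev, inv_inv, ← S.w_inv _ hF.hp, inv_inv]
      rw [hinv] at h3
      have hτ : -(a * c)⁻¹ ≠ 0 := neg_ne_zero.mpr (inv_ne_zero hc1)
      refine ⟨S.x (D.simple i) (a * c)⁻¹, S.x_mem_Ubar _ ((parFacts_of_mem D hD).simplePos i hi) _,
        S.w (D.simple i) (-(a * c)⁻¹) * (S.w (D.simple i) t * n),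
        Subgroup.mul_mem _ (S.w_mem_Nbar i hi _ hτ) (Subgroup.mul_mem _ hwN hn),
        S.x (D.neg (reflWord D L' (D.simple i))) (c'' * (a * c)⁻¹), S.x_mem_Ubar _ hpos' _, ?_⟩
      · have e1 : S.w (D.simple i) t * S.x (D.simple i) c * n =
            (S.w (D.simple i) t * S.x (D.simple i) c * (S.w (D.simple i) t)⁻¹) * (S.w (D.simple i) t * n) := by
          group
        rw [e1, h2 c, S.x_neg_eq _ hF.hp, ← h3, ← S.w_inv _ hF.hp t]
        group


/-- `Ū = Ū_p X̄_p` -/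
theorem factor_Ubar (i : ℕ) (hi : i < D.rank) (w : List ℤ) (hw : FundWFacts D i w) (u : Γ) (hu : u ∈ S.Ubar) :
    ∃ k ∈ S.XF (linF D w), ∃ c : K, u = k * S.x (D.simple i) c := by
  have hF := fundFacts_of_mem D hD i hi
  have hf := chainAdd_linF D hD w
  unfold Ubar at hu
  induction hu using Subgroup.closure_induction_left with
  | one => exact ⟨1, Subgroup.one_mem _, 0, by rw [S.x_zero _ hF.hp, one_mul]⟩
  | mul_left y hy z _ ih =>
    obtain ⟨k, hk, c, rfl⟩ := ih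
    obtain ⟨r, hr, v, rfl⟩ := hy
    by_cases hrp : r = D.simple i
    · subst hrp
      refine ⟨S.x (D.simple i) v * k * (S.x (D.simple i) v)⁻¹,
        S.ZF_conj_mem hf _ (S.x_mem_ZF _ _ hF.hp hw.zero v) k hk, v + c, ?_⟩
      rw [← S.x_add _ hF.hp]; group
    · exact ⟨S.x r v * k, Subgroup.mul_mem _ (S.x_mem_XF _ r hr.1 (hw.pos r hr hrp) v) hk, c, by group⟩
  | inv_mul_cancel y hy z _ ih =>
    obtain ⟨k, hk, c, rfl⟩ := ih
    obtain ⟨r, hr, v, rfl⟩ := hy
    rw [S.x_inv r hr.1]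
    by_cases hrp : r = D.simple i
    · subst hrp
      refine ⟨S.x (D.simple i) (-v) * k * (S.x (D.simple i) (-v))⁻¹,
        S.ZF_conj_mem hf _ (S.x_mem_ZF _ _ hF.hp hw.zero (-v)) k hk, -v + c, ?_⟩
      rw [← S.x_add _ hF.hp]; group
    · exact ⟨S.x r (-v) * k, Subgroup.mul_mem _ (S.x_mem_XF _ r hr.1 (hw.pos r hr hrp) (-v)) hk, c,
        by group⟩

theorem XF_fund_le_Ubar (i : ℕ) (hi : i < D.rank) (w : List ℤ) (hw : FundWFacts D i w) :
    S.XF (linF D w) ≤ S.Ubar := by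
  have hF := fundFacts_of_mem D hD i hi
  have hf := chainAdd_linF D hD w
  apply Subgroup.closure_mono
  rintro g ⟨r, hr, hfr, t, rfl⟩
  refine ⟨r, ?_, t, rfl⟩
  rcases posOrNeg_of_mem D hD r hr with hpos | hneg
  · exact hpos
  · exfalso
    have hNI := negInvOK_of_mem D hD r hr
    have hpos' : D.IsPosRoot (D.neg r) := hNI.2.2 hneg
    have hnegA := hf.negA r hr hNI.2.1
    by_cases hnp : D.neg r = D.simple i
    · rw [hnp, hw.zero] at hnegA; omega
    · have := hw.pos _ hpos' hnp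
      omega

/-- `Ū N̄ Ū` is stable under left multiplication by `w̄_p(t)` -/
theorem w_mul_BNB (i : ℕ) (hi : i < D.rank) (t : K) (ht : t ≠ 0) (g : Γ) (hg : g ∈ S.BNB) :
    S.w (D.simple i) t * g ∈ S.BNB := by
  have hF := fundFacts_of_mem D hD i hi
  obtain ⟨w, hw⟩ := exists_fundW D hD i hi
  have hf := chainAdd_linF D hD w
  obtain ⟨u, hu, n, hn, u', hu', rfl⟩ := hg
  obtain ⟨k, hk, c, rfl⟩ := S.factor_Ubar i hi w hw u hu
  have h1 : S.w (D.simple i) t * k * (S.w (D.simple i) t)⁻¹ ∈ S.Ubar :=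
    S.XF_fund_le_Ubar i hi w hw (S.ZF_conj_mem hf _ (S.w_mem_ZF hf _ hF.hp hw.zero t) k hk)
  have h2 := S.w_x_n_mem_BNB i hi t ht c n hn
  have e : S.w (D.simple i) t * (k * S.x (D.simple i) c * n * u') =
      (S.w (D.simple i) t * k * (S.w (D.simple i) t)⁻¹) *
        ((S.w (D.simple i) t * S.x (D.simple i) c * n) * u') := by group
  rw [e]
  exact S.U_mul_BNB _ h1 _ (S.BNB_mul_U _ hu' _ h2)

/-- all root elements lie in `⟨Ū, N̄⟩` -/
theorem x_mem_sup (r : ℕ) (hr : r < D.nroots) (t : K) : S.x r t ∈ S.Ubar ⊔ S.Nbar := by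
  rcases posOrNeg_of_mem D hD r hr with hpos | hneg
  · exact Subgroup.mem_sup_left (S.x_mem_Ubar r hpos t)
  · obtain ⟨L, hL⟩ := exists_longFacts_of_mem D hD
    obtain ⟨r', hr', hrr⟩ := hL.negpos r hneg
    rw [actW_eq_reflWord] at hrr
    obtain ⟨n, hn, hact⟩ := S.exists_Nbar_word L hL.lt
    obtain ⟨-, c, hc, h1⟩ := hact r' hr'.1
    rw [hrr] at h1
    have := h1 (c⁻¹ * t)
    rw [← mul_assoc, mul_inv_cancel₀ hc, one_mul] at this
    rw [← this]
    exact Subgroup.mul_mem _ (Subgroup.mul_mem _ (Subgroup.mem_sup_right hn)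
      (Subgroup.mem_sup_left (S.x_mem_Ubar r' hr' _))) (Subgroup.inv_mem _ (Subgroup.mem_sup_right hn))

/-- the Bruhat decomposition `Γ = Ū N̄ Ū` -/
theorem mem_BNB (g : Γ) : g ∈ S.BNB := by
  have h1 : S.Ubar ⊔ S.Nbar = ⊤ := by
    rw [eq_top_iff, ← S.gen, Subgroup.closure_le]
    rintro g ⟨r, hr, t, rfl⟩
    exact S.x_mem_sup r hr t
  have h2 : S.Ubar ⊔ S.Nbar = Subgroup.closure ((S.Ubar : Set Γ) ∪
      {g | ∃ i, i < D.rank ∧ ∃ t : K, t ≠ 0 ∧ g = S.w (D.simple i) t}) := by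
    rw [Subgroup.closure_union, Subgroup.closure_eq]
    rfl
  have hg : g ∈ Subgroup.closure ((S.Ubar : Set Γ) ∪
      {g | ∃ i, i < D.rank ∧ ∃ t : K, t ≠ 0 ∧ g = S.w (D.simple i) t}) := by
    rw [← h2, h1]; exact Subgroup.mem_top g
  induction hg using Subgroup.closure_induction_left with
  | one => exact S.one_mem_BNB
  | mul_left y hy z _ ih =>
    rcases hy with hy | ⟨i, hi, t, ht, rfl⟩
    · exact S.U_mul_BNB y hy z ih
    · exact S.w_mul_BNB i hi t ht z ih
  | inv_mul_cancel y hy z _ ih =>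
    rcases hy with hy | ⟨i, hi, t, ht, rfl⟩
    · exact S.U_mul_BNB _ (Subgroup.inv_mem _ hy) z ih
    · have hF := fundFacts_of_mem D hD i hi
      rw [S.w_inv _ hF.hp]
      exact S.w_mul_BNB i hi (-t) (neg_ne_zero.mpr ht) z ih


/-- an element of `N̄` in the kernel of `θ` is central -/
theorem Nbar_ker_central (n : Γ) (hn : n ∈ S.Nbar) (h1 : S.θ n = 1) : n ∈ Subgroup.center Γ := by
  obtain ⟨L, hL, hact⟩ := S.exists_word_of_mem_Nbar n hn
  have hcomm : ∀ s, s < D.nroots → ∀ u : K, n * S.x s u * n⁻¹ = S.x s u := by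
    intro s hs u
    obtain ⟨hlt, c, hc, h2⟩ := hact s hs
    have h3 : ∀ u : K, xGL D hD K s u = xGL D hD K (reflWord D L s) (c * u) := by
      intro u
      have := congrArg S.θ (h2 u)
      rwa [map_mul, map_mul, map_inv, h1, one_mul, inv_one, mul_one, S.θ_x s hs, S.θ_x _ hlt] at this
    have hss : s = reflWord D L s := xGL_root_inj D hD K s _ hs hlt 1 (c * 1) one_ne_zero (h3 1)
    have hc1 : (1 : K) = c * 1 := by
      have := h3 1
      rw [← hss] at this
      exact xGL_param_inj D hD K s hs _ _ this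
    rw [h2 u, ← hss, ← mul_one c, ← hc1, one_mul]
  rw [Subgroup.mem_center_iff]
  intro g
  have hle : (⊤ : Subgroup Γ) ≤ Subgroup.centralizer {n} := by
    rw [← S.gen, Subgroup.closure_le]
    rintro g ⟨r, hr, t, rfl⟩
    rw [SetLike.mem_coe, Subgroup.mem_centralizer_iff]
    intro h hh
    rw [Set.mem_singleton_iff] at hh
    subst hh
    have := hcomm r hr t
    rw [mul_inv_eq_iff_eq_mul] at this
    exact this
  have := hle (Subgroup.mem_top g)
  rw [Subgroup.mem_centralizer_iff] at this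
  exact (this n rfl).symm

/-- the kernel of `θ` is central -/
theorem ker_le_center : S.θ.ker ≤ Subgroup.center Γ := by
  intro z hz
  rw [MonoidHom.mem_ker] at hz
  obtain ⟨u, hu, n, hn, u', hu', rfl⟩ := S.mem_BNB z
  rw [map_mul, map_mul] at hz
  have hθu := S.θ_Ubar u hu
  have hθu' := S.θ_Ubar u' hu'
  have hθn := S.θ_Nbar n hn
  have hnU : S.θ n ∈ D.posUnipotent K := by
    have e : S.θ n = (S.θ u)⁻¹ * (S.θ u')⁻¹ := by
      have : S.θ u * S.θ n = (S.θ u')⁻¹ := eq_inv_of_mul_eq_one_left hz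
      rw [← this]; group
    rw [e]
    exact Subgroup.mul_mem _ (Subgroup.inv_mem _ hθu) (Subgroup.inv_mem _ hθu')
  have hnH : S.θ n ∈ D.diagonalSubgroup K := by
    rw [← borel_inf_monomial D hD K]
    exact ⟨posUnipotent_le_borel D hD K hnU, hθn⟩
  have hn1 : S.θ n = 1 := by
    have : S.θ n ∈ D.posUnipotent K ⊓ D.diagonalSubgroup K := ⟨hnU, hnH⟩
    rw [posUnipotent_inf_diagonalSubgroup D hD K] at this
    exact Subgroup.mem_bot.mp this
  rw [hn1, mul_one] at hz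
  have huu : u * u' = 1 :=
    S.inj_Ubar _ _ (Subgroup.mul_mem _ hu hu') (Subgroup.one_mem _) (by rw [map_mul, hz, map_one])
  have hnc := S.Nbar_ker_central n hn hn1
  have e : u * n * u' = n := by
    rw [Subgroup.mem_center_iff] at hnc
    rw [hnc u, mul_assoc, huu, mul_one]
  rw [e]
  exact hnc

end StData

end

end Cfsg.Agent.Lib.Helper11.StPres

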