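import Cfsg.Agent.Lib.Helper11.StPresC
import Cfsg.Prelude.Def_SteinbergCover

/-! Steinberg's presentation, part D (helper11): the presented groups of `Def_Steinberg` and
`Def_SteinbergCover` as instances of the abstract setting; the homomorphisms to the Chevalley group
are central extensions. -/

set_option autoImplicit false

namespace Cfsg.Agent.Lib.Helper11.StPres

open Cfsg Cfsg.Lie Matrix
open Cfsg.Agent.Lib.Helper7

section
variable (D : ChevalleyDatum) (hD : D ∈ [chevG2, chevB2, chevD4, chevF4, chevE6, chevE7, chevE8])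
variable (K : Type*) [Field K]

/-- the homomorphism from the free group: `x̄_r(t) ↦ x_r(t)` -/
noncomputable def liftF : FreeGroup (Fin D.nroots × K) →* GL D.Idx K :=
  FreeGroup.lift (fun p => xGL D hD K p.1.val p.2)

theorem xGL_eq_one_of_not_lt (r : ℕ) (hr : ¬ r < D.nroots) (t : K) : xGL D hD K r t = 1 := by
  apply Units.ext
  rw [coe_xGL]
  unfold ChevalleyDatum.x
  rw [dif_neg hr]
  rfl

theorem liftF_stX (r : ℕ) (t : K) : liftF D hD K (D.stX r t) = xGL D hD K r t := by
  unfold ChevalleyDatum.stX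
  by_cases hr : r < D.nroots
  · rw [dif_pos hr]
    unfold liftF
    rw [FreeGroup.lift_apply_of]
  · rw [dif_neg hr, map_one, xGL_eq_one_of_not_lt D hD K r hr]

theorem liftF_stWord (w : List (ℕ × K)) : liftF D hD K (D.stWord w) = wordGL D hD K w := by
  unfold ChevalleyDatum.stWord wordGL
  rw [map_list_prod, List.map_map]
  congr 1
  apply List.map_congr_left
  intro p _
  exact liftF_stX D hD K p.1 p.2

theorem liftF_relsAB (g : FreeGroup (Fin D.nroots × K)) (hg : g ∈ D.steinbergRelsAB K) :
    liftF D hD K g = 1 := by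
  rcases hg with ⟨r, t₁, t₂, hr, rfl⟩ | ⟨r, s, t, u, hr, hs, hsr, hsn, rfl⟩
  · rw [map_mul, map_mul, map_inv, liftF_stX, liftF_stX, liftF_stX, xGL_mul, mul_inv_cancel]
  · rw [map_mul, map_mul, map_mul, map_mul, map_inv, map_inv, map_inv, liftF_stX, liftF_stX, liftF_stWord]
    have h := comm_formula_GL D hD K r s hr hs hsr hsn t u
    have hW : wordGL D hD K (D.commWord K r s t u) =
        (xGL D hD K s u)⁻¹ * (xGL D hD K r t)⁻¹ * xGL D hD K s u * xGL D hD K r t := by
      calc wordGL D hD K (D.commWord K r s t u)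
          = (xGL D hD K r t * xGL D hD K s u)⁻¹ *
            (xGL D hD K r t * xGL D hD K s u * wordGL D hD K (D.commWord K r s t u)) := by group
        _ = _ := by rw [← h]; group
    rw [hW, mul_inv_cancel]

theorem hGL_mul (r : ℕ) (hr : r < D.nroots) (t₁ t₂ : K) (h1 : t₁ ≠ 0) (h2 : t₂ ≠ 0) :
    wordGL D hD K (D.hWord r t₁) * wordGL D hD K (D.hWord r t₂) = wordGL D hD K (D.hWord r (t₁ * t₂)) := by
  apply Units.ext
  rw [Units.val_mul, coe_wordGL, coe_wordGL, coe_wordGL]
  show D.hMat K r t₁ * D.hMat K r t₂ = D.hMat K r (t₁ * t₂)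
  rw [hMat_eq_diagChar D hD K r hr t₁ h1, hMat_eq_diagChar D hD K r hr t₂ h2,
    hMat_eq_diagChar D hD K r hr (t₁ * t₂) (mul_ne_zero h1 h2), diagChar_mul]
  congr 1
  funext s
  rw [mul_zpow]

theorem liftF_rels (g : FreeGroup (Fin D.nroots × K)) (hg : g ∈ D.steinbergRels K) :
    liftF D hD K g = 1 := by
  rcases hg with hg | ⟨r, t₁, t₂, hr, h1, h2, rfl⟩
  · exact liftF_relsAB D hD K g hg
  · unfold ChevalleyDatum.stH
    rw [map_mul, map_mul, map_inv, liftF_stWord, liftF_stWord, liftF_stWord, hGL_mul D hD K r hr t₁ t₂ h1 h2,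
      mul_inv_cancel]

variable {D K}

omit [Field K] in
theorem mk_stWord (rels : Set (FreeGroup (Fin D.nroots × K))) (w : List (ℕ × K)) :
    PresentedGroup.mk rels (D.stWord w) = wordG (fun r t => PresentedGroup.mk rels (D.stX r t)) w := by
  unfold ChevalleyDatum.stWord wordG
  rw [map_list_prod, List.map_map]
  rfl

/-- a group presented by relators containing (R1) and (R2) and holding in the Chevalley group is an
instance of the abstract setting -/
noncomputable def mkData (rels : Set (FreeGroup (Fin D.nroots × K))) (hAB : D.steinbergRelsAB K ⊆ rels)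
    (h1 : ∀ g ∈ rels, liftF D hD K g = 1) : StData D hD K (PresentedGroup rels) where
  x := fun r t => PresentedGroup.mk rels (D.stX r t)
  x_add := by
    intro r hr t u
    have hmem : D.stX r t * D.stX r u * (D.stX r (t + u))⁻¹ ∈ rels :=
      hAB (Or.inl ⟨r, t, u, hr, rfl⟩)
    have := PresentedGroup.one_of_mem hmem
    rw [map_mul, map_mul, map_inv, mul_inv_eq_one] at this
    exact this
  x_comm := by
    intro r s hr hs hsr hsn t u
    have hmem : (D.stX s u)⁻¹ * (D.stX r t)⁻¹ * D.stX s u * D.stX r t *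
        (D.stWord (D.commWord K r s t u))⁻¹ ∈ rels :=
      hAB (Or.inr ⟨r, s, t, u, hr, hs, hsr, hsn, rfl⟩)
    have := PresentedGroup.one_of_mem hmem
    rw [map_mul, map_mul, map_mul, map_mul, map_inv, map_inv, map_inv, mul_inv_eq_one, mk_stWord] at this
    rw [← this]
    group
  θ := PresentedGroup.toGroup (f := fun p : Fin D.nroots × K => xGL D hD K p.1.val p.2) h1
  θ_x := by
    intro r hr t
    exact liftF_stX D hD K r t
  gen := by
    rw [eq_top_iff, ← PresentedGroup.closure_range_of, Subgroup.closure_le]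
    rintro g ⟨p, rfl⟩
    apply Subgroup.subset_closure
    refine ⟨p.1.val, p.1.isLt, p.2, ?_⟩
    unfold ChevalleyDatum.stX
    rw [dif_pos p.1.isLt]
    rfl

end

section
variable {D : ChevalleyDatum} {hD : D ∈ [chevG2, chevB2, chevD4, chevF4, chevE6, chevE7, chevE8]}
variable {K : Type*} [Field K] {Γ : Type*} [Group Γ] (S : StData D hD K Γ)

namespace StData

theorem θ_mem_group (g : Γ) : S.θ g ∈ D.group K := by
  have h : (⊤ : Subgroup Γ) ≤ (D.group K).comap S.θ := by
    rw [← S.gen, Subgroup.closure_le]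
    rintro g ⟨r, hr, t, rfl⟩
    show S.θ (S.x r t) ∈ D.group K
    rw [S.θ_x r hr]
    exact xGL_mem_group D hD K r t
  exact h (Subgroup.mem_top g)

/-- `θ` as a homomorphism to the Chevalley group -/
def θG : Γ →* ↥(D.group K) := S.θ.codRestrict (D.group K) S.θ_mem_group

theorem θG_surjective : Function.Surjective S.θG := by
  rw [← MonoidHom.range_eq_top, eq_top_iff]
  rintro ⟨g, hg⟩ -
  have h : D.group K ≤ S.θ.range := by
    unfold ChevalleyDatum.group
    rw [Subgroup.closure_le]
    rintro g ⟨r, t, hgm⟩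
    refine ⟨S.x r.val t, ?_⟩
    rw [S.θ_x r.val r.isLt]
    apply Units.ext
    rw [coe_xGL, hgm, x_eq_xMat D K r.val r.isLt]
  obtain ⟨y, hy⟩ := h hg
  exact ⟨y, Subtype.ext hy⟩

theorem θG_ker : S.θG.ker = S.θ.ker := by
  ext g
  rw [MonoidHom.mem_ker, MonoidHom.mem_ker]
  constructor
  · intro h
    have := congrArg Subtype.val h
    exact this
  · intro h
    exact Subtype.ext h

theorem θG_x (r : ℕ) (hr : r < D.nroots) (t : K) :
    ((S.θG (S.x r t) : GL D.Idx K) : Matrix D.Idx D.Idx K) = D.x K r t := by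
  show ((S.θ (S.x r t) : GL D.Idx K) : Matrix D.Idx D.Idx K) = D.x K r t
  rw [S.θ_x r hr, coe_xGL]

end StData

end

end Cfsg.Agent.Lib.Helper11.StPres
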