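import Cfsg.Agent.Lib.Helper11.StPresD
import Cfsg.Agent.Lib.Helper7.ChevCore
import Cfsg.Agent.Lib.Helper7.ChevBN
import Cfsg.Agent.Lib.Helper3.BNParabolic

/-! Steinberg's presentation, part E (helper11): the Chevalley group has trivial centre, hence the
kernel of the map from a group with the relations (R1), (R2) is exactly the centre. -/

set_option autoImplicit false

namespace Cfsg.Agent.Lib.Helper11.StPres

open Cfsg Cfsg.Lie Matrix
open Cfsg.Agent.Lib.Helper7

section
variable (D : ChevalleyDatum) (hD : D ∈ [chevG2, chevB2, chevD4, chevF4, chevE6, chevE7, chevE8])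
variable (K : Type*) [Field K]
include hD

/-- the centre of the Chevalley group is trivial -/
theorem center_group_eq_bot : Subgroup.center ↥(D.group K) = ⊥ := by
  rw [Subgroup.eq_bot_iff_forall]
  intro z hz
  rw [Subgroup.mem_center_iff] at hz
  have hconj : ∀ g : ↥(D.group K), g * z * g⁻¹ = z := by
    intro g
    rw [hz g, mul_assoc, mul_inv_cancel, mul_one]
  have hzB : z ∈ (chevBNPair D hD K).B := by
    apply Cfsg.Agent.Lib.Helper3.BN.mem_of_conj_B_le (chevBNPair D hD K) _ le_rfl
    intro b hb
    rw [← hz b, mul_assoc, mul_inv_cancel, mul_one]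
    exact hb
  have hcore : z ∈ ((D.borelSubgroup K).subgroupOf (D.group K)).normalCore := by
    rw [Subgroup.normalCore]
    intro g
    rw [hconj g]
    exact hzB
  rw [normalCore_borel_eq_bot D hD K] at hcore
  exact Subgroup.mem_bot.mp hcore

end

section
variable {D : ChevalleyDatum} {hD : D ∈ [chevG2, chevB2, chevD4, chevF4, chevE6, chevE7, chevE8]}
variable {K : Type*} [Field K] {Γ : Type*} [Group Γ] (S : StData D hD K Γ)

namespace StData

/-- the kernel of `θ` is the centre -/
theorem θG_ker_eq_center : S.θG.ker = Subgroup.center Γ := by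
  apply le_antisymm
  · rw [S.θG_ker]
    exact S.ker_le_center
  · intro z hz
    rw [Subgroup.mem_center_iff] at hz
    rw [MonoidHom.mem_ker]
    have hc : S.θG z ∈ Subgroup.center ↥(D.group K) := by
      rw [Subgroup.mem_center_iff]
      intro g
      obtain ⟨y, rfl⟩ := S.θG_surjective g
      rw [← map_mul, ← map_mul, hz y]
    rw [center_group_eq_bot D hD K] at hc
    exact Subgroup.mem_bot.mp hc

end StData

end

end Cfsg.Agent.Lib.Helper11.StPres
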