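import Cfsg.Agent.Lib.Helper11.StPresE
import Cfsg.Agent.Lib.Helper11.Steinberg2
import Cfsg.Agent.Lib.Helper7.ChevCanon

/-! Steinberg's presentation, part F (helper11): over a finite field the relations (R3) follow from
(R1) and (R2). -/

set_option autoImplicit false
set_option maxRecDepth 100000

namespace Cfsg.Agent.Lib.Helper11.StPres

open Cfsg Cfsg.Lie Matrix
open Cfsg.Agent.Lib.Helper7

/-- table check: every positive root which is not fundamental is lowered by a fundamental reflection -/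
def orbB (D : ChevalleyDatum) : Bool :=
  (List.range D.nroots).all fun r => !decide (D.IsPosRoot r) ||
    (List.range D.rank).any fun i => r == D.simple i ||
      (decide (D.reflectRoot i r < r) && decide (D.IsPosRoot (D.reflectRoot i r)))

theorem orbB_G2 : orbB chevG2 = true := by decide +kernel
theorem orbB_B2 : orbB chevB2 = true := by decide +kernel
theorem orbB_D4 : orbB chevD4 = true := by decide +kernel
theorem orbB_F4 : orbB chevF4 = true := by decide +kernel
theorem orbB_E6 : orbB chevE6 = true := by decide +kernel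
theorem orbB_E7 : orbB chevE7 = true := by decide +kernel
theorem orbB_E8 : orbB chevE8 = true := by decide +kernel

theorem orbB_of_mem (D : ChevalleyDatum)
    (hD : D ∈ [chevG2, chevB2, chevD4, chevF4, chevE6, chevE7, chevE8]) : orbB D = true :=
  mem_seven_cases (P := fun D => orbB D = true) orbB_G2 orbB_B2 orbB_D4 orbB_F4 orbB_E6 orbB_E7 orbB_E8 D hD

section
variable {D : ChevalleyDatum} (hD : D ∈ [chevG2, chevB2, chevD4, chevF4, chevE6, chevE7, chevE8])
include hD

/-- every positive root is conjugate to a fundamental root under the Weyl group -/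
theorem exists_word_pos : ∀ (r : ℕ), D.IsPosRoot r → ∃ (L : List ℕ) (i : ℕ), (∀ j ∈ L, j < D.rank) ∧ i < D.rank ∧
    reflWord D L (D.simple i) = r := by
  intro r
  induction r using Nat.strong_induction_on with
  | _ r ih =>
    intro hr
    have h := orbB_of_mem D hD
    unfold orbB at h
    simp only [List.all_eq_true, List.mem_range, Bool.or_eq_true, Bool.not_eq_true', decide_eq_false_iff_not,
      List.any_eq_true, beq_iff_eq, Bool.and_eq_true, decide_eq_true_eq] at h
    rcases h r hr.1 with h' | ⟨i, hi, h' | ⟨hlt, hpos⟩⟩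
    · exact absurd hr h'
    · exact ⟨[], i, by simp, hi, by rw [h']; rfl⟩
    · obtain ⟨L, j, hL, hj, hLj⟩ := ih _ hlt hpos
      refine ⟨i :: L, j, ?_, hj, ?_⟩
      · intro k hk
        rcases List.mem_cons.mp hk with rfl | hk'
        · exact hi
        · exact hL k hk'
      · show D.reflectRoot i (reflWord D L (D.simple j)) = r
        rw [hLj]
        exact (conjFacts_of_mem D hD i hi).winv r hr.1

/-- every root is conjugate to a fundamental root under the Weyl group -/
theorem exists_word_root (r : ℕ) (hr : r < D.nroots) : ∃ (L : List ℕ) (i : ℕ), (∀ j ∈ L, j < D.rank) ∧ i < D.rank ∧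
    reflWord D L (D.simple i) = r := by
  rcases posOrNeg_of_mem D hD r hr with hpos | hneg
  · exact exists_word_pos hD r hpos
  · have hNI := negInvOK_of_mem D hD r hr
    obtain ⟨L, i, hL, hi, hLi⟩ := exists_word_pos hD _ (hNI.2.2 hneg)
    have hF := fundFacts_of_mem D hD i hi
    refine ⟨L ++ [i], i, ?_, hi, ?_⟩
    · intro k hk
      rcases List.mem_append.mp hk with hk' | hk'
      · exact hL k hk'
      · rw [List.mem_singleton] at hk'; rw [hk']; exact hi
    · rw [reflWord_append]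
      show reflWord D L (D.reflectRoot i (D.simple i)) = r
      rw [StData.reflectRoot_simple, reflWord_neg hD L hL _ hF.hp, hLi]
      exact hNI.1

variable (K : Type*) [Field K]

/-- `n_p(t) x_p(u) n_p(t)⁻¹ = x_{-p}(-t⁻² u)` in the Chevalley group -/
theorem nGL_conj_self (i : ℕ) (hi : i < D.rank) (t : K) (ht : t ≠ 0) (u : K) :
    wordGL D hD K (D.nWord (D.simple i) t) * xGL D hD K (D.simple i) u *
      (wordGL D hD K (D.nWord (D.simple i) t))⁻¹ = xGL D hD K (D.neg (D.simple i)) (-(t⁻¹ ^ 2 * u)) := by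
  have hF := fundFacts_of_mem D hD i hi
  have hR := rootFacts_of_mem D hD _ hF.hp
  rw [nGL_eq_hGL_mul]
  have h1 := nGL_conj_xGL D hD K i hi _ hF.hp u
  rw [StData.reflectRoot_simple] at h1
  have hη : etaFn D i (D.simple i) = -1 := by
    unfold etaFn; simp
  rw [hη] at h1
  have hh : ((wordGL D hD K (D.hWord (D.simple i) t) : GL D.Idx K) : Matrix D.Idx D.Idx K) =
      diagChar D K (fun s => t ^ carR D (D.simple i) s) := by
    rw [coe_wordGL]
    exact hMat_eq_diagChar D hD K _ hF.hp t ht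
  have h2 := diagGL_xGL_comm D hD K _ _ (chainChar_h D hD K (D.simple i) t ht) hh (D.neg (D.simple i))
    (((-1 : ℤ) : K) * u)
  have e : wordGL D hD K (D.hWord (D.simple i) t) * wordGL D hD K (D.nWord (D.simple i) 1) *
      xGL D hD K (D.simple i) u *
      (wordGL D hD K (D.hWord (D.simple i) t) * wordGL D hD K (D.nWord (D.simple i) 1))⁻¹ =
      wordGL D hD K (D.hWord (D.simple i) t) * (wordGL D hD K (D.nWord (D.simple i) 1) *
      xGL D hD K (D.simple i) u * (wordGL D hD K (D.nWord (D.simple i) 1))⁻¹) *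
      (wordGL D hD K (D.hWord (D.simple i) t))⁻¹ := by group
  rw [e, h1, h2, mul_assoc, mul_inv_cancel, mul_one]
  congr 1
  show t ^ carR D (D.simple i) (D.neg (D.simple i)) * (((-1 : ℤ) : K) * u) = _
  rw [hR.Arb]
  have : t ^ (-2 : ℤ) = t⁻¹ ^ 2 := by
    rw [_root_.zpow_neg, ← _root_.inv_zpow]; norm_cast
  rw [this]
  push_cast
  ring

end

section
variable {D : ChevalleyDatum} {hD : D ∈ [chevG2, chevB2, chevD4, chevF4, chevE6, chevE7, chevE8]}
variable {K : Type*} [Field K] {Γ : Type*} [Group Γ] (S : StData D hD K Γ)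

namespace StData

/-- the product of the elements `w̄_{p_i}(1)` along a word -/
def nW (L : List ℕ) : Γ := (L.map fun i => S.w (D.simple i) 1).prod

theorem nW_cons (i : ℕ) (L : List ℕ) : S.nW (i :: L) = S.w (D.simple i) 1 * S.nW L := by
  unfold nW; rw [List.map_cons, List.prod_cons]

/-- the element `n̄_L` conjugates `x̄_s`, `x̄_{-s}` to `x̄_{w s}`, `x̄_{-w s}` with the same sign -/
theorem signed_nW (L : List ℕ) (hL : ∀ i ∈ L, i < D.rank) (s : ℕ) (hs : s < D.nroots) :
    ∃ ε : K, (ε = 1 ∨ ε = -1) ∧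
      (∀ u : K, S.nW L * S.x s u * (S.nW L)⁻¹ = S.x (reflWord D L s) (ε * u)) ∧
      (∀ u : K, S.nW L * S.x (D.neg s) u * (S.nW L)⁻¹ = S.x (D.neg (reflWord D L s)) (ε * u)) := by
  induction L with
  | nil =>
    refine ⟨1, Or.inl rfl, fun u => ?_, fun u => ?_⟩ <;> simp [nW, reflWord]
  | cons i L ih =>
    have hi : i < D.rank := hL i List.mem_cons_self
    have hL' : ∀ j ∈ L, j < D.rank := fun j hj => hL j (List.mem_cons_of_mem _ hj)
    obtain ⟨ε₀, hε₀, h1, h2⟩ := ih hL'
    have hC := conjFacts_of_mem D hD i hi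
    have hs' := reflWord_lt hD L hL' s hs
    obtain ⟨hns', hwneg, -⟩ := hC.wneg _ hs'
    have hη : (((etaFn D i (reflWord D L s) : ℤ) : K) = 1 ∨ ((etaFn D i (reflWord D L s) : ℤ) : K) = -1) := by
      rcases hC.ηpm _ hs' with h | h <;> rw [h]
      · left; norm_num
      · right; norm_num
    refine ⟨((etaFn D i (reflWord D L s) : ℤ) : K) * ε₀, ?_, fun u => ?_, fun u => ?_⟩
    · rcases hη with h | h <;> rcases hε₀ with h' | h' <;> rw [h, h'] <;> norm_num
    · have e : S.nW (i :: L) * S.x s u * (S.nW (i :: L))⁻¹ =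
          S.w (D.simple i) 1 * (S.nW L * S.x s u * (S.nW L)⁻¹) * (S.w (D.simple i) 1)⁻¹ := by
        rw [S.nW_cons]; group
      rw [e, h1 u, S.w_conj i hi 1 one_ne_zero _ hs' _ _ (nGL_conj_xGL D hD K i hi _ hs' _), mul_assoc]
      rfl
    · have e : S.nW (i :: L) * S.x (D.neg s) u * (S.nW (i :: L))⁻¹ =
          S.w (D.simple i) 1 * (S.nW L * S.x (D.neg s) u * (S.nW L)⁻¹) * (S.w (D.simple i) 1)⁻¹ := by
        rw [S.nW_cons]; group
      rw [e, h2 u, S.w_conj i hi 1 one_ne_zero _ hns' _ _ (nGL_conj_xGL D hD K i hi _ hns' _), hwneg,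
        hC.ηneg _ hs', mul_assoc]
      rfl

/-- the rank one relation for a fundamental root -/
theorem rel_fund (i : ℕ) (hi : i < D.rank) (t u : K) (ht : t ≠ 0) :
    S.w (D.simple i) t * S.x (D.simple i) u * (S.w (D.simple i) t)⁻¹ =
      S.x (D.neg (D.simple i)) (-(t⁻¹ ^ 2 * u)) :=
  S.w_conj_self i hi t ht u _ (nGL_conj_self hD K i hi t ht u)

/-- the rank one relation for every root -/
theorem rel_root (r : ℕ) (hr : r < D.nroots) (t u : K) (ht : t ≠ 0) :
    S.w r t * S.x r u * (S.w r t)⁻¹ = S.x (D.neg r) (-(t⁻¹ ^ 2 * u)) := by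
  obtain ⟨L, i, hL, hi, rfl⟩ := exists_word_root hD r hr
  have hF := fundFacts_of_mem D hD i hi
  obtain ⟨ε, hε, h1, h2⟩ := S.signed_nW L hL _ hF.hp
  have hεε : ε * ε = 1 := by rcases hε with h | h <;> rw [h] <;> norm_num
  have hε0 : ε ≠ 0 := by rcases hε with h | h <;> rw [h] <;> norm_num
  have hεinv : ε⁻¹ = ε := by
    rw [inv_eq_iff_eq_inv, eq_comm, inv_eq_iff_eq_inv]
    exact (eq_inv_of_mul_eq_one_left hεε)
  -- the conjugate of `w̄_p(ε t)` is `w̄_r(t)`
  have hw : S.nW L * S.w (D.simple i) (ε * t) * (S.nW L)⁻¹ = S.w (reflWord D L (D.simple i)) t := by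
    unfold w
    have e : S.nW L * (S.x (D.simple i) (ε * t) * S.x (D.neg (D.simple i)) (-(ε * t)⁻¹) *
        S.x (D.simple i) (ε * t)) * (S.nW L)⁻¹ =
        (S.nW L * S.x (D.simple i) (ε * t) * (S.nW L)⁻¹) *
        (S.nW L * S.x (D.neg (D.simple i)) (-(ε * t)⁻¹) * (S.nW L)⁻¹) *
        (S.nW L * S.x (D.simple i) (ε * t) * (S.nW L)⁻¹) := by group
    rw [e, h1, h2, ← mul_assoc, hεε, one_mul]
    congr 2
    rw [mul_inv, hεinv]
    have : ε ^ 2 = 1 := by rw [pow_two]; exact hεε
    congr 1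
    calc ε * -(ε * t⁻¹) = -(ε ^ 2 * t⁻¹) := by ring
      _ = _ := by rw [this, one_mul]
  have hx : S.nW L * S.x (D.simple i) (ε * u) * (S.nW L)⁻¹ = S.x (reflWord D L (D.simple i)) u := by
    rw [h1, ← mul_assoc, hεε, one_mul]
  rw [← hw, ← hx]
  have e : S.nW L * S.w (D.simple i) (ε * t) * (S.nW L)⁻¹ * (S.nW L * S.x (D.simple i) (ε * u) * (S.nW L)⁻¹) *
      (S.nW L * S.w (D.simple i) (ε * t) * (S.nW L)⁻¹)⁻¹ =
      S.nW L * (S.w (D.simple i) (ε * t) * S.x (D.simple i) (ε * u) * (S.w (D.simple i) (ε * t))⁻¹) *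
        (S.nW L)⁻¹ := by group
  rw [e, S.rel_fund i hi _ _ (mul_ne_zero hε0 ht), h2]
  congr 1
  rw [mul_inv, hεinv]
  have : ε ^ 2 = 1 := by rw [pow_two]; exact hεε
  calc ε * -((ε * t⁻¹) ^ 2 * (ε * u)) = -(ε ^ 2 * ε ^ 2 * (t⁻¹ ^ 2 * u)) := by ring
    _ = _ := by rw [this, one_mul, one_mul]

/-- the Steinberg pair of a root -/
def pair (r : ℕ) (hr : r < D.nroots) : Cfsg.Agent.Lib.Helper11.Steinberg2.StPair K Γ where
  x := S.x r
  y := S.x (D.neg r)
  x_add := S.x_add r hr
  y_add := S.x_add (D.neg r) (negOK_of_mem D hD r hr).1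
  rel := fun t u ht => S.rel_root r hr t u ht

theorem word_hWord (r : ℕ) (hr : r < D.nroots) (t : K) :
    wordG S.x (D.hWord r t) = (S.pair r hr).h t := by
  unfold Cfsg.Agent.Lib.Helper11.Steinberg2.StPair.h
  rw [Cfsg.Agent.Lib.Helper11.Steinberg2.StPair.w_inv]
  unfold ChevalleyDatum.hWord
  rw [wordG_append, ← S.w_eq_word, ← S.w_eq_word]
  rfl

/-- over a finite field the relations (R3) hold -/
theorem R3 [Finite K] (r : ℕ) (hr : r < D.nroots) (t₁ t₂ : K) (h1 : t₁ ≠ 0) (h2 : t₂ ≠ 0) :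
    wordG S.x (D.hWord r t₁) * wordG S.x (D.hWord r t₂) = wordG S.x (D.hWord r (t₁ * t₂)) := by
  rw [S.word_hWord r hr, S.word_hWord r hr, S.word_hWord r hr]
  exact ((S.pair r hr).H_mul t₁ t₂ h1 h2).symm

end StData

end

section
variable (D : ChevalleyDatum) (hD : D ∈ [chevG2, chevB2, chevD4, chevF4, chevE6, chevE7, chevE8])
variable (K : Type*) [Field K] [Finite K]
include hD

/-- over a finite field the relators (R3) lie in the normal closure of (R1), (R2) -/
theorem normalClosure_rels_eq :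
    Subgroup.normalClosure (D.steinbergRelsAB K) = Subgroup.normalClosure (D.steinbergRels K) := by
  apply le_antisymm
  · exact Subgroup.normalClosure_mono (fun g hg => Or.inl hg)
  · apply Subgroup.normalClosure_le_normal
    rintro g (hg | ⟨r, t₁, t₂, hr, h1, h2, rfl⟩)
    · exact Subgroup.subset_normalClosure hg
    · let S := mkData (D := D) (K := K) hD (D.steinbergRelsAB K) (le_refl _) (liftF_relsAB D hD K)
      rw [SetLike.mem_coe, ← QuotientGroup.eq_one_iff]
      have h := S.R3 r hr t₁ t₂ h1 h2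
      show PresentedGroup.mk (D.steinbergRelsAB K) (D.stH r t₁ * D.stH r t₂ * (D.stH r (t₁ * t₂))⁻¹) = 1
      rw [map_mul, map_mul, map_inv, mul_inv_eq_one]
      unfold ChevalleyDatum.stH
      rw [mk_stWord, mk_stWord, mk_stWord]
      exact h

/-- over a finite field the group presented by (R1), (R2) is the group presented by (R1)–(R3) -/
theorem exists_cover_equiv :
    ∃ e : D.SteinbergCover K ≃* D.SteinbergGroup K, ∀ (r : ℕ) (t : K), e (D.scGen K r t) = D.stGen K r t :=
  ⟨QuotientGroup.quotientMulEquivOfEq (normalClosure_rels_eq D hD K), fun _ _ => rfl⟩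

end

end Cfsg.Agent.Lib.Helper11.StPres

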