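import Cfsg.Agent.Lib.Helper11.StPresF

/-! Steinberg's presentation, part G (helper11): in a group with the relations (R1), (R2), (R3) the kernel
of the map to the Chevalley group lies in the subgroup generated by the `h̄_p(t)`, `p` fundamental. -/

set_option autoImplicit false

namespace Cfsg.Agent.Lib.Helper11.StPres

open Cfsg Cfsg.Lie Matrix
open Cfsg.Agent.Lib.Helper7

section
variable {D : ChevalleyDatum} (hD : D ∈ [chevG2, chevB2, chevD4, chevF4, chevE6, chevE7, chevE8])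
include hD

theorem not_pos_and_neg (r : ℕ) (hp : D.IsPosRoot r) (hn : D.IsNegRoot r) : False := by
  obtain ⟨w0, hO⟩ := exists_ordW D hD
  have h1 := hO.pos r hp
  have h2 := A_neg_of_neg D hD _ (chainAdd_linF D hD w0) hO r hn
  omega

/-- the exchange condition: if a word maps a negative root to a positive root, some final segment maps
it to the negative of a fundamental root -/
theorem exchange_aux : ∀ (L : List ℕ), (∀ i ∈ L, i < D.rank) → ∀ q, D.IsNegRoot q → D.IsPosRoot (reflWord D L q) →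
    ∃ (L₁ : List ℕ) (a : ℕ) (L₂ : List ℕ), L = L₁ ++ a :: L₂ ∧ reflWord D L₂ q = D.neg (D.simple a) := by
  intro L
  induction L with
  | nil =>
    intro _ q hq hpos
    exact absurd hq (fun h => not_pos_and_neg hD q hpos h)
  | cons i L ih =>
    intro hL q hq hpos
    have hi : i < D.rank := hL i List.mem_cons_self
    have hL' : ∀ k ∈ L, k < D.rank := fun k hk => hL k (List.mem_cons_of_mem _ hk)
    have hr := reflWord_lt hD L hL' q hq.1
    rcases posOrNeg_of_mem D hD _ hr with hp | hn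
    · obtain ⟨L₁, a, L₂, rfl, h⟩ := ih hL' q hq hp
      exact ⟨i :: L₁, a, L₂, rfl, h⟩
    · by_cases hne : reflWord D L q = D.neg (D.simple i)
      · exact ⟨[], i, L, rfl, hne⟩
      · exfalso
        have := reflect_neg_of_neg D hD i hi _ hn hne
        exact not_pos_and_neg hD _ hpos this

end

section
variable {D : ChevalleyDatum} {hD : D ∈ [chevG2, chevB2, chevD4, chevF4, chevE6, chevE7, chevE8]}
variable {K : Type*} [Field K] {Γ : Type*} [Group Γ] (S : StData D hD K Γ)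

namespace StData

/-- the kernel of `θ` lies in `N̄` -/
theorem ker_le_Nbar : S.θ.ker ≤ S.Nbar := by
  intro z hz
  have hzc := S.ker_le_center hz
  rw [MonoidHom.mem_ker] at hz
  obtain ⟨u, hu, n, hn, u', hu', rfl⟩ := S.mem_BNB z
  rw [map_mul, map_mul] at hz
  have hθu := S.θ_Ubar u hu
  have hθu' := S.θ_Ubar u' hu'
  have hθn := S.θ_Nbar n hn
  have hnU : S.θ n ∈ D.posUnipotent K := by
    have e : S.θ n = (S.θ u)⁻¹ * (S.θ u')⁻¹ := by
      have : S.θ u * S.θ n = (S.θ u')⁻¹ := eq_inv_of_mul_eq_one_left hz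
      rw [← this]; group
    rw [e]
    exact Subgroup.mul_mem _ (Subgroup.inv_mem _ hθu) (Subgroup.inv_mem _ hθu')
  have hnH : S.θ n ∈ D.diagonalSubgroup K := by
    rw [← borel_inf_monomial D hD K]
    exact ⟨posUnipotent_le_borel D hD K hnU, hθn⟩
  have hn1 : S.θ n = 1 := by
    have : S.θ n ∈ D.posUnipotent K ⊓ D.diagonalSubgroup K := ⟨hnU, hnH⟩
    rw [posUnipotent_inf_diagonalSubgroup D hD K] at this
    exact Subgroup.mem_bot.mp this
  rw [hn1, mul_one] at hz
  have huu : u * u' = 1 :=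
    S.inj_Ubar _ _ (Subgroup.mul_mem _ hu hu') (Subgroup.one_mem _) (by rw [map_mul, hz, map_one])
  have hnc := S.Nbar_ker_central n hn hn1
  have e : u * n * u' = n := by
    rw [Subgroup.mem_center_iff] at hnc
    rw [hnc u, mul_assoc, huu, mul_one]
  rw [e]
  exact hn

/-- transfer of conjugation formulas from the Chevalley group, for the elements of `N̄` -/
theorem Nbar_transfer (n : Γ) (hn : n ∈ S.Nbar) (s : ℕ) (hs : s < D.nroots) (u : K) (s' : ℕ)
    (hs' : s' < D.nroots) (v : K) (h : S.θ n * xGL D hD K s u * (S.θ n)⁻¹ = xGL D hD K s' v) :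
    n * S.x s u * n⁻¹ = S.x s' v := by
  obtain ⟨L, hL, hact⟩ := S.exists_word_of_mem_Nbar n hn
  obtain ⟨hlt, c, hc, h1⟩ := hact s hs
  rw [h1 u]
  have h2 := congrArg S.θ (h1 u)
  rw [map_mul, map_mul, map_inv, S.θ_x s hs, S.θ_x _ hlt, h] at h2
  by_cases hu : u = 0
  · subst hu
    rw [mul_zero, xGL_zero] at h2
    have : v = 0 := by
      have h3 : xGL D hD K s' v = xGL D hD K s' 0 := by rw [h2, xGL_zero]
      exact xGL_param_inj D hD K s' hs' _ _ h3
    rw [this, mul_zero, S.x_zero _ hlt, S.x_zero _ hs']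
  · have hcu : c * u ≠ 0 := mul_ne_zero hc hu
    have hss : reflWord D L s = s' :=
      (xGL_root_inj D hD K _ _ hlt hs' (c * u) v hcu h2.symm)
    subst hss
    have := xGL_param_inj D hD K _ hlt _ _ h2
    rw [← this]

/-- an element conjugating `x̄_s`, `x̄_{-s}` to `x̄_{s'}`, `x̄_{-s'}` with the same sign conjugates
`w̄_s(t)` to `w̄_{s'}(± t)` -/
theorem conj_w_of_signed (n : Γ) (s s' : ℕ) (ε : K) (hε : ε = 1 ∨ ε = -1)
    (h1 : ∀ u : K, n * S.x s u * n⁻¹ = S.x s' (ε * u))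
    (h2 : ∀ u : K, n * S.x (D.neg s) u * n⁻¹ = S.x (D.neg s') (ε * u)) (t : K) :
    n * S.w s t * n⁻¹ = S.w s' (ε * t) := by
  unfold w
  have e : n * (S.x s t * S.x (D.neg s) (-t⁻¹) * S.x s t) * n⁻¹ =
      (n * S.x s t * n⁻¹) * (n * S.x (D.neg s) (-t⁻¹) * n⁻¹) * (n * S.x s t * n⁻¹) := by group
  rw [e, h1, h2]
  congr 2
  congr 1
  rcases hε with h | h <;> rw [h] <;> simp

theorem nW_mem_Nbar (L : List ℕ) (hL : ∀ i ∈ L, i < D.rank) : S.nW L ∈ S.Nbar := by
  unfold nW
  apply Subgroup.list_prod_mem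
  intro g hg
  rw [List.mem_map] at hg
  obtain ⟨i, hi, rfl⟩ := hg
  exact S.w_mem_Nbar i (hL i hi) 1 one_ne_zero

/-- `w̄_r(t) ∈ N̄` for every root `r` -/
theorem w_root_mem_Nbar (r : ℕ) (hr : r < D.nroots) (t : K) (ht : t ≠ 0) : S.w r t ∈ S.Nbar := by
  obtain ⟨L, i, hL, hi, rfl⟩ := exists_word_root hD r hr
  have hF := fundFacts_of_mem D hD i hi
  obtain ⟨ε, hε, h1, h2⟩ := S.signed_nW L hL _ hF.hp
  have hεε : ε * ε = 1 := by rcases hε with h | h <;> rw [h] <;> norm_num
  have hε0 : ε ≠ 0 := by rcases hε with h | h <;> rw [h] <;> norm_num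
  have := S.conj_w_of_signed (S.nW L) _ _ ε hε h1 h2 (ε * t)
  rw [← mul_assoc, hεε, one_mul] at this
  rw [← this]
  have hn := S.nW_mem_Nbar L hL
  exact Subgroup.mul_mem _ (Subgroup.mul_mem _ hn (S.w_mem_Nbar i hi _ (mul_ne_zero hε0 ht)))
    (Subgroup.inv_mem _ hn)

/-- `h̄_r(t) = w̄_r(t) w̄_r(-1)` -/
def hb (r : ℕ) (t : K) : Γ := S.w r t * S.w r (-1)

theorem hb_eq_word (r : ℕ) (t : K) : S.hb r t = wordG S.x (D.hWord r t) := by
  unfold hb ChevalleyDatum.hWord
  rw [wordG_append, ← S.w_eq_word, ← S.w_eq_word]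

theorem hb_mem_Nbar (r : ℕ) (hr : r < D.nroots) (t : K) (ht : t ≠ 0) : S.hb r t ∈ S.Nbar :=
  Subgroup.mul_mem _ (S.w_root_mem_Nbar r hr t ht)
    (S.w_root_mem_Nbar r hr (-1) (neg_ne_zero.mpr one_ne_zero))

theorem θ_hb (r : ℕ) (hr : r < D.nroots) (t : K) : S.θ (S.hb r t) = wordGL D hD K (D.hWord r t) := by
  unfold hb ChevalleyDatum.hWord
  rw [map_mul, S.θ_w r hr, S.θ_w r hr, wordGL_append]

/-- `h̄_r(t) x̄_s(u) h̄_r(t)⁻¹ = x̄_s(t^⟨s,r^∨⟩ u)` -/
theorem hb_conj_x (r : ℕ) (hr : r < D.nroots) (t : K) (ht : t ≠ 0) (s : ℕ) (hs : s < D.nroots) (u : K) :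
    S.hb r t * S.x s u * (S.hb r t)⁻¹ = S.x s (t ^ carR D r s * u) := by
  apply S.Nbar_transfer _ (S.hb_mem_Nbar r hr t ht) s hs u s hs
  rw [S.θ_hb r hr]
  have hh : ((wordGL D hD K (D.hWord r t) : GL D.Idx K) : Matrix D.Idx D.Idx K) =
      diagChar D K (fun s => t ^ carR D r s) := by
    rw [coe_wordGL]
    exact hMat_eq_diagChar D hD K r hr t ht
  rw [diagGL_xGL_comm D hD K _ _ (chainChar_h D hD K r t ht) hh s u, mul_assoc, mul_inv_cancel, mul_one]

/-- `h̄_r(t) w̄_s(u) h̄_r(t)⁻¹ = w̄_s(t^⟨s,r^∨⟩ u)` -/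
theorem hb_conj_w (r : ℕ) (hr : r < D.nroots) (t : K) (ht : t ≠ 0) (s : ℕ) (hs : s < D.nroots) (u : K) :
    S.hb r t * S.w s u * (S.hb r t)⁻¹ = S.w s (t ^ carR D r s * u) := by
  have hN := negOK_of_mem D hD s hs
  have hcar : carR D r (D.neg s) = - carR D r s :=
    (chainAdd_carR D (fun k hk => hxFacts_of_mem D hD k hk) r).negA s hs hN.1
  unfold w
  have e : S.hb r t * (S.x s u * S.x (D.neg s) (-u⁻¹) * S.x s u) * (S.hb r t)⁻¹ =
      (S.hb r t * S.x s u * (S.hb r t)⁻¹) * (S.hb r t * S.x (D.neg s) (-u⁻¹) * (S.hb r t)⁻¹) *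
      (S.hb r t * S.x s u * (S.hb r t)⁻¹) := by group
  have hN1 : D.neg s < D.nroots := hN.1
  rw [e, S.hb_conj_x r hr t ht s hs, S.hb_conj_x r hr t ht (D.neg s) hN1, hcar]
  congr 2
  congr 1
  rw [_root_.zpow_neg, mul_inv]
  ring


theorem w_neg_one (r : ℕ) (hr : r < D.nroots) : S.w r (-1) = (S.w r 1)⁻¹ := (S.w_inv r hr 1).symm

theorem hb_one (r : ℕ) (hr : r < D.nroots) : S.hb r 1 = 1 := by
  unfold hb
  rw [S.w_neg_one r hr, mul_inv_cancel]

theorem w_mul_w_neg (r : ℕ) (hr : r < D.nroots) (a b : K) :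
    S.w r a * S.w r (-b) = S.hb r a * (S.hb r b)⁻¹ := by
  unfold hb
  rw [← S.w_inv r hr b]
  group

theorem hb_mul_w_one (r : ℕ) (hr : r < D.nroots) (t : K) : S.hb r t * S.w r 1 = S.w r t := by
  unfold hb
  rw [S.w_neg_one r hr, mul_assoc, inv_mul_cancel, mul_one]

theorem nW_append (L L' : List ℕ) : S.nW (L ++ L') = S.nW L * S.nW L' := by
  unfold nW; rw [List.map_append, List.prod_append]

theorem nW_nil : S.nW [] = 1 := rfl

theorem nW_singleton (i : ℕ) : S.nW [i] = S.w (D.simple i) 1 := by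
  rw [S.nW_cons, S.nW_nil, mul_one]

/-- conjugation of `h̄_r(t)` by `n̄_L` -/
theorem conj_hb (L : List ℕ) (hL : ∀ i ∈ L, i < D.rank) (r : ℕ) (hr : r < D.nroots) (t : K) :
    ∃ ε : K, (ε = 1 ∨ ε = -1) ∧ S.nW L * S.hb r t * (S.nW L)⁻¹ =
      S.hb (reflWord D L r) (ε * t) * (S.hb (reflWord D L r) ε)⁻¹ := by
  obtain ⟨ε, hε, h1, h2⟩ := S.signed_nW L hL r hr
  refine ⟨ε, hε, ?_⟩
  have hr' := reflWord_lt hD L hL r hr
  have e : S.nW L * S.hb r t * (S.nW L)⁻¹ =
      (S.nW L * S.w r t * (S.nW L)⁻¹) * (S.nW L * S.w r (-1) * (S.nW L)⁻¹) := by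
    unfold hb; group
  rw [e, S.conj_w_of_signed _ _ _ ε hε h1 h2, S.conj_w_of_signed _ _ _ ε hε h1 h2, mul_neg, mul_one,
    S.w_mul_w_neg _ hr']

/-- the subgroup generated by the `h̄_p(t)`, `p` fundamental -/
def Hfund : Subgroup Γ :=
  Subgroup.closure {g | ∃ i, i < D.rank ∧ ∃ t : K, t ≠ 0 ∧ g = S.hb (D.simple i) t}

/-- the relations (R3) -/
def HasR3 : Prop :=
  ∀ r, r < D.nroots → ∀ t₁ t₂ : K, t₁ ≠ 0 → t₂ ≠ 0 → S.hb r t₁ * S.hb r t₂ = S.hb r (t₁ * t₂)

theorem hb_fund_mem (i : ℕ) (hi : i < D.rank) (t : K) (ht : t ≠ 0) : S.hb (D.simple i) t ∈ S.Hfund :=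
  Subgroup.subset_closure ⟨i, hi, t, ht, rfl⟩

variable (h3 : S.HasR3)
include h3

/-- under (R3), `n̄_L h̄_r(t) n̄_L⁻¹ = h̄_{w r}(t)` -/
theorem conj_hb' (L : List ℕ) (hL : ∀ i ∈ L, i < D.rank) (r : ℕ) (hr : r < D.nroots) (t : K) (ht : t ≠ 0) :
    S.nW L * S.hb r t * (S.nW L)⁻¹ = S.hb (reflWord D L r) t := by
  obtain ⟨ε, hε, h⟩ := S.conj_hb L hL r hr t
  have hε0 : ε ≠ 0 := by rcases hε with h | h <;> rw [h] <;> norm_num
  have hr' := reflWord_lt hD L hL r hr
  rw [h, mul_comm ε t, ← h3 _ hr' t ε ht hε0, mul_assoc, mul_inv_cancel, mul_one]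

theorem hb_reflect (i : ℕ) (hi : i < D.rank) (r : ℕ) (hr : r < D.nroots) (t : K) (ht : t ≠ 0) :
    S.hb (D.reflectRoot i r) t = (S.hb (D.simple i) (t ^ carR D r (D.simple i)))⁻¹ * S.hb r t := by
  have hF := fundFacts_of_mem D hD i hi
  have h1 := S.conj_hb' h3 [i] (by simpa using hi) r hr t ht
  rw [S.nW_singleton] at h1
  have h2 := S.hb_conj_w r hr t ht _ hF.hp 1
  rw [mul_one] at h2
  have h4 : S.hb (D.reflectRoot i r) t = S.w (D.simple i) 1 * S.hb r t * (S.w (D.simple i) 1)⁻¹ := h1.symm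
  rw [h4]
  have h5 : S.w (D.simple i) 1 * (S.hb r t)⁻¹ * (S.w (D.simple i) 1)⁻¹ =
      (S.hb r t)⁻¹ * S.hb (D.simple i) (t ^ carR D r (D.simple i)) := by
    have : S.w (D.simple i) 1 * (S.hb r t)⁻¹ * (S.w (D.simple i) 1)⁻¹ =
        (S.hb r t)⁻¹ * (S.hb r t * S.w (D.simple i) 1 * (S.hb r t)⁻¹) * (S.w (D.simple i) 1)⁻¹ := by group
    rw [this, h2, mul_assoc, ← S.w_neg_one _ hF.hp]
    rfl
  have h6 : S.w (D.simple i) 1 * S.hb r t * (S.w (D.simple i) 1)⁻¹ =
      (S.w (D.simple i) 1 * (S.hb r t)⁻¹ * (S.w (D.simple i) 1)⁻¹)⁻¹ := by group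
  rw [h6, h5]
  group

/-- under (R3) all `h̄_r(t)` lie in the subgroup generated by the fundamental ones -/
theorem hb_mem_Hfund (r : ℕ) (hr : r < D.nroots) (t : K) (ht : t ≠ 0) : S.hb r t ∈ S.Hfund := by
  obtain ⟨L, j, hL, hj, rfl⟩ := exists_word_root hD r hr
  have hF := fundFacts_of_mem D hD j hj
  have key : ∀ L : List ℕ, (∀ k ∈ L, k < D.rank) → ∀ t : K, t ≠ 0 →
      S.hb (reflWord D L (D.simple j)) t ∈ S.Hfund := by
    intro L
    induction L with
    | nil => intro _ t ht; exact S.hb_fund_mem j hj t ht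
    | cons i L ih =>
      intro hL t ht
      have hi : i < D.rank := hL i List.mem_cons_self
      have hL' : ∀ k ∈ L, k < D.rank := fun k hk => hL k (List.mem_cons_of_mem _ hk)
      have hr' := reflWord_lt hD L hL' _ hF.hp
      show S.hb (D.reflectRoot i (reflWord D L (D.simple j))) t ∈ S.Hfund
      rw [S.hb_reflect h3 i hi _ hr' t ht]
      exact Subgroup.mul_mem _ (Subgroup.inv_mem _ (S.hb_fund_mem i hi _ (zpow_ne_zero _ ht)))
        (ih hL' t ht)
  exact key L hL t ht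

/-- under (R3), `N̄` normalises `H̄` -/
theorem Nbar_le_normalizer_Hfund : S.Nbar ≤ Subgroup.normalizer (S.Hfund : Set Γ) := by
  have hw1 : ∀ i, i < D.rank → S.w (D.simple i) 1 ∈ Subgroup.normalizer (S.Hfund : Set Γ) := by
    intro i hi
    have hF := fundFacts_of_mem D hD i hi
    have key : ∀ y ∈ {g | ∃ i, i < D.rank ∧ ∃ t : K, t ≠ 0 ∧ g = S.hb (D.simple i) t},
        S.w (D.simple i) 1 * y * (S.w (D.simple i) 1)⁻¹ ∈ S.Hfund := by
      rintro y ⟨j, hj, u, hu, rfl⟩
      have hFj := fundFacts_of_mem D hD j hj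
      have := S.conj_hb' h3 [i] (by simpa using hi) _ hFj.hp u hu
      rw [S.nW_singleton] at this
      rw [this]
      exact S.hb_mem_Hfund h3 _ (reflWord_lt hD [i] (by simpa using hi) _ hFj.hp) u hu
    unfold Hfund
    apply mem_normalizer_closure
    · exact key
    · intro y hy
      have hm1 : S.hb (D.simple i) (-1) ∈ S.Hfund := S.hb_fund_mem i hi _ (neg_ne_zero.mpr one_ne_zero)
      have e1 : (S.w (D.simple i) 1)⁻¹ = S.hb (D.simple i) (-1) * S.w (D.simple i) 1 := by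
        rw [S.hb_mul_w_one _ hF.hp, S.w_neg_one _ hF.hp]
      rw [e1]
      have e2 : S.hb (D.simple i) (-1) * S.w (D.simple i) 1 * y *
          (S.hb (D.simple i) (-1) * S.w (D.simple i) 1)⁻¹ =
          S.hb (D.simple i) (-1) * (S.w (D.simple i) 1 * y * (S.w (D.simple i) 1)⁻¹) *
          (S.hb (D.simple i) (-1))⁻¹ := by group
      rw [e2]
      exact Subgroup.mul_mem _ (Subgroup.mul_mem _ hm1 (key y hy)) (Subgroup.inv_mem _ hm1)
  unfold Nbar
  rw [Subgroup.closure_le]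
  rintro g ⟨i, hi, t, ht, rfl⟩
  have hF := fundFacts_of_mem D hD i hi
  rw [SetLike.mem_coe, ← S.hb_mul_w_one _ hF.hp t]
  exact Subgroup.mul_mem _ (Subgroup.le_normalizer (S.hb_fund_mem i hi t ht)) (hw1 i hi)

theorem Hfund_conj_mem (n : Γ) (hn : n ∈ S.Nbar) (h : Γ) (hh : h ∈ S.Hfund) : n * h * n⁻¹ ∈ S.Hfund :=
  (Subgroup.mem_set_normalizer_iff.mp (S.Nbar_le_normalizer_Hfund h3 hn) h).mp hh

/-- under (R3), `N̄ = H̄ · {n̄_L}` -/
theorem exists_Hfund_mul_nW (n : Γ) (hn : n ∈ S.Nbar) :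
    ∃ L : List ℕ, (∀ i ∈ L, i < D.rank) ∧ ∃ h ∈ S.Hfund, n = h * S.nW L := by
  unfold Nbar at hn
  induction hn using Subgroup.closure_induction'' with
  | mem x hx =>
    obtain ⟨i, hi, t, ht, rfl⟩ := hx
    have hF := fundFacts_of_mem D hD i hi
    exact ⟨[i], by simpa using hi, S.hb (D.simple i) t, S.hb_fund_mem i hi t ht,
      by rw [S.nW_singleton, S.hb_mul_w_one _ hF.hp]⟩
  | inv_mem x hx =>
    obtain ⟨i, hi, t, ht, rfl⟩ := hx
    have hF := fundFacts_of_mem D hD i hi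
    rw [S.w_inv _ hF.hp]
    exact ⟨[i], by simpa using hi, S.hb (D.simple i) (-t), S.hb_fund_mem i hi _ (neg_ne_zero.mpr ht),
      by rw [S.nW_singleton, S.hb_mul_w_one _ hF.hp]⟩
  | one => exact ⟨[], by simp, 1, Subgroup.one_mem _, by rw [S.nW_nil, one_mul]⟩
  | mul x y _ _ ihx ihy =>
    obtain ⟨L, hL, h, hh, rfl⟩ := ihx
    obtain ⟨L', hL', h', hh', rfl⟩ := ihy
    refine ⟨L ++ L', ?_, h * (S.nW L * h' * (S.nW L)⁻¹), ?_, ?_⟩
    · intro i hi
      rcases List.mem_append.mp hi with h | h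
      · exact hL i h
      · exact hL' i h
    · exact Subgroup.mul_mem _ hh (S.Hfund_conj_mem h3 _ (S.nW_mem_Nbar L hL) _ hh')
    · rw [S.nW_append]; group


omit h3 in
/-- if `θ n` is diagonal and `n` acts on the root subgroups as the word `L`, the word acts trivially -/
theorem reflWord_eq_of_θ_diag (n : Γ) (L : List ℕ) (hact : S.ActsAsG n (reflWord D L))
    (hd : S.θ n ∈ D.diagonalSubgroup K) (s : ℕ) (hs : s < D.nroots) : reflWord D L s = s :=
  ActsAs.unique D hD K (ActsAsG.θ S hact) (actsAs_diag D hD K _ hd) s hs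

omit h3 in
theorem actsAsG_nW (L : List ℕ) (hL : ∀ i ∈ L, i < D.rank) : S.ActsAsG (S.nW L) (reflWord D L) := by
  induction L with
  | nil => exact S.actsAsG_one
  | cons i L ih =>
    rw [S.nW_cons]
    exact ActsAsG.mul S (S.actsAsG_w i (hL i List.mem_cons_self) 1 one_ne_zero)
      (ih (fun j hj => hL j (List.mem_cons_of_mem _ hj)))

omit h3 in
/-- two elements acting as words define the same permutation of the roots if they are equal -/
theorem reflWord_congr (n : Γ) (L L' : List ℕ) (h : S.ActsAsG n (reflWord D L)) (h' : S.ActsAsG n (reflWord D L'))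
    (s : ℕ) (hs : s < D.nroots) : reflWord D L s = reflWord D L' s :=
  ActsAs.unique D hD K (ActsAsG.θ S h) (ActsAsG.θ S h') s hs

/-- under (R3), a word in the fundamental reflections acting trivially on the roots gives an element
of `H̄` -/
theorem nW_mem_Hfund_of_trivial : ∀ (m : ℕ) (L : List ℕ), L.length = m → (∀ i ∈ L, i < D.rank) →
    (∀ s, s < D.nroots → reflWord D L s = s) → S.nW L ∈ S.Hfund := by
  intro m
  induction m using Nat.strong_induction_on with
  | _ m ih =>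
    intro L hlen hL htriv
    rcases List.eq_nil_or_concat' L with rfl | ⟨L', j, rfl⟩
    · rw [S.nW_nil]; exact Subgroup.one_mem _
    · have hj : j < D.rank := hL j (by simp)
      have hL' : ∀ i ∈ L', i < D.rank := fun i hi => hL i (by simp [hi])
      have hFj := fundFacts_of_mem D hD j hj
      have hposj := (parFacts_of_mem D hD).simplePos j hj
      have hnegj : D.IsNegRoot (D.neg (D.simple j)) := posNegOK_of_mem D hD _ hFj.hp hposj
      -- `w'(-p_j) = p_j`
      have h1 : reflWord D L' (D.neg (D.simple j)) = D.simple j := by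
        have := htriv _ hFj.hp
        rw [reflWord_append] at this
        have e : reflWord D [j] (D.simple j) = D.neg (D.simple j) := reflectRoot_simple j
        rw [Function.comp_apply, e] at this
        exact this
      obtain ⟨L₁, a, L₂, hsplit, hL₂⟩ := exchange_aux hD L' hL' _ hnegj (by rw [h1]; exact hposj)
      subst hsplit
      have ha : a < D.rank := hL' a (by simp)
      have hL₁ : ∀ i ∈ L₁, i < D.rank := fun i hi => hL' i (by simp [hi])
      have hL₂' : ∀ i ∈ L₂, i < D.rank := fun i hi => hL' i (by simp [hi])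
      have hFa := fundFacts_of_mem D hD a ha
      -- `w₂(p_j) = p_a`
      have hL₂p : reflWord D L₂ (D.simple j) = D.simple a := by
        have h2 := reflWord_neg hD L₂ hL₂' _ hFj.hp
        rw [hL₂] at h2
        have h3' := congrArg D.neg h2
        have e1 : D.neg (D.neg (D.simple a)) = D.simple a := (negInvOK_of_mem D hD _ hFa.hp).1
        have e2 : D.neg (D.neg (reflWord D L₂ (D.simple j))) = reflWord D L₂ (D.simple j) :=
          (negInvOK_of_mem D hD _ (reflWord_lt hD L₂ hL₂' _ hFj.hp)).1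
        rw [e1, e2] at h3'
        exact h3'.symm
      -- `n̄₂ w̄_j n̄₂⁻¹ = w̄_a(ε)`
      obtain ⟨ε, hε, hc1, hc2⟩ := S.signed_nW L₂ hL₂' _ hFj.hp
      have hconj := S.conj_w_of_signed (S.nW L₂) _ _ ε hε hc1 hc2 1
      rw [hL₂p, mul_one] at hconj
      have hε0 : ε ≠ 0 := by rcases hε with h | h <;> rw [h] <;> norm_num
      -- the element `g = w̄_a(1) w̄_a(ε) ∈ H̄`
      have hg : S.w (D.simple a) 1 * S.w (D.simple a) ε ∈ S.Hfund := by
        rcases hε with h | h
        · rw [h]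
          have e : S.w (D.simple a) 1 * S.w (D.simple a) 1 = (S.hb (D.simple a) (-1))⁻¹ := by
            unfold hb
            rw [S.w_neg_one _ hFa.hp, _root_.mul_inv_rev, inv_inv]
          rw [e]
          exact Subgroup.inv_mem _ (S.hb_fund_mem a ha _ (neg_ne_zero.mpr one_ne_zero))
        · rw [h, S.w_neg_one _ hFa.hp, mul_inv_cancel]
          exact Subgroup.one_mem _
      -- rewriting of the word
      have e : S.nW ((L₁ ++ a :: L₂) ++ [j]) =
          (S.nW L₁ * (S.w (D.simple a) 1 * S.w (D.simple a) ε) * (S.nW L₁)⁻¹) * S.nW (L₁ ++ L₂) := by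
        rw [S.nW_append, S.nW_append, S.nW_cons, S.nW_singleton, S.nW_append, ← hconj]
        group
      rw [e]
      apply Subgroup.mul_mem _ (S.Hfund_conj_mem h3 _ (S.nW_mem_Nbar L₁ hL₁) _ hg)
      have hL₁₂ : ∀ i ∈ L₁ ++ L₂, i < D.rank := by
        intro i hi
        rcases List.mem_append.mp hi with h | h
        · exact hL₁ i h
        · exact hL₂' i h
      apply ih (L₁ ++ L₂).length (by rw [← hlen]; simp only [List.length_append, List.length_cons, List.length_nil]; omega) (L₁ ++ L₂) rfl hL₁₂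
      -- the shorter word still acts trivially
      intro s hs
      have hC := conjFacts_of_mem D hD j hj
      -- `n̄₂ w̄_j = w̄_a(ε) n̄₂` acts in two ways
      have hact1 : S.ActsAsG (S.nW L₂ * S.w (D.simple j) 1) (reflWord D (L₂ ++ [j])) := by
        rw [reflWord_append]
        exact ActsAsG.mul S (S.actsAsG_nW L₂ hL₂') (S.actsAsG_w j hj 1 one_ne_zero)
      have hact2 : S.ActsAsG (S.nW L₂ * S.w (D.simple j) 1) (reflWord D (a :: L₂)) := by
        have e' : S.nW L₂ * S.w (D.simple j) 1 = S.w (D.simple a) ε * S.nW L₂ := by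
          rw [← hconj]; group
        rw [e']
        exact ActsAsG.mul S (S.actsAsG_w a ha ε hε0) (S.actsAsG_nW L₂ hL₂')
      have hsj := hC.wlt s hs
      have h4 := S.reflWord_congr _ _ _ hact1 hact2 _ hsj
      rw [reflWord_append] at h4
      have e5 : reflWord D [j] (D.reflectRoot j s) = s := hC.winv s hs
      rw [Function.comp_apply, e5] at h4
      -- `id = w₁ s_a w₂ s_j`
      have h5 := htriv s hs
      rw [reflWord_append, Function.comp_apply, reflWord_append, Function.comp_apply] at h5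
      rw [reflWord_append, Function.comp_apply, h4]
      exact h5


omit h3 in
theorem θ_Hfund (h : Γ) (hh : h ∈ S.Hfund) : S.θ h ∈ D.diagonalSubgroup K := by
  have : S.Hfund ≤ (D.diagonalSubgroup K).comap S.θ := by
    unfold Hfund
    rw [Subgroup.closure_le]
    rintro g ⟨i, hi, t, ht, rfl⟩
    have hF := fundFacts_of_mem D hD i hi
    show S.θ (S.hb (D.simple i) t) ∈ D.diagonalSubgroup K
    rw [S.θ_hb _ hF.hp]
    apply Subgroup.subset_closure
    exact ⟨D.simple i, t, hF.hp, ht, coe_wordGL D hD K _⟩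
  exact this hh

/-- under (R3), the kernel of `θ` lies in `H̄` -/
theorem ker_le_Hfund : S.θ.ker ≤ S.Hfund := by
  intro z hz
  have hzN := S.ker_le_Nbar hz
  obtain ⟨L, hL, h, hh, rfl⟩ := S.exists_Hfund_mul_nW h3 z hzN
  have hθh := S.θ_Hfund h hh
  have hd : S.θ (S.nW L) ∈ D.diagonalSubgroup K := by
    rw [MonoidHom.mem_ker, map_mul] at hz
    have : S.θ (S.nW L) = (S.θ h)⁻¹ := eq_inv_of_mul_eq_one_right hz
    rw [this]
    exact Subgroup.inv_mem _ hθh
  have htriv := fun s hs => S.reflWord_eq_of_θ_diag (S.nW L) L (S.actsAsG_nW L hL) hd s hs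
  exact Subgroup.mul_mem _ hh (S.nW_mem_Hfund_of_trivial h3 _ L rfl hL htriv)

end StData

end

section
variable {D : ChevalleyDatum} (hD : D ∈ [chevG2, chevB2, chevD4, chevF4, chevE6, chevE7, chevE8])
variable {K : Type*} [Field K]

theorem mkData_hb (rels : Set (FreeGroup (Fin D.nroots × K))) (hAB : D.steinbergRelsAB K ⊆ rels)
    (h1 : ∀ g ∈ rels, liftF D hD K g = 1) (r : ℕ) (t : K) :
    (mkData hD rels hAB h1).hb r t = PresentedGroup.mk rels (D.stH r t) := by
  rw [StData.hb_eq_word]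
  unfold ChevalleyDatum.stH
  rw [mk_stWord]
  rfl

/-- the Steinberg group as an instance of the abstract setting -/
noncomputable def stData : StData D hD K (D.SteinbergGroup K) :=
  mkData hD (D.steinbergRels K) (fun _ hg => Or.inl hg) (liftF_rels D hD K)

theorem stData_x (r : ℕ) (t : K) : (stData hD (K := K)).x r t = D.stGen K r t := rfl

theorem stData_hb (r : ℕ) (t : K) :
    (stData hD (K := K)).hb r t = PresentedGroup.mk (D.steinbergRels K) (D.stH r t) :=
  mkData_hb hD _ _ _ r t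

theorem stData_R3 : (stData hD (K := K)).HasR3 := by
  intro r hr t₁ t₂ h1 h2
  rw [stData_hb, stData_hb, stData_hb]
  have hmem : D.stH r t₁ * D.stH r t₂ * (D.stH r (t₁ * t₂))⁻¹ ∈ D.steinbergRels K :=
    Or.inr ⟨r, t₁, t₂, hr, h1, h2, rfl⟩
  have := PresentedGroup.one_of_mem hmem
  rw [map_mul, map_mul, map_inv, mul_inv_eq_one] at this
  exact this

/-- a homomorphism from an instance of the abstract setting to the Chevalley group mapping the
generators to the root elements is `θ` -/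
theorem hom_eq_θG {Γ : Type*} [Group Γ] (S : StData D hD K Γ) (θ : Γ →* ↥(D.group K))
    (hθ : ∀ (r : ℕ) (t : K), r < D.nroots →
      ((θ (S.x r t) : GL D.Idx K) : Matrix D.Idx D.Idx K) = D.x K r t) : θ = S.θG := by
  apply MonoidHom.eq_of_eqOn_dense S.gen
  rintro g ⟨r, hr, t, rfl⟩
  apply Subtype.ext
  apply Units.ext
  rw [hθ r t hr, S.θG_x r hr t]

end

end Cfsg.Agent.Lib.Helper11.StPres
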