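import Cfsg.Agent.Lib.Helper11.StPresG

/-! Steinberg's presentation, part H (helper11): for the types with unimodular Cartan matrix (G₂, F₄, E₈)
the group presented by (R1)–(R3) has trivial centre. -/

set_option autoImplicit false
set_option maxRecDepth 100000

namespace Cfsg.Agent.Lib.Helper11.StPres

open Cfsg Cfsg.Lie Matrix
open Cfsg.Agent.Lib.Helper7

/-! ### products of integral powers -/

section zprod
variable {K : Type*} [Field K]

/-- `∏_{i<n} τ_i ^ v_i` -/
def zprod (τ : ℕ → K) (n : ℕ) (v : ℕ → ℤ) : K := ((List.range n).map fun i => τ i ^ v i).prod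

theorem zprod_congr (τ : ℕ → K) (n : ℕ) (v v' : ℕ → ℤ) (h : ∀ i < n, v i = v' i) :
    zprod τ n v = zprod τ n v' := by
  unfold zprod
  congr 1
  apply List.map_congr_left
  intro i hi
  rw [h i (List.mem_range.mp hi)]

theorem zprod_zero (τ : ℕ → K) (n : ℕ) : zprod τ n (fun _ => 0) = 1 := by
  unfold zprod
  apply List.prod_eq_one
  intro x hx
  rw [List.mem_map] at hx
  obtain ⟨i, -, rfl⟩ := hx
  exact zpow_zero _

theorem zprod_add (τ : ℕ → K) (n : ℕ) (hτ : ∀ i < n, τ i ≠ 0) (v v' : ℕ → ℤ) :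
    zprod τ n (fun i => v i + v' i) = zprod τ n v * zprod τ n v' := by
  unfold zprod
  rw [← List.prod_map_mul]
  congr 1
  apply List.map_congr_left
  intro i hi
  exact zpow_add₀ (hτ i (List.mem_range.mp hi)) _ _

theorem zprod_smul (τ : ℕ → K) (n : ℕ) (c : ℤ) (v : ℕ → ℤ) :
    zprod τ n (fun i => c * v i) = zprod τ n v ^ c := by
  unfold zprod
  induction (List.range n) with
  | nil => simp
  | cons a L ih =>
    rw [List.map_cons, List.prod_cons, List.map_cons, List.prod_cons, ih, mul_zpow]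
    congr 1
    show τ a ^ (c * v a) = _
    rw [mul_comm c, _root_.zpow_mul]

theorem zprod_listSum (τ : ℕ → K) (n : ℕ) (hτ : ∀ i < n, τ i ≠ 0) (J : List ℕ) (c : ℕ → ℤ) (v : ℕ → ℕ → ℤ) :
    zprod τ n (fun i => (J.map fun j => c j * v j i).sum) = (J.map fun j => zprod τ n (v j) ^ c j).prod := by
  induction J with
  | nil => simpa using zprod_zero τ n
  | cons a J ih =>
    simp only [List.map_cons, List.sum_cons, List.prod_cons]
    rw [zprod_add τ n hτ, ih, zprod_smul]

theorem zprod_single (τ : ℕ → K) (n : ℕ) (k : ℕ) (hk : k < n) :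
    zprod τ n (fun i => if i = k then 1 else 0) = τ k := by
  unfold zprod
  induction n with
  | zero => omega
  | succ n ih =>
    rw [List.range_succ, List.map_append, List.prod_append, List.map_singleton, List.prod_singleton]
    by_cases hkn : k = n
    · subst hkn
      show _ * τ k ^ (if k = k then (1 : ℤ) else 0) = _
      rw [if_pos rfl, zpow_one]
      have : ((List.range k).map fun i => τ i ^ (if i = k then (1 : ℤ) else 0)).prod = 1 := by
        apply List.prod_eq_one
        intro x hx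
        rw [List.mem_map] at hx
        obtain ⟨i, hi, rfl⟩ := hx
        rw [if_neg (by have := List.mem_range.mp hi; omega), zpow_zero]
      rw [this, one_mul]
    · show _ * τ n ^ (if n = k then (1 : ℤ) else 0) = _
      rw [if_neg (Ne.symm hkn), zpow_zero, mul_one]
      exact ih (by omega)

end zprod

/-- table check: `B` is an inverse of the Cartan matrix `A_{ij} = ⟨p_j, p_i^∨⟩` -/
def cartanInvB (D : ChevalleyDatum) (B : List (List ℤ)) : Bool :=
  (List.range D.rank).all fun k => (List.range D.rank).all fun i =>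
    ((List.range D.rank).map fun j => (B.getD j []).getD k 0 * carR D (D.simple i) (D.simple j)).sum ==
      (if i = k then 1 else 0)

def cartanInv_G2 : List (List ℤ) := [[2, 3], [1, 2]]
def cartanInv_F4 : List (List ℤ) := [[2, 3, 4, 2], [3, 6, 8, 4], [2, 4, 6, 3], [1, 2, 3, 2]]
def cartanInv_E8 : List (List ℤ) := [[4, 5, 7, 10, 8, 6, 4, 2], [5, 8, 10, 15, 12, 9, 6, 3],
  [7, 10, 14, 20, 16, 12, 8, 4], [10, 15, 20, 30, 24, 18, 12, 6], [8, 12, 16, 24, 20, 15, 10, 5],
  [6, 9, 12, 18, 15, 12, 8, 4], [4, 6, 8, 12, 10, 8, 6, 3], [2, 3, 4, 6, 5, 4, 3, 2]]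

theorem cartanInvB_spec (D : ChevalleyDatum) (B : List (List ℤ)) (h : cartanInvB D B = true) (k : ℕ)
    (hk : k < D.rank) (i : ℕ) (hi : i < D.rank) :
    ((List.range D.rank).map fun j => (B.getD j []).getD k 0 * carR D (D.simple i) (D.simple j)).sum =
      (if i = k then 1 else 0) := by
  unfold cartanInvB at h
  simp only [List.all_eq_true, List.mem_range, beq_iff_eq] at h
  exact h k hk i hi

theorem cartanInvB_G2 : cartanInvB chevG2 cartanInv_G2 = true := by decide +kernel
theorem cartanInvB_F4 : cartanInvB chevF4 cartanInv_F4 = true := by decide +kernel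
theorem cartanInvB_E8 : cartanInvB chevE8 cartanInv_E8 = true := by decide +kernel

theorem exists_cartanInv (D : ChevalleyDatum) (hD : D ∈ [chevG2, chevF4, chevE8]) :
    ∃ B, cartanInvB D B = true := by
  simp only [List.mem_cons, List.not_mem_nil, or_false] at hD
  rcases hD with rfl | rfl | rfl
  · exact ⟨_, cartanInvB_G2⟩
  · exact ⟨_, cartanInvB_F4⟩
  · exact ⟨_, cartanInvB_E8⟩

section
variable {D : ChevalleyDatum} {hD : D ∈ [chevG2, chevB2, chevD4, chevF4, chevE6, chevE7, chevE8]}
variable {K : Type*} [Field K] {Γ : Type*} [Group Γ] (S : StData D hD K Γ)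

namespace StData

/-- the product `∏_i h̄_{p_i}(τ_i)` -/
def hprod (τ : ℕ → K) : Γ := ((List.range D.rank).map fun i => S.hb (D.simple i) (τ i)).prod

/-- the image of a product of `h̄`'s is the diagonal matrix of a character -/
theorem θ_hlist (τ : ℕ → K) (L : List ℕ) (hL : ∀ i ∈ L, i < D.rank ∧ τ i ≠ 0) :
    ((S.θ ((L.map fun i => S.hb (D.simple i) (τ i)).prod) : GL D.Idx K) : Matrix D.Idx D.Idx K) =
      diagChar D K (fun s => (L.map fun i => τ i ^ carR D (D.simple i) s).prod) := by
  induction L with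
  | nil =>
    simp only [List.map_nil, List.prod_nil, map_one]
    rw [diagChar_one]; rfl
  | cons k L ih =>
    obtain ⟨hk, hτk⟩ := hL k List.mem_cons_self
    have hF := fundFacts_of_mem D hD k hk
    rw [List.map_cons, List.prod_cons, map_mul, Units.val_mul, ih (fun i hi => hL i (List.mem_cons_of_mem _ hi)),
      S.θ_hb _ hF.hp, coe_wordGL]
    have : D.wordMat K (D.hWord (D.simple k) (τ k)) = D.hMat K (D.simple k) (τ k) := rfl
    rw [this, hMat_eq_diagChar D hD K _ hF.hp _ hτk, diagChar_mul]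
    congr 1

theorem θ_hprod (τ : ℕ → K) (hτ : ∀ i < D.rank, τ i ≠ 0) :
    ((S.θ (S.hprod τ) : GL D.Idx K) : Matrix D.Idx D.Idx K) =
      diagChar D K (fun s => zprod τ D.rank (fun i => carR D (D.simple i) s)) :=
  S.θ_hlist τ _ (fun i hi => ⟨List.mem_range.mp hi, hτ i (List.mem_range.mp hi)⟩)

/-- if `∏ h̄_{p_i}(τ_i)` lies in the kernel, the character vanishes on all roots -/
theorem zprod_eq_one_of_ker (τ : ℕ → K) (hτ : ∀ i < D.rank, τ i ≠ 0) (h : S.θ (S.hprod τ) = 1) (s : ℕ)
    (hs : s < D.nroots) : zprod τ D.rank (fun i => carR D (D.simple i) s) = 1 := by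
  have h1 := S.θ_hprod τ hτ
  rw [h] at h1
  have h2 := congrFun (congrFun h1 (Sum.inr ⟨s, hs⟩)) (Sum.inr ⟨s, hs⟩)
  unfold diagChar at h2
  rw [Matrix.diagonal_apply_eq] at h2
  simp only [Units.val_one, Matrix.one_apply_eq, Sum.elim_inr] at h2
  exact h2.symm

variable (h3 : S.HasR3)
include h3

/-- under (R3) the elements `h̄_r(t)` commute -/
theorem hb_commute (r s : ℕ) (hr : r < D.nroots) (hs : s < D.nroots) (t u : K) (ht : t ≠ 0) (hu : u ≠ 0) :
    Commute (S.hb r t) (S.hb s u) := by
  have hc : t ^ carR D r s ≠ 0 := zpow_ne_zero _ ht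
  have key : S.hb r t * S.hb s u * (S.hb r t)⁻¹ = S.hb s u := by
    have e : S.hb r t * S.hb s u * (S.hb r t)⁻¹ =
        (S.hb r t * S.w s u * (S.hb r t)⁻¹) * (S.hb r t * S.w s (-1) * (S.hb r t)⁻¹) := by
      conv_lhs => rw [show S.hb s u = S.w s u * S.w s (-1) from rfl]
      group
    rw [e, S.hb_conj_w r hr t ht s hs, S.hb_conj_w r hr t ht s hs, mul_neg, mul_one, S.w_mul_w_neg s hs,
      mul_comm _ u, ← h3 s hs u _ hu hc, mul_assoc, mul_inv_cancel, mul_one]
  show S.hb r t * S.hb s u = S.hb s u * S.hb r t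
  rw [← mul_inv_eq_iff_eq_mul]
  exact key

theorem hlist_mul (a b : ℕ → K) (L : List ℕ) (hL : ∀ i ∈ L, i < D.rank ∧ a i ≠ 0 ∧ b i ≠ 0) :
    (L.map fun i => S.hb (D.simple i) (a i)).prod * (L.map fun i => S.hb (D.simple i) (b i)).prod =
      (L.map fun i => S.hb (D.simple i) (a i * b i)).prod := by
  induction L with
  | nil => simp
  | cons k L ih =>
    obtain ⟨hk, hak, hbk⟩ := hL k List.mem_cons_self
    have hF := fundFacts_of_mem D hD k hk
    have hL' : ∀ i ∈ L, i < D.rank ∧ a i ≠ 0 ∧ b i ≠ 0 := fun i hi => hL i (List.mem_cons_of_mem _ hi)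
    simp only [List.map_cons, List.prod_cons]
    have hc : Commute (L.map fun i => S.hb (D.simple i) (a i)).prod (S.hb (D.simple k) (b k)) := by
      apply Commute.list_prod_left
      intro x hx
      rw [List.mem_map] at hx
      obtain ⟨i, hi, rfl⟩ := hx
      obtain ⟨hi', hai, -⟩ := hL' i hi
      exact S.hb_commute h3 _ _ (fundFacts_of_mem D hD i hi').hp hF.hp _ _ hai hbk
    rw [← ih hL', ← h3 _ hF.hp _ _ hak hbk]
    calc S.hb (D.simple k) (a k) * (L.map fun i => S.hb (D.simple i) (a i)).prod *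
          (S.hb (D.simple k) (b k) * (L.map fun i => S.hb (D.simple i) (b i)).prod)
        = S.hb (D.simple k) (a k) * ((L.map fun i => S.hb (D.simple i) (a i)).prod *
          S.hb (D.simple k) (b k)) * (L.map fun i => S.hb (D.simple i) (b i)).prod := by group
      _ = _ := by rw [hc.eq]; group

theorem hprod_mul (a b : ℕ → K) (ha : ∀ i < D.rank, a i ≠ 0) (hb : ∀ i < D.rank, b i ≠ 0) :
    S.hprod a * S.hprod b = S.hprod (fun i => a i * b i) :=
  S.hlist_mul h3 a b _ (fun i hi => ⟨List.mem_range.mp hi, ha i (List.mem_range.mp hi), hb i (List.mem_range.mp hi)⟩)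

omit h3 in
theorem hprod_congr (a b : ℕ → K) (h : ∀ i < D.rank, a i = b i) : S.hprod a = S.hprod b := by
  unfold hprod
  congr 1
  apply List.map_congr_left
  intro i hi
  rw [h i (List.mem_range.mp hi)]

omit h3 in
theorem hprod_one : S.hprod (fun _ => 1) = 1 := by
  unfold hprod
  apply List.prod_eq_one
  intro x hx
  rw [List.mem_map] at hx
  obtain ⟨i, hi, rfl⟩ := hx
  exact S.hb_one _ (fundFacts_of_mem D hD i (List.mem_range.mp hi)).hp

omit h3 in
theorem hlist_single (k : ℕ) (t : K) (n : ℕ) (hn : n ≤ D.rank) :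
    ((List.range n).map fun i => S.hb (D.simple i) (if i = k then t else 1)).prod =
      if k < n then S.hb (D.simple k) t else 1 := by
  induction n with
  | zero => simp
  | succ n ih =>
    rw [List.range_succ, List.map_append, List.prod_append, List.map_singleton, List.prod_singleton,
      ih (by omega)]
    by_cases hkn : k = n
    · subst hkn
      rw [if_neg (lt_irrefl k), if_pos rfl, if_pos (Nat.lt_succ_self k), one_mul]
    · rw [if_neg (Ne.symm hkn), S.hb_one _ (fundFacts_of_mem D hD n (by omega)).hp, mul_one]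
      by_cases hlt : k < n
      · rw [if_pos hlt, if_pos (by omega)]
      · rw [if_neg hlt, if_neg (by omega)]

/-- under (R3) every element of `H̄` is a product `∏_i h̄_{p_i}(τ_i)` -/
theorem exists_hprod (z : Γ) (hz : z ∈ S.Hfund) : ∃ τ : ℕ → K, (∀ i < D.rank, τ i ≠ 0) ∧ z = S.hprod τ := by
  unfold Hfund at hz
  induction hz using Subgroup.closure_induction with
  | mem x hx =>
    obtain ⟨i, hi, t, ht, rfl⟩ := hx
    refine ⟨fun k => if k = i then t else 1, ?_, ?_⟩
    · intro k _
      show (if k = i then t else 1) ≠ 0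
      by_cases hki : k = i
      · rw [if_pos hki]; exact ht
      · rw [if_neg hki]; exact one_ne_zero
    · unfold hprod
      rw [S.hlist_single i t D.rank le_rfl, if_pos hi]
  | one => exact ⟨fun _ => 1, fun _ _ => one_ne_zero, S.hprod_one.symm⟩
  | mul x y _ _ ihx ihy =>
    obtain ⟨a, ha, rfl⟩ := ihx
    obtain ⟨b, hb, rfl⟩ := ihy
    exact ⟨fun i => a i * b i, fun i hi => mul_ne_zero (ha i hi) (hb i hi), S.hprod_mul h3 a b ha hb⟩
  | inv x _ ihx =>
    obtain ⟨a, ha, rfl⟩ := ihx
    refine ⟨fun i => (a i)⁻¹, fun i hi => inv_ne_zero (ha i hi), ?_⟩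
    have h1 := S.hprod_mul h3 a (fun i => (a i)⁻¹) ha (fun i hi => inv_ne_zero (ha i hi))
    rw [S.hprod_congr (fun i => a i * (a i)⁻¹) (fun _ => 1) (fun i hi => mul_inv_cancel₀ (ha i hi)),
      S.hprod_one] at h1
    exact inv_eq_of_mul_eq_one_right h1

/-- under (R3), for a type with unimodular Cartan matrix the kernel of `θ` is trivial -/
theorem ker_eq_bot_of_cartanInv (B : List (List ℤ)) (hB : cartanInvB D B = true) : S.θ.ker = ⊥ := by
  rw [Subgroup.eq_bot_iff_forall]
  intro z hz
  have hzH := S.ker_le_Hfund h3 hz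
  obtain ⟨τ, hτ, rfl⟩ := S.exists_hprod h3 z hzH
  rw [MonoidHom.mem_ker] at hz
  have hχ : ∀ j < D.rank, zprod τ D.rank (fun i => carR D (D.simple i) (D.simple j)) = 1 :=
    fun j hj => S.zprod_eq_one_of_ker τ hτ hz _ (fundFacts_of_mem D hD j hj).hp
  have hτ1 : ∀ k < D.rank, τ k = 1 := by
    intro k hk
    rw [← zprod_single τ D.rank k hk,
      zprod_congr τ D.rank _ (fun i => ((List.range D.rank).map fun j =>
        (B.getD j []).getD k 0 * carR D (D.simple i) (D.simple j)).sum)
        (fun i hi => (cartanInvB_spec D B hB k hk i hi).symm),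
      zprod_listSum τ D.rank hτ (List.range D.rank) (fun j => (B.getD j []).getD k 0)
        (fun j i => carR D (D.simple i) (D.simple j))]
    apply List.prod_eq_one
    intro x hx
    rw [List.mem_map] at hx
    obtain ⟨j, hj, rfl⟩ := hx
    rw [hχ j (List.mem_range.mp hj), _root_.one_zpow]
  rw [S.hprod_congr τ (fun _ => 1) hτ1, S.hprod_one]

end StData

end

end Cfsg.Agent.Lib.Helper11.StPres

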