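import Cfsg.Agent.Lib.Helper11.StPresH

/-! Steinberg's presentation, part I (helper11): embeddings of root systems compatible with the structure
constants give homomorphisms from the presented group of the subsystem to the Chevalley group of the big
system. -/

set_option autoImplicit false

namespace Cfsg.Agent.Lib.Helper11.StPres

open Cfsg Cfsg.Lie Matrix
open Cfsg.Agent.Lib.Helper7

/-- table check for an embedding of root systems compatible with the structure constants -/
def embOKB (D D' : ChevalleyDatum) (tab : List ℕ) : Bool :=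
  (List.range D.nroots).all fun r =>
    decide (tab.getD r 0 < D'.nroots) && (tab.getD (D.neg r) 0 == D'.neg (tab.getD r 0)) &&
    (List.range D.nroots).all fun s => s == r || s == D.neg r ||
      (tab.getD s 0 != tab.getD r 0 && tab.getD s 0 != D'.neg (tab.getD r 0) &&
        D'.commTerms (tab.getD r 0) (tab.getD s 0) == (D.commTerms r s).map fun c => (tab.getD c.1 0, c.2))

structure EmbFacts (D D' : ChevalleyDatum) (ι : ℕ → ℕ) : Prop where
  lt : ∀ r < D.nroots, ι r < D'.nroots
  neg : ∀ r < D.nroots, ι (D.neg r) = D'.neg (ι r)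
  ne : ∀ r < D.nroots, ∀ s < D.nroots, s ≠ r → s ≠ D.neg r → ι s ≠ ι r ∧ ι s ≠ D'.neg (ι r)
  terms : ∀ r < D.nroots, ∀ s < D.nroots, s ≠ r → s ≠ D.neg r →
    D'.commTerms (ι r) (ι s) = (D.commTerms r s).map fun c => (ι c.1, c.2)

theorem embFacts_of_OKB (D D' : ChevalleyDatum) (tab : List ℕ) (h : embOKB D D' tab = true) :
    EmbFacts D D' (fun r => tab.getD r 0) := by
  unfold embOKB at h
  simp only [List.all_eq_true, List.mem_range, Bool.and_eq_true, decide_eq_true_eq, beq_iff_eq,
    Bool.or_eq_true, bne_iff_ne, ne_eq] at h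
  refine ⟨fun r hr => (h r hr).1.1, fun r hr => (h r hr).1.2, ?_, ?_⟩
  · intro r hr s hs hsr hsn
    rcases (h r hr).2 s hs with (h' | h') | h'
    · exact absurd h' hsr
    · exact absurd h' hsn
    · exact ⟨h'.1.1, h'.1.2⟩
  · intro r hr s hs hsr hsn
    rcases (h r hr).2 s hs with (h' | h') | h'
    · exact absurd h' hsr
    · exact absurd h' hsn
    · exact h'.2

section
variable {D D' : ChevalleyDatum} (hD : D ∈ [chevG2, chevB2, chevD4, chevF4, chevE6, chevE7, chevE8])
  (hD' : D' ∈ [chevG2, chevB2, chevD4, chevF4, chevE6, chevE7, chevE8])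
variable (K : Type*) [Field K] (ι : ℕ → ℕ) (hι : EmbFacts D D' ι)

/-- the homomorphism from the free group: `x̄_r(t) ↦ x_{ι r}(t)` -/
noncomputable def embLift : FreeGroup (Fin D.nroots × K) →* GL D'.Idx K :=
  FreeGroup.lift (fun p => xGL D' hD' K (ι p.1.val) p.2)

theorem embLift_stX (r : ℕ) (hr : r < D.nroots) (t : K) :
    embLift hD' K ι (D.stX r t) = xGL D' hD' K (ι r) t := by
  unfold ChevalleyDatum.stX
  rw [dif_pos hr]
  unfold embLift
  rw [FreeGroup.lift_apply_of]

theorem embLift_stWord (w : List (ℕ × K)) (hw : ∀ p ∈ w, p.1 < D.nroots) :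
    embLift hD' K ι (D.stWord w) = wordGL D' hD' K (w.map fun p => (ι p.1, p.2)) := by
  unfold ChevalleyDatum.stWord wordGL
  rw [map_list_prod, List.map_map, List.map_map]
  congr 1
  apply List.map_congr_left
  intro p hp
  exact embLift_stX hD' K ι p.1 (hw p hp) p.2

include hD hι

omit hι in
theorem commWord_lt (r s : ℕ) (hr : r < D.nroots) (hs : s < D.nroots) (t u : K) :
    ∀ p ∈ D.commWord K r s t u, p.1 < D.nroots := by
  intro p hp
  unfold ChevalleyDatum.commWord at hp
  rw [List.mem_map] at hp
  obtain ⟨c, hc, rfl⟩ := hp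
  exact ((chainAdd_zero D).commTerms D hD r s hr hs c hc).1

theorem embLift_rels (g : FreeGroup (Fin D.nroots × K)) (hg : g ∈ D.steinbergRels K) :
    embLift hD' K ι g = 1 := by
  rcases hg with (⟨r, t₁, t₂, hr, rfl⟩ | ⟨r, s, t, u, hr, hs, hsr, hsn, rfl⟩) | ⟨r, t₁, t₂, hr, h1, h2, rfl⟩
  · rw [map_mul, map_mul, map_inv, embLift_stX hD' K ι r hr, embLift_stX hD' K ι r hr,
      embLift_stX hD' K ι r hr, xGL_mul, mul_inv_cancel]
  · rw [map_mul, map_mul, map_mul, map_mul, map_inv, map_inv, map_inv, embLift_stX hD' K ι r hr,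
      embLift_stX hD' K ι s hs, embLift_stWord hD' K ι _ (commWord_lt hD K r s hr hs t u)]
    obtain ⟨hne1, hne2⟩ := hι.ne r hr s hs hsr hsn
    have h := comm_formula_GL D' hD' K (ι r) (ι s) (hι.lt r hr) (hι.lt s hs) hne1 hne2 t u
    have hword : (D.commWord K r s t u).map (fun p => (ι p.1, p.2)) = D'.commWord K (ι r) (ι s) t u := by
      unfold ChevalleyDatum.commWord
      rw [hι.terms r hr s hs hsr hsn, List.map_map, List.map_map]
      rfl
    rw [hword]
    have hW : wordGL D' hD' K (D'.commWord K (ι r) (ι s) t u) =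
        (xGL D' hD' K (ι s) u)⁻¹ * (xGL D' hD' K (ι r) t)⁻¹ * xGL D' hD' K (ι s) u * xGL D' hD' K (ι r) t := by
      calc wordGL D' hD' K (D'.commWord K (ι r) (ι s) t u)
          = (xGL D' hD' K (ι r) t * xGL D' hD' K (ι s) u)⁻¹ *
            (xGL D' hD' K (ι r) t * xGL D' hD' K (ι s) u * wordGL D' hD' K (D'.commWord K (ι r) (ι s) t u)) := by
              group
        _ = _ := by rw [← h]; group
    rw [hW, mul_inv_cancel]
  · have hN := negOK_of_mem D hD r hr
    have hH : ∀ t : K, embLift hD' K ι (D.stH r t) = wordGL D' hD' K (D'.hWord (ι r) t) := by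
      intro t
      unfold ChevalleyDatum.stH
      rw [embLift_stWord hD' K ι]
      · unfold ChevalleyDatum.hWord ChevalleyDatum.nWord
        simp only [List.map_append, List.map_cons, List.map_nil]
        rw [hι.neg r hr]
      · intro p hp
        unfold ChevalleyDatum.hWord ChevalleyDatum.nWord at hp
        simp only [List.mem_append, List.mem_cons, List.not_mem_nil, or_false] at hp
        rcases hp with (rfl | rfl | rfl) | (rfl | rfl | rfl)
        · exact hr
        · exact hN.1
        · exact hr
        · exact hr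
        · exact hN.1
        · exact hr
    rw [map_mul, map_mul, map_inv, hH, hH, hH, hGL_mul D' hD' K (ι r) (hι.lt r hr) t₁ t₂ h1 h2, mul_inv_cancel]

/-- the homomorphism from the Steinberg group of the subsystem to the Chevalley group of the big system -/
noncomputable def embHom : D.SteinbergGroup K →* GL D'.Idx K :=
  PresentedGroup.toGroup (f := fun p : Fin D.nroots × K => xGL D' hD' K (ι p.1.val) p.2)
    (embLift_rels hD hD' K ι hι)

theorem embHom_mk (g : FreeGroup (Fin D.nroots × K)) :
    embHom hD hD' K ι hι (PresentedGroup.mk _ g) = embLift hD' K ι g := rfl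

theorem embHom_hb (r : ℕ) (hr : r < D.nroots) (t : K) :
    embHom hD hD' K ι hι ((stData hD (K := K)).hb r t) = wordGL D' hD' K (D'.hWord (ι r) t) := by
  have hN := negOK_of_mem D hD r hr
  rw [stData_hb, embHom_mk]
  unfold ChevalleyDatum.stH
  rw [embLift_stWord hD' K ι]
  · unfold ChevalleyDatum.hWord ChevalleyDatum.nWord
    simp only [List.map_append, List.map_cons, List.map_nil]
    rw [hι.neg r hr]
  · intro p hp
    unfold ChevalleyDatum.hWord ChevalleyDatum.nWord at hp
    simp only [List.mem_append, List.mem_cons, List.not_mem_nil, or_false] at hp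
    rcases hp with (rfl | rfl | rfl) | (rfl | rfl | rfl)
    · exact hr
    · exact hN.1
    · exact hr
    · exact hr
    · exact hN.1
    · exact hr

end

end Cfsg.Agent.Lib.Helper11.StPres
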