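import Cfsg.Agent.Lib.Helper11.StPresI

/-! Steinberg's presentation: the embeddings `E₆ ⊂ E₇ ⊂ E₈` of root systems are compatible with the tabulated
structure constants (helper11). -/

set_option autoImplicit false
set_option maxRecDepth 100000

namespace Cfsg.Agent.Lib.Helper11.StPres

open Cfsg Cfsg.Lie
open Cfsg.Agent.Lib.Helper7

def embTab_E6E7 : List ℕ :=
  [6, 10, 13, 15, 16, 19, 21, 22, 24, 25, 26, 28, 29, 30, 31, 32, 35, 37, 38, 40, 41, 42, 44, 45, 46, 47, 49, 50, 51, 52,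
   54, 55, 56, 58, 59, 61, 64, 66, 67, 69, 70, 71, 73, 74, 75, 76, 78, 79, 80, 81, 83, 84, 85, 87, 88, 90, 93, 94, 95, 96,
   97, 99, 100, 101, 103, 104, 106, 109, 110, 112, 115, 119]

def embTab_E7E8 : List ℕ :=
  [13, 20, 25, 29, 32, 34, 35, 39, 42, 44, 45, 48, 50, 51, 53, 54, 55, 58, 60, 61, 63, 64, 65, 67, 68, 69, 70, 72, 73, 74,
   75, 76, 77, 80, 82, 83, 85, 86, 87, 89, 90, 91, 92, 94, 95, 96, 97, 98, 100, 101, 102, 103, 104, 106, 107, 108, 109,
   111, 112, 113, 115, 116, 118, 121, 123, 124, 126, 127, 128, 130, 131, 132, 133, 135, 136, 137, 138, 139, 141, 142, 143,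
   144, 145, 147, 148, 149, 150, 152, 153, 154, 156, 157, 159, 162, 163, 164, 165, 166, 167, 169, 170, 171, 172, 174, 175,
   176, 178, 179, 181, 184, 185, 186, 188, 189, 191, 194, 195, 197, 200, 204, 205, 207, 210, 214, 219, 226]

theorem embOKB_E6E7 : embOKB chevE6 chevE7 embTab_E6E7 = true := by decide +kernel
theorem embOKB_E7E8 : embOKB chevE7 chevE8 embTab_E7E8 = true := by decide +kernel

end Cfsg.Agent.Lib.Helper11.StPres
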