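import Cfsg.Agent.Lib.Helper11.StPresI

/-! Steinberg's presentation, part J (helper11): counting the centre of the presented group through a
character table check and an embedding into a bigger root system. -/

set_option autoImplicit false
set_option maxRecDepth 100000

namespace Cfsg.Agent.Lib.Helper11.StPres

open Cfsg Cfsg.Lie Matrix
open Cfsg.Agent.Lib.Helper7

section zprod
variable {K : Type*} [Field K]

theorem zprod_pow (ω : K) (hω : ω ≠ 0) (n : ℕ) (a v : ℕ → ℤ) :
    zprod (fun i => ω ^ a i) n v = ω ^ ((List.range n).map fun i => a i * v i).sum := by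
  unfold zprod
  induction (List.range n) with
  | nil => simp
  | cons k L ih =>
    rw [List.map_cons, List.prod_cons, List.map_cons, List.sum_cons, ih, zpow_add₀ hω]
    congr 1
    show (ω ^ a k) ^ v k = _
    rw [← _root_.zpow_mul]

end zprod

/-- the table for counting the centre: `n` the exponent, `i0` the index of the free coordinate, `a` the
exponents of the central elements, `Bs`, `B0` certificates, `tab` the embedding and `wit` the witness root -/
structure CenterTab where
  n : ℕ
  i0 : ℕ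
  a : List ℤ
  Bs : List (List ℤ)
  B0 : List ℤ
  tab : List ℕ
  wit : ℕ

def centerOKB (D D' : ChevalleyDatum) (T : CenterTab) : Bool :=
  decide (0 < T.n) && decide (T.i0 < D.rank) && (T.a.getD T.i0 0 == 1) &&
  ((List.range D.nroots).all fun s =>
    (((List.range D.rank).map fun i => T.a.getD i 0 * carR D (D.simple i) s).sum % (T.n : ℤ) == 0)) &&
  ((List.range D.rank).all fun i => (List.range D.rank).all fun k =>
    ((List.range D.rank).map fun j => (T.Bs.getD i []).getD j 0 * carR D (D.simple k) (D.simple j)).sum ==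
      (if k = i then 1 else 0) + (- T.a.getD i 0) * (if k = T.i0 then 1 else 0)) &&
  ((List.range D.rank).all fun k =>
    ((List.range D.rank).map fun j => T.B0.getD j 0 * carR D (D.simple k) (D.simple j)).sum ==
      (T.n : ℤ) * (if k = T.i0 then 1 else 0)) &&
  decide (T.wit < D'.nroots) &&
  (((List.range D.rank).map fun i => T.a.getD i 0 * carR D' (T.tab.getD (D.simple i) 0) T.wit).sum ==
    1 - (T.n : ℤ))

structure CenterFacts (D D' : ChevalleyDatum) (T : CenterTab) : Prop where
  npos : 0 < T.n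
  i0lt : T.i0 < D.rank
  ai0 : T.a.getD T.i0 0 = 1
  f1 : ∀ s < D.nroots,
    ((List.range D.rank).map fun i => T.a.getD i 0 * carR D (D.simple i) s).sum % (T.n : ℤ) = 0
  f2 : ∀ i < D.rank, ∀ k < D.rank,
    ((List.range D.rank).map fun j => (T.Bs.getD i []).getD j 0 * carR D (D.simple k) (D.simple j)).sum =
      (if k = i then 1 else 0) + (- T.a.getD i 0) * (if k = T.i0 then 1 else 0)
  f3 : ∀ k < D.rank,
    ((List.range D.rank).map fun j => T.B0.getD j 0 * carR D (D.simple k) (D.simple j)).sum =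
      (T.n : ℤ) * (if k = T.i0 then 1 else 0)
  wlt : T.wit < D'.nroots
  f5 : ((List.range D.rank).map fun i => T.a.getD i 0 * carR D' (T.tab.getD (D.simple i) 0) T.wit).sum =
    1 - (T.n : ℤ)

theorem centerFacts_of_OKB (D D' : ChevalleyDatum) (T : CenterTab) (h : centerOKB D D' T = true) :
    CenterFacts D D' T := by
  unfold centerOKB at h
  simp only [List.all_eq_true, List.mem_range, Bool.and_eq_true, decide_eq_true_eq, beq_iff_eq] at h
  obtain ⟨⟨⟨⟨⟨⟨⟨h1, h2⟩, h3⟩, h4⟩, h5⟩, h6⟩, h7⟩, h8⟩ := h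
  exact ⟨h1, h2, h3, h4, h5, h6, h7, h8⟩

section
variable {D D' : ChevalleyDatum} (hD : D ∈ [chevG2, chevB2, chevD4, chevF4, chevE6, chevE7, chevE8])
  (hD' : D' ∈ [chevG2, chevB2, chevD4, chevF4, chevE6, chevE7, chevE8])
variable (K : Type*) [Field K] (ι : ℕ → ℕ) (hι : EmbFacts D D' ι)

/-- the image of a product of `h̄`'s under the embedding is the diagonal matrix of a character -/
theorem embHom_hlist (τ : ℕ → K) (L : List ℕ) (hL : ∀ i ∈ L, i < D.rank ∧ τ i ≠ 0) :
    ((embHom hD hD' K ι hι ((L.map fun i => (stData hD (K := K)).hb (D.simple i) (τ i)).prod) :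
        GL D'.Idx K) : Matrix D'.Idx D'.Idx K) =
      diagChar D' K (fun s => (L.map fun i => τ i ^ carR D' (ι (D.simple i)) s).prod) := by
  induction L with
  | nil =>
    simp only [List.map_nil, List.prod_nil, map_one]
    rw [diagChar_one]; rfl
  | cons k L ih =>
    obtain ⟨hk, hτk⟩ := hL k List.mem_cons_self
    have hF := fundFacts_of_mem D hD k hk
    rw [List.map_cons, List.prod_cons, map_mul, Units.val_mul, ih (fun i hi => hL i (List.mem_cons_of_mem _ hi)),
      embHom_hb hD hD' K ι hι _ hF.hp, coe_wordGL]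
    have : D'.wordMat K (D'.hWord (ι (D.simple k)) (τ k)) = D'.hMat K (ι (D.simple k)) (τ k) := rfl
    rw [this, hMat_eq_diagChar D' hD' K _ (hι.lt _ hF.hp) _ hτk, diagChar_mul]
    congr 1

theorem embHom_hprod (τ : ℕ → K) (hτ : ∀ i < D.rank, τ i ≠ 0) :
    ((embHom hD hD' K ι hι ((stData hD (K := K)).hprod τ) : GL D'.Idx K) : Matrix D'.Idx D'.Idx K) =
      diagChar D' K (fun s => zprod τ D.rank (fun i => carR D' (ι (D.simple i)) s)) :=
  embHom_hlist hD hD' K ι hι τ _ (fun i hi => ⟨List.mem_range.mp hi, hτ i (List.mem_range.mp hi)⟩)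

end

section
variable {D D' : ChevalleyDatum} (hD : D ∈ [chevG2, chevB2, chevD4, chevF4, chevE6, chevE7, chevE8])
  (hD' : D' ∈ [chevG2, chevB2, chevD4, chevF4, chevE6, chevE7, chevE8])
variable (K : Type*) [Field K] (T : CenterTab) (hT : CenterFacts D D' T)
  (hι : EmbFacts D D' (fun r => T.tab.getD r 0))

/-- the candidate central element attached to a root of unity -/
noncomputable def centerElt (ω : K) : D.SteinbergGroup K :=
  (stData hD (K := K)).hprod (fun i => ω ^ T.a.getD i 0)

omit hT in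
theorem pow_eq_one_of_dvd (ω : K) (hω : ω ^ T.n = 1) (m : ℤ) (hm : m % (T.n : ℤ) = 0) : ω ^ m = 1 := by
  obtain ⟨c, rfl⟩ := Int.dvd_of_emod_eq_zero hm
  rw [_root_.zpow_mul, zpow_natCast, hω, _root_.one_zpow]

include hT

theorem centerElt_mem_ker (ω : K) (hω0 : ω ≠ 0) (hω : ω ^ T.n = 1) :
    centerElt hD K T ω ∈ (stData hD (K := K)).θ.ker := by
  rw [MonoidHom.mem_ker]
  apply Units.ext
  unfold centerElt
  rw [(stData hD (K := K)).θ_hprod _ (fun i _ => zpow_ne_zero _ hω0)]
  rw [Units.val_one, ← diagChar_one D K]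
  unfold diagChar
  congr 1
  funext x
  rcases x with j | s
  · rfl
  · simp only [Sum.elim_inr]
    rw [zprod_pow ω hω0]
    exact pow_eq_one_of_dvd K T ω hω _ (hT.f1 s.val s.isLt)

include hι hD'

theorem centerElt_injective (ω ω' : K) (hω0 : ω ≠ 0) (hω : ω ^ T.n = 1) (hω0' : ω' ≠ 0) (hω' : ω' ^ T.n = 1)
    (h : centerElt hD K T ω = centerElt hD K T ω') : ω = ω' := by
  have h1 := embHom_hprod hD hD' K _ hι (fun i => ω ^ T.a.getD i 0) (fun i _ => zpow_ne_zero _ hω0)
  have h2 := embHom_hprod hD hD' K _ hι (fun i => ω' ^ T.a.getD i 0) (fun i _ => zpow_ne_zero _ hω0')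
  unfold centerElt at h
  rw [h, h2] at h1
  have h3 := congrFun (congrFun h1 (Sum.inr ⟨T.wit, hT.wlt⟩)) (Sum.inr ⟨T.wit, hT.wlt⟩)
  unfold diagChar at h3
  rw [Matrix.diagonal_apply_eq, Matrix.diagonal_apply_eq] at h3
  simp only [Sum.elim_inr] at h3
  rw [zprod_pow ω hω0, zprod_pow ω' hω0', hT.f5] at h3
  have key : ∀ x : K, x ≠ 0 → x ^ T.n = 1 → x ^ (1 - (T.n : ℤ)) = x := by
    intro x hx hxn
    rw [zpow_sub₀ hx, zpow_one, zpow_natCast, hxn, div_one]
  rw [key ω hω0 hω, key ω' hω0' hω'] at h3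
  exact h3.symm

omit hι hD' in
theorem exists_centerElt (z : D.SteinbergGroup K) (hz : z ∈ (stData hD (K := K)).θ.ker) :
    ∃ ω : K, ω ≠ 0 ∧ ω ^ T.n = 1 ∧ z = centerElt hD K T ω := by
  have h3 := stData_R3 hD (K := K)
  have hzH := (stData hD (K := K)).ker_le_Hfund h3 hz
  obtain ⟨τ, hτ, rfl⟩ := (stData hD (K := K)).exists_hprod h3 z hzH
  rw [MonoidHom.mem_ker] at hz
  have hχ : ∀ j < D.rank, zprod τ D.rank (fun i => carR D (D.simple i) (D.simple j)) = 1 :=
    fun j hj => (stData hD (K := K)).zprod_eq_one_of_ker τ hτ hz _ (fundFacts_of_mem D hD j hj).hp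
  have hτ0 := hτ T.i0 hT.i0lt
  have hcert : ∀ (c : ℕ → ℤ), zprod τ D.rank (fun k => ((List.range D.rank).map fun j =>
      c j * carR D (D.simple k) (D.simple j)).sum) = 1 := by
    intro c
    rw [zprod_listSum τ D.rank hτ (List.range D.rank) c (fun j i => carR D (D.simple i) (D.simple j))]
    apply List.prod_eq_one
    intro x hx
    rw [List.mem_map] at hx
    obtain ⟨j, hj, rfl⟩ := hx
    rw [hχ j (List.mem_range.mp hj), _root_.one_zpow]
  have hi : ∀ i < D.rank, τ i = τ T.i0 ^ T.a.getD i 0 := by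
    intro i hi
    have e1 := hcert (fun j => (T.Bs.getD i []).getD j 0)
    rw [zprod_congr τ D.rank _ (fun k => (if k = i then (1 : ℤ) else 0) +
        (- T.a.getD i 0) * (if k = T.i0 then 1 else 0)) (fun k hk => hT.f2 i hi k hk),
      zprod_add τ D.rank hτ, zprod_smul, zprod_single τ D.rank i hi, zprod_single τ D.rank T.i0 hT.i0lt,
      _root_.zpow_neg] at e1
    exact eq_of_mul_inv_eq_one e1 |>.trans rfl
  have hn : τ T.i0 ^ T.n = 1 := by
    have e1 := hcert (fun j => T.B0.getD j 0)
    rw [zprod_congr τ D.rank _ (fun k => (T.n : ℤ) * (if k = T.i0 then 1 else 0)) (fun k hk => hT.f3 k hk),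
      zprod_smul, zprod_single τ D.rank T.i0 hT.i0lt, zpow_natCast] at e1
    exact e1
  refine ⟨τ T.i0, hτ0, hn, ?_⟩
  unfold centerElt
  exact (stData hD (K := K)).hprod_congr _ _ hi

/-- the centre of the presented group has as many elements as there are `n`-th roots of unity -/
theorem card_ker_eq : Nat.card (stData hD (K := K)).θ.ker = Nat.card (powMonoidHom T.n : Kˣ →* Kˣ).ker := by
  symm
  apply Nat.card_eq_of_bijective
    (fun ω : (powMonoidHom T.n : Kˣ →* Kˣ).ker =>
      (⟨centerElt hD K T ((ω : Kˣ) : K), centerElt_mem_ker hD K T hT _ (Units.ne_zero _) (by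
        have := ω.2
        rw [MonoidHom.mem_ker, powMonoidHom_apply] at this
        rw [← Units.val_pow_eq_pow_val, this, Units.val_one])⟩ : (stData hD (K := K)).θ.ker))
  constructor
  · intro ω ω' h
    have h' := congrArg Subtype.val h
    have hpow : ∀ x : (powMonoidHom T.n : Kˣ →* Kˣ).ker, ((x : Kˣ) : K) ^ T.n = 1 := by
      intro x
      have := x.2
      rw [MonoidHom.mem_ker, powMonoidHom_apply] at this
      rw [← Units.val_pow_eq_pow_val, this, Units.val_one]
    have := centerElt_injective hD hD' K T hT hι _ _ (Units.ne_zero _) (hpow ω) (Units.ne_zero _) (hpow ω') h'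
    exact Subtype.ext (Units.ext this)
  · intro z
    obtain ⟨ω, hω0, hωn, hz⟩ := exists_centerElt hD K T hT z.1 z.2
    refine ⟨⟨Units.mk0 ω hω0, ?_⟩, ?_⟩
    · rw [MonoidHom.mem_ker, powMonoidHom_apply]
      apply Units.ext
      rw [Units.val_pow_eq_pow_val, Units.val_mk0, hωn, Units.val_one]
    · apply Subtype.ext
      exact hz.symm

end

end Cfsg.Agent.Lib.Helper11.StPres
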