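import Cfsg.Agent.Lib.Helper11.StPresJ
import Cfsg.Agent.Lib.Helper11.StPresITab

/-! Steinberg's presentation: the tables for the centres of the universal groups of types `E₆`, `E₇`
(helper11). -/

set_option autoImplicit false
set_option maxRecDepth 100000

namespace Cfsg.Agent.Lib.Helper11.StPres

open Cfsg Cfsg.Lie
open Cfsg.Agent.Lib.Helper7

def centerTab_E6 : CenterTab where
  n := 3
  i0 := 0
  a := [1, 0, 2, 0, 1, 2]
  Bs := [[0,0,0,0,0,0],[1,2,2,3,2,1],[-1,0,0,0,0,0],[2,3,4,6,4,2],[0,1,1,2,2,1],[-2,-1,-2,-2,-1,0]]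
  B0 := [4,3,5,6,4,2]
  tab := embTab_E6E7
  wit := 63

def centerTab_E7 : CenterTab where
  n := 2
  i0 := 1
  a := [0, 1, 0, 0, 1, 0, 1]
  Bs := [[2,2,3,4,3,2,1],[0,0,0,0,0,0,0],[3,4,6,8,6,4,2],[4,6,8,12,9,6,3],[1,1,2,3,3,2,1],[2,3,4,6,5,4,2],[-1,-2,-2,-3,-2,-1,0]]
  B0 := [4,7,8,12,9,6,3]
  tab := embTab_E7E8
  wit := 120

theorem centerOKB_E6 : centerOKB chevE6 chevE7 centerTab_E6 = true := by decide +kernel
theorem centerOKB_E7 : centerOKB chevE7 chevE8 centerTab_E7 = true := by decide +kernel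

end Cfsg.Agent.Lib.Helper11.StPres
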