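import Cfsg.Agent.Lib.Helper11.StPresU5
import Cfsg.Prelude.Def_KGroupFacts

/-! Steinberg's presentation, part U6 (helper11): over a finite field with more than four elements, a Chevalley
group whose presented group has trivial centre has trivial Schur multiplier. -/

set_option autoImplicit false
set_option linter.unusedSectionVars false

namespace Cfsg.Agent.Lib.Helper11.StPres

open scoped commutatorElement
open Cfsg Cfsg.Lie Matrix
open Cfsg.Agent.Lib.Helper7

section
variable {D : ChevalleyDatum} (hD : D ∈ [chevG2, chevB2, chevD4, chevF4, chevE6, chevE7, chevE8])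
variable {K : Type*} [Field K]

/-- over a finite field the relations (R3) hold in every instance of the abstract setting -/
theorem StData.hasR3_of_finite [Finite K] {Γ : Type*} [Group Γ] (S : StData D hD K Γ) : S.HasR3 := by
  intro r hr t₁ t₂ h1 h2
  rw [S.hb_eq_word, S.hb_eq_word, S.hb_eq_word]
  exact S.R3 r hr t₁ t₂ h1 h2

include hD in
/-- if the group presented by (R1), (R2) maps isomorphically onto the Chevalley group then every stem extension
of the Chevalley group is trivial -/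
theorem ker_eq_bot_of_stem (hK5 : ∃ s : Finset K, 4 < s.card) (hker : (coverData hD (K := K)).θ.ker = ⊥)
    {Γ : Type*} [Group Γ] (σ : Γ →* ↥(D.group K)) (hσ : Cfsg.IsStemExtension σ) : σ.ker = ⊥ := by
  obtain ⟨hsurj, hcen, hcomm⟩ := hσ
  set S := coverData hD (K := K) with hS
  obtain ⟨τ, hτ, -⟩ := exists_unique_lift hD hK5 σ hsurj hcen S.θG
  have hτ' : ∀ d, σ (τ d) = S.θG d := fun d => DFunLike.congr_fun hτ d
  have hrange : commutator Γ ≤ τ.range := by
    rw [commutator_eq_closure, Subgroup.closure_le]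
    rintro g ⟨g₁, g₂, rfl⟩
    obtain ⟨d₁, hd₁⟩ := S.θG_surjective (σ g₁)
    obtain ⟨d₂, hd₂⟩ := S.θG_surjective (σ g₂)
    have : ⁅g₁, g₂⁆ = ⁅τ d₁, τ d₂⁆ :=
      comm_eq_of_map_eq σ hcen (by rw [hτ', hd₁]) (by rw [hτ', hd₂])
    rw [this, ← map_commutatorElement]
    exact ⟨_, rfl⟩
  rw [Subgroup.eq_bot_iff_forall]
  intro k hk
  obtain ⟨d, rfl⟩ := hrange (hcomm hk)
  rw [MonoidHom.mem_ker, hτ'] at hk
  have hd : d ∈ S.θG.ker := hk
  rw [S.θG_ker, hker, Subgroup.mem_bot] at hd
  rw [hd, map_one]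

include hD in
theorem hasCyclicSchurMultiplier_one [Finite K] (hK5 : ∃ s : Finset K, 4 < s.card)
    (hker : (coverData hD (K := K)).θ.ker = ⊥) : Cfsg.HasCyclicSchurMultiplier ↥(D.group K) 1 := by
  have hsub : Subsingleton (Multiplicative (ZMod 1)) := inferInstanceAs (Subsingleton (Fin 1))
  refine ⟨⟨↥(D.group K), inferInstance, inferInstance, MonoidHom.id _, ⟨Function.surjective_id, ?_, ?_⟩, ?_⟩, ?_⟩
  · rw [MonoidHom.ker_id]; exact bot_le
  · rw [MonoidHom.ker_id]; exact bot_le
  · have hsub2 : Subsingleton ((MonoidHom.id ↥(D.group K)).ker) := by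
      rw [MonoidHom.ker_id]; infer_instance
    letI : Unique ((MonoidHom.id ↥(D.group K)).ker) := ⟨⟨1⟩, fun _ => Subsingleton.elim _ _⟩
    letI : Unique (Multiplicative (ZMod 1)) := ⟨⟨1⟩, fun _ => Subsingleton.elim _ _⟩
    exact ⟨MulEquiv.ofUnique⟩
  · intro Γ _ _ σ hσ
    have hk := ker_eq_bot_of_stem hD hK5 hker σ hσ
    refine ⟨1, ?_⟩
    intro k
    refine ⟨1, ?_⟩
    apply Subtype.ext
    have h1 : (k : Γ) ∈ σ.ker := k.2
    have h2 : (k : Γ) ∈ (⊥ : Subgroup Γ) := hk ▸ h1
    rw [Subgroup.mem_bot] at h2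
    rw [h2]
    rfl

end

end Cfsg.Agent.Lib.Helper11.StPres
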