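import Cfsg.Agent.Lib.Helper11.StPresV1

/-! Steinberg's presentation, part V2 (helper11): central extensions of the group presented by (R1), (R2)
whose kernel has no `p`-torsion, `p` the characteristic of the field: additive central defects die. -/

set_option autoImplicit false
set_option linter.unusedSectionVars false

namespace Cfsg.Agent.Lib.Helper11.StPres

open scoped commutatorElement
open Cfsg Cfsg.Lie Matrix
open Cfsg.Agent.Lib.Helper7

section Gen
variable {K : Type*} [Field K] {E : Type*} [Group E]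

theorem map_nsmul_of_add (F : K → E) (hadd : ∀ t t', F (t + t') = F t * F t') (n : ℕ) (t : K) :
    F (n • t) = F t ^ n := by
  have h0 : F 0 = 1 := by
    have := hadd 0 0
    rw [add_zero] at this
    exact (mul_eq_left.mp this.symm)
  induction n with
  | zero => rw [zero_smul, h0, pow_zero]
  | succ n ih => rw [succ_nsmul, hadd, ih, pow_succ]

/-- an additive map from a field of characteristic dividing `p` to a set without `p`-torsion is trivial -/
theorem eq_one_of_add_of_tf (p : ℕ) (hp0 : (p : K) = 0) (T : Set E) (htf : ∀ z ∈ T, z ^ p = 1 → z = 1)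
    (F : K → E) (hT : ∀ t, F t ∈ T) (hadd : ∀ t t', F (t + t') = F t * F t') (t : K) : F t = 1 := by
  apply htf _ (hT t)
  rw [← map_nsmul_of_add F hadd, nsmul_eq_mul, hp0, zero_mul]
  have := hadd 0 0
  rw [add_zero] at this
  exact (mul_eq_left.mp this.symm)

end Gen

section
variable {D : ChevalleyDatum} {hD : D ∈ [chevG2, chevB2, chevD4, chevF4, chevE6, chevE7, chevE8]}
variable {K : Type*} [Field K] {Γ : Type*} [Group Γ] (S : StData D hD K Γ)

namespace StData

section Ext
variable {E : Type*} [Group E] (ψ : E →* Γ) (hsurj : Function.Surjective ψ) (hc : ψ.ker ≤ Subgroup.center E)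
  (p : ℕ) (hp0 : (p : K) = 0) (htf : ∀ z ∈ ψ.ker, z ^ p = 1 → z = 1)

include hp0 htf in
theorem kill_tf (X : ℕ → K → E) (r s : ℕ) : Kill ψ X D r s := by
  intro u F hker hadd _ t
  exact eq_one_of_add_of_tf p hp0 (ψ.ker : Set E) htf F hker hadd t

include hsurj hc hp0 htf in
/-- lifts of commuting root elements commute, when the kernel has no `p`-torsion -/
theorem comm_lifts_tf (r s : ℕ) (hr : r < D.nroots)
    (hcomm : ∀ t u : K, S.x r t * S.x s u = S.x s u * S.x r t) (t u : K) (e₁ e₂ : E) (h1 : ψ e₁ = S.x r t)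
    (h2 : ψ e₂ = S.x s u) : ⁅e₁, e₂⁆ = 1 := by
  have hB : ∀ t : K, ∃ l : E, ψ l = S.x r t := fun t => hsurj _
  choose l hl using hB
  have hcen : ∀ t, ⁅l t, e₂⁆ ∈ Subgroup.center E := by
    intro t
    apply comm_mem_center ψ hc
    rw [hl, h2, hcomm]
  have hker : ∀ t, ⁅l t, e₂⁆ ∈ ψ.ker := by
    intro t
    rw [MonoidHom.mem_ker, map_commutatorElement, hl, h2, commutatorElement_eq_one_iff_mul_comm]
    exact hcomm t u
  have hadd : ∀ t t', ⁅l (t + t'), e₂⁆ = ⁅l t, e₂⁆ * ⁅l t', e₂⁆ := fun t t' =>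
    comm_add_left ψ hc (by rw [hl, hl, hl, S.x_add r hr]) (hcen t')
  have key := eq_one_of_add_of_tf p hp0 (ψ.ker : Set E) htf (fun t => ⁅l t, e₂⁆) hker hadd t
  rw [← key]
  exact comm_eq_of_map_eq ψ hc (by rw [h1, hl]) rfl

include hsurj hc hp0 htf in
/-- additive lifts of the root elements of `q`, which are commutators of a fixed element with the root
elements of a root `a` whose root elements commute with those of `q` -/
theorem exists_addlift (q a : ℕ) (hq : q < D.nroots) (ha : a < D.nroots) (m : Γ) (c : K) (hc0 : c ≠ 0)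
    (hcomm : ∀ t u : K, S.x a t * S.x q u = S.x q u * S.x a t)
    (hbr : ∀ w : K, ⁅m, S.x a w⁆ = S.x q (c * w)) :
    ∃ Xq : K → E, (∀ t, ψ (Xq t) = S.x q t) ∧ ∀ t u, Xq t * Xq u = Xq (t + u) := by
  obtain ⟨lm, hlm⟩ := hsurj m
  have hB : ∀ t : K, ∃ l : E, ψ l = S.x a t := fun t => hsurj _
  choose l hl using hB
  have hψ : ∀ w, ψ ⁅lm, l w⁆ = S.x q (c * w) := by
    intro w
    rw [map_commutatorElement, hlm, hl, hbr]
  refine ⟨fun t => ⁅lm, l (t / c)⁆, fun t => ?_, fun t u => ?_⟩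
  · show ψ ⁅lm, l (t / c)⁆ = _
    rw [hψ, mul_div_cancel₀ _ hc0]
  · show ⁅lm, l (t / c)⁆ * ⁅lm, l (u / c)⁆ = ⁅lm, l ((t + u) / c)⁆
    have h1 : ⁅lm, l ((t + u) / c)⁆ = ⁅lm, l (t / c) * l (u / c)⁆ :=
      comm_eq_of_map_eq ψ hc rfl (by rw [map_mul, hl, hl, hl, S.x_add a ha, add_div])
    have h2 : ⁅lm, l (t / c) * l (u / c)⁆ = ⁅lm, l (t / c)⁆ * (l (t / c) * ⁅lm, l (u / c)⁆ * (l (t / c))⁻¹) := by
      simp only [commutatorElement_def]; group
    have h3 : ⁅l (t / c), ⁅lm, l (u / c)⁆⁆ = 1 :=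
      S.comm_lifts_tf ψ hsurj hc p hp0 htf a q ha hcomm (t / c) (c * (u / c)) _ _ (hl _) (hψ _)
    have h4 : l (t / c) * ⁅lm, l (u / c)⁆ * (l (t / c))⁻¹ = ⁅lm, l (u / c)⁆ :=
      (commutatorElement_eq_one_iff_commute.mp h3).mul_inv_cancel
    rw [h1, h2, h4]

end Ext

end StData

end

end Cfsg.Agent.Lib.Helper11.StPres
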