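import Cfsg.Agent.Lib.Helper11.StPresV2

/-! Steinberg's presentation, part V3 (helper11): table facts: every root is a single commutator of roots
(types D₄, F₄, E₆, E₇, E₈), or is moved by a torus element of order two (types G₂, B₂). -/

set_option autoImplicit false

namespace Cfsg.Agent.Lib.Helper11.StPres

open Cfsg Cfsg.Lie
open Cfsg.Agent.Lib.Helper7

/-- the root `q` is the single term, with coefficient `N`, of the commutator of the roots `a`, `b`, and the root
elements of `a` and `q` commute -/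
def cOK (D : ChevalleyDatum) (q a b : ℕ) (N : ℤ) : Bool :=
  decide (a < D.nroots) && decide (b < D.nroots) && (b != a) && (b != D.neg a) && (q != a) && (q != D.neg a) &&
    (D.commTerms a b == [(q, N, 1, 1)]) && (D.commTerms a q == [])

theorem cOK_spec {D : ChevalleyDatum} {q a b : ℕ} {N : ℤ} (h : cOK D q a b N = true) :
    a < D.nroots ∧ b < D.nroots ∧ b ≠ a ∧ b ≠ D.neg a ∧ q ≠ a ∧ q ≠ D.neg a ∧
      D.commTerms a b = [(q, N, 1, 1)] ∧ D.commTerms a q = [] := by
  unfold cOK at h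
  simp only [Bool.and_eq_true, decide_eq_true_eq, bne_iff_ne, ne_eq, beq_iff_eq] at h
  obtain ⟨⟨⟨⟨⟨⟨⟨h1, h2⟩, h3⟩, h4⟩, h5⟩, h6⟩, h7⟩, h8⟩ := h
  exact ⟨h1, h2, h3, h4, h5, h6, h7, h8⟩

/-- table facts: every root is a single commutator with coefficient `±1` -/
def C1Facts (D : ChevalleyDatum) : Prop :=
  ∀ q, q < D.nroots → ∃ a b : ℕ, ∃ N : ℤ, cOK D q a b N = true ∧ (N = 1 ∨ N = -1)

def c1Row (D : ChevalleyDatum) (w : List (ℕ × ℕ)) (q : ℕ) : Bool :=
  cOK D q (w.getD q (0, 0)).1 (w.getD q (0, 0)).2 1 || cOK D q (w.getD q (0, 0)).1 (w.getD q (0, 0)).2 (-1)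

def c1All (D : ChevalleyDatum) (w : List (ℕ × ℕ)) : Bool := (List.range D.nroots).all (c1Row D w)

theorem c1Facts_of {D : ChevalleyDatum} (w : List (ℕ × ℕ)) (h : c1All D w = true) : C1Facts D := by
  intro q hq
  unfold c1All at h
  rw [List.all_eq_true] at h
  have h1 := h q (List.mem_range.mpr hq)
  unfold c1Row at h1
  rw [Bool.or_eq_true] at h1
  rcases h1 with h1 | h1
  · exact ⟨_, _, 1, h1, Or.inl rfl⟩
  · exact ⟨_, _, -1, h1, Or.inr rfl⟩

/-- table facts: every root is moved by a torus element of order two, or is a single commutator with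
coefficient `±1`, `±2` -/
def T3Facts (D : ChevalleyDatum) : Prop :=
  ∀ q, q < D.nroots → (∃ γ, γ < D.nroots ∧ carR D γ q % 2 = 1) ∨
    ∃ a b : ℕ, ∃ N : ℤ, cOK D q a b N = true ∧ (N = 1 ∨ N = -1 ∨ N = 2 ∨ N = -2)

def t3Row (D : ChevalleyDatum) (w : List (ℕ × ℕ × ℕ)) (q : ℕ) : Bool :=
  if (w.getD q (0, 0, 0)).1 = 0 then
    decide ((w.getD q (0, 0, 0)).2.1 < D.nroots) && decide (carR D (w.getD q (0, 0, 0)).2.1 q % 2 = 1)
  else
    cOK D q (w.getD q (0, 0, 0)).2.1 (w.getD q (0, 0, 0)).2.2 1 ||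
      cOK D q (w.getD q (0, 0, 0)).2.1 (w.getD q (0, 0, 0)).2.2 (-1) ||
      cOK D q (w.getD q (0, 0, 0)).2.1 (w.getD q (0, 0, 0)).2.2 2 ||
      cOK D q (w.getD q (0, 0, 0)).2.1 (w.getD q (0, 0, 0)).2.2 (-2)

def t3All (D : ChevalleyDatum) (w : List (ℕ × ℕ × ℕ)) : Bool := (List.range D.nroots).all (t3Row D w)

theorem t3Facts_of {D : ChevalleyDatum} (w : List (ℕ × ℕ × ℕ)) (h : t3All D w = true) : T3Facts D := by
  intro q hq
  unfold t3All at h
  rw [List.all_eq_true] at h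
  have h1 := h q (List.mem_range.mpr hq)
  unfold t3Row at h1
  split_ifs at h1 with h0
  · rw [Bool.and_eq_true, decide_eq_true_eq, decide_eq_true_eq] at h1
    exact Or.inl ⟨_, h1.1, h1.2⟩
  · right
    simp only [Bool.or_eq_true] at h1
    rcases h1 with ((h1 | h1) | h1) | h1
    · exact ⟨_, _, 1, h1, Or.inl rfl⟩
    · exact ⟨_, _, -1, h1, Or.inr (Or.inl rfl)⟩
    · exact ⟨_, _, 2, h1, Or.inr (Or.inr (Or.inl rfl))⟩
    · exact ⟨_, _, -2, h1, Or.inr (Or.inr (Or.inr rfl))⟩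

set_option maxRecDepth 100000 in
theorem t3Facts_G2 : T3Facts chevG2 :=
  t3Facts_of [(0, 1, 0), (0, 0, 0), (0, 0, 0), (0, 0, 0), (0, 1, 0), (0, 0, 0), (0, 0, 0), (0, 1, 0),
    (0, 0, 0),
    (0, 0, 0), (0, 0, 0), (0, 1, 0)] (by decide +kernel)

set_option maxRecDepth 100000 in
theorem t3Facts_B2 : T3Facts chevB2 :=
  t3Facts_of [(1, 1, 2), (0, 0, 0), (0, 0, 0), (1, 1, 5), (1, 2, 6), (0, 0, 0), (0, 0, 0), (1, 5, 6)]
    (by decide +kernel)

set_option maxRecDepth 100000 in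
theorem c1Facts_D4 : C1Facts chevD4 :=
  c1Facts_of [(1, 9), (0, 14), (0, 15), (0, 16), (0, 17), (1, 17), (0, 19), (0, 20), (0, 21), (0, 22),
    (1, 20), (1, 21), (2, 22), (3, 22), (1, 23), (2, 23), (3, 23), (4, 23), (6, 22), (6, 23), (7, 23),
    (8, 23), (9, 23), (14, 22)]
    (by decide +kernel)

set_option maxRecDepth 100000 in
theorem c1Facts_F4 : C1Facts chevF4 :=
  c1Facts_of [(1, 23), (0, 24), (0, 26), (7, 14), (0, 31), (0, 32), (1, 32), (3, 33), (3, 34), (3, 35),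
    (3, 36), (3, 37), (3, 38), (3, 39), (3, 40), (0, 42), (0, 43), (1, 43), (7, 37), (7, 38), (7, 39),
    (0, 45), (1, 45), (0, 46), (1, 47), (2, 46), (2, 47), (8, 40), (9, 40), (10, 40), (4, 46), (4, 47),
    (5, 47), (7, 44), (8, 44), (9, 44), (10, 44), (11, 44), (12, 44), (13, 44), (14, 44), (15, 46),
    (15, 47), (16, 47), (33, 40), (21, 47), (23, 47), (24, 46)]
    (by decide +kernel)

set_option maxRecDepth 100000 in
theorem c1Facts_E6 : C1Facts chevE6 :=
  c1Facts_of [(1, 25), (0, 46), (0, 47), (0, 48), (0, 49), (0, 50), (0, 51), (0, 52), (0, 53), (0, 54),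
    (0, 55), (1, 53), (1, 54), (1, 55), (2, 55), (5, 55), (0, 61), (0, 62), (0, 63), (0, 64), (0, 65),
    (0, 66), (0, 67), (0, 68), (0, 69), (0, 70), (1, 64), (1, 65), (1, 66), (2, 66), (1, 67), (1, 68),
    (1, 69), (2, 67), (2, 68), (3, 67), (4, 68), (3, 69), (4, 69), (2, 70), (3, 70), (4, 70), (5, 69),
    (5, 70), (6, 70), (7, 70), (1, 71), (2, 71), (3, 71), (4, 71), (5, 71), (6, 71), (7, 71), (8, 71),
    (9, 71), (10, 71), (16, 66), (16, 69), (16, 70), (17, 70), (18, 70), (16, 71), (17, 71), (18, 71),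
    (19, 71), (20, 71), (21, 71), (22, 71), (23, 71), (24, 71), (25, 71), (46, 70)]
    (by decide +kernel)

set_option maxRecDepth 100000 in
theorem c1Facts_E7 : C1Facts chevE7 :=
  c1Facts_of [(1, 32), (0, 93), (0, 94), (0, 95), (0, 96), (0, 97), (0, 98), (0, 99), (0, 100), (0, 101),
    (0, 102), (0, 103), (0, 104), (0, 105), (0, 106), (0, 107), (0, 108), (0, 109), (0, 110), (0, 111),
    (0, 112), (0, 113), (0, 114), (0, 115), (0, 116), (0, 117), (0, 118), (0, 119), (0, 120), (0, 121),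
    (0, 122), (0, 123), (0, 124), (1, 109), (1, 110), (1, 111), (1, 112), (1, 113), (1, 114), (1, 115),
    (1, 116), (1, 117), (1, 118), (2, 115), (2, 116), (2, 117), (2, 118), (3, 118), (1, 119), (1, 120),
    (1, 121), (1, 122), (1, 123), (2, 119), (2, 120), (2, 121), (2, 122), (3, 119), (3, 120), (3, 121),
    (4, 119), (4, 120), (5, 119), (6, 120), (5, 121), (6, 121), (4, 122), (5, 122), (6, 122), (3, 123),
    (4, 123), (5, 123), (6, 123), (2, 124), (3, 124), (4, 124), (5, 124), (6, 124), (7, 122), (7, 123),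
    (8, 123), (9, 123), (10, 123), (7, 124), (8, 124), (9, 124), (10, 124), (11, 124), (12, 124), (13, 124),
    (14, 124), (15, 124), (16, 124), (1, 125), (2, 125), (3, 125), (4, 125), (5, 125), (6, 125), (7, 125),
    (8, 125), (9, 125), (10, 125), (11, 125), (12, 125), (13, 125), (14, 125), (15, 125), (16, 125),
    (17, 125), (18, 125), (19, 125), (20, 125), (21, 125), (22, 125), (23, 125), (24, 125), (25, 125),
    (26, 125), (27, 125), (28, 125), (29, 125), (30, 125), (31, 125), (32, 125), (93, 124)]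
    (by decide +kernel)

end Cfsg.Agent.Lib.Helper11.StPres
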