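import Cfsg.Agent.Lib.Helper11.StPresV3E8
import Cfsg.Agent.Lib.Helper7.ChevStCoverMain

/-! Steinberg's presentation, part V4 (helper11): the group presented by (R1), (R2) over a field of
characteristic `p` has the universal lifting property for the central extensions whose kernel has no
`p`-torsion. -/

set_option autoImplicit false
set_option linter.unusedSectionVars false

namespace Cfsg.Agent.Lib.Helper11.StPres

open scoped commutatorElement
open Cfsg Cfsg.Lie Matrix
open Cfsg.Agent.Lib.Helper7

/-- the table facts for the construction of additive lifts -/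
def LiftFacts (D : ChevalleyDatum) : Prop := C1Facts D ∨ (D ∈ [chevB2, chevG2] ∧ T3Facts D)

theorem liftFacts_of_mem (D : ChevalleyDatum)
    (hD : D ∈ [chevG2, chevB2, chevD4, chevF4, chevE6, chevE7, chevE8]) : LiftFacts D :=
  mem_seven_cases (P := LiftFacts) (Or.inr ⟨by simp, t3Facts_G2⟩) (Or.inr ⟨by simp, t3Facts_B2⟩)
    (Or.inl c1Facts_D4) (Or.inl c1Facts_F4) (Or.inl c1Facts_E6) (Or.inl c1Facts_E7) (Or.inl c1Facts_E8) D hD

section
variable {D : ChevalleyDatum} {hD : D ∈ [chevG2, chevB2, chevD4, chevF4, chevE6, chevE7, chevE8]}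
variable {K : Type*} [Field K] {Γ : Type*} [Group Γ] (S : StData D hD K Γ)

namespace StData

/-- a root which is a single commutator: the bracket of the root elements -/
theorem bracket_of_cOK {q a b : ℕ} {N : ℤ} (h : cOK D q a b N = true) (w : K) :
    ⁅S.x b (-1), S.x a w⁆ = S.x q ((N : K) * w) := by
  obtain ⟨ha, hb, hba, hbn, -, -, hterms, -⟩ := cOK_spec h
  have hrel := S.x_comm a b ha hb hba hbn (-w) 1
  have hword : wordG S.x (D.commWord K a b (-w) 1) = S.x q ((N : K) * w) := by
    unfold ChevalleyDatum.commWord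
    rw [hterms]
    simp only [List.map_cons, List.map_nil, wordG, List.prod_cons, List.prod_nil, mul_one, one_pow, pow_one,
      neg_neg]
  rw [hword] at hrel
  rw [commutatorElement_def, ← S.x_inv b hb 1, inv_inv]
  have e : (S.x a w)⁻¹ = S.x a (-w) := S.x_inv a ha w
  have e' : S.x a w = (S.x a (-w))⁻¹ := by rw [S.x_inv a ha, neg_neg]
  rw [e, e']
  calc (S.x b 1)⁻¹ * (S.x a (-w))⁻¹ * S.x b 1 * S.x a (-w)
      = (S.x b 1)⁻¹ * (S.x a (-w))⁻¹ * (S.x b 1 * S.x a (-w)) := by group
    _ = _ := by rw [hrel]; group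

theorem commute_of_cOK {q a b : ℕ} {N : ℤ} (h : cOK D q a b N = true) (hq : q < D.nroots) (t u : K) :
    S.x a t * S.x q u = S.x q u * S.x a t := by
  obtain ⟨ha, -, -, -, hqa, hqn, -, h0⟩ := cOK_spec h
  exact S.x_commute_of_nil a q ha hq hqa hqn h0 t u

section Ext
variable {E : Type*} [Group E] (ψ : E →* Γ) (hsurj : Function.Surjective ψ) (hc : ψ.ker ≤ Subgroup.center E)
  (p : ℕ) (hp0 : (p : K) = 0) (htf : ∀ z ∈ ψ.ker, z ^ p = 1 → z = 1)

include hsurj hc hp0 htf in
/-- every root has additive lifts -/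
theorem exists_addlift_all (hL : LiftFacts D) (hK : D ∈ [chevB2, chevG2] → ∃ x : K, x ≠ 0 ∧ x ≠ 1)
    (q : ℕ) (hq : q < D.nroots) :
    ∃ Xq : K → E, (∀ t, ψ (Xq t) = S.x q t) ∧ ∀ t u, Xq t * Xq u = Xq (t + u) := by
  have hself : ∀ t u : K, S.x q t * S.x q u = S.x q u * S.x q t := by
    intro t u
    rw [S.x_add q hq, S.x_add q hq, add_comm]
  by_cases hbig : ∃ w : K, w ≠ 0 ∧ w ^ 2 ≠ 1
  · obtain ⟨w, hw0, hw1⟩ := hbig
    exact S.exists_addlift ψ hsurj hc p hp0 htf q q hq hq (S.hb q w) (w ^ 2 - 1) (sub_ne_zero.mpr hw1) hself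
      (fun u => S.comm_hb_x q hq w hw0 u)
  · push Not at hbig
    have hcase : ∀ a b : ℕ, ∀ N : ℤ, cOK D q a b N = true → (N : K) ≠ 0 →
        ∃ Xq : K → E, (∀ t, ψ (Xq t) = S.x q t) ∧ ∀ t u, Xq t * Xq u = Xq (t + u) := by
      intro a b N h hN
      exact S.exists_addlift ψ hsurj hc p hp0 htf q a hq (cOK_spec h).1 (S.x b (-1)) (N : K) hN
        (S.commute_of_cOK h hq) (S.bracket_of_cOK h)
    rcases hL with hC | ⟨hmem, hT⟩
    · obtain ⟨a, b, N, h, hN⟩ := hC q hq
      apply hcase a b N h
      rcases hN with rfl | rfl <;> norm_num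
    · obtain ⟨x, hx0, hx1⟩ := hK hmem
      have hx2 := hbig x hx0
      have hxm : x = -1 := by
        have : (x - 1) * (x + 1) = 0 := by ring_nf; rw [hx2]; ring
        rcases mul_eq_zero.mp this with h | h
        · exact absurd (sub_eq_zero.mp h) hx1
        · exact eq_neg_of_add_eq_zero_left h
      have h2 : (2 : K) ≠ 0 := by
        intro h
        apply hx1
        rw [hxm]
        have : (1 : K) + 1 = 0 := by rw [one_add_one_eq_two]; exact h
        exact neg_eq_of_add_eq_zero_left this
      rcases hT q hq with ⟨γ, hγ, hodd⟩ | ⟨a, b, N, h, hN⟩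
      · have hm1 : (-1 : K) ≠ 0 := neg_ne_zero.mpr one_ne_zero
        apply S.exists_addlift ψ hsurj hc p hp0 htf q q hq hq (S.hb γ (-1)) (-2) (neg_ne_zero.mpr h2) hself
        intro u
        rw [commutatorElement_def, S.hb_conj_x γ hγ (-1) hm1 q hq u, S.x_inv q hq, S.x_add q hq]
        congr 1
        have hodd' : Odd (carR D γ q) := Int.odd_iff.mpr hodd
        rw [hodd'.neg_one_zpow]
        ring
      · apply hcase a b N h
        rcases hN with rfl | rfl | rfl | rfl
        · norm_num
        · norm_num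
        · exact_mod_cast h2
        · push_cast; exact neg_ne_zero.mpr h2

end Ext

end StData

end

section Cover
variable {D : ChevalleyDatum} (hD : D ∈ [chevG2, chevB2, chevD4, chevF4, chevE6, chevE7, chevE8])
variable {K : Type*} [Field K] (hK : D ∈ [chevB2, chevG2] → ∃ x : K, x ≠ 0 ∧ x ≠ 1)
include hD hK

/-- every central extension of the group presented by (R1), (R2) whose kernel has no `p`-torsion splits -/
theorem exists_section_tf {E : Type*} [Group E] (ψ : E →* D.SteinbergCover K) (hsurj : Function.Surjective ψ)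
    (hc : ψ.ker ≤ Subgroup.center E) (p : ℕ) (hp0 : (p : K) = 0) (htf : ∀ z ∈ ψ.ker, z ^ p = 1 → z = 1) :
    ∃ τ : D.SteinbergCover K →* E, ψ.comp τ = MonoidHom.id _ := by
  classical
  obtain ⟨hP, -, hDec⟩ := univFacts_of_mem D hD
  set S := coverData hD (K := K) with hS
  have hex := fun q (hq : q < D.nroots) =>
    S.exists_addlift_all ψ hsurj hc p hp0 htf (liftFacts_of_mem D hD) hK q hq
  let X : ℕ → K → E := fun q t => if hq : q < D.nroots then Classical.choose (hex q hq) t else 1
  have hψX : ∀ q, q < D.nroots → ∀ t, ψ (X q t) = S.x q t := by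
    intro q hq t
    show ψ (if hq : q < D.nroots then Classical.choose (hex q hq) t else 1) = _
    rw [dif_pos hq]
    exact (Classical.choose_spec (hex q hq)).1 t
  have hadd : ∀ r, r < D.nroots → ∀ t u : K, X r t * X r u = X r (t + u) := by
    intro q hq t u
    show (if hq : q < D.nroots then Classical.choose (hex q hq) t else 1) *
      (if hq : q < D.nroots then Classical.choose (hex q hq) u else 1) =
      (if hq : q < D.nroots then Classical.choose (hex q hq) (t + u) else 1)
    rw [dif_pos hq, dif_pos hq, dif_pos hq]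
    exact (Classical.choose_spec (hex q hq)).2 t u
  have hcomm : ∀ r s, r < D.nroots → s < D.nroots → s ≠ r → s ≠ D.neg r → ∀ t u : K,
      X s u * X r t = X r t * X s u * wordG X (D.commWord K r s t u) :=
    fun r s hr hs hsr hsn t u => S.comm_main ψ X hc hψX hadd hP hDec
      (fun r s _ _ _ _ => Or.inl (StData.kill_tf ψ p hp0 htf X r s)) _ r s hr hs hsr hsn rfl t u
  exact section_of_lifts hD ψ X hψX hadd hcomm

/-- the universal lifting property of the group presented by (R1), (R2), for the central extensions whose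
kernel has no `p`-torsion, `p` the characteristic -/
theorem exists_unique_lift_tf {G₁ E : Type*} [Group G₁] [Group E] (π₁ : E →* G₁) (hπ : Function.Surjective π₁)
    (hc : π₁.ker ≤ Subgroup.center E) (σ : D.SteinbergCover K →* G₁) (p : ℕ) (hp0 : (p : K) = 0)
    (htf : ∀ z ∈ π₁.ker, z ^ p = 1 → z = 1) :
    ∃! τ : D.SteinbergCover K →* E, π₁.comp τ = σ := by
  apply unique_lift_of_sections (stCover_perfect D hD K hK) π₁ hπ hc σ
  intro P ψ hψ hsurj hcen hker
  apply exists_section_tf hD hK ψ hsurj hcen p hp0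
  intro z hz hzp
  have h1 : z.1.1 = 1 := by
    apply htf _ (hker z hz)
    have := congrArg (fun y : P => y.1.1) hzp
    simpa using this
  have h2 : z.1.2 = 1 := by
    rw [← hψ z]
    exact hz
  apply Subtype.ext
  apply Prod.ext
  · exact h1
  · exact h2

end Cover

end Cfsg.Agent.Lib.Helper11.StPres
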