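import Cfsg.Agent.Lib.Helper11.StPresV4

/-! Steinberg's presentation, part V5 (helper11): projective representations in the natural characteristic
lift to the group presented by (R1), (R2). -/

set_option autoImplicit false

namespace Cfsg.Agent.Lib.Helper11.StPres

open scoped MatrixGroups
open Cfsg Cfsg.Lie

/-- a central element of `GL_n(L)` of order dividing the characteristic `p > 0` of `L` is trivial -/
theorem central_tf {L : Type*} [Field L] {n : ℕ} (p : ℕ) [Fact p.Prime] [CharP L p]
    (z : GL (Fin n) L) (hz : z ∈ Subgroup.center (GL (Fin n) L)) (hzp : z ^ p = 1) : z = 1 := by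
  rcases Nat.eq_zero_or_pos n with rfl | hn
  · exact Subsingleton.elim _ _
  obtain ⟨a, ha⟩ := Matrix.GeneralLinearGroup.mem_center_iff_val_mem_range_scalar.mp hz
  have h1 : (z ^ p).val = (1 : Matrix (Fin n) (Fin n) L) := by rw [hzp]; rfl
  rw [Units.val_pow_eq_pow_val, ← ha, ← map_pow] at h1
  have h2 : a ^ p = 1 := by
    have := congrFun (congrFun h1 ⟨0, hn⟩) ⟨0, hn⟩
    simpa using this
  have h3 : (a - 1) ^ p = 0 := by rw [sub_pow_char, h2, one_pow, sub_self]
  have h4 : a = 1 := sub_eq_zero.mp (pow_eq_zero_iff (Fact.out : p.Prime).ne_zero |>.mp h3)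
  apply Units.ext
  rw [← ha, h4, map_one]
  rfl

/-- homomorphisms from the group presented by (R1), (R2) to `PGL_n(L)`, `L` of the characteristic of `K`, lift
uniquely to `GL_n(L)` -/
theorem projective_lift {K : Type*} [Field K] {D : ChevalleyDatum}
    (hD : D ∈ [chevG2, chevB2, chevD4, chevF4, chevE6, chevE7, chevE8])
    (hK : D ∈ [chevB2, chevG2] → ∃ x : K, x ≠ 0 ∧ x ≠ 1)
    {L : Type*} [Field L] (hL : ringChar L = ringChar K) {n : ℕ}
    (σ : D.SteinbergCover K →* GL (Fin n) L ⧸ Subgroup.center (GL (Fin n) L)) :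
    ∃! ψ : D.SteinbergCover K →* GL (Fin n) L,
      (QuotientGroup.mk' (Subgroup.center (GL (Fin n) L))).comp ψ = σ := by
  have hsurj : Function.Surjective (QuotientGroup.mk' (Subgroup.center (GL (Fin n) L))) :=
    QuotientGroup.mk'_surjective _
  have hker : (QuotientGroup.mk' (Subgroup.center (GL (Fin n) L))).ker ≤ Subgroup.center (GL (Fin n) L) := by
    rw [QuotientGroup.ker_mk']
  rcases CharP.char_is_prime_or_zero K (ringChar K) with hp | hp
  · -- positive characteristic
    have : Fact (ringChar K).Prime := ⟨hp⟩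
    have : CharP L (ringChar K) := by rw [← hL]; infer_instance
    apply exists_unique_lift_tf hD hK _ hsurj hker σ (ringChar K) (ringChar.Nat.cast_ringChar)
    intro z hz hzp
    rw [QuotientGroup.ker_mk'] at hz
    exact central_tf (ringChar K) z hz hzp
  · -- characteristic zero: the field is infinite
    have : CharP K 0 := by rw [← hp]; infer_instance
    have : CharZero K := CharP.charP_to_charZero K
    have hK5 : ∃ s : Finset K, 4 < s.card := by
      obtain ⟨s, hs⟩ := Infinite.exists_subset_card_eq K 5
      exact ⟨s, by omega⟩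
    exact exists_unique_lift hD hK5 _ hsurj hker σ

end Cfsg.Agent.Lib.Helper11.StPres
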