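import Cfsg.Agent.Lib.Helper11.StPresV4

/-! Steinberg's presentation, part W1 (helper11): central extensions of the group presented by (R1), (R2) over
small fields: lifts defined by commutators with torus elements, the torus mechanism and the decomposition
mechanism for killing the central defects. -/

set_option autoImplicit false
set_option linter.unusedSectionVars false

namespace Cfsg.Agent.Lib.Helper11.StPres

open scoped commutatorElement
open Cfsg Cfsg.Lie Matrix
open Cfsg.Agent.Lib.Helper7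

section
variable {D : ChevalleyDatum} {hD : D ∈ [chevG2, chevB2, chevD4, chevF4, chevE6, chevE7, chevE8]}
variable {K : Type*} [Field K] {Γ : Type*} [Group Γ] (S : StData D hD K Γ)

namespace StData

section Ext
variable {E : Type*} [Group E] (ψ : E →* Γ) (hsurj : Function.Surjective ψ) (hc : ψ.ker ≤ Subgroup.center E)

include hsurj hc in
/-- lifts of commuting root elements commute if an element of the group centralises the one and acts by a
non-trivial scalar on the other -/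
theorem comm_lifts_of_tor (r s : ℕ) (hr : r < D.nroots)
    (hcomm : ∀ t u : K, S.x r t * S.x s u = S.x s u * S.x r t) (h : Γ) (c : K) (hc1 : c ≠ 1)
    (hhr : ∀ u : K, h * S.x r u * h⁻¹ = S.x r (c * u)) (hhs : ∀ u : K, h * S.x s u * h⁻¹ = S.x s u)
    (t u : K) (e₁ e₂ : E) (h1 : ψ e₁ = S.x r t) (h2 : ψ e₂ = S.x s u) : ⁅e₁, e₂⁆ = 1 := by
  have hB : ∀ t : K, ∃ l : E, ψ l = S.x r t := fun t => hsurj _
  choose l hl using hB
  have hcen : ∀ t, ⁅l t, e₂⁆ ∈ Subgroup.center E := by
    intro t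
    apply comm_mem_center ψ hc
    rw [hl, h2, hcomm]
  have hadd : ∀ t t', ⁅l (t + t'), e₂⁆ = ⁅l t, e₂⁆ * ⁅l t', e₂⁆ := fun t t' =>
    comm_add_left ψ hc (by rw [hl, hl, hl, S.x_add r hr]) (hcen t')
  obtain ⟨ĥ, hĥ⟩ := hsurj h
  have hinv : ∀ t, ⁅l (c * t), e₂⁆ = ⁅l t, e₂⁆ := by
    intro t
    have e1 : ĥ * ⁅l t, e₂⁆ * ĥ⁻¹ = ⁅l t, e₂⁆ := by
      have := Subgroup.mem_center_iff.mp (hcen t) ĥ
      rw [this, mul_assoc, mul_inv_cancel, mul_one]
    rw [← e1, conj_comm]
    apply comm_eq_of_map_eq ψ hc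
    · rw [hl, map_mul, map_mul, map_inv, hĥ, hl, hhr]
    · rw [map_mul, map_mul, map_inv, hĥ, h2, hhs]
  have key := eq_one_of_add_of_scale (fun t => ⁅l t, e₂⁆) hadd c hc1 hinv t
  rw [← key]
  exact comm_eq_of_map_eq ψ hc (by rw [h1, hl]) rfl

include hsurj hc in
/-- lifts of commuting root elements commute if the one is a commutator of elements commuting with the other -/
theorem comm_lifts_of_dec (r s a : ℕ) (m : Γ) (c : K) (hc0 : c ≠ 0)
    (hbr : ∀ w : K, ⁅m, S.x a w⁆ = S.x r (c * w)) (hsm : ∀ u : K, S.x s u * m = m * S.x s u)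
    (hsa : ∀ u w : K, S.x s u * S.x a w = S.x a w * S.x s u)
    (t u : K) (e₁ e₂ : E) (h1 : ψ e₁ = S.x r t) (h2 : ψ e₂ = S.x s u) : ⁅e₁, e₂⁆ = 1 := by
  obtain ⟨lm, hlm⟩ := hsurj m
  obtain ⟨la, hla⟩ := hsurj (S.x a (t / c))
  have e1 : ⁅e₁, e₂⁆ = ⁅⁅lm, la⁆, e₂⁆ := by
    apply comm_eq_of_map_eq ψ hc _ rfl
    rw [h1, map_commutatorElement, hlm, hla, hbr, mul_div_cancel₀ _ hc0]
  rw [e1]
  have hconj : e₂ * ⁅lm, la⁆ * e₂⁻¹ = ⁅lm, la⁆ := by
    rw [conj_comm]
    apply comm_eq_of_map_eq ψ hc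
    · rw [map_mul, map_mul, map_inv, h2, hlm, hsm, mul_inv_cancel_right]
    · rw [map_mul, map_mul, map_inv, h2, hla, hsa, mul_inv_cancel_right]
  have hC : Commute e₂ ⁅lm, la⁆ := by
    show e₂ * ⁅lm, la⁆ = ⁅lm, la⁆ * e₂
    rw [← mul_inv_eq_iff_eq_mul]
    exact hconj
  exact commutatorElement_eq_one_iff_commute.mpr hC.symm

/-- if the lifts of commuting root elements commute then the defect of their relation (R2) dies -/
theorem kill_of_comm (X : ℕ → K → E) (r s : ℕ) (h0 : D.commTerms r s = [])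
    (hcomm : ∀ t u : K, X s u * X r t = X r t * X s u) : Kill ψ X D r s := by
  intro u F _ _ hrel t
  have h := hrel t
  have hw : wordG X (D.commWord K r s t u) = 1 := by
    unfold ChevalleyDatum.commWord
    rw [h0]
    simp [wordG]
  rw [hw, mul_one, hcomm t u] at h
  exact (mul_eq_left.mp h.symm)

/-- conjugation of a word in lifts which are equivariant under a torus element -/
theorem wordG_conj_of_equivariant (X : ℕ → K → E) {h : Γ} {χ : ℕ → K} (hh : S.IsTor h χ) (e : E)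
    (hX : ∀ q, q < D.nroots → ∀ t : K, e * X q t * e⁻¹ = X q (χ q * t)) (r s : ℕ)
    (hr : r < D.nroots) (hs : s < D.nroots) (t u : K) :
    MulAut.conj e (wordG X (D.commWord K r s t u)) =
      wordG X (D.commWord K r s (χ r * t) (χ s * u)) := by
  unfold wordG ChevalleyDatum.commWord
  rw [map_list_prod, List.map_map, List.map_map, List.map_map]
  congr 1
  apply List.map_congr_left
  intro c hcm
  obtain ⟨hc1, -, -, -⟩ := (chainAdd_zero D).commTerms D hD r s hr hs c hcm
  simp only [Function.comp]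
  rw [MulAut.conj_apply, hX c.1 hc1, hh.mult r s hr hs c hcm]
  congr 1
  ring

/-- the torus mechanism: if the lifts are equivariant under a lift of a torus element which centralises the
root elements of `s` and acts non-trivially on those of `r`, the defect of the relation (R2) dies -/
theorem kill_of_tor (X : ℕ → K → E) (r s : ℕ) (hr : r < D.nroots) (hs : s < D.nroots) {h : Γ} {χ : ℕ → K}
    (hh : S.IsTor h χ) (hχs : χ s = 1) (hχr : χ r ≠ 1) (e : E)
    (hX : ∀ q, q < D.nroots → ∀ t : K, e * X q t * e⁻¹ = X q (χ q * t)) (hcen : ψ.ker ≤ Subgroup.center E) :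
    Kill ψ X D r s := by
  intro u F hker hadd hrel
  have hscale : ∀ t, F (χ r * t) = F t := by
    intro t
    have e1 : MulAut.conj e (F t) = F t := by
      rw [MulAut.conj_apply]
      have := Subgroup.mem_center_iff.mp (hcen (hker t)) e
      rw [this, mul_assoc, mul_inv_cancel, mul_one]
    have h1 := congrArg (MulAut.conj e) (hrel t)
    simp only [map_mul] at h1
    rw [e1, S.wordG_conj_of_equivariant X hh e hX r s hr hs,
      MulAut.conj_apply, MulAut.conj_apply, hX r hr, hX s hs, hχs, one_mul] at h1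
    have h2 := hrel (χ r * t)
    rw [h1] at h2
    exact (mul_left_cancel h2).symm
  exact eq_one_of_add_of_scale F hadd (χ r) hχr hscale

section Lifts
variable (hperf : commutator Γ = ⊤) (g : ℕ → ℕ) (w : K) (hw0 : w ≠ 0)

/-- the lift of `x̄_q(t)` defined by the torus element `h̄_{g q}(w)` -/
noncomputable def xtG (q : ℕ) (t : K) : E :=
  ⁅Function.surjInv hsurj (S.hb (g q) w), Function.surjInv hsurj (S.x q (t / (w ^ carR D (g q) q - 1)))⁆

include hw0 in
theorem comm_hbg_x (q : ℕ) (hq : q < D.nroots) (hg : g q < D.nroots) (u : K) :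
    ⁅S.hb (g q) w, S.x q u⁆ = S.x q ((w ^ carR D (g q) q - 1) * u) := by
  rw [commutatorElement_def, S.hb_conj_x (g q) hg w hw0 q hq u, S.x_inv q hq, S.x_add q hq]
  congr 1
  ring

include hw0 in
theorem ψ_xtG (q : ℕ) (hq : q < D.nroots) (hg : g q < D.nroots) (hg1 : w ^ carR D (g q) q ≠ 1) (t : K) :
    ψ (S.xtG ψ hsurj g w q t) = S.x q t := by
  unfold xtG
  rw [map_commutatorElement, Function.surjInv_eq hsurj, Function.surjInv_eq hsurj,
    S.comm_hbg_x g w hw0 q hq hg, mul_div_cancel₀ _ (sub_ne_zero.mpr hg1)]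

include hc hperf in
theorem xtG_eq (q : ℕ) (t : K) (e₁ e₂ : E) (z : Γ) (hz : z ∈ Subgroup.center Γ)
    (h1 : ψ e₁ = S.hb (g q) w * z) (h2 : ψ e₂ = S.x q (t / (w ^ carR D (g q) q - 1))) :
    ⁅e₁, e₂⁆ = S.xtG ψ hsurj g w q t := by
  obtain ⟨lz, hlz⟩ := hsurj z
  have hcz : lz ∈ Subgroup.center E :=
    mem_center_of_map_mem_center ψ hc hsurj hperf (by rw [hlz]; exact hz)
  have e : e₁ = e₁ * lz⁻¹ * lz := by group
  rw [e, comm_mul_central_left hcz]
  unfold xtG
  apply comm_eq_of_map_eq ψ hc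
  · rw [map_mul, map_inv, h1, hlz, Function.surjInv_eq hsurj, mul_inv_cancel_right]
  · rw [h2, Function.surjInv_eq hsurj]

include hc hperf hw0 in
/-- the lifts are equivariant under the lifts of the torus elements -/
theorem xtG_conj {h : Γ} {χ : ℕ → K} (hh : S.IsTor h χ) (e : E) (he : ψ e = h) (q : ℕ) (hq : q < D.nroots)
    (hg : g q < D.nroots) (t : K) :
    e * S.xtG ψ hsurj g w q t * e⁻¹ = S.xtG ψ hsurj g w q (χ q * t) := by
  obtain ⟨z, hz, hconj⟩ := hh.conj_hb S (g q) hg w hw0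
  conv_lhs => unfold xtG
  rw [conj_comm]
  apply S.xtG_eq ψ hsurj hc hperf g w q (χ q * t) _ _ z hz
  · rw [map_mul, map_mul, map_inv, he, Function.surjInv_eq hsurj, hconj]
  · rw [map_mul, map_mul, map_inv, he, Function.surjInv_eq hsurj, hh.conj q hq, mul_div_assoc]

include hc hperf hw0 in
theorem xtG_add (q : ℕ) (hq : q < D.nroots) (hg : g q < D.nroots) (hg1 : w ^ carR D (g q) q ≠ 1)
    (hCS : ∀ t u : K, ∀ e₁ e₂ : E, ψ e₁ = S.x q t → ψ e₂ = S.x q u → ⁅e₁, e₂⁆ = 1) (t u : K) :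
    S.xtG ψ hsurj g w q t * S.xtG ψ hsurj g w q u = S.xtG ψ hsurj g w q (t + u) := by
  set c := w ^ carR D (g q) q with hcdef
  set s₁ := Function.surjInv hsurj (S.hb (g q) w) with hs₁
  set y := Function.surjInv hsurj (S.x q (t / (c - 1))) with hy
  set y' := Function.surjInv hsurj (S.x q (u / (c - 1))) with hy'
  have h1 : ⁅s₁, y * y'⁆ = S.xtG ψ hsurj g w q (t + u) := by
    apply S.xtG_eq ψ hsurj hc hperf g w q (t + u) _ _ 1 (Subgroup.one_mem _)
    · rw [mul_one, hs₁, Function.surjInv_eq hsurj]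
    · rw [map_mul, hy, hy', Function.surjInv_eq hsurj, Function.surjInv_eq hsurj, S.x_add q hq, add_div]
  have h2 : ⁅s₁, y * y'⁆ = ⁅s₁, y⁆ * (y * ⁅s₁, y'⁆ * y⁻¹) := by
    simp only [commutatorElement_def]; group
  have h3 : ⁅y, ⁅s₁, y'⁆⁆ = 1 := by
    apply hCS (t / (c - 1)) u
    · rw [hy, Function.surjInv_eq hsurj]
    · exact S.ψ_xtG ψ hsurj g w hw0 q hq hg hg1 u
  have h4 : y * ⁅s₁, y'⁆ * y⁻¹ = ⁅s₁, y'⁆ :=
    (commutatorElement_eq_one_iff_commute.mp h3).mul_inv_cancel
  rw [← h1, h2, h4]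
  rfl

end Lifts

end Ext

end StData

end

end Cfsg.Agent.Lib.Helper11.StPres
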