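import Cfsg.Agent.Lib.Helper11.StPresW9D4

/-! Steinberg's presentation, part W10 (helper11): the central extensions of the group presented by (R1), (R2)
of type D₄ over a finite field with more than two elements split. -/

set_option autoImplicit false
set_option linter.unusedSectionVars false

namespace Cfsg.Agent.Lib.Helper11.StPres

open scoped commutatorElement
open Cfsg Cfsg.Lie Matrix
open Cfsg.Agent.Lib.Helper7

universe u

section D4
variable {K : Type u} [Field K] [Fintype K]

theorem mem_seven_D4 : chevD4 ∈ [chevG2, chevB2, chevD4, chevF4, chevE6, chevE7, chevE8] := by simp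

theorem exists_section_D4 (hK : 3 ≤ Fintype.card K) {E : Type*} [Group E] (ψ : E →* chevD4.SteinbergCover K)
    (hsurj : Function.Surjective ψ) (hc : ψ.ker ≤ Subgroup.center E) :
    ∃ τ : chevD4.SteinbergCover K →* E, ψ.comp τ = MonoidHom.id _ := by
  obtain ⟨w, hw0, hw1⟩ := exists_ne_zero_one hK
  have hperf : commutator (chevD4.SteinbergCover K) = ⊤ :=
    stCover_perfect chevD4 mem_seven_D4 K (fun _ => ⟨w, hw0, hw1⟩)
  by_cases h5 : 5 ≤ Fintype.card K
  · exact exists_section mem_seven_D4 ⟨Finset.univ, by rw [Finset.card_univ]; omega⟩ ψ hsurj hc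
  have h34 : Fintype.card K = 3 ∨ Fintype.card K = 4 := by omega
  rcases h34 with h3 | h4
  · obtain ⟨h2, hprime⟩ := field_three h3
    set S := coverData mem_seven_D4 (K := K) with hS
    have hm1 : (-1 : K) ≠ 0 := neg_ne_zero.mpr one_ne_zero
    apply exists_section_mech' mem_seven_D4 hperf (-1) hm1 2 (neg_one_zpow_eq_one_iff h2) xFacts_D4_two ψ hsurj hc
    · intro q hq t u e₁ e₂ h1 h2'
      exact S.comm_lifts_self_of_prime ψ hsurj hc hprime q hq t u e₁ e₂ h1 h2'
    · intro r s hr hs hsr hsn
      rcases a3Facts_D4 r s hr hs hsr hsn with h | ⟨r', s', a, b', N1, N2, N3, N4, h⟩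
      · exact Or.inl h
      · right; left
        obtain ⟨-, -, -, -, -, -, n3, -⟩ := a3OK_spec h
        exact ⟨(nilB_spec n3).2.2.2.2, S.cl_of_a3OK ψ hsurj hc h2 h⟩
  · have hw3 := field_four h4 w hw0
    exact exists_section_mech mem_seven_D4 hperf w hw0 3 (zpow_eq_one_iff_of_cube w hw0 hw1 hw3) false
      (fun h => absurd h (by decide)) mechFacts_D4_three xFacts_D4_three ψ hsurj hc
      (fun q hq t u e₁ e₂ h1 h2' =>
        (coverData mem_seven_D4 (K := K)).comm_lifts_of_decOK ψ hsurj hc (two := false)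
          (fun h => absurd h (by decide)) hq (selfDecFacts_D4 q hq) t u e₁ e₂ h1 h2')

end D4

end Cfsg.Agent.Lib.Helper11.StPres
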