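import Cfsg.Agent.Lib.Helper11.StPresW10
import Cfsg.Agent.Lib.Lead.CentClH

/-! Steinberg's presentation, part W11 (helper11): over a finite field, if the central extensions of the group
presented by (R1), (R2) split then the group presented by (R1)–(R3) has trivial Schur multiplier. -/

set_option autoImplicit false
set_option linter.unusedSectionVars false

namespace Cfsg.Agent.Lib.Helper11.StPres

open scoped commutatorElement
open Cfsg Cfsg.Lie Matrix
open Cfsg.Agent.Lib.Helper7

universe u

section
variable {D : ChevalleyDatum} (hD : D ∈ [chevG2, chevB2, chevD4, chevF4, chevE6, chevE7, chevE8])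
variable {K : Type u} [Field K] [Finite K]

/-- over a finite field the kernel of the canonical homomorphism is finite, under (R3) -/
theorem StData.finite_ker {Γ : Type*} [Group Γ] (S : StData D hD K Γ) (h3 : S.HasR3) : Finite S.θG.ker := by
  classical
  rw [S.θG_ker]
  let f : (Fin D.rank → K) → Γ := fun τ' => S.hprod (fun i => if h : i < D.rank then τ' ⟨i, h⟩ else 1)
  have hsub : (S.θ.ker : Set Γ) ⊆ Set.range f := by
    intro z hz
    obtain ⟨τ, -, rfl⟩ := S.exists_hprod h3 z (S.ker_le_Hfund h3 hz)
    refine ⟨fun i => τ i.val, ?_⟩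
    show S.hprod _ = S.hprod τ
    unfold StData.hprod
    congr 1
    apply List.map_congr_left
    intro i hi
    have hi' : i < D.rank := List.mem_range.mp hi
    simp only [dif_pos hi']
  exact (Set.Finite.subset (Set.finite_range f) hsub).to_subtype

include hD in
/-- **if the central extensions of the group presented by (R1), (R2) over a finite field split, the group
presented by (R1)–(R3) has trivial Schur multiplier** -/
theorem steinbergGroup_multiplier_of_sections (hK : D ∈ [chevB2, chevG2] → ∃ x : K, x ≠ 0 ∧ x ≠ 1)
    (hsec : ∀ {E : Type u} [Group E] (ψ : E →* D.SteinbergCover K), Function.Surjective ψ →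
      ψ.ker ≤ Subgroup.center E → ∃ τ : D.SteinbergCover K →* E, ψ.comp τ = MonoidHom.id _) :
    Cfsg.HasCyclicSchurMultiplier (D.SteinbergGroup K) 1 := by
  set S := stData hD (K := K) with hS
  have hker : Finite S.θG.ker := S.finite_ker hD (stData_R3 hD)
  have := Cfsg.Agent.Lib.Lead.CentCl.steinbergGroup_finite hD hker
  have hperfC : commutator (D.SteinbergCover K) = ⊤ := stCover_perfect D hD K hK
  apply Cfsg.Agent.Lib.Lead.CentCl.trivial_multiplier_of_universal S.θG S.θG_surjective
  · rw [S.θG_ker]; exact S.ker_le_center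
  · exact Cfsg.Agent.Lib.Lead.CentCl.steinbergGroup_perfect hD hK
  · intro Δ _ _ π hπ hc
    obtain ⟨e, he⟩ := exists_cover_equiv D hD K
    set C := coverData hD (K := K) with hC
    obtain ⟨τ', hτ', -⟩ := unique_lift_of_sections hperfC π hπ hc C.θG
      (fun P ψ _ hs hcen _ => hsec ψ hs hcen)
    have hcomp : S.θG.comp e.toMonoidHom = C.θG := by
      apply hom_eq_θG hD C
      intro r t hr
      show ((S.θG (e (C.x r t)) : GL D.Idx K) : Matrix D.Idx D.Idx K) = D.x K r t
      rw [coverData_x, he r t, ← stData_x hD, S.θG_x r hr t]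
    refine ⟨τ'.comp e.symm.toMonoidHom, ?_⟩
    apply MonoidHom.ext
    intro x
    show π (τ' (e.symm x)) = S.θG x
    have h1 : π (τ' (e.symm x)) = C.θG (e.symm x) := DFunLike.congr_fun hτ' (e.symm x)
    rw [h1, ← hcomp]
    show S.θG (e (e.symm x)) = S.θG x
    rw [MulEquiv.apply_symm_apply]

end

end Cfsg.Agent.Lib.Helper11.StPres
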