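import Cfsg.Agent.Lib.Helper11.StPresW11

/-! Steinberg's presentation, part W12 (helper11): type B₂ over the field with four elements: the lifts of the
root elements of a root commute. -/

set_option autoImplicit false
set_option linter.unusedSectionVars false

namespace Cfsg.Agent.Lib.Helper11.StPres

open scoped commutatorElement
open Cfsg Cfsg.Lie Matrix
open Cfsg.Agent.Lib.Helper7

/-- the long root `r` is the second term of the commutator formula of `γ`, `δ` -/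
def selfLongB (D : ChevalleyDatum) (m : ℤ) (r γ δ ρ : ℕ) (c1 c2 : ℤ) : Bool :=
  decide (γ < D.nroots) && decide (δ < D.nroots) && (δ != γ) && (δ != D.neg γ) &&
    (D.commTerms γ δ == [(ρ, c1, 1, 1), (r, c2, 1, 2)]) && signB c2 && nilB D r γ && nilB D r δ && nilB D r ρ &&
    (torB D m r ρ || torB D m ρ r)

/-- the short root `r` is the first term of the commutator formula of `γ`, `δ`, and commutes with `δ` in
characteristic two -/
def selfShortB (D : ChevalleyDatum) (m : ℤ) (r γ δ ρ : ℕ) (c1 c2 N : ℤ) : Bool :=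
  decide (γ < D.nroots) && decide (δ < D.nroots) && (δ != γ) && (δ != D.neg γ) &&
    (D.commTerms γ δ == [(r, c1, 1, 1), (ρ, c2, 1, 2)]) && signB c1 && nilB D r γ && singleB D r δ ρ N &&
    ((N == 2) || (N == -2)) && nilB D r ρ && (torB D m r ρ || torB D m ρ r)

theorem selfLongB_spec {D : ChevalleyDatum} {m : ℤ} {r γ δ ρ : ℕ} {c1 c2 : ℤ}
    (h : selfLongB D m r γ δ ρ c1 c2 = true) :
    γ < D.nroots ∧ δ < D.nroots ∧ δ ≠ γ ∧ δ ≠ D.neg γ ∧ D.commTerms γ δ = [(ρ, c1, 1, 1), (r, c2, 1, 2)] ∧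
      (c2 = 1 ∨ c2 = -1) ∧ nilB D r γ = true ∧ nilB D r δ = true ∧ nilB D r ρ = true ∧
      (torB D m r ρ = true ∨ torB D m ρ r = true) := by
  unfold selfLongB at h
  simp only [Bool.and_eq_true, Bool.or_eq_true, decide_eq_true_eq, bne_iff_ne, ne_eq, beq_iff_eq] at h
  obtain ⟨⟨⟨⟨⟨⟨⟨⟨⟨h1, h2⟩, h3⟩, h4⟩, h5⟩, h6⟩, h7⟩, h8⟩, h9⟩, h10⟩ := h
  exact ⟨h1, h2, h3, h4, h5, signB_spec h6, h7, h8, h9, h10⟩

theorem selfShortB_spec {D : ChevalleyDatum} {m : ℤ} {r γ δ ρ : ℕ} {c1 c2 N : ℤ}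
    (h : selfShortB D m r γ δ ρ c1 c2 N = true) :
    γ < D.nroots ∧ δ < D.nroots ∧ δ ≠ γ ∧ δ ≠ D.neg γ ∧ D.commTerms γ δ = [(r, c1, 1, 1), (ρ, c2, 1, 2)] ∧
      (c1 = 1 ∨ c1 = -1) ∧ nilB D r γ = true ∧ singleB D r δ ρ N = true ∧ (N = 2 ∨ N = -2) ∧
      nilB D r ρ = true ∧ (torB D m r ρ = true ∨ torB D m ρ r = true) := by
  unfold selfShortB at h
  simp only [Bool.and_eq_true, Bool.or_eq_true, decide_eq_true_eq, bne_iff_ne, ne_eq, beq_iff_eq] at h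
  obtain ⟨⟨⟨⟨⟨⟨⟨⟨⟨⟨h1, h2⟩, h3⟩, h4⟩, h5⟩, h6⟩, h7⟩, h8⟩, h9⟩, h10⟩, h11⟩ := h
  exact ⟨h1, h2, h3, h4, h5, signB_spec h6, h7, h8, h9, h10, h11⟩

/-- table facts: every root is a term of a commutator formula with two terms, in the way needed for the
commutation of the lifts of its root elements in characteristic two -/
def SelfTwoFacts (D : ChevalleyDatum) (m : ℤ) : Prop :=
  ∀ r, r < D.nroots → (∃ γ δ ρ : ℕ, ∃ c1 c2 : ℤ, selfLongB D m r γ δ ρ c1 c2 = true) ∨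
    ∃ γ δ ρ : ℕ, ∃ c1 c2 N : ℤ, selfShortB D m r γ δ ρ c1 c2 N = true

def selfTwoRow (D : ChevalleyDatum) (m : ℤ) (wit : List (ℕ × ℕ × ℕ × ℕ × ℕ × ℕ × ℕ)) (r : ℕ) : Bool :=
  if (wit.getD r (0, 0, 0, 0, 0, 0, 0)).1 = 0 then
    selfLongB D m r (wit.getD r (0, 0, 0, 0, 0, 0, 0)).2.1 (wit.getD r (0, 0, 0, 0, 0, 0, 0)).2.2.1
      (wit.getD r (0, 0, 0, 0, 0, 0, 0)).2.2.2.1 (sgnZ (wit.getD r (0, 0, 0, 0, 0, 0, 0)).2.2.2.2.1)
      (sgnZ (wit.getD r (0, 0, 0, 0, 0, 0, 0)).2.2.2.2.2.1)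
  else
    selfShortB D m r (wit.getD r (0, 0, 0, 0, 0, 0, 0)).2.1 (wit.getD r (0, 0, 0, 0, 0, 0, 0)).2.2.1
      (wit.getD r (0, 0, 0, 0, 0, 0, 0)).2.2.2.1 (sgnZ (wit.getD r (0, 0, 0, 0, 0, 0, 0)).2.2.2.2.1)
      (sgnZ (wit.getD r (0, 0, 0, 0, 0, 0, 0)).2.2.2.2.2.1)
      (2 * sgnZ (wit.getD r (0, 0, 0, 0, 0, 0, 0)).2.2.2.2.2.2)

theorem selfTwoFacts_of_rows {D : ChevalleyDatum} {m : ℤ} (wit : List (ℕ × ℕ × ℕ × ℕ × ℕ × ℕ × ℕ))
    (h : ∀ r, r < D.nroots → selfTwoRow D m wit r = true) : SelfTwoFacts D m := by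
  intro r hr
  have h1 := h r hr
  unfold selfTwoRow at h1
  split_ifs at h1
  · exact Or.inl ⟨_, _, _, _, _, h1⟩
  · exact Or.inr ⟨_, _, _, _, _, _, h1⟩

section
variable {D : ChevalleyDatum} {hD : D ∈ [chevG2, chevB2, chevD4, chevF4, chevE6, chevE7, chevE8]}
variable {K : Type*} [Field K] {Γ : Type*} [Group Γ] (S : StData D hD K Γ)

namespace StData

section Ext
variable {E : Type*} [Group E] (ψ : E →* Γ) (hsurj : Function.Surjective ψ) (hc : ψ.ker ≤ Subgroup.center E)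

include hsurj hc in
/-- the lifts of the root elements of `r` commute, if every root element of `r` is, up to a root element of a
root `ρ` whose lifts commute with those of `r`, a commutator of elements commuting with the root elements of
`r` -/
theorem cl_self_of_bracket (r ρ : ℕ)
    (hdata : ∀ v : K, ∃ m₁ m₂ : Γ, ∃ p : K, ⁅m₁, m₂⁆ = S.x ρ p * S.x r v ∧
      (∀ t : K, S.x r t * m₁ = m₁ * S.x r t) ∧ (∀ t : K, S.x r t * m₂ = m₂ * S.x r t))
    (hCL : S.CL ψ r ρ) : S.CL ψ r r := by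
  intro t v e₁ e₂ h1 h2
  obtain ⟨m₁, m₂, p, hbr, hm₁, hm₂⟩ := hdata v
  obtain ⟨g₁, hg₁⟩ := hsurj m₁
  obtain ⟨g₂, hg₂⟩ := hsurj m₂
  obtain ⟨lρ, hlρ⟩ := hsurj (S.x ρ p)
  have hY : ψ ⁅g₁, g₂⁆ = S.x ρ p * S.x r v := by rw [map_commutatorElement, hg₁, hg₂, hbr]
  have hcY : e₁ * ⁅g₁, g₂⁆ * e₁⁻¹ = ⁅g₁, g₂⁆ := by
    rw [conj_comm]
    apply comm_eq_of_map_eq ψ hc
    · rw [map_mul, map_mul, map_inv, h1, hg₁, hm₁, mul_inv_cancel_right]
    · rw [map_mul, map_mul, map_inv, h1, hg₂, hm₂, mul_inv_cancel_right]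
  have hcY' : Commute e₁ ⁅g₁, g₂⁆ := by
    show e₁ * ⁅g₁, g₂⁆ = ⁅g₁, g₂⁆ * e₁
    rw [← mul_inv_eq_iff_eq_mul]
    exact hcY
  have hcρ : Commute e₁ lρ := commutatorElement_eq_one_iff_commute.mp (hCL t p e₁ lρ h1 hlρ)
  have hfin : Commute e₁ (lρ⁻¹ * ⁅g₁, g₂⁆) := hcρ.inv_right.mul_right hcY'
  rw [← commutatorElement_eq_one_iff_commute.mpr hfin]
  apply comm_eq_of_map_eq ψ hc rfl
  rw [h2, map_mul, map_inv, hlρ, hY, inv_mul_cancel_left]

variable (w : K) (hw0 : w ≠ 0) (m : ℤ) (hw : ∀ k : ℤ, w ^ k = 1 ↔ m ∣ k)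

include hsurj hc hw0 hw in
theorem cl_self_of_selfLong {r γ δ ρ : ℕ} {c1 c2 : ℤ} (h : selfLongB D m r γ δ ρ c1 c2 = true) :
    S.CL ψ r r := by
  obtain ⟨hγ, hδ, hδγ, hδn, hterms, hc2, n1, n2, n3, ht⟩ := selfLongB_spec h
  apply S.cl_self_of_bracket ψ hsurj hc r ρ _
    (S.cl_of_nilB_tor ψ hsurj hc w hw0 m hw n3 (ht.imp torOK_of_torB torOK_of_torB))
  intro v
  set a : K := -((c2 : K) * v) with ha
  have hc2K : (c2 : K) * (c2 : K) = 1 := by
    rcases hc2 with h | h <;> rw [h] <;> push_cast <;> ring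
  have hrel := S.x_comm γ δ hγ hδ hδγ hδn a 1
  have hword : wordG S.x (D.commWord K γ δ a 1) = S.x ρ ((c1 : K) * (-a)) * S.x r v := by
    unfold ChevalleyDatum.commWord
    rw [hterms]
    simp only [List.map_cons, List.map_nil, wordG, List.prod_cons, List.prod_nil, mul_one, one_pow, pow_one]
    congr 2
    rw [ha, neg_neg, ← mul_assoc, hc2K, one_mul]
  rw [hword] at hrel
  refine ⟨(S.x δ 1)⁻¹, (S.x γ a)⁻¹, (c1 : K) * (-a), ?_, ?_, ?_⟩
  · rw [commutatorElement_def, inv_inv, inv_inv]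
    calc (S.x δ 1)⁻¹ * (S.x γ a)⁻¹ * S.x δ 1 * S.x γ a
        = (S.x δ 1)⁻¹ * (S.x γ a)⁻¹ * (S.x δ 1 * S.x γ a) := by group
      _ = _ := by rw [hrel]; group
  · intro t
    have hC : Commute (S.x r t) (S.x δ 1) := S.commute_of_nilB n2 t 1
    exact hC.inv_right.eq
  · intro t
    have hC : Commute (S.x r t) (S.x γ a) := S.commute_of_nilB n1 t a
    exact hC.inv_right.eq

include hsurj hc hw0 hw in
theorem cl_self_of_selfShort (h2 : (2 : K) = 0) {r γ δ ρ : ℕ} {c1 c2 N : ℤ}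
    (h : selfShortB D m r γ δ ρ c1 c2 N = true) : S.CL ψ r r := by
  obtain ⟨hγ, hδ, hδγ, hδn, hterms, hc1, n1, s2, hN, n3, ht⟩ := selfShortB_spec h
  apply S.cl_self_of_bracket ψ hsurj hc r ρ _
    (S.cl_of_nilB_tor ψ hsurj hc w hw0 m hw n3 (ht.imp torOK_of_torB torOK_of_torB))
  intro v
  set a : K := -((c1 : K) * v) with ha
  have hc1K : (c1 : K) * (c1 : K) = 1 := by
    rcases hc1 with h | h <;> rw [h] <;> push_cast <;> ring
  have hrel := S.x_comm γ δ hγ hδ hδγ hδn a 1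
  have hword : wordG S.x (D.commWord K γ δ a 1) = S.x r v * S.x ρ ((c2 : K) * (-a)) := by
    unfold ChevalleyDatum.commWord
    rw [hterms]
    simp only [List.map_cons, List.map_nil, wordG, List.prod_cons, List.prod_nil, mul_one, one_pow, pow_one]
    congr 2
    rw [ha, neg_neg, ← mul_assoc, hc1K, one_mul]
  rw [hword] at hrel
  have hNK : (N : K) = 0 := by
    rcases hN with rfl | rfl
    · exact_mod_cast h2
    · push_cast; rw [h2, neg_zero]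
  obtain ⟨hr, -, hδr, hδrn, hsingle⟩ := singleB_spec s2
  refine ⟨(S.x δ 1)⁻¹, (S.x γ a)⁻¹, (c2 : K) * (-a), ?_, ?_, ?_⟩
  · rw [commutatorElement_def, inv_inv, inv_inv, ← S.commute_of_nilB n3 v ((c2 : K) * (-a))]
    calc (S.x δ 1)⁻¹ * (S.x γ a)⁻¹ * S.x δ 1 * S.x γ a
        = (S.x δ 1)⁻¹ * (S.x γ a)⁻¹ * (S.x δ 1 * S.x γ a) := by group
      _ = _ := by rw [hrel]; group
  · intro t
    have hb := S.bracket_of_single hr hδ hδr hδrn hsingle t 1
    rw [hNK, zero_mul, zero_mul, neg_zero, S.x_zero ρ] at hb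
    · have hC : Commute (S.x δ 1) (S.x r t) := commutatorElement_eq_one_iff_commute.mp hb
      exact hC.symm.inv_right.eq
    · exact (nilB_spec n3).2.1
  · intro t
    have hC : Commute (S.x r t) (S.x γ a) := S.commute_of_nilB n1 t a
    exact hC.inv_right.eq

end Ext

end StData

end

set_option maxRecDepth 100000 in
theorem selfTwoFacts_B2 : SelfTwoFacts chevB2 3 :=
  selfTwoFacts_of_rows [(0, 3, 2, 1, 1, 1, 0), (1, 0, 5, 3, 0, 1, 1), (1, 0, 6, 4, 1, 0, 1), (0, 0, 5, 1, 0, 1, 0),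
    (0, 0, 6, 2, 1, 0, 0), (1, 3, 6, 7, 0, 0, 0), (1, 4, 5, 7, 0, 1, 1), (0, 3, 6, 5, 0, 0, 0)]
    (forall_lt_of_all (n := 8) (by decide +kernel))

set_option maxRecDepth 100000 in
theorem mechFacts_B2_three : MechFacts chevB2 3 false :=
  mechFacts_of_rows [] (forall_lt_of_all (n := 8) (f := mechRow chevB2 3 false []) (by decide +kernel))

set_option maxRecDepth 100000 in
theorem xFacts_B2_three : XFacts chevB2 3 :=
  xFacts_of_rows (forall_lt_of_all (n := 8) (f := xRowB chevB2 3) (by decide +kernel))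

end Cfsg.Agent.Lib.Helper11.StPres
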