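import Cfsg.Agent.Lib.Helper11.StPresW12

/-! Steinberg's presentation, part W13 (helper11): the central extensions of the group presented by (R1), (R2)
of type B₂ over a finite field with more than three elements split. -/

set_option autoImplicit false
set_option linter.unusedSectionVars false

namespace Cfsg.Agent.Lib.Helper11.StPres

open scoped commutatorElement
open Cfsg Cfsg.Lie Matrix
open Cfsg.Agent.Lib.Helper7

universe u

section B2
variable {K : Type u} [Field K] [Fintype K]

theorem mem_seven_B2 : chevB2 ∈ [chevG2, chevB2, chevD4, chevF4, chevE6, chevE7, chevE8] := by simp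

/-- a field with four elements has characteristic two -/
theorem two_eq_zero_of_card_four (h4 : Fintype.card K = 4) : (2 : K) = 0 := by
  obtain ⟨p, hp⟩ := CharP.exists K
  obtain ⟨n, hprime, hcard⟩ := FiniteField.card K p
  have hp2 : p = 2 := by
    rw [h4] at hcard
    have hdvd : p ∣ 4 := by
      rw [hcard]
      exact dvd_pow_self p n.ne_zero
    have hle : p ≤ 4 := Nat.le_of_dvd (by norm_num) hdvd
    have h2 := hprime.two_le
    interval_cases p
    · rfl
    · exfalso
      have : (3 : ℕ) ∣ 4 := hdvd
      omega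
    · exfalso
      exact absurd hprime (by norm_num)
  subst hp2
  have := CharP.cast_eq_zero K 2
  exact_mod_cast this

theorem exists_section_B2_four (h4 : 4 ≤ Fintype.card K) {E : Type*} [Group E]
    (ψ : E →* chevB2.SteinbergCover K)
    (hsurj : Function.Surjective ψ) (hc : ψ.ker ≤ Subgroup.center E) :
    ∃ τ : chevB2.SteinbergCover K →* E, ψ.comp τ = MonoidHom.id _ := by
  obtain ⟨w, hw0, hw1⟩ := exists_ne_zero_one (K := K) (by omega)
  have hperf : commutator (chevB2.SteinbergCover K) = ⊤ :=
    stCover_perfect chevB2 mem_seven_B2 K (fun _ => ⟨w, hw0, hw1⟩)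
  by_cases h5 : 5 ≤ Fintype.card K
  · exact exists_section mem_seven_B2 ⟨Finset.univ, by rw [Finset.card_univ]; omega⟩ ψ hsurj hc
  have h4' : Fintype.card K = 4 := by omega
  have hw3 := field_four h4' w hw0
  have h2 := two_eq_zero_of_card_four h4'
  have hw := zpow_eq_one_iff_of_cube w hw0 hw1 hw3
  set S := coverData mem_seven_B2 (K := K) with hS
  refine exists_section_mech mem_seven_B2 hperf w hw0 3 hw false
    (fun h => absurd h (by decide)) mechFacts_B2_three xFacts_B2_three ψ hsurj hc ?_
  intro q hq
  rcases selfTwoFacts_B2 q hq with ⟨γ, δ, ρ, c1, c2, h⟩ | ⟨γ, δ, ρ, c1, c2, N, h⟩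
  · exact S.cl_self_of_selfLong ψ hsurj hc w hw0 3 hw h
  · exact S.cl_self_of_selfShort ψ hsurj hc w hw0 3 hw h2 h

end B2

end Cfsg.Agent.Lib.Helper11.StPres
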