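import Cfsg.Agent.Lib.Helper11.StPresW13

/-! Steinberg's presentation, part W14 (helper11): brackets of lifts of root elements of two roots whose
commutator formula has a single term; lifts of root elements defined by such brackets. -/

set_option autoImplicit false
set_option linter.unusedSectionVars false

namespace Cfsg.Agent.Lib.Helper11.StPres

open scoped commutatorElement
open Cfsg Cfsg.Lie Matrix
open Cfsg.Agent.Lib.Helper7

section
variable {D : ChevalleyDatum} {hD : D ∈ [chevG2, chevB2, chevD4, chevF4, chevE6, chevE7, chevE8]}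
variable {K : Type*} [Field K] {Γ : Type*} [Group Γ] (S : StData D hD K Γ)

namespace StData

section Ext
variable {E : Type*} [Group E] (ψ : E →* Γ) (hsurj : Function.Surjective ψ) (hc : ψ.ker ≤ Subgroup.center E)

/-- the bracket of lifts of `x̄_b(u)` and `x̄_a(v)` -/
noncomputable def brk (a b : ℕ) (u v : K) : E :=
  ⁅Function.surjInv hsurj (S.x b u), Function.surjInv hsurj (S.x a v)⁆

include hc in
theorem brk_eq (a b : ℕ) (u v : K) (e₁ e₂ : E) (h1 : ψ e₁ = S.x b u) (h2 : ψ e₂ = S.x a v) :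
    ⁅e₁, e₂⁆ = S.brk ψ hsurj a b u v := by
  unfold brk
  apply comm_eq_of_map_eq ψ hc
  · rw [h1, Function.surjInv_eq hsurj]
  · rw [h2, Function.surjInv_eq hsurj]

theorem ψ_brk {a b q : ℕ} {N : ℤ} (h : singleB D a b q N = true) (u v : K) :
    ψ (S.brk ψ hsurj a b u v) = S.x q (-((N : K) * v * u)) := by
  obtain ⟨ha, hb, hba, hbn, hterms⟩ := singleB_spec h
  unfold brk
  rw [map_commutatorElement, Function.surjInv_eq hsurj, Function.surjInv_eq hsurj,
    S.bracket_of_single ha hb hba hbn hterms v u]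

include hc in
theorem brk_add_right {a b q : ℕ} {N : ℤ} (h : singleB D a b q N = true) (hCL : S.CL ψ a q) (u v v' : K) :
    S.brk ψ hsurj a b u (v + v') = S.brk ψ hsurj a b u v * S.brk ψ hsurj a b u v' := by
  obtain ⟨ha, hb, hba, hbn, hterms⟩ := singleB_spec h
  set lb := Function.surjInv hsurj (S.x b u) with hlb
  set y := Function.surjInv hsurj (S.x a v) with hy
  set y' := Function.surjInv hsurj (S.x a v') with hy'
  have h1 : S.brk ψ hsurj a b u (v + v') = ⁅lb, y * y'⁆ := by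
    symm
    apply S.brk_eq ψ hsurj hc
    · rw [hlb, Function.surjInv_eq hsurj]
    · rw [map_mul, hy, hy', Function.surjInv_eq hsurj, Function.surjInv_eq hsurj, S.x_add a ha]
  have h2 : ⁅lb, y * y'⁆ = ⁅lb, y⁆ * (y * ⁅lb, y'⁆ * y⁻¹) := by
    simp only [commutatorElement_def]; group
  have h3 : ⁅y, ⁅lb, y'⁆⁆ = 1 := by
    apply hCL v (-((N : K) * v' * u))
    · rw [hy, Function.surjInv_eq hsurj]
    · exact S.ψ_brk ψ hsurj h u v'
  have h4 : y * ⁅lb, y'⁆ * y⁻¹ = ⁅lb, y'⁆ :=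
    (commutatorElement_eq_one_iff_commute.mp h3).mul_inv_cancel
  rw [h1, h2, h4]
  rfl

include hc in
theorem brk_add_left {a b q : ℕ} {N : ℤ} (h : singleB D a b q N = true) (hCL : S.CL ψ b q) (u u' v : K) :
    S.brk ψ hsurj a b (u + u') v = S.brk ψ hsurj a b u' v * S.brk ψ hsurj a b u v := by
  obtain ⟨ha, hb, hba, hbn, hterms⟩ := singleB_spec h
  set la := Function.surjInv hsurj (S.x a v) with hla
  set y := Function.surjInv hsurj (S.x b u) with hy
  set y' := Function.surjInv hsurj (S.x b u') with hy'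
  have h1 : S.brk ψ hsurj a b (u + u') v = ⁅y * y', la⁆ := by
    symm
    apply S.brk_eq ψ hsurj hc
    · rw [map_mul, hy, hy', Function.surjInv_eq hsurj, Function.surjInv_eq hsurj, S.x_add b hb]
    · rw [hla, Function.surjInv_eq hsurj]
  have h2 : ⁅y * y', la⁆ = (y * ⁅y', la⁆ * y⁻¹) * ⁅y, la⁆ := by
    simp only [commutatorElement_def]; group
  have h3 : ⁅y, ⁅y', la⁆⁆ = 1 := by
    apply hCL u (-((N : K) * v * u'))
    · rw [hy, Function.surjInv_eq hsurj]
    · exact S.ψ_brk ψ hsurj h u' v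
  have h4 : y * ⁅y', la⁆ * y⁻¹ = ⁅y', la⁆ :=
    (commutatorElement_eq_one_iff_commute.mp h3).mul_inv_cancel
  rw [h1, h2, h4]
  rfl

include hc in
theorem brk_zero_right {a b q : ℕ} {N : ℤ} (h : singleB D a b q N = true) (hCL : S.CL ψ a q) (u : K) :
    S.brk ψ hsurj a b u 0 = 1 := by
  have := S.brk_add_right ψ hsurj hc h hCL u 0 0
  rw [add_zero] at this
  exact mul_eq_left.mp this.symm

include hc in
theorem brk_zero_left {a b q : ℕ} {N : ℤ} (h : singleB D a b q N = true) (hCL : S.CL ψ b q) (v : K) :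
    S.brk ψ hsurj a b 0 v = 1 := by
  have := S.brk_add_left ψ hsurj hc h hCL 0 0 v
  rw [add_zero] at this
  exact mul_eq_left.mp this.symm

include hc in
theorem brk_neg_right {a b q : ℕ} {N : ℤ} (h : singleB D a b q N = true) (hCL : S.CL ψ a q) (u v : K) :
    S.brk ψ hsurj a b u (-v) = (S.brk ψ hsurj a b u v)⁻¹ := by
  have := S.brk_add_right ψ hsurj hc h hCL u v (-v)
  rw [add_neg_cancel, S.brk_zero_right ψ hsurj hc h hCL] at this
  exact (inv_eq_of_mul_eq_one_right this.symm).symm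

include hc in
theorem brk_neg_left {a b q : ℕ} {N : ℤ} (h : singleB D a b q N = true) (hCL : S.CL ψ b q) (u v : K) :
    S.brk ψ hsurj a b (-u) v = (S.brk ψ hsurj a b u v)⁻¹ := by
  have := S.brk_add_left ψ hsurj hc h hCL (-u) u v
  rw [neg_add_cancel, S.brk_zero_left ψ hsurj hc h hCL] at this
  exact eq_inv_of_mul_eq_one_right this.symm

include hc in
theorem brk_neg_neg {a b q : ℕ} {N : ℤ} (h : singleB D a b q N = true) (hCLa : S.CL ψ a q)
    (hCLb : S.CL ψ b q) (u v : K) : S.brk ψ hsurj a b (-u) (-v) = S.brk ψ hsurj a b u v := by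
  rw [S.brk_neg_left ψ hsurj hc h hCLb, S.brk_neg_right ψ hsurj hc h hCLa, inv_inv]

/-- the lift of `x̄_q(t)` defined as a bracket of lifts of root elements of `b`, `a` -/
noncomputable def xtC (a b : ℕ) (N : ℤ) (t : K) : E := S.brk ψ hsurj a b (-1) (t / (N : K))

theorem ψ_xtC {a b q : ℕ} {N : ℤ} (h : singleB D a b q N = true) (hN : (N : K) ≠ 0) (t : K) :
    ψ (S.xtC ψ hsurj a b N t) = S.x q t := by
  unfold xtC
  rw [S.ψ_brk ψ hsurj h]
  congr 1
  field_simp

include hc in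
theorem xtC_add {a b q : ℕ} {N : ℤ} (h : singleB D a b q N = true) (hCL : S.CL ψ a q) (t u : K) :
    S.xtC ψ hsurj a b N t * S.xtC ψ hsurj a b N u = S.xtC ψ hsurj a b N (t + u) := by
  unfold xtC
  rw [add_div, S.brk_add_right ψ hsurj hc h hCL]

include hc in
/-- the lifts defined by brackets are equivariant under the lifts of the torus elements acting by signs -/
theorem xtC_conj {a b q : ℕ} {N : ℤ} (h : singleB D a b q N = true) (hCLa : S.CL ψ a q)
    (hCLb : S.CL ψ b q) {h₀ : Γ} {χ : ℕ → K} (hh : S.IsTor h₀ χ) (hχ : χ b = 1 ∨ χ b = -1) (e : E)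
    (he : ψ e = h₀) (t : K) :
    e * S.xtC ψ hsurj a b N t * e⁻¹ = S.xtC ψ hsurj a b N (χ q * t) := by
  obtain ⟨ha, hb, hba, hbn, hterms⟩ := singleB_spec h
  have hmult : χ q = χ a * χ b := by
    have := hh.mult a b ha hb (q, N, 1, 1) (by rw [hterms]; exact List.mem_cons_self)
    simpa using this
  have h1 : e * S.xtC ψ hsurj a b N t * e⁻¹ = S.brk ψ hsurj a b (χ b * -1) (χ a * (t / (N : K))) := by
    unfold xtC
    conv_lhs => unfold brk
    rw [conj_comm]
    apply S.brk_eq ψ hsurj hc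
    · rw [map_mul, map_mul, map_inv, he, Function.surjInv_eq hsurj, hh.conj b hb]
    · rw [map_mul, map_mul, map_inv, he, Function.surjInv_eq hsurj, hh.conj a ha]
  rw [h1]
  unfold xtC
  rcases hχ with hb1 | hb1
  · rw [hmult, hb1, one_mul, mul_one, mul_div_assoc]
  · rw [hmult, hb1, ← S.brk_neg_neg ψ hsurj hc h hCLa hCLb]
    congr 1
    · ring
    · ring

include hc in
/-- the defect of the relation (R2) of the pair `(a, b)` dies when the lifts of the root elements of the sum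
are defined by the brackets, over the field with three elements -/
theorem kill_of_xtC {a b q : ℕ} {N : ℤ} (h : singleB D a b q N = true) (hN : (N : K) ≠ 0)
    (hCLa : S.CL ψ a q) (hCLb : S.CL ψ b q) (hK3 : ∀ u : K, u = 0 ∨ u = 1 ∨ u = -1)
    (X : ℕ → K → E) (hψX : ∀ q, q < D.nroots → ∀ t, ψ (X q t) = S.x q t)
    (hXq : ∀ t, X q t = S.xtC ψ hsurj a b N t) : Kill ψ X D a b := by
  obtain ⟨ha, hb, hba, hbn, hterms⟩ := singleB_spec h
  intro u F _ _ hrel t
  have hw : wordG X (D.commWord K a b t u) = S.brk ψ hsurj a b (-1) (-(t * u)) := by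
    unfold ChevalleyDatum.commWord
    rw [hterms]
    simp only [List.map_cons, List.map_nil, wordG, List.prod_cons, List.prod_nil, mul_one, pow_one]
    rw [hXq]
    unfold xtC
    congr 1
    field_simp
  have hbr : ⁅(X b u)⁻¹, (X a t)⁻¹⁆ = S.brk ψ hsurj a b (-u) (-t) := by
    apply S.brk_eq ψ hsurj hc
    · rw [map_inv, hψX b hb, S.x_inv b hb]
    · rw [map_inv, hψX a ha, S.x_inv a ha]
  have hrel' : ⁅(X b u)⁻¹, (X a t)⁻¹⁆ = wordG X (D.commWord K a b t u) * F t := by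
    rw [commutatorElement_def, inv_inv, inv_inv]
    calc (X b u)⁻¹ * (X a t)⁻¹ * X b u * X a t = (X b u)⁻¹ * (X a t)⁻¹ * (X b u * X a t) := by group
      _ = _ := by rw [hrel t]; group
  rw [hbr, hw] at hrel'
  rcases hK3 u with rfl | rfl | rfl
  · rw [neg_zero, mul_zero, neg_zero, S.brk_zero_left ψ hsurj hc h hCLb,
      S.brk_zero_right ψ hsurj hc h hCLa, one_mul] at hrel'
    exact hrel'.symm
  · rw [mul_one] at hrel'
    exact (mul_eq_left.mp hrel'.symm)
  · rw [neg_neg, mul_neg, mul_one, neg_neg] at hrel'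
    have h2 := S.brk_neg_neg ψ hsurj hc h hCLa hCLb 1 (-t)
    rw [neg_neg] at h2
    rw [← h2] at hrel'
    exact (mul_eq_left.mp hrel'.symm)

include hsurj hc in
/-- lifts of commuting root elements commute, if the first is a commutator of an element `m` with root elements
commuting with the second, and the second moves `m` by an element whose lifts commute with those root
elements -/
theorem comm_lifts_of_dec' (r s a : ℕ) (m : Γ) (c : K) (hc0 : c ≠ 0)
    (hbr : ∀ w : K, ⁅m, S.x a w⁆ = S.x r (c * w))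
    (hsa : ∀ u w : K, S.x s u * S.x a w = S.x a w * S.x s u)
    (hsm : ∀ u : K, ∃ A₀ : Γ, S.x s u * m * (S.x s u)⁻¹ = m * A₀ ∧
      ∀ (Â la : E) (w : K), ψ Â = A₀ → ψ la = S.x a w → ⁅Â, la⁆ = 1) : S.CL ψ r s := by
  intro t u e₁ e₂ h1 h2
  obtain ⟨lm, hlm⟩ := hsurj m
  obtain ⟨la, hla⟩ := hsurj (S.x a (t / c))
  obtain ⟨A₀, hA, hcomm⟩ := hsm u
  obtain ⟨Â, hÂ⟩ := hsurj A₀
  have e1 : ⁅e₁, e₂⁆ = ⁅⁅lm, la⁆, e₂⁆ := by
    apply comm_eq_of_map_eq ψ hc _ rfl
    rw [h1, map_commutatorElement, hlm, hla, hbr, mul_div_cancel₀ _ hc0]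
  rw [e1]
  have hconj : e₂ * ⁅lm, la⁆ * e₂⁻¹ = ⁅lm, la⁆ := by
    have e2 : e₂ * ⁅lm, la⁆ * e₂⁻¹ = ⁅lm * Â, la⁆ := by
      rw [conj_comm]
      apply comm_eq_of_map_eq ψ hc
      · rw [map_mul, map_mul, map_inv, h2, hlm, hA, map_mul, hlm, hÂ]
      · rw [map_mul, map_mul, map_inv, h2, hla, hsa, mul_inv_cancel_right]
    have e3 : ⁅lm * Â, la⁆ = (lm * ⁅Â, la⁆ * lm⁻¹) * ⁅lm, la⁆ := by
      simp only [commutatorElement_def]; group
    rw [e2, e3, hcomm Â la _ hÂ hla, mul_one, mul_inv_cancel, one_mul]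
  have hC : Commute e₂ ⁅lm, la⁆ := by
    show e₂ * ⁅lm, la⁆ = ⁅lm, la⁆ * e₂
    rw [← mul_inv_eq_iff_eq_mul]
    exact hconj
  exact commutatorElement_eq_one_iff_commute.mpr hC.symm

include hsurj hc in
/-- an element which is a product of two elements, all of whose lifts commute with a given element, has lifts
commuting with it -/
theorem comm_of_prod_lifts {g₁ g₂ : Γ} (la : E)
    (h1 : ∀ l : E, ψ l = g₁ → ⁅l, la⁆ = 1) (h2 : ∀ l : E, ψ l = g₂ → ⁅l, la⁆ = 1) (Â : E)
    (hÂ : ψ Â = g₁ * g₂) : ⁅Â, la⁆ = 1 := by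
  obtain ⟨l₁, hl₁⟩ := hsurj g₁
  obtain ⟨l₂, hl₂⟩ := hsurj g₂
  have e : ⁅Â, la⁆ = ⁅l₁ * l₂, la⁆ := comm_eq_of_map_eq ψ hc (by rw [hÂ, map_mul, hl₁, hl₂]) rfl
  have e3 : ⁅l₁ * l₂, la⁆ = (l₁ * ⁅l₂, la⁆ * l₁⁻¹) * ⁅l₁, la⁆ := by
    simp only [commutatorElement_def]; group
  rw [e, e3, h1 l₁ hl₁, h2 l₂ hl₂, mul_one, mul_one, mul_inv_cancel]

end Ext

end StData

end

end Cfsg.Agent.Lib.Helper11.StPres
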