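import Cfsg.Agent.Lib.Helper11.StPresW14

/-! Steinberg's presentation, part W15 (helper11): table facts for the field with three elements when some roots
are fixed by the whole torus (type B₂): lifts of mixed type. -/

set_option autoImplicit false
set_option linter.unusedSectionVars false

namespace Cfsg.Agent.Lib.Helper11.StPres

open scoped commutatorElement
open Cfsg Cfsg.Lie Matrix
open Cfsg.Agent.Lib.Helper7

/-- the root `q` has a lift of bracket type (`cw q = some (a, b, N)`) or of torus type -/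
def cwOK (D : ChevalleyDatum) (g : ℕ → ℕ) (cw : ℕ → Option (ℕ × ℕ × ℤ)) (q : ℕ) : Bool :=
  match cw q with
  | some (a, b, N) => singleB D a b q N && ((N == 2) || (N == -2)) && nilB D a q && nilB D b q &&
      (torB D 2 a q || torB D 2 q a) && (torB D 2 b q || torB D 2 q b)
  | none => decide (g q < D.nroots) && decide (carR D (g q) q % 2 = 1)

theorem cwOK_some {D : ChevalleyDatum} {g : ℕ → ℕ} {cw : ℕ → Option (ℕ × ℕ × ℤ)} {q a b : ℕ} {N : ℤ}
    (h : cwOK D g cw q = true) (hcw : cw q = some (a, b, N)) :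
    singleB D a b q N = true ∧ (N = 2 ∨ N = -2) ∧ nilB D a q = true ∧ nilB D b q = true ∧
      (torB D 2 a q = true ∨ torB D 2 q a = true) ∧ (torB D 2 b q = true ∨ torB D 2 q b = true) := by
  unfold cwOK at h
  rw [hcw] at h
  simp only [Bool.and_eq_true, Bool.or_eq_true, beq_iff_eq] at h
  obtain ⟨⟨⟨⟨⟨h1, h2⟩, h3⟩, h4⟩, h5⟩, h6⟩ := h
  exact ⟨h1, h2, h3, h4, h5, h6⟩

theorem cwOK_none {D : ChevalleyDatum} {g : ℕ → ℕ} {cw : ℕ → Option (ℕ × ℕ × ℤ)} {q : ℕ}
    (h : cwOK D g cw q = true) (hcw : cw q = none) : g q < D.nroots ∧ carR D (g q) q % 2 = 1 := by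
  unfold cwOK at h
  rw [hcw] at h
  simp only [Bool.and_eq_true, decide_eq_true_eq] at h
  exact h

/-- the commutator formula of `(s, r)` has the roots and the length of that of `(r, s)` -/
def symB (D : ChevalleyDatum) (r s : ℕ) : Bool :=
  ((D.commTerms s r).length == (D.commTerms r s).length) &&
    (D.commTerms s r).all fun c => ((D.commTerms r s).map (·.1)).contains c.1

theorem symB_spec {D : ChevalleyDatum} {r s : ℕ} (h : symB D r s = true) :
    (D.commTerms s r).length = (D.commTerms r s).length ∧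
      ∀ c ∈ D.commTerms s r, c.1 ∈ (D.commTerms r s).map (·.1) := by
  unfold symB at h
  rw [Bool.and_eq_true, beq_iff_eq, List.all_eq_true] at h
  refine ⟨h.1, fun c hc => ?_⟩
  have := h.2 c hc
  rwa [List.contains_iff_mem] at this

/-- `(r, s)` is the pair defining the bracket lift of a root -/
def isWitB (D : ChevalleyDatum) (cw : ℕ → Option (ℕ × ℕ × ℤ)) (r s : ℕ) : Bool :=
  (List.range D.nroots).any fun q =>
    match cw q with
    | some (a, b, _) => (a == r) && (b == s)
    | none => false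

theorem isWitB_spec {D : ChevalleyDatum} {cw : ℕ → Option (ℕ × ℕ × ℤ)} {r s : ℕ}
    (h : isWitB D cw r s = true) : ∃ q N, q < D.nroots ∧ cw q = some (r, s, N) := by
  unfold isWitB at h
  rw [List.any_eq_true] at h
  obtain ⟨q, hq, h1⟩ := h
  split at h1
  · next a b N hcw =>
    rw [Bool.and_eq_true, beq_iff_eq, beq_iff_eq] at h1
    exact ⟨q, N, List.mem_range.mp hq, by rw [hcw, h1.1, h1.2]⟩
  · exact absurd h1 (by simp)

/-- data for the commutation of the lifts of the root elements of two orthogonal long roots `P`, `Q` -/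
def orthOK (D : ChevalleyDatum) (P Q a b : ℕ) (N c1 c2 : ℤ) : Bool :=
  singleB D a b P N && ((N == 2) || (N == -2)) && nilB D Q a && nilB D Q P && nilB D P a &&
    (torB D 2 P a || torB D 2 a P) && (Q != b) && (Q != D.neg b) && decide (Q < D.nroots) &&
    (D.commTerms b Q == [(a, c1, 1, 1), (P, c2, 2, 1)])

theorem orthOK_spec {D : ChevalleyDatum} {P Q a b : ℕ} {N c1 c2 : ℤ} (h : orthOK D P Q a b N c1 c2 = true) :
    singleB D a b P N = true ∧ (N = 2 ∨ N = -2) ∧ nilB D Q a = true ∧ nilB D Q P = true ∧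
      nilB D P a = true ∧ (torB D 2 P a = true ∨ torB D 2 a P = true) ∧ Q ≠ b ∧ Q ≠ D.neg b ∧
      Q < D.nroots ∧ D.commTerms b Q = [(a, c1, 1, 1), (P, c2, 2, 1)] := by
  unfold orthOK at h
  simp only [Bool.and_eq_true, Bool.or_eq_true, beq_iff_eq, bne_iff_ne, ne_eq, decide_eq_true_eq] at h
  obtain ⟨⟨⟨⟨⟨⟨⟨⟨⟨h1, h2⟩, h3⟩, h4⟩, h5⟩, h6⟩, h7⟩, h8⟩, h9⟩, h10⟩ := h
  exact ⟨h1, h2, h3, h4, h5, h6, h7, h8, h9, h10⟩

def orthB (D : ChevalleyDatum) (P Q : ℕ) : Bool :=
  (List.range D.nroots).any fun a => (List.range D.nroots).any fun b =>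
    [(2 : ℤ), -2].any fun N => [(1 : ℤ), -1].any fun c1 => [(1 : ℤ), -1].any fun c2 => orthOK D P Q a b N c1 c2

theorem orthB_spec {D : ChevalleyDatum} {P Q : ℕ} (h : orthB D P Q = true) :
    ∃ a b : ℕ, ∃ N c1 c2 : ℤ, orthOK D P Q a b N c1 c2 = true := by
  unfold orthB at h
  simp only [List.any_eq_true] at h
  obtain ⟨a, -, b, -, N, -, c1, -, c2, -, h1⟩ := h
  exact ⟨a, b, N, c1, c2, h1⟩

/-- the classification of the pairs of independent roots -/
def pairB (D : ChevalleyDatum) (cw : ℕ → Option (ℕ × ℕ × ℤ)) (r s : ℕ) : Bool :=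
  torB D 2 r s || (nilB D r s && (torB D 2 r s || torB D 2 s r)) || (symB D r s && torB D 2 s r) ||
    isWitB D cw r s || (symB D r s && isWitB D cw s r) || (nilB D r s && (orthB D r s || orthB D s r))

theorem pairB_spec {D : ChevalleyDatum} {cw : ℕ → Option (ℕ × ℕ × ℤ)} {r s : ℕ} (h : pairB D cw r s = true) :
    torB D 2 r s = true ∨ (nilB D r s = true ∧ (torB D 2 r s = true ∨ torB D 2 s r = true)) ∨
      (symB D r s = true ∧ torB D 2 s r = true) ∨ isWitB D cw r s = true ∨
      (symB D r s = true ∧ isWitB D cw s r = true) ∨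
      (nilB D r s = true ∧ (orthB D r s = true ∨ orthB D s r = true)) := by
  unfold pairB at h
  simp only [Bool.or_eq_true, Bool.and_eq_true] at h
  tauto

end Cfsg.Agent.Lib.Helper11.StPres
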