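import Cfsg.Agent.Lib.Helper11.StPresW15

/-! Steinberg's presentation, part W16 (helper11): the splitting theorem over the field with three elements
with lifts of mixed type; type B₂. -/

set_option autoImplicit false
set_option linter.unusedSectionVars false

namespace Cfsg.Agent.Lib.Helper11.StPres

open scoped commutatorElement
open Cfsg Cfsg.Lie Matrix
open Cfsg.Agent.Lib.Helper7

section
variable {D : ChevalleyDatum} {hD : D ∈ [chevG2, chevB2, chevD4, chevF4, chevE6, chevE7, chevE8]}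
variable {K : Type*} [Field K] {Γ : Type*} [Group Γ] (S : StData D hD K Γ)

namespace StData

section Ext
variable {E : Type*} [Group E] (ψ : E →* Γ) (hsurj : Function.Surjective ψ) (hc : ψ.ker ≤ Subgroup.center E)

include hsurj hc in
/-- the lifts of the root elements of two orthogonal long roots commute (type B₂, odd characteristic) -/
theorem cl_of_orthOK (h2 : (2 : K) ≠ 0) {P Q a b : ℕ} {N c1 c2 : ℤ} (h : orthOK D P Q a b N c1 c2 = true)
    (hCSa : S.CL ψ a a) : S.CL ψ P Q := by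
  obtain ⟨hs, hN, nQa, nQP, nPa, tPa, hQb, hQnb, hQ, hterms⟩ := orthOK_spec h
  obtain ⟨ha, hb, hba, hbn, hsingle⟩ := singleB_spec hs
  have hm1 : (-1 : K) ≠ 0 := neg_ne_zero.mpr one_ne_zero
  have hw2 : ∀ k : ℤ, (-1 : K) ^ k = 1 ↔ (2 : ℤ) ∣ k := neg_one_zpow_eq_one_iff h2
  have hCLPa : S.CL ψ P a := S.cl_of_nilB_tor ψ hsurj hc (-1) hm1 2 hw2 nPa (tPa.imp torOK_of_torB torOK_of_torB)
  have hN0 : (N : K) ≠ 0 := by
    rcases hN with rfl | rfl
    · exact_mod_cast h2
    · push_cast; exact neg_ne_zero.mpr h2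
  apply S.comm_lifts_of_dec' ψ hsurj hc P Q a (S.x b (-1)) (N : K) hN0
  · intro w
    rw [S.bracket_of_single ha hb hba hbn hsingle w (-1)]
    congr 1
    ring
  · exact fun u w => S.commute_of_nilB nQa u w
  · intro u
    have hrel := S.x_comm b Q hb hQ hQb hQnb (-1) u
    have hword : wordG S.x (D.commWord K b Q (-1) u) = S.x a ((c1 : K) * u) * S.x P ((c2 : K) * u) := by
      unfold ChevalleyDatum.commWord
      rw [hterms]
      simp only [List.map_cons, List.map_nil, wordG, List.prod_cons, List.prod_nil, mul_one, pow_one, neg_neg,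
        one_pow]
    rw [hword] at hrel
    refine ⟨S.x a ((c1 : K) * u) * S.x P ((c2 : K) * u), ?_, ?_⟩
    · have hC1 : Commute (S.x Q u) (S.x a ((c1 : K) * u)) := S.commute_of_nilB nQa u _
      have hC2 : Commute (S.x Q u) (S.x P ((c2 : K) * u)) := S.commute_of_nilB nQP u _
      have hC : Commute (S.x Q u) (S.x a ((c1 : K) * u) * S.x P ((c2 : K) * u)) := hC1.mul_right hC2
      rw [hrel, mul_assoc, mul_assoc, hC.mul_inv_cancel_assoc]
    · intro Â la w hÂ hla
      apply StData.comm_of_prod_lifts ψ hsurj hc la _ _ Â hÂ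
      · intro l hl
        exact hCSa _ w l la hl hla
      · intro l hl
        exact hCLPa _ w l la hl hla

/-- the lifts of mixed type -/
noncomputable def xtM (g : ℕ → ℕ) (cw : ℕ → Option (ℕ × ℕ × ℤ)) (q : ℕ) (t : K) : E :=
  match cw q with
  | some (a, b, N) => S.xtC ψ hsurj a b N t
  | none => S.xtG ψ hsurj g (-1) q t

theorem xtM_some (g : ℕ → ℕ) (cw : ℕ → Option (ℕ × ℕ × ℤ)) {q a b : ℕ} {N : ℤ} (hcw : cw q = some (a, b, N))
    (t : K) : S.xtM ψ hsurj g cw q t = S.xtC ψ hsurj a b N t := by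
  unfold xtM
  rw [hcw]

theorem xtM_none (g : ℕ → ℕ) (cw : ℕ → Option (ℕ × ℕ × ℤ)) {q : ℕ} (hcw : cw q = none)
    (t : K) : S.xtM ψ hsurj g cw q t = S.xtG ψ hsurj g (-1) q t := by
  unfold xtM
  rw [hcw]

end Ext

end StData

end

section Cover
variable {D : ChevalleyDatum} (hD : D ∈ [chevG2, chevB2, chevD4, chevF4, chevE6, chevE7, chevE8])
variable {K : Type*} [Field K]

include hD in
/-- the splitting theorem over the field with three elements, with lifts of mixed type -/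
theorem exists_section_mixed (hperf : commutator (D.SteinbergCover K) = ⊤) (h2 : (2 : K) ≠ 0)
    (hprime : ∀ t : K, ∃ n : ℕ, t = (n : K)) (hK3 : ∀ u : K, u = 0 ∨ u = 1 ∨ u = -1)
    (g : ℕ → ℕ) (cw : ℕ → Option (ℕ × ℕ × ℤ)) (hcw : ∀ q, q < D.nroots → cwOK D g cw q = true)
    (hpair : ∀ r s, r < D.nroots → s < D.nroots → s ≠ r → s ≠ D.neg r → pairB D cw r s = true)
    {E : Type*} [Group E] (ψ : E →* D.SteinbergCover K) (hsurj : Function.Surjective ψ)
    (hc : ψ.ker ≤ Subgroup.center E) :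
    ∃ τ : D.SteinbergCover K →* E, ψ.comp τ = MonoidHom.id _ := by
  obtain ⟨hP, -, hDec⟩ := univFacts_of_mem D hD
  set S := coverData hD (K := K) with hS
  have hm1 : (-1 : K) ≠ 0 := neg_ne_zero.mpr one_ne_zero
  have hw2 : ∀ k : ℤ, (-1 : K) ^ k = 1 ↔ (2 : ℤ) ∣ k := neg_one_zpow_eq_one_iff h2
  have hCS : ∀ q, q < D.nroots → S.CL ψ q q := fun q hq t u e₁ e₂ h1 h2' =>
    S.comm_lifts_self_of_prime ψ hsurj hc hprime q hq t u e₁ e₂ h1 h2'
  have hcl : ∀ {x y : ℕ}, nilB D x y = true → (torB D 2 x y = true ∨ torB D 2 y x = true) → S.CL ψ x y :=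
    fun n t => S.cl_of_nilB_tor ψ hsurj hc (-1) hm1 2 hw2 n (t.imp torOK_of_torB torOK_of_torB)
  have hN0 : ∀ N : ℤ, (N = 2 ∨ N = -2) → (N : K) ≠ 0 := by
    rintro N (rfl | rfl)
    · exact_mod_cast h2
    · push_cast; exact neg_ne_zero.mpr h2
  have hodd : ∀ k : ℤ, k % 2 = 1 → (-1 : K) ^ k ≠ 1 := by
    intro k hk h
    have := (hw2 k).mp h
    omega
  set X := S.xtM ψ hsurj g cw with hXdef
  have hψX : ∀ q, q < D.nroots → ∀ t, ψ (X q t) = S.x q t := by
    intro q hq t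
    rcases hcq : cw q with _ | ⟨a, b, N⟩
    · obtain ⟨h1, h3⟩ := cwOK_none (hcw q hq) hcq
      rw [hXdef, S.xtM_none ψ hsurj g cw hcq]
      exact S.ψ_xtG ψ hsurj g (-1) hm1 q hq h1 (hodd _ h3) t
    · obtain ⟨h1, hN, -⟩ := cwOK_some (hcw q hq) hcq
      rw [hXdef, S.xtM_some ψ hsurj g cw hcq]
      exact S.ψ_xtC ψ hsurj h1 (hN0 N hN) t
  have hadd : ∀ r, r < D.nroots → ∀ t u : K, X r t * X r u = X r (t + u) := by
    intro q hq t u
    rcases hcq : cw q with _ | ⟨a, b, N⟩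
    · obtain ⟨h1, h3⟩ := cwOK_none (hcw q hq) hcq
      rw [hXdef, S.xtM_none ψ hsurj g cw hcq, S.xtM_none ψ hsurj g cw hcq, S.xtM_none ψ hsurj g cw hcq]
      exact S.xtG_add ψ hsurj hc hperf g (-1) hm1 q hq h1 (hodd _ h3) (hCS q hq) t u
    · obtain ⟨h1, hN, n1, n2, t1, t2⟩ := cwOK_some (hcw q hq) hcq
      rw [hXdef, S.xtM_some ψ hsurj g cw hcq, S.xtM_some ψ hsurj g cw hcq, S.xtM_some ψ hsurj g cw hcq]
      exact S.xtC_add ψ hsurj hc h1 (hcl n1 t1) t u
  have hconj : ∀ γ, γ < D.nroots → ∀ e : E, ψ e = S.hb γ (-1) → ∀ q, q < D.nroots → ∀ t : K,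
      e * X q t * e⁻¹ = X q ((-1) ^ carR D γ q * t) := by
    intro γ hγ e he q hq t
    have hh := S.isTor_hb γ hγ (-1) hm1
    rcases hcq : cw q with _ | ⟨a, b, N⟩
    · obtain ⟨h1, h3⟩ := cwOK_none (hcw q hq) hcq
      rw [hXdef, S.xtM_none ψ hsurj g cw hcq, S.xtM_none ψ hsurj g cw hcq]
      exact S.xtG_conj ψ hsurj hc hperf g (-1) hm1 hh e he q hq h1 t
    · obtain ⟨h1, hN, n1, n2, t1, t2⟩ := cwOK_some (hcw q hq) hcq
      rw [hXdef, S.xtM_some ψ hsurj g cw hcq, S.xtM_some ψ hsurj g cw hcq]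
      refine S.xtC_conj ψ hsurj hc h1 (hcl n1 t1) (hcl n2 t2) hh ?_ e he t
      show (-1 : K) ^ carR D γ b = 1 ∨ (-1 : K) ^ carR D γ b = -1
      rcases Int.even_or_odd (carR D γ b) with hev | hod
      · exact Or.inl hev.neg_one_zpow
      · exact Or.inr hod.neg_one_zpow
  have htor : ∀ r s, r < D.nroots → s < D.nroots → torB D 2 r s = true → StData.Kill ψ X D r s := by
    intro r s hr hs h
    obtain ⟨γ, hγ, h1, h3⟩ := torOK_of_torB h
    obtain ⟨e, he⟩ := hsurj (S.hb γ (-1))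
    apply S.kill_of_tor ψ X r s hr hs (S.isTor_hb γ hγ (-1) hm1) _ _ e _ hc
    · show (-1 : K) ^ carR D γ s = 1
      exact (hw2 _).mpr (Int.dvd_of_emod_eq_zero h1)
    · show (-1 : K) ^ carR D γ r ≠ 1
      intro h
      exact h3 (Int.emod_eq_zero_of_dvd ((hw2 _).mp h))
    · intro q hq t
      exact hconj γ hγ e he q hq t
  have hkcl : ∀ r s, r < D.nroots → s < D.nroots → nilB D r s = true → S.CL ψ r s → StData.Kill ψ X D r s := by
    intro r s hr hs n hclrs
    apply StData.kill_of_comm ψ X r s (nilB_spec n).2.2.2.2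
    intro t u
    have h1 := hclrs t u (X r t) (X s u) (hψX r hr t) (hψX s hs u)
    exact (commutatorElement_eq_one_iff_commute.mp h1).eq.symm
  have hwit : ∀ r s, isWitB D cw r s = true → StData.Kill ψ X D r s := by
    intro r s h
    obtain ⟨q, N, hq, hcq⟩ := isWitB_spec h
    obtain ⟨h1, hN, n1, n2, t1, t2⟩ := cwOK_some (hcw q hq) hcq
    exact S.kill_of_xtC ψ hsurj hc h1 (hN0 N hN) (hcl n1 t1) (hcl n2 t2) hK3 X hψX
      (fun t => S.xtM_some ψ hsurj g cw hcq t)
  have hcomm : ∀ r s, r < D.nroots → s < D.nroots → s ≠ r → s ≠ D.neg r → ∀ t u : K,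
      X s u * X r t = X r t * X s u * wordG X (D.commWord K r s t u) := by
    intro r s hr hs hsr hsn t u
    refine S.comm_main ψ X hc hψX hadd hP hDec ?_ _ r s hr hs hsr hsn rfl t u
    intro r s hr hs hsr hsn
    rcases pairB_spec (hpair r s hr hs hsr hsn) with h | ⟨n, h⟩ | ⟨hsym, h⟩ | h | ⟨hsym, h⟩ | ⟨n, h⟩
    · exact Or.inl (htor r s hr hs h)
    · exact Or.inl (hkcl r s hr hs n (hcl n h))
    · obtain ⟨hl, hmem⟩ := symB_spec hsym
      exact Or.inr ⟨hl, hmem, htor s r hs hr h⟩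
    · exact Or.inl (hwit r s h)
    · obtain ⟨hl, hmem⟩ := symB_spec hsym
      exact Or.inr ⟨hl, hmem, hwit s r h⟩
    · left
      apply hkcl r s hr hs n
      rcases h with h | h
      · obtain ⟨a, b, N, c1, c2, h1⟩ := orthB_spec h
        have ha : a < D.nroots := (singleB_spec (orthOK_spec h1).1).1
        exact S.cl_of_orthOK ψ hsurj hc h2 h1 (hCS a ha)
      · obtain ⟨a, b, N, c1, c2, h1⟩ := orthB_spec h
        have ha : a < D.nroots := (singleB_spec (orthOK_spec h1).1).1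
        exact (S.cl_of_orthOK ψ hsurj hc h2 h1 (hCS a ha)).symm
  exact section_of_lifts hD ψ X hψX hadd hcomm

end Cover

end Cfsg.Agent.Lib.Helper11.StPres
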