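import Cfsg.Agent.Lib.Helper11.StPresW16

/-! Steinberg's presentation, part W17 (helper11): type B₂ over the field with three elements; the groups
presented by (R1)–(R3) of types B₂, D₄ over finite fields with more than two elements have trivial Schur
multiplier. -/

set_option autoImplicit false
set_option linter.unusedSectionVars false

namespace Cfsg.Agent.Lib.Helper11.StPres

open scoped commutatorElement
open Cfsg Cfsg.Lie Matrix
open Cfsg.Agent.Lib.Helper7

universe u

theorem zmod_three_cases : ∀ z : ZMod 3, z = 0 ∨ z = 1 ∨ z = -1 := by decide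

theorem field_three_cases {K : Type*} [Field K] [Fintype K] (h : Fintype.card K = 3) (u : K) :
    u = 0 ∨ u = 1 ∨ u = -1 := by
  have : Fact (Nat.Prime 3) := ⟨by norm_num⟩
  let e : ZMod 3 ≃+* K := ZMod.ringEquivOfPrime K (by norm_num) h
  have hu : u = e (e.symm u) := (e.apply_symm_apply u).symm
  rcases zmod_three_cases (e.symm u) with h0 | h1 | h2
  · left; rw [hu, h0, map_zero]
  · right; left; rw [hu, h1, map_one]
  · right; right; rw [hu, h2, map_neg, map_one]

/-- the bracket lifts of the long roots of B₂ -/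
def cwB2 : ℕ → Option (ℕ × ℕ × ℤ)
  | 0 => some (1, 2, 2)
  | 3 => some (1, 5, -2)
  | 4 => some (2, 6, -2)
  | 7 => some (5, 6, 2)
  | _ => none

set_option maxRecDepth 100000 in
theorem cwOK_B2 : ∀ q, q < chevB2.nroots → cwOK chevB2 (fun _ => 0) cwB2 q = true :=
  forall_lt_of_all (n := 8) (by decide +kernel)

set_option maxRecDepth 100000 in
theorem pairB_B2 : ∀ r s, r < chevB2.nroots → s < chevB2.nroots → s ≠ r → s ≠ chevB2.neg r →
    pairB chevB2 cwB2 r s = true := by
  have h : ∀ r, r < 8 → ∀ s, s < 8 → (s == r || s == chevB2.neg r || pairB chevB2 cwB2 r s) = true := by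
    decide +kernel
  intro r s hr hs hsr hsn
  have h1 := h r hr s hs
  simp only [Bool.or_eq_true, beq_iff_eq] at h1
  rcases h1 with (h1 | h1) | h1
  · exact absurd h1 hsr
  · exact absurd h1 hsn
  · exact h1

section B2
variable {K : Type u} [Field K] [Fintype K]

theorem exists_section_B2 (hK : 3 ≤ Fintype.card K) {E : Type*} [Group E] (ψ : E →* chevB2.SteinbergCover K)
    (hsurj : Function.Surjective ψ) (hc : ψ.ker ≤ Subgroup.center E) :
    ∃ τ : chevB2.SteinbergCover K →* E, ψ.comp τ = MonoidHom.id _ := by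
  by_cases h4 : 4 ≤ Fintype.card K
  · exact exists_section_B2_four h4 ψ hsurj hc
  have h3 : Fintype.card K = 3 := by omega
  obtain ⟨w, hw0, hw1⟩ := exists_ne_zero_one hK
  have hperf : commutator (chevB2.SteinbergCover K) = ⊤ :=
    stCover_perfect chevB2 mem_seven_B2 K (fun _ => ⟨w, hw0, hw1⟩)
  obtain ⟨h2, hprime⟩ := field_three h3
  exact exists_section_mixed mem_seven_B2 hperf h2 hprime (field_three_cases h3) (fun _ => 0) cwB2 cwOK_B2
    pairB_B2 ψ hsurj hc

end B2

end Cfsg.Agent.Lib.Helper11.StPres
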