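import Cfsg.Agent.Lib.Helper11.StPresW17
import Cfsg.Agent.Lib.Lead.CentClTabE6
import Cfsg.Agent.Lib.Lead.CentClTabE7

/-! Steinberg's presentation, part W18 (helper11): the groups presented by (R1)–(R3) of types E₆, E₇, and of
types B₂, D₄ over fields with more than two elements, over finite fields, have trivial Schur multiplier. -/

set_option autoImplicit false
set_option linter.unusedSectionVars false

namespace Cfsg.Agent.Lib.Helper11.StPres

open Cfsg Cfsg.Lie
open Cfsg.Agent.Lib.Helper7

universe u

section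
variable {K : Type u} [Field K] [Fintype K]

theorem three_le_card_of_ne_two (h : Fintype.card K ≠ 2) : 3 ≤ Fintype.card K := by
  have := Fintype.one_lt_card (α := K)
  omega

theorem not_mem_of_rank {D : ChevalleyDatum} (h : D.rank ≠ 2) : ¬ D ∈ [chevB2, chevG2] := by
  intro hm
  simp only [List.mem_cons, List.not_mem_nil, or_false] at hm
  rcases hm with rfl | rfl
  · exact h (by decide)
  · exact h (by decide)

theorem steinberg_multiplier_B2 (h : Fintype.card K ≠ 2) :
    Cfsg.HasCyclicSchurMultiplier (chevB2.SteinbergGroup K) 1 := by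
  have h3 := three_le_card_of_ne_two h
  obtain ⟨w, hw0, hw1⟩ := exists_ne_zero_one h3
  exact steinbergGroup_multiplier_of_sections mem_seven_B2 (fun _ => ⟨w, hw0, hw1⟩)
    (fun ψ hs hc => exists_section_B2 h3 ψ hs hc)

theorem steinberg_multiplier_D4 (h : Fintype.card K ≠ 2) :
    Cfsg.HasCyclicSchurMultiplier (chevD4.SteinbergGroup K) 1 := by
  have h3 := three_le_card_of_ne_two h
  obtain ⟨w, hw0, hw1⟩ := exists_ne_zero_one h3
  exact steinbergGroup_multiplier_of_sections mem_seven_D4 (fun _ => ⟨w, hw0, hw1⟩)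
    (fun ψ hs hc => exists_section_D4 h3 ψ hs hc)

theorem steinberg_multiplier_E6 : Cfsg.HasCyclicSchurMultiplier (chevE6.SteinbergGroup K) 1 :=
  Cfsg.Agent.Lib.Lead.CentCl.steinbergGroup_trivial_multiplier Cfsg.Agent.Lib.Lead.CentCl.mem_E6
    Cfsg.Agent.Lib.Lead.CentCl.slE6_compat
    (fun hm => absurd hm (not_mem_of_rank (by decide)))
    ((stData Cfsg.Agent.Lib.Lead.CentCl.mem_E6 (K := K)).finite_ker _ (stData_R3 _))

theorem steinberg_multiplier_E7 : Cfsg.HasCyclicSchurMultiplier (chevE7.SteinbergGroup K) 1 :=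
  Cfsg.Agent.Lib.Lead.CentCl.steinbergGroup_trivial_multiplier Cfsg.Agent.Lib.Lead.CentCl.mem_E7
    Cfsg.Agent.Lib.Lead.CentCl.slE7_compat
    (fun hm => absurd hm (not_mem_of_rank (by decide)))
    ((stData Cfsg.Agent.Lib.Lead.CentCl.mem_E7 (K := K)).finite_ker _ (stData_R3 _))

/-- **the Steinberg groups of types E₆, E₇, and of types B₂, D₄ over fields with more than two elements, over
finite fields, have trivial Schur multiplier** -/
theorem steinberg_multiplier_four (e : ChevalleyDatum × ℕ)
    (he : e ∈ [(chevE6, 0), (chevE7, 0), (chevB2, 2), (chevD4, 2)]) (hK : Fintype.card K ≠ e.2) :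
    Cfsg.HasCyclicSchurMultiplier (e.1.SteinbergGroup K) 1 := by
  simp only [List.mem_cons, List.not_mem_nil, or_false] at he
  rcases he with rfl | rfl | rfl | rfl
  · exact steinberg_multiplier_E6
  · exact steinberg_multiplier_E7
  · exact steinberg_multiplier_B2 hK
  · exact steinberg_multiplier_D4 hK

end

end Cfsg.Agent.Lib.Helper11.StPres
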