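import Cfsg.Agent.Lib.Helper11.StPresW1

/-! Steinberg's presentation, part W2 (helper11): table facts for small fields: pairs of roots separated by a
torus element of order `m`, decompositions of roots, types B₂, D₄, F₄. -/

set_option autoImplicit false

namespace Cfsg.Agent.Lib.Helper11.StPres

open Cfsg Cfsg.Lie
open Cfsg.Agent.Lib.Helper7

/-- a torus element `h_γ(w)`, `w` of order `m`, centralises the root elements of `s` and moves those of `r` -/
def TorOK (D : ChevalleyDatum) (m : ℤ) (r s : ℕ) : Prop :=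
  ∃ γ, γ < D.nroots ∧ carR D γ s % m = 0 ∧ carR D γ r % m ≠ 0

def torB (D : ChevalleyDatum) (m : ℤ) (r s : ℕ) : Bool :=
  (List.range D.nroots).any fun γ => decide (carR D γ s % m = 0) && decide (carR D γ r % m ≠ 0)

theorem torOK_of_torB {D : ChevalleyDatum} {m : ℤ} {r s : ℕ} (h : torB D m r s = true) : TorOK D m r s := by
  unfold torB at h
  rw [List.any_eq_true] at h
  obtain ⟨γ, hγ, h1⟩ := h
  rw [Bool.and_eq_true, decide_eq_true_eq, decide_eq_true_eq] at h1
  exact ⟨γ, List.mem_range.mp hγ, h1.1, h1.2⟩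

/-- the root `r` is the single term, with coefficient `N`, of the commutator of the roots `a`, `b`, and the root
elements of `a`, `b` commute with those of `s` -/
def decOK (D : ChevalleyDatum) (r s a b : ℕ) (N : ℤ) : Bool :=
  cOK D r a b N && (s != a) && (s != D.neg a) && (s != b) && (s != D.neg b) &&
    (D.commTerms a s == []) && (D.commTerms b s == [])

theorem decOK_spec {D : ChevalleyDatum} {r s a b : ℕ} {N : ℤ} (h : decOK D r s a b N = true) :
    cOK D r a b N = true ∧ s ≠ a ∧ s ≠ D.neg a ∧ s ≠ b ∧ s ≠ D.neg b ∧ D.commTerms a s = [] ∧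
      D.commTerms b s = [] := by
  unfold decOK at h
  simp only [Bool.and_eq_true, bne_iff_ne, ne_eq, beq_iff_eq] at h
  obtain ⟨⟨⟨⟨⟨⟨h1, h2⟩, h3⟩, h4⟩, h5⟩, h6⟩, h7⟩ := h
  exact ⟨h1, h2, h3, h4, h5, h6, h7⟩

/-- decomposition of `r` commuting with `s`; the coefficient is `±1`, or also `±2` if `two` is set -/
def DecOK (D : ChevalleyDatum) (two : Bool) (r s : ℕ) : Prop :=
  ∃ a b : ℕ, ∃ N : ℤ, decOK D r s a b N = true ∧ (N = 1 ∨ N = -1 ∨ (two = true ∧ (N = 2 ∨ N = -2)))

def decB (D : ChevalleyDatum) (two : Bool) (wit : List (ℕ × ℕ × ℕ × ℕ)) (r s : ℕ) : Bool :=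
  wit.any fun p => (p.1 == r) && (p.2.1 == s) &&
    (decOK D r s p.2.2.1 p.2.2.2 1 || decOK D r s p.2.2.1 p.2.2.2 (-1) ||
      (two && (decOK D r s p.2.2.1 p.2.2.2 2 || decOK D r s p.2.2.1 p.2.2.2 (-2))))

theorem decOK_of_decB {D : ChevalleyDatum} {two : Bool} {wit : List (ℕ × ℕ × ℕ × ℕ)} {r s : ℕ}
    (h : decB D two wit r s = true) : DecOK D two r s := by
  unfold decB at h
  rw [List.any_eq_true] at h
  obtain ⟨p, -, h1⟩ := h
  simp only [Bool.and_eq_true, Bool.or_eq_true] at h1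
  obtain ⟨-, h2⟩ := h1
  rcases h2 with (h2 | h2) | ⟨ht, h2 | h2⟩
  · exact ⟨_, _, 1, h2, Or.inl rfl⟩
  · exact ⟨_, _, -1, h2, Or.inr (Or.inl rfl)⟩
  · exact ⟨_, _, 2, h2, Or.inr (Or.inr ⟨ht, Or.inl rfl⟩)⟩
  · exact ⟨_, _, -2, h2, Or.inr (Or.inr ⟨ht, Or.inr rfl⟩)⟩

/-- table facts: every pair of independent roots is separated by a torus element of order `m`, or the roots
commute and the first is decomposed into roots commuting with the second -/
def MechFacts (D : ChevalleyDatum) (m : ℤ) (two : Bool) : Prop :=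
  ∀ r s, r < D.nroots → s < D.nroots → s ≠ r → s ≠ D.neg r →
    TorOK D m r s ∨ (D.commTerms r s = [] ∧ DecOK D two r s)

def mechRow (D : ChevalleyDatum) (m : ℤ) (two : Bool) (wit : List (ℕ × ℕ × ℕ × ℕ)) (r : ℕ) : Bool :=
  (List.range D.nroots).all fun s => (s == r) || (s == D.neg r) || torB D m r s ||
    ((D.commTerms r s == []) && decB D two wit r s)

theorem mechFacts_of_rows {D : ChevalleyDatum} {m : ℤ} {two : Bool} (wit : List (ℕ × ℕ × ℕ × ℕ))
    (h : ∀ r, r < D.nroots → mechRow D m two wit r = true) : MechFacts D m two := by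
  intro r s hr hs hsr hsn
  have h1 := h r hr
  unfold mechRow at h1
  rw [List.all_eq_true] at h1
  have h2 := h1 s (List.mem_range.mpr hs)
  simp only [Bool.or_eq_true, Bool.and_eq_true, beq_iff_eq] at h2
  rcases h2 with ((h2 | h2) | h2) | ⟨h2, h3⟩
  · exact absurd h2 hsr
  · exact absurd h2 hsn
  · exact Or.inl (torOK_of_torB h2)
  · exact Or.inr ⟨h2, decOK_of_decB h3⟩

/-- table facts: every root is moved by a torus element of order `m` -/
def XFacts (D : ChevalleyDatum) (m : ℤ) : Prop :=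
  ∀ q, q < D.nroots → ∃ γ, γ < D.nroots ∧ carR D γ q % m ≠ 0

def xRowB (D : ChevalleyDatum) (m : ℤ) (q : ℕ) : Bool :=
  (List.range D.nroots).any fun γ => decide (carR D γ q % m ≠ 0)

theorem xFacts_of_rows {D : ChevalleyDatum} {m : ℤ} (h : ∀ q, q < D.nroots → xRowB D m q = true) :
    XFacts D m := by
  intro q hq
  have h1 := h q hq
  unfold xRowB at h1
  rw [List.any_eq_true] at h1
  obtain ⟨γ, hγ, h2⟩ := h1
  rw [decide_eq_true_eq] at h2
  exact ⟨γ, List.mem_range.mp hγ, h2⟩

/-- table facts: every root is a single commutator, with coefficient `±1`, of roots commuting with it -/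
def SelfDecFacts (D : ChevalleyDatum) : Prop :=
  ∀ q, q < D.nroots → DecOK D false q q

def selfDecRow (D : ChevalleyDatum) (w : List (ℕ × ℕ)) (q : ℕ) : Bool :=
  decOK D q q (w.getD q (0, 0)).1 (w.getD q (0, 0)).2 1 || decOK D q q (w.getD q (0, 0)).1 (w.getD q (0, 0)).2 (-1)

theorem selfDecFacts_of_rows {D : ChevalleyDatum} (w : List (ℕ × ℕ))
    (h : ∀ q, q < D.nroots → selfDecRow D w q = true) : SelfDecFacts D := by
  intro q hq
  have h1 := h q hq
  unfold selfDecRow at h1
  rw [Bool.or_eq_true] at h1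
  rcases h1 with h1 | h1
  · exact ⟨_, _, 1, h1, Or.inl rfl⟩
  · exact ⟨_, _, -1, h1, Or.inr (Or.inl rfl)⟩

theorem forall_lt_of_all {n : ℕ} {f : ℕ → Bool} (h : (List.range n).all f = true) :
    ∀ q, q < n → f q = true := by
  intro q hq
  rw [List.all_eq_true] at h
  exact h q (List.mem_range.mpr hq)

end Cfsg.Agent.Lib.Helper11.StPres
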