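import Cfsg.Agent.Lib.Helper11.StPresW2

/-! Steinberg's presentation, part W3F4 (helper11): the table facts for type F₄ over the fields with three and
four elements. -/

set_option autoImplicit false

namespace Cfsg.Agent.Lib.Helper11.StPres

open Cfsg Cfsg.Lie
open Cfsg.Agent.Lib.Helper7

/-- decompositions of the long roots of F₄ into short roots commuting with an orthogonal long root -/
def witF4 : List (ℕ × ℕ × ℕ × ℕ) :=
  [(0, 6, 7, 11), (0, 17, 3, 18), (0, 22, 3, 18), (0, 25, 3, 18), (0, 30, 3, 18), (0, 41, 7, 11),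
    (1, 5, 7, 12), (1, 16, 3, 19), (1, 21, 3, 19), (1, 26, 3, 19), (1, 31, 3, 19), (1, 42, 7, 12),
    (2, 4, 7, 13), (2, 15, 3, 20), (2, 23, 3, 20), (2, 24, 3, 20), (2, 32, 3, 20), (2, 43, 7, 13),
    (4, 2, 8, 14), (4, 15, 3, 27), (4, 23, 3, 27), (4, 24, 3, 27), (4, 32, 3, 27), (4, 45, 8, 14),
    (5, 1, 9, 14), (5, 16, 3, 28), (5, 21, 3, 28), (5, 26, 3, 28), (5, 31, 3, 28), (5, 46, 9, 14),
    (6, 0, 10, 14), (6, 17, 3, 29), (6, 22, 3, 29), (6, 25, 3, 29), (6, 30, 3, 29), (6, 47, 10, 14),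
    (15, 2, 8, 33), (15, 4, 7, 34), (15, 23, 7, 34), (15, 24, 7, 34), (15, 43, 7, 34), (15, 45, 8, 33),
    (16, 1, 9, 33), (16, 5, 7, 35), (16, 21, 7, 35), (16, 26, 7, 35), (16, 42, 7, 35), (16, 46, 9, 33),
    (17, 0, 10, 33), (17, 6, 7, 36), (17, 22, 7, 36), (17, 25, 7, 36), (17, 41, 7, 36), (17, 47, 10, 33),
    (21, 1, 11, 34), (21, 5, 8, 37), (21, 16, 8, 37), (21, 31, 8, 37), (21, 42, 8, 37), (21, 46, 11, 34),
    (22, 0, 12, 34), (22, 6, 8, 38), (22, 17, 8, 38), (22, 30, 8, 38), (22, 41, 8, 38), (22, 47, 12, 34),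
    (23, 2, 11, 35), (23, 4, 9, 37), (23, 15, 9, 37), (23, 32, 9, 37), (23, 43, 9, 37), (23, 45, 11, 35),
    (24, 2, 12, 36), (24, 4, 10, 38), (24, 15, 10, 38), (24, 32, 10, 38), (24, 43, 10, 38),
    (24, 45, 12, 36), (25, 0, 13, 35), (25, 6, 9, 39), (25, 17, 9, 39), (25, 30, 9, 39), (25, 41, 9, 39),
    (25, 47, 13, 35), (26, 1, 13, 36), (26, 5, 10, 39), (26, 16, 10, 39), (26, 31, 10, 39),
    (26, 42, 10, 39), (26, 46, 13, 36), (30, 0, 14, 37), (30, 6, 11, 40), (30, 22, 11, 40),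
    (30, 25, 11, 40), (30, 41, 11, 40), (30, 47, 14, 37), (31, 1, 14, 38), (31, 5, 12, 40),
    (31, 21, 12, 40), (31, 26, 12, 40), (31, 42, 12, 40), (31, 46, 14, 38), (32, 2, 14, 39),
    (32, 4, 13, 40), (32, 23, 13, 40), (32, 24, 13, 40), (32, 43, 13, 40), (32, 45, 14, 39),
    (41, 0, 33, 37), (41, 17, 18, 44), (41, 22, 18, 44), (41, 25, 18, 44), (41, 30, 18, 44),
    (41, 47, 33, 37), (42, 1, 33, 38), (42, 16, 19, 44), (42, 21, 19, 44), (42, 26, 19, 44),
    (42, 31, 19, 44), (42, 46, 33, 38), (43, 2, 33, 39), (43, 15, 20, 44), (43, 23, 20, 44),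
    (43, 24, 20, 44), (43, 32, 20, 44), (43, 45, 33, 39), (45, 4, 34, 40), (45, 15, 27, 44),
    (45, 23, 27, 44), (45, 24, 27, 44), (45, 32, 27, 44), (45, 43, 34, 40), (46, 5, 35, 40),
    (46, 16, 28, 44), (46, 21, 28, 44), (46, 26, 28, 44), (46, 31, 28, 44), (46, 42, 35, 40),
    (47, 6, 36, 40), (47, 17, 29, 44), (47, 22, 29, 44), (47, 25, 29, 44), (47, 30, 29, 44),
    (47, 41, 36, 40)]

set_option maxRecDepth 100000 in
theorem mechFacts_F4_two : MechFacts chevF4 2 true :=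
  mechFacts_of_rows witF4 (forall_lt_of_all (n := 48) (f := mechRow chevF4 2 true witF4) (by decide +kernel))

set_option maxRecDepth 100000 in
theorem mechFacts_F4_three : MechFacts chevF4 3 false :=
  mechFacts_of_rows [] (forall_lt_of_all (n := 48) (f := mechRow chevF4 3 false []) (by decide +kernel))

set_option maxRecDepth 100000 in
theorem xFacts_F4_two : XFacts chevF4 2 :=
  xFacts_of_rows (forall_lt_of_all (n := 48) (f := xRowB chevF4 2) (by decide +kernel))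

set_option maxRecDepth 100000 in
theorem xFacts_F4_three : XFacts chevF4 3 :=
  xFacts_of_rows (forall_lt_of_all (n := 48) (f := xRowB chevF4 3) (by decide +kernel))

set_option maxRecDepth 100000 in
theorem selfDecFacts_F4 : SelfDecFacts chevF4 :=
  selfDecFacts_of_rows [(1, 23), (0, 24), (0, 26), (7, 14), (0, 31), (0, 32), (1, 32), (3, 33), (3, 34),
    (3, 35), (3, 36), (3, 37), (3, 38), (3, 39), (3, 40), (0, 42), (0, 43), (1, 43), (7, 37), (7, 38),
    (7, 39), (0, 45), (1, 45), (0, 46), (1, 47), (2, 46), (2, 47), (8, 40), (9, 40), (10, 40), (4, 46),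
    (4, 47), (5, 47), (7, 44), (8, 44), (9, 44), (10, 44), (11, 44), (12, 44), (13, 44), (14, 44), (15, 46),
    (15, 47), (16, 47), (33, 40), (21, 47), (23, 47), (24, 46)]
    (forall_lt_of_all (n := 48) (by decide +kernel))

end Cfsg.Agent.Lib.Helper11.StPres
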