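import Cfsg.Agent.Lib.Helper11.StPresW2
import Cfsg.Agent.Lib.Helper11.StPresU6

/-! Steinberg's presentation, part W4 (helper11): central extensions of the group presented by (R1), (R2) over
a small field split, when the table facts of part W2 hold. -/

set_option autoImplicit false
set_option linter.unusedSectionVars false

namespace Cfsg.Agent.Lib.Helper11.StPres

open scoped commutatorElement
open Cfsg Cfsg.Lie Matrix
open Cfsg.Agent.Lib.Helper7

section
variable {D : ChevalleyDatum} {hD : D ∈ [chevG2, chevB2, chevD4, chevF4, chevE6, chevE7, chevE8]}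
variable {K : Type*} [Field K] {Γ : Type*} [Group Γ] (S : StData D hD K Γ)

namespace StData

theorem x_nsmul (q : ℕ) (hq : q < D.nroots) (n : ℕ) (t : K) : S.x q (n • t) = S.x q t ^ n := by
  induction n with
  | zero => rw [zero_smul, S.x_zero q hq, pow_zero]
  | succ n ih => rw [succ_nsmul, ← S.x_add q hq, ih, pow_succ]

section Ext
variable {E : Type*} [Group E] (ψ : E →* Γ) (hsurj : Function.Surjective ψ) (hc : ψ.ker ≤ Subgroup.center E)

include hsurj hc in
/-- over a prime field the lifts of the root elements of a root commute -/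
theorem comm_lifts_self_of_prime (hprime : ∀ t : K, ∃ n : ℕ, t = (n : K)) (q : ℕ) (hq : q < D.nroots)
    (t u : K) (e₁ e₂ : E) (h1 : ψ e₁ = S.x q t) (h2 : ψ e₂ = S.x q u) : ⁅e₁, e₂⁆ = 1 := by
  obtain ⟨l, hl⟩ := hsurj (S.x q 1)
  obtain ⟨n, rfl⟩ := hprime t
  obtain ⟨k, rfl⟩ := hprime u
  have e : ⁅e₁, e₂⁆ = ⁅l ^ n, l ^ k⁆ := by
    apply comm_eq_of_map_eq ψ hc
    · rw [h1, map_pow, hl, ← S.x_nsmul q hq, nsmul_eq_mul, mul_one]
    · rw [h2, map_pow, hl, ← S.x_nsmul q hq, nsmul_eq_mul, mul_one]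
  rw [e]
  exact commutatorElement_eq_one_iff_commute.mpr ((Commute.refl l).pow_pow n k)

include hsurj hc in
/-- lifts of commuting root elements commute, by a decomposition of the first root -/
theorem comm_lifts_of_decOK {two : Bool} (h2K : two = true → (2 : K) ≠ 0) {r s : ℕ} (hs : s < D.nroots)
    (hdec : DecOK D two r s) (t u : K) (e₁ e₂ : E) (h1 : ψ e₁ = S.x r t) (h2 : ψ e₂ = S.x s u) :
    ⁅e₁, e₂⁆ = 1 := by
  obtain ⟨a, b, N, hd, hN⟩ := hdec
  obtain ⟨hcok, hsa, hsan, hsb, hsbn, h0a, h0b⟩ := decOK_spec hd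
  obtain ⟨ha, hb, -, -, -, -, -, -⟩ := cOK_spec hcok
  have hN0 : (N : K) ≠ 0 := by
    rcases hN with rfl | rfl | ⟨ht, rfl | rfl⟩
    · norm_num
    · norm_num
    · exact_mod_cast h2K ht
    · push_cast; exact neg_ne_zero.mpr (h2K ht)
  apply S.comm_lifts_of_dec ψ hsurj hc r s a (S.x b (-1)) (N : K) hN0 (S.bracket_of_cOK hcok) _ _ t u e₁ e₂ h1 h2
  · intro u
    exact (S.x_commute_of_nil b s hb hs hsb hsbn h0b (-1) u).symm
  · intro u w
    exact (S.x_commute_of_nil a s ha hs hsa hsan h0a w u).symm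

end Ext

end StData

end

section Cover
variable {D : ChevalleyDatum} (hD : D ∈ [chevG2, chevB2, chevD4, chevF4, chevE6, chevE7, chevE8])
variable {K : Type*} [Field K]

include hD in
/-- every central extension of the group presented by (R1), (R2) splits, given an element `w` of order `m` of
the field for which the table facts hold, and the commutation of the lifts of the root elements of each root -/
theorem exists_section_mech (hperf : commutator (D.SteinbergCover K) = ⊤)
    (w : K) (hw0 : w ≠ 0) (m : ℤ) (hw : ∀ k : ℤ, w ^ k = 1 ↔ m ∣ k) (two : Bool)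
    (h2K : two = true → (2 : K) ≠ 0) (hM : MechFacts D m two) (hX : XFacts D m)
    {E : Type*} [Group E] (ψ : E →* D.SteinbergCover K) (hsurj : Function.Surjective ψ)
    (hc : ψ.ker ≤ Subgroup.center E)
    (hCS : ∀ q, q < D.nroots → ∀ t u : K, ∀ e₁ e₂ : E, ψ e₁ = (coverData hD (K := K)).x q t →
      ψ e₂ = (coverData hD (K := K)).x q u → ⁅e₁, e₂⁆ = 1) :
    ∃ τ : D.SteinbergCover K →* E, ψ.comp τ = MonoidHom.id _ := by
  classical
  obtain ⟨hP, -, hDec⟩ := univFacts_of_mem D hD
  set S := coverData hD (K := K) with hS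
  let g : ℕ → ℕ := fun q => if hq : q < D.nroots then Classical.choose (hX q hq) else 0
  have hg : ∀ q, q < D.nroots → g q < D.nroots ∧ w ^ carR D (g q) q ≠ 1 := by
    intro q hq
    have hgq : g q = Classical.choose (hX q hq) := by
      show (if hq : q < D.nroots then Classical.choose (hX q hq) else 0) = _
      rw [dif_pos hq]
    obtain ⟨h1, h2⟩ := Classical.choose_spec (hX q hq)
    rw [hgq]
    refine ⟨h1, fun h => h2 ?_⟩
    exact Int.emod_eq_zero_of_dvd ((hw _).mp h)
  set X := S.xtG ψ hsurj g w with hXdef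
  have hψX : ∀ q, q < D.nroots → ∀ t, ψ (X q t) = S.x q t :=
    fun q hq t => S.ψ_xtG ψ hsurj g w hw0 q hq (hg q hq).1 (hg q hq).2 t
  have hadd : ∀ r, r < D.nroots → ∀ t u : K, X r t * X r u = X r (t + u) :=
    fun q hq t u => S.xtG_add ψ hsurj hc hperf g w hw0 q hq (hg q hq).1 (hg q hq).2 (hCS q hq) t u
  have hcomm : ∀ r s, r < D.nroots → s < D.nroots → s ≠ r → s ≠ D.neg r → ∀ t u : K,
      X s u * X r t = X r t * X s u * wordG X (D.commWord K r s t u) := by
    intro r s hr hs hsr hsn t u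
    refine S.comm_main ψ X hc hψX hadd hP hDec ?_ _ r s hr hs hsr hsn rfl t u
    intro r s hr hs hsr hsn
    left
    rcases hM r s hr hs hsr hsn with ⟨γ, hγ, h1, h2⟩ | ⟨h0, hdec⟩
    · obtain ⟨e, he⟩ := hsurj (S.hb γ w)
      apply S.kill_of_tor ψ X r s hr hs (S.isTor_hb γ hγ w hw0) _ _ e _ hc
      · show w ^ carR D γ s = 1
        exact (hw _).mpr (Int.dvd_of_emod_eq_zero h1)
      · show w ^ carR D γ r ≠ 1
        intro h
        exact h2 (Int.emod_eq_zero_of_dvd ((hw _).mp h))
      · intro q hq t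
        exact S.xtG_conj ψ hsurj hc hperf g w hw0 (S.isTor_hb γ hγ w hw0) e he q hq (hg q hq).1 t
    · apply StData.kill_of_comm ψ X r s h0
      intro t u
      have h1 := S.comm_lifts_of_decOK ψ hsurj hc h2K hs hdec t u (X r t) (X s u) (hψX r hr t) (hψX s hs u)
      exact (commutatorElement_eq_one_iff_commute.mp h1).eq.symm
  exact section_of_lifts hD ψ X hψX hadd hcomm

end Cover

end Cfsg.Agent.Lib.Helper11.StPres
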