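import Cfsg.Agent.Lib.Helper11.StPresW4

/-! Steinberg's presentation, part W5 (helper11): from the splitting of the central extensions of the group
presented by (R1), (R2) to the triviality of Schur multipliers; elements of order two and three of the fields
with three and four elements. -/

set_option autoImplicit false
set_option linter.unusedSectionVars false

namespace Cfsg.Agent.Lib.Helper11.StPres

open scoped commutatorElement
open Cfsg Cfsg.Lie Matrix
open Cfsg.Agent.Lib.Helper7

universe u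

section Field
variable {K : Type*} [Field K]

/-- the powers of `-1` in odd characteristic -/
theorem neg_one_zpow_eq_one_iff (h2 : (2 : K) ≠ 0) (k : ℤ) : (-1 : K) ^ k = 1 ↔ (2 : ℤ) ∣ k := by
  have hne : (-1 : K) ≠ 1 := by
    intro h
    apply h2
    have : (1 : K) + 1 = 0 := by
      nth_rewrite 1 [← h]
      exact neg_add_cancel 1
    rw [← one_add_one_eq_two]; exact this
  constructor
  · intro h
    by_contra hk
    have hodd : Odd k := Int.not_even_iff_odd.mp (fun he => hk (even_iff_two_dvd.mp he))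
    rw [hodd.neg_one_zpow] at h
    exact hne h
  · intro h
    exact (even_iff_two_dvd.mpr h).neg_one_zpow

/-- the powers of an element of order three -/
theorem zpow_eq_one_iff_of_cube (w : K) (hw0 : w ≠ 0) (hw1 : w ≠ 1) (hw3 : w ^ 3 = 1) (k : ℤ) :
    w ^ k = 1 ↔ (3 : ℤ) ∣ k := by
  have hw2 : w ^ 2 ≠ 1 := by
    intro h
    apply hw1
    have : w ^ 3 = w := by rw [pow_succ, h, one_mul]
    rw [← this, hw3]
  have hdecomp : k = 3 * (k / 3) + k % 3 := (Int.mul_ediv_add_emod k 3).symm
  have hpow : w ^ k = w ^ (k % 3) := by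
    conv_lhs => rw [hdecomp]
    rw [zpow_add₀ hw0, _root_.zpow_mul, show w ^ (3 : ℤ) = w ^ (3 : ℕ) from zpow_natCast w 3, hw3, _root_.one_zpow, one_mul]
  have h0 : 0 ≤ k % 3 := Int.emod_nonneg k (by norm_num)
  have h3 : k % 3 < 3 := Int.emod_lt_of_pos k (by norm_num)
  rw [hpow, Int.dvd_iff_emod_eq_zero]
  constructor
  · intro h
    by_contra hne
    have hcases : k % 3 = 1 ∨ k % 3 = 2 := by omega
    rcases hcases with h1 | h1
    · rw [h1, zpow_one] at h; exact hw1 h
    · rw [h1, show w ^ (2 : ℤ) = w ^ (2 : ℕ) from zpow_natCast w 2] at h; exact hw2 h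
  · intro h
    rw [h, zpow_zero]

end Field

section Cover
variable {D : ChevalleyDatum} (hD : D ∈ [chevG2, chevB2, chevD4, chevF4, chevE6, chevE7, chevE8])
variable {K : Type u} [Field K]

include hD in
/-- if the central extensions of the group presented by (R1), (R2) split and the group maps isomorphically onto
the Chevalley group, every stem extension of the Chevalley group is trivial -/
theorem ker_eq_bot_of_stem_of_sections (hperf : commutator (D.SteinbergCover K) = ⊤)
    (hsec : ∀ {E : Type u} [Group E] (ψ : E →* D.SteinbergCover K), Function.Surjective ψ →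
      ψ.ker ≤ Subgroup.center E → ∃ τ : D.SteinbergCover K →* E, ψ.comp τ = MonoidHom.id _)
    (hker : (coverData hD (K := K)).θ.ker = ⊥)
    {Γ : Type u} [Group Γ] (σ : Γ →* ↥(D.group K)) (hσ : Cfsg.IsStemExtension σ) : σ.ker = ⊥ := by
  obtain ⟨hsurj, hcen, hcomm⟩ := hσ
  set S := coverData hD (K := K) with hS
  obtain ⟨τ, hτ, -⟩ := unique_lift_of_sections hperf σ hsurj hcen S.θG
    (fun P ψ _ hs hc _ => hsec ψ hs hc)
  have hτ' : ∀ d, σ (τ d) = S.θG d := fun d => DFunLike.congr_fun hτ d
  have hrange : commutator Γ ≤ τ.range := by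
    rw [commutator_eq_closure, Subgroup.closure_le]
    rintro g ⟨g₁, g₂, rfl⟩
    obtain ⟨d₁, hd₁⟩ := S.θG_surjective (σ g₁)
    obtain ⟨d₂, hd₂⟩ := S.θG_surjective (σ g₂)
    have : ⁅g₁, g₂⁆ = ⁅τ d₁, τ d₂⁆ :=
      comm_eq_of_map_eq σ hcen (by rw [hτ', hd₁]) (by rw [hτ', hd₂])
    rw [this, ← map_commutatorElement]
    exact ⟨_, rfl⟩
  rw [Subgroup.eq_bot_iff_forall]
  intro k hk
  obtain ⟨d, rfl⟩ := hrange (hcomm hk)
  rw [MonoidHom.mem_ker, hτ'] at hk
  have hd : d ∈ S.θG.ker := hk
  rw [S.θG_ker, hker, Subgroup.mem_bot] at hd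
  rw [hd, map_one]

include hD in
theorem hasCyclicSchurMultiplier_one_of_sections [Finite K] (hperf : commutator (D.SteinbergCover K) = ⊤)
    (hsec : ∀ {E : Type u} [Group E] (ψ : E →* D.SteinbergCover K), Function.Surjective ψ →
      ψ.ker ≤ Subgroup.center E → ∃ τ : D.SteinbergCover K →* E, ψ.comp τ = MonoidHom.id _)
    (hker : (coverData hD (K := K)).θ.ker = ⊥) : Cfsg.HasCyclicSchurMultiplier ↥(D.group K) 1 := by
  have hsub : Subsingleton (Multiplicative (ZMod 1)) := inferInstanceAs (Subsingleton (Fin 1))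
  refine ⟨⟨↥(D.group K), inferInstance, inferInstance, MonoidHom.id _, ⟨Function.surjective_id, ?_, ?_⟩, ?_⟩, ?_⟩
  · rw [MonoidHom.ker_id]; exact bot_le
  · rw [MonoidHom.ker_id]; exact bot_le
  · have hsub2 : Subsingleton ((MonoidHom.id ↥(D.group K)).ker) := by
      rw [MonoidHom.ker_id]; infer_instance
    let _ : Unique ((MonoidHom.id ↥(D.group K)).ker) := ⟨⟨1⟩, fun _ => Subsingleton.elim _ _⟩
    let _ : Unique (Multiplicative (ZMod 1)) := ⟨⟨1⟩, fun _ => Subsingleton.elim _ _⟩
    exact ⟨MulEquiv.ofUnique⟩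
  · intro Γ _ _ σ hσ
    have hk := ker_eq_bot_of_stem_of_sections hD hperf hsec hker σ hσ
    refine ⟨1, ?_⟩
    intro k
    refine ⟨1, ?_⟩
    apply Subtype.ext
    have h1 : (k : Γ) ∈ σ.ker := k.2
    have h2 : (k : Γ) ∈ (⊥ : Subgroup Γ) := hk ▸ h1
    rw [Subgroup.mem_bot] at h2
    rw [h2]
    rfl

end Cover

end Cfsg.Agent.Lib.Helper11.StPres
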