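import Cfsg.Agent.Lib.Helper11.StPresW5
import Cfsg.Agent.Lib.Helper11.StPresW3F4

/-! Steinberg's presentation, part W6 (helper11): the fields with three and four elements; the Schur multiplier
of F₄(q) is trivial for q ≥ 3. -/

set_option autoImplicit false
set_option linter.unusedSectionVars false

namespace Cfsg.Agent.Lib.Helper11.StPres

open scoped commutatorElement
open Cfsg Cfsg.Lie Matrix
open Cfsg.Agent.Lib.Helper7

universe u

theorem zmod_three_two_ne_zero : (2 : ZMod 3) ≠ 0 := by decide

section Field
variable {K : Type*} [Field K] [Fintype K]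

theorem exists_ne_zero_one (h : 3 ≤ Fintype.card K) : ∃ w : K, w ≠ 0 ∧ w ≠ 1 := by
  classical
  by_contra hcon
  push Not at hcon
  have hsub : (Finset.univ : Finset K) ⊆ {0, 1} := by
    intro x _
    by_cases hx : x = 0
    · simp [hx]
    · simp [hcon x hx]
  have h1 := Finset.card_le_card hsub
  have h2 : ({0, 1} : Finset K).card ≤ 2 := Finset.card_le_two
  rw [Finset.card_univ] at h1
  omega

/-- the field with three elements: `-1` has order two, and every element is a natural number -/
theorem field_three (h : Fintype.card K = 3) :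
    (2 : K) ≠ 0 ∧ ∀ t : K, ∃ n : ℕ, t = (n : K) := by
  have : Fact (Nat.Prime 3) := ⟨by norm_num⟩
  let e : ZMod 3 ≃+* K := ZMod.ringEquivOfPrime K (by norm_num) h
  constructor
  · intro h2
    have h20 : (2 : ZMod 3) = 0 := by
      apply e.injective
      rw [map_ofNat, map_zero]
      exact h2
    exact absurd h20 zmod_three_two_ne_zero
  · intro t
    refine ⟨(e.symm t).val, ?_⟩
    have : t = e (e.symm t) := (e.apply_symm_apply t).symm
    conv_lhs => rw [this]
    rw [← ZMod.natCast_zmod_val (e.symm t), map_natCast, ZMod.natCast_zmod_val]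

/-- the field with four elements: every element other than `0`, `1` has order three -/
theorem field_four (h : Fintype.card K = 4) (w : K) (hw0 : w ≠ 0) : w ^ 3 = 1 := by
  have := FiniteField.pow_card_sub_one_eq_one w hw0
  rwa [h] at this

end Field

section F4
variable {K : Type u} [Field K] [Fintype K]

theorem mem_seven_F4 : chevF4 ∈ [chevG2, chevB2, chevD4, chevF4, chevE6, chevE7, chevE8] := by simp

theorem exists_section_F4 (hK : 3 ≤ Fintype.card K) {E : Type*} [Group E] (ψ : E →* chevF4.SteinbergCover K)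
    (hsurj : Function.Surjective ψ) (hc : ψ.ker ≤ Subgroup.center E) :
    ∃ τ : chevF4.SteinbergCover K →* E, ψ.comp τ = MonoidHom.id _ := by
  obtain ⟨w, hw0, hw1⟩ := exists_ne_zero_one hK
  have hperf : commutator (chevF4.SteinbergCover K) = ⊤ :=
    stCover_perfect chevF4 mem_seven_F4 K (fun _ => ⟨w, hw0, hw1⟩)
  by_cases h5 : 5 ≤ Fintype.card K
  · exact exists_section mem_seven_F4 ⟨Finset.univ, by rw [Finset.card_univ]; omega⟩ ψ hsurj hc
  have h34 : Fintype.card K = 3 ∨ Fintype.card K = 4 := by omega
  rcases h34 with h3 | h4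
  · obtain ⟨h2, hprime⟩ := field_three h3
    exact exists_section_mech mem_seven_F4 hperf (-1) (neg_ne_zero.mpr one_ne_zero) 2
      (neg_one_zpow_eq_one_iff h2) true (fun _ => h2) mechFacts_F4_two xFacts_F4_two ψ hsurj hc
      (fun q hq t u e₁ e₂ h1 h2' =>
        (coverData mem_seven_F4 (K := K)).comm_lifts_self_of_prime ψ hsurj hc hprime q hq t u e₁ e₂ h1 h2')
  · have hw3 := field_four h4 w hw0
    exact exists_section_mech mem_seven_F4 hperf w hw0 3 (zpow_eq_one_iff_of_cube w hw0 hw1 hw3) false
      (fun h => absurd h (by decide)) mechFacts_F4_three xFacts_F4_three ψ hsurj hc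
      (fun q hq t u e₁ e₂ h1 h2' =>
        (coverData mem_seven_F4 (K := K)).comm_lifts_of_decOK ψ hsurj hc (two := false)
          (fun h => absurd h (by decide)) hq (selfDecFacts_F4 q hq) t u e₁ e₂ h1 h2')

/-- **the Schur multiplier of F₄(q) is trivial for q ≥ 3** -/
theorem schur_F4 (hK : 3 ≤ Fintype.card K) : Cfsg.HasCyclicSchurMultiplier ↥(chevF4.group K) 1 := by
  obtain ⟨w, hw0, hw1⟩ := exists_ne_zero_one hK
  have hperf : commutator (chevF4.SteinbergCover K) = ⊤ :=
    stCover_perfect chevF4 mem_seven_F4 K (fun _ => ⟨w, hw0, hw1⟩)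
  obtain ⟨B, hB⟩ := exists_cartanInv chevF4 (by simp)
  apply hasCyclicSchurMultiplier_one_of_sections mem_seven_F4 hperf
  · intro E _ ψ hsurj hc
    exact exists_section_F4 hK ψ hsurj hc
  · exact (coverData mem_seven_F4 (K := K)).ker_eq_bot_of_cartanInv
      (StData.hasR3_of_finite mem_seven_F4 _) B hB

end F4

end Cfsg.Agent.Lib.Helper11.StPres
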