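import Cfsg.Agent.Lib.Helper11.StPresW6

/-! Steinberg's presentation, part W7 (helper11): a more flexible form of the splitting theorem over small
fields, and the argument for orthogonal roots inside a subsystem of type A₃ in odd characteristic. -/

set_option autoImplicit false
set_option linter.unusedSectionVars false

namespace Cfsg.Agent.Lib.Helper11.StPres

open scoped commutatorElement
open Cfsg Cfsg.Lie Matrix
open Cfsg.Agent.Lib.Helper7

section
variable {D : ChevalleyDatum} {hD : D ∈ [chevG2, chevB2, chevD4, chevF4, chevE6, chevE7, chevE8]}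
variable {K : Type*} [Field K] {Γ : Type*} [Group Γ] (S : StData D hD K Γ)

namespace StData

/-- the commutator of the root elements of two roots whose commutator formula has a single term -/
theorem bracket_of_single {a b q : ℕ} {N : ℤ} (ha : a < D.nroots) (hb : b < D.nroots) (hba : b ≠ a)
    (hbn : b ≠ D.neg a) (hterms : D.commTerms a b = [(q, N, 1, 1)]) (t u : K) :
    ⁅S.x b u, S.x a t⁆ = S.x q (-((N : K) * t * u)) := by
  have hrel := S.x_comm a b ha hb hba hbn (-t) (-u)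
  have hword : wordG S.x (D.commWord K a b (-t) (-u)) = S.x q (-((N : K) * t * u)) := by
    unfold ChevalleyDatum.commWord
    rw [hterms]
    simp only [List.map_cons, List.map_nil, wordG, List.prod_cons, List.prod_nil, mul_one, pow_one, neg_neg]
    congr 1
    ring
  rw [hword] at hrel
  rw [commutatorElement_def]
  have e : (S.x a t)⁻¹ = S.x a (-t) := S.x_inv a ha t
  have e' : S.x a t = (S.x a (-t))⁻¹ := by rw [S.x_inv a ha, neg_neg]
  have f : (S.x b u)⁻¹ = S.x b (-u) := S.x_inv b hb u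
  have f' : S.x b u = (S.x b (-u))⁻¹ := by rw [S.x_inv b hb, neg_neg]
  rw [e, f]
  nth_rewrite 1 [f']
  nth_rewrite 1 [e']
  calc (S.x b (-u))⁻¹ * (S.x a (-t))⁻¹ * S.x b (-u) * S.x a (-t)
      = (S.x b (-u))⁻¹ * (S.x a (-t))⁻¹ * (S.x b (-u) * S.x a (-t)) := by group
    _ = _ := by rw [hrel]; group

section Ext
variable {E : Type*} [Group E] (ψ : E →* Γ) (hsurj : Function.Surjective ψ) (hc : ψ.ker ≤ Subgroup.center E)

/-- the property that the lifts of the root elements of two roots commute -/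
def CL (r s : ℕ) : Prop :=
  ∀ t u : K, ∀ e₁ e₂ : E, ψ e₁ = S.x r t → ψ e₂ = S.x s u → ⁅e₁, e₂⁆ = 1

theorem CL.symm {r s : ℕ} (h : S.CL ψ r s) : S.CL ψ s r := by
  intro t u e₁ e₂ h1 h2
  have := h u t e₂ e₁ h2 h1
  rw [← commutatorElement_inv, this, inv_one]

include hsurj hc in
/-- orthogonal roots `P`, `Q` inside a subsystem of type A₃, in odd characteristic: the lifts of their root
elements commute -/
theorem cl_of_a3 (h2 : (2 : K) ≠ 0) {P Q r s a b' : ℕ} (hP : P < D.nroots) (hQ : Q < D.nroots)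
    (n1 n2 n3 n4 : K) (hn1 : n1 * n1 = 1) (hn3 : n3 * n3 = 1) (hn4 : n4 * n4 = 1)
    (hsign : n1 * n2 = -(n3 * n4))
    (hb1 : ∀ τ : K, ⁅S.x Q 1, S.x a τ⁆ = S.x r (n1 * τ))
    (hb2 : ∀ τ u : K, ⁅S.x s u, S.x a τ⁆ = S.x P (n2 * τ * u))
    (hb3 : ∀ σ : K, ⁅S.x b' 1, S.x P σ⁆ = S.x r (n3 * σ))
    (hb4 : ∀ u : K, ⁅S.x s u, S.x b' 1⁆ = S.x Q (n4 * u))
    (hsQ : ∀ u w : K, S.x s u * S.x Q w = S.x Q w * S.x s u)
    (hsP : ∀ u w : K, S.x s u * S.x P w = S.x P w * S.x s u)
    (hPQ : ∀ v w : K, S.x P v * S.x Q w = S.x Q w * S.x P v)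
    (hCLPr : S.CL ψ P r) (hCLQr : S.CL ψ Q r) : S.CL ψ P Q := by
  have hBP : ∀ v : K, ∃ l : E, ψ l = S.x P v := fun v => hsurj _
  choose lP hlP using hBP
  have hBQ : ∀ v : K, ∃ l : E, ψ l = S.x Q v := fun v => hsurj _
  choose lQ hlQ using hBQ
  have hcen : ∀ v w, ⁅lP v, lQ w⁆ ∈ Subgroup.center E := by
    intro v w
    apply comm_mem_center ψ hc
    rw [hlP, hlQ, hPQ]
  have haddL : ∀ v v' w, ⁅lP (v + v'), lQ w⁆ = ⁅lP v, lQ w⁆ * ⁅lP v', lQ w⁆ := fun v v' w =>
    comm_add_left ψ hc (by rw [hlP, hlP, hlP, S.x_add P hP]) (hcen v' w)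
  have haddR : ∀ v w w', ⁅lP v, lQ (w + w')⁆ = ⁅lP v, lQ w⁆ * ⁅lP v, lQ w'⁆ := fun v w w' =>
    comm_add_right ψ hc (by rw [hlQ, hlQ, hlQ, S.x_add Q hQ]) (hcen v w')
  have hzeroL : ∀ w, ⁅lP 0, lQ w⁆ = 1 := by
    intro w
    have := haddL 0 0 w
    rw [add_zero] at this
    exact mul_eq_left.mp this.symm
  have hzeroR : ∀ v, ⁅lP v, lQ 0⁆ = 1 := by
    intro v
    have := haddR v 0 0
    rw [add_zero] at this
    exact mul_eq_left.mp this.symm
  have hnegL : ∀ v w, ⁅lP (-v), lQ w⁆ = ⁅lP v, lQ w⁆⁻¹ := by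
    intro v w
    have := haddL v (-v) w
    rw [add_neg_cancel, hzeroL] at this
    exact (inv_eq_of_mul_eq_one_right this.symm).symm
  have hnegR : ∀ v w, ⁅lP v, lQ (-w)⁆ = ⁅lP v, lQ w⁆⁻¹ := by
    intro v w
    have := haddR v w (-w)
    rw [add_neg_cancel, hzeroR] at this
    exact (inv_eq_of_mul_eq_one_right this.symm).symm
  -- the key identity
  have key : ∀ σ u : K, ⁅lP (n2 * (n1 * n3 * σ) * u), lQ 1⁆ = ⁅lP σ, lQ (n4 * u)⁆ := by
    intro σ u
    set τ := n1 * n3 * σ with hτ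
    obtain ⟨y, hy⟩ := hsurj (S.x s u)
    obtain ⟨la, hla⟩ := hsurj (S.x a τ)
    obtain ⟨lb, hlb⟩ := hsurj (S.x b' 1)
    set R1 := ⁅lQ 1, la⁆ with hR1
    set R2 := ⁅lb, lP σ⁆ with hR2
    have hψR1 : ψ R1 = S.x r (n1 * τ) := by
      rw [hR1, map_commutatorElement, hlQ, hla, hb1]
    have hψR2 : ψ R2 = S.x r (n3 * σ) := by
      rw [hR2, map_commutatorElement, hlb, hlP, hb3]
    have hsame : n1 * τ = n3 * σ := by
      rw [hτ, ← mul_assoc, ← mul_assoc, hn1, one_mul]
    -- first computation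
    have c1 : y * R1 * y⁻¹ = ⁅lQ 1, lP (n2 * τ * u)⁆ * R1 := by
      have e1 : y * R1 * y⁻¹ = ⁅lQ 1, lP (n2 * τ * u) * la⁆ := by
        rw [hR1, conj_comm]
        apply comm_eq_of_map_eq ψ hc
        · rw [map_mul, map_mul, map_inv, hy, hlQ, hsQ, mul_inv_cancel_right]
        · rw [map_mul, map_mul, map_inv, hy, hla, map_mul, hlP, hla, ← hb2, commutatorElement_def]
          group
      have e2 : ⁅lQ 1, lP (n2 * τ * u) * la⁆ =
          ⁅lQ 1, lP (n2 * τ * u)⁆ * (lP (n2 * τ * u) * ⁅lQ 1, la⁆ * (lP (n2 * τ * u))⁻¹) := by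
        simp only [commutatorElement_def]; group
      have e3 : lP (n2 * τ * u) * R1 * (lP (n2 * τ * u))⁻¹ = R1 :=
        (commutatorElement_eq_one_iff_commute.mp
          (hCLPr (n2 * τ * u) (n1 * τ) _ _ (hlP _) hψR1)).mul_inv_cancel
      rw [e1, e2, ← hR1, e3]
    -- second computation
    have c2 : y * R2 * y⁻¹ = R2 * ⁅lQ (n4 * u), lP σ⁆ := by
      have e1 : y * R2 * y⁻¹ = ⁅lQ (n4 * u) * lb, lP σ⁆ := by
        rw [hR2, conj_comm]
        apply comm_eq_of_map_eq ψ hc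
        · rw [map_mul, map_mul, map_inv, hy, hlb, map_mul, hlQ, hlb, ← hb4, commutatorElement_def]
          group
        · rw [map_mul, map_mul, map_inv, hy, hlP, hsP, mul_inv_cancel_right]
      have e2 : ⁅lQ (n4 * u) * lb, lP σ⁆ =
          (lQ (n4 * u) * ⁅lb, lP σ⁆ * (lQ (n4 * u))⁻¹) * ⁅lQ (n4 * u), lP σ⁆ := by
        simp only [commutatorElement_def]; group
      have e3 : lQ (n4 * u) * R2 * (lQ (n4 * u))⁻¹ = R2 :=
        (commutatorElement_eq_one_iff_commute.mp
          (hCLQr (n4 * u) (n3 * σ) _ _ (hlQ _) hψR2)).mul_inv_cancel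
      rw [e1, e2, ← hR2, e3]
    -- compare
    have hcmp : ⁅y, R1⁆ = ⁅y, R2⁆ := comm_eq_of_map_eq ψ hc rfl (by rw [hψR1, hψR2, hsame])
    have d1 : ⁅y, R1⁆ = ⁅lQ 1, lP (n2 * τ * u)⁆ := by
      rw [commutatorElement_def, c1]; group
    have hz : ⁅lQ (n4 * u), lP σ⁆ ∈ Subgroup.center E := by
      rw [← commutatorElement_inv]
      exact Subgroup.inv_mem _ (hcen σ (n4 * u))
    have d2 : ⁅y, R2⁆ = ⁅lQ (n4 * u), lP σ⁆ := by
      rw [commutatorElement_def, c2]
      have := Subgroup.mem_center_iff.mp hz R2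
      rw [this, mul_assoc, mul_inv_cancel, mul_one]
    rw [d1, d2] at hcmp
    have := congrArg (·⁻¹) hcmp
    simpa only [commutatorElement_inv] using this
  -- consequences
  have hsgn : n2 * (n1 * n3) = -n4 := by
    have : n2 * (n1 * n3) = (n1 * n2) * n3 := by ring
    rw [this, hsign]
    have : -(n3 * n4) * n3 = -((n3 * n3) * n4) := by ring
    rw [this, hn3, one_mul]
  have key' : ∀ σ u' : K, ⁅lP (-(σ * u')), lQ 1⁆ = ⁅lP σ, lQ u'⁆ := by
    intro σ u'
    have h := key σ (n4 * u')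
    have e1 : n2 * (n1 * n3 * σ) * (n4 * u') = -(σ * u') := by
      have : n2 * (n1 * n3 * σ) * (n4 * u') = (n2 * (n1 * n3)) * n4 * (σ * u') := by ring
      rw [this, hsgn]
      have : -n4 * n4 * (σ * u') = -((n4 * n4) * (σ * u')) := by ring
      rw [this, hn4, one_mul]
    have e2 : n4 * (n4 * u') = u' := by rw [← mul_assoc, hn4, one_mul]
    rw [e1, e2] at h
    exact h
  have hone : ∀ v : K, ⁅lP v, lQ 1⁆ = 1 := by
    have hsq : ∀ σ : K, ⁅lP σ, lQ 1⁆ * ⁅lP σ, lQ 1⁆ = 1 := by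
      intro σ
      have h := key' σ 1
      rw [mul_one, hnegL] at h
      nth_rewrite 1 [← h]
      exact inv_mul_cancel _
    intro v
    have h := hsq (v / 2)
    rw [← haddL, ← two_mul, mul_div_cancel₀ _ h2] at h
    exact h
  intro t u e₁ e₂ h1 h2'
  have : ⁅e₁, e₂⁆ = ⁅lP t, lQ u⁆ := comm_eq_of_map_eq ψ hc (by rw [h1, hlP]) (by rw [h2', hlQ])
  rw [this, ← key', hone]

end Ext

end StData

end

section Cover
variable {D : ChevalleyDatum} (hD : D ∈ [chevG2, chevB2, chevD4, chevF4, chevE6, chevE7, chevE8])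
variable {K : Type*} [Field K]

include hD in
/-- every central extension of the group presented by (R1), (R2) splits, given an element `w` of order `m` of
the field such that each pair of independent roots is separated by a torus element, directly or after exchanging
the roots, or consists of roots whose root elements have commuting lifts -/
theorem exists_section_mech' (hperf : commutator (D.SteinbergCover K) = ⊤)
    (w : K) (hw0 : w ≠ 0) (m : ℤ) (hw : ∀ k : ℤ, w ^ k = 1 ↔ m ∣ k) (hX : XFacts D m)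
    {E : Type*} [Group E] (ψ : E →* D.SteinbergCover K) (hsurj : Function.Surjective ψ)
    (hc : ψ.ker ≤ Subgroup.center E)
    (hCS : ∀ q, q < D.nroots → (coverData hD (K := K)).CL ψ q q)
    (hM : ∀ r s, r < D.nroots → s < D.nroots → s ≠ r → s ≠ D.neg r →
      TorOK D m r s ∨ (D.commTerms r s = [] ∧ (coverData hD (K := K)).CL ψ r s) ∨
      ((D.commTerms s r).length = (D.commTerms r s).length ∧
        (∀ c ∈ D.commTerms s r, c.1 ∈ (D.commTerms r s).map (·.1)) ∧ TorOK D m s r)) :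
    ∃ τ : D.SteinbergCover K →* E, ψ.comp τ = MonoidHom.id _ := by
  classical
  obtain ⟨hP, -, hDec⟩ := univFacts_of_mem D hD
  set S := coverData hD (K := K) with hS
  let g : ℕ → ℕ := fun q => if hq : q < D.nroots then Classical.choose (hX q hq) else 0
  have hg : ∀ q, q < D.nroots → g q < D.nroots ∧ w ^ carR D (g q) q ≠ 1 := by
    intro q hq
    have hgq : g q = Classical.choose (hX q hq) := by
      show (if hq : q < D.nroots then Classical.choose (hX q hq) else 0) = _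
      rw [dif_pos hq]
    obtain ⟨h1, h2⟩ := Classical.choose_spec (hX q hq)
    rw [hgq]
    refine ⟨h1, fun h => h2 ?_⟩
    exact Int.emod_eq_zero_of_dvd ((hw _).mp h)
  set X := S.xtG ψ hsurj g w with hXdef
  have hψX : ∀ q, q < D.nroots → ∀ t, ψ (X q t) = S.x q t :=
    fun q hq t => S.ψ_xtG ψ hsurj g w hw0 q hq (hg q hq).1 (hg q hq).2 t
  have hadd : ∀ r, r < D.nroots → ∀ t u : K, X r t * X r u = X r (t + u) :=
    fun q hq t u => S.xtG_add ψ hsurj hc hperf g w hw0 q hq (hg q hq).1 (hg q hq).2 (hCS q hq) t u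
  have htor : ∀ r s, r < D.nroots → s < D.nroots → TorOK D m r s → StData.Kill ψ X D r s := by
    rintro r s hr hs ⟨γ, hγ, h1, h2⟩
    obtain ⟨e, he⟩ := hsurj (S.hb γ w)
    apply S.kill_of_tor ψ X r s hr hs (S.isTor_hb γ hγ w hw0) _ _ e _ hc
    · show w ^ carR D γ s = 1
      exact (hw _).mpr (Int.dvd_of_emod_eq_zero h1)
    · show w ^ carR D γ r ≠ 1
      intro h
      exact h2 (Int.emod_eq_zero_of_dvd ((hw _).mp h))
    · intro q hq t
      exact S.xtG_conj ψ hsurj hc hperf g w hw0 (S.isTor_hb γ hγ w hw0) e he q hq (hg q hq).1 t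
  have hcomm : ∀ r s, r < D.nroots → s < D.nroots → s ≠ r → s ≠ D.neg r → ∀ t u : K,
      X s u * X r t = X r t * X s u * wordG X (D.commWord K r s t u) := by
    intro r s hr hs hsr hsn t u
    refine S.comm_main ψ X hc hψX hadd hP hDec ?_ _ r s hr hs hsr hsn rfl t u
    intro r s hr hs hsr hsn
    rcases hM r s hr hs hsr hsn with h | ⟨h0, hcl⟩ | ⟨hl, hsym, h⟩
    · exact Or.inl (htor r s hr hs h)
    · left
      apply StData.kill_of_comm ψ X r s h0
      intro t u
      have h1 := hcl t u (X r t) (X s u) (hψX r hr t) (hψX s hs u)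
      exact (commutatorElement_eq_one_iff_commute.mp h1).eq.symm
    · exact Or.inr ⟨hl, hsym, htor s r hs hr h⟩
  exact section_of_lifts hD ψ X hψX hadd hcomm

end Cover

end Cfsg.Agent.Lib.Helper11.StPres
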