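import Cfsg.Agent.Lib.Helper11.StPresW7

/-! Steinberg's presentation, part W8 (helper11): table facts for the argument with subsystems of type A₃, and
their consequences. -/

set_option autoImplicit false
set_option linter.unusedSectionVars false

namespace Cfsg.Agent.Lib.Helper11.StPres

open scoped commutatorElement
open Cfsg Cfsg.Lie Matrix
open Cfsg.Agent.Lib.Helper7

/-- the commutator formula of the independent roots `x`, `y` has the single term `(q, N, 1, 1)` -/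
def singleB (D : ChevalleyDatum) (x y q : ℕ) (N : ℤ) : Bool :=
  decide (x < D.nroots) && decide (y < D.nroots) && (y != x) && (y != D.neg x) &&
    (D.commTerms x y == [(q, N, 1, 1)])

theorem singleB_spec {D : ChevalleyDatum} {x y q : ℕ} {N : ℤ} (h : singleB D x y q N = true) :
    x < D.nroots ∧ y < D.nroots ∧ y ≠ x ∧ y ≠ D.neg x ∧ D.commTerms x y = [(q, N, 1, 1)] := by
  unfold singleB at h
  simp only [Bool.and_eq_true, decide_eq_true_eq, bne_iff_ne, ne_eq, beq_iff_eq] at h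
  obtain ⟨⟨⟨⟨h1, h2⟩, h3⟩, h4⟩, h5⟩ := h
  exact ⟨h1, h2, h3, h4, h5⟩

/-- the root elements of the independent roots `x`, `y` commute by the commutator formula -/
def nilB (D : ChevalleyDatum) (x y : ℕ) : Bool :=
  decide (x < D.nroots) && decide (y < D.nroots) && (y != x) && (y != D.neg x) && (D.commTerms x y == [])

theorem nilB_spec {D : ChevalleyDatum} {x y : ℕ} (h : nilB D x y = true) :
    x < D.nroots ∧ y < D.nroots ∧ y ≠ x ∧ y ≠ D.neg x ∧ D.commTerms x y = [] := by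
  unfold nilB at h
  simp only [Bool.and_eq_true, decide_eq_true_eq, bne_iff_ne, ne_eq, beq_iff_eq] at h
  obtain ⟨⟨⟨⟨h1, h2⟩, h3⟩, h4⟩, h5⟩ := h
  exact ⟨h1, h2, h3, h4, h5⟩

def signB (N : ℤ) : Bool := (N == 1) || (N == -1)

theorem signB_spec {N : ℤ} (h : signB N = true) : N = 1 ∨ N = -1 := by
  unfold signB at h
  simpa using h

/-- the configuration of type A₃ around the orthogonal roots `P`, `Q` -/
def a3OK (D : ChevalleyDatum) (P Q r s a b' : ℕ) (N1 N2 N3 N4 : ℤ) : Bool :=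
  singleB D a Q r N1 && singleB D P b' r N3 && singleB D a s P N2 && singleB D b' s Q N4 &&
    nilB D s Q && nilB D s P && nilB D P Q && signB N1 && signB N2 && signB N3 && signB N4 &&
    (N1 * N2 == -(N3 * N4)) && nilB D P r && (torB D 2 P r || torB D 2 r P) &&
    nilB D Q r && (torB D 2 Q r || torB D 2 r Q)

theorem a3OK_spec {D : ChevalleyDatum} {P Q r s a b' : ℕ} {N1 N2 N3 N4 : ℤ}
    (h : a3OK D P Q r s a b' N1 N2 N3 N4 = true) :
    singleB D a Q r N1 = true ∧ singleB D P b' r N3 = true ∧ singleB D a s P N2 = true ∧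
      singleB D b' s Q N4 = true ∧ nilB D s Q = true ∧ nilB D s P = true ∧ nilB D P Q = true ∧
      (N1 = 1 ∨ N1 = -1) ∧ (N2 = 1 ∨ N2 = -1) ∧ (N3 = 1 ∨ N3 = -1) ∧ (N4 = 1 ∨ N4 = -1) ∧
      N1 * N2 = -(N3 * N4) ∧ nilB D P r = true ∧ (torB D 2 P r = true ∨ torB D 2 r P = true) ∧
      nilB D Q r = true ∧ (torB D 2 Q r = true ∨ torB D 2 r Q = true) := by
  unfold a3OK at h
  simp only [Bool.and_eq_true, Bool.or_eq_true, beq_iff_eq] at h
  obtain ⟨⟨⟨⟨⟨⟨⟨⟨⟨⟨⟨⟨⟨⟨⟨h1, h2⟩, h3⟩, h4⟩, h5⟩, h6⟩, h7⟩, h8⟩, h9⟩, h10⟩, h11⟩, h12⟩, h13⟩, h14⟩, h15⟩, h16⟩ := h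
  exact ⟨h1, h2, h3, h4, h5, h6, h7, signB_spec h8, signB_spec h9, signB_spec h10, signB_spec h11, h12, h13,
    h14, h15, h16⟩

/-- table facts: each pair of independent roots is separated by a torus element of order two, or is a pair of
orthogonal roots inside a configuration of type A₃ -/
def A3Facts (D : ChevalleyDatum) : Prop :=
  ∀ P Q, P < D.nroots → Q < D.nroots → Q ≠ P → Q ≠ D.neg P → TorOK D 2 P Q ∨
    ∃ r s a b' : ℕ, ∃ N1 N2 N3 N4 : ℤ, a3OK D P Q r s a b' N1 N2 N3 N4 = true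

/-- signs encoded by natural numbers -/
def sgnZ (n : ℕ) : ℤ := if n = 0 then 1 else -1

def a3B (D : ChevalleyDatum) (wit : List (ℕ × ℕ × ℕ × ℕ × ℕ × ℕ × ℕ × ℕ × ℕ × ℕ)) (P Q : ℕ) : Bool :=
  wit.any fun p => (p.1 == P) && (p.2.1 == Q) &&
    a3OK D P Q p.2.2.1 p.2.2.2.1 p.2.2.2.2.1 p.2.2.2.2.2.1 (sgnZ p.2.2.2.2.2.2.1) (sgnZ p.2.2.2.2.2.2.2.1)
      (sgnZ p.2.2.2.2.2.2.2.2.1) (sgnZ p.2.2.2.2.2.2.2.2.2)

def a3Row (D : ChevalleyDatum) (wit : List (ℕ × ℕ × ℕ × ℕ × ℕ × ℕ × ℕ × ℕ × ℕ × ℕ)) (P : ℕ) : Bool :=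
  (List.range D.nroots).all fun Q => (Q == P) || (Q == D.neg P) || torB D 2 P Q || a3B D wit P Q

theorem a3Facts_of_rows {D : ChevalleyDatum} (wit : List (ℕ × ℕ × ℕ × ℕ × ℕ × ℕ × ℕ × ℕ × ℕ × ℕ))
    (h : ∀ P, P < D.nroots → a3Row D wit P = true) : A3Facts D := by
  intro P Q hP hQ hQP hQn
  have h1 := h P hP
  unfold a3Row at h1
  rw [List.all_eq_true] at h1
  have h2 := h1 Q (List.mem_range.mpr hQ)
  simp only [Bool.or_eq_true, beq_iff_eq] at h2
  rcases h2 with ((h2 | h2) | h2) | h2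
  · exact absurd h2 hQP
  · exact absurd h2 hQn
  · exact Or.inl (torOK_of_torB h2)
  · right
    unfold a3B at h2
    rw [List.any_eq_true] at h2
    obtain ⟨p, -, h3⟩ := h2
    simp only [Bool.and_eq_true] at h3
    exact ⟨_, _, _, _, _, _, _, _, h3.2⟩

section
variable {D : ChevalleyDatum} {hD : D ∈ [chevG2, chevB2, chevD4, chevF4, chevE6, chevE7, chevE8]}
variable {K : Type*} [Field K] {Γ : Type*} [Group Γ] (S : StData D hD K Γ)

namespace StData

theorem commute_of_nilB {x y : ℕ} (h : nilB D x y = true) (t u : K) :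
    S.x x t * S.x y u = S.x y u * S.x x t := by
  obtain ⟨hx, hy, h1, h2, h0⟩ := nilB_spec h
  exact S.x_commute_of_nil x y hx hy h1 h2 h0 t u

section Ext
variable {E : Type*} [Group E] (ψ : E →* Γ) (hsurj : Function.Surjective ψ) (hc : ψ.ker ≤ Subgroup.center E)
  (w : K) (hw0 : w ≠ 0) (m : ℤ) (hw : ∀ k : ℤ, w ^ k = 1 ↔ m ∣ k)

include hsurj hc hw0 hw in
/-- commuting root elements separated by a torus element have commuting lifts -/
theorem cl_of_torOK {r s : ℕ} (hr : r < D.nroots) (hs : s < D.nroots)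
    (hcomm : ∀ t u : K, S.x r t * S.x s u = S.x s u * S.x r t) (h : TorOK D m r s) : S.CL ψ r s := by
  obtain ⟨γ, hγ, h1, h2⟩ := h
  intro t u e₁ e₂ he1 he2
  apply S.comm_lifts_of_tor ψ hsurj hc r s hr hcomm (S.hb γ w) (w ^ carR D γ r) _ _ _ t u e₁ e₂ he1 he2
  · intro h
    exact h2 (Int.emod_eq_zero_of_dvd ((hw _).mp h))
  · intro u
    exact S.hb_conj_x γ hγ w hw0 r hr u
  · intro u
    rw [S.hb_conj_x γ hγ w hw0 s hs u, (hw _).mpr (Int.dvd_of_emod_eq_zero h1), one_mul]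

include hsurj hc hw0 hw in
theorem cl_of_nilB_tor {r s : ℕ} (h0 : nilB D r s = true) (h : TorOK D m r s ∨ TorOK D m s r) :
    S.CL ψ r s := by
  obtain ⟨hr, hs, -, -, -⟩ := nilB_spec h0
  rcases h with h | h
  · exact S.cl_of_torOK ψ hsurj hc w hw0 m hw hr hs (S.commute_of_nilB h0) h
  · exact (S.cl_of_torOK ψ hsurj hc w hw0 m hw hs hr (fun t u => (S.commute_of_nilB h0 u t).symm) h).symm

include hsurj hc in
/-- orthogonal roots inside a configuration of type A₃, in odd characteristic, have commuting lifts -/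
theorem cl_of_a3OK (h2 : (2 : K) ≠ 0) {P Q r s a b' : ℕ} {N1 N2 N3 N4 : ℤ}
    (h : a3OK D P Q r s a b' N1 N2 N3 N4 = true) : S.CL ψ P Q := by
  obtain ⟨s1, s3, s2, s4, n1, n2, n3, hN1, hN2, hN3, hN4, hsign, n4, t4, n5, t5⟩ := a3OK_spec h
  obtain ⟨ha, hQ, hQa, hQna, c1⟩ := singleB_spec s1
  obtain ⟨hP, hb', hb'P, hb'nP, c3⟩ := singleB_spec s3
  obtain ⟨-, hs, hsa, hsna, c2⟩ := singleB_spec s2
  obtain ⟨-, -, hsb', hsnb', c4⟩ := singleB_spec s4
  have hw2 : ∀ k : ℤ, (-1 : K) ^ k = 1 ↔ (2 : ℤ) ∣ k := neg_one_zpow_eq_one_iff h2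
  have hm1 : (-1 : K) ≠ 0 := neg_ne_zero.mpr one_ne_zero
  have hsq : ∀ N : ℤ, (N = 1 ∨ N = -1) → (-(N : K)) * (-(N : K)) = 1 := by
    rintro N (rfl | rfl) <;> norm_num
  apply S.cl_of_a3 ψ hsurj hc h2 hP hQ (-(N1 : K)) (-(N2 : K)) (-(N3 : K)) (-(N4 : K)) (hsq N1 hN1)
    (hsq N3 hN3) (hsq N4 hN4)
  · have : ((N1 * N2 : ℤ) : K) = ((-(N3 * N4) : ℤ) : K) := by rw [hsign]
    push_cast at this
    rw [neg_mul_neg, neg_mul_neg, this]
  · intro τ
    rw [S.bracket_of_single ha hQ hQa hQna c1 τ 1, mul_one, neg_mul]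
  · intro τ u
    rw [S.bracket_of_single ha hs hsa hsna c2 τ u, neg_mul, neg_mul]
  · intro σ
    rw [S.bracket_of_single hP hb' hb'P hb'nP c3 σ 1, mul_one, neg_mul]
  · intro u
    rw [S.bracket_of_single hb' hs hsb' hsnb' c4 1 u, mul_one, neg_mul]
  · exact fun u w => S.commute_of_nilB n1 u w
  · exact fun u w => S.commute_of_nilB n2 u w
  · exact fun v w => S.commute_of_nilB n3 v w
  · exact S.cl_of_nilB_tor ψ hsurj hc (-1) hm1 2 hw2 n4
      (t4.imp torOK_of_torB torOK_of_torB)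
  · exact S.cl_of_nilB_tor ψ hsurj hc (-1) hm1 2 hw2 n5
      (t5.imp torOK_of_torB torOK_of_torB)

end Ext

end StData

end

end Cfsg.Agent.Lib.Helper11.StPres
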