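import Cfsg.Agent.Lib.Helper11.StPresW8

/-! Steinberg's presentation, part W9D4 (helper11): the table facts for type D₄ over the fields with three and
four elements. -/

set_option autoImplicit false

namespace Cfsg.Agent.Lib.Helper11.StPres

open Cfsg Cfsg.Lie
open Cfsg.Agent.Lib.Helper7

/-- configurations of type A₃ around the pairs of orthogonal roots of D₄ -/
def witD4 : List (ℕ × ℕ × ℕ × ℕ × ℕ × ℕ × ℕ × ℕ × ℕ × ℕ) :=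
  [(0, 5, 1, 4, 6, 14, 1, 1, 0, 1), (0, 10, 1, 7, 3, 14, 0, 1, 0, 0), (0, 11, 1, 8, 2, 14, 0, 1, 0, 0),
    (0, 12, 2, 9, 1, 15, 0, 0, 1, 0), (0, 13, 3, 9, 1, 16, 0, 0, 1, 0), (0, 18, 6, 9, 1, 19, 1, 0, 1, 1),
    (1, 4, 0, 5, 6, 9, 1, 1, 0, 1), (1, 7, 0, 10, 3, 9, 1, 0, 0, 0), (1, 8, 0, 11, 2, 9, 1, 0, 0, 0),
    (1, 15, 2, 14, 0, 12, 1, 0, 0, 0), (1, 16, 3, 14, 0, 13, 1, 0, 0, 0), (1, 19, 6, 14, 0, 18, 1, 0, 1, 1),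
    (2, 3, 0, 5, 7, 8, 0, 1, 1, 1), (2, 6, 0, 10, 4, 8, 0, 0, 1, 0), (2, 9, 0, 12, 1, 8, 0, 0, 1, 0),
    (2, 14, 1, 15, 0, 11, 0, 1, 0, 0), (2, 17, 4, 15, 0, 13, 0, 1, 0, 0), (2, 20, 7, 15, 0, 18, 0, 1, 1, 1),
    (3, 2, 0, 5, 8, 7, 0, 1, 1, 1), (3, 6, 0, 11, 4, 7, 0, 0, 1, 0), (3, 9, 0, 13, 1, 7, 0, 0, 1, 0),
    (3, 14, 1, 16, 0, 10, 0, 1, 0, 0), (3, 17, 4, 16, 0, 12, 0, 1, 0, 0), (3, 21, 8, 16, 0, 18, 0, 1, 1, 1),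
    (4, 1, 0, 5, 9, 6, 1, 1, 0, 1), (4, 7, 0, 12, 3, 6, 1, 0, 0, 0), (4, 8, 0, 13, 2, 6, 1, 0, 0, 0),
    (4, 15, 2, 17, 0, 10, 1, 0, 0, 0), (4, 16, 3, 17, 0, 11, 1, 0, 0, 0), (4, 22, 9, 17, 0, 18, 1, 0, 1, 1),
    (5, 0, 1, 4, 14, 6, 1, 1, 0, 1), (5, 10, 1, 15, 3, 6, 0, 0, 0, 1), (5, 11, 1, 16, 2, 6, 0, 0, 0, 1),
    (5, 12, 2, 17, 1, 7, 0, 0, 0, 1), (5, 13, 3, 17, 1, 8, 0, 0, 0, 1), (5, 23, 14, 17, 1, 19, 1, 0, 1, 1),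
    (6, 2, 0, 10, 8, 4, 0, 0, 1, 0), (6, 3, 0, 11, 7, 4, 0, 0, 1, 0), (6, 9, 0, 18, 1, 4, 0, 1, 1, 1),
    (6, 14, 1, 19, 0, 5, 0, 1, 1, 1), (6, 20, 7, 19, 0, 12, 0, 1, 0, 0), (6, 21, 8, 19, 0, 13, 0, 1, 0, 0),
    (7, 1, 0, 10, 9, 3, 1, 0, 0, 0), (7, 4, 0, 12, 6, 3, 1, 0, 0, 0), (7, 8, 0, 18, 2, 3, 1, 1, 0, 1),
    (7, 15, 2, 20, 0, 5, 1, 0, 1, 1), (7, 19, 6, 20, 0, 11, 1, 0, 0, 0), (7, 22, 9, 20, 0, 13, 1, 0, 0, 0),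
    (8, 1, 0, 11, 9, 2, 1, 0, 0, 0), (8, 4, 0, 13, 6, 2, 1, 0, 0, 0), (8, 7, 0, 18, 3, 2, 1, 1, 0, 1),
    (8, 16, 3, 21, 0, 5, 1, 0, 1, 1), (8, 19, 6, 21, 0, 10, 1, 0, 0, 0), (8, 22, 9, 21, 0, 12, 1, 0, 0, 0),
    (9, 2, 0, 12, 8, 1, 0, 0, 1, 0), (9, 3, 0, 13, 7, 1, 0, 0, 1, 0), (9, 6, 0, 18, 4, 1, 0, 1, 1, 1),
    (9, 17, 4, 22, 0, 5, 0, 1, 1, 1), (9, 20, 7, 22, 0, 10, 0, 1, 0, 0), (9, 21, 8, 22, 0, 11, 0, 1, 0, 0),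
    (10, 0, 1, 7, 14, 3, 1, 0, 1, 1), (10, 5, 1, 15, 6, 3, 1, 1, 1, 0), (10, 11, 1, 19, 2, 3, 0, 1, 1, 1),
    (10, 12, 2, 20, 1, 4, 0, 1, 1, 1), (10, 18, 6, 20, 1, 8, 1, 1, 1, 0),
    (10, 23, 14, 20, 1, 16, 1, 1, 0, 1), (11, 0, 1, 8, 14, 2, 1, 0, 1, 1), (11, 5, 1, 16, 6, 2, 1, 1, 1, 0),
    (11, 10, 1, 19, 3, 2, 0, 1, 1, 1), (11, 13, 3, 21, 1, 4, 0, 1, 1, 1), (11, 18, 6, 21, 1, 7, 1, 1, 1, 0),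
    (11, 23, 14, 21, 1, 15, 1, 1, 0, 1), (12, 0, 2, 9, 15, 1, 0, 0, 1, 0), (12, 5, 2, 17, 7, 1, 1, 1, 1, 0),
    (12, 10, 2, 20, 4, 1, 0, 1, 1, 1), (12, 13, 4, 22, 2, 3, 0, 1, 1, 1), (12, 18, 7, 22, 2, 6, 1, 1, 1, 0),
    (12, 23, 15, 22, 2, 14, 0, 1, 0, 0), (13, 0, 3, 9, 16, 1, 0, 0, 1, 0), (13, 5, 3, 17, 8, 1, 1, 1, 1, 0),
    (13, 11, 3, 21, 4, 1, 0, 1, 1, 1), (13, 12, 4, 22, 3, 2, 0, 1, 1, 1), (13, 18, 8, 22, 3, 6, 1, 1, 1, 0),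
    (13, 23, 16, 22, 3, 14, 0, 1, 0, 0), (14, 2, 1, 15, 11, 0, 1, 0, 1, 1),
    (14, 3, 1, 16, 10, 0, 1, 0, 1, 1), (14, 6, 1, 19, 5, 0, 0, 1, 1, 1), (14, 17, 5, 23, 1, 4, 0, 1, 1, 1),
    (14, 20, 10, 23, 1, 7, 1, 1, 0, 1), (14, 21, 11, 23, 1, 8, 1, 1, 0, 1),
    (15, 1, 2, 14, 12, 0, 1, 0, 0, 0), (15, 4, 2, 17, 10, 0, 1, 0, 0, 0), (15, 7, 2, 20, 5, 0, 0, 1, 0, 0),
    (15, 16, 5, 23, 2, 3, 0, 0, 1, 0), (15, 19, 10, 23, 2, 6, 1, 0, 0, 0),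
    (15, 22, 12, 23, 2, 9, 1, 0, 0, 0), (16, 1, 3, 14, 13, 0, 1, 0, 0, 0),
    (16, 4, 3, 17, 11, 0, 1, 0, 0, 0), (16, 8, 3, 21, 5, 0, 0, 1, 0, 0), (16, 15, 5, 23, 3, 2, 0, 0, 1, 0),
    (16, 19, 11, 23, 3, 6, 1, 0, 0, 0), (16, 22, 13, 23, 3, 9, 1, 0, 0, 0),
    (17, 2, 4, 15, 13, 0, 1, 0, 1, 1), (17, 3, 4, 16, 12, 0, 1, 0, 1, 1), (17, 9, 4, 22, 5, 0, 0, 1, 1, 1),
    (17, 14, 5, 23, 4, 1, 0, 1, 1, 1), (17, 20, 12, 23, 4, 7, 1, 1, 0, 1),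
    (17, 21, 13, 23, 4, 8, 1, 1, 0, 1), (18, 0, 6, 9, 19, 1, 0, 1, 0, 0), (18, 10, 6, 20, 8, 1, 0, 0, 0, 1),
    (18, 11, 6, 21, 7, 1, 0, 0, 0, 1), (18, 12, 7, 22, 6, 2, 0, 0, 0, 1), (18, 13, 8, 22, 6, 3, 0, 0, 0, 1),
    (18, 23, 19, 22, 6, 14, 0, 0, 1, 0), (19, 1, 6, 14, 18, 0, 0, 1, 0, 0),
    (19, 7, 6, 20, 11, 0, 1, 0, 0, 0), (19, 8, 6, 21, 10, 0, 1, 0, 0, 0),
    (19, 15, 10, 23, 6, 2, 1, 0, 0, 0), (19, 16, 11, 23, 6, 3, 1, 0, 0, 0),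
    (19, 22, 18, 23, 6, 9, 0, 0, 1, 0), (20, 2, 7, 15, 18, 0, 0, 1, 1, 1),
    (20, 6, 7, 19, 12, 0, 1, 0, 1, 1), (20, 9, 7, 22, 10, 0, 1, 0, 1, 1),
    (20, 14, 10, 23, 7, 1, 1, 1, 0, 1), (20, 17, 12, 23, 7, 4, 1, 1, 0, 1),
    (20, 21, 18, 23, 7, 8, 0, 1, 1, 1), (21, 3, 8, 16, 18, 0, 0, 1, 1, 1),
    (21, 6, 8, 19, 13, 0, 1, 0, 1, 1), (21, 9, 8, 22, 11, 0, 1, 0, 1, 1),
    (21, 14, 11, 23, 8, 1, 1, 1, 0, 1), (21, 17, 13, 23, 8, 4, 1, 1, 0, 1),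
    (21, 20, 18, 23, 8, 7, 0, 1, 1, 1), (22, 4, 9, 17, 18, 0, 0, 1, 0, 0),
    (22, 7, 9, 20, 13, 0, 1, 0, 0, 0), (22, 8, 9, 21, 12, 0, 1, 0, 0, 0),
    (22, 15, 12, 23, 9, 2, 1, 0, 0, 0), (22, 16, 13, 23, 9, 3, 1, 0, 0, 0),
    (22, 19, 18, 23, 9, 6, 0, 0, 1, 0), (23, 5, 14, 17, 19, 1, 0, 1, 0, 0),
    (23, 10, 14, 20, 16, 1, 1, 1, 0, 1), (23, 11, 14, 21, 15, 1, 1, 1, 0, 1),
    (23, 12, 15, 22, 14, 2, 1, 0, 1, 1), (23, 13, 16, 22, 14, 3, 1, 0, 1, 1),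
    (23, 18, 19, 22, 14, 6, 0, 0, 1, 0)]

set_option maxRecDepth 100000 in
theorem a3Facts_D4 : A3Facts chevD4 :=
  a3Facts_of_rows witD4 (forall_lt_of_all (n := 24) (f := a3Row chevD4 witD4) (by decide +kernel))

set_option maxRecDepth 100000 in
theorem mechFacts_D4_three : MechFacts chevD4 3 false :=
  mechFacts_of_rows [] (forall_lt_of_all (n := 24) (f := mechRow chevD4 3 false []) (by decide +kernel))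

set_option maxRecDepth 100000 in
theorem xFacts_D4_two : XFacts chevD4 2 :=
  xFacts_of_rows (forall_lt_of_all (n := 24) (f := xRowB chevD4 2) (by decide +kernel))

set_option maxRecDepth 100000 in
theorem xFacts_D4_three : XFacts chevD4 3 :=
  xFacts_of_rows (forall_lt_of_all (n := 24) (f := xRowB chevD4 3) (by decide +kernel))

set_option maxRecDepth 100000 in
theorem selfDecFacts_D4 : SelfDecFacts chevD4 :=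
  selfDecFacts_of_rows [(1, 9), (0, 14), (0, 15), (0, 16), (0, 17), (1, 17), (0, 19), (0, 20), (0, 21),
    (0, 22), (1, 20), (1, 21), (2, 22), (3, 22), (1, 23), (2, 23), (3, 23), (4, 23), (6, 22), (6, 23),
    (7, 23), (8, 23), (9, 23), (14, 22)]
    (forall_lt_of_all (n := 24) (by decide +kernel))

end Cfsg.Agent.Lib.Helper11.StPres
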