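import Mathlib

/-! Helper11 library (S2153): the abstract setting for `SU_n(2)`.

A group `G` acting faithfully on a vector space `V` over the field `F = {0, 1, om, om + 1}` with four
elements, by isometries of a nondegenerate hermitian form `h` (linear in the first argument,
`h y x = (h x y)^2`), containing the elements
`gq x w c : z ↦ z + h z x • w + (h z w + c * h z x) • x` (`x` isotropic, `w ⊥ x`, `c + c^2 = h w w`)
and generated by the transvections `tv x = gq x 0 1 : z ↦ z + h z x • x` (`x` isotropic).
Definitions only; the calculus is in `Su2Calc`. -/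

set_option autoImplicit false

namespace Cfsg.Agent.Lib.Helper11.Su2

/-- Unitary setting over the field with four elements. -/
structure Setting (F V G : Type*) [Field F] [AddCommGroup V] [Module F V] [Group G]
    [DistribMulAction G V] where
  /-- a primitive cube root of unity -/
  om : F
  /-- the hermitian form -/
  h : V → V → F
  /-- the elements of the unipotent radical `Q_x` (meaningful for `h x x = 0`, `h w x = 0`,
  `c + c * c = h w w`) -/
  gq : V → V → F → G
  hom : om * om + om + 1 = 0
  two : (2 : F) = 0
  h4 : ∀ a : F, a = 0 ∨ a = 1 ∨ a = om ∨ a = om + 1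
  h_add_left : ∀ x y z, h (x + y) z = h x z + h y z
  h_smul_left : ∀ (a : F) (x z : V), h (a • x) z = a * h x z
  h_symm : ∀ x y, h y x = h x y * h x y
  nondeg : ∀ x, (∀ y, h x y = 0) → x = 0
  iso : ∀ (g : G) (x y : V), h (g • x) (g • y) = h x y
  gq_smul : ∀ x w c, h x x = 0 → h w x = 0 → c + c * c = h w w → ∀ z,
    gq x w c • z = z + h z x • w + (h z w + c * h z x) • x
  gen : ∀ H : Subgroup G, (∀ x, h x x = 0 → gq x 0 1 ∈ H) → H = ⊤
  faithful : ∀ g : G, (∀ z : V, g • z = z) → g = 1

variable {F V G : Type*} [Field F] [AddCommGroup V] [Module F V] [Group G] [DistribMulAction G V]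

/-- the transvection `z ↦ z + h z x • x` (meaningful for `h x x = 0`) -/
def Setting.tv (S : Setting F V G) (x : V) : G := S.gq x 0 1

/-- the set underlying `Q_x = {gq x w c}` (a subgroup for isotropic `x`: `Setting.Qx`) -/
def Setting.QxSet (S : Setting F V G) (x : V) : Set G :=
  {g | ∃ w c, S.h w x = 0 ∧ c + c * c = S.h w w ∧ g = S.gq x w c}

/-- `D̃_x(H)`: the vectors `w ⊥ x` with `gq x w c ∈ H` for some `c` (an additive subgroup containing
`F x` for isotropic `x`: `Setting.Dt`). -/
def Setting.DtSet (S : Setting F V G) (H : Subgroup G) (x : V) : Set V :=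
  {w | S.h w x = 0 ∧ ∃ c, c + c * c = S.h w w ∧ S.gq x w c ∈ H}

/-- the orthogonal of a set of vectors with respect to the `F_2`-bilinear form `tr (h u v)`
(an additive subgroup: `Setting.perp`) -/
def Setting.perpSet (S : Setting F V G) (U : Set V) : Set V :=
  {v | ∀ u ∈ U, S.h u v + S.h u v * S.h u v = 0}

end Cfsg.Agent.Lib.Helper11.Su2
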