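import Mathlib
import Cfsg.Agent.Lib.Helper11.Su2Defs

/-! Helper11 library (S2153): calculus in the abstract `SU_n(2)` setting. -/

set_option autoImplicit false
set_option linter.unusedSimpArgs false
set_option linter.unusedVariables false

namespace Cfsg.Agent.Lib.Helper11.Su2

variable {F V G : Type*} [Field F] [AddCommGroup V] [Module F V] [Group G] [DistribMulAction G V]

namespace Setting

variable (S : Setting F V G)
include S

/-! ### scalars: the field with four elements -/

theorem add_self (a : F) : a + a = 0 := by linear_combination a * S.two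

theorem neg_eq (a : F) : -a = a := by linear_combination -a * S.two

theorem sub_eq (a b : F) : a - b = a + b := by linear_combination -b * S.two

theorem eq_of_add_eq_zero {a b : F} (h : a + b = 0) : a = b := by
  linear_combination h - b * S.two

theorem add_eq_zero_iff {a b : F} : a + b = 0 ↔ a = b :=
  ⟨S.eq_of_add_eq_zero, fun h => by rw [h]; exact S.add_self b⟩

theorem om_sq : S.om * S.om = S.om + 1 := by linear_combination S.hom - (S.om + 1) * S.two

theorem om_cube : S.om * S.om * S.om = 1 := by linear_combination (S.om - 1) * S.hom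

theorem om_ne_zero : S.om ≠ 0 := by
  intro h0
  have h1 := S.hom
  rw [h0] at h1
  simp at h1

theorem om_ne_one : S.om ≠ 1 := by
  intro h0
  have h1 := S.hom
  rw [h0] at h1
  have h2 : (1 : F) = 0 := by linear_combination h1 - S.two
  exact one_ne_zero h2

theorem om_add_one_ne_zero : S.om + 1 ≠ 0 := by
  intro h0
  exact S.om_ne_one (S.eq_of_add_eq_zero h0)

theorem om_add_one_ne_one : S.om + 1 ≠ 1 := by
  intro h0
  apply S.om_ne_zero
  linear_combination h0

theorem om_add_one_ne_om : S.om + 1 ≠ S.om := by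
  intro h0
  have : (1 : F) = 0 := by linear_combination h0
  exact one_ne_zero this

/-- `a^4 = a` -/
theorem frob (a : F) : a * a * (a * a) = a := by
  rcases S.h4 a with rfl | rfl | rfl | rfl
  · ring
  · ring
  · linear_combination (S.om * (S.om - 1)) * S.hom
  · linear_combination ((S.om + 1) * S.om) * S.hom + ((S.om + 1) * S.om * (S.om + 1)) * S.two

theorem cube_of_ne {a : F} (ha : a ≠ 0) : a * a * a = 1 := by
  have h1 := S.frob a
  have h2 : a * (a * a * a - 1) = 0 := by linear_combination h1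
  rcases mul_eq_zero.mp h2 with h3 | h3
  · exact absurd h3 ha
  · linear_combination h3

theorem inv_eq_sq {a : F} (ha : a ≠ 0) : a⁻¹ = a * a := by
  have := S.cube_of_ne ha
  field_simp
  linear_combination -this

/-- the trace `a + a^2` lies in the prime field -/
theorem tr_mem (a : F) : a + a * a = 0 ∨ a + a * a = 1 := by
  rcases S.h4 a with rfl | rfl | rfl | rfl
  · left; ring
  · left; linear_combination S.two
  · right; linear_combination S.hom - S.two
  · right; linear_combination S.hom + (S.om) * S.two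

theorem tr_eq_zero_iff (a : F) : a + a * a = 0 ↔ a = 0 ∨ a = 1 := by
  constructor
  · intro h0
    have h1 : a * (a + 1) = 0 := by linear_combination h0
    rcases mul_eq_zero.mp h1 with h2 | h2
    · exact Or.inl h2
    · exact Or.inr (S.eq_of_add_eq_zero h2)
  · rintro (rfl | rfl)
    · ring
    · linear_combination S.two

theorem tr_eq_one_iff (a : F) : a + a * a = 1 ↔ a = S.om ∨ a = S.om + 1 := by
  constructor
  · intro h0
    rcases S.h4 a with rfl | rfl | h1 | h1
    · exfalso; simp at h0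
    · exfalso
      have : (1 : F) = 0 := by linear_combination S.two - h0
      exact one_ne_zero this
    · exact Or.inl h1
    · exact Or.inr h1
  · rintro (rfl | rfl)
    · linear_combination S.hom - S.two
    · linear_combination S.hom + (S.om) * S.two

/-- the trace is additive -/
theorem tr_add (a b : F) : (a + b) + (a + b) * (a + b) = (a + a * a) + (b + b * b) := by
  linear_combination (a * b) * S.two

/-- the trace is invariant under conjugation -/
theorem tr_sq (a : F) : a * a + a * a * (a * a) = a + a * a := by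
  rw [S.frob]; ring

theorem exists_tr_eq {b : F} (hb : b = 0 ∨ b = 1) : ∃ c : F, c + c * c = b := by
  rcases hb with rfl | rfl
  · exact ⟨0, by ring⟩
  · exact ⟨S.om, (S.tr_eq_one_iff _).mpr (Or.inl rfl)⟩

theorem sq_inj {a b : F} (h : a * a = b * b) : a = b := by
  have h1 := S.frob a
  have h2 := S.frob b
  rw [h] at h1
  rw [← h1, h2]

/-- if `tr (c a) = 0` for all `c` then `a = 0` -/
theorem eq_zero_of_tr_mul {a : F} (h1 : a + a * a = 0) (h2 : S.om * a + S.om * a * (S.om * a) = 0) :
    a = 0 := by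
  rcases (S.tr_eq_zero_iff a).mp h1 with h | h
  · exact h
  · exfalso
    rw [h, mul_one] at h2
    rcases (S.tr_eq_zero_iff _).mp h2 with h3 | h3
    · exact S.om_ne_zero h3
    · exact S.om_ne_one h3

/-! ### vectors in characteristic 2 -/

theorem vadd_self (x : V) : x + x = 0 := by
  have h2 : (2 : F) • x = x + x := by module
  rw [← h2, S.two, zero_smul]

theorem vneg (x : V) : -x = x := by
  have := S.vadd_self x
  exact neg_eq_of_add_eq_zero_left this

theorem vsub (x y : V) : x - y = x + y := by rw [sub_eq_add_neg, S.vneg]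

theorem veq_of_add_eq_zero {x y : V} (h : x + y = 0) : x = y := by
  have := eq_neg_of_add_eq_zero_left h
  rwa [S.vneg] at this

theorem vadd_eq_zero_iff {x y : V} : x + y = 0 ↔ x = y :=
  ⟨S.veq_of_add_eq_zero, fun h => by rw [h]; exact S.vadd_self y⟩

theorem vadd_add_cancel_left (x y : V) : x + (x + y) = y := by
  rw [← add_assoc, S.vadd_self, zero_add]

theorem vadd_add_cancel_right (x y : V) : x + y + y = x := by
  rw [add_assoc, S.vadd_self, add_zero]

/-! ### the hermitian form -/

theorem h_zero_left (x : V) : S.h 0 x = 0 := by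
  have := S.h_smul_left 0 0 x
  rw [zero_smul, zero_mul] at this
  exact this

theorem h_zero_right (x : V) : S.h x 0 = 0 := by
  rw [S.h_symm 0 x, S.h_zero_left, mul_zero]

theorem h_add_right (x y z : V) : S.h x (y + z) = S.h x y + S.h x z := by
  rw [S.h_symm (y + z) x, S.h_add_left, S.h_symm y x, S.h_symm z x]
  linear_combination (S.h y x * S.h z x) * S.two

theorem h_smul_right (a : F) (x y : V) : S.h x (a • y) = a * a * S.h x y := by
  rw [S.h_symm (a • y) x, S.h_smul_left, S.h_symm y x]; ring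

theorem h_sq (x y : V) : S.h x y * S.h x y = S.h y x := (S.h_symm x y).symm

theorem h_eq_zero_symm {x y : V} (h0 : S.h x y = 0) : S.h y x = 0 := by
  rw [S.h_symm x y, h0, mul_zero]

theorem h_eq_zero_iff (x y : V) : S.h x y = 0 ↔ S.h y x = 0 :=
  ⟨S.h_eq_zero_symm, S.h_eq_zero_symm⟩

theorem h_eq_one_symm {x y : V} (h0 : S.h x y = 1) : S.h y x = 1 := by
  rw [S.h_symm x y, h0, mul_one]

theorem h_self_sq (x : V) : S.h x x * S.h x x = S.h x x := (S.h_symm x x).symm

theorem h_self_mem (x : V) : S.h x x = 0 ∨ S.h x x = 1 := by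
  have h1 := S.h_self_sq x
  have h2 : S.h x x * (S.h x x - 1) = 0 := by linear_combination h1
  rcases mul_eq_zero.mp h2 with h3 | h3
  · exact Or.inl h3
  · right; linear_combination h3

theorem h_self_eq_one_of_ne {x : V} (h0 : S.h x x ≠ 0) : S.h x x = 1 := by
  rcases S.h_self_mem x with h1 | h1
  · exact absurd h1 h0
  · exact h1

theorem h_self_add (x y : V) :
    S.h (x + y) (x + y) = S.h x x + S.h y y + (S.h x y + S.h x y * S.h x y) := by
  rw [S.h_add_left, S.h_add_right, S.h_add_right, S.h_symm x y]; ring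

theorem h_self_smul (a : F) (x : V) : S.h (a • x) (a • x) = a * a * a * S.h x x := by
  rw [S.h_smul_left, S.h_smul_right]; ring

theorem h_self_smul_of_ne {a : F} (ha : a ≠ 0) (x : V) : S.h (a • x) (a • x) = S.h x x := by
  rw [S.h_self_smul, S.cube_of_ne ha, one_mul]

/-- adding a multiple of an isotropic vector `x ⊥ w` does not change the norm of `w` -/
theorem h_self_add_smul {x w : V} (hx : S.h x x = 0) (hwx : S.h w x = 0) (a : F) :
    S.h (w + a • x) (w + a • x) = S.h w w := by
  rw [S.h_self_add, S.h_self_smul, hx, S.h_smul_right, hwx]; ring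

theorem nondeg' (x : V) (h0 : ∀ y, S.h y x = 0) : x = 0 :=
  S.nondeg x (fun y => S.h_eq_zero_symm (h0 y))

/-! ### group elements -/

theorem ext_smul {g g' : G} (H : ∀ z : V, g • z = g' • z) : g = g' := by
  have : g'⁻¹ * g = 1 := S.faithful _ (fun z => by rw [mul_smul, H z, inv_smul_smul])
  exact (inv_mul_eq_one.mp this).symm

theorem h_smul_inv (g : G) (x y : V) : S.h (g • x) y = S.h x (g⁻¹ • y) := by
  conv_lhs => rw [← smul_inv_smul g y]
  rw [S.iso]

theorem h_inv_smul (g : G) (x y : V) : S.h (g⁻¹ • x) y = S.h x (g • y) := by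
  rw [S.h_smul_inv, inv_inv]

/-- the action is `F`-linear -/
theorem smul_fsmul (p : G) (a : F) (x : V) : p • (a • x) = a • (p • x) := by
  apply S.veq_of_add_eq_zero
  apply S.nondeg
  intro y
  rw [S.h_add_left, S.h_smul_inv, S.h_smul_left, S.h_smul_left, S.h_smul_inv]
  exact S.add_self _

theorem exists_h_ne_zero {v : V} (hv : v ≠ 0) : ∃ z, S.h z v ≠ 0 := by
  by_contra hn
  push Not at hn
  exact hv (S.nondeg' v hn)

theorem exists_h_eq_one {v : V} (hv : v ≠ 0) : ∃ z, S.h z v = 1 := by
  obtain ⟨z, hz⟩ := S.exists_h_ne_zero hv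
  refine ⟨(S.h z v * S.h z v) • z, ?_⟩
  rw [S.h_smul_left]
  exact S.cube_of_ne hz

/-- double perp of a point: `(v^⊥)^⊥ = F v` -/
theorem mem_span_of_perp {v u : V} (h0 : ∀ z, S.h z v = 0 → S.h z u = 0) : ∃ a : F, u = a • v := by
  by_cases hv : v = 0
  · subst hv
    refine ⟨0, ?_⟩
    rw [zero_smul]
    apply S.nondeg'
    intro y
    exact h0 y (S.h_zero_right y)
  obtain ⟨y, hy⟩ := S.exists_h_eq_one hv
  -- `u + (h u y) • v` is perpendicular to everything
  refine ⟨S.h u y, ?_⟩
  have : u + S.h u y • v = 0 := by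
    apply S.nondeg'
    intro z
    -- decompose `z = (z + h z v • y) + h z v • y`
    have hz : S.h (z + S.h z v • y) v = 0 := by
      rw [S.h_add_left, S.h_smul_left, hy, mul_one]; exact S.add_self _
    have h1 := h0 _ hz
    rw [S.h_add_left, S.h_smul_left] at h1
    rw [S.h_add_right, S.h_smul_right, S.h_sq]
    linear_combination h1
  exact S.veq_of_add_eq_zero this

/-! ### the elements `gq x w c` -/

theorem gq_smul' {x w : V} {c : F} (hx : S.h x x = 0) (hwx : S.h w x = 0)
    (hc : c + c * c = S.h w w) (z : V) :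
    S.gq x w c • z = z + S.h z x • w + (S.h z w + c * S.h z x) • x :=
  S.gq_smul x w c hx hwx hc z

theorem gq_smul_self {x w : V} {c : F} (hx : S.h x x = 0) (hwx : S.h w x = 0)
    (hc : c + c * c = S.h w w) : S.gq x w c • x = x := by
  rw [S.gq_smul' hx hwx hc, hx, S.h_eq_zero_symm hwx]; simp

theorem gq_smul_of_perp {x w : V} {c : F} (hx : S.h x x = 0) (hwx : S.h w x = 0)
    (hc : c + c * c = S.h w w) {z : V} (hz : S.h z x = 0) :
    S.gq x w c • z = z + S.h z w • x := by
  rw [S.gq_smul' hx hwx hc, hz]; simp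

/-- `gq x w c` fixes every vector perpendicular to `x` and `w` -/
theorem gq_smul_of_perp_perp {x w : V} {c : F} (hx : S.h x x = 0) (hwx : S.h w x = 0)
    (hc : c + c * c = S.h w w) {z : V} (hz : S.h z x = 0) (hzw : S.h z w = 0) :
    S.gq x w c • z = z := by
  rw [S.gq_smul_of_perp hx hwx hc hz, hzw]; simp

/-- the norm condition for a product -/
theorem norm_add {w w' : V} {c c' : F} (hc : c + c * c = S.h w w) (hc' : c' + c' * c' = S.h w' w') :
    (c + c' + S.h w' w) + (c + c' + S.h w' w) * (c + c' + S.h w' w) = S.h (w + w') (w + w') := by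
  rw [S.h_self_add, S.h_symm w w']
  linear_combination hc + hc' + S.frob (S.h w w') +
    (c * c' + c * (S.h w w' * S.h w w') + c' * (S.h w w' * S.h w w')) * S.two

/-- composition law in `Q_x` -/
theorem gq_mul {x w w' : V} {c c' : F} (hx : S.h x x = 0) (hwx : S.h w x = 0) (hwx' : S.h w' x = 0)
    (hc : c + c * c = S.h w w) (hc' : c' + c' * c' = S.h w' w') :
    S.gq x w c * S.gq x w' c' = S.gq x (w + w') (c + c' + S.h w' w) := by
  have hs : S.h (w + w') x = 0 := by rw [S.h_add_left, hwx, hwx', add_zero]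
  have hxw : S.h x w = 0 := S.h_eq_zero_symm hwx
  apply S.ext_smul
  intro z
  rw [mul_smul, S.gq_smul' hx hwx' hc', S.gq_smul' hx hwx hc, S.gq_smul' hx hs (S.norm_add hc hc')]
  simp only [S.h_add_left, S.h_add_right, S.h_smul_left, hx, hwx, hwx', hxw, mul_zero, add_zero]
  module

theorem gq_zero {x : V} (hx : S.h x x = 0) : S.gq x 0 0 = 1 := by
  apply S.faithful
  intro z
  rw [S.gq_smul' hx (S.h_zero_left x) (by rw [S.h_zero_left]; ring)]
  simp [S.h_zero_right]

theorem norm_smul_self {x : V} (hx : S.h x x = 0) (a : F) :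
    (a + a * a) + (a + a * a) * (a + a * a) = S.h (a • x) (a • x) := by
  rw [S.h_self_smul, hx, mul_zero]
  rcases S.tr_mem a with h0 | h0 <;> rw [h0]
  · ring
  · linear_combination S.two

theorem gq_smul_self_right {x : V} (hx : S.h x x = 0) (a : F) : S.gq x (a • x) (a + a * a) = 1 := by
  have h1 : S.h (a • x) x = 0 := by rw [S.h_smul_left, hx, mul_zero]
  apply S.faithful
  intro z
  rw [S.gq_smul' hx h1 (S.norm_smul_self hx a), S.h_smul_right]
  linear_combination (norm := module) (a * S.h z x * S.two) • x + (a * a * S.h z x * S.two) • x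

theorem gq_add_smul {x w : V} {c : F} (hx : S.h x x = 0) (hwx : S.h w x = 0)
    (hc : c + c * c = S.h w w) (a : F) : S.gq x (w + a • x) (c + (a + a * a)) = S.gq x w c := by
  have h1 : S.h (a • x) x = 0 := by rw [S.h_smul_left, hx, mul_zero]
  have h2 := S.gq_mul hx hwx h1 hc (S.norm_smul_self hx a)
  rw [S.gq_smul_self_right hx, mul_one, S.h_smul_left, S.h_eq_zero_symm hwx, mul_zero, add_zero] at h2
  exact h2.symm

theorem norm_sq {w : V} {c : F} (hc : c + c * c = S.h w w) : c * c + c * c * (c * c) = S.h w w := by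
  rw [S.tr_sq, hc]

theorem gq_inv {x w : V} {c : F} (hx : S.h x x = 0) (hwx : S.h w x = 0)
    (hc : c + c * c = S.h w w) : (S.gq x w c)⁻¹ = S.gq x w (c * c) := by
  apply inv_eq_of_mul_eq_one_right
  rw [S.gq_mul hx hwx hwx hc (S.norm_sq hc), S.vadd_self]
  have : c + c * c + S.h w w = 0 := by rw [hc]; exact S.add_self _
  rw [this, S.gq_zero hx]

theorem gq_sq {x w : V} {c : F} (hx : S.h x x = 0) (hwx : S.h w x = 0)
    (hc : c + c * c = S.h w w) : S.gq x w c * S.gq x w c = S.gq x 0 (S.h w w) := by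
  rw [S.gq_mul hx hwx hwx hc hc, S.vadd_self, S.add_self, zero_add]

/-- commutator formula in `Q_x` -/
theorem gq_mul_comm {x w w' : V} {c c' : F} (hx : S.h x x = 0) (hwx : S.h w x = 0)
    (hwx' : S.h w' x = 0) (hc : c + c * c = S.h w w) (hc' : c' + c' * c' = S.h w' w') :
    S.gq x w c * S.gq x w' c' =
      S.gq x w' c' * S.gq x w c * S.gq x 0 (S.h w w' + S.h w w' * S.h w w') := by
  have hs : S.h (w' + w) x = 0 := by rw [S.h_add_left, hwx, hwx', add_zero]
  have ht : (S.h w w' + S.h w w' * S.h w w') + (S.h w w' + S.h w w' * S.h w w') *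
      (S.h w w' + S.h w w' * S.h w w') = S.h (0 : V) 0 := by
    rw [S.h_zero_left]
    rcases S.tr_mem (S.h w w') with h0 | h0 <;> rw [h0]
    · ring
    · linear_combination S.two
  rw [S.gq_mul hx hwx hwx' hc hc', S.gq_mul hx hwx' hwx hc' hc,
    S.gq_mul hx hs (S.h_zero_left x) (S.norm_add hc' hc) ht, add_zero, S.h_zero_left, add_zero,
    add_comm w' w, S.h_symm w w']
  congr 1
  linear_combination (-(S.h w w')) * S.two

/-- conjugation -/
theorem conj_gq (p : G) {x w : V} {c : F} (hx : S.h x x = 0) (hwx : S.h w x = 0)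
    (hc : c + c * c = S.h w w) : p * S.gq x w c * p⁻¹ = S.gq (p • x) (p • w) c := by
  have hpx : S.h (p • x) (p • x) = 0 := by rw [S.iso, hx]
  have hpw : S.h (p • w) (p • x) = 0 := by rw [S.iso, hwx]
  have hpc : c + c * c = S.h (p • w) (p • w) := by rw [S.iso, hc]
  apply S.ext_smul
  intro z
  rw [mul_smul, mul_smul, S.gq_smul' hx hwx hc, S.gq_smul' hpx hpw hpc]
  simp only [smul_add, smul_inv_smul, S.smul_fsmul, S.h_inv_smul]

/-- for perpendicular isotropic vectors `x, y`: `gq x y 0 = gq y x 0` -/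
theorem gq_swap {x y : V} (hx : S.h x x = 0) (hy : S.h y y = 0) (hxy : S.h x y = 0) :
    S.gq x y 0 = S.gq y x 0 := by
  have hyx : S.h y x = 0 := S.h_eq_zero_symm hxy
  apply S.ext_smul
  intro z
  rw [S.gq_smul' hx hyx (by rw [hy]; ring), S.gq_smul' hy hxy (by rw [hx]; ring)]
  simp only [zero_mul, add_zero]
  module

/-- transitivity tool: if `a, a'` have the same norm and the isotropic vector `u` has
`h a u = h a' u = 1`, then `gq u (a + a') (h a a + h a a')` maps `a` to `a'` (and fixes everything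
perpendicular to `u` and `a + a'`). -/
theorem gq_trans_perp {u a a' : V} (h1 : S.h a u = 1) (h2 : S.h a' u = 1) : S.h (a + a') u = 0 := by
  rw [S.h_add_left, h1, h2]; exact S.add_self 1

theorem gq_trans_norm {a a' : V} (hN : S.h a a = S.h a' a') :
    (S.h a a + S.h a a') + (S.h a a + S.h a a') * (S.h a a + S.h a a') =
      S.h (a + a') (a + a') := by
  rw [S.h_self_add, ← hN]
  linear_combination S.h_self_sq a + (S.h a a * S.h a a') * S.two

theorem gq_trans {u a a' : V} (hu : S.h u u = 0) (hN : S.h a a = S.h a' a') (h1 : S.h a u = 1)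
    (h2 : S.h a' u = 1) : S.gq u (a + a') (S.h a a + S.h a a') • a = a' := by
  rw [S.gq_smul' hu (S.gq_trans_perp h1 h2) (S.gq_trans_norm hN), h1, S.h_add_right]
  linear_combination (norm := module) (S.two) • a + ((S.h a a + S.h a a') * S.two) • u

/-- when `gq x w c` is trivial -/
theorem gq_eq_one_iff {x w : V} {c : F} (hx0 : x ≠ 0) (hx : S.h x x = 0) (hwx : S.h w x = 0)
    (hc : c + c * c = S.h w w) : S.gq x w c = 1 ↔ ∃ a : F, w = a • x ∧ c = a + a * a := by
  constructor
  · intro he
    have h1 : ∃ a : F, w = a • x := by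
      apply S.mem_span_of_perp
      intro z hz
      have h1 := S.gq_smul_of_perp hx hwx hc hz
      rw [he, one_smul] at h1
      by_contra hne
      have h2 : S.h z w • x = 0 := by
        have := h1.symm
        rwa [add_eq_left] at this
      rcases smul_eq_zero.mp h2 with h3 | h3
      · exact hne h3
      · exact hx0 h3
    obtain ⟨a, rfl⟩ := h1
    refine ⟨a, rfl, ?_⟩
    have h2 := S.gq_add_smul hx hwx hc a
    rw [S.vadd_self, he] at h2
    -- `gq x 0 (c + (a + a*a)) = 1`
    obtain ⟨y, hy⟩ := S.exists_h_eq_one hx0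
    have h0 : (c + (a + a * a)) + (c + (a + a * a)) * (c + (a + a * a)) = S.h (0 : V) 0 := by
      rw [S.h_zero_left]
      have := S.norm_smul_self hx a
      rw [← hc] at this
      linear_combination this + (c + c * c + c * (a + a * a)) * S.two
    have h3 := S.gq_smul' hx (S.h_zero_left x) h0 y
    rw [h2, one_smul, hy, S.h_zero_right] at h3
    have h4 : (c + (a + a * a)) • x = 0 := by
      have h5 : y = y + (c + (a + a * a)) • x := by
        simpa using h3
      have := h5.symm
      rwa [add_eq_left] at this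
    rcases smul_eq_zero.mp h4 with h5 | h5
    · exact S.eq_of_add_eq_zero h5
    · exact absurd h5 hx0
  · rintro ⟨a, rfl, rfl⟩
    exact S.gq_smul_self_right hx a

theorem gq_eq_gq_iff {x w w' : V} {c c' : F} (hx0 : x ≠ 0) (hx : S.h x x = 0) (hwx : S.h w x = 0)
    (hwx' : S.h w' x = 0) (hc : c + c * c = S.h w w) (hc' : c' + c' * c' = S.h w' w') :
    S.gq x w c = S.gq x w' c' ↔ ∃ a : F, w' = w + a • x ∧ c' = c + (a + a * a) := by
  constructor
  · intro he
    have h1 : S.gq x w (c * c) * S.gq x w' c' = 1 := by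
      rw [← S.gq_inv hx hwx hc, he, inv_mul_cancel]
    rw [S.gq_mul hx hwx hwx' (S.norm_sq hc) hc'] at h1
    have hs : S.h (w + w') x = 0 := by rw [S.h_add_left, hwx, hwx', add_zero]
    obtain ⟨a, ha1, ha2⟩ := (S.gq_eq_one_iff hx0 hx hs (S.norm_add (S.norm_sq hc) hc')).mp h1
    refine ⟨a, ?_, ?_⟩
    · rw [← ha1, S.vadd_add_cancel_left]
    · -- `c*c + c' + h w' w = a + a*a`, and `h w' w = h w w + ...`
      have h3 : S.h w' w = S.h w w := by
        have : w' = w + a • x := by rw [← ha1, S.vadd_add_cancel_left]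
        rw [this, S.h_add_left, S.h_smul_left, S.h_eq_zero_symm hwx, mul_zero, add_zero]
      rw [h3, ← hc] at ha2
      linear_combination ha2 - (c + c * c) * S.two
  · rintro ⟨a, rfl, rfl⟩
    exact (S.gq_add_smul hx hwx hc a).symm

/-! ### transvections -/

theorem tv_def (x : V) : S.tv x = S.gq x 0 1 := rfl

theorem norm_one_zero : (1 : F) + 1 * 1 = S.h (0 : V) 0 := by
  rw [S.h_zero_left]; linear_combination S.two

theorem tv_smul {x : V} (hx : S.h x x = 0) (z : V) : S.tv x • z = z + S.h z x • x := by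
  rw [S.tv_def, S.gq_smul' hx (S.h_zero_left x) S.norm_one_zero, S.h_zero_right]
  simp

theorem tv_zero : S.tv (0 : V) = 1 := by
  apply S.faithful
  intro z
  rw [S.tv_smul (S.h_zero_left 0)]; simp

theorem tv_mul_self {x : V} (hx : S.h x x = 0) : S.tv x * S.tv x = 1 := by
  rw [S.tv_def, S.gq_sq hx (S.h_zero_left x) S.norm_one_zero, S.h_zero_left, S.gq_zero hx]

theorem tv_inv {x : V} (hx : S.h x x = 0) : (S.tv x)⁻¹ = S.tv x :=
  inv_eq_of_mul_eq_one_right (S.tv_mul_self hx)

theorem tv_smul_left {x : V} (hx : S.h x x = 0) {a : F} (ha : a ≠ 0) : S.tv (a • x) = S.tv x := by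
  have hax : S.h (a • x) (a • x) = 0 := by rw [S.h_self_smul, hx, mul_zero]
  apply S.ext_smul
  intro z
  rw [S.tv_smul hax, S.tv_smul hx, S.h_smul_right, smul_smul]
  have : a * a * S.h z x * a = S.h z x := by
    have := S.cube_of_ne ha
    linear_combination (S.h z x) * this
  rw [this]

theorem conj_tv (p : G) {x : V} (hx : S.h x x = 0) : p * S.tv x * p⁻¹ = S.tv (p • x) := by
  rw [S.tv_def, S.conj_gq p hx (S.h_zero_left x) S.norm_one_zero, smul_zero, S.tv_def]

theorem tv_ne_one {x : V} (hx0 : x ≠ 0) (hx : S.h x x = 0) : S.tv x ≠ 1 := by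
  intro he
  obtain ⟨a, ha1, ha2⟩ := (S.gq_eq_one_iff hx0 hx (S.h_zero_left x) S.norm_one_zero).mp he
  have ha0 : a = 0 := by
    rcases smul_eq_zero.mp ha1.symm with h0 | h0
    · exact h0
    · exact absurd h0 hx0
  rw [ha0] at ha2
  simp at ha2

/-- `gq x w c * tv x = gq x w (c + 1)` -/
theorem gq_mul_tv {x w : V} {c : F} (hx : S.h x x = 0) (hwx : S.h w x = 0)
    (hc : c + c * c = S.h w w) : S.gq x w c * S.tv x = S.gq x w (c + 1) := by
  rw [S.tv_def, S.gq_mul hx hwx (S.h_zero_left x) hc S.norm_one_zero, add_zero, S.h_zero_left,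
    add_zero]

theorem norm_add_one {w : V} {c : F} (hc : c + c * c = S.h w w) :
    (c + 1) + (c + 1) * (c + 1) = S.h w w := by
  rw [← hc]; linear_combination (c + 1) * S.two

/-- the two admissible values of `c` for a given `w` -/
theorem norm_unique {w : V} {c c' : F} (hc : c + c * c = S.h w w) (hc' : c' + c' * c' = S.h w w) :
    c' = c ∨ c' = c + 1 := by
  have h1 : (c + c') + (c + c') * (c + c') = 0 := by
    rw [S.tr_add, hc, hc']; exact S.add_self _
  rcases (S.tr_eq_zero_iff _).mp h1 with h2 | h2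
  · left; exact (S.eq_of_add_eq_zero h2).symm
  · right; linear_combination h2 - c * S.two

/-! ### the subgroup `Q_x` -/

/-- `Q_x` as a subgroup (for isotropic `x`) -/
def Qx {x : V} (hx : S.h x x = 0) : Subgroup G where
  carrier := S.QxSet x
  mul_mem' := by
    rintro _ _ ⟨w, c, hw, hc, rfl⟩ ⟨w', c', hw', hc', rfl⟩
    exact ⟨w + w', c + c' + S.h w' w, by rw [S.h_add_left, hw, hw', add_zero], S.norm_add hc hc',
      S.gq_mul hx hw hw' hc hc'⟩
  one_mem' := ⟨0, 0, S.h_zero_left x, by rw [S.h_zero_left]; ring, (S.gq_zero hx).symm⟩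
  inv_mem' := by
    rintro _ ⟨w, c, hw, hc, rfl⟩
    exact ⟨w, c * c, hw, S.norm_sq hc, S.gq_inv hx hw hc⟩

theorem mem_Qx {x : V} (hx : S.h x x = 0) {g : G} :
    g ∈ S.Qx hx ↔ ∃ w c, S.h w x = 0 ∧ c + c * c = S.h w w ∧ g = S.gq x w c := Iff.rfl

theorem gq_mem_Qx {x w : V} {c : F} (hx : S.h x x = 0) (hw : S.h w x = 0)
    (hc : c + c * c = S.h w w) : S.gq x w c ∈ S.Qx hx := ⟨w, c, hw, hc, rfl⟩

theorem tv_mem_Qx {x : V} (hx : S.h x x = 0) : S.tv x ∈ S.Qx hx :=
  S.gq_mem_Qx hx (S.h_zero_left x) S.norm_one_zero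

theorem Qx_le_stabilizer {x : V} (hx : S.h x x = 0) : S.Qx hx ≤ MulAction.stabilizer G x := by
  rintro _ ⟨w, c, hw, hc, rfl⟩
  exact S.gq_smul_self hx hw hc

theorem stabilizer_le_normalizer_Qx {x : V} (hx : S.h x x = 0) :
    MulAction.stabilizer G x ≤ Subgroup.normalizer (S.Qx hx : Set G) := by
  intro p hp
  have hpx : p • x = x := hp
  have hpx' : p⁻¹ • x = x := by rw [inv_smul_eq_iff, hpx]
  rw [Subgroup.mem_normalizer_iff]
  intro g
  constructor
  · rintro ⟨w, c, hw, hc, rfl⟩
    have := S.conj_gq p hx hw hc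
    rw [hpx] at this
    rw [this]
    exact S.gq_mem_Qx hx (by rw [← hpx, S.iso, hw]) (by rw [S.iso, hc])
  · intro hg
    obtain ⟨w, c, hw, hc, he⟩ := hg
    have : g = p⁻¹ * S.gq x w c * p⁻¹⁻¹ := by rw [← he]; group
    rw [this, S.conj_gq p⁻¹ hx hw hc, hpx']
    exact S.gq_mem_Qx hx (by rw [← hpx', S.iso, hw]) (by rw [S.iso, hc])

/-- conjugating `Q_x` by `p` gives `Q_{p x}` -/
theorem conj_mem_Qx (p : G) {x : V} (hx : S.h x x = 0) {g : G} (hg : g ∈ S.Qx hx) :
    p * g * p⁻¹ ∈ S.Qx (x := p • x) (by rw [S.iso, hx]) := by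
  obtain ⟨w, c, hw, hc, rfl⟩ := hg
  rw [S.conj_gq p hx hw hc]
  exact ⟨p • w, c, by rw [S.iso, hw], by rw [S.iso, hc], rfl⟩

/-! ### the additive subgroup `D̃_x(H)` -/

/-- `D̃_x(H)` as an additive subgroup (for isotropic `x`) -/
def Dt (H : Subgroup G) {x : V} (hx : S.h x x = 0) : AddSubgroup V where
  carrier := S.DtSet H x
  add_mem' := by
    rintro w w' ⟨hw, c, hc, hm⟩ ⟨hw', c', hc', hm'⟩
    refine ⟨by rw [S.h_add_left, hw, hw', add_zero], c + c' + S.h w' w, S.norm_add hc hc', ?_⟩
    rw [← S.gq_mul hx hw hw' hc hc']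
    exact H.mul_mem hm hm'
  zero_mem' := ⟨S.h_zero_left x, 0, by rw [S.h_zero_left]; ring, by
    rw [S.gq_zero hx]; exact H.one_mem⟩
  neg_mem' := by
    intro w hw
    rw [S.vneg]; exact hw

theorem mem_Dt {H : Subgroup G} {x w : V} (hx : S.h x x = 0) :
    w ∈ S.Dt H hx ↔ S.h w x = 0 ∧ ∃ c, c + c * c = S.h w w ∧ S.gq x w c ∈ H := Iff.rfl

theorem smul_self_mem_Dt (H : Subgroup G) {x : V} (hx : S.h x x = 0) (a : F) :
    a • x ∈ S.Dt H hx := by
  refine ⟨by rw [S.h_smul_left, hx, mul_zero], a + a * a, S.norm_smul_self hx a, ?_⟩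
  rw [S.gq_smul_self_right hx]; exact H.one_mem

theorem smul_mem_Dt {H : Subgroup G} {x w : V} (hx : S.h x x = 0) {p : G} (hp : p ∈ H)
    (hpx : p • x = x) (hw : w ∈ S.Dt H hx) : p • w ∈ S.Dt H hx := by
  obtain ⟨hwx, c, hc, hm⟩ := hw
  refine ⟨by rw [← hpx, S.iso, hwx], c, by rw [S.iso, hc], ?_⟩
  have := S.conj_gq p hx hwx hc
  rw [hpx] at this
  rw [← this]
  exact H.mul_mem (H.mul_mem hp hm) (H.inv_mem hp)

theorem Dt_le_perp {H : Subgroup G} {x : V} (hx : S.h x x = 0) :
    ∀ u ∈ S.Dt H hx, S.h u x = 0 := fun _ hu => hu.1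

/-- if `tv x ∉ H` then `D̃_x(H)` consists of isotropic vectors -/
theorem h_self_of_mem_Dt {H : Subgroup G} {x w : V} (hx : S.h x x = 0) (hH : S.tv x ∉ H)
    (hw : w ∈ S.Dt H hx) : S.h w w = 0 := by
  obtain ⟨hwx, c, hc, hm⟩ := hw
  rcases S.h_self_mem w with h0 | h1
  · exact h0
  · exfalso
    apply hH
    have := S.gq_sq hx hwx hc
    rw [h1] at this
    rw [S.tv_def, ← this]
    exact H.mul_mem hm hm

/-- `Q_x` fixes `x^⊥` modulo `F x`, hence stabilises every additive subgroup `F x ⊆ U ⊆ x^⊥` -/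
theorem gq_smul_mem {x w : V} {c : F} (hx : S.h x x = 0) (hw : S.h w x = 0)
    (hc : c + c * c = S.h w w) {U : AddSubgroup V} (hxU : ∀ a : F, a • x ∈ U)
    (hU : ∀ u ∈ U, S.h u x = 0) {u : V} (hu : u ∈ U) : S.gq x w c • u ∈ U := by
  rw [S.gq_smul_of_perp hx hw hc (hU u hu)]
  exact U.add_mem hu (hxU _)

/-! ### orthogonals with respect to the trace form -/

/-- the orthogonal of an additive subgroup with respect to `tr (h u v)` -/
def perp (U : AddSubgroup V) : AddSubgroup V where
  carrier := S.perpSet (U : Set V)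
  add_mem' := by
    intro v v' hv hv' u hu
    rw [S.h_add_right, S.tr_add, hv u hu, hv' u hu, add_zero]
  zero_mem' := by
    intro u _
    rw [S.h_zero_right]; ring
  neg_mem' := by
    intro v hv
    rw [S.vneg]; exact hv

theorem mem_perp {U : AddSubgroup V} {v : V} :
    v ∈ S.perp U ↔ ∀ u ∈ U, S.h u v + S.h u v * S.h u v = 0 := Iff.rfl

/-- the trace form is symmetric -/
theorem tr_h_symm (u v : V) : S.h v u + S.h v u * S.h v u = S.h u v + S.h u v * S.h u v := by
  rw [S.h_symm u v, S.frob]; ring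

theorem le_perp_perp (U : AddSubgroup V) : U ≤ S.perp (S.perp U) := by
  intro u hu v hv
  rw [S.tr_h_symm]
  exact hv u hu

theorem perp_anti {U U' : AddSubgroup V} (hUU : U ≤ U') : S.perp U' ≤ S.perp U :=
  fun _ hv u hu => hv u (hUU hu)

/-- if `U` is closed under multiplication by `om`, membership in `perp U` means `h u v = 0` -/
theorem h_eq_zero_of_mem_perp {U : AddSubgroup V} (hU : ∀ u ∈ U, S.om • u ∈ U) {u v : V}
    (hu : u ∈ U) (hv : v ∈ S.perp U) : S.h u v = 0 := by
  apply S.eq_zero_of_tr_mul (hv u hu)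
  have := hv _ (hU u hu)
  rwa [S.h_smul_left] at this

/-- a group element stabilising `U` stabilises `perp U` -/
theorem smul_mem_perp {U : AddSubgroup V} {p : G} (hp : ∀ u ∈ U, p⁻¹ • u ∈ U) {v : V}
    (hv : v ∈ S.perp U) : p • v ∈ S.perp U := by
  intro u hu
  rw [← S.h_inv_smul]
  exact hv _ (hp u hu)

end Setting

end Cfsg.Agent.Lib.Helper11.Su2
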