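import Mathlib
import Cfsg.Agent.Lib.Helper11.Su2Calc
import Cfsg.Agent.Lib.Helper1.Sp2G

/-! Helper11 library (S2153): counting with perps, the stabiliser bound and a few geometric tools in the
abstract `SU_n(2)` setting. -/

set_option autoImplicit false

namespace Cfsg.Agent.Lib.Helper11.Su2

open MulAction Pointwise Cfsg.Agent.Lib.Helper1.Sp2Leaf

variable {F V G : Type*} [Field F] [AddCommGroup V] [Module F V] [Group G] [DistribMulAction G V]

namespace Setting

variable (S : Setting F V G)

include S in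
theorem finite_F : Finite F := by
  have h : (Set.univ : Set F) ⊆ {0, 1, S.om, S.om + 1} := by
    intro a _
    rcases S.h4 a with h | h | h | h <;> simp [h]
  exact Set.finite_univ_iff.mp ((Set.toFinite ({0, 1, S.om, S.om + 1} : Set F)).subset h)

include S in
theorem natCard_F : Nat.card F = 4 := by
  classical
  have : Finite F := S.finite_F
  have : Fintype F := Fintype.ofFinite F
  rw [Nat.card_eq_fintype_card]
  have huniv : (Finset.univ : Finset F) = {0, 1, S.om, S.om + 1} := by
    ext a
    rcases S.h4 a with h | h | h | h <;> simp [h]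
  rw [← Finset.card_univ, huniv, Finset.card_insert_of_notMem, Finset.card_insert_of_notMem,
    Finset.card_insert_of_notMem, Finset.card_singleton]
  · simp only [Finset.mem_singleton]
    exact fun h => S.om_add_one_ne_om h.symm
  · simp only [Finset.mem_insert, Finset.mem_singleton, not_or]
    exact ⟨fun h => S.om_ne_one h.symm, fun h => S.om_add_one_ne_one h.symm⟩
  · simp only [Finset.mem_insert, Finset.mem_singleton, not_or]
    exact ⟨zero_ne_one, fun h => S.om_ne_zero h.symm, fun h => S.om_add_one_ne_zero h.symm⟩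

/-- P4: a point perp has index four -/
theorem four_mul_card_perp [Finite V] {v : V} (hv : v ≠ 0) :
    4 * Nat.card {z : V // S.h z v = 0} = Nat.card V := by
  classical
  have : Finite F := S.finite_F
  obtain ⟨z0, hz0⟩ := S.exists_h_eq_one hv
  let e : V ≃ {z : V // S.h z v = 0} × F :=
    { toFun := fun z => (⟨z + S.h z v • z0, by
        rw [S.h_add_left, S.h_smul_left, hz0, mul_one]; exact S.add_self _⟩, S.h z v)
      invFun := fun p => p.1.1 + p.2 • z0
      left_inv := by
        intro z
        simp only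
        exact S.vadd_add_cancel_right _ _
      right_inv := by
        rintro ⟨⟨w, hw⟩, c⟩
        have hc : S.h (w + c • z0) v = c := by
          rw [S.h_add_left, S.h_smul_left, hz0, mul_one, hw, zero_add]
        apply Prod.ext
        · apply Subtype.ext
          simp only
          rw [hc]; exact S.vadd_add_cancel_right _ _
        · simp only
          exact hc }
  rw [Nat.card_congr e, Nat.card_prod, S.natCard_F, mul_comm]

/-- `(H ⊓ K).relIndex Q = H.relIndex Q` for `Q ≤ K` -/
theorem inf_relIndex_of_le {G : Type*} [Group G] (H K Q : Subgroup G) (hQK : Q ≤ K) :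
    (H ⊓ K).relIndex Q = H.relIndex Q := by
  rw [← Subgroup.relIndex_inf_mul_relIndex, Subgroup.relIndex_eq_one.mpr hQK, mul_one,
    inf_eq_right.mpr hQK]

/-- general bound: `|G_x : Stab_{G_x}(U)| · |Q_x : H ∩ Q_x| ≤ |G_x : G_x ∩ H|` for an `H ∩ G_x`-invariant
additive subgroup `F x ⊆ U ⊆ x^⊥` -/
theorem stab_bound [Finite G] (H : Subgroup G) {x : V} (hx : S.h x x = 0) (U : AddSubgroup V)
    (hxU : ∀ a : F, a • x ∈ U) (hU : ∀ u ∈ U, S.h u x = 0)
    (hinv : ∀ p ∈ H, p • x = x → ∀ u ∈ U, p • u ∈ U) :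
    (stabilizer G (U : Set V)).relIndex (stabilizer G x) * H.relIndex (S.Qx hx)
      ≤ H.relIndex (stabilizer G x) := by
  have key := relIndex_mul_relIndex_le (stabilizer G x) (stabilizer G (U : Set V) ⊓ stabilizer G x)
    (H ⊓ stabilizer G x) (S.Qx hx) ?_ ?_ inf_le_right
    (inf_le_right.trans (S.stabilizer_le_normalizer_Qx hx))
  · rwa [Subgroup.inf_relIndex_right, Subgroup.inf_relIndex_right,
      inf_relIndex_of_le _ _ _ (S.Qx_le_stabilizer hx)] at key
  · rintro p ⟨hpH, hpx⟩
    refine ⟨?_, hpx⟩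
    have hpx' : p • x = x := hpx
    show p ∈ stabilizer G (U : Set V)
    rw [mem_stabilizer_set]
    intro b
    constructor
    · intro hb
      have h1 := hinv p⁻¹ (H.inv_mem hpH) (by rw [inv_smul_eq_iff, hpx']) _ hb
      rwa [inv_smul_smul] at h1
    · exact hinv p hpH hpx' b
  · intro g hg
    refine ⟨?_, S.Qx_le_stabilizer hx hg⟩
    have hstep : ∀ g' ∈ S.Qx hx, ∀ u ∈ U, g' • u ∈ U := by
      rintro _ ⟨w, c, hw, hc, rfl⟩ u hu
      exact S.gq_smul_mem hx hw hc hxU hU hu
    show g ∈ stabilizer G (U : Set V)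
    rw [mem_stabilizer_set]
    intro b
    constructor
    · intro hb
      have h1 := hstep g⁻¹ ((S.Qx hx).inv_mem hg) _ hb
      rwa [inv_smul_smul] at h1
    · exact hstep g hg b

/-- `relIndex` in a point stabiliser is at most the index -/
theorem relIndex_stabilizer_le [Finite G] (H : Subgroup G) (v : V) :
    H.relIndex (stabilizer G v) ≤ H.index := by
  have hidx : H.index ≠ 0 := Subgroup.index_ne_zero_of_finite
  have := Subgroup.relIndex_le_of_le_right (H := H) (le_top : stabilizer G v ≤ ⊤)
    (by rw [Subgroup.relIndex_top_right]; exact hidx)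
  rwa [Subgroup.relIndex_top_right] at this

/-- QT: if `Q_u ≤ H`, `tv u' ∈ H` and the isotropic vectors `u'`, `x0` are both not perpendicular to
`u`, then `tv x0 ∈ H`. -/
theorem tv_mem_of_Qx_le {H : Subgroup G} {u u' x0 : V} (hu : S.h u u = 0) (hu' : S.h u' u' = 0)
    (hx0 : S.h x0 x0 = 0) (hQ : S.Qx hu ≤ H) (htv : S.tv u' ∈ H) (h1 : S.h u' u ≠ 0)
    (h2 : S.h x0 u ≠ 0) : S.tv x0 ∈ H := by
  -- rescale
  set a := S.h u' u * S.h u' u with ha
  set b := S.h x0 u * S.h x0 u with hb
  have ha0 : a ≠ 0 := mul_ne_zero h1 h1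
  have hb0 : b ≠ 0 := mul_ne_zero h2 h2
  have e1 : S.h (a • u') u = 1 := by rw [S.h_smul_left, ha]; exact S.cube_of_ne h1
  have e2 : S.h (b • x0) u = 1 := by rw [S.h_smul_left, hb]; exact S.cube_of_ne h2
  have n1 : S.h (a • u') (a • u') = 0 := by rw [S.h_self_smul, hu', mul_zero]
  have n2 : S.h (b • x0) (b • x0) = 0 := by rw [S.h_self_smul, hx0, mul_zero]
  have hN : S.h (a • u') (a • u') = S.h (b • x0) (b • x0) := by rw [n1, n2]
  have htr := S.gq_trans hu hN e1 e2
  set g := S.gq u (a • u' + b • x0) (S.h (a • u') (a • u') + S.h (a • u') (b • x0)) with hg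
  have hgH : g ∈ H := hQ (S.gq_mem_Qx hu (S.gq_trans_perp e1 e2) (S.gq_trans_norm hN))
  have h3 := S.conj_tv g n1
  rw [htr, S.tv_smul_left hu' ha0, S.tv_smul_left hx0 hb0] at h3
  rw [← h3]
  exact H.mul_mem (H.mul_mem hgH htv) (H.inv_mem hgH)

/-- the orbit formula: if `H` is transitive on the `G`-orbit of `x`, then `|G_x : G_x ∩ H| = |G : H|` -/
theorem relIndex_eq_index_of_transitive [Finite G] (H : Subgroup G) (x : V)
    (htr : ∀ g : G, ∃ p ∈ H, p • x = g • x) : H.relIndex (stabilizer G x) = H.index := by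
  have h1 := relIndex_stabilizer_mul_ncard_orbit H x
  have h2 : orbit H x = orbit G x := by
    ext y
    constructor
    · rintro ⟨p, rfl⟩
      exact ⟨(p : G), rfl⟩
    · rintro ⟨g, rfl⟩
      obtain ⟨p, hp, he⟩ := htr g
      exact ⟨⟨p, hp⟩, he⟩
  rw [h2] at h1
  have hfin : (orbit G x).Finite := Set.finite_range _
  have hpos : 0 < (orbit G x).ncard := by
    rw [Set.ncard_pos hfin]
    exact ⟨x, MulAction.mem_orbit_self x⟩
  exact Nat.eq_of_mul_eq_mul_right hpos h1

end Setting

end Cfsg.Agent.Lib.Helper11.Su2
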