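import Mathlib
import Cfsg.Agent.Lib.Helper11.Su2Tools
import Cfsg.Agent.Lib.Helper13.Su2S3A
import Cfsg.Agent.Lib.Helper24.Su2S3B
import Cfsg.Agent.Lib.Helper26.Su2S3D
import Cfsg.Agent.Lib.Helper15.Su2QR
import Cfsg.Agent.Lib.Helper26.Su2S3C

/-! Helper11 library (S2153): the regular case is impossible (assembly of the leaves S3A - S3D, QR). -/

set_option autoImplicit false

namespace Cfsg.Agent.Lib.Helper11.Su2

open MulAction Pointwise
open Cfsg.Agent.Lib.Helper13.Su2Leaf (exists_involution)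
open Cfsg.Agent.Lib.Helper24.Su2Leaf (card_fixed_eq_card_centralizer)
open Cfsg.Agent.Lib.Helper26.Su2Leaf (involution_cases)
open Cfsg.Agent.Lib.Helper15.Su2Leaf (card_Qx)
open Cfsg.Agent.Lib.Helper26.Su2Leaf (card_centralizer_Qx_zero card_centralizer_Qx_one)

variable {F V G : Type*} [Field F] [AddCommGroup V] [Module F V] [Group G] [DistribMulAction G V]
variable (S : Setting F V G)

/-- for an involution `τ`, the vector `τ z + z` is isotropic -/
theorem h_self_tau {τ : G} (hτ : τ * τ = 1) (z : V) : S.h (τ • z + z) (τ • z + z) = 0 := by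
  have hinv : τ⁻¹ = τ := inv_eq_of_mul_eq_one_right hτ
  have h1 : S.h (τ • z) z = S.h z (τ • z) := by
    rw [S.h_smul_inv, hinv]
  have h2 : S.h z (τ • z) = S.h (τ • z) z * S.h (τ • z) z := S.h_symm (τ • z) z
  rw [S.h_self_add, S.iso, ← h2, ← h1, S.add_self, zero_add, S.add_self]

omit [Field F] [Module F V] in
/-- an involution `τ` fixes `τ z + z` -/
theorem tau_smul_tau {τ : G} (hτ : τ * τ = 1) (z : V) : τ • (τ • z + z) = τ • z + z := by
  rw [smul_add, ← mul_smul, hτ, one_smul, add_comm]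

theorem pow_arith_Qx {n c : ℕ} (hn : 6 ≤ n) (hc : 2 * c = 4 ^ (n - 1)) : c = 2 ^ (2 * n - 3) := by
  obtain ⟨k, rfl⟩ : ∃ k, n = k + 2 := ⟨n - 2, by omega⟩
  have h1 : 4 ^ (k + 2 - 1) = 2 * 2 ^ (2 * (k + 2) - 3) := by
    rw [show k + 2 - 1 = k + 1 by omega, show 2 * (k + 2) - 3 = 2 * k + 1 by omega,
      show (4 : ℕ) = 2 ^ 2 by norm_num, ← pow_mul, show 2 * (k + 1) = (2 * k + 1) + 1 by omega,
      pow_succ]
    ring
  omega

/-- S3: if `H ∩ Q_x = 1` for all isotropic points `x`, then `|G : H| ≠ |Q_x|`. -/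
theorem not_regular [Finite V] [Finite G] {n : ℕ} (hV : Nat.card V = 4 ^ n)
    (hI : Nat.card {v : V // S.h v v = 0} = 2 ^ (2 * n - 1) + 2 ^ (n - 1)) (hn : 6 ≤ n)
    (H : Subgroup G) (hall : ∀ x : V, x ≠ 0 → ∀ hx : S.h x x = 0, H ⊓ S.Qx hx = ⊥)
    (hidx : H.index = 2 ^ (2 * n - 3)) : False := by
  obtain ⟨τ, hτH, hτ1, hτ2⟩ := exists_involution S hV hI hn H hall hidx
  have hinv : τ⁻¹ = τ := inv_eq_of_mul_eq_one_right hτ2
  rcases involution_cases S hτ2 hτ1 with ⟨y, hy0, hy, rfl⟩ | ⟨z1, z2, hz1, h0, h1⟩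
  · have hmem : S.tv y ∈ H ⊓ S.Qx hy := ⟨hτH, S.tv_mem_Qx hy⟩
    rw [hall y hy0 hy, Subgroup.mem_bot] at hmem
    exact S.tv_ne_one hy0 hy hmem
  · have hy1 := h_self_tau S hτ2 z1
    have hy2 := h_self_tau S hτ2 z2
    have hz2 : τ • z2 + z2 ≠ 0 := by
      intro h0'
      rw [h0', S.h_zero_left] at h1
      exact zero_ne_one h1
    have hnorm : ∀ (y : V) (hy : S.h y y = 0), τ • y = y →
        ∀ q ∈ S.Qx hy, τ * q * τ⁻¹ ∈ S.Qx hy := by
      intro y hy hfix q hq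
      have hτn := S.stabilizer_le_normalizer_Qx hy (show τ ∈ stabilizer G y from hfix)
      rw [Subgroup.mem_normalizer_iff] at hτn
      exact (hτn q).mp hq
    have hcard : ∀ (y : V) (hy0 : y ≠ 0) (hy : S.h y y = 0), H.index = Nat.card (S.Qx hy) := by
      intro y hy0 hy
      rw [hidx, pow_arith_Qx hn (card_Qx S hV hy0 hy)]
    have f1 := card_fixed_eq_card_centralizer H (S.Qx hy1) (hall _ hz1 hy1) (hcard _ hz1 hy1) hτH
      (hnorm _ hy1 (tau_smul_tau hτ2 z1))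
    have f2 := card_fixed_eq_card_centralizer H (S.Qx hy2) (hall _ hz2 hy2) (hcard _ hz2 hy2) hτH
      (hnorm _ hy2 (tau_smul_tau hτ2 z2))
    have c1 := card_centralizer_Qx_zero S hτ2 rfl hz1 hy1 h0
    have c2 := card_centralizer_Qx_one S hτ2 rfl hz2 hy2 h1
    have hpos : 0 < Nat.card {z : V // τ • z = z} :=
      Nat.card_pos_iff.mpr ⟨⟨⟨0, smul_zero τ⟩⟩, inferInstance⟩
    rw [← f1] at c1
    rw [← f2] at c2
    omega

end Cfsg.Agent.Lib.Helper11.Su2
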