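import Mathlib
import Cfsg.Agent.Lib.Helper11.Su2Tools
import Cfsg.Agent.Lib.Helper11.Su2S3
import Cfsg.Agent.Lib.Helper22.Su2S1A
import Cfsg.Agent.Lib.Helper22.Su2S1B
import Cfsg.Agent.Lib.Helper15.Su2T1
import Cfsg.Agent.Lib.Helper20.Su2GB
import Cfsg.Agent.Lib.Helper20.Su2S2

/-! Helper11 library (S2153): the main lower bound in the abstract `SU_n(2)` setting. -/

set_option autoImplicit false

namespace Cfsg.Agent.Lib.Helper11.Su2

open MulAction Pointwise Cfsg.Agent.Lib.Helper1.Sp2Leaf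
open Cfsg.Agent.Lib.Helper22.Su2Leaf (dvd_relIndex_of_inf_eq_bot relIndex_ge_of_inf_ne_bot)
open Cfsg.Agent.Lib.Helper15.Su2Leaf (exists_smul_eq_of_iso)
open Cfsg.Agent.Lib.Helper20.Su2Leaf (exists_iso_pair_perp relIndex_ge_of_tv_mem)

variable {F V G : Type*} [Field F] [AddCommGroup V] [Module F V] [Group G] [DistribMulAction G V]
variable (S : Setting F V G)

/-- powers of two needed in the main proof, in terms of `s = 2^(n-3)` -/
theorem pow_arith2 (n : ℕ) (hn : 6 ≤ n) :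
    ∃ s : ℕ, 8 ≤ s ∧ 2 ^ (n - 1) = 4 * s ∧ 2 ^ n = 8 * s ∧ 2 ^ (n - 2) = 2 * s ∧
      2 ^ (2 * n - 3) = 8 * (s * s) := by
  obtain ⟨k, rfl⟩ : ∃ k, n = k + 6 := ⟨n - 6, by omega⟩
  refine ⟨2 ^ (k + 3), ?_, ?_, ?_, ?_, ?_⟩
  · calc 8 = 2 ^ 3 := by norm_num
      _ ≤ 2 ^ (k + 3) := Nat.pow_le_pow_right (by norm_num) (by omega)
  · rw [show k + 6 - 1 = (k + 3) + 2 by omega, pow_add]; ring
  · rw [show k + 6 = (k + 3) + 3 by omega, pow_add]; ring
  · rw [show k + 6 - 2 = (k + 3) + 1 by omega, pow_succ]; ring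
  · rw [← pow_add, show 2 * (k + 6) - 3 = (k + 3 + (k + 3)) + 3 by omega, pow_add]; ring

/-- if `gq x v 0 = 1` for perpendicular isotropic `x, v ≠ 0` then `v ∈ F x` -/
theorem exists_smul_of_gq_eq_one {x v : V} (hx0 : x ≠ 0) (hx : S.h x x = 0) (hv : S.h v v = 0)
    (hvx : S.h v x = 0) (h1 : S.gq x v 0 = 1) : ∃ a : F, v = a • x := by
  obtain ⟨a, ha, _⟩ := (S.gq_eq_one_iff hx0 hx hvx (by rw [hv]; ring)).mp h1
  exact ⟨a, ha⟩

include S in
/-- MAIN lower bound -/
theorem index_ge [Finite V] [Finite G] {n : ℕ} (hV : Nat.card V = 4 ^ n)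
    (hI : Nat.card {v : V // S.h v v = 0} = 2 ^ (2 * n - 1) + 2 ^ (n - 1)) (hn : 6 ≤ n)
    (H : Subgroup G) (hH : H ≠ ⊤) : 2 ^ (n - 1) * (2 ^ n - 1) ≤ 3 * H.index := by
  by_contra hlt
  push Not at hlt
  obtain ⟨s, hs8, e1, e2, e3, e4⟩ := pow_arith2 n hn
  have eM : 2 ^ (n - 1) * (2 ^ n - 1) = 32 * (s * s) - 4 * s := by
    rw [e1, e2, Nat.mul_sub, mul_one]
    congr 1; ring
  have eB : 2 ^ (n - 1) * (2 ^ (n - 2) - 1) = 8 * (s * s) - 4 * s := by
    rw [e1, e3, Nat.mul_sub, mul_one]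
    congr 1; ring
  have hss : 8 * s ≤ s * s := Nat.mul_le_mul_right s hs8
  rw [eM] at hlt
  have hle : ∀ v : V, H.relIndex (stabilizer G v) ≤ H.index := Setting.relIndex_stabilizer_le H
  have hne0 : ∀ v : V, H.relIndex (stabilizer G v) ≠ 0 := by
    intro v
    rw [Subgroup.relIndex]
    exact Subgroup.index_ne_zero_of_finite
  -- a transvection outside `H`
  have hex : ∃ x, S.h x x = 0 ∧ S.tv x ∉ H := by
    by_contra hno
    push Not at hno
    exact hH (S.gen H hno)
  obtain ⟨x, hx, hxH⟩ := hex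
  have hx0 : x ≠ 0 := by
    rintro rfl
    exact hxH (by rw [S.tv_zero]; exact H.one_mem)
  -- points whose transvection is outside `H` are of type A
  have hA : ∀ p : V, p ≠ 0 → ∀ hp : S.h p p = 0, S.tv p ∉ H →
      H ⊓ S.Qx hp = ⊥ ∧ H.relIndex (stabilizer G p) = 8 * (s * s) := by
    intro p hp0 hp hpH
    have hbot : H ⊓ S.Qx hp = ⊥ := by
      by_contra hne
      have h1 := relIndex_ge_of_inf_ne_bot S hV hI hn H hp0 hp hpH hne
      rw [eM] at h1
      have := hle p
      omega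
    refine ⟨hbot, ?_⟩
    obtain ⟨j, hj⟩ := dvd_relIndex_of_inf_eq_bot S hV hn H hp0 hp hbot
    rw [e4] at hj
    have h2 := hle p
    have h3 := hne0 p
    have hj1 : j = 1 := by
      rcases j with _ | _ | j
      · rw [mul_zero] at hj; exact absurd hj h3
      · rfl
      · exfalso
        have : 8 * (s * s) * 2 ≤ 8 * (s * s) * (j + 1 + 1) := Nat.mul_le_mul_left _ (by omega)
        omega
    rw [hj, hj1, mul_one]
  -- conjugation of transvections by `H`
  have hconj : ∀ p ∈ H, ∀ y : V, S.h y y = 0 → (S.tv (p • y) ∈ H ↔ S.tv y ∈ H) := by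
    intro p hp y hy
    rw [← S.conj_tv p hy]
    constructor
    · intro hm
      have : S.tv y = p⁻¹ * (p * S.tv y * p⁻¹) * p := by group
      rw [this]
      exact H.mul_mem (H.mul_mem (H.inv_mem hp) hm) hp
    · intro hm
      exact H.mul_mem (H.mul_mem hp hm) (H.inv_mem hp)
  by_cases hX0 : ∃ v, v ≠ 0 ∧ S.h v v = 0 ∧ S.tv v ∈ H
  · obtain ⟨v, hv0, hv, hvH⟩ := hX0
    -- every point of `X₀` has `Q_v ≤ H`
    have hQall : ∀ v : V, v ≠ 0 → ∀ hv : S.h v v = 0, S.tv v ∈ H → S.Qx hv ≤ H := by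
      intro v hv0 hv hvH
      by_contra hQ
      have h1 := relIndex_ge_of_tv_mem S hV hI hn H hv0 hv hvH hQ
      rw [eB] at h1
      have hdiff : ∀ p ∈ H, p • x ≠ v := by
        intro p hp he
        apply hxH
        rw [← hconj p hp x hx, he]
        exact hvH
      have h2 := relIndex_add_relIndex_le H x v
        (exists_smul_eq_of_iso S hV hn hx0 hv0 hx hv) hdiff
      have h3 := (hA x hx0 hx hxH).2
      omega
    have hQv := hQall v hv0 hv hvH
    -- a point of `X₁` perpendicular to a point of `X₀` is impossible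
    have hperp : ∀ (p v : V), p ≠ 0 → v ≠ 0 → ∀ (hp : S.h p p = 0) (hv : S.h v v = 0),
        S.tv p ∉ H → S.tv v ∈ H → S.h v p = 0 → False := by
      intro p v hp0 hv0 hp hv hpH hvH hvp
      have hpv : S.h p v = 0 := S.h_eq_zero_symm hvp
      have hmem : S.gq p v 0 ∈ H ⊓ S.Qx hp := by
        refine ⟨?_, S.gq_mem_Qx hp hvp (by rw [hv]; ring)⟩
        rw [S.gq_swap hp hv hpv]
        exact hQall v hv0 hv hvH (S.gq_mem_Qx hv hpv (by rw [hp]; ring))
      rw [(hA p hp0 hp hpH).1, Subgroup.mem_bot] at hmem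
      obtain ⟨a, ha⟩ := exists_smul_of_gq_eq_one S hp0 hp hv hvp hmem
      have ha0 : a ≠ 0 := by
        rintro rfl
        rw [zero_smul] at ha
        exact hv0 ha
      apply hpH
      rw [← S.tv_smul_left hp ha0, ← ha]
      exact hvH
    have hvx : S.h v x ≠ 0 := fun h0 => hperp x v hx0 hv0 hx hv hxH hvH h0
    obtain ⟨u, u', hu, hu', huv, hu'v, hune, hu'ne, hux, hu'u⟩ :=
      exists_iso_pair_perp S hV hn hv hx hvx
    have hu0 : u ≠ 0 := by
      have := hune 0
      rwa [zero_smul] at this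
    have hu'0 : u' ≠ 0 := by
      have := hu'ne 0
      rwa [zero_smul] at this
    have huH : S.tv u ∈ H := by
      by_contra hno
      exact hperp u v hu0 hv0 hu hv hno hvH (S.h_eq_zero_symm huv)
    have hu'H : S.tv u' ∈ H := by
      by_contra hno
      exact hperp u' v hu'0 hv0 hu' hv hno hvH (S.h_eq_zero_symm hu'v)
    have hQu := hQall u hu0 hu huH
    exact hxH (S.tv_mem_of_Qx_le hu hu' hx hQu hu'H hu'u
      (fun h0 => hux (S.h_eq_zero_symm h0)))
  · push Not at hX0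
    by_cases htr : ∀ y : V, y ≠ 0 → S.h y y = 0 → ∃ p ∈ H, p • x = y
    · -- `H` is transitive on the isotropic vectors: the regular case
      have hidx : H.index = 2 ^ (2 * n - 3) := by
        rw [e4, ← (hA x hx0 hx hxH).2]
        symm
        apply Setting.relIndex_eq_index_of_transitive H x
        intro g
        exact htr (g • x) (fun h0 => hx0 ((smul_eq_zero_iff_eq g).mp h0)) (by rw [S.iso, hx])
      exact not_regular S hV hI hn H
        (fun y hy0 hy => (hA y hy0 hy (hX0 y hy0 hy)).1) hidx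
    · push Not at htr
      obtain ⟨y, hy0, hy, hdiff⟩ := htr
      have h2 := relIndex_add_relIndex_le H x y
        (exists_smul_eq_of_iso S hV hn hx0 hy0 hx hy) (fun p hp he => hdiff p hp he)
      have h3 := (hA x hx0 hx hxH).2
      have h4 := (hA y hy0 hy (hX0 y hy0 hy)).2
      omega

end Cfsg.Agent.Lib.Helper11.Su2
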