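import Mathlib
import Cfsg.Agent.Lib.Helper11.Su2Tools
import Cfsg.Agent.Lib.Helper25.Su2MULTI
import Cfsg.Agent.Lib.Helper25.Su2MULTIIa
import Cfsg.Agent.Lib.Helper17.Su2MULTIIb

/-! Helper11 library (S2153): multiplicity three (assembly of the three MULT leaves). -/

set_option autoImplicit false

namespace Cfsg.Agent.Lib.Helper11.Su2

open MulAction Pointwise
open Cfsg.Agent.Lib.Helper25.Su2Leaf (mult_I mult_IIa)
open Cfsg.Agent.Lib.Helper17.Su2Leaf (mult_IIb)

variable {F V G : Type*} [Field F] [AddCommGroup V] [Module F V] [Group G] [DistribMulAction G V]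
variable (S : Setting F V G)

/-- MULT: a totally singular additive subgroup `F x ⊆ U ⊆ x^⊥` with at least 32 elements has three
distinct `G_x`-conjugates through one of its vectors outside `F x`. -/
theorem mult [Finite V] {n : ℕ} (hV : Nat.card V = 4 ^ n) (hn : 6 ≤ n) {x : V} (hx0 : x ≠ 0)
    (hx : S.h x x = 0) (U : AddSubgroup V) (hxU : ∀ a : F, a • x ∈ U)
    (hUx : ∀ u ∈ U, S.h u x = 0) (hU0 : ∀ u ∈ U, S.h u u = 0) (hcard : 32 ≤ Nat.card U) :
    ∃ u0 ∈ U, (∀ a : F, u0 ≠ a • x) ∧ ∃ g : Fin 3 → G, (∀ i, g i • x = x) ∧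
      (∀ i, u0 ∈ g i • (U : Set V)) ∧ Function.Injective (fun i => g i • (U : Set V)) := by
  by_cases hom : ∀ u ∈ U, S.om • u ∈ U
  · exact mult_I S hV hn hx0 hx U hxU hUx hU0 hcard hom
  · push Not at hom
    obtain ⟨w1, hw1, hw1'⟩ := hom
    by_cases hperp : ∀ u ∈ U, S.h u w1 = 0
    · exact mult_IIa S hV hn hx0 hx U hxU hUx hU0 hcard hw1 hw1' hperp
    · push Not at hperp
      obtain ⟨z0, hz0, hz0'⟩ := hperp
      exact mult_IIb S hV hn hx0 hx U hxU hUx hU0 hcard hw1 hw1' hz0 hz0'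

end Cfsg.Agent.Lib.Helper11.Su2
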