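import Mathlib
import Cfsg.Agent.Lib.Helper11.Su2Tools

/-! Helper11 library (S2153), leaf S3D (twin): an involution of `G` is a transvection or has both an
isotropic and a non-isotropic vector for the hermitian form `η(z, z') = h (τ z + z) z'`. -/

set_option autoImplicit false

namespace Cfsg.Agent.Lib.Helper11.Su2S3D

open Cfsg.Agent.Lib.Helper11.Su2

variable {F V G : Type*} [Field F] [AddCommGroup V] [Module F V] [Group G] [DistribMulAction G V]
variable (S : Setting F V G)

/-- `η` is hermitian -/
theorem eta_symm {τ : G} (hτ : τ * τ = 1) (z z' : V) :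
    S.h (τ • z' + z') z = S.h (τ • z + z) z' * S.h (τ • z + z) z' := by
  have hinv : τ⁻¹ = τ := inv_eq_of_mul_eq_one_right hτ
  rw [← S.h_symm (τ • z + z) z', S.h_add_left, S.h_add_right, S.h_smul_inv, hinv]

theorem eta_self_mem {τ : G} (hτ : τ * τ = 1) (z : V) :
    S.h (τ • z + z) z = 0 ∨ S.h (τ • z + z) z = 1 := by
  have h1 := eta_symm S hτ z z
  have h2 : S.h (τ • z + z) z * (S.h (τ • z + z) z - 1) = 0 := by linear_combination -h1
  rcases mul_eq_zero.mp h2 with h3 | h3
  · exact Or.inl h3
  · right; linear_combination h3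

theorem N_add (τ : G) (z z' : V) : τ • (z + z') + (z + z') = (τ • z + z) + (τ • z' + z') := by
  rw [smul_add]; abel

include S in
theorem N_smul (τ : G) (a : F) (z : V) : τ • (a • z) + a • z = a • (τ • z + z) := by
  rw [S.smul_fsmul, smul_add]

include S in
theorem N_N {τ : G} (hτ : τ * τ = 1) (z : V) : τ • (τ • z + z) + (τ • z + z) = 0 := by
  rw [smul_add, ← mul_smul, hτ, one_smul, add_comm z (τ • z)]
  exact S.vadd_self _

theorem h_self_N {τ : G} (hτ : τ * τ = 1) (z : V) : S.h (τ • z + z) (τ • z + z) = 0 := by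
  have hinv : τ⁻¹ = τ := inv_eq_of_mul_eq_one_right hτ
  have h1 : S.h (τ • z) z = S.h z (τ • z) := by
    rw [S.h_smul_inv, hinv]
  have h2 : S.h z (τ • z) = S.h (τ • z) z * S.h (τ • z) z := S.h_symm (τ • z) z
  rw [S.h_self_add, S.iso, ← h2, ← h1, S.add_self, zero_add, S.add_self]

/-- S3D -/
theorem involution_cases {τ : G} (hτ : τ * τ = 1) (hτ1 : τ ≠ 1) :
    (∃ y, y ≠ 0 ∧ S.h y y = 0 ∧ τ = S.tv y) ∨
      (∃ z1 z2, τ • z1 + z1 ≠ 0 ∧ S.h (τ • z1 + z1) z1 = 0 ∧ S.h (τ • z2 + z2) z2 = 1) := by
  by_cases hz1 : ∃ z1, τ • z1 + z1 ≠ 0 ∧ S.h (τ • z1 + z1) z1 = 0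
  · obtain ⟨z1, hz1a, hz1b⟩ := hz1
    by_cases hz2 : ∃ z2, S.h (τ • z2 + z2) z2 = 1
    · obtain ⟨z2, hz2⟩ := hz2
      exact Or.inr ⟨z1, z2, hz1a, hz1b, hz2⟩
    · exfalso
      push Not at hz2
      have hall : ∀ z, S.h (τ • z + z) z = 0 := by
        intro z
        rcases eta_self_mem S hτ z with h0 | h0
        · exact h0
        · exact absurd h0 (hz2 z)
      -- polarisation: the trace of `η` vanishes
      have htr : ∀ z z', S.h (τ • z + z) z' + S.h (τ • z + z) z' * S.h (τ • z + z) z' = 0 := by
        intro z z'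
        have h1 := hall (z + z')
        rw [N_add, S.h_add_left, S.h_add_right, S.h_add_right, hall z, hall z', zero_add, add_zero,
          eta_symm S hτ z z'] at h1
        exact h1
      have hzero : ∀ z z', S.h (τ • z + z) z' = 0 := by
        intro z z'
        apply S.eq_zero_of_tr_mul (htr z z')
        have h2 := htr (S.om • z) z'
        rw [N_smul S, S.h_smul_left] at h2
        exact h2
      apply hτ1
      apply S.faithful
      intro z
      have : τ • z + z = 0 := S.nondeg _ (hzero z)
      exact S.veq_of_add_eq_zero this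
  · push Not at hz1
    left
    -- some `z2` is moved by `τ`
    obtain ⟨z2, hz2⟩ : ∃ z2 : V, τ • z2 + z2 ≠ 0 := by
      by_contra hno
      push Not at hno
      apply hτ1
      apply S.faithful
      intro z
      exact S.veq_of_add_eq_zero (hno z)
    have hone : ∀ z, τ • z + z ≠ 0 → S.h (τ • z + z) z = 1 := by
      intro z hz
      rcases eta_self_mem S hτ z with h0 | h0
      · exact absurd h0 (hz1 z hz)
      · exact h0
    have h22 := hone z2 hz2
    set y := τ • z2 + z2 with hy
    have hyy : S.h y y = 0 := h_self_N S hτ z2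
    refine ⟨y, hz2, hyy, ?_⟩
    -- `N z = h z y • y`
    have hN : ∀ z, τ • z + z = S.h z y • y := by
      intro z
      set e := S.h (τ • z + z) z2 with he
      -- `z' = z + e • z2` has `η(z', z2) = 0`
      have hz'2 : S.h (τ • (z + e • z2) + (z + e • z2)) z2 = 0 := by
        rw [N_add, N_smul S, S.h_add_left, S.h_smul_left, ← hy, h22, mul_one, ← he]
        exact S.add_self e
      have hNz' : τ • (z + e • z2) + (z + e • z2) = 0 := by
        revert hz'2
        generalize z + e • z2 = z'
        intro hz'2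
        by_contra hne
        have h11 := hone _ hne
        -- `z'' = z' + z2` has `η(z'', z'') = 0`, so `N z'' = 0`
        have h2z' : S.h (τ • z2 + z2) z' = 0 := by
          rw [eta_symm S hτ z' z2, hz'2, mul_zero]
        have hz'' : S.h (τ • (z' + z2) + (z' + z2)) (z' + z2) = 0 := by
          rw [N_add, S.h_add_left, S.h_add_right, S.h_add_right, h11, hz'2, h2z', ← hy, h22]
          linear_combination S.two
        have hNz'' : τ • (z' + z2) + (z' + z2) = 0 := by
          by_contra hne''
          exact hz1 _ hne'' hz''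
        rw [N_add, ← hy] at hNz''
        have hEq : τ • z' + z' = y := S.veq_of_add_eq_zero hNz''
        rw [hEq, h22] at hz'2
        exact one_ne_zero hz'2
      rw [N_add, N_smul S, ← hy] at hNz'
      have h3 : τ • z + z = e • y := S.veq_of_add_eq_zero hNz'
      rw [h3]
      congr 1
      -- `e = h (N z) z2 = h z y`
      have h4 := eta_symm S hτ z2 z
      rw [← he] at h4
      have h5 : S.h z y = S.h y z * S.h y z := S.h_symm y z
      rw [h5, hy, eta_symm S hτ z z2, ← he]
      exact (S.frob e).symm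
    apply S.ext_smul
    intro z
    rw [S.tv_smul hyy, ← hN z]
    rw [add_comm, add_assoc, S.vadd_self, add_zero]

end Cfsg.Agent.Lib.Helper11.Su2S3D
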