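import Mathlib

set_option autoImplicit false
set_option linter.unusedSectionVars false

namespace Cfsg.Agent.Lib.Helper11.SylU

open Equiv Equiv.Perm

variable {α : Type*} [DecidableEq α] [Fintype α]

/-- `g` maps the finite set `O` onto itself. -/
def Inv (g : Perm α) (O : Finset α) : Prop := ∀ y, g y ∈ O ↔ y ∈ O

theorem Inv.one (O : Finset α) : Inv (1 : Perm α) O := fun _ => Iff.rfl

theorem Inv.mul {g h : Perm α} {O : Finset α} (hg : Inv g O) (hh : Inv h O) : Inv (g * h) O :=
  fun y => by rw [Perm.mul_apply, hg, hh]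

theorem Inv.inv {g : Perm α} {O : Finset α} (hg : Inv g O) : Inv g⁻¹ O :=
  fun y => by rw [← hg (g⁻¹ y)]; simp

theorem Inv.pow {g : Perm α} {O : Finset α} (hg : Inv g O) (k : ℕ) : Inv (g ^ k) O := by
  induction k with
  | zero => simpa using Inv.one O
  | succ k ih => rw [pow_succ]; exact ih.mul hg

theorem Inv.sdiff {g : Perm α} {O B : Finset α} (hg : Inv g O) (hB : Inv g B) : Inv g (B \ O) :=
  fun y => by rw [Finset.mem_sdiff, Finset.mem_sdiff, hg, hB]

/-- Permutations fixing every point outside `B`. -/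
def supIn (B : Finset α) : Subgroup (Perm α) where
  carrier := {g | ∀ y, y ∉ B → g y = y}
  one_mem' := fun _ _ => rfl
  mul_mem' := by
    intro a b ha hb y hy
    rw [Perm.mul_apply, hb y hy, ha y hy]
  inv_mem' := by
    intro a ha y hy
    rw [Perm.inv_eq_iff_eq, ha y hy]

theorem mem_supIn {g : Perm α} {B : Finset α} : g ∈ supIn B ↔ ∀ y, y ∉ B → g y = y := Iff.rfl

theorem inv_of_mem_supIn {g : Perm α} {B : Finset α} (hg : g ∈ supIn B) : Inv g B := by
  intro y
  constructor
  · intro h
    by_contra hy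
    rw [hg y hy] at h
    exact hy h
  · intro h
    by_contra hy
    have h2 := hg (g y) hy
    rw [g.injective.eq_iff] at h2
    rw [h2] at hy
    exact hy h

theorem supIn_mono {B C : Finset α} (h : B ⊆ C) : supIn B ≤ supIn C :=
  fun _ hg y hy => hg y (fun hyB => hy (h hyB))

theorem support_subset_of_mem_supIn {g : Perm α} {B : Finset α} (hg : g ∈ supIn B) :
    g.support ⊆ B := by
  intro y hy
  by_contra h
  exact (Perm.mem_support.1 hy) (hg y h)

/-- Restriction of `g` to an invariant set `O`, extended by the identity. -/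
noncomputable def resP (g : Perm α) (O : Finset α) : Perm α :=
  open Classical in
  if h : Inv g O then ofSubtype (subtypePerm g (p := fun y => y ∈ O) h) else 1

theorem resP_apply_mem {g : Perm α} {O : Finset α} (h : Inv g O) {y : α} (hy : y ∈ O) :
    resP g O y = g y := by
  unfold resP
  rw [dif_pos h]
  rw [ofSubtype_apply_of_mem _ hy]
  rfl

theorem resP_apply_not_mem (g : Perm α) {O : Finset α} {y : α} (hy : y ∉ O) :
    resP g O y = y := by
  unfold resP
  split_ifs with h
  · exact ofSubtype_apply_of_not_mem _ hy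
  · rfl

theorem resP_mem_supIn (g : Perm α) (O : Finset α) : resP g O ∈ supIn O :=
  fun _ hy => resP_apply_not_mem g hy

theorem resP_mul {g h : Perm α} {O : Finset α} (hg : Inv g O) (hh : Inv h O) :
    resP (g * h) O = resP g O * resP h O := by
  ext y
  by_cases hy : y ∈ O
  · rw [resP_apply_mem (hg.mul hh) hy, Perm.mul_apply, Perm.mul_apply, resP_apply_mem hh hy,
      resP_apply_mem hg ((hh y).2 hy)]
  · rw [resP_apply_not_mem _ hy, Perm.mul_apply, resP_apply_not_mem _ hy, resP_apply_not_mem _ hy]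

theorem resP_one (O : Finset α) : resP (1 : Perm α) O = 1 := by
  ext y
  by_cases hy : y ∈ O
  · rw [resP_apply_mem (Inv.one O) hy]
  · rw [resP_apply_not_mem _ hy]; rfl

theorem resP_inv {g : Perm α} {O : Finset α} (hg : Inv g O) :
    resP g⁻¹ O = (resP g O)⁻¹ := by
  rw [eq_inv_iff_mul_eq_one, ← resP_mul hg.inv hg, inv_mul_cancel, resP_one]

theorem resP_pow {g : Perm α} {O : Finset α} (hg : Inv g O) (k : ℕ) :
    resP (g ^ k) O = (resP g O) ^ k := by
  induction k with
  | zero => simpa using resP_one O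
  | succ k ih => rw [pow_succ, pow_succ, resP_mul (hg.pow k) hg, ih]

theorem resP_eq_self {g : Perm α} {O : Finset α} (hg : g ∈ supIn O) : resP g O = g := by
  ext y
  by_cases hy : y ∈ O
  · rw [resP_apply_mem (inv_of_mem_supIn hg) hy]
  · rw [resP_apply_not_mem _ hy, hg y hy]

theorem support_resP {g : Perm α} {O : Finset α} (hg : Inv g O) :
    (resP g O).support = g.support ∩ O := by
  ext y
  rw [Perm.mem_support, Finset.mem_inter, Perm.mem_support]
  by_cases hy : y ∈ O
  · rw [resP_apply_mem hg hy]; tauto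
  · rw [resP_apply_not_mem _ hy]; tauto

/-- decomposition into restriction to `O` and to the complement in `B` -/
theorem resP_mul_resP_sdiff {g : Perm α} {O B : Finset α} (hg : Inv g O) (hB : g ∈ supIn B) :
    resP g O * resP g (B \ O) = g := by
  have h2 : Inv g (B \ O) := hg.sdiff (inv_of_mem_supIn hB)
  ext y
  rw [Perm.mul_apply]
  by_cases hy : y ∈ O
  · have hy2 : y ∉ B \ O := fun h => (Finset.mem_sdiff.1 h).2 hy
    rw [resP_apply_not_mem _ hy2, resP_apply_mem hg hy]
  · by_cases hyB : y ∈ B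
    · have hy2 : y ∈ B \ O := Finset.mem_sdiff.2 ⟨hyB, hy⟩
      rw [resP_apply_mem h2 hy2]
      have : g y ∉ O := fun h => hy ((hg y).1 h)
      rw [resP_apply_not_mem _ this]
    · have hy2 : y ∉ B \ O := fun h => hyB (Finset.mem_sdiff.1 h).1
      rw [resP_apply_not_mem _ hy2, resP_apply_not_mem _ hy, hB y hyB]

theorem resP_disjoint_sdiff (g : Perm α) (O B : Finset α) :
    Perm.Disjoint (resP g O) (resP g (B \ O)) := by
  intro y
  by_cases hy : y ∈ O
  · right
    exact resP_apply_not_mem _ (fun h => (Finset.mem_sdiff.1 h).2 hy)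
  · left
    exact resP_apply_not_mem _ hy

/-- cycle type of a restriction is a sub-multiset -/
theorem cycleType_resP_le {g : Perm α} {O B : Finset α} (hg : Inv g O) (hB : g ∈ supIn B) :
    (resP g O).cycleType ≤ g.cycleType := by
  have h := (resP_disjoint_sdiff g O B).cycleType_mul
  rw [resP_mul_resP_sdiff hg hB] at h
  rw [h]
  exact Multiset.le_add_right _ _

/-- restriction of a subgroup all of whose elements leave `O` invariant -/
noncomputable def resSub (E : Subgroup (Perm α)) (O : Finset α) (h : ∀ e ∈ E, Inv e O) :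
    Subgroup (Perm α) where
  carrier := {y | ∃ e ∈ E, y = resP e O}
  one_mem' := ⟨1, E.one_mem, (resP_one O).symm⟩
  mul_mem' := by
    rintro _ _ ⟨a, ha, rfl⟩ ⟨b, hb, rfl⟩
    exact ⟨a * b, E.mul_mem ha hb, (resP_mul (h a ha) (h b hb)).symm⟩
  inv_mem' := by
    rintro _ ⟨a, ha, rfl⟩
    exact ⟨a⁻¹, E.inv_mem ha, (resP_inv (h a ha)).symm⟩

theorem mem_resSub {E : Subgroup (Perm α)} {O : Finset α} {h : ∀ e ∈ E, Inv e O} {y : Perm α} :
    y ∈ resSub E O h ↔ ∃ e ∈ E, y = resP e O := Iff.rfl

theorem resSub_le_supIn (E : Subgroup (Perm α)) (O : Finset α) (h : ∀ e ∈ E, Inv e O) :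
    resSub E O h ≤ supIn O := by
  rintro _ ⟨e, _, rfl⟩
  exact resP_mem_supIn e O

theorem isPGroup_resSub {E : Subgroup (Perm α)} {O : Finset α} (h : ∀ e ∈ E, Inv e O)
    (hE : IsPGroup 2 E) : IsPGroup 2 (resSub E O h) := by
  rintro ⟨_, e, he, rfl⟩
  obtain ⟨k, hk⟩ := hE ⟨e, he⟩
  refine ⟨k, Subtype.ext ?_⟩
  have hk' : e ^ 2 ^ k = 1 := by simpa using congrArg Subtype.val hk
  show (resP e O) ^ 2 ^ k = 1
  rw [← resP_pow (h e he), hk', resP_one]

/-- the restriction of a normalizing element normalizes the restricted group -/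
theorem resP_mem_normalizer {E : Subgroup (Perm α)} {O : Finset α} (h : ∀ e ∈ E, Inv e O)
    {g : Perm α} (hg : g ∈ Subgroup.normalizer (E : Set (Perm α))) (hgO : Inv g O) :
    resP g O ∈ Subgroup.normalizer ((resSub E O h : Subgroup (Perm α)) : Set (Perm α)) := by
  have key : ∀ g : Perm α, g ∈ Subgroup.normalizer (E : Set (Perm α)) → Inv g O →
      ∀ y ∈ resSub E O h, resP g O * y * (resP g O)⁻¹ ∈ resSub E O h := by
    rintro g hg hgO _ ⟨e, he, rfl⟩
    refine ⟨g * e * g⁻¹, (Subgroup.mem_normalizer_iff.1 hg e).1 he, ?_⟩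
    rw [resP_mul (hgO.mul (h e he)) hgO.inv, resP_mul hgO (h e he), resP_inv hgO]
  rw [Subgroup.mem_normalizer_iff]
  intro y
  constructor
  · exact key g hg hgO y
  · intro hy
    have := key g⁻¹ (Subgroup.inv_mem _ hg) hgO.inv _ hy
    rw [resP_inv hgO] at this
    simpa [mul_assoc] using this

end Cfsg.Agent.Lib.Helper11.SylU
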