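import Cfsg.Agent.Lib.Helper11.SylUA

set_option autoImplicit false
set_option linter.unusedSectionVars false

namespace Cfsg.Agent.Lib.Helper11.SylU

open Equiv Equiv.Perm

variable {α : Type*} [DecidableEq α] [Fintype α]

/-- the hypothesis on `x` relative to `B` -/
def Good (x : Perm α) (B : Finset α) : Prop :=
  x ∈ supIn B ∧ B.card ≤ x.support.card + 2 ∧ x.cycleType.Nodup ∧ ∃ k : ℕ, x ^ 2 ^ k = 1

theorem Good.mem_cycleType {x : Perm α} {B : Finset α} (h : Good x B) {m : ℕ}
    (hm : m ∈ x.cycleType) : ∃ j, 1 ≤ j ∧ m = 2 ^ j := by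
  obtain ⟨k, hk⟩ := h.2.2.2
  have h1 : m ∣ 2 ^ k := (dvd_of_mem_cycleType hm).trans (orderOf_dvd_of_pow_eq_one hk)
  obtain ⟨j, _, rfl⟩ := (Nat.dvd_prime_pow Nat.prime_two).1 h1
  refine ⟨j, ?_, rfl⟩
  have h2 := two_le_of_mem_cycleType hm
  by_contra hj
  have : j = 0 := by omega
  subst this
  simp at h2

theorem Good.two_dvd_support {x : Perm α} {B : Finset α} (h : Good x B) :
    2 ∣ x.support.card := by
  rw [← sum_cycleType]
  apply Multiset.dvd_sum
  intro m hm
  obtain ⟨j, hj, rfl⟩ := h.mem_cycleType hm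
  exact dvd_pow_self 2 (by omega)

theorem Good.resP {x : Perm α} {B O : Finset α} (h : Good x B) (hO : Inv x O) (hOB : O ⊆ B) :
    Good (resP x O) O := by
  refine ⟨resP_mem_supIn x O, ?_, ?_, ?_⟩
  · rw [support_resP hO]
    have h1 := Finset.card_sdiff_add_card_eq_card (support_subset_of_mem_supIn h.1)
    have h2 := Finset.card_inter_add_card_sdiff O x.support
    have h3 : (O \ x.support).card ≤ (B \ x.support).card :=
      Finset.card_le_card (Finset.sdiff_subset_sdiff hOB (Finset.Subset.refl _))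
    have h4 := h.2.1
    rw [Finset.inter_comm]
    omega
  · exact Multiset.nodup_of_le (cycleType_resP_le hO h.1) h.2.2.1
  · obtain ⟨k, hk⟩ := h.2.2.2
    exact ⟨k, by rw [← resP_pow hO, hk, resP_one]⟩

theorem card_eq_support_add_fix {x : Perm α} {O : Finset α} (hO : Inv x O) :
    O.card = (resP x O).support.card + (O.filter (fun y => x y = y)).card := by
  rw [support_resP hO]
  have h1 : x.support ∩ O = O.filter (fun y => ¬ x y = y) := by
    ext y
    simp only [Finset.mem_inter, Finset.mem_filter, Perm.mem_support]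
    tauto
  rw [h1, add_comm]
  exact (Finset.card_filter_add_card_filter_not _).symm

/-- number of fixed points in `B` is at most two -/
theorem Good.card_fix_le {x : Perm α} {B : Finset α} (h : Good x B) :
    (B.filter (fun y => x y = y)).card ≤ 2 := by
  have h1 := card_eq_support_add_fix (inv_of_mem_supIn h.1)
  rw [resP_eq_self h.1] at h1
  have := h.2.1
  omega

/-- a fixed-point-free good permutation on a set of 2-power size is a cycle -/
theorem Good.isCycle_of_card {x : Perm α} {O : Finset α} (h : Good x O) {s : ℕ}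
    (hs : O.card = 2 ^ s) (hfix : ∀ y ∈ O, x y ≠ y) : x.IsCycle ∧ x.support = O := by
  have hsupp : x.support = O := by
    apply Finset.Subset.antisymm (support_subset_of_mem_supIn h.1)
    intro y hy
    exact Perm.mem_support.2 (hfix y hy)
  refine ⟨?_, hsupp⟩
  rw [← card_cycleType_eq_one]
  have hsum : x.cycleType.sum = 2 ^ s := by rw [sum_cycleType, hsupp, hs]
  have hne : x.cycleType ≠ 0 := by
    intro h0
    rw [h0] at hsum
    simp at hsum
    exact absurd hsum.symm (by positivity)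
  obtain ⟨m, hm, hmin⟩ := Multiset.exists_min_image id hne
  obtain ⟨rest, hrest⟩ := Multiset.exists_cons_of_mem hm
  have hnd := h.2.2.1
  rw [hrest] at hnd
  obtain ⟨hmr, _⟩ := Multiset.nodup_cons.1 hnd
  obtain ⟨j, hj, rfl⟩ := h.mem_cycleType hm
  have hdvd : 2 ^ (j + 1) ∣ rest.sum := by
    apply Multiset.dvd_sum
    intro z hz
    have hz' : z ∈ x.cycleType := by rw [hrest]; exact Multiset.mem_cons_of_mem hz
    obtain ⟨i, _, rfl⟩ := h.mem_cycleType hz'
    have h1 : 2 ^ j ≤ 2 ^ i := hmin _ hz'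
    have h2 : j ≤ i := (Nat.pow_le_pow_iff_right (by norm_num)).1 h1
    have h3 : j ≠ i := by
      rintro rfl
      exact hmr hz
    exact pow_dvd_pow 2 (by omega)
  have hsum2 : 2 ^ j + rest.sum = 2 ^ s := by
    rw [← hsum, hrest, Multiset.sum_cons]
  have hrest0 : rest.sum = 0 := by
    by_contra hne0
    have hpos : 0 < rest.sum := Nat.pos_of_ne_zero hne0
    have hlt : 2 ^ j < 2 ^ s := by omega
    have hjs : j < s := (Nat.pow_lt_pow_iff_right (by norm_num)).1 hlt
    have h1 : 2 ^ (j + 1) ∣ 2 ^ s := pow_dvd_pow 2 (by omega)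
    have h2 : 2 ^ (j + 1) ∣ 2 ^ j := by
      rw [← hsum2] at h1
      exact (Nat.dvd_add_left hdvd).1 h1
    have h3 := (Nat.pow_dvd_pow_iff_le_right (by norm_num : 1 < 2)).1 h2
    omega
  have hrest_nil : rest = 0 := by
    by_contra hne0
    obtain ⟨z, hz⟩ := Multiset.exists_mem_of_ne_zero hne0
    have hz' : z ∈ x.cycleType := by rw [hrest]; exact Multiset.mem_cons_of_mem hz
    have h2 := two_le_of_mem_cycleType hz'
    have h3 : z ≤ rest.sum := Multiset.le_sum_of_mem hz
    omega
  rw [hrest, hrest_nil]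
  simp

/-- two fixed-point-free invariant sets of the same 2-power size coincide -/
theorem Good.eq_of_card_eq {x : Perm α} {B O1 O2 : Finset α} (h : Good x B)
    (h1 : Inv x O1) (h2 : Inv x O2) (hB1 : O1 ⊆ B) (hB2 : O2 ⊆ B) {s : ℕ}
    (hs1 : O1.card = 2 ^ s) (hs2 : O2.card = 2 ^ s)
    (hf1 : ∀ y ∈ O1, x y ≠ y) (hf2 : ∀ y ∈ O2, x y ≠ y) : O1 = O2 := by
  have hc1 := (h.resP h1 hB1).isCycle_of_card hs1
    (fun y hy => by rw [resP_apply_mem h1 hy]; exact hf1 y hy)
  have hc2 := (h.resP h2 hB2).isCycle_of_card hs2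
    (fun y hy => by rw [resP_apply_mem h2 hy]; exact hf2 y hy)
  have hm1 : SylU.resP x O1 ∈ x.cycleFactorsFinset := by
    rw [mem_cycleFactorsFinset_iff]
    refine ⟨hc1.1, fun a ha => ?_⟩
    rw [hc1.2] at ha
    exact resP_apply_mem h1 ha
  have hm2 : SylU.resP x O2 ∈ x.cycleFactorsFinset := by
    rw [mem_cycleFactorsFinset_iff]
    refine ⟨hc2.1, fun a ha => ?_⟩
    rw [hc2.2] at ha
    exact resP_apply_mem h2 ha
  have hnd := h.2.2.1
  rw [cycleType_def] at hnd
  have := Multiset.inj_on_of_nodup_map hnd _ hm1 _ hm2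
    (by simp only [Function.comp]; rw [hc1.2, hc2.2, hs1, hs2])
  rw [← hc1.2, ← hc2.2, this]

/-- no three pairwise disjoint invariant sets of the same 2-power size -/
theorem Good.not_three {x : Perm α} {B O1 O2 O3 : Finset α} (h : Good x B)
    (h1 : Inv x O1) (h2 : Inv x O2) (h3 : Inv x O3)
    (hB1 : O1 ⊆ B) (hB2 : O2 ⊆ B) (hB3 : O3 ⊆ B) {s : ℕ}
    (hs1 : O1.card = 2 ^ s) (hs2 : O2.card = 2 ^ s) (hs3 : O3.card = 2 ^ s)
    (d12 : Disjoint O1 O2) (d13 : Disjoint O1 O3) (d23 : Disjoint O2 O3) : False := by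
  set F : Finset α → Finset α := fun O => O.filter (fun y => x y = y) with hF
  have e1 : O1.card = (SylU.resP x O1).support.card + (F O1).card := card_eq_support_add_fix h1
  have e2 : O2.card = (SylU.resP x O2).support.card + (F O2).card := card_eq_support_add_fix h2
  have e3 : O3.card = (SylU.resP x O3).support.card + (F O3).card := card_eq_support_add_fix h3
  obtain ⟨k1, hk1⟩ := (h.resP h1 hB1).two_dvd_support
  obtain ⟨k2, hk2⟩ := (h.resP h2 hB2).two_dvd_support
  obtain ⟨k3, hk3⟩ := (h.resP h3 hB3).two_dvd_support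
  have htot : (F O1).card + (F O2).card + (F O3).card ≤ 2 := by
    have hd12 : Disjoint (F O1) (F O2) :=
      Finset.disjoint_of_subset_left (Finset.filter_subset _ _)
        (Finset.disjoint_of_subset_right (Finset.filter_subset _ _) d12)
    have hd3 : Disjoint (F O1 ∪ F O2) (F O3) := by
      rw [Finset.disjoint_union_left]
      exact ⟨Finset.disjoint_of_subset_left (Finset.filter_subset _ _)
        (Finset.disjoint_of_subset_right (Finset.filter_subset _ _) d13),
        Finset.disjoint_of_subset_left (Finset.filter_subset _ _)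
        (Finset.disjoint_of_subset_right (Finset.filter_subset _ _) d23)⟩
    rw [← Finset.card_union_of_disjoint hd12, ← Finset.card_union_of_disjoint hd3]
    refine le_trans (Finset.card_le_card ?_) h.card_fix_le
    intro y hy
    simp only [hF, Finset.mem_union, Finset.mem_filter] at hy ⊢
    rcases hy with (⟨hy, hxy⟩ | ⟨hy, hxy⟩) | ⟨hy, hxy⟩
    · exact ⟨hB1 hy, hxy⟩
    · exact ⟨hB2 hy, hxy⟩
    · exact ⟨hB3 hy, hxy⟩
  have hfree : ∀ O : Finset α, (F O).card = 0 → ∀ y ∈ O, x y ≠ y := by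
    intro O hO y hy hxy
    have : y ∈ F O := by simp only [hF, Finset.mem_filter]; exact ⟨hy, hxy⟩
    rw [Finset.card_eq_zero] at hO
    rw [hO] at this
    exact absurd this (Finset.notMem_empty _)
  have hpos : 0 < 2 ^ s := by positivity
  rcases Nat.eq_zero_or_pos s with rfl | hs
  · simp only [pow_zero] at hs1 hs2 hs3
    omega
  · obtain ⟨t, ht⟩ : 2 ∣ 2 ^ s := dvd_pow_self 2 (by omega)
    have hne : ∀ O : Finset α, O.card = 2 ^ s → O.Nonempty := by
      intro O hO
      rw [← Finset.card_pos, hO]; exact hpos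
    have key : ∀ Oa Ob : Finset α, Inv x Oa → Inv x Ob → Oa ⊆ B → Ob ⊆ B → Oa.card = 2 ^ s →
        Ob.card = 2 ^ s → Disjoint Oa Ob → (F Oa).card = 0 → (F Ob).card = 0 → False := by
      intro Oa Ob ha hb hBa hBb hsa hsb hd hfa hfb
      have := h.eq_of_card_eq ha hb hBa hBb hsa hsb (hfree _ hfa) (hfree _ hfb)
      rw [this] at hd
      obtain ⟨y, hy⟩ := hne _ hsb
      exact (Finset.disjoint_left.1 hd hy) hy
    have hcases : ((F O1).card = 0 ∧ (F O2).card = 0) ∨ ((F O1).card = 0 ∧ (F O3).card = 0) ∨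
        ((F O2).card = 0 ∧ (F O3).card = 0) := by omega
    rcases hcases with ⟨ha, hb⟩ | ⟨ha, hb⟩ | ⟨ha, hb⟩
    · exact key _ _ h1 h2 hB1 hB2 hs1 hs2 d12 ha hb
    · exact key _ _ h1 h3 hB1 hB3 hs1 hs3 d13 ha hb
    · exact key _ _ h2 h3 hB2 hB3 hs2 hs3 d23 ha hb

end Cfsg.Agent.Lib.Helper11.SylU
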