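import Cfsg.Agent.Lib.Helper11.SylUB

set_option autoImplicit false
set_option linter.unusedSectionVars false

namespace Cfsg.Agent.Lib.Helper11.SylU

open Equiv Equiv.Perm

variable {α : Type*} [DecidableEq α] [Fintype α]

/-- `C` is half of `B` and `x` either fixes `C` or swaps it with its complement in `B`. -/
def Half (x : Perm α) (B C : Finset α) : Prop :=
  C ⊆ B ∧ 2 * C.card = B.card ∧ (Inv x C ∨ ∀ y ∈ B, x y ∈ C ↔ y ∉ C)

theorem Half.compl {x : Perm α} {B C : Finset α} (hB : Inv x B) (h : Half x B C) :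
    Half x B (B \ C) := by
  obtain ⟨h1, h2, h3⟩ := h
  refine ⟨Finset.sdiff_subset, ?_, ?_⟩
  · have := Finset.card_sdiff_add_card_eq_card h1
    omega
  · rcases h3 with h3 | h3
    · left; exact h3.sdiff hB
    · right
      intro y hy
      rw [Finset.mem_sdiff, Finset.mem_sdiff, hB y, h3 y hy]
      tauto

theorem swap_parity {x : Perm α} {B C : Finset α} (hB : Inv x B) (hCB : C ⊆ B)
    (hsw : ∀ y ∈ B, x y ∈ C ↔ y ∉ C) {ω : α} (hω : ω ∈ C) :
    ∀ k : ℕ, (x ^ k) ω ∈ C ↔ Even k := by
  intro k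
  induction k with
  | zero => simpa using hω
  | succ k ih =>
    have hmem : (x ^ k) ω ∈ B := ((hB.pow k) ω).2 (hCB hω)
    rw [pow_succ', Perm.mul_apply, hsw _ hmem, ih, Nat.even_add_one]

/-- uniqueness of the two-block system compatible with `x` -/
theorem Half.eq_of_mem {x : Perm α} {B C C' : Finset α} (h : Good x B) {s : ℕ}
    (hs : B.card = 2 ^ s) (h4 : 4 ≤ B.card) (hC : Half x B C) (hC' : Half x B C')
    {ω : α} (hω : ω ∈ C) (hω' : ω ∈ C') : C = C' := by
  have hB : Inv x B := inv_of_mem_supIn h.1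
  have hs2 : 2 ≤ s := by
    by_contra hlt
    have : s = 0 ∨ s = 1 := by omega
    rcases this with rfl | rfl <;> simp at hs <;> omega
  obtain ⟨s', rfl⟩ : ∃ s', s = s' + 1 := ⟨s - 1, by omega⟩
  have hs' : 1 ≤ s' := by omega
  have hcard : ∀ D, Half x B D → D.card = 2 ^ s' := by
    intro D hD
    have := hD.2.1
    rw [hs, pow_succ] at this
    omega
  by_cases hfix : ∃ p ∈ B, x p = p
  · obtain ⟨p, hpB, hp⟩ := hfix
    have hinv : ∀ D, Half x B D → Inv x D := by
      intro D hD
      rcases hD.2.2 with h3 | h3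
      · exact h3
      · exfalso
        have := h3 p hpB
        rw [hp] at this
        tauto
    have hstar : ∀ D, Half x B D → ∃ D', (D' = D ∨ D' = B \ D) ∧ Inv x D' ∧ D' ⊆ B ∧
        D'.card = 2 ^ s' ∧ ∀ y ∈ D', x y ≠ y := by
      intro D hD
      have hD2 := hD.compl hB
      have i1 := hinv D hD
      have i2 := hinv _ hD2
      have e1 := card_eq_support_add_fix i1
      have e2 := card_eq_support_add_fix i2
      obtain ⟨k1, hk1⟩ := (h.resP i1 hD.1).two_dvd_support
      obtain ⟨k2, hk2⟩ := (h.resP i2 hD2.1).two_dvd_support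
      have c1 := hcard D hD
      have c2 := hcard _ hD2
      obtain ⟨t, ht⟩ : 2 ∣ 2 ^ s' := dvd_pow_self 2 (by omega)
      have htot : (D.filter (fun y => x y = y)).card + ((B \ D).filter (fun y => x y = y)).card
          ≤ 2 := by
        have hd : Disjoint (D.filter (fun y => x y = y)) ((B \ D).filter (fun y => x y = y)) :=
          Finset.disjoint_of_subset_left (Finset.filter_subset _ _)
            (Finset.disjoint_of_subset_right (Finset.filter_subset _ _) Finset.disjoint_sdiff)
        rw [← Finset.card_union_of_disjoint hd]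
        refine le_trans (Finset.card_le_card ?_) h.card_fix_le
        intro y hy
        simp only [Finset.mem_union, Finset.mem_filter, Finset.mem_sdiff] at hy ⊢
        rcases hy with ⟨hy, hxy⟩ | ⟨⟨hy, _⟩, hxy⟩
        · exact ⟨hD.1 hy, hxy⟩
        · exact ⟨hy, hxy⟩
      have hfree : ∀ O : Finset α, (O.filter (fun y => x y = y)).card = 0 → ∀ y ∈ O, x y ≠ y := by
        intro O hO y hy hxy
        have : y ∈ O.filter (fun y => x y = y) := by
          simp only [Finset.mem_filter]; exact ⟨hy, hxy⟩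
        rw [Finset.card_eq_zero] at hO
        rw [hO] at this
        exact absurd this (Finset.notMem_empty _)
      have hz : (D.filter (fun y => x y = y)).card = 0 ∨
          ((B \ D).filter (fun y => x y = y)).card = 0 := by omega
      rcases hz with hz | hz
      · exact ⟨D, Or.inl rfl, i1, hD.1, c1, hfree _ hz⟩
      · exact ⟨B \ D, Or.inr rfl, i2, hD2.1, c2, hfree _ hz⟩
    obtain ⟨D, hD, iD, sD, cD, fD⟩ := hstar C hC
    obtain ⟨D', hD', iD', sD', cD', fD'⟩ := hstar C' hC'
    have heq := h.eq_of_card_eq iD iD' sD sD' cD cD' fD fD'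
    rcases hD with rfl | rfl <;> rcases hD' with rfl | rfl
    · exact heq
    · exfalso
      rw [heq] at hω
      exact (Finset.mem_sdiff.1 hω).2 hω'
    · exfalso
      rw [← heq] at hω'
      exact (Finset.mem_sdiff.1 hω').2 hω
    · rw [← Finset.sdiff_sdiff_eq_self hC.1, ← Finset.sdiff_sdiff_eq_self hC'.1, heq]
  · push Not at hfix
    obtain ⟨hcyc, hsupp⟩ := h.isCycle_of_card hs hfix
    have hsw : ∀ D, Half x B D → ∀ y ∈ B, x y ∈ D ↔ y ∉ D := by
      intro D hD
      rcases hD.2.2 with h3 | h3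
      · exfalso
        have c1 := hcard D hD
        have hne : D.Nonempty := by
          rw [← Finset.card_pos, c1]; positivity
        obtain ⟨a, ha⟩ := hne
        have hlt : D.card < B.card := by
          have := hD.2.1
          omega
        obtain ⟨b, hbB, hbD⟩ : ∃ b ∈ B, b ∉ D := by
          by_contra hcon
          push Not at hcon
          exact absurd (Finset.card_le_card hcon) (by omega)
        have hsc := hcyc.sameCycle (hfix a (hD.1 ha)) (hfix b hbB)
        obtain ⟨i, _, hi⟩ := hsc.exists_pow_eq'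
        apply hbD
        rw [← hi]
        exact ((h3.pow i) a).2 ha
      · exact h3
    have key : ∀ D D' : Finset α, Half x B D → Half x B D' → ω ∈ D → ω ∈ D' → D ⊆ D' := by
      intro D D' hD hD' hωD hωD' y hy
      have hsc := hcyc.sameCycle (hfix ω (hD.1 hωD)) (hfix y (hD.1 hy))
      obtain ⟨i, _, hi⟩ := hsc.exists_pow_eq'
      have p1 := swap_parity hB hD.1 (hsw D hD) hωD i
      have p2 := swap_parity hB hD'.1 (hsw D' hD') hωD' i
      rw [hi] at p1 p2
      exact p2.2 (p1.1 hy)
    exact Finset.Subset.antisymm (key _ _ hC hC' hω hω') (key _ _ hC' hC hω' hω)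

/-- if `x` swaps the two halves, then `x ^ 2` restricted to a half is good -/
theorem Good.sq_resP {x : Perm α} {B C : Finset α} (h : Good x B) {s : ℕ}
    (hs : B.card = 2 ^ s) (h4 : 4 ≤ B.card) (hCB : C ⊆ B) (hcard : 2 * C.card = B.card)
    (hsw : ∀ y ∈ B, x y ∈ C ↔ y ∉ C) : Inv (x ^ 2) C ∧ Good (SylU.resP (x ^ 2) C) C := by
  have hB : Inv x B := inv_of_mem_supIn h.1
  have hfix : ∀ p ∈ B, x p ≠ p := by
    intro p hp hxp
    have := hsw p hp
    rw [hxp] at this
    tauto
  obtain ⟨hcyc, hsupp⟩ := h.isCycle_of_card hs hfix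
  have hinv : Inv (x ^ 2) C := by
    intro y
    rw [pow_two, Perm.mul_apply]
    by_cases hy : y ∈ B
    · rw [hsw _ ((hB y).2 hy), hsw y hy]
      tauto
    · rw [h.1 y hy, h.1 y hy]
  refine ⟨hinv, ?_⟩
  have hmove : ∀ z ∈ C, SylU.resP (x ^ 2) C z ≠ z := by
    intro z hz hzz
    rw [resP_apply_mem hinv hz] at hzz
    have h1 : x ^ 2 = 1 := (hcyc.pow_eq_one_iff' (hfix z (hCB hz))).2 hzz
    have h2 : orderOf x ∣ 2 := orderOf_dvd_of_pow_eq_one h1
    have h3 := Nat.le_of_dvd (by norm_num) h2
    rw [hcyc.orderOf, hsupp] at h3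
    omega
  have hne : C.Nonempty := by
    rw [← Finset.card_pos]; omega
  obtain ⟨ω, hω⟩ := hne
  have hsupp2 : (SylU.resP (x ^ 2) C).support = C := by
    apply Finset.Subset.antisymm (support_subset_of_mem_supIn (resP_mem_supIn _ _))
    intro z hz
    exact Perm.mem_support.2 (hmove z hz)
  have hcyc2 : (SylU.resP (x ^ 2) C).IsCycle := by
    rw [isCycle_iff_sameCycle (hmove ω hω)]
    intro z
    constructor
    · intro hsc hz
      exact hmove ω hω ((hsc.apply_eq_self_iff).2 hz)
    · intro hz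
      have hzC : z ∈ C := by
        by_contra hzC
        exact hz (resP_apply_not_mem _ hzC)
      have hsc := hcyc.sameCycle (hfix ω (hCB hω)) (hfix z (hCB hzC))
      obtain ⟨i, _, hi⟩ := hsc.exists_pow_eq'
      have p1 := swap_parity hB hCB hsw hω i
      rw [hi] at p1
      obtain ⟨j, rfl⟩ := p1.1 hzC
      refine ⟨(j : ℤ), ?_⟩
      rw [zpow_natCast, ← resP_pow hinv, resP_apply_mem (hinv.pow j) hω, ← pow_mul, ← hi]
      congr 2
      omega
  refine ⟨resP_mem_supIn _ _, ?_, ?_, ?_⟩
  · rw [hsupp2]; omega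
  · rw [hcyc2.cycleType]
    exact Multiset.nodup_singleton _
  · obtain ⟨k, hk⟩ := h.2.2.2
    refine ⟨k, ?_⟩
    rw [← resP_pow hinv, ← pow_mul, mul_comm, pow_mul, hk, one_pow, resP_one]

end Cfsg.Agent.Lib.Helper11.SylU
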