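import Cfsg.Agent.Lib.Helper11.SylUC

set_option autoImplicit false
set_option linter.unusedSectionVars false

namespace Cfsg.Agent.Lib.Helper11.SylU

open Equiv Equiv.Perm

variable {α : Type*} [DecidableEq α] [Fintype α]

/-- orbit of `a` under the subgroup `E`, as a finset -/
noncomputable def orb (E : Subgroup (Perm α)) (a : α) : Finset α :=
  open Classical in Finset.univ.filter (fun y => ∃ e ∈ E, e a = y)

theorem mem_orb {E : Subgroup (Perm α)} {a y : α} : y ∈ orb E a ↔ ∃ e ∈ E, e a = y := by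
  unfold orb
  simp

theorem self_mem_orb (E : Subgroup (Perm α)) (a : α) : a ∈ orb E a :=
  mem_orb.2 ⟨1, E.one_mem, rfl⟩

theorem inv_orb {E : Subgroup (Perm α)} {e : Perm α} (he : e ∈ E) (a : α) : Inv e (orb E a) := by
  intro y
  rw [mem_orb, mem_orb]
  constructor
  · rintro ⟨e', he', h⟩
    refine ⟨e⁻¹ * e', E.mul_mem (E.inv_mem he) he', ?_⟩
    rw [Perm.mul_apply, h]
    simp
  · rintro ⟨e', he', h⟩
    exact ⟨e * e', E.mul_mem he he', by rw [Perm.mul_apply, h]⟩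

theorem orb_eq_of_mem {E : Subgroup (Perm α)} {a b : α} (hb : b ∈ orb E a) :
    orb E b = orb E a := by
  obtain ⟨e0, he0, rfl⟩ := mem_orb.1 hb
  ext y
  rw [mem_orb, mem_orb]
  constructor
  · rintro ⟨e, he, h⟩
    exact ⟨e * e0, E.mul_mem he he0, by rw [Perm.mul_apply, h]⟩
  · rintro ⟨e, he, h⟩
    refine ⟨e * e0⁻¹, E.mul_mem he (E.inv_mem he0), ?_⟩
    rw [Perm.mul_apply]
    simpa using h

theorem orb_disjoint {E : Subgroup (Perm α)} {a b : α} (hb : b ∉ orb E a) :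
    Disjoint (orb E a) (orb E b) := by
  rw [Finset.disjoint_left]
  intro y hy hy'
  apply hb
  rw [← orb_eq_of_mem hy, orb_eq_of_mem hy']
  exact self_mem_orb E b

theorem orb_subset {E : Subgroup (Perm α)} {B : Finset α} (hE : E ≤ supIn B) {a : α}
    (ha : a ∈ B) : orb E a ⊆ B := by
  intro y hy
  obtain ⟨e, he, rfl⟩ := mem_orb.1 hy
  exact ((inv_of_mem_supIn (hE he)) a).2 ha

theorem orb_mono {K E : Subgroup (Perm α)} (h : K ≤ E) (a : α) : orb K a ⊆ orb E a := by
  intro y hy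
  obtain ⟨e, he, rfl⟩ := mem_orb.1 hy
  exact mem_orb.2 ⟨e, h he, rfl⟩

theorem mem_orb_conj {E : Subgroup (Perm α)} {g : Perm α}
    (hg : g ∈ Subgroup.normalizer (E : Set (Perm α))) (a y : α) :
    y ∈ orb E (g a) ↔ g⁻¹ y ∈ orb E a := by
  rw [mem_orb, mem_orb]
  constructor
  · rintro ⟨e, he, h⟩
    refine ⟨g⁻¹ * e * g, (Subgroup.mem_normalizer_iff''.1 hg e).1 he, ?_⟩
    rw [Perm.mul_apply, Perm.mul_apply, h]
  · rintro ⟨e, he, h⟩
    refine ⟨g * e * g⁻¹, (Subgroup.mem_normalizer_iff.1 hg e).1 he, ?_⟩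
    rw [Perm.mul_apply, Perm.mul_apply]
    simp [h]

theorem card_orb_conj {E : Subgroup (Perm α)} {g : Perm α}
    (hg : g ∈ Subgroup.normalizer (E : Set (Perm α))) (a : α) :
    (orb E (g a)).card = (orb E a).card := by
  have : orb E (g a) = (orb E a).map (Equiv.toEmbedding g) := by
    ext y
    rw [Finset.mem_map_equiv, mem_orb_conj hg]
    rfl
  rw [this, Finset.card_map]

theorem inv_orb_of_normalizer {E : Subgroup (Perm α)} {g : Perm α}
    (hg : g ∈ Subgroup.normalizer (E : Set (Perm α))) {a : α} (h : g a ∈ orb E a) :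
    Inv g (orb E a) := by
  intro y
  have h1 := orb_eq_of_mem h
  rw [← h1, mem_orb_conj hg, h1]
  simp

theorem coe_orb (E : Subgroup (Perm α)) (a : α) :
    ((orb E a : Finset α) : Set α) = MulAction.orbit E a := by
  ext y
  rw [Finset.mem_coe, mem_orb, MulAction.mem_orbit_iff]
  constructor
  · rintro ⟨e, he, h⟩
    exact ⟨⟨e, he⟩, h⟩
  · rintro ⟨e, h⟩
    exact ⟨e.1, e.2, h⟩

theorem card_orb_pow {E : Subgroup (Perm α)} (hE : IsPGroup 2 E) (a : α) :
    ∃ s : ℕ, (orb E a).card = 2 ^ s := by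
  have : Fact (Nat.Prime 2) := ⟨Nat.prime_two⟩
  obtain ⟨n, hn⟩ := hE.card_orbit a
  refine ⟨n, ?_⟩
  rw [← hn, ← coe_orb]
  simp

/-- a transitive-type 2-group orbit splits into two blocks, the stabiliser of which has index two -/
theorem exists_block {E : Subgroup (Perm α)} (hE : IsPGroup 2 E) (ω : α)
    (h2 : 2 ≤ (orb E ω).card) :
    ∃ (K : Subgroup (Perm α)) (B1 : Finset α), K ≤ E ∧ B1 ⊆ orb E ω ∧ ω ∈ B1 ∧
      2 * B1.card = (orb E ω).card ∧ (∀ k ∈ K, Inv k B1) ∧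
      (∀ e ∈ E, e ∉ K → ∀ y ∈ orb E ω, e y ∈ B1 ↔ y ∉ B1) := by
  have : Fact (Nat.Prime 2) := ⟨Nat.prime_two⟩
  obtain ⟨t, ht⟩ := IsPGroup.iff_card.1 hE
  set S : Subgroup E := MulAction.stabilizer E ω with hS
  have hidx : S.index = (orb E ω).card := by
    rw [hS, MulAction.index_stabilizer, ← coe_orb, Set.ncard_coe_finset]
  have hmul := Subgroup.card_mul_index S
  rw [hidx, ht] at hmul
  obtain ⟨u, _, hu⟩ := (Nat.dvd_prime_pow Nat.prime_two).1 (Dvd.intro _ hmul)
  have hut : u + 1 ≤ t := by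
    have h1 : 2 ^ u * 2 ≤ 2 ^ t := by
      rw [← hmul, hu]
      exact Nat.mul_le_mul_left _ h2
    rw [← pow_succ] at h1
    exact (Nat.pow_le_pow_iff_right (by norm_num)).1 h1
  obtain ⟨K', hK'card, hSK'⟩ := Sylow.exists_subgroup_card_pow_prime_le 2
    (show 2 ^ (t - 1) ∣ Nat.card E by rw [ht]; exact pow_dvd_pow 2 (by omega)) S hu
    (show u ≤ t - 1 by omega)
  have hK'idx : K'.index = 2 := by
    have h1 := Subgroup.card_mul_index K'
    rw [hK'card, ht] at h1
    have h3 : 2 ^ t = 2 ^ (t - 1) * 2 := by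
      rw [← pow_succ]; congr 1; omega
    rw [h3] at h1
    exact Nat.eq_of_mul_eq_mul_left (by positivity) h1
  set K : Subgroup (Perm α) := K'.map E.subtype with hKdef
  have hK : ∀ e (he : e ∈ E), e ∈ K ↔ (⟨e, he⟩ : E) ∈ K' := by
    intro e he
    rw [hKdef, Subgroup.mem_map]
    constructor
    · rintro ⟨k, hk, rfl⟩
      exact hk
    · intro h
      exact ⟨⟨e, he⟩, h, rfl⟩
  have hKE : K ≤ E := by
    rintro _ ⟨k, _, rfl⟩
    exact k.2
  have hmulK : ∀ a ∈ E, ∀ b ∈ E, a ∉ K → b ∉ K → a * b ∈ K := by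
    intro a ha b hb hna hnb
    rw [hK _ ha] at hna
    rw [hK _ hb] at hnb
    rw [hK _ (E.mul_mem ha hb)]
    have := (Subgroup.mul_mem_iff_of_index_two hK'idx (a := ⟨a, ha⟩) (b := ⟨b, hb⟩))
    exact this.2 ⟨fun h => absurd h hna, fun h => absurd h hnb⟩
  have hstab : ∀ e ∈ E, e ω = ω → e ∈ K := by
    intro e he h
    rw [hK e he]
    apply hSK'
    rw [hS, MulAction.mem_stabilizer_iff]
    exact h
  have hsw : ∀ e ∈ E, e ∉ K → ∀ y ∈ orb E ω, e y ∈ orb K ω ↔ y ∉ orb K ω := by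
    intro e he hne y hy
    obtain ⟨e0, he0, rfl⟩ := mem_orb.1 hy
    constructor
    · intro h1 h2
      obtain ⟨k, hk, hk1⟩ := mem_orb.1 h1
      obtain ⟨k2, hk2, hk3⟩ := mem_orb.1 h2
      have hs : k⁻¹ * e * k2 ∈ K := by
        apply hstab _ (E.mul_mem (E.mul_mem (E.inv_mem (hKE hk)) he) (hKE hk2))
        rw [Perm.mul_apply, Perm.mul_apply, hk3, ← hk1]
        simp
      apply hne
      have : e = k * (k⁻¹ * e * k2) * k2⁻¹ := by group
      rw [this]
      exact K.mul_mem (K.mul_mem hk hs) (K.inv_mem hk2)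
    · intro h1
      have hne0 : e0 ∉ K := fun h => h1 (mem_orb.2 ⟨e0, h, rfl⟩)
      exact mem_orb.2 ⟨e * e0, hmulK e he e0 he0 hne hne0, rfl⟩
  obtain ⟨e, he, hne⟩ : ∃ e ∈ E, e ∉ K := by
    by_contra hcon
    push Not at hcon
    have : K' = ⊤ := by
      rw [eq_top_iff]
      intro k _
      exact (hK k.1 k.2).1 (hcon k.1 k.2)
    rw [this, Subgroup.index_top] at hK'idx
    omega
  refine ⟨K, orb K ω, hKE, orb_mono hKE ω, self_mem_orb K ω, ?_, fun k hk => inv_orb hk ω, hsw⟩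
  have hsub := orb_mono hKE ω
  have hEinv := inv_orb he ω
  have c1 : (orb K ω).card ≤ (orb E ω \ orb K ω).card := by
    apply Finset.card_le_card_of_injOn e
    · intro y hy
      have hyE := hsub hy
      rw [Finset.mem_coe, Finset.mem_sdiff]
      refine ⟨(hEinv y).2 hyE, ?_⟩
      rw [hsw e he hne y hyE]
      exact fun h => h hy
    · exact e.injective.injOn
  have c2 : (orb E ω \ orb K ω).card ≤ (orb K ω).card := by
    apply Finset.card_le_card_of_injOn e
    · intro y hy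
      rw [Finset.mem_coe, Finset.mem_sdiff] at hy
      rw [Finset.mem_coe, hsw e he hne y hy.1]
      exact hy.2
    · exact e.injective.injOn
  have c3 := Finset.card_sdiff_add_card_eq_card hsub
  omega

end Cfsg.Agent.Lib.Helper11.SylU
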