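import Cfsg.Agent.Lib.Helper11.SylUD

set_option autoImplicit false
set_option linter.unusedSectionVars false

namespace Cfsg.Agent.Lib.Helper11.SylU

open Equiv Equiv.Perm

variable {α : Type*} [DecidableEq α] [Fintype α]

/-- An element of odd order normalising a 2-group that contains a good element is trivial. -/
theorem odd_normalizer_trivial :
    ∀ (m : ℕ) (B : Finset α), B.card ≤ m → ∀ (E : Subgroup (Perm α)) (x g : Perm α) (r : ℕ),
      IsPGroup 2 E → E ≤ supIn B → x ∈ E → Good x B → g ∈ supIn B →
      g ∈ Subgroup.normalizer (E : Set (Perm α)) → Odd r → g ^ r = 1 → g = 1 := by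
  intro m
  induction m with
  | zero =>
    intro B hB E x g r _ _ _ _ hg _ _ _
    have : B = ∅ := Finset.card_eq_zero.1 (by omega)
    subst this
    ext y
    exact hg y (Finset.notMem_empty y)
  | succ m ih =>
    intro B hBm E x g r hE hEB hx hgood hg hgN hr hgr
    by_contra hne
    obtain ⟨ω, hω⟩ : ∃ ω, g ω ≠ ω := by
      by_contra hcon
      push Not at hcon
      exact hne (Perm.ext hcon)
    have hωB : ω ∈ B := by
      by_contra h
      exact hω (hg ω h)
    have hgB : Inv g B := inv_of_mem_supIn hg
    have hOsub : orb E ω ⊆ B := orb_subset hEB hωB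
    have hωO : ω ∈ orb E ω := self_mem_orb E ω
    have hEinv : ∀ e ∈ E, Inv e (orb E ω) := fun e he => inv_orb he ω
    obtain ⟨q, hq⟩ := hr
    by_cases hgO : g ω ∈ orb E ω
    · have hgInv : Inv g (orb E ω) := inv_orb_of_normalizer hgN hgO
      by_cases hOB : orb E ω = B
      · -- transitive case
        obtain ⟨s, hs⟩ := card_orb_pow hE ω
        rw [hOB] at hs
        -- small cases
        have h3 : 2 < B.card := by
          rw [Finset.two_lt_card]
          have h1 : g ω ∈ B := (hgB ω).2 hωB
          have h2 : g (g ω) ∈ B := (hgB _).2 h1
          refine ⟨ω, hωB, g ω, h1, g (g ω), h2, fun h => hω h.symm, ?_, ?_⟩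
          · intro h
            have h5 : ∀ n : ℕ, ((g ^ 2) ^ n) ω = ω := by
              apply pow_apply_eq_self_of_apply_eq_self
              rw [pow_two, Perm.mul_apply]
              exact h.symm
            have h6 : g ^ r = g * (g ^ 2) ^ q := by
              rw [hq, ← pow_mul, pow_succ']
            have h7 : (g ^ r) ω = g ω := by rw [h6, Perm.mul_apply, h5]
            rw [hgr] at h7
            exact hω h7.symm
          · intro h
            exact hω (g.injective h).symm
        have h4 : 4 ≤ B.card := by
          rcases s with _ | _ | s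
          · simp at hs; omega
          · simp at hs; omega
          · rw [hs, pow_succ, pow_succ]
            have : 0 < 2 ^ s := by positivity
            omega
        obtain ⟨K, B1, hKE, hB1B, hωB1, hcard, hKinv, hsw⟩ :=
          exists_block hE ω (by rw [hOB]; omega)
        rw [hOB] at hB1B hcard hsw
        have hKmem : ∀ e ∈ E, Inv e B1 → e ∈ K := by
          intro e he hinv
          by_contra hneK
          have h1 := hsw e he hneK ω hωB
          have h2 := hinv ω
          tauto
        have hhalf1 : Half x B B1 := by
          refine ⟨hB1B, hcard, ?_⟩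
          by_cases hxK : x ∈ K
          · left; exact hKinv x hxK
          · right; exact hsw x hx hxK
        -- image of B1 under g
        set gB1 : Finset α := B1.map (Equiv.toEmbedding g) with hgB1
        have hmem : ∀ y, y ∈ gB1 ↔ g⁻¹ y ∈ B1 := by
          intro y
          rw [hgB1, Finset.mem_map_equiv]
          rfl
        have hhalf2 : Half x B gB1 := by
          refine ⟨?_, ?_, ?_⟩
          · intro y hy
            rw [hmem] at hy
            exact (hgB.inv y).1 (hB1B hy)
          · rw [hgB1, Finset.card_map]; exact hcard
          · have he : g⁻¹ * x * g ∈ E := (Subgroup.mem_normalizer_iff''.1 hgN x).1 hx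
            have hcomp : ∀ y, g⁻¹ (x y) = (g⁻¹ * x * g) (g⁻¹ y) := by
              intro y
              rw [Perm.mul_apply, Perm.mul_apply]
              simp
            by_cases heK : g⁻¹ * x * g ∈ K
            · left
              intro y
              rw [hmem, hmem, hcomp]
              exact hKinv _ heK _
            · right
              intro y hy
              rw [hmem, hmem, hcomp]
              exact hsw _ he heK _ ((hgB.inv y).2 hy)
        have hgInvB1 : Inv g B1 := by
          by_cases hωg : ω ∈ gB1
          · have heq := hhalf1.eq_of_mem hgood hs h4 hhalf2 hωB1 hωg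
            intro y
            conv_lhs => rw [heq, hmem]
            simp
          · exfalso
            have hω2 : ω ∈ B \ gB1 := Finset.mem_sdiff.2 ⟨hωB, hωg⟩
            have heq := hhalf1.eq_of_mem hgood hs h4
              (hhalf2.compl (inv_of_mem_supIn hgood.1)) hωB1 hω2
            have hswg : ∀ y ∈ B, g y ∈ B1 ↔ y ∉ B1 := by
              intro y hy
              conv_lhs => rw [heq, Finset.mem_sdiff, hmem]
              have hgg : g⁻¹ (g y) = y := by simp
              rw [hgg]
              constructor
              · exact fun h => h.2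
              · exact fun h => ⟨(hgB y).2 hy, h⟩
            have := swap_parity hgB hB1B hswg hωB1 r
            rw [hgr] at this
            have h5 : Even r := this.1 hωB1
            rw [hq] at h5
            exact (Nat.not_even_iff_odd.2 ⟨q, rfl⟩) h5
        -- g normalises K
        have hconj : ∀ h : Perm α, h ∈ Subgroup.normalizer (E : Set (Perm α)) → Inv h B1 →
            ∀ k ∈ K, h * k * h⁻¹ ∈ K := by
          intro h hh hhinv k hk
          apply hKmem _ ((Subgroup.mem_normalizer_iff.1 hh k).1 (hKE hk))
          exact (hhinv.mul (hKinv k hk)).mul hhinv.inv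
        have hgNK : g ∈ Subgroup.normalizer (K : Set (Perm α)) := by
          rw [Subgroup.mem_normalizer_iff]
          intro k
          constructor
          · exact hconj g hgN hgInvB1 k
          · intro hk
            have := hconj g⁻¹ (Subgroup.inv_mem _ hgN) hgInvB1.inv _ hk
            simpa [mul_assoc] using this
        have hB1m : B1.card ≤ m := by omega
        have hKP : IsPGroup 2 K := hE.to_le hKE
        have hgr' : (SylU.resP g B1) ^ r = 1 := by
          rw [← resP_pow hgInvB1, hgr, resP_one]
        have hfinal : SylU.resP g B1 = 1 := by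
          by_cases hxK : x ∈ K
          · exact ih B1 hB1m (resSub K B1 hKinv) (SylU.resP x B1) (SylU.resP g B1) r
              (isPGroup_resSub hKinv hKP) (resSub_le_supIn _ _ _) ⟨x, hxK, rfl⟩
              (hgood.resP (hKinv x hxK) hB1B) (resP_mem_supIn _ _)
              (resP_mem_normalizer hKinv hgNK hgInvB1) ⟨q, hq⟩ hgr'
          · obtain ⟨hinv2, hgood2⟩ := hgood.sq_resP hs h4 hB1B hcard (hsw x hx hxK)
            have hx2K : x ^ 2 ∈ K := hKmem _ (E.pow_mem hx 2) hinv2
            exact ih B1 hB1m (resSub K B1 hKinv) (SylU.resP (x ^ 2) B1) (SylU.resP g B1) r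
              (isPGroup_resSub hKinv hKP) (resSub_le_supIn _ _ _) ⟨x ^ 2, hx2K, rfl⟩
              hgood2 (resP_mem_supIn _ _)
              (resP_mem_normalizer hKinv hgNK hgInvB1) ⟨q, hq⟩ hgr'
        have := congrArg (fun f : Perm α => f ω) hfinal
        simp only [Perm.one_apply] at this
        rw [resP_apply_mem hgInvB1 hωB1] at this
        exact hω this
      · -- intransitive case: restrict to the orbit
        have hlt : (orb E ω).card < B.card :=
          Finset.card_lt_card (Finset.ssubset_iff_subset_ne.2 ⟨hOsub, hOB⟩)
        have hOm : (orb E ω).card ≤ m := by omega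
        have hgr' : (SylU.resP g (orb E ω)) ^ r = 1 := by
          rw [← resP_pow hgInv, hgr, resP_one]
        have hfinal := ih (orb E ω) hOm (resSub E _ hEinv) (SylU.resP x _) (SylU.resP g _) r
          (isPGroup_resSub hEinv hE) (resSub_le_supIn _ _ _) ⟨x, hx, rfl⟩
          (hgood.resP (hEinv x hx) hOsub) (resP_mem_supIn _ _)
          (resP_mem_normalizer hEinv hgN hgInv) ⟨q, hq⟩ hgr'
        have := congrArg (fun f : Perm α => f ω) hfinal
        simp only [Perm.one_apply] at this
        rw [resP_apply_mem hgInv hωO] at this
        exact hω this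
    · -- three disjoint orbits
      obtain ⟨s, hs⟩ := card_orb_pow hE ω
      have hgωB : g ω ∈ B := (hgB ω).2 hωB
      have hggωB : g (g ω) ∈ B := (hgB _).2 hgωB
      have c1 : (orb E (g ω)).card = 2 ^ s := by rw [card_orb_conj hgN, hs]
      have c2 : (orb E (g (g ω))).card = 2 ^ s := by rw [card_orb_conj hgN, c1]
      have d01 : Disjoint (orb E ω) (orb E (g ω)) := orb_disjoint hgO
      have d12 : Disjoint (orb E (g ω)) (orb E (g (g ω))) := by
        apply orb_disjoint
        rw [mem_orb_conj hgN]
        simpa using hgO
      have d02 : Disjoint (orb E ω) (orb E (g (g ω))) := by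
        apply orb_disjoint
        intro hmem
        have hN2 : g ^ 2 ∈ Subgroup.normalizer (E : Set (Perm α)) := Subgroup.pow_mem _ hgN 2
        have hmem2 : (g ^ 2) ω ∈ orb E ω := by
          rw [pow_two, Perm.mul_apply]; exact hmem
        have hinv2 := inv_orb_of_normalizer hN2 hmem2
        have hinv3 := hinv2.pow (q + 1)
        have : (g ^ 2) ^ (q + 1) = g := by
          rw [← pow_mul]
          have : 2 * (q + 1) = r + 1 := by omega
          rw [this, pow_succ, hgr, one_mul]
        rw [this] at hinv3
        exact hgO ((hinv3 ω).2 hωO)
      exact hgood.not_three (inv_orb hx ω) (inv_orb hx _) (inv_orb hx _)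
        hOsub (orb_subset hEB hgωB) (orb_subset hEB hggωB) hs c1 c2 d01 d02 d12

end Cfsg.Agent.Lib.Helper11.SylU
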