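import Cfsg.Agent.Lib.Helper11.SylUE
import Cfsg.Agent.Lib.Helper17.Basic
import Cfsg.Agent.Lib.Helper21.SylowBasic

set_option autoImplicit false
set_option linter.unusedSectionVars false

namespace Cfsg.Agent.Lib.Helper11.SylU

open Equiv Equiv.Perm

variable {α : Type*} [DecidableEq α] [Fintype α]

/-- a good 2-element lies in at most one Sylow 2-subgroup -/
theorem unique_sylow_of_good (x : Perm α) (hgood : Good x Finset.univ) :
    ∀ P P' : Sylow 2 (Perm α), x ∈ P → x ∈ P' → P = P' := by
  have : Fact (Nat.Prime 2) := ⟨Nat.prime_two⟩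
  by_contra hcon
  push Not at hcon
  obtain ⟨P0, P0', h0, h0', hne0⟩ := hcon
  let T := {pp : Sylow 2 (Perm α) × Sylow 2 (Perm α) // pp.1 ≠ pp.2 ∧ x ∈ pp.1 ∧ x ∈ pp.2}
  have : Nonempty T := ⟨⟨(P0, P0'), hne0, h0, h0'⟩⟩
  obtain ⟨⟨⟨P, P'⟩, hne, hxP, hxP'⟩, hmax⟩ := Finite.exists_max
    (fun pp : T => Nat.card ((pp.1.1 : Subgroup (Perm α)) ⊓ (pp.1.2 : Subgroup (Perm α)) :
      Subgroup (Perm α)))
  simp only at hne hxP hxP' hmax
  set D : Subgroup (Perm α) := (P : Subgroup (Perm α)) ⊓ (P' : Subgroup (Perm α)) with hD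
  have hDP : IsPGroup 2 D := P.isPGroup'.to_le inf_le_left
  have hxD : x ∈ D := ⟨hxP, hxP'⟩
  have hN : ¬ IsPGroup 2 (Subgroup.normalizer (D : Set (Perm α))) := by
    intro hNP
    obtain ⟨Q, hQ⟩ := hNP.exists_le_sylow
    have hDQ : D ≤ Q := le_trans Subgroup.le_normalizer hQ
    have key : ∀ R : Sylow 2 (Perm α), x ∈ R → D ≤ R → D ≠ (R : Subgroup (Perm α)) →
        (∀ R2 : Sylow 2 (Perm α), R2 ≠ R → x ∈ R2 →
          Nat.card ((R2 : Subgroup (Perm α)) ⊓ (R : Subgroup (Perm α)) : Subgroup (Perm α))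
            ≤ Nat.card D) → Q = R := by
      intro R hxR hDR hDneR hmaxR
      by_contra hQR
      obtain ⟨n, hnR, hnN, hnD⟩ :=
        Cfsg.Agent.Lib.Helper21.exists_mem_normalizer_not_mem' R.isPGroup' hDR hDneR
      have h1 : D ≤ (Q : Subgroup (Perm α)) ⊓ (R : Subgroup (Perm α)) := le_inf hDQ hDR
      have h2 := hmaxR Q hQR (hDQ hxD)
      have h3 := Subgroup.eq_of_le_of_card_ge h1 h2
      apply hnD
      rw [h3]
      exact ⟨hQ hnN, hnR⟩
    have hP1 : Q = P := by
      apply key P hxP inf_le_left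
      · intro h
        apply hne
        have h1 : (P : Subgroup (Perm α)) ≤ P' := by
          rw [← h]; exact inf_le_right
        exact (Sylow.ext (P.is_maximal' P'.isPGroup' h1)).symm
      · intro R2 hR2 hxR2
        have := hmax ⟨(R2, P), hR2, hxR2, hxP⟩
        exact this
    have hP2 : Q = P' := by
      apply key P' hxP' inf_le_right
      · intro h
        apply hne
        have h1 : (P' : Subgroup (Perm α)) ≤ P := by
          rw [← h]; exact inf_le_left
        exact Sylow.ext (P'.is_maximal' P.isPGroup' h1)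
      · intro R2 hR2 hxR2
        have := hmax ⟨(R2, P'), hR2, hxR2, hxP'⟩
        exact this
    exact hne (hP1.symm.trans hP2)
  unfold IsPGroup at hN
  push Not at hN
  obtain ⟨g, hg⟩ := hN
  obtain ⟨k, m, hm, hkm⟩ := Nat.exists_eq_two_pow_mul_odd (orderOf_pos (g : Perm α)).ne'
  have hgm : ((g : Perm α) ^ 2 ^ k) ^ m = 1 := by
    rw [← pow_mul, ← hkm, pow_orderOf_eq_one]
  have hgN : (g : Perm α) ^ 2 ^ k ∈ Subgroup.normalizer (D : Set (Perm α)) :=
    Subgroup.pow_mem _ g.2 _
  have hall : ∀ z : Perm α, z ∈ supIn (Finset.univ : Finset α) :=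
    fun z y hy => absurd (Finset.mem_univ y) hy
  have h1 := odd_normalizer_trivial (Finset.univ : Finset α).card Finset.univ le_rfl D x
    ((g : Perm α) ^ 2 ^ k) m hDP (fun z _ => hall z) hxD hgood (hall _) hgN hm hgm
  apply hg k
  apply Subtype.ext
  simpa using h1

/-- a 2-element lying in a unique Sylow 2-subgroup is good -/
theorem good_of_unique_sylow (x : Perm α) (hx2 : ∃ k : ℕ, x ^ 2 ^ k = 1)
    (P : Sylow 2 (Perm α)) (hxP : x ∈ P) (huniq : ∀ Q : Sylow 2 (Perm α), x ∈ Q → Q = P) :
    Fintype.card α ≤ x.support.card + 2 ∧ x.cycleType.Nodup := by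
  have : Fact (Nat.Prime 2) := ⟨Nat.prime_two⟩
  obtain ⟨kx, hkx⟩ := hx2
  have A0 : ∀ R : Subgroup (Perm α), IsPGroup 2 R → x ∈ R → R ≤ P := by
    intro R hR hxR
    obtain ⟨Q, hQ⟩ := hR.exists_le_sylow
    rw [← huniq Q (hQ hxR)]
    exact hQ
  have A1 : ∀ y : Perm α, x * y = y * x → (∃ k : ℕ, y ^ 2 ^ k = 1) → y ∈ P := by
    intro y hxy hy
    have hcl : IsPGroup 2 (Subgroup.closure ({x, y} : Set (Perm α))) := by
      apply Cfsg.Agent.Lib.Helper21.isPGroup_closure_of_commute
      · intro a ha b hb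
        simp only [Set.mem_insert_iff, Set.mem_singleton_iff] at ha hb
        rcases ha with rfl | rfl <;> rcases hb with rfl | rfl
        · rfl
        · exact hxy
        · exact hxy.symm
        · rfl
      · intro a ha
        simp only [Set.mem_insert_iff, Set.mem_singleton_iff] at ha
        rcases ha with rfl | rfl
        · exact ⟨kx, hkx⟩
        · exact hy
    exact A0 _ hcl (Subgroup.subset_closure (by simp)) (Subgroup.subset_closure (by simp))
  have no3 : ∀ y : Perm α, y ∈ P → orderOf y ≠ 3 := by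
    intro y hy h3
    obtain ⟨k, hk⟩ := P.isPGroup' ⟨y, hy⟩
    have hk' : y ^ 2 ^ k = 1 := by simpa using congrArg Subtype.val hk
    have h1 : 3 ∣ 2 ^ k := by
      rw [← h3]; exact orderOf_dvd_of_pow_eq_one hk'
    have h2 := Nat.Prime.dvd_of_dvd_pow Nat.prime_three h1
    omega
  have hswap2 : ∀ a b : α, ∃ k : ℕ, (swap a b) ^ 2 ^ k = 1 := by
    intro a b
    exact ⟨1, by rw [pow_one, pow_two, swap_mul_self]⟩
  constructor
  · by_contra hlt
    push Not at hlt
    have hc : 2 < (x.supportᶜ).card := by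
      rw [Finset.card_compl]; omega
    obtain ⟨a, ha, b, hb, c, hc, hab, hac, hbc⟩ := Finset.two_lt_card.1 hc
    rw [Finset.mem_compl, Perm.notMem_support] at ha hb hc
    have hcomm : ∀ u v : α, x u = u → x v = v → x * swap u v = swap u v * x := by
      intro u v hu hv
      have := Equiv.swap_apply_apply x u v
      rw [hu, hv] at this
      calc x * swap u v = (x * swap u v * x⁻¹) * x := by group
        _ = swap u v * x := by rw [← this]
    have h1 := A1 _ (hcomm a b ha hb) (hswap2 a b)
    have h2 := A1 _ (hcomm a c ha hc) (hswap2 a c)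
    have h3 := (isThreeCycle_swap_mul_swap_same hab hac hbc).orderOf
    exact no3 _ (Subgroup.mul_mem _ h1 h2) h3
  · by_contra hnd
    rw [cycleType_def] at hnd
    have hex : ¬ (∀ c ∈ x.cycleFactorsFinset.val, ∀ c' ∈ x.cycleFactorsFinset.val,
        (Finset.card ∘ support) c = (Finset.card ∘ support) c' → c = c') :=
      fun h => hnd (Multiset.Nodup.map_on h x.cycleFactorsFinset.nodup)
    push Not at hex
    obtain ⟨c, hc, c', hc', hcard, hcc'⟩ := hex
    rw [Finset.mem_val] at hc hc'
    simp only [Function.comp] at hcard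
    obtain ⟨hcyc, hcx⟩ := mem_cycleFactorsFinset_iff.1 hc
    obtain ⟨hcyc', hcx'⟩ := mem_cycleFactorsFinset_iff.1 hc'
    obtain ⟨a, ha, _⟩ := hcyc
    obtain ⟨b, hb, _⟩ := hcyc'
    have hac : a ∈ c.support := Perm.mem_support.2 ha
    have hbc : b ∈ c'.support := Perm.mem_support.2 hb
    have hca : c = x.cycleOf a := cycle_is_cycleOf hac hc
    have hcb : c' = x.cycleOf b := cycle_is_cycleOf hbc hc'
    have hxa : x a ≠ a := by rw [← hcx a hac]; exact ha
    have hxb : x b ≠ b := by rw [← hcx' b hbc]; exact hb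
    have hnsc : ¬ SameCycle x a b := by
      intro h
      apply hcc'
      rw [hca, hcb, h.cycleOf_eq]
    have hnsc' : ∀ i j : ℕ, (x ^ i) a ≠ (x ^ j) b := by
      intro i j h
      apply hnsc
      have h1 : SameCycle x a ((x ^ i) a) := ⟨i, by rw [zpow_natCast]⟩
      have h2 : SameCycle x b ((x ^ j) b) := ⟨j, by rw [zpow_natCast]⟩
      rw [h] at h1
      exact h1.trans h2.symm
    have ha' : a ∈ (x.cycleOf a).support := by
      rw [mem_support_cycleOf_iff]; exact ⟨SameCycle.refl _ _, Perm.mem_support.2 hxa⟩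
    have hb' : b ∈ (x.cycleOf b).support := by
      rw [mem_support_cycleOf_iff]; exact ⟨SameCycle.refl _ _, Perm.mem_support.2 hxb⟩
    have hiff : ∀ i j : ℕ, (x ^ i) a = (x ^ j) a ↔ (x ^ i) b = (x ^ j) b := by
      intro i j
      rw [(isCycleOn_support_cycleOf x a).pow_apply_eq_pow_apply ha',
        (isCycleOn_support_cycleOf x b).pow_apply_eq_pow_apply hb', ← hca, ← hcb, hcard]
    set t : ℕ → Perm α := fun i => swap ((x ^ i) a) ((x ^ i) b) with ht
    have htcomm : ∀ i j : ℕ, t i * t j = t j * t i := by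
      intro i j
      by_cases h : (x ^ i) a = (x ^ j) a
      · have h' := (hiff i j).1 h
        simp only [ht, h, h']
      · have h' : (x ^ i) b ≠ (x ^ j) b := fun hh => h ((hiff i j).2 hh)
        have h1 : t i ((x ^ j) a) = (x ^ j) a :=
          swap_apply_of_ne_of_ne (Ne.symm h) (hnsc' j i)
        have h2 : t i ((x ^ j) b) = (x ^ j) b :=
          swap_apply_of_ne_of_ne (Ne.symm (hnsc' i j)) (Ne.symm h')
        have h3 := Equiv.swap_apply_apply (t i) ((x ^ j) a) ((x ^ j) b)
        rw [h1, h2] at h3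
        show t i * t j = t j * t i
        have h4 : t j = t i * t j * (t i)⁻¹ := h3
        calc t i * t j = (t i * t j * (t i)⁻¹) * t i := by group
          _ = t j * t i := by rw [← h4]
    have htconj : ∀ i : ℕ, x * t i * x⁻¹ = t (i + 1) := by
      intro i
      have := Equiv.swap_apply_apply x ((x ^ i) a) ((x ^ i) b)
      rw [← this]
      simp only [ht, pow_succ', Perm.mul_apply]
    set N' : Subgroup (Perm α) := Subgroup.closure (Set.range t) with hN'
    have hN'P : IsPGroup 2 N' := by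
      apply Cfsg.Agent.Lib.Helper21.isPGroup_closure_of_commute
      · rintro _ ⟨i, rfl⟩ _ ⟨j, rfl⟩
        exact htcomm i j
      · rintro _ ⟨i, rfl⟩
        exact hswap2 _ _
    have hxN : x ∈ Subgroup.normalizer (N' : Set (Perm α)) := by
      apply Cfsg.Agent.Lib.Helper17.mem_normalizer_of_forall_conj_mem
      intro n hn
      induction hn using Subgroup.closure_induction with
      | mem y hy =>
        obtain ⟨i, rfl⟩ := hy
        rw [htconj]
        exact Subgroup.subset_closure ⟨i + 1, rfl⟩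
      | one => simp
      | mul u v _ _ hu hv =>
        have : x * (u * v) * x⁻¹ = (x * u * x⁻¹) * (x * v * x⁻¹) := by group
        rw [this]
        exact Subgroup.mul_mem _ hu hv
      | inv u _ hu =>
        have : x * u⁻¹ * x⁻¹ = (x * u * x⁻¹)⁻¹ := by group
        rw [this]
        exact Subgroup.inv_mem _ hu
    have hzP : IsPGroup 2 (Subgroup.zpowers x) := by
      apply IsPGroup.of_card_dvd_pow (n := kx)
      rw [Nat.card_zpowers]
      exact orderOf_dvd_of_pow_eq_one hkx
    have hzN : Subgroup.zpowers x ≤ Subgroup.normalizer (N' : Set (Perm α)) := by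
      rw [Subgroup.zpowers_le]; exact hxN
    have hsup : IsPGroup 2 (N' ⊔ Subgroup.zpowers x : Subgroup (Perm α)) :=
      IsPGroup.to_sup_of_normal_left' hN'P hzP hzN
    have hsupP := A0 _ hsup ((le_sup_right : Subgroup.zpowers x ≤ _) (Subgroup.mem_zpowers x))
    have ht0 : t 0 ∈ P := hsupP ((le_sup_left : N' ≤ _) (Subgroup.subset_closure ⟨0, rfl⟩))
    have ht1 : t 1 ∈ P := hsupP ((le_sup_left : N' ≤ _) (Subgroup.subset_closure ⟨1, rfl⟩))
    have hcP : x.cycleOf a ∈ P := by
      apply A1
      · rw [← hca]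
        exact ((self_mem_cycle_factors_commute hc).eq).symm
      · refine ⟨kx, ?_⟩
        rw [← orderOf_dvd_iff_pow_eq_one]
        exact (orderOf_cycleOf_dvd_orderOf x a).trans (orderOf_dvd_of_pow_eq_one hkx)
    have h5 : swap (x a) b ∈ P := by
      have := Equiv.swap_apply_apply (x.cycleOf a) a b
      rw [cycleOf_apply_self, cycleOf_apply_of_not_sameCycle hnsc] at this
      rw [this]
      have ht0' : t 0 = swap a b := by simp [ht]
      rw [← ht0']
      exact Subgroup.mul_mem _ (Subgroup.mul_mem _ hcP ht0) (Subgroup.inv_mem _ hcP)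
    have ht1' : t 1 = swap (x a) (x b) := by simp [ht]
    rw [ht1'] at ht1
    have hne1 : x a ≠ b := by
      have := hnsc' 1 0
      simpa using this
    have hne2 : x a ≠ x b := by
      have := hnsc' 1 1
      simpa using this
    have h3 := (isThreeCycle_swap_mul_swap_same hne1 hne2 (Ne.symm hxb)).orderOf
    exact no3 _ (Subgroup.mul_mem _ h5 ht1) h3

end Cfsg.Agent.Lib.Helper11.SylU
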