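import Mathlib
import Cfsg.Agent.Lib.Helper20.UTNDefs
import Cfsg.Agent.Lib.Helper20.UTS
import Cfsg.Agent.Lib.Helper5.SUMax

/-!
S5670, part (N), leaf N1b of `notes/S5670_N_leaves.lean` (exact signature):
`h (kB y c) h⁻¹ = E_y(c • H H†)` for an isometry `h` acting on `A ⊗ y` by the matrix `H`.
-/

set_option autoImplicit false
set_option linter.unusedSectionVars false
set_option linter.unusedVariables false

namespace Cfsg.Agent.Lib.Helper11.UTNLeaf
open Matrix
open Cfsg.Agent.Lib.Helper25.Tens Cfsg.Agent.Lib.Helper25.TensLeaf Cfsg.Agent.Lib.Helper25.TensLeaves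
open Cfsg.Agent.Lib.Helper20.UT Cfsg.Agent.Lib.Helper20.UTLeaf Cfsg.Agent.Lib.Helper20.UTN
open scoped Kronecker

variable {F : Type*} [Field F] [Fintype F] {a b q : ℕ} {M : Subgroup (GL (Idx a b) F)}

theorem q_ne_zero_of_card (hF : Fintype.card F = q ^ 2) : q ≠ 0 := by
  rintro rfl
  have : 2 ≤ Fintype.card F := Fintype.one_lt_card
  omega

/-- the form against a coordinate vector -/
theorem hv_single_right_one (hF : Fintype.card F = q ^ 2) {n : ℕ} (u : Fin n → F) (i : Fin n) :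
    hv q u (Pi.single i (1 : F)) = u i := by
  unfold hv
  rw [Finset.sum_eq_single i]
  · rw [Pi.single_eq_same, one_pow, mul_one]
  · intro j _ hj
    rw [Pi.single_eq_of_ne hj, zero_pow (q_ne_zero_of_card hF), mul_zero]
  · intro h
    exact absurd (Finset.mem_univ i) h

/-- non-degeneracy of the standard hermitian form -/
theorem hv_ext_left (hF : Fintype.card F = q ^ 2) {n : ℕ} {u u' : Fin n → F}
    (h : ∀ x : Fin n → F, hv q u x = hv q u' x) : u = u' := by
  ext i
  have := h (Pi.single i 1)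
  rwa [hv_single_right_one hF, hv_single_right_one hF] at this

/-- the adjoint on the right -/
theorem hv_adjM_right (hF : Fintype.card F = q ^ 2) {n : ℕ} (H : Matrix (Fin n) (Fin n) F)
    (u x : Fin n → F) : hv q u (H *ᵥ x) = hv q (adjM q H *ᵥ u) x := by
  rw [← hv_conj hF (H *ᵥ x) u, hv_adjM hF, hv_conj hF]

/-- the contraction `c_y` of `h⁻¹ v` for an isometry `h` acting on `A ⊗ y` by `H` -/
theorem ct_inv_of_iso (hF : Fintype.card F = q ^ 2) {h : GL (Idx a b) F} (hh : h ∈ GUI a b q F)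
    {y : Fin b → F} (H : GL (Fin a) F)
    (hH : ∀ x : Fin a → F, mv h (pt x y) = pt (mv H x) y) (v : Idx a b → F) :
    ct (cj q y) (mv h⁻¹ v) =
      adjM q (H : Matrix (Fin a) (Fin a) F) *ᵥ ct (cj q y) v := by
  apply hv_ext_left hF
  intro x
  rw [← hv_pt_right, ← mem_GUI.1 hh (mv h⁻¹ v) (pt x y), mv_mv_inv, hH, hv_pt_right,
    ← hv_adjM_right hF]
  rfl

/-- N1b `h (kB y c) h⁻¹ = E_y(c • H H†)`. -/
theorem IsZ_conj_kB (hF : Fintype.card F = q ^ 2) {h : GL (Idx a b) F} (hh : h ∈ GUI a b q F)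
    {y : Fin b → F} (hy : hv q y y = 0) (H : GL (Fin a) F)
    (hH : ∀ x : Fin a → F, mv h (pt x y) = pt (mv H x) y) (c : F) :
    IsZ q y (h * kB q y c hy * h⁻¹)
      (c • ((H : Matrix (Fin a) (Fin a) F) * adjM q (H : Matrix (Fin a) (Fin a) F))) := by
  intro v
  rw [mv_mul, mv_mul, mv_kB, mv_add, mv_mv_inv, mv_smul, hH, ct_inv_of_iso hF hh H hH,
    Matrix.smul_mulVec, pt_smul_left, ← Matrix.mulVec_mulVec]
  rfl

end Cfsg.Agent.Lib.Helper11.UTNLeaf
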