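import Mathlib
import Cfsg.Prelude.Def_ClassicalGeometry
import Cfsg.Prelude.Def_GeometricClasses
import Cfsg.Agent.Lib.Helper11.T23UDefs
import Cfsg.Agent.Lib.Helper11.C4UBasic
import Cfsg.Agent.Lib.Helper23.SOTGTM
import Cfsg.Agent.Lib.Helper7.UTTT
import Cfsg.Agent.Lib.Helper1.U23Opp
import Cfsg.Agent.Lib.Helper12.C4UG
import Cfsg.Agent.Lib.Helper7.C4UP
import Cfsg.Agent.Lib.Helper7.C4URho
import Cfsg.Agent.Lib.Helper18.C4UN5
import Cfsg.Agent.Lib.Helper9.C4UTW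
import Cfsg.Agent.Lib.Helper20.C4UFC
import Cfsg.Agent.Lib.Helper6.C4UR1
import Cfsg.Agent.Lib.Helper27.C4UL1

/-!
# S5801 conjunct (8): `GU_2(q) ⊗ GU_3(q)` is maximal in `SU_6(q)` - ASSEMBLY of the C4U market
(plan: notes/S5801_C4_plan.md; leaves: notes/S5801_C4_leaves.lean).

* `fc`            : fusion control for the root group `X_x` relative to `Kx` (all `q ≥ 3`, characteristic free);
* `exists_x0`     : the fixed point trick, `x₀ ∈ <X_x, g X_x g⁻¹> ∩ g Kx` (all `q ≥ 3`);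
* `no_nonopp_q4`  : for `q ≥ 4` no pair `(R_x, g R_x)`, `g ∈ M`, is non-opposite;
* `model_of_NO`   : the model theorem from "no non-opposite pair" (interface for `q = 3`);
* `model_q4`      : the model theorem for `q ≥ 4`;
* `tensor23_of_model` : conjunct (8) of S5801 from the model theorem.

Leaves: G `Helper12.C4ULeaf.growth`, P `Helper7.C4UP.KG_GS_lt_23`, RHO `Helper7.C4URho.exists_rho`,
R1 `Helper6.C4UR1.R1`, L1 `Helper27.C4UL1.L1_of`, FC-A/FC-B `Helper20.C4UFC`, N5 `Helper18.C4UN5.nonopp_false`,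
TW `Helper9.C4UTW.twist`, TR/STAB/XA/ISO `Helper11.C4U`, opposite case `Helper1.U23Opp.le_KG_of_opp`.
-/

set_option autoImplicit false
set_option linter.unusedSectionVars false
set_option linter.unusedVariables false

namespace Cfsg.Agent.Lib.Helper11.T23UMain
open Matrix Module
open Cfsg.Agent.Lib.Helper25.Tens Cfsg.Agent.Lib.Helper25.TensLeaf Cfsg.Agent.Lib.Helper25.TensLeaves
open Cfsg.Agent.Lib.Helper20.UT Cfsg.Agent.Lib.Helper5.UTG Cfsg.Agent.Lib.Helper11.T23U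
open Cfsg.Agent.Lib.Helper11.C4U
open Cfsg.Agent.Lib.Helper12.C4ULeaf (growth)
open Cfsg.Agent.Lib.Helper7.C4UP (KG_GS_lt_23)
open Cfsg.Agent.Lib.Helper7.C4URho (exists_rho)
open Cfsg.Agent.Lib.Helper18.C4UN5 (nonopp_false)
open Cfsg.Agent.Lib.Helper9.C4UTW (twist)
open Cfsg.Agent.Lib.Helper20.C4UFC (fc_caseA fc_caseB)
open Cfsg.Agent.Lib.Helper6.C4UR1 (R1)
open scoped Kronecker

variable {F : Type*} [Field F] [Fintype F] {q : ℕ} {M : Subgroup (GL (Idx 2 3) F)}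

/-- **L1** `Stab_M(R_x) ≤ KG` (helper27's `L1_of` + helper6's `R1`) -/
theorem L1 (h : MC q M) {x : Fin 2 → F} (hx0 : x ≠ 0) (hx : hv q x x = 0) {m : GL (Idx 2 3) F} (hm : m ∈ M)
    (hst : m ∈ StabA (b := 3) x) : m ∈ KG 2 3 F :=
  Cfsg.Agent.Lib.Helper27.C4UL1.L1_of h (fun x hx0 hx g hg Ξ hZ => R1 h hx0 hx hg hZ) hx0 hx hm hst

/-- the pencil identity `kA (r c) = r • kA c + (1 - r) • 1` -/
lemma kA_pencil {x : Fin 2 → F} (hx : hv q x x = 0) (r c : F) :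
    ((kA q x (r * c) hx : GL (Idx 2 3) F) : Matrix (Idx 2 3) (Idx 2 3) F) =
      r • ((kA q x c hx : GL (Idx 2 3) F) : Matrix (Idx 2 3) (Idx 2 3) F) +
        (1 - r) • (1 : Matrix (Idx 2 3) (Idx 2 3) F) := by
  apply Matrix.toLin'.injective
  apply LinearMap.ext
  intro v
  have h1 := Cfsg.Agent.Lib.Helper20.UTLeaf.mv_kA (q := q) (b := 3) x (r * c) hx v
  have h2 := Cfsg.Agent.Lib.Helper20.UTLeaf.mv_kA (q := q) (b := 3) x c hx v
  unfold mv at h1 h2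
  rw [Matrix.toLin'_apply, Matrix.toLin'_apply, Matrix.add_mulVec, Matrix.smul_mulVec, Matrix.smul_mulVec,
    Matrix.one_mulVec, h1, h2, smul_add, mul_smul, sub_smul, one_smul]
  abel

lemma kA_mem_K (h : MC q M) {x : Fin 2 → F} (hx : hv q x x = 0) {c : F} (hc : c ^ q = -c) :
    (kA q x c hx : GL (Idx 2 3) F) ∈ KG 2 3 F ⊓ GS 2 3 q F :=
  ⟨kA_mem_KG q x c hx, Cfsg.Agent.Lib.Helper20.UTLeaf.kA_mem_GS h.hF x hc hx⟩

lemma kA_mem_StabA {x : Fin 2 → F} (hx : hv q x x = 0) (c : F) :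
    (kA q x c hx : GL (Idx 2 3) F) ∈ StabA (b := 3) x := by
  apply mem_StabA_of_maps
  intro y
  rw [mv_kA_pt, hx, mul_zero, zero_smul, add_zero]
  exact mem_FibA.mpr ⟨y, rfl⟩

/-- **FC** fusion control for the root group `X_x`, relative to `Kx` -/
theorem fc (h : MC q M) {x : Fin 2 → F} (hx0 : x ≠ 0) (hx : hv q x x = 0) {m : GL (Idx 2 3) F} (hm : m ∈ M)
    (hk : ∀ c : F, c ^ q = -c → m⁻¹ * (kA q x c hx : GL (Idx 2 3) F) * m ∈ Kx (b := 3) q x) :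
    m ∈ Kx (b := 3) q x := by
  have hF := h.hF
  obtain ⟨c₁, hc₁0, hc₁⟩ := Cfsg.Agent.Lib.Helper23.UTLeaf.exists_skew (q := q) hF
  obtain ⟨r, hr0, hr1, hr⟩ := Cfsg.Agent.Lib.Helper23.UTNLeaf.exists_fixed_ne_one hF h.hq
  have hc₂ : (r * c₁) ^ q = -(r * c₁) := by rw [mul_pow, hr, hc₁, mul_neg]
  have hk₁ := hk c₁ hc₁
  have hk₂ := hk (r * c₁) hc₂
  obtain ⟨α, β, hαβ⟩ := hk₁.1.1
  obtain ⟨α', β', hαβ'⟩ := hk₂.1.1
  have hpen : r • ((α : Matrix (Fin 2) (Fin 2) F) ⊗ₖ (β : Matrix (Fin 3) (Fin 3) F)) +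
      (1 - r) • (1 : Matrix (Idx 2 3) (Idx 2 3) F) =
      (α' : Matrix (Fin 2) (Fin 2) F) ⊗ₖ (β' : Matrix (Fin 3) (Fin 3) F) := by
    rw [← hαβ, ← hαβ']
    simp only [Units.val_mul]
    have hmm : ((m⁻¹ : GL (Idx 2 3) F) : Matrix (Idx 2 3) (Idx 2 3) F) * (m : Matrix (Idx 2 3) (Idx 2 3) F) = 1 := by
      rw [← Units.val_mul, inv_mul_cancel, Units.val_one]
    rw [kA_pencil hx r c₁, mul_add, add_mul, Matrix.mul_smul, Matrix.smul_mul, Matrix.mul_smul, Matrix.smul_mul,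
      mul_one, hmm]
  rcases kron_pencil (by norm_num) (by norm_num) _ _ _ _ r hr0 hr1 hpen with ⟨s, hs⟩ | ⟨s, hs⟩
  · exfalso
    refine fc_caseB hx0 hx hc₁0 m (s • (β : Matrix (Fin 3) (Fin 3) F)) ?_
    rw [hαβ, hs, Matrix.smul_kronecker, Matrix.kronecker_smul]
  · have hmst : m ∈ StabA (b := 3) x := by
      refine fc_caseA hF hx0 hx hc₁0 (s • (α : Matrix (Fin 2) (Fin 2) F)) ?_ hk₁.2
      rw [hαβ, hs, Matrix.smul_kronecker, Matrix.kronecker_smul]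
    exact ⟨⟨L1 h hx0 hx hm hmst, h.le_G hm⟩, hmst⟩

/-- **GT** the fixed point trick: `x₀ ∈ <X_x, g X_x g⁻¹> ∩ g Kx` -/
theorem exists_x0 (h : MC q M) {x : Fin 2 → F} (hx0 : x ≠ 0) (hx : hv q x x = 0) {g : GL (Idx 2 3) F}
    (hg : g ∈ M) :
    ∃ x₀ ∈ XA (b := 3) q x hx ⊔ (XA (b := 3) q x hx).map (MulAut.conj g).toMonoidHom,
      g⁻¹ * x₀ ∈ Kx (b := 3) q x := by
  classical
  have hF := h.hF
  obtain ⟨p, hCp⟩ := CharP.exists F
  haveI : CharP F p := hCp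
  haveI : Fact p.Prime := ⟨CharP.char_is_prime F p⟩
  have hXM : XA (b := 3) q x hx ≤ M := by
    unfold XA
    rw [Subgroup.closure_le]
    rintro t ⟨c, hc, rfl⟩
    exact h.le (kA_mem_K h hx hc)
  have hXK : XA (b := 3) q x hx ≤ Kx (b := 3) q x := by
    unfold XA
    rw [Subgroup.closure_le]
    rintro t ⟨c, hc, rfl⟩
    exact ⟨kA_mem_K h hx hc, kA_mem_StabA hx c⟩
  have hP : IsPGroup p (XA (b := 3) q x hx) := by
    rintro ⟨t, ht⟩
    obtain ⟨c, hc, rfl⟩ := (mem_XA_iff hF hx t).mp ht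
    refine ⟨1, ?_⟩
    apply Subtype.ext
    rw [pow_one, Subgroup.coe_pow, Subgroup.coe_one]
    exact Cfsg.Agent.Lib.Helper20.UTLeaf.kA_pow_char p x c hx
  have hP' : IsPGroup p ((XA (b := 3) q x hx).map (MulAut.conj g).toMonoidHom) := hP.map _
  have hX'M : (XA (b := 3) q x hx).map (MulAut.conj g).toMonoidHom ≤ M := by
    rintro t ⟨s, hs, rfl⟩
    change g * s * g⁻¹ ∈ M
    exact M.mul_mem (M.mul_mem hg (hXM hs)) (M.inv_mem hg)
  have h1 : ∀ m ∈ M, (∀ t ∈ XA (b := 3) q x hx, m⁻¹ * t * m ∈ Kx (b := 3) q x) → m ∈ Kx (b := 3) q x := by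
    intro m hm ht
    exact fc h hx0 hx hm (fun c hc => ht _ (Subgroup.subset_closure ⟨c, hc, rfl⟩))
  have h2 : ∀ m ∈ M, (∀ t ∈ (XA (b := 3) q x hx).map (MulAut.conj g).toMonoidHom,
      m⁻¹ * t * m ∈ Kx (b := 3) q x) → g⁻¹ * m ∈ Kx (b := 3) q x := by
    intro m hm ht
    apply h1 (g⁻¹ * m) (M.mul_mem (M.inv_mem hg) hm)
    intro t htX
    have := ht (g * t * g⁻¹) ⟨t, htX, rfl⟩
    have e : (g⁻¹ * m)⁻¹ * t * (g⁻¹ * m) = m⁻¹ * (g * t * g⁻¹) * m := by group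
    rw [e]
    exact this
  exact Cfsg.Agent.Lib.Helper23.SOTLeafM.exists_mem_sup_coset p M (Kx (b := 3) q x) (XA (b := 3) q x hx)
    ((XA (b := 3) q x hx).map (MulAut.conj g).toMonoidHom) g hg hXM hX'M hP hP' hXK h1 h2

/-- `mv g` preserves dimensions: `W ≤ g W ⟹ g W = W` -/
lemma mvS_eq_of_le {g : GL (Idx 2 3) F} {W : Submodule F (Idx 2 3 → F)} (hle : W ≤ mvS g W) :
    mvS g W = W := by
  symm
  apply Submodule.eq_of_le_of_finrank_le hle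
  unfold mvS
  exact Submodule.finrank_map_le _ _

lemma mem_StabA_of_mvS_eq {x : Fin 2 → F} {g : GL (Idx 2 3) F}
    (h : mvS g (FibA (b := 3) x) = FibA (b := 3) x) : g ∈ StabA (b := 3) x := by
  apply mem_StabA_of_maps
  intro y
  rw [← h]
  exact mem_mvS.mpr ⟨pt x y, mem_FibA.mpr ⟨y, rfl⟩, rfl⟩

/-- **NO** for `q ≥ 4`: no non-opposite pair `(R_x, g R_x)`, `g ∈ M` -/
theorem no_nonopp_q4 (h : MC q M) (hq4 : 4 ≤ q) {x : Fin 2 → F} (hx0 : x ≠ 0) (hx : hv q x x = 0)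
    {g : GL (Idx 2 3) F} (hg : g ∈ M) :
    FibA (b := 3) x ⊓ mvS g (FibA (b := 3) x) = ⊥ ∨ mvS g (FibA (b := 3) x) = FibA (b := 3) x := by
  by_contra hcon
  push Not at hcon
  obtain ⟨hK0, hne⟩ := hcon
  have hF := h.hF
  obtain ⟨x₀, hx₀, hgx₀⟩ := exists_x0 h hx0 hx hg
  obtain ⟨ρ, hρ0, hρ, hρ2⟩ := exists_rho hF hq4
  have hmap : ∀ v ∈ FibA (b := 3) x, mv x₀ v ∈ mvS g (FibA (b := 3) x) := by
    intro v hv
    have hk := (mem_StabA.mp hgx₀.2 v).mp hv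
    refine mem_mvS.mpr ⟨mv (g⁻¹ * x₀) v, hk, ?_⟩
    rw [← mv_mul, mul_inv_cancel_left]
  obtain ⟨T, hTM, hT1, hT2⟩ := twist h hx0 hx hg hx₀ hmap ρ hρ0 hρ
  have hTst : T ∈ StabA (b := 3) x := by
    apply mem_StabA_of_maps
    intro y
    have hv : pt x y ∈ FibA (b := 3) x := mem_FibA.mpr ⟨y, rfl⟩
    have h3 := hT2 _ hv
    have h4 : mv T (pt x y) = (mv T (pt x y) - ρ⁻¹ • pt x y) + ρ⁻¹ • pt x y := by abel
    rw [h4]
    exact (FibA x).add_mem h3.1 ((FibA x).smul_mem _ hv)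
  have hTK : T ∈ KG 2 3 F := L1 h hx0 hx hTM hTst
  have hKne : FibA (b := 3) x ⊓ mvS g (FibA (b := 3) x) ≠ FibA (b := 3) x := by
    intro heq
    apply hne
    apply mvS_eq_of_le
    have hle : FibA (b := 3) x ⊓ mvS g (FibA (b := 3) x) ≤ mvS g (FibA (b := 3) x) := inf_le_right
    rwa [heq] at hle
  exact nonopp_false hF hx0 hx (FibA (b := 3) x ⊓ mvS g (FibA (b := 3) x)) inf_le_left hK0 hKne ρ hρ0 hρ hρ2 T hTK
    (h.le_G hTM).1 hT1 hT2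

/-- the MODEL theorem, given "no non-opposite pair" (this is the interface for `q = 3`) -/
theorem model_of_NO (hF : Fintype.card F = q ^ 2) (hq : 3 ≤ q)
    (hNO : ∀ M : Subgroup (GL (Idx 2 3) F), MC q M → ∀ x : Fin 2 → F, x ≠ 0 → hv q x x = 0 → ∀ g ∈ M,
      FibA (b := 3) x ⊓ mvS g (FibA (b := 3) x) = ⊥ ∨ mvS g (FibA (b := 3) x) = FibA (b := 3) x) :
    Cfsg.Geo.IsMaximalIn (GS 2 3 q F) (KG 2 3 F ⊓ GS 2 3 q F) := by
  refine ⟨KG_GS_lt_23 hF, ?_⟩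
  intro M hKM hMG
  by_cases hT : T1U' q M
  · right
    exact le_antisymm hMG (growth hF hq hKM hMG hT)
  · left
    have h : MC q M := { hF := hF, hq := hq, le := hKM, le_G := hMG, noT := hT }
    obtain ⟨x, hx0, hx⟩ := exists_iso2 (q := q) hF
    have hL1 : ∀ g ∈ M, (∀ y : Fin 3 → F, ∃ y' : Fin 3 → F, mv g (pt x y) = pt x y') → g ∈ KG 2 3 F := by
      intro g hg hy
      apply L1 h hx0 hx hg
      apply mem_StabA_of_maps
      intro y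
      obtain ⟨y', hy'⟩ := hy y
      rw [hy']
      exact mem_FibA.mpr ⟨y', rfl⟩
    have hne : M ≤ KG 2 3 F := by
      apply Cfsg.Agent.Lib.Helper1.U23Opp.le_KG_of_opp hF hKM hMG hx0 hx hL1
      intro g hg hgK y y' hyy
      rcases hNO M h x hx0 hx g hg with hopp | heq
      · have hmem : pt x y' ∈ FibA (b := 3) x ⊓ mvS g (FibA (b := 3) x) :=
          ⟨mem_FibA.mpr ⟨y', rfl⟩, mem_mvS.mpr ⟨pt x y, mem_FibA.mpr ⟨y, rfl⟩, hyy⟩⟩
        rw [hopp, Submodule.mem_bot] at hmem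
        rw [hmem] at hyy
        have h0 : pt x y = 0 := (mv_eq_zero_iff g _).mp hyy
        rcases (pt_eq_zero_iff x y).mp h0 with h1 | h1
        · exact absurd h1 hx0
        · exact h1
      · exact absurd (L1 h hx0 hx hg (mem_StabA_of_mvS_eq heq)) hgK
    exact le_antisymm (le_inf hne hMG) hKM

/-- the model theorem for `q ≥ 4` -/
theorem model_q4 (hF : Fintype.card F = q ^ 2) (hq : 4 ≤ q) :
    Cfsg.Geo.IsMaximalIn (GS 2 3 q F) (KG 2 3 F ⊓ GS 2 3 q F) :=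
  model_of_NO hF (by omega) (fun M h x hx0 hx g hg => no_nonopp_q4 h hq hx0 hx hg)

/-- conjunct (8) of S5801 from the model theorem (transport = `Helper7.UTTLeaf.transportU`, context-free) -/
theorem tensor23_of_model (hF : Fintype.card F = q ^ 2)
    (hcore : Cfsg.Geo.IsMaximalIn (GS 2 3 q F) (KG 2 3 F ⊓ GS 2 3 q F)) :
    ∀ (e : Fin 6 ≃ Fin 2 × Fin 3) (P : Matrix.GeneralLinearGroup (Fin 6) F)
      (f₁ : (Fin 2 → F) → (Fin 2 → F) → F) (f₂ : (Fin 3 → F) → (Fin 3 → F) → F),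
      Cfsg.Geo.IsUnitaryFormPow q f₁ → Cfsg.Geo.IsUnitaryFormPow q f₂ →
      Cfsg.Geo.IsTensorFormStructure (fun x : F => x ^ q) (Cfsg.hermForm 6 F q) f₁ f₂ e P →
      Cfsg.Geo.IsMaximalIn (Cfsg.GU 6 F q ⊓ Cfsg.Geo.specialLinear (Fin 6) F)
        (Cfsg.Geo.tensorProductSubgroup 2 3 e P ⊓ (Cfsg.GU 6 F q ⊓ Cfsg.Geo.specialLinear (Fin 6) F)) :=
  fun e P f₁ f₂ hf₁ hf₂ hT =>
    Cfsg.Agent.Lib.Helper7.UTTLeaf.transportU hF 2 3 e P f₁ f₂ hf₁ hf₂ hT hcore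

end Cfsg.Agent.Lib.Helper11.T23UMain
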