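import Mathlib
import Cfsg.Agent.Lib.Helper1.PGroup
import Cfsg.Agent.Lib.Helper16.Frattini

/-!
Auxiliary lemmas for families of TI-subgroups in `p`-groups (helper11 library).
-/

set_option autoImplicit false

namespace Cfsg.Agent.Lib.Helper11

/-- A finite group with nontrivial Frattini subgroup has an element whose square is not 1. -/
theorem exists_sq_ne_one_of_frattini_ne_bot {T : Type*} [Group T] [Finite T] (h : frattini T ≠ ⊥) :
    ∃ t : T, t * t ≠ 1 := by
  by_contra hcon
  push Not at hcon
  apply h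
  have hcomm : ∀ a b : T, a * b = b * a := by
    intro a b
    have h1 := hcon (a * b)
    have ha := hcon a
    have hb := hcon b
    calc a * b = a * (a * b * (a * b)) * b := by rw [h1, mul_one]
      _ = (a * a) * b * a * (b * b) := by group
      _ = b * a := by rw [ha, hb, one_mul, mul_one]
  let _ : CommGroup T := { ‹Group T› with mul_comm := hcomm }
  have : Fact (Nat.Prime 2) := ⟨Nat.prime_two⟩
  exact Cfsg.Agent.Lib.Helper16.frattini_eq_bot_of_elementary (p := 2)
    (fun e => by rw [pow_two]; exact hcon e)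

/-- In a finite `p`-group, a proper subgroup `T` of `H` and a conjugate of `T` under `H` generate a
subgroup of order smaller than `H`. -/
theorem card_sup_conj_lt {S : Type*} [Group S] [Finite S] {p : ℕ} [Fact p.Prime] (hS : IsPGroup p S)
    (H T : Subgroup S) (hTH : T ≤ H) (hne : T ≠ H) (h : S) (hh : h ∈ H) :
    Nat.card ↥(T ⊔ T.map (MulAut.conj h).toMonoidHom) < Nat.card ↥H := by
  have hHp : IsPGroup p ↥H := hS.to_subgroup H
  have hT' : T.subgroupOf H ≠ ⊤ := by
    intro htop
    apply hne
    apply le_antisymm hTH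
    intro x hx
    have : (⟨x, hx⟩ : H) ∈ T.subgroupOf H := htop ▸ Subgroup.mem_top _
    exact Subgroup.mem_subgroupOf.mp this
  rcases eq_top_or_exists_le_coatom (T.subgroupOf H) with h1 | ⟨M', hM', hTM'⟩
  · exact absurd h1 hT'
  · have hMn : M'.Normal := Cfsg.Agent.Lib.Helper1.IsPGroup.coatom_normal hHp M' hM'
    have hle : T ⊔ T.map (MulAut.conj h).toMonoidHom ≤ M'.map H.subtype := by
      apply sup_le
      · intro x hx
        exact ⟨⟨x, hTH hx⟩, hTM' (Subgroup.mem_subgroupOf.mpr hx), rfl⟩
      · rintro _ ⟨x, hx, rfl⟩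
        have hxM : (⟨x, hTH hx⟩ : H) ∈ M' := hTM' (Subgroup.mem_subgroupOf.mpr hx)
        have := hMn.conj_mem _ hxM ⟨h, hh⟩
        refine ⟨_, this, ?_⟩
        simp [MulAut.conj_apply]
    have hcardM : Nat.card ↥(M'.map H.subtype) = Nat.card ↥M' :=
      Subgroup.card_map_of_injective (Subgroup.subtype_injective H)
    have hlt : Nat.card ↥M' < Nat.card ↥H := by
      have hle' : Nat.card ↥M' ≤ Nat.card ↥H := Subgroup.card_le_card_group M'
      rcases lt_or_eq_of_le hle' with h2 | h2
      · exact h2
      · exact absurd (Subgroup.eq_top_of_card_eq M' h2) hM'.1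
    calc Nat.card ↥(T ⊔ T.map (MulAut.conj h).toMonoidHom)
        ≤ Nat.card ↥(M'.map H.subtype) := Subgroup.card_le_of_le hle
      _ = Nat.card ↥M' := hcardM
      _ < Nat.card ↥H := hlt

end Cfsg.Agent.Lib.Helper11
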