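/-
helper11: S4885 leaf (CC) `pqDeg_quotient`: the property "every irreducible character of
`p'`-degree has `q'`-degree" passes to quotients (inflation, helper24 `exists_inflation`).
-/
import Mathlib
import Cfsg.Agent.Lib.Helper24.NormalDegrees
import Cfsg.Agent.Lib.Helper14.TPDefs

set_option autoImplicit false

namespace Cfsg.Agent.Lib.Helper11.TP

open Cfsg
open Cfsg.Agent.Lib.Helper14.TP

universe u

variable {H : Type u} [Group H] [Finite H]

/-- (CC) `PQDeg` passes to quotients (inflation). -/
theorem pqDeg_quotient (p q : ℕ) (N : Subgroup H) [N.Normal] (h : PQDeg p q H) :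
    PQDeg p q (H ⧸ N) := by
  intro ψ hp
  obtain ⟨χ, hχ⟩ := Cfsg.Agent.Lib.Helper24.exists_inflation N ψ
  have h1 : charDegree (χ : H → ℂ) = charDegree (ψ : H ⧸ N → ℂ) := by
    unfold charDegree
    rw [hχ 1]
    rfl
  rw [← h1] at hp ⊢
  exact h χ hp

end Cfsg.Agent.Lib.Helper11.TP
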