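/-
helper11: S4885 leaf (CF) `exists_lift_pair`: lifting a pair `(Ā, Q̄)` (a `p`-group normalizing a
`q`-group) of `H ⧸ V`, `V` a normal `p`-subgroup, to a pair `(A, Q)` of `H` with `A ≤ N(Q)` and
`V ⊓ A ≤ C(Q)`.
-/
import Mathlib
import Cfsg.Agent.Lib.Helper1.Coprime

set_option autoImplicit false

namespace Cfsg.Agent.Lib.Helper11.TP

universe u

variable {H : Type u} [Group H] [Finite H]

/-- (CF) lifting the pair `(Ā, Q̄)`: `Q` a Sylow `q`-subgroup of the preimage `Y` of `Q̄`,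
`A = P ∩ N_H(Q)` with `P` the preimage of `Ā` (Frattini argument). -/
theorem exists_lift_pair (p q : ℕ) [Fact p.Prime] [Fact q.Prime] (hpq : p ≠ q) (V : Subgroup H)
    [V.Normal] (hV : IsPGroup p V) (Ab Qb : Subgroup (H ⧸ V)) (hAb : IsPGroup p Ab)
    (hQb : IsPGroup q Qb) (hAQ : Ab ≤ Subgroup.normalizer (Qb : Set (H ⧸ V))) :
    ∃ A Q : Subgroup H, IsPGroup p A ∧ IsPGroup q Q ∧ Q.map (QuotientGroup.mk' V) = Qb ∧
      A.map (QuotientGroup.mk' V) = Ab ∧ A ≤ Subgroup.normalizer (Q : Set H) ∧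
      V ⊓ A ≤ Subgroup.centralizer (Q : Set H) := by
  classical
  set π : H →* H ⧸ V := QuotientGroup.mk' V with hπ
  have hπs : Function.Surjective π := QuotientGroup.mk'_surjective V
  have hker : π.ker = V := QuotientGroup.ker_mk' V
  set Y : Subgroup H := Qb.comap π with hY
  obtain ⟨Q₀⟩ : Nonempty (Sylow q Y) := inferInstance
  set Q : Subgroup H := (Q₀ : Subgroup Y).map Y.subtype with hQ
  have hQq : IsPGroup q Q := Q₀.2.map _
  have hQY : Q ≤ Y := Subgroup.map_subtype_le _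
  -- `Q` maps onto `Qb`
  have hQmap : Q.map π = Qb := by
    set φ : Y →* Qb := π.subgroupComap Qb with hφdef
    have hφ : Function.Surjective φ :=
      MonoidHom.subgroupComap_surjective_of_surjective π Qb hπs
    have h1 : ((Q₀.mapSurjective hφ : Sylow q Qb) : Subgroup Qb) = ⊤ := by
      have hTop : IsPGroup q (⊤ : Subgroup Qb) :=
        hQb.of_injective (Subgroup.subtype ⊤) (Subgroup.subtype_injective _)
      exact ((Q₀.mapSurjective hφ).is_maximal' hTop le_top).symm
    rw [Sylow.coe_mapSurjective] at h1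
    apply le_antisymm
    · rw [Subgroup.map_le_iff_le_comap]; exact hQY
    · intro b hb
      have hb' : (⟨b, hb⟩ : Qb) ∈ (Q₀ : Subgroup Y).map φ := by rw [h1]; trivial
      obtain ⟨y, hy, hyb⟩ := hb'
      refine ⟨(y : H), ⟨y, hy, rfl⟩, ?_⟩
      exact congrArg Subtype.val hyb
  -- `Q ⊓ V = ⊥`
  have hdisj : Disjoint V Q := IsPGroup.disjoint_of_ne p q hpq V Q hV hQq
  set P : Subgroup H := Ab.comap π with hP
  have hVP : V ≤ P := by
    intro v hv
    have : π v = 1 := by rw [← MonoidHom.mem_ker, hker]; exact hv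
    show π v ∈ Ab
    rw [this]; exact Ab.one_mem
  have hPp : IsPGroup p P := by
    refine hAb.comap_of_ker_isPGroup π ?_
    rw [hker]; exact hV
  -- `P` normalizes `Y`
  have hPY : P ≤ Subgroup.normalizer (Y : Set H) := by
    intro x hx
    have hx' : π x ∈ Subgroup.normalizer (Qb : Set (H ⧸ V)) := hAQ hx
    rw [Subgroup.mem_normalizer_iff] at hx' ⊢
    intro y
    show π y ∈ Qb ↔ π (x * y * x⁻¹) ∈ Qb
    rw [map_mul, map_mul, map_inv]
    exact hx' (π y)
  refine ⟨P ⊓ Subgroup.normalizer (Q : Set H), Q, hPp.to_le inf_le_left, hQq, hQmap, ?_,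
    inf_le_right, ?_⟩
  · apply le_antisymm
    · rw [Subgroup.map_le_iff_le_comap]; exact inf_le_left
    · intro a ha
      obtain ⟨x, rfl⟩ := hπs a
      have hxP : x ∈ P := ha
      obtain ⟨k, hkY, hkN⟩ := Cfsg.Agent.Lib.Helper1.frattini_sylow Y Q₀ x (hPY hxP)
      -- `π k ∈ Qb = Q.map π`
      have hk' : π k ∈ Q.map π := by rw [hQmap]; exact hkY
      obtain ⟨w, hwQ, hwk⟩ := hk'
      refine ⟨w * (k⁻¹ * x), ⟨?_, ?_⟩, ?_⟩
      · show π (w * (k⁻¹ * x)) ∈ Ab
        rw [map_mul, map_mul, map_inv, hwk, mul_inv_cancel_left]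
        exact ha
      · exact Subgroup.mul_mem _ (Subgroup.le_normalizer hwQ) hkN
      · rw [map_mul, map_mul, map_inv, hwk, mul_inv_cancel_left]
  · intro x hx
    obtain ⟨hxV, -, hxN⟩ := hx
    rw [Subgroup.mem_centralizer_iff]
    intro w hw
    -- `[x, w] ∈ Q ⊓ V`
    have h1 : x * w * x⁻¹ * w⁻¹ ∈ Q := by
      have := (Subgroup.mem_normalizer_iff.mp hxN w).mp hw
      exact Q.mul_mem this (Q.inv_mem hw)
    have h2 : x * w * x⁻¹ * w⁻¹ ∈ V := by
      have h3 : w * x⁻¹ * w⁻¹ ∈ V := Subgroup.Normal.conj_mem inferInstance _ (V.inv_mem hxV) w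
      have := V.mul_mem hxV h3
      simpa [mul_assoc] using this
    have h3 : x * w * x⁻¹ * w⁻¹ = 1 := by
      have := Subgroup.disjoint_def.mp hdisj h2 h1
      exact this
    have h4 : x * w = w * x := by
      have := congrArg (fun t => t * w * x) h3
      simpa [mul_assoc] using this
    exact h4.symm
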