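import Mathlib
import Cfsg.Agent.Lib.Helper5.TWS.Defs
import Cfsg.Agent.Lib.Helper5.TWS.StageIDefs
import Cfsg.Agent.Lib.Helper5.TWS.ITwist
import Cfsg.Agent.Lib.Helper13.TWSEnd
import Cfsg.Agent.Lib.Helper16.TWImg
import Cfsg.Agent.Lib.Helper22.TWExtBasic
import Cfsg.Agent.Lib.Helper22.TWExtMore
import Cfsg.Agent.Lib.Helper22.TWQK
import Cfsg.Agent.Lib.Helper26.TWFibA
import Cfsg.Agent.Lib.Helper26.TWFibB

/-!
# S5668 Stage I, `k = 2` block: leaf K2-8 `opp_case` (THE OPPOSITE CASE `R ⊓ R'' = ⊥`), helper11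

`opp_case_of` = K2-8 with the statement of K2-4 `T_form` (for this `X`, `r`, `x`) as a hypothesis; the exact-signature wrapper
`opp_case` is one line once `T_form` is a module.

Proof (coordinate free; neither `sp2_neg` nor the similitude parts of `T_form` are needed): for `μ ≠ 0` the twist `T_μ`
(K2-3) is `slot i α'_μ` with `α'_μ y = μ⁻¹ y` (K2-4 + `K = ⊥`: `γ = μ⁻¹`).  For `v ∈ R''`, `x v = p + p''`:
`x (T_μ v) = μ p + p''`.  With `μ = -1` and `μ₀` (`μ₀² ≠ 1`): `δ := 2 α'₀ - 2 μ₀ - (1 - μ₀)(α'₋ + 1)` satisfies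
`slot i δ = 0` on `R''`, `δ y = 2 (μ₀⁻¹ - μ₀) y ≠ 0`.  So `R'' ≤ fib i (ker δ)`, `ker δ` a line `F z`, `R'' = Wf i z`, and
`NS` gives `x ∈ G`.
-/

set_option autoImplicit false
set_option linter.unusedSectionVars false
set_option linter.unusedVariables false

namespace Cfsg.Agent.Lib.Helper11.TWSLeaf
open Matrix Cfsg.Geo Cfsg.Agent.Lib.Helper18.AschA89 Cfsg.Agent.Lib.Helper8.TW Cfsg.Agent.Lib.Helper5.TWS
open Cfsg.Agent.Lib.Helper25.SpT (sf Jm sfv)

variable {F : Type*} [Field F] [Fintype F] {t k : ℕ}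

/-- `b ⊗ y = 0`, `y ≠ 0` ⟹ `b = 0` -/
lemma tens_eq_zero11 (i : Fin (t + 1)) (b : Idx t k → F) (y : Fin k → F) (hy : y ≠ 0)
    (h : tens i b y = 0) : b = 0 := by
  obtain ⟨a₁, ha₁⟩ : ∃ a₁, y a₁ ≠ 0 := by
    by_contra hcon
    push Not at hcon
    exact hy (funext hcon)
  funext u
  have h1 := congrFun h (ins i a₁ u)
  simp only [tens, ins_same, Pi.zero_apply] at h1
  have h2 : (fun j => ins i a₁ u (i.succAbove j)) = u := funext (fun j => ins_succAbove i a₁ u j)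
  rw [h2] at h1
  exact (mul_eq_zero.1 h1).resolve_right ha₁

/-- the statement of K2-4 `T_form` for fixed `X`, `r`, `x` (hypothesis-by-name) -/
def TFormStmt (X : Subgroup (GL (Idx (t + 1) k) F)) (r : RD (t + 1) k F) (x : GL (Idx (t + 1) k) F) : Prop :=
  ∀ (K : Submodule F (Idx (t + 1) k → F)) (hK : K ≤ r.W)
    (μ : F) (hμ : μ ≠ 0) (T : GL (Idx (t + 1) k) F) (hT : T ∈ r.grp ⊔ conjG x r.grp)
    (ha : ∀ v ∈ K, mv T v = v) (hb : ∀ v ∈ r.W, mv T v - μ⁻¹ • v ∈ K),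
    ∃ (γ : Matrix (Idx t k) (Idx t k) F) (α : Matrix (Fin k) (Fin k) F) (ν : F), ν ≠ 0 ∧
      (T : Matrix (Idx (t + 1) k) (Idx (t + 1) k) F) = ext r.i γ * slot k (t + 1) r.i α ∧ α *ᵥ r.y = r.y ∧
      (∀ b b' : Idx t k → F, sfT (γ *ᵥ b) (γ *ᵥ b') = ν * sfT b b') ∧
      (∀ a a' : Fin k → F, sf (α *ᵥ a) (α *ᵥ a') = ν⁻¹ * sf a a') ∧
      (∀ b : Idx t k → F, tens r.i b r.y ∈ K → γ *ᵥ b = b) ∧
      (∀ b : Idx t k → F, tens r.i (γ *ᵥ b - μ⁻¹ • b) r.y ∈ K)

/-- opposite case: the twist `T_μ` is `slot i α'` with `α' y = μ⁻¹ y`, and `x (T_μ v) = μ p + p''` on `R''` -/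
theorem T_slot_of_opp {X : Subgroup (GL (Idx (t + 1) k) F)} (r : RD (t + 1) k F)
    (x : GL (Idx (t + 1) k) F) (P : NP X r x) (hTF : TFormStmt X r x) (hK : r.W ⊓ img x r.W = ⊥)
    (μ : F) (hμ : μ ≠ 0) :
    ∃ (T : GL (Idx (t + 1) k) F) (α' : Matrix (Fin k) (Fin k) F),
      (T : Matrix (Idx (t + 1) k) (Idx (t + 1) k) F) = slot k (t + 1) r.i α' ∧ α' *ᵥ r.y = μ⁻¹ • r.y ∧
      (∀ v ∈ img x r.W, ∀ p ∈ r.W, ∀ p'' ∈ img x r.W, mv x v = p + p'' → mv x (mv T v) = μ • p + p'') := by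
  obtain ⟨T, hTL, ha, hb, hc⟩ := Cfsg.Agent.Lib.Helper5.TWSLeaf.twistNP r x P μ hμ
  obtain ⟨γ, α, ν, hν, hTf, hαy, hsimB, hsimA, hγa, hγb⟩ := hTF (r.W ⊓ img x r.W) inf_le_left μ hμ T hTL ha hb
  have hγ : γ = μ⁻¹ • (1 : Matrix (Idx t k) (Idx t k) F) := by
    apply Cfsg.Agent.Lib.Helper22.TWQLeaf.eq_smul_one_of_mulVec
    intro b
    have h1 := hγb b
    rw [hK, Submodule.mem_bot] at h1
    have h2 := tens_eq_zero11 r.i _ r.y r.hy h1
    exact sub_eq_zero.1 h2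
  refine ⟨T, μ⁻¹ • α, ?_, ?_, ?_⟩
  · rw [hTf, hγ, Cfsg.Agent.Lib.Helper22.TWQLeaf.ext_smul_one, Matrix.smul_mul, Matrix.one_mul, slot_smul]
  · rw [Matrix.smul_mulVec, hαy]
  · intro v hv p hp p'' hp'' hdec
    have h1 := hc v hv p hp p'' hp'' hdec
    rw [hK, Submodule.mem_bot] at h1
    exact sub_eq_zero.1 h1

/-- some `μ ≠ 0` with `μ² ≠ 1` in a field with at least `5` elements -/
lemma exists_mu11 (hq5 : 5 ≤ Fintype.card F) : ∃ μ : F, μ ≠ 0 ∧ μ ^ 2 ≠ 1 := by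
  classical
  by_contra hcon
  push Not at hcon
  have hsub : (Finset.univ : Finset F) ⊆ ({0, 1, -1} : Finset F) := by
    intro a _
    simp only [Finset.mem_insert, Finset.mem_singleton]
    by_cases ha : a = 0
    · exact Or.inl ha
    · right
      have h := hcon a ha
      have h3 : (a - 1) * (a + 1) = 0 := by ring_nf; rw [h]; ring
      rcases mul_eq_zero.1 h3 with h | h
      · exact Or.inl (sub_eq_zero.1 h)
      · exact Or.inr (eq_neg_of_add_eq_zero_left h)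
  have hle := Finset.card_le_card hsub
  have h3 : ({0, 1, -1} : Finset F).card ≤ 3 := Finset.card_le_three
  rw [Finset.card_univ] at hle
  omega

/-- K2-8 with K2-4 as a hypothesis -/
theorem opp_case_of {X : Subgroup (GL (Idx (t + 1) k) F)} (c : CtxS X) (hk : k = 2) (r : RD (t + 1) k F)
    (x : GL (Idx (t + 1) k) F) (P : NP X r x) (hTF : TFormStmt X r x)
    (hK : r.W ⊓ img x r.W = ⊥) : False := by
  classical
  subst hk
  have h2 : (2 : F) ≠ 0 := Cfsg.Agent.Lib.Helper13.TWSEnd.two_ne_zero_of_odd c.hodd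
  have hq5 : 5 ≤ Fintype.card F := by
    have h3 : ¬ Fintype.card F = 3 := fun h => c.hex ⟨h, rfl⟩
    obtain ⟨m, hm⟩ := c.hodd
    have h1 : 1 < Fintype.card F := Fintype.one_lt_card
    omega
  obtain ⟨μ₀, hμ0, hμ2⟩ := exists_mu11 (F := F) hq5
  have hm1 : (-1 : F) ≠ 0 := neg_ne_zero.2 one_ne_zero
  obtain ⟨Tm, αm, hTm, hαm, hcm⟩ := T_slot_of_opp r x P hTF hK (-1) hm1
  obtain ⟨T0, α0, hT0, hα0, hc0⟩ := T_slot_of_opp r x P hTF hK μ₀ hμ0
  rw [inv_neg_one, neg_one_smul] at hαm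
  -- dimensions
  have hR : Module.finrank F (r.W : Submodule F (Idx (t + 1) 2 → F)) = 2 ^ t := by
    change Module.finrank F (fib r.i (F ∙ r.y)) = _
    rw [Cfsg.Agent.Lib.Helper26.TWLeaf.finrank_fib, finrank_span_singleton r.hy]
    simp
  have hR'' : Module.finrank F (img x r.W : Submodule F (Idx (t + 1) 2 → F)) = 2 ^ t := by
    rw [Cfsg.Agent.Lib.Helper16.TWLeaf.finrank_img, hR]
  have hsup : r.W ⊔ img x r.W = ⊤ := by
    apply Submodule.eq_top_of_finrank_eq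
    have h1 := Submodule.finrank_sup_add_finrank_inf_eq r.W (img x r.W)
    rw [hK, finrank_bot, add_zero, hR, hR''] at h1
    rw [h1, Module.finrank_fintype_fun_eq_card]
    simp
    ring
  have hinj : Function.Injective (mv x) := by
    intro a b hab
    have h1 := congrArg (fun w => ((x⁻¹ : GL (Idx (t + 1) 2) F) : Matrix (Idx (t + 1) 2) (Idx (t + 1) 2) F) *ᵥ w) hab
    simp only [mv, Matrix.mulVec_mulVec, ← Units.val_mul, inv_mul_cancel, Units.val_one, Matrix.one_mulVec] at h1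
    exact h1
  -- the matrix `δ`
  obtain ⟨δ, hδdef⟩ : ∃ δ : Matrix (Fin 2) (Fin 2) F,
      δ = (2 : F) • α0 + (-(2 * μ₀)) • (1 : Matrix (Fin 2) (Fin 2) F) + (-(1 - μ₀)) • (αm + 1) := ⟨_, rfl⟩
  have hslotδ : slot 2 (t + 1) r.i δ = (2 : F) • (T0 : Matrix (Idx (t + 1) 2) (Idx (t + 1) 2) F) +
      (-(2 * μ₀)) • (1 : Matrix (Idx (t + 1) 2) (Idx (t + 1) 2) F) +
      (-(1 - μ₀)) • ((Tm : Matrix (Idx (t + 1) 2) (Idx (t + 1) 2) F) + 1) := by
    rw [hδdef, slot_add, slot_add, slot_smul, slot_smul, slot_smul, slot_add, slot_one, ← hT0, ← hTm]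
  have hkill : ∀ v ∈ img x r.W, slot 2 (t + 1) r.i δ *ᵥ v = 0 := by
    intro v hv
    have hxv : mv x v ∈ r.W ⊔ img x r.W := by rw [hsup]; trivial
    obtain ⟨p, hp, p'', hp'', hdec⟩ := Submodule.mem_sup.1 hxv
    have e1 : (x : Matrix (Idx (t + 1) 2) (Idx (t + 1) 2) F) *ᵥ ((Tm : Matrix (Idx (t + 1) 2) (Idx (t + 1) 2) F) *ᵥ v) =
        (-1 : F) • p + p'' := hcm v hv p hp p'' hp'' hdec.symm
    have e0 : (x : Matrix (Idx (t + 1) 2) (Idx (t + 1) 2) F) *ᵥ ((T0 : Matrix (Idx (t + 1) 2) (Idx (t + 1) 2) F) *ᵥ v) =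
        μ₀ • p + p'' := hc0 v hv p hp p'' hp'' hdec.symm
    have e2 : (x : Matrix (Idx (t + 1) 2) (Idx (t + 1) 2) F) *ᵥ v = p + p'' := hdec.symm
    apply hinj
    rw [hslotδ]
    simp only [mv, Matrix.add_mulVec, Matrix.smul_mulVec, Matrix.one_mulVec, Matrix.mulVec_add,
      Matrix.mulVec_smul, Matrix.mulVec_zero]
    rw [e1, e0, e2]
    module
  have hδy : δ *ᵥ r.y = ((2 : F) * (μ₀⁻¹ - μ₀)) • r.y := by
    rw [hδdef]
    simp only [Matrix.add_mulVec, Matrix.smul_mulVec, Matrix.one_mulVec, hα0, hαm]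
    module
  have hδy0 : δ *ᵥ r.y ≠ 0 := by
    rw [hδy]
    intro h
    rcases smul_eq_zero.1 h with h | h
    · rcases mul_eq_zero.1 h with h | h
      · exact h2 h
      · apply hμ2
        have h5 : μ₀⁻¹ = μ₀ := sub_eq_zero.1 h
        calc μ₀ ^ 2 = μ₀ * μ₀ := by ring
          _ = μ₀⁻¹ * μ₀ := by rw [h5]
          _ = 1 := inv_mul_cancel₀ hμ0
    · exact r.hy h
  -- `R'' ≤ fib i (ker δ)`
  have hle : img x r.W ≤ fib r.i (LinearMap.ker (Matrix.toLin' δ)) := by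
    intro v hv x₀
    rw [LinearMap.mem_ker, Matrix.toLin'_apply, ← Cfsg.Agent.Lib.Helper26.TWLeaf.slot_mulVec_slice26, hkill v hv]
    rfl
  have hker1 : Module.finrank F (LinearMap.ker (Matrix.toLin' δ)) ≤ 1 := by
    have h1 := LinearMap.finrank_range_add_finrank_ker (Matrix.toLin' δ)
    rw [Module.finrank_fintype_fun_eq_card, Fintype.card_fin] at h1
    have h3 : Module.finrank F (LinearMap.range (Matrix.toLin' δ)) ≠ 0 := by
      intro h
      rw [Submodule.finrank_eq_zero] at h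
      apply hδy0
      have : δ *ᵥ r.y ∈ LinearMap.range (Matrix.toLin' δ) := ⟨r.y, Matrix.toLin'_apply δ r.y⟩
      rw [h, Submodule.mem_bot] at this
      exact this
    omega
  have hpos : 0 < 2 ^ t := Nat.pow_pos (by norm_num)
  have hfibker : Module.finrank F (fib r.i (LinearMap.ker (Matrix.toLin' δ)) : Submodule F (Idx (t + 1) 2 → F)) =
      2 ^ t * Module.finrank F (LinearMap.ker (Matrix.toLin' δ)) := by
    rw [Cfsg.Agent.Lib.Helper26.TWLeaf.finrank_fib]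
    simp
  have hker2 : Module.finrank F (LinearMap.ker (Matrix.toLin' δ)) = 1 := by
    have h1 := Submodule.finrank_mono hle
    rw [hR'', hfibker] at h1
    have h4 : 1 ≤ Module.finrank F (LinearMap.ker (Matrix.toLin' δ)) := by
      by_contra hcon
      have h5 : Module.finrank F (LinearMap.ker (Matrix.toLin' δ)) = 0 := by omega
      rw [h5, mul_zero] at h1
      omega
    omega
  have hkne : LinearMap.ker (Matrix.toLin' δ) ≠ ⊥ := by
    intro h
    rw [h, finrank_bot] at hker2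
    omega
  obtain ⟨z, hzk, hz0⟩ := Submodule.exists_mem_ne_zero_of_ne_bot hkne
  have hspan : (F ∙ z) = LinearMap.ker (Matrix.toLin' δ) := by
    apply Submodule.eq_of_le_of_finrank_eq
    · rw [Submodule.span_singleton_le_iff_mem]
      exact hzk
    · rw [finrank_span_singleton hz0, hker2]
  have heq : img x (Wf r.i r.y) = Wf r.i z := by
    apply Submodule.eq_of_le_of_finrank_eq
    · unfold Wf at *
      rw [hspan]
      exact hle
    · have h7 : Module.finrank F (Wf r.i z : Submodule F (Idx (t + 1) 2 → F)) = 2 ^ t := by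
        unfold Wf
        rw [hspan, hfibker, hker2, mul_one]
      rw [h7]
      exact hR''
  exact P.hxG (c.ns x P.hxX ⟨r.i, r.i, r.y, z, r.hy, hz0, trivial, trivial, heq⟩)

end Cfsg.Agent.Lib.Helper11.TWSLeaf
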