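import Mathlib
import Cfsg.Agent.Lib.Helper5.TWS.Defs
import Cfsg.Agent.Lib.Helper5.TWS.StageIDefs
import Cfsg.Agent.Lib.Helper5.TWS.ITwist
import Cfsg.Agent.Lib.Helper9.TWST
import Cfsg.Agent.Lib.Helper16.TWSISim
import Cfsg.Agent.Lib.Helper16.TWImg
import Cfsg.Agent.Lib.Helper17.TWSIKey
import Cfsg.Agent.Lib.Helper18.TWSITFormCore
import Cfsg.Agent.Lib.Helper11.TWSIOpp
import Cfsg.Agent.Lib.Helper13.TWSINonopp
import Cfsg.Agent.Lib.Helper13.TWSIFlag
import Cfsg.Agent.Lib.Helper22.TWExtMore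

/-!
# S5668 Stage I, block I2 (`k = 2`): the exact-signature wrappers K2-1 `exists_NP`, K2-4 `T_form`, K2-8 `opp_case`
and the block assembly `stageIS_two` (helper11, block owner).

`stageIS_two (c : CtxS X) (hk : k = 2) : X ≤ Gstd (t + 1) k F` is the text of `notes/S5668_I_leaves.lean`, wired to the
landed leaves: K2-3 `twistNP`, `exists_NP_of_key` (helper5), `keyS` (helper17), `T_form_of` (helper18), `opp_case_of`
(helper11), `nonopp`, `flag_case` (helper13; uses helper10's `isPGroup_of_flag`), toolkit `elt_mem_HS` (helper9),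
`sim_of_ext_slot` (helper16).
-/

set_option autoImplicit false
set_option linter.unusedSectionVars false
set_option linter.unusedVariables false

namespace Cfsg.Agent.Lib.Helper11.TWSLeaf
open Matrix Cfsg.Geo Cfsg.Agent.Lib.Helper18.AschA89 Cfsg.Agent.Lib.Helper8.TW Cfsg.Agent.Lib.Helper5.TWS
open Cfsg.Agent.Lib.Helper25.SpT (sf Jm sfv)

variable {F : Type*} [Field F] [Fintype F] {t k : ℕ}

/-- K2-1 -/
theorem exists_NP {X : Subgroup (GL (Idx t k) F)} (c : CtxS X) (hXG : ¬ X ≤ Gstd t k F) :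
    ∃ (r : RD t k F) (x : GL (Idx t k) F), NP X r x :=
  Cfsg.Agent.Lib.Helper5.TWSLeaf.exists_NP_of_key c.hk c.hk2 (by have := c.ht; omega)
    (fun r hr => (Cfsg.Agent.Lib.Helper9.TWST.grp_le_HS c.hk hr).trans c.hHX)
    (fun g hg r₁ r₂ h₁ h₂ => Cfsg.Agent.Lib.Helper17.TWSLeaf.keyS c g hg r₁ r₂ h₁ h₂) hXG

/-- K2-4 -/
theorem T_form {X : Subgroup (GL (Idx (t + 1) k) F)} (c : CtxS X) (r : RD (t + 1) k F) (x : GL (Idx (t + 1) k) F) (P : NP X r x)
    (K : Submodule F (Idx (t + 1) k → F)) (hK : K ≤ r.W)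
    (μ : F) (hμ : μ ≠ 0) (T : GL (Idx (t + 1) k) F) (hT : T ∈ r.grp ⊔ conjG x r.grp)
    (ha : ∀ v ∈ K, mv T v = v) (hb : ∀ v ∈ r.W, mv T v - μ⁻¹ • v ∈ K) :
    ∃ (γ : Matrix (Idx t k) (Idx t k) F) (α : Matrix (Fin k) (Fin k) F) (ν : F), ν ≠ 0 ∧
      (T : Matrix (Idx (t + 1) k) (Idx (t + 1) k) F) = ext r.i γ * slot k (t + 1) r.i α ∧ α *ᵥ r.y = r.y ∧
      (∀ b b' : Idx t k → F, sfT (γ *ᵥ b) (γ *ᵥ b') = ν * sfT b b') ∧
      (∀ a a' : Fin k → F, sf (α *ᵥ a) (α *ᵥ a') = ν⁻¹ * sf a a') ∧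
      (∀ b : Idx t k → F, tens r.i b r.y ∈ K → γ *ᵥ b = b) ∧
      (∀ b : Idx t k → F, tens r.i (γ *ᵥ b - μ⁻¹ • b) r.y ∈ K) :=
  Cfsg.Agent.Lib.Helper18.TWSLeaf.T_form_of
    (fun r hr c' => Cfsg.Agent.Lib.Helper9.TWST.elt_mem_HS c.hk hr c')
    (fun i γ α m hm h => Cfsg.Agent.Lib.Helper16.TWSLeaf.sim_of_ext_slot c.hk c.hk2 i γ α m hm h)
    c r x P.hr P.hxX K hK μ hμ T hT ha hb

/-- K2-8 -/
theorem opp_case {X : Subgroup (GL (Idx (t + 1) k) F)} (c : CtxS X) (hk : k = 2) (r : RD (t + 1) k F) (x : GL (Idx (t + 1) k) F) (P : NP X r x)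
    (hK : r.W ⊓ img x r.W = ⊥) : False :=
  opp_case_of c hk r x P (fun K hK μ hμ T hT ha hb => T_form c r x P K hK μ hμ T hT ha hb) hK

/-- `k = 2`: the three cases for `K = R ⊓ R''` (assembly of block I2; text of `notes/S5668_I_leaves.lean`) -/
theorem stageIS_two {X : Subgroup (GL (Idx (t + 1) k) F)} (c : CtxS X) (hk : k = 2) : X ≤ Gstd (t + 1) k F := by
  classical
  by_contra hXG
  obtain ⟨r, x, P⟩ := exists_NP c hXG
  have hq5 : 5 ≤ Fintype.card F := by
    have h3 : ¬ Fintype.card F = 3 := fun h => c.hex ⟨h, hk⟩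
    obtain ⟨m, hm⟩ := c.hodd
    have h1 : 1 < Fintype.card F := Fintype.one_lt_card
    omega
  by_cases hK0 : r.W ⊓ img x r.W = ⊥
  · exact opp_case c hk r x P hK0
  · obtain ⟨μ, hμ0, hμ2⟩ := exists_mu11 (F := F) hq5
    obtain ⟨T, hTL, ha, hb, -⟩ := Cfsg.Agent.Lib.Helper5.TWSLeaf.twistNP r x P μ hμ0
    obtain ⟨γ, α, ν, hν, hTf, hαy, hsimB, hsimA, hγa, hγb⟩ :=
      T_form c r x P (r.W ⊓ img x r.W) inf_le_left μ hμ0 T hTL ha hb
    -- `K_B`
    let KB : Submodule F (Idx t k → F) :=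
      { carrier := {b | tens r.i b r.y ∈ r.W ⊓ img x r.W}
        add_mem' := by
          intro a b ha hb
          show tens r.i (a + b) r.y ∈ r.W ⊓ img x r.W
          have : tens r.i (a + b) r.y = tens r.i a r.y + tens r.i b r.y := by
            funext z; simp only [tens, Pi.add_apply]; ring
          rw [this]; exact Submodule.add_mem _ ha hb
        zero_mem' := by
          show tens r.i (0 : Idx t k → F) r.y ∈ r.W ⊓ img x r.W
          have : tens r.i (0 : Idx t k → F) r.y = 0 := by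
            funext z; simp [tens]
          rw [this]; exact Submodule.zero_mem _
        smul_mem' := by
          intro a b hb
          show tens r.i (a • b) r.y ∈ r.W ⊓ img x r.W
          have : tens r.i (a • b) r.y = a • tens r.i b r.y := by
            funext z; simp [tens, mul_assoc]
          rw [this]; exact Submodule.smul_mem _ _ hb }
    have hKBmem : ∀ b, b ∈ KB ↔ tens r.i b r.y ∈ r.W ⊓ img x r.W := fun b => Iff.rfl
    have hKdesc : ∀ v : Idx (t + 1) k → F, v ∈ r.W ⊓ img x r.W ↔ ∃ b ∈ KB, v = tens r.i b r.y := by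
      intro v
      constructor
      · intro hv
        obtain ⟨b, rfl⟩ := (Cfsg.Agent.Lib.Helper22.TWLeaf.mem_Wf_iff_tens r.i r.y r.hy v).1 hv.1
        exact ⟨b, hv, rfl⟩
      · rintro ⟨b, hb, rfl⟩
        exact hb
    have hKB0 : KB ≠ ⊥ := by
      intro h
      apply hK0
      rw [eq_bot_iff]
      intro v hv
      obtain ⟨b, hb, rfl⟩ := (hKdesc v).1 hv
      rw [h, Submodule.mem_bot] at hb
      rw [hb]
      have : tens r.i (0 : Idx t k → F) r.y = 0 := by
        funext z; simp [tens]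
      rw [this]; exact Submodule.zero_mem _
    have hKB1 : KB ≠ ⊤ := by
      intro h
      apply P.hxG
      have hle : r.W ≤ img x r.W := by
        intro v hv
        obtain ⟨b, rfl⟩ := (Cfsg.Agent.Lib.Helper22.TWLeaf.mem_Wf_iff_tens r.i r.y r.hy v).1 hv
        have : b ∈ KB := by rw [h]; exact Submodule.mem_top
        exact ((hKBmem b).1 this).2
      have heq : img x r.W = r.W := by
        symm
        apply Submodule.eq_of_le_of_finrank_le hle
        rw [Cfsg.Agent.Lib.Helper16.TWLeaf.finrank_img]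
      exact c.ns x P.hxX ⟨r.i, r.i, r.y, r.y, r.hy, r.hy, trivial, trivial, heq⟩
    have hperp := Cfsg.Agent.Lib.Helper13.TWSLeaf.nonopp c.hk KB hKB0 hKB1 μ hμ0 hμ2 γ ν hν hsimB
      (fun b hb => hγa b hb) (fun b => hγb b)
    exact Cfsg.Agent.Lib.Helper13.TWSLeaf.flag_case c hk r x P KB hperp hKdesc

end Cfsg.Agent.Lib.Helper11.TWSLeaf
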