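import Mathlib
import Cfsg.Agent.Lib.Helper11.TWSIIB1c
import Cfsg.Agent.Lib.Helper16.TWSIIEta
import Cfsg.Agent.Lib.Helper24.TWSIIE2
import Cfsg.Agent.Lib.Helper26.TWFibA

/-!
# S5668 Stage II-B, leaf B1 `B1S_blocks`, part (a): the `hQ` ANALYSIS `B1S_rel`, and the leaf `B1S_blocks` (helper11)

`B1S_rel`: from `g W = W` and `g slot i (η_w) = slot i (M_w) g` (`w ⊥ y`) to `γ ∈ GL(B)`, `c ≠ 0` with
`(H1) g (b ⊗ y) = γ b ⊗ y`, `(H2) g (b ⊗ y') ≡ c • γ b ⊗ y' (mod C)`, `(H3) g (b ⊗ a) ≡ γ b ⊗ a' (mod W)` (`a, a' ∈ A₀`).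
`B1S_blocks` (statement of `notes/S5668_II_leaves.lean` with `hk4 : 4 ≤ k` instead of `hk2`; the original is false for
`k = 2` in characteristic `2`) = `B1S_asm ∘ B1S_rel`.
-/

set_option autoImplicit false
set_option linter.unusedSectionVars false
set_option linter.unusedVariables false

namespace Cfsg.Agent.Lib.Helper11.TWSIILeaf
open Matrix Cfsg.Geo Cfsg.Agent.Lib.Helper18.AschA89 Cfsg.Agent.Lib.Helper8.TW Cfsg.Agent.Lib.Helper5.TWS
  Cfsg.Agent.Lib.Helper14.TWII Cfsg.Agent.Lib.Helper14.TWSII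
open Cfsg.Agent.Lib.Helper25.SpT (sf Jm sfv)
open Cfsg.Agent.Lib.Helper22.TWLeaf (ins_comp ins_inj vec_ext_ins ctr_tens mem_Cf_iff_ctr ctr_ext_mulVec ctr_slot_mulVec
  ctr_add ctr_smul ext_mulVec_tens slot_mulVec_tens mem_Wf_iff_tens)

variable {F : Type*} [Field F] [Fintype F] {t k : ℕ}

/-- `b ↦ b ⊗ a` -/
def tensLft11 (i : Fin (t + 1)) (a : Fin k → F) : (Idx t k → F) →ₗ[F] (Idx (t + 1) k → F) where
  toFun b := tens i b a
  map_add' b b' := tens_add_left11 i b b' a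
  map_smul' c b := by
    simp only [RingHom.id_apply]
    exact tens_smul_left11 i c b a

/-- contraction as a linear map -/
def ctrL11 (i : Fin (t + 1)) (ξ : Fin k → F) : (Idx (t + 1) k → F) →ₗ[F] (Idx t k → F) where
  toFun v := ctr i ξ v
  map_add' v w := ctr_add i ξ v w
  map_smul' c v := by
    simp only [RingHom.id_apply]
    exact ctr_smul i ξ c v

lemma ctr_sub11 (i : Fin (t + 1)) (ξ : Fin k → F) (v w : Idx (t + 1) k → F) :
    ctr i ξ (v - w) = ctr i ξ v - ctr i ξ w := map_sub (ctrL11 i ξ) v w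

lemma tens_eq_zero_left11 (i : Fin (t + 1)) (b : Idx t k → F) (y : Fin k → F) (hy : y ≠ 0)
    (h : tens i b y = 0) : b = 0 := by
  obtain ⟨a₁, ha₁⟩ : ∃ a₁, y a₁ ≠ 0 := by
    by_contra hcon
    push Not at hcon
    exact hy (funext hcon)
  funext u
  have h1 := congrFun h (ins i a₁ u)
  rw [tens_apply_ins11] at h1
  exact (mul_eq_zero.1 h1).resolve_right ha₁

lemma tens_neg_right11 (i : Fin (t + 1)) (b : Idx t k → F) (a : Fin k → F) :
    tens i b (-a) = - tens i b a := by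
  funext x; simp [tens]

lemma tens_sub_right11 (i : Fin (t + 1)) (b : Idx t k → F) (a a' : Fin k → F) :
    tens i b (a - a') = tens i b a - tens i b a' := by
  funext x; simp only [tens, Pi.sub_apply]; ring

lemma mv_mem_img11 {ι : Type} [Fintype ι] [DecidableEq ι] {g : GL ι F} {S : Submodule F (ι → F)} {v : ι → F}
    (hv : v ∈ S) : mv g v ∈ img g S := ⟨v, hv, by rw [Matrix.toLin'_apply]; rfl⟩

/-- `slot i (M - 1)` maps `C = B ⊗ y^⊥` into `W = B ⊗ y` when `(M - 1) y^⊥ ≤ F y` -/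
lemma slot_sub_mem_Wf11 (i : Fin (t + 1)) (y : Fin k → F) (M : Matrix (Fin k) (Fin k) F)
    (hM : ∀ a : Fin k → F, sf a y = 0 → ∃ c : F, M *ᵥ a = a + c • y) (v : Idx (t + 1) k → F)
    (hv : v ∈ Cf i (sfv y)) : slot k (t + 1) i M *ᵥ v - v ∈ Wf i y := by
  unfold Wf
  rw [mem_fib]
  intro x
  have h1 : slice i x (slot k (t + 1) i M *ᵥ v - v) = M *ᵥ slice i x v - slice i x v := by
    rw [← Cfsg.Agent.Lib.Helper26.TWLeaf.slot_mulVec_slice26]
    rfl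
  have h2 : sf (slice i x v) y = 0 := by
    have h3 := hv x
    rw [mem_kerF, Cfsg.Agent.Lib.Helper25.SpT.sfv_dot] at h3
    exact h3
  obtain ⟨c, hc⟩ := hM _ h2
  rw [h1, hc, add_sub_cancel_left]
  exact Submodule.smul_mem _ _ (Submodule.mem_span_singleton_self y)

/-- B1, part (a): the analysis of `hQ` -/
theorem B1S_rel (hk : Even k) (hk4 : 4 ≤ k) (i : Fin (t + 1)) (y y' : Fin k → F) (hyy' : sf y y' = 1)
    (g : GL (Idx (t + 1) k) F) (hstab : img g (Wf i y) = Wf i y)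
    (hQ : ∀ w : Fin k → F, sf w y = 0 → ∃ M : Matrix (Fin k) (Fin k) F,
      (g : Matrix (Idx (t + 1) k) (Idx (t + 1) k) F) * slot k (t + 1) i (etaS y w 0) =
        slot k (t + 1) i M * (g : Matrix (Idx (t + 1) k) (Idx (t + 1) k) F) ∧
      M *ᵥ y = y ∧ (∀ a : Fin k → F, sf a y = 0 → ∃ c : F, M *ᵥ a = a + c • y) ∧
      (∀ a : Fin k → F, sf (M *ᵥ a - a) y = 0)) :
    ∃ (γ : GL (Idx t k) F) (c : F), c ≠ 0 ∧
      (∀ b : Idx t k → F, mv g (tens i b y) = tens i ((γ : Matrix (Idx t k) (Idx t k) F) *ᵥ b) y) ∧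
      (∀ b : Idx t k → F,
        mv g (tens i b y') - c • tens i ((γ : Matrix (Idx t k) (Idx t k) F) *ᵥ b) y' ∈ Cf i (sfv y)) ∧
      (∀ a : Fin k → F, sf a y = 0 → sf a y' = 0 → ∃ a' : Fin k → F, sf a' y = 0 ∧ sf a' y' = 0 ∧
        ∀ b : Idx t k → F, mv g (tens i b a) - tens i ((γ : Matrix (Idx t k) (Idx t k) F) *ᵥ b) a' ∈ Wf i y) := by
  classical
  have hy0 : y ≠ 0 := by
    rintro rfl
    rw [Cfsg.Agent.Lib.Helper25.SpT.sf_zero_left] at hyy'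
    exact zero_ne_one hyy'
  have hy'y : sf y' y = -1 := sf_y'_y11 y y' hyy'
  -- Step 1: `γ`
  obtain ⟨γL, hγL⟩ : ∃ γL : (Idx t k → F) →ₗ[F] (Idx t k → F),
      γL = (ctrL11 i (sfv y')).comp ((Matrix.mulVecLin (g : Matrix (Idx (t + 1) k) (Idx (t + 1) k) F)).comp
        (tensLft11 i y)) := ⟨_, rfl⟩
  have hγLapp : ∀ b : Idx t k → F, γL b = ctr i (sfv y') (mv g (tens i b y)) := by
    intro b
    rw [hγL]
    rfl
  have hH1L : ∀ b : Idx t k → F, mv g (tens i b y) = tens i (γL b) y := by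
    intro b
    have hmem : mv g (tens i b y) ∈ Wf i y := by
      rw [← hstab]
      exact mv_mem_img11 ((mem_Wf_iff_tens i y hy0 _).2 ⟨b, rfl⟩)
    obtain ⟨b', hb'⟩ := (mem_Wf_iff_tens i y hy0 _).1 hmem
    rw [hγLapp, hb', ctr_tens, Cfsg.Agent.Lib.Helper25.SpT.sfv_dot, hyy', one_smul]
  have hγLinj : ∀ b : Idx t k → F, γL b = 0 → b = 0 := by
    intro b hb
    have h1 := hH1L b
    rw [hb, tens_zero_left11] at h1
    have h2 : tens i b y = 0 := by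
      apply unit_mulVec_inj11 g
      rw [Matrix.mulVec_zero]
      exact h1
    exact tens_eq_zero_left11 i b y hy0 h2
  have hunit : IsUnit (LinearMap.toMatrix' γL) := by
    rw [← Matrix.mulVec_injective_iff_isUnit]
    intro a a' h
    have h5 : γL a = γL a' := by
      have h6 : (LinearMap.toMatrix' γL) *ᵥ a = (LinearMap.toMatrix' γL) *ᵥ a' := h
      rw [LinearMap.toMatrix'_mulVec, LinearMap.toMatrix'_mulVec] at h6
      exact h6
    have h7 : γL (a - a') = 0 := by rw [map_sub, h5, sub_self]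
    exact sub_eq_zero.1 (hγLinj _ h7)
  obtain ⟨γ, hγ⟩ := hunit
  have hγv : ∀ b : Idx t k → F, (γ : Matrix (Idx t k) (Idx t k) F) *ᵥ b = γL b := fun b => by
    rw [hγ, LinearMap.toMatrix'_mulVec]
  have hH1 : ∀ b : Idx t k → F, mv g (tens i b y) = tens i ((γ : Matrix (Idx t k) (Idx t k) F) *ᵥ b) y := by
    intro b
    rw [hγv]
    exact hH1L b
  -- Step 2: `γ1`
  obtain ⟨γ1, hγ1⟩ : ∃ γ1 : (Idx t k → F) → (Idx t k → F),
      ∀ b, γ1 b = ctr i (-(sfv y)) (mv g (tens i b y')) := ⟨_, fun _ => rfl⟩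
  have hcb : ∀ b : Idx t k → F, mv g (tens i b y') - tens i (γ1 b) y' ∈ Cf i (sfv y) := by
    intro b
    rw [mem_Cf_iff_ctr, ctr_sub11, ctr_tens, Cfsg.Agent.Lib.Helper25.SpT.sfv_dot, hy'y, hγ1, ctr_neg_left11,
      neg_one_smul, neg_neg, sub_self]
  -- Step 3: (E1)
  have hE1 : ∀ w : Fin k → F, sf w y = 0 → ∀ M : Matrix (Fin k) (Fin k) F,
      ((g : Matrix (Idx (t + 1) k) (Idx (t + 1) k) F) * slot k (t + 1) i (etaS y w 0) =
        slot k (t + 1) i M * (g : Matrix (Idx (t + 1) k) (Idx (t + 1) k) F)) →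
      (∀ a : Fin k → F, sf a y = 0 → ∃ c : F, M *ᵥ a = a + c • y) →
      ∀ b : Idx t k → F, mv g (tens i b w) + tens i (γ1 b) (M *ᵥ y' - y') ∈ Wf i y := by
    intro w hw M hM1 hM3 b
    have h1 : ((g : Matrix (Idx (t + 1) k) (Idx (t + 1) k) F) * slot k (t + 1) i (etaS y w 0)) *ᵥ tens i b y' =
        (slot k (t + 1) i M * (g : Matrix (Idx (t + 1) k) (Idx (t + 1) k) F)) *ᵥ tens i b y' := by rw [hM1]
    rw [← Matrix.mulVec_mulVec, ← Matrix.mulVec_mulVec, slot_mulVec_tens,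
      Cfsg.Agent.Lib.Helper16.TWSIILeaf.etaS_mulVec, hy'y, zero_mul, zero_smul, add_zero, tens_add_right11,
      tens_add_right11, tens_smul_right11, tens_smul_right11, Matrix.mulVec_add, Matrix.mulVec_add,
      Matrix.mulVec_smul, Matrix.mulVec_smul] at h1
    -- name the pieces
    obtain ⟨X, hX⟩ : ∃ X, X = (g : Matrix (Idx (t + 1) k) (Idx (t + 1) k) F) *ᵥ tens i b y' := ⟨_, rfl⟩
    obtain ⟨Y, hY⟩ : ∃ Y, Y = (g : Matrix (Idx (t + 1) k) (Idx (t + 1) k) F) *ᵥ tens i b w := ⟨_, rfl⟩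
    obtain ⟨Z, hZ⟩ : ∃ Z, Z = (g : Matrix (Idx (t + 1) k) (Idx (t + 1) k) F) *ᵥ tens i b y := ⟨_, rfl⟩
    obtain ⟨cb, hcbdef⟩ : ∃ cb, cb = X - tens i (γ1 b) y' := ⟨_, rfl⟩
    have hcbC : cb ∈ Cf i (sfv y) := by
      rw [hcbdef, hX]
      exact hcb b
    have hXeq : X = tens i (γ1 b) y' + cb := by
      rw [hcbdef]; abel
    have hZW : Z ∈ Wf i y := by
      have h5 : Z = tens i ((γ : Matrix (Idx t k) (Idx t k) F) *ᵥ b) y := by
        rw [hZ]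
        exact hH1 b
      rw [h5]
      exact (mem_Wf_iff_tens i y hy0 _).2 ⟨_, rfl⟩
    have hslot := slot_sub_mem_Wf11 i y M hM3 cb hcbC
    rw [← hX, ← hY, ← hZ] at h1
    rw [hXeq, Matrix.mulVec_add, slot_mulVec_tens] at h1
    obtain ⟨D, hD⟩ : ∃ D, D = slot k (t + 1) i M *ᵥ cb := ⟨_, rfl⟩
    rw [← hD] at h1 hslot
    have hDeq : D = tens i (γ1 b) y' + cb + (-1 : F) • Y + sf y' w • Z - tens i (γ1 b) (M *ᵥ y') := by
      rw [h1]; abel
    have key : Y + tens i (γ1 b) (M *ᵥ y' - y') = sf y' w • Z - (D - cb) := by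
      rw [tens_sub_right11, hDeq]
      module
    have hgoal : mv g (tens i b w) + tens i (γ1 b) (M *ᵥ y' - y') = Y + tens i (γ1 b) (M *ᵥ y' - y') := by
      rw [hY]
      rfl
    rw [hgoal, key]
    exact Submodule.sub_mem _ (Submodule.smul_mem _ _ hZW) hslot
  -- Step 4: (E2)
  obtain ⟨a₁, w₁, ha₁y, ha₁y', hw₁y, hw₁y', ha₁w₁⟩ :=
    Cfsg.Agent.Lib.Helper24.TWSIILeaf.exists_A0_pair hk hk4 y y' hyy'
  obtain ⟨Ma, hMa1, hMa2, hMa3, hMa4⟩ := hQ a₁ ha₁y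
  obtain ⟨Mw, hMw1, hMw2, hMw3, hMw4⟩ := hQ w₁ hw₁y
  obtain ⟨ma, hma⟩ : ∃ ma, ma = Ma *ᵥ y' - y' := ⟨_, rfl⟩
  have hmay : sf ma y = 0 := by rw [hma]; exact hMa4 y'
  obtain ⟨c', hc'⟩ := hMw3 ma hmay
  have hE2 : ∀ b : Idx t k → F, (γ : Matrix (Idx t k) (Idx t k) F) *ᵥ b = (-c') • γ1 b := by
    intro b
    obtain ⟨b₂, hb₂⟩ := (mem_Wf_iff_tens i y hy0 _).1 (hE1 a₁ ha₁y Ma hMa1 hMa3 b)
    rw [← hma] at hb₂
    have hga : (g : Matrix (Idx (t + 1) k) (Idx (t + 1) k) F) *ᵥ tens i b a₁ = tens i b₂ y - tens i (γ1 b) ma := by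
      have h5 : mv g (tens i b a₁) = tens i b₂ y - tens i (γ1 b) ma := by
        rw [← hb₂]; abel
      exact h5
    have h1 : ((g : Matrix (Idx (t + 1) k) (Idx (t + 1) k) F) * slot k (t + 1) i (etaS y w₁ 0)) *ᵥ tens i b a₁ =
        (slot k (t + 1) i Mw * (g : Matrix (Idx (t + 1) k) (Idx (t + 1) k) F)) *ᵥ tens i b a₁ := by rw [hMw1]
    rw [← Matrix.mulVec_mulVec, ← Matrix.mulVec_mulVec, slot_mulVec_tens,
      Cfsg.Agent.Lib.Helper16.TWSIILeaf.etaS_mulVec, ha₁y, ha₁w₁, zero_smul, mul_zero, zero_smul, add_zero, add_zero,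
      one_smul, tens_add_right11, Matrix.mulVec_add, hga, Matrix.mulVec_sub, slot_mulVec_tens, slot_mulVec_tens,
      hMw2, hc', tens_add_right11, tens_smul_right11] at h1
    have h2 : (g : Matrix (Idx (t + 1) k) (Idx (t + 1) k) F) *ᵥ tens i b y =
        tens i ((γ : Matrix (Idx t k) (Idx t k) F) *ᵥ b) y := hH1 b
    rw [h2] at h1
    have h3 : tens i ((γ : Matrix (Idx t k) (Idx t k) F) *ᵥ b - (-c') • γ1 b) y = 0 := by
      have h4 : tens i ((γ : Matrix (Idx t k) (Idx t k) F) *ᵥ b - (-c') • γ1 b) y =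
          tens i ((γ : Matrix (Idx t k) (Idx t k) F) *ᵥ b) y + c' • tens i (γ1 b) y := by
        rw [sub_eq_add_neg, tens_add_left11, ← neg_smul, neg_neg, tens_smul_left11]
      rw [h4]
      have h5 : tens i ((γ : Matrix (Idx t k) (Idx t k) F) *ᵥ b) y =
          tens i b₂ y - (tens i (γ1 b) ma + c' • tens i (γ1 b) y) - (tens i b₂ y - tens i (γ1 b) ma) := by
        rw [← h1]; abel
      rw [h5]; abel
    exact sub_eq_zero.1 (tens_eq_zero_left11 i _ y hy0 h3)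
  -- `c' ≠ 0`
  obtain ⟨u₀⟩ : Nonempty (Idx t k) := ⟨fun _ => ⟨0, by omega⟩⟩
  have hc'0 : c' ≠ 0 := by
    intro h0
    have h1 := hE2 (Pi.single u₀ 1)
    rw [h0, neg_zero, zero_smul, hγv] at h1
    have h2 := hγLinj _ h1
    have h3 := congrFun h2 u₀
    simp at h3
  have hγ1 : ∀ b : Idx t k → F, γ1 b = (-c')⁻¹ • ((γ : Matrix (Idx t k) (Idx t k) F) *ᵥ b) := by
    intro b
    rw [hE2 b, smul_smul, inv_mul_cancel₀ (neg_ne_zero.2 hc'0), one_smul]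
  refine ⟨γ, (-c')⁻¹, inv_ne_zero (neg_ne_zero.2 hc'0), hH1, ?_, ?_⟩
  · intro b
    rw [← tens_smul_left11, ← hγ1]
    exact hcb b
  · intro a hay hay'
    obtain ⟨M, hM1, hM2, hM3, hM4⟩ := hQ a hay
    obtain ⟨m, hm⟩ : ∃ m, m = M *ᵥ y' - y' := ⟨_, rfl⟩
    have hmy : sf m y = 0 := by rw [hm]; exact hM4 y'
    refine ⟨(-((-c')⁻¹)) • pi0L11 y y' m, ?_, ?_, ?_⟩
    · rw [Cfsg.Agent.Lib.Helper25.SpT.sf_smul_left, sf_pi0_y11 y y' hyy', mul_zero]
    · rw [Cfsg.Agent.Lib.Helper25.SpT.sf_smul_left, sf_pi0_y'11 y y' hyy', mul_zero]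
    · intro b
      have h1 := hE1 a hay M hM1 hM3 b
      rw [← hm] at h1
      have h2 : mv g (tens i b a) - tens i ((γ : Matrix (Idx t k) (Idx t k) F) *ᵥ b) ((-((-c')⁻¹)) • pi0L11 y y' m) =
          (mv g (tens i b a) + tens i (γ1 b) m) - sf m y' • tens i (γ1 b) y := by
        rw [tens_smul_right11, neg_smul, ← tens_smul_left11, ← hγ1, pi0L11_apply, hmy, zero_smul, add_zero,
          tens_sub_right11, tens_smul_right11]
        abel
      rw [h2]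
      exact Submodule.sub_mem _ h1 (Submodule.smul_mem _ _ ((mem_Wf_iff_tens i y hy0 _).2 ⟨_, rfl⟩))

/-- B1 (L) the GRADED action (statement of `notes/S5668_II_leaves.lean` with `hk4 : 4 ≤ k`) -/
theorem B1S_blocks (hk : Even k) (hk4 : 4 ≤ k) (i : Fin (t + 1)) (y y' : Fin k → F) (hyy' : sf y y' = 1)
    (g : GL (Idx (t + 1) k) F) (hstab : img g (Wf i y) = Wf i y) (hstabC : img g (Cf i (sfv y)) = Cf i (sfv y))
    (hQ : ∀ w : Fin k → F, sf w y = 0 → ∃ M : Matrix (Fin k) (Fin k) F,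
      (g : Matrix (Idx (t + 1) k) (Idx (t + 1) k) F) * slot k (t + 1) i (etaS y w 0) =
        slot k (t + 1) i M * (g : Matrix (Idx (t + 1) k) (Idx (t + 1) k) F) ∧
      M *ᵥ y = y ∧ (∀ a : Fin k → F, sf a y = 0 → ∃ c : F, M *ᵥ a = a + c • y) ∧
      (∀ a : Fin k → F, sf (M *ᵥ a - a) y = 0)) :
    ∃ (α : GL (Fin k) F) (γ : GL (Idx t k) F) (u : GL (Idx (t + 1) k) F),
      (α : Matrix (Fin k) (Fin k) F) *ᵥ y = y ∧ (∃ c : F, (α : Matrix (Fin k) (Fin k) F) *ᵥ y' = c • y') ∧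
      (∀ a : Fin k → F, sf a y = 0 → sf a y' = 0 →
        sf ((α : Matrix (Fin k) (Fin k) F) *ᵥ a) y = 0 ∧ sf ((α : Matrix (Fin k) (Fin k) F) *ᵥ a) y' = 0) ∧
      InUS i y u ∧ g = slotGL i α * extGL i γ * u := by
  obtain ⟨γ, c, hc, H1, H2, H3⟩ := B1S_rel hk hk4 i y y' hyy' g hstab hQ
  exact B1S_asm hk4 i y y' hyy' g γ c hc H1 H2 H3

end Cfsg.Agent.Lib.Helper11.TWSIILeaf
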