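import Mathlib
import Cfsg.Agent.Lib.Helper9.Cyclic
import Cfsg.Agent.Lib.Helper10.PGroupBasic
import Cfsg.Agent.Lib.Helper20.NormalRankTwoB
import Cfsg.Agent.Lib.Helper11.ElemAb2
import Cfsg.Agent.Lib.Helper12.Residual

set_option autoImplicit false

namespace Cfsg.Agent.Lib.Helper11

section TwoGroupE8

variable {P : Type*} [Group P]

/-- In a finite cyclic group `⟨n⟩`, `c ∈ ⟨d⟩` as soon as the order of `c` divides the order of `d`. -/
theorem mem_zpowers_of_orderOf_dvd [Finite P] {n c d : P} (hc : c ∈ Subgroup.zpowers n)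
    (hd : d ∈ Subgroup.zpowers n) (h : orderOf c ∣ orderOf d) : c ∈ Subgroup.zpowers d := by
  have key := (Cfsg.Agent.Lib.Helper9.mem_iff_pow_card_eq_one_of_isCyclic (C := Subgroup.zpowers n)
    (Subgroup.zpowers (⟨d, hd⟩ : Subgroup.zpowers n)) ⟨c, hc⟩).mpr (by
      rw [Nat.card_zpowers, Subgroup.orderOf_mk]
      apply Subtype.ext
      obtain ⟨m, hm⟩ := h
      show c ^ orderOf d = 1
      rw [hm, pow_mul, pow_orderOf_eq_one, one_pow])
  obtain ⟨k, hk⟩ := Subgroup.mem_zpowers_iff.mp key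
  rw [Subgroup.mem_zpowers_iff]
  refine ⟨k, ?_⟩
  have := congrArg Subtype.val hk
  simpa using this

/-- Two elements of a cyclic `2`-group: one is a power of the other. -/
theorem mem_zpowers_or_mem_zpowers [Finite P] (hP : IsPGroup 2 P) {n c d : P}
    (hc : c ∈ Subgroup.zpowers n) (hd : d ∈ Subgroup.zpowers n) :
    c ∈ Subgroup.zpowers d ∨ d ∈ Subgroup.zpowers c := by
  obtain ⟨i, hi⟩ := (IsPGroup.iff_orderOf.mp hP) c
  obtain ⟨j, hj⟩ := (IsPGroup.iff_orderOf.mp hP) d
  rcases le_total i j with h | h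
  · left
    exact mem_zpowers_of_orderOf_dvd hc hd (by rw [hi, hj]; exact pow_dvd_pow 2 h)
  · right
    exact mem_zpowers_of_orderOf_dvd hd hc (by rw [hi, hj]; exact pow_dvd_pow 2 h)

/-- In a `2`-group an element killed by an odd power is trivial. -/
theorem eq_one_of_zpow_odd_eq_one [Finite P] (hP : IsPGroup 2 P) (x : P) (l : ℤ)
    (h : x ^ (2 * l + 1) = 1) : x = 1 := by
  obtain ⟨k, hk⟩ := (IsPGroup.iff_orderOf.mp hP) x
  have hd : (orderOf x : ℤ) ∣ 2 * l + 1 := orderOf_dvd_iff_zpow_eq_one.mpr h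
  rcases Nat.eq_zero_or_pos k with rfl | hk0
  · rw [pow_zero] at hk
    exact orderOf_eq_one_iff.mp hk
  · exfalso
    have h2 : (2 : ℤ) ∣ (orderOf x : ℤ) := by
      rw [hk]
      push_cast
      exact dvd_pow_self 2 hk0.ne'
    have := dvd_trans h2 hd
    omega

/-- If `B ≤ A` and any two elements of `A` outside `B` differ by an element of `B`, then
`|A| ≤ 2 |B|`. -/
theorem card_le_two_mul_of_forall_mem [Finite P] (A B : Subgroup P) (hBA : B ≤ A)
    (h : ∀ a ∈ A, ∀ b ∈ A, a ∉ B → b ∉ B → a⁻¹ * b ∈ B) : Nat.card A ≤ 2 * Nat.card B := by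
  classical
  by_cases hAB : A ≤ B
  · have : A = B := le_antisymm hAB hBA
    rw [this]; omega
  · obtain ⟨a₀, ha₀A, ha₀B⟩ := SetLike.not_le_iff_exists.mp hAB
    have hsub : (A : Set P) ⊆ (B : Set P) ∪ (fun b => a₀ * b) '' (B : Set P) := by
      intro x hx
      by_cases hxB : x ∈ B
      · left; exact hxB
      · right
        exact ⟨a₀⁻¹ * x, h a₀ ha₀A x hx ha₀B hxB, by group⟩
    have h1 : (A : Set P).ncard ≤ ((B : Set P) ∪ (fun b => a₀ * b) '' (B : Set P)).ncard :=
      Set.ncard_le_ncard hsub (Set.toFinite _)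
    have h2 := Set.ncard_union_le (B : Set P) ((fun b => a₀ * b) '' (B : Set P))
    have h3 := Set.ncard_image_le (f := fun b => a₀ * b) (Set.toFinite (B : Set P))
    have hA : Nat.card A = (A : Set P).ncard := Nat.card_coe_set_eq _
    have hB : Nat.card B = (B : Set P).ncard := Nat.card_coe_set_eq _
    omega

/-- a subgroup contained in `{1, z}` has at most two elements -/
theorem card_le_two_of_forall [Finite P] (B : Subgroup P) (z : P) (h : ∀ b ∈ B, b = 1 ∨ b = z) :
    Nat.card B ≤ 2 := by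
  classical
  have hsub : (B : Set P) ⊆ {1, z} := by
    intro x hx
    rcases h x hx with rfl | rfl
    · simp
    · simp
  have h1 : (B : Set P).ncard ≤ ({1, z} : Set P).ncard := Set.ncard_le_ncard hsub (Set.toFinite _)
  have h2 : ({1, z} : Set P).ncard ≤ 2 := by
    have := Set.ncard_insert_le (1 : P) ({z} : Set P)
    rw [Set.ncard_singleton] at this
    exact this
  have hB : Nat.card B = (B : Set P).ncard := Nat.card_coe_set_eq _
  omega

/-- Cyclic self-centralizing normal subgroup `N = ⟨n⟩` of a `2`-group `P` containing an `E₈`: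
there is an involution `u ∉ N` all of whose conjugates lie in `{u, uz}`. -/
theorem exists_almost_central_of_cyclic [Finite P] (hP : IsPGroup 2 P) (N : Subgroup P) [hNn : N.Normal]
    (hNC : Subgroup.centralizer (N : Set P) = N) (n : P) (hnN : n ∈ N)
    (hgen : ∀ x ∈ N, x ∈ Subgroup.zpowers n)
    (z : P) (hz2 : z ^ 2 = 1) (hz1 : z ≠ 1) (hzN : z ∈ N) (hzc : z ∈ Subgroup.center P)
    (huniq : ∀ x ∈ N, x ^ 2 = 1 → x = 1 ∨ x = z)
    (A : Subgroup P) (hA8 : Nat.card A = 8) (hA2 : ∀ a ∈ A, a ^ 2 = 1) :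
    ∃ u : P, u ^ 2 = 1 ∧ u ≠ 1 ∧ u ≠ z ∧ ∀ g : P, g * u * g⁻¹ = u ∨ g * u * g⁻¹ = u * z := by
  classical
  have hzcomm : ∀ g : P, g * z = z * g := fun g => Subgroup.mem_center_iff.mp hzc g
  have hzpc : ∀ (i : ℤ) (g : P), g * z ^ i = z ^ i * g := by
    intro i g
    have hc : Commute g z := hzcomm g
    exact (hc.zpow_right i).eq
  have hNcomm : ∀ x ∈ N, ∀ y ∈ N, x * y = y * x := by
    intro x hx y hy
    obtain ⟨i, rfl⟩ := Subgroup.mem_zpowers_iff.mp (hgen x hx)
    obtain ⟨j, rfl⟩ := Subgroup.mem_zpowers_iff.mp (hgen y hy)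
    exact ((Commute.refl n).zpow_zpow i j).eq
  have hmemN : ∀ x : P, x * n = n * x → x ∈ N := by
    intro x hx
    rw [← hNC, Subgroup.mem_centralizer_iff]
    intro y hy
    obtain ⟨k, rfl⟩ := Subgroup.mem_zpowers_iff.mp (hgen y hy)
    have hc : Commute x n := hx
    exact ((hc.zpow_right k).eq).symm
  have hconjN : ∀ g : P, ∀ x ∈ N, g * x * g⁻¹ ∈ N := fun g x hx => hNn.conj_mem x hx g
  have hAinv : ∀ a ∈ A, a⁻¹ = a := by
    intro a ha
    rw [inv_eq_iff_mul_eq_one, ← pow_two]; exact hA2 a ha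
  have hAN : ∀ a ∈ A, a ∈ N → a = 1 ∨ a = z := fun a ha haN => huniq a haN (hA2 a ha)
  -- (c4)
  have hc4 : ∀ a : P, a ∉ N → a * n ^ 2 = n ^ 2 * a → a * n * a⁻¹ = n * z := by
    intro a haN hcomm
    set w := n⁻¹ * (a * n * a⁻¹) with hw
    have hwN : w ∈ N := N.mul_mem (N.inv_mem hnN) (hconjN a n hnN)
    have hw2 : w ^ 2 = 1 := by
      have h1 : (a * n * a⁻¹) * n⁻¹ = n⁻¹ * (a * n * a⁻¹) :=
        hNcomm _ (hconjN a n hnN) _ (N.inv_mem hnN)
      have h2 : (a * n * a⁻¹) ^ 2 = n ^ 2 := by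
        rw [conj_pow, hcomm]; group
      calc w ^ 2 = n⁻¹ * ((a * n * a⁻¹) * n⁻¹) * (a * n * a⁻¹) := by rw [hw, pow_two]; group
        _ = n⁻¹ * (n⁻¹ * (a * n * a⁻¹)) * (a * n * a⁻¹) := by rw [h1]
        _ = (n ^ 2)⁻¹ * (a * n * a⁻¹) ^ 2 := by rw [pow_two, pow_two]; group
        _ = 1 := by rw [h2]; group
    have hanw : a * n * a⁻¹ = n * w := by rw [hw]; group
    rcases huniq w hwN hw2 with h | h
    · exfalso; apply haN; apply hmemN
      rw [h, mul_one] at hanw
      calc a * n = (a * n * a⁻¹) * a := by group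
        _ = n * a := by rw [hanw]
    · rw [hanw, h]
  -- (c2)
  have hc2 : ∀ a : P, a ^ 2 = 1 → a * n ^ 2 * a⁻¹ = n ^ 2 ∨ a * n ^ 2 * a⁻¹ = (n ^ 2)⁻¹ := by
    intro a ha2
    obtain ⟨m, hm⟩ : ∃ m : P, m = a * n * a⁻¹ := ⟨_, rfl⟩
    have hmN : m ∈ N := hm ▸ hconjN a n hnN
    have hmn : m * n = n * m := hNcomm m hmN n hnN
    have hmn' : m * n⁻¹ = n⁻¹ * m := hNcomm m hmN _ (N.inv_mem hnN)
    have ham : a * m * a⁻¹ = n := by
      rw [hm]
      calc a * (a * n * a⁻¹) * a⁻¹ = (a ^ 2) * n * (a ^ 2)⁻¹ := by rw [pow_two]; group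
        _ = n := by rw [ha2]; group
    obtain ⟨c, hc⟩ : ∃ c : P, c = n * m := ⟨_, rfl⟩
    obtain ⟨d, hd⟩ : ∃ d : P, d = n⁻¹ * m := ⟨_, rfl⟩
    have hcN : c ∈ N := hc ▸ N.mul_mem hnN hmN
    have hdN : d ∈ N := hd ▸ N.mul_mem (N.inv_mem hnN) hmN
    have hac : a * c * a⁻¹ = c := by
      calc a * c * a⁻¹ = (a * n * a⁻¹) * (a * m * a⁻¹) := by rw [hc]; group
        _ = m * n := by rw [ham, ← hm]
        _ = c := by rw [hmn, hc]
    have had : a * d * a⁻¹ = d⁻¹ := by
      calc a * d * a⁻¹ = (a * n * a⁻¹)⁻¹ * (a * m * a⁻¹) := by rw [hd]; group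
        _ = m⁻¹ * n := by rw [ham, ← hm]
        _ = d⁻¹ := by rw [hd, mul_inv_rev, inv_inv]
    have hconj2 : a * n ^ 2 * a⁻¹ = m ^ 2 := by rw [hm, conj_pow]
    rcases mem_zpowers_or_mem_zpowers hP (hgen c hcN) (hgen d hdN) with h | h
    · right
      obtain ⟨i, hi⟩ := Subgroup.mem_zpowers_iff.mp h
      have hci : a * c * a⁻¹ = c⁻¹ := by
        rw [← hi, ← conj_zpow, had, inv_zpow]
      have hcc : c * c = 1 := by
        have : c = c⁻¹ := by rw [← hci, hac]
        calc c * c = c * c⁻¹ := by rw [← this]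
          _ = 1 := mul_inv_cancel c
      -- m = n⁻¹ c
      have hmc : m = n⁻¹ * c := by rw [hc]; group
      have hcn : c * n⁻¹ = n⁻¹ * c := hNcomm c hcN _ (N.inv_mem hnN)
      rw [hconj2]
      calc m ^ 2 = n⁻¹ * (c * n⁻¹) * c := by rw [pow_two, hmc]; group
        _ = n⁻¹ * (n⁻¹ * c) * c := by rw [hcn]
        _ = (n ^ 2)⁻¹ * (c * c) := by rw [pow_two]; group
        _ = (n ^ 2)⁻¹ := by rw [hcc, mul_one]
    · left
      obtain ⟨i, hi⟩ := Subgroup.mem_zpowers_iff.mp h
      have hdi : a * d * a⁻¹ = d := by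
        rw [← hi, ← conj_zpow, hac]
      have hdd : d * d = 1 := by
        have : d = d⁻¹ := by rw [← had, hdi]
        calc d * d = d * d⁻¹ := by rw [← this]
          _ = 1 := mul_inv_cancel d
      have hmd : m = n * d := by rw [hd]; group
      have hdn : d * n = n * d := hNcomm d hdN n hnN
      rw [hconj2]
      calc m ^ 2 = n * (d * n) * d := by rw [pow_two, hmd]; group
        _ = n * (n * d) * d := by rw [hdn]
        _ = n ^ 2 * (d * d) := by rw [pow_two]; group
        _ = n ^ 2 := by rw [hdd, mul_one]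
  by_cases hn4 : n ^ 4 = 1
  · exfalso
    have hn2 : n ^ 2 = 1 ∨ n ^ 2 = z :=
      huniq (n ^ 2) (N.pow_mem hnN 2) (by rw [← pow_mul]; exact hn4)
    have hn2c : ∀ g : P, g * n ^ 2 = n ^ 2 * g := by
      intro g
      rcases hn2 with h | h
      · rw [h, mul_one, one_mul]
      · rw [h]; exact hzcomm g
    have hcard : Nat.card A ≤ 2 * Nat.card ↥(A ⊓ N) := by
      apply card_le_two_mul_of_forall_mem A (A ⊓ N) inf_le_left
      intro a ha b hb haN hbN
      have haN' : a ∉ N := fun h => haN ⟨ha, h⟩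
      have hbN' : b ∉ N := fun h => hbN ⟨hb, h⟩
      have h1 := hc4 a haN' (hn2c a)
      have h2 := hc4 b hbN' (hn2c b)
      refine ⟨A.mul_mem (A.inv_mem ha) hb, hmemN _ ?_⟩
      have h3 : a * n * a⁻¹ = b * n * b⁻¹ := by rw [h1, h2]
      calc a⁻¹ * b * n = a⁻¹ * (b * n * b⁻¹) * b := by group
        _ = a⁻¹ * (a * n * a⁻¹) * b := by rw [h3]
        _ = n * (a⁻¹ * b) := by group
    have h2 : Nat.card ↥(A ⊓ N) ≤ 2 := card_le_two_of_forall _ z (fun b hb => hAN b hb.1 hb.2)
    omega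
  · set B := A ⊓ Subgroup.centralizer ({n ^ 2} : Set P) with hB
    have hcardAB : Nat.card A ≤ 2 * Nat.card B := by
      apply card_le_two_mul_of_forall_mem A B inf_le_left
      intro a ha b hb haB hbB
      have hinv : ∀ x ∈ A, x ∉ B → x * n ^ 2 * x⁻¹ = (n ^ 2)⁻¹ := by
        intro x hx hxB
        rcases hc2 x (hA2 x hx) with h | h
        · exfalso; apply hxB; refine Subgroup.mem_inf.mpr ⟨hx, ?_⟩
          rw [Subgroup.mem_centralizer_singleton_iff]
          calc x * n ^ 2 = (x * n ^ 2 * x⁻¹) * x := by group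
            _ = n ^ 2 * x := by rw [h]
        · exact h
      have ha' := hinv a ha haB
      have hb' := hinv b hb hbB
      refine Subgroup.mem_inf.mpr ⟨A.mul_mem (A.inv_mem ha) hb, ?_⟩
      rw [Subgroup.mem_centralizer_singleton_iff]
      have ha'' : a⁻¹ * (n ^ 2)⁻¹ * a = n ^ 2 := by
        rw [← ha']; group
      calc a⁻¹ * b * n ^ 2 = a⁻¹ * (b * n ^ 2 * b⁻¹) * b := by group
        _ = a⁻¹ * (n ^ 2)⁻¹ * b := by rw [hb']
        _ = (a⁻¹ * (n ^ 2)⁻¹ * a) * (a⁻¹ * b) := by group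
        _ = n ^ 2 * (a⁻¹ * b) := by rw [ha'']
    obtain ⟨a, haB, haN⟩ : ∃ a ∈ B, a ∉ N := by
      by_contra hno
      push Not at hno
      have h2 : Nat.card B ≤ 2 := card_le_two_of_forall _ z
        (fun b hb => hAN b (Subgroup.mem_inf.mp hb).1 (hno b hb))
      omega
    have haA : a ∈ A := (Subgroup.mem_inf.mp haB).1
    have hacomm : a * n ^ 2 = n ^ 2 * a := by
      have := (Subgroup.mem_inf.mp haB).2
      rw [Subgroup.mem_centralizer_singleton_iff] at this
      exact this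
    have ha2 : a ^ 2 = 1 := hA2 a haA
    have hana : a * n * a⁻¹ = n * z := hc4 a haN hacomm
    have hnz : Commute n z := (hzcomm n)
    have hapow : ∀ i : ℤ, a * n ^ i * a⁻¹ = n ^ i * z ^ i := by
      intro i
      rw [← conj_zpow, hana, hnz.mul_zpow]
    refine ⟨a, ha2, fun h => haN (h ▸ N.one_mem), fun h => haN (h ▸ hzN), ?_⟩
    intro g
    set t := g * a * g⁻¹ with ht
    have hyN : g⁻¹ * n * g ∈ N := by
      have := hconjN g⁻¹ n hnN
      rwa [inv_inv] at this
    obtain ⟨i, hi⟩ := Subgroup.mem_zpowers_iff.mp (hgen _ hyN)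
    have htn : t * n * t⁻¹ = n * z ^ i := by
      calc t * n * t⁻¹ = g * (a * (g⁻¹ * n * g) * a⁻¹) * g⁻¹ := by rw [ht]; group
        _ = g * (n ^ i * z ^ i) * g⁻¹ := by rw [← hi, hapow i]
        _ = g * (g⁻¹ * n * g) * (z ^ i * g⁻¹) := by rw [hi]; group
        _ = g * (g⁻¹ * n * g) * (g⁻¹ * z ^ i) := by rw [hzpc i g⁻¹]
        _ = n * z ^ i := by group
    rcases mem_zpowers_of_sq_eq_one hz2 (Subgroup.zpow_mem_zpowers z i) with hzi | hzi
    · exfalso
      rw [hzi, mul_one] at htn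
      have htN : t ∈ N := hmemN t (by
        calc t * n = (t * n * t⁻¹) * t := by group
          _ = n * t := by rw [htn])
      apply haN
      have := hconjN g⁻¹ t htN
      rw [inv_inv] at this
      have h2 : g⁻¹ * t * g = a := by rw [ht]; group
      rwa [h2] at this
    · rw [hzi] at htn
      set m := a⁻¹ * t with hm
      have hmN : m ∈ N := hmemN m (by
        have h1 : t * n = n * z * t := by
          calc t * n = (t * n * t⁻¹) * t := by group
            _ = n * z * t := by rw [htn]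
        have h2 : a⁻¹ * (n * z) = n * a⁻¹ := by
          calc a⁻¹ * (n * z) = a⁻¹ * (a * n * a⁻¹) := by rw [hana]
            _ = n * a⁻¹ := by group
        calc m * n = a⁻¹ * (t * n) := by rw [hm]; group
          _ = a⁻¹ * (n * z * t) := by rw [h1]
          _ = (a⁻¹ * (n * z)) * t := by group
          _ = n * a⁻¹ * t := by rw [h2]
          _ = n * m := by rw [hm]; group)
      obtain ⟨j, hj⟩ := Subgroup.mem_zpowers_iff.mp (hgen m hmN)
      have htam : t = a * m := by rw [hm]; group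
      have ht2 : t * t = 1 := by
        calc t * t = g * (a ^ 2) * g⁻¹ := by rw [ht, pow_two]; group
          _ = 1 := by rw [ha2]; group
      have hama : a * m * a⁻¹ = m * z ^ j := by rw [← hj, hapow j]
      have hainv : a⁻¹ = a := hAinv a haA
      have hmm : m * m * z ^ j = 1 := by
        have h1 : a * m * (a * m) = 1 := by rw [← htam]; exact ht2
        have h2 : a * m * (a * m) = (a * m * a⁻¹) * (a ^ 2) * m := by rw [pow_two]; group
        rw [h2, ha2, hama, mul_one] at h1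
        calc m * m * z ^ j = m * (m * z ^ j) := by group
          _ = m * (z ^ j * m) := by rw [hzpc j m]
          _ = m * z ^ j * m := by group
          _ = 1 := h1
      rcases mem_zpowers_of_sq_eq_one hz2 (Subgroup.zpow_mem_zpowers z j) with hzj | hzj
      · rw [hzj, mul_one] at hmm
        rcases huniq m hmN (by rw [pow_two]; exact hmm) with h | h
        · left; rw [htam, h, mul_one]
        · right; rw [htam, h]
      · exfalso
        rcases Int.even_or_odd' j with ⟨l, hl | hl⟩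
        · apply hz1
          rw [← hzj, hl, zpow_mul]
          have : z ^ (2 : ℤ) = 1 := by exact_mod_cast hz2
          rw [this, one_zpow]
        · apply hn4
          rw [hzj] at hmm
          have hm4 : m ^ 4 = 1 := by
            have h1 : m * m = z⁻¹ := eq_inv_of_mul_eq_one_left hmm
            have h2 : z⁻¹ = z := by rw [inv_eq_iff_mul_eq_one, ← pow_two]; exact hz2
            calc m ^ 4 = (m * m) * (m * m) := by
                  rw [show (4 : ℕ) = 2 + 2 from rfl, pow_add, pow_two]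
              _ = z * z := by rw [h1, h2]
              _ = 1 := by rw [← pow_two]; exact hz2
          apply eq_one_of_zpow_odd_eq_one hP (n ^ 4) l
          have : (n ^ 4) ^ (2 * l + 1) = (n ^ j) ^ 4 := by
            rw [← zpow_natCast n 4, ← zpow_mul, hl, ← zpow_natCast (n ^ (2 * l + 1)) 4, ← zpow_mul]
            congr 1; ring
          rw [this, hj]; exact hm4

/-- **Key lemma.** A finite `2`-group containing an elementary abelian subgroup of order `8` has a
central involution `z` and an involution `u ∉ ⟨z⟩` whose conjugates lie in `{u, uz}` (so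
`⟨z, u⟩` is a normal four-group and `C(u)` has index at most `2`). -/
theorem exists_central_and_almost_central_involution [Finite P] (hP : IsPGroup 2 P)
    (A : Subgroup P) (hA8 : Nat.card A = 8) (hA2 : ∀ a ∈ A, a ^ 2 = 1) :
    ∃ z u : P, z ^ 2 = 1 ∧ z ≠ 1 ∧ z ∈ Subgroup.center P ∧ u ^ 2 = 1 ∧ u ≠ 1 ∧ u ≠ z ∧
      ∀ g : P, g * u * g⁻¹ = u ∨ g * u * g⁻¹ = u * z := by
  classical
  haveI : Fact (Nat.Prime 2) := ⟨Nat.prime_two⟩
  obtain ⟨N, hNn, hNc, hNC⟩ := Cfsg.Agent.Lib.Helper10.exists_normal_abelian_self_centralizing 2 hP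
  haveI := hNn
  have hNcomm : ∀ x ∈ N, ∀ y ∈ N, x * y = y * x :=
    fun x hx y hy => congrArg Subtype.val (mul_comm' (⟨x, hx⟩ : N) ⟨y, hy⟩)
  have hNne : N ≠ ⊥ := by
    intro h
    rw [h] at hNC
    have h1 : Subgroup.centralizer (((⊥ : Subgroup P) : Subgroup P) : Set P) = ⊤ := by
      rw [Subgroup.centralizer_eq_top_iff_subset, Subgroup.coe_bot]
      intro x hx
      rw [Set.mem_singleton_iff] at hx
      rw [hx]
      exact Subgroup.one_mem _
    rw [h1] at hNC
    have h2 : Nat.card P = 1 := by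
      rw [← Subgroup.card_top (G := P), hNC, Subgroup.card_bot]
    have h3 : Nat.card A ≤ Nat.card P := Subgroup.card_le_card_group A
    omega
  let Ω : Subgroup P :=
    { carrier := {x | x ∈ N ∧ x ^ 2 = 1}
      mul_mem' := by
        rintro x y ⟨hx, hx2⟩ ⟨hy, hy2⟩
        refine ⟨N.mul_mem hx hy, ?_⟩
        have hc : Commute x y := hNcomm x hx y hy
        rw [hc.mul_pow, hx2, hy2, one_mul]
      one_mem' := ⟨N.one_mem, one_pow 2⟩
      inv_mem' := by
        rintro x ⟨hx, hx2⟩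
        exact ⟨N.inv_mem hx, by rw [inv_pow, hx2, inv_one]⟩ }
  have hΩmem : ∀ x, x ∈ Ω ↔ x ∈ N ∧ x ^ 2 = 1 := fun x => Iff.rfl
  haveI hΩn : Ω.Normal := ⟨fun x hx g => (hΩmem _).mpr
    ⟨hNn.conj_mem x ((hΩmem x).mp hx).1 g, by rw [conj_pow, ((hΩmem x).mp hx).2]; group⟩⟩
  have hΩne : Ω ≠ ⊥ := by
    have hNp : IsPGroup 2 N := hP.to_subgroup N
    have h2 : 2 ∣ Nat.card N := by
      rcases hNp.card_eq_or_dvd with h | h
      · exact absurd (Subgroup.card_eq_one.mp h) hNne
      · exact h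
    obtain ⟨x, hx⟩ := exists_prime_orderOf_dvd_card' (G := N) 2 h2
    intro hbot
    have hx2 : (x : P) ^ 2 = 1 := by
      have := pow_orderOf_eq_one x
      rw [hx] at this
      have := congrArg Subtype.val this
      simpa using this
    have hxΩ : (x : P) ∈ Ω := (hΩmem _).mpr ⟨x.2, hx2⟩
    rw [hbot, Subgroup.mem_bot] at hxΩ
    have : x = 1 := Subtype.ext hxΩ
    rw [this, orderOf_one] at hx
    omega
  obtain ⟨z, hzΩ, hzc, hz1⟩ :=
    Cfsg.Agent.Lib.Helper10.exists_mem_center_of_normal_ne_bot 2 hP Ω hΩne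
  have hzN : z ∈ N := ((hΩmem z).mp hzΩ).1
  have hz2 : z ^ 2 = 1 := ((hΩmem z).mp hzΩ).2
  by_cases hex : ∃ u ∈ Ω, u ≠ 1 ∧ u ≠ z
  · obtain ⟨u₀, hu₀Ω, hu₀1, hu₀z⟩ := hex
    haveI hZn : (Subgroup.zpowers z).Normal := by
      constructor
      intro x hx g
      obtain ⟨k, rfl⟩ := Subgroup.mem_zpowers_iff.mp hx
      have hc0 : Commute g z := Subgroup.mem_center_iff.mp hzc g
      have hc : Commute g (z ^ k) := hc0.zpow_right k
      rw [hc.eq, mul_inv_cancel_right]
      exact Subgroup.zpow_mem_zpowers z k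
    have hQ : IsPGroup 2 (P ⧸ Subgroup.zpowers z) := hP.to_quotient _
    haveI hmapn : (Ω.map (QuotientGroup.mk' (Subgroup.zpowers z))).Normal :=
      hΩn.map _ (QuotientGroup.mk'_surjective _)
    have hne : Ω.map (QuotientGroup.mk' (Subgroup.zpowers z)) ≠ ⊥ := by
      intro h
      have : (QuotientGroup.mk' (Subgroup.zpowers z)) u₀ ∈
          Ω.map (QuotientGroup.mk' (Subgroup.zpowers z)) := Subgroup.mem_map_of_mem _ hu₀Ω
      rw [h, Subgroup.mem_bot] at this
      have hu₀Z : u₀ ∈ Subgroup.zpowers z := (QuotientGroup.eq_one_iff u₀).mp this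
      rcases mem_zpowers_of_sq_eq_one hz2 hu₀Z with h | h
      · exact hu₀1 h
      · exact hu₀z h
    obtain ⟨ū, hūΩ, hūc, hū1⟩ := Cfsg.Agent.Lib.Helper10.exists_mem_center_of_normal_ne_bot 2 hQ
      (Ω.map (QuotientGroup.mk' (Subgroup.zpowers z))) hne
    obtain ⟨u, huΩ, rfl⟩ := hūΩ
    have huZ : u ∉ Subgroup.zpowers z := fun h => hū1 ((QuotientGroup.eq_one_iff u).mpr h)
    refine ⟨z, u, hz2, hz1, hzc, ((hΩmem u).mp huΩ).2, ?_, ?_, ?_⟩
    · intro h; exact huZ (h ▸ Subgroup.one_mem _)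
    · intro h; exact huZ (h ▸ Subgroup.mem_zpowers z)
    · intro g
      have h1 : (QuotientGroup.mk' (Subgroup.zpowers z)) (g * u * g⁻¹) =
          (QuotientGroup.mk' (Subgroup.zpowers z)) u := by
        rw [map_mul, map_mul, map_inv]
        have := Subgroup.mem_center_iff.mp hūc ((QuotientGroup.mk' (Subgroup.zpowers z)) g)
        rw [this, mul_inv_cancel_right]
      have h2 : u⁻¹ * (g * u * g⁻¹) ∈ Subgroup.zpowers z := QuotientGroup.eq.mp h1.symm
      rcases mem_zpowers_of_sq_eq_one hz2 h2 with h | h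
      · left
        calc g * u * g⁻¹ = u * (u⁻¹ * (g * u * g⁻¹)) := by group
          _ = u := by rw [h, mul_one]
      · right
        calc g * u * g⁻¹ = u * (u⁻¹ * (g * u * g⁻¹)) := by group
          _ = u * z := by rw [h]
  · push Not at hex
    have huniq : ∀ x ∈ N, x ^ 2 = 1 → x = 1 ∨ x = z := by
      intro x hx hx2
      by_contra hcon
      push Not at hcon
      exact hcon.2 (hex x ((hΩmem x).mpr ⟨hx, hx2⟩) hcon.1)
    have hNcyc : IsCyclic N := by
      let ψ : N →* N :=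
        { toFun := fun x => x ^ 2
          map_one' := one_pow 2
          map_mul' := fun x y => by
            apply Subtype.ext
            have hc : Commute (x : P) (y : P) := hNcomm x x.2 y y.2
            simpa using hc.mul_pow 2 }
      apply Cfsg.Agent.Lib.Helper20.isCyclic_of_card_ker_pow_le (hP.to_subgroup N) ψ (fun x => rfl)
      apply card_le_two_of_forall ψ.ker ⟨z, hzN⟩
      intro b hb
      have hb2 : (b : P) ^ 2 = 1 := by
        have := congrArg Subtype.val (MonoidHom.mem_ker.mp hb)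
        simpa [ψ] using this
      rcases huniq b b.2 hb2 with h | h
      · left; exact Subtype.ext h
      · right; exact Subtype.ext h
    obtain ⟨n', hn'⟩ := hNcyc.exists_generator
    have hgen : ∀ x ∈ N, x ∈ Subgroup.zpowers (n' : P) := by
      intro x hx
      obtain ⟨k, hk⟩ := Subgroup.mem_zpowers_iff.mp (hn' ⟨x, hx⟩)
      rw [Subgroup.mem_zpowers_iff]
      refine ⟨k, ?_⟩
      have := congrArg Subtype.val hk
      simpa using this
    obtain ⟨u, hu2, hu1, huz, hu⟩ := exists_almost_central_of_cyclic hP N hNC n' n'.2 hgen z hz2 hz1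
      hzN hzc huniq A hA8 hA2
    exact ⟨z, u, hz2, hz1, hzc, hu2, hu1, huz, hu⟩

theorem isCoatom_of_index_eq_two (M : Subgroup P) (hM : M.index = 2) : IsCoatom M := by
  constructor
  · intro h
    rw [h, Subgroup.index_top] at hM
    omega
  · intro K hK
    have h1 := Subgroup.relIndex_mul_index hK.le
    rw [hM] at h1
    have h2 : K.index ∣ 2 := Dvd.intro_left _ h1
    rcases (Nat.dvd_prime Nat.prime_two).mp h2 with h3 | h3
    · exact Subgroup.index_eq_one.mp h3
    · exfalso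
      rw [h3] at h1
      have h4 : M.relIndex K = 1 := by omega
      have h5 : K ≤ M := Subgroup.relIndex_eq_one.mp h4
      exact (not_le_of_gt hK) h5

/-- If all conjugates of `u` lie in `{u, uz}` then `C(u)` is the whole group or has index `2`. -/
theorem centralizer_index_eq_two_of_conj [Finite P] (u z : P)
    (h : ∀ g : P, g * u * g⁻¹ = u ∨ g * u * g⁻¹ = u * z)
    (hne : Subgroup.centralizer ({u} : Set P) ≠ ⊤) :
    (Subgroup.centralizer ({u} : Set P)).index = 2 := by
  have hmem : ∀ g : P, g ∉ Subgroup.centralizer ({u} : Set P) → g * u * g⁻¹ = u * z := by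
    intro g hg
    rcases h g with h1 | h1
    · exfalso; apply hg
      rw [Subgroup.mem_centralizer_singleton_iff]
      calc g * u = (g * u * g⁻¹) * g := by group
        _ = u * g := by rw [h1]
    · exact h1
  have hcard : Nat.card (⊤ : Subgroup P) ≤ 2 * Nat.card (Subgroup.centralizer ({u} : Set P)) := by
    apply card_le_two_mul_of_forall_mem ⊤ _ le_top
    intro a _ b _ ha hb
    rw [Subgroup.mem_centralizer_singleton_iff]
    have h3 : a * u * a⁻¹ = b * u * b⁻¹ := by rw [hmem a ha, hmem b hb]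
    calc a⁻¹ * b * u = a⁻¹ * (b * u * b⁻¹) * b := by group
      _ = a⁻¹ * (a * u * a⁻¹) * b := by rw [h3]
      _ = u * (a⁻¹ * b) := by group
  rw [Subgroup.card_top] at hcard
  have h1 := Subgroup.card_mul_index (Subgroup.centralizer ({u} : Set P))
  have h2 : (Subgroup.centralizer ({u} : Set P)).index ≠ 1 := fun h => hne (Subgroup.index_eq_one.mp h)
  have h3 : (Subgroup.centralizer ({u} : Set P)).index ≠ 0 := Subgroup.index_ne_zero_of_finite
  have h4 : 0 < Nat.card (Subgroup.centralizer ({u} : Set P)) := Nat.card_pos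
  have h5 : (Subgroup.centralizer ({u} : Set P)).index ≤ 2 := by
    by_contra hgt
    push Not at hgt
    have : Nat.card (Subgroup.centralizer ({u} : Set P)) * 3 ≤
        Nat.card (Subgroup.centralizer ({u} : Set P)) * (Subgroup.centralizer ({u} : Set P)).index :=
      Nat.mul_le_mul_left _ hgt
    omega
  omega

end TwoGroupE8

/-- A finite group without subgroups of index `2` equals `O^2(G)`. -/
theorem pResidual_two_eq_top_of_no_index_two {G : Type*} [Group G] [Finite G]
    (hno : ∀ H : Subgroup G, H.index ≠ 2) : Cfsg.pResidual 2 G = ⊤ := by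
  classical
  haveI : Fact (Nat.Prime 2) := ⟨Nat.prime_two⟩
  by_contra h1
  haveI hn : (Cfsg.pResidual 2 G).Normal := Cfsg.Agent.Lib.Helper12.pResidual_normal' 2 G
  obtain ⟨k, hk⟩ := Cfsg.Agent.Lib.Helper12.pResidual_index_eq_pow 2 G
  have hk0 : k ≠ 0 := by
    rintro rfl
    rw [pow_zero, Subgroup.index_eq_one] at hk
    exact h1 hk
  obtain ⟨k', rfl⟩ := Nat.exists_eq_succ_of_ne_zero hk0
  have hcard : Nat.card (G ⧸ Cfsg.pResidual 2 G) = 2 ^ (k' + 1) := by
    rw [← Subgroup.index_eq_card, hk]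
  have hdvd : 2 ^ k' ∣ Nat.card (G ⧸ Cfsg.pResidual 2 G) := by
    rw [hcard]; exact pow_dvd_pow 2 (Nat.le_succ k')
  obtain ⟨K, hK⟩ := Sylow.exists_subgroup_card_pow_prime 2 hdvd
  apply hno (K.comap (QuotientGroup.mk' (Cfsg.pResidual 2 G)))
  rw [Subgroup.index_comap_of_surjective K (QuotientGroup.mk'_surjective _)]
  have h4 := K.card_mul_index
  rw [hK, hcard, pow_succ] at h4
  have h5 : 0 < 2 ^ k' := by positivity
  exact Nat.eq_of_mul_eq_mul_left h5 h4

end Cfsg.Agent.Lib.Helper11
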