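import Mathlib
import Cfsg.Prelude.Def_GeometricClasses
import Cfsg.Agent.Lib.Helper5.SUMax
import Cfsg.Agent.Lib.Helper18.C2Defs
import Cfsg.Agent.Lib.Helper9.C2L2
import Cfsg.Agent.Lib.Helper6.UADefs
import Cfsg.Agent.Lib.Helper9.UAA2

/-!
S5655 part A (helper6's market), leaves A4 (`exists_rho`: a non-isotropic block vector `v` with
prescribed ratio `N(⟪w,v⟫) / N(v)`) and A10 (`exists_presc`: a block vector with prescribed norm
and prescribed product with `x`).
-/

set_option autoImplicit false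
set_option linter.unusedSectionVars false
set_option linter.unusedVariables false

namespace Cfsg.Agent.Lib.Helper11.UALeaf
open Cfsg Matrix Cfsg.Agent.Lib.Helper5.UForm Cfsg.Agent.Lib.Helper5.HermBridge
  Cfsg.Agent.Lib.Helper5.SUGen Cfsg.Agent.Lib.Helper5.SUMax Cfsg.Agent.Lib.Helper18.C2
  Cfsg.Agent.Lib.Helper6.UA

variable {F : Type*} [Field F] [Fintype F] {q n t k : ℕ} (hF : Fintype.card F = q ^ 2)
  {D : Fin t → Submodule F (Fin n → F)}
  (hD : Cfsg.Geo.IsNondegenerateMDecomposition (Cfsg.hermForm n F q) k D)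
  {M : Subgroup (GL (Fin n) F)}
include hF hD

/-! ## A4 -/
theorem exists_rho (hk : 2 ≤ k) {i : Fin t} {w : Fin n → F} (hw : w ∈ D i) (hw0 : w ≠ 0)
    {ρ : F} (hρ0 : ρ ≠ 0) (hρ : frobQ hF ρ = ρ) :
    ∃ v ∈ D i, Cfsg.hermForm n F q v v ≠ 0 ∧
      Cfsg.hermForm n F q w v * frobQ hF (Cfsg.hermForm n F q w v) =
        ρ * Cfsg.hermForm n F q v v := by
  have hf := herm_unitary (n := n) hF
  have hND := ND_block hD i
  by_cases hww : Cfsg.hermForm n F q w w = 0
  · -- `w` isotropic
    obtain ⟨w', hw'D, hw'w', h1⟩ := exists_partner hf hND hw hw0 hww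
    obtain ⟨ε, hε, hεne⟩ := Cfsg.Agent.Lib.Helper9.UALeaf.exists_zeta hF hD
    have hNv : Cfsg.hermForm n F q (w + (ρ * (1 + ε)) • w') (w + (ρ * (1 + ε)) • w') =
        ρ * (2 + ε + frobQ hF ε) := by
      rw [u_expand hf, hww, hw'w', h1, hf.herm w' w, h1, map_one, map_mul, map_add, map_one, hρ]
      ring
    have hne : (2 : F) + ε + frobQ hF ε ≠ 0 := by
      intro h0
      have h2 : (1 + ε) * (1 + frobQ hF ε) = 0 := by linear_combination h0 + hε
      have h3 : ε = -1 := by
        rcases mul_eq_zero.mp h2 with h | h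
        · linear_combination h
        · have h4 : frobQ hF ε = -1 := by linear_combination h
          have h5 := hf.involutive ε
          rw [h4, map_neg, map_one] at h5
          exact h5.symm
      apply hεne
      rw [h3, map_neg, map_one]
    refine ⟨w + (ρ * (1 + ε)) • w', (D i).add_mem hw ((D i).smul_mem _ hw'D), ?_, ?_⟩
    · rw [hNv]
      exact mul_ne_zero hρ0 hne
    · have hwv : Cfsg.hermForm n F q w (w + (ρ * (1 + ε)) • w') = frobQ hF (ρ * (1 + ε)) := by
        rw [u_add_right hf, u_smul_right hf, hww, h1, zero_add, mul_one]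
      rw [hwv, hf.involutive, hNv, map_mul, map_add, map_one, hρ]
      linear_combination (ρ ^ 2) * hε
  · -- `w` non-isotropic
    have hνfix : frobQ hF (Cfsg.hermForm n F q w w) = Cfsg.hermForm n F q w w := u_self_fixed hf w
    have hND' := ND_noniso hf hND hw hww
    have hfr : 1 ≤ Module.finrank F ↥(D i ⊓ pp hf w) := by
      have h1 := finrank_inf_pp hf (D i) w
      rw [hD.decomp.finrank_eq] at h1
      omega
    obtain ⟨e, he, hee⟩ := exists_norm1 hf hND' hfr
      (Cfsg.hermForm n F q w w ^ 2 / ρ - Cfsg.hermForm n F q w w)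
      (by rw [map_sub, map_div₀, map_pow, hνfix, hρ])
    obtain ⟨heD, hew⟩ := Submodule.mem_inf.mp he
    rw [mem_pp] at hew
    have hNv : Cfsg.hermForm n F q (w + e) (w + e) = Cfsg.hermForm n F q w w ^ 2 / ρ := by
      rw [hf.add_left, u_add_right hf, u_add_right hf, hew, u_symm_zero hf hew, hee]
      ring
    refine ⟨w + e, (D i).add_mem hw heD, ?_, ?_⟩
    · rw [hNv]
      exact div_ne_zero (pow_ne_zero 2 hww) hρ0
    · have hwv : Cfsg.hermForm n F q w (w + e) = Cfsg.hermForm n F q w w := by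
        rw [u_add_right hf, u_symm_zero hf hew, add_zero]
      rw [hwv, hνfix, hNv]
      field_simp

/-! ## A10 -/
theorem exists_presc (hk : 2 ≤ k) {i : Fin t} {x : Fin n → F} (hx : x ∈ D i) (hx0 : x ≠ 0)
    {μ η : F} (hμ : frobQ hF μ = μ)
    (hcase : Cfsg.hermForm n F q x x ≠ 0 ∨ η ≠ 0 ∨ 3 ≤ k) :
    ∃ z ∈ D i, Cfsg.hermForm n F q z z = μ ∧ Cfsg.hermForm n F q z x = η := by
  have hf := herm_unitary (n := n) hF
  have hND := ND_block hD i
  by_cases hxx : Cfsg.hermForm n F q x x = 0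
  swap
  · -- `x` non-isotropic
    have hνfix : frobQ hF (Cfsg.hermForm n F q x x) = Cfsg.hermForm n F q x x := u_self_fixed hf x
    have hND' := ND_noniso hf hND hx hxx
    have hfr : 1 ≤ Module.finrank F ↥(D i ⊓ pp hf x) := by
      have h1 := finrank_inf_pp hf (D i) x
      rw [hD.decomp.finrank_eq] at h1
      omega
    obtain ⟨e, he, hee⟩ := exists_norm1 hf hND' hfr
      (μ - η * frobQ hF η / Cfsg.hermForm n F q x x)
      (by rw [map_sub, map_div₀, map_mul, hf.involutive, hνfix, hμ, mul_comm])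
    obtain ⟨heD, hex⟩ := Submodule.mem_inf.mp he
    rw [mem_pp] at hex
    refine ⟨(η / Cfsg.hermForm n F q x x) • x + e,
      (D i).add_mem ((D i).smul_mem _ hx) heD, ?_, ?_⟩
    · rw [hf.add_left, u_add_right hf, u_add_right hf, hf.smul_left, hf.smul_left,
        u_smul_right hf, u_smul_right hf, hex, u_symm_zero hf hex, hee, map_div₀, hνfix]
      field_simp
      ring
    · rw [hf.add_left, hf.smul_left, hex, add_zero, div_mul_cancel₀ _ hxx]
  -- `x` isotropic
  obtain ⟨x', hx'D, hx'x', h1⟩ := exists_partner hf hND hx hx0 hxx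
  have h1' : Cfsg.hermForm n F q x' x = 1 := by rw [hf.herm, h1, map_one]
  by_cases hη : η = 0
  swap
  · obtain ⟨t₀, ht₀⟩ := tr_surj hf.involutive hf.ne_refl μ hμ
    refine ⟨η • x' + frobQ hF (t₀ / η) • x,
      (D i).add_mem ((D i).smul_mem _ hx'D) ((D i).smul_mem _ hx), ?_, ?_⟩
    · simp only [hf.add_left, u_add_right hf, hf.smul_left, u_smul_right hf]
      rw [hx'x', hxx, h1, h1', hf.involutive, map_div₀]
      have hη' : frobQ hF η ≠ 0 := by rwa [Ne, map_eq_zero]
      field_simp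
      linear_combination (η * frobQ hF η) * ht₀
    · rw [hf.add_left, hf.smul_left, hf.smul_left, h1', hxx, mul_one, mul_zero, add_zero]
  · -- `η = 0`, `k ≥ 3`
    have hk3 : 3 ≤ k := by
      rcases hcase with h | h | h
      · exact absurd hxx h
      · exact absurd hη h
      · exact h
    have hND' := ND_hyp hf hND hx hx'D hxx hx'x' h1
    have hfr : 1 ≤ Module.finrank F ↥(D i ⊓ pp hf x ⊓ pp hf x') := by
      have h2 := finrank_inf_pp hf (D i) x
      have h3 := finrank_inf_pp hf (D i ⊓ pp hf x) x'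
      rw [hD.decomp.finrank_eq] at h2
      omega
    obtain ⟨z, hz, hzz⟩ := exists_norm1 hf hND' hfr μ hμ
    obtain ⟨hz1, hzx'⟩ := Submodule.mem_inf.mp hz
    obtain ⟨hzD, hzx⟩ := Submodule.mem_inf.mp hz1
    rw [mem_pp] at hzx
    exact ⟨z, hzD, hzz, by rw [hzx, hη]⟩

end Cfsg.Agent.Lib.Helper11.UALeaf
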