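import Mathlib
import Cfsg.Agent.Lib.Helper11.UHDefs
import Cfsg.Agent.Lib.Helper14.Unitary3

/-!
# Frames, the Siegel radical and the Levi factor of `SU_n(q)` (definitions for S2334, S2335)
-/

set_option autoImplicit false

namespace Cfsg.Agent.Lib.Helper11.UH

open Matrix

variable {F : Type*} [Field F] {q n m : ℕ}

/-- a pair of dual totally isotropic frames in the standard unitary space `F^n` -/
structure Frame (F : Type*) [Field F] (q n m : ℕ) where
  /-- the first isotropic frame (columns) -/
  Φ : Matrix (Fin n) (Fin m) F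
  /-- the dual isotropic frame (columns) -/
  Γ : Matrix (Fin n) (Fin m) F
  hΦΦ : cT q Φ * Φ = 0
  hΓΓ : cT q Γ * Γ = 0
  hΦΓ : cT q Φ * Γ = 1

/-- the elements of the Siegel radical -/
def Xm (fr : Frame F q n m) (S : Matrix (Fin m) (Fin m) F) : Matrix (Fin n) (Fin n) F :=
  1 + fr.Φ * S * cT q fr.Φ

/-- the elements of the Levi factor; `g' = (gᴴ)⁻¹` -/
def Lm (fr : Frame F q n m) (g g' : Matrix (Fin m) (Fin m) F) : Matrix (Fin n) (Fin n) F :=
  1 + fr.Φ * (g - 1) * cT q fr.Γ + fr.Γ * (g' - 1) * cT q fr.Φ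

/-- the conjugation action on skew-Hermitian matrices -/
def conjSk [Fintype F] [DecidableEq F] (hF : Fintype.card F = q ^ 2) (g : Matrix (Fin m) (Fin m) F)
    (S : ↥(skMat hF m)) : ↥(skMat hF m) :=
  ⟨g * S.1 * cT q g, by
    have hS : cT q S.1 = -S.1 := S.2
    rw [mem_skMat, cT_mul hF, cT_mul hF, cT_cT hF, hS, Matrix.neg_mul, Matrix.mul_neg,
      Matrix.mul_assoc]⟩

theorem conjSk_val [Fintype F] [DecidableEq F] (hF : Fintype.card F = q ^ 2)
    (g : Matrix (Fin m) (Fin m) F) (S : ↥(skMat hF m)) :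
    (conjSk hF g S).1 = g * S.1 * cT q g := rfl

/-! ### perfect pairings of finite abelian groups and their isotypic idempotents -/

/-- a perfect pairing (bicharacter) between finite abelian groups with values in a field -/
structure Pairing (A B : Type*) [AddCommGroup A] [AddCommGroup B] [Fintype A] [Fintype B]
    (L : Type*) [Field L] where
  /-- the bicharacter -/
  e : B → A → L
  add_left : ∀ u u' a, e (u + u') a = e u a * e u' a
  add_right : ∀ u a a', e u (a + a') = e u a * e u a'
  zero_left : ∀ a, e 0 a = 1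
  zero_right : ∀ u, e u 0 = 1
  sum_right : ∀ u, u ≠ 0 → ∑ a, e u a = 0
  sum_left : ∀ a, a ≠ 0 → ∑ u, e u a = 0
  card_eq : Fintype.card A = Fintype.card B

/-- the isotypic idempotents of `x : A → R` with respect to a pairing -/
noncomputable def Pr2 {A B : Type*} [AddCommGroup A] [AddCommGroup B] [Fintype A] [Fintype B]
    {L : Type*} [Field L] {R : Type*} [Ring R] [Algebra L R] (P : Pairing A B L) (x : A → R)
    (u : B) : R :=
  ((Fintype.card A : L)⁻¹) • ∑ a : A, P.e u (-a) • x a

end Cfsg.Agent.Lib.Helper11.UH
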