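import Mathlib
import Cfsg.Agent.Lib.Helper18.UNdDefs

/-!
S5655 (helper18's ND market), leaf ALL2: one isotropic weight-two vector with full root group in `M`
gives all of them (scaling, phases `dg (tcc b c ε)`, moving the positions by `rotU`).
-/

set_option autoImplicit false
set_option linter.unusedSectionVars false
set_option linter.unusedVariables false

namespace Cfsg.Agent.Lib.Helper11.UNdLeaf
open Cfsg Matrix Cfsg.Agent.Lib.Helper11.Mono Cfsg.Agent.Lib.Helper15.MonoLeaf
  Cfsg.Agent.Lib.Helper2.MonoLeaf Cfsg.Agent.Lib.Helper5.SUMax Cfsg.Agent.Lib.Helper5.HermBridge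
  Cfsg.Agent.Lib.Helper5.UForm Cfsg.Agent.Lib.Helper18.UNd

variable {F : Type*} [Field F] [Fintype F] {n q : ℕ}

omit [Fintype F] in
lemma w2_comm (a b : Fin n) (α β : F) : w2 a b α β = w2 b a β α := by
  unfold w2
  rw [add_comm]

omit [Fintype F] in
lemma w2_zero (a b : Fin n) : w2 a b (0 : F) 0 = 0 := by
  simp [w2]

lemma exists_ne_ne (hn : 3 ≤ n) (a b : Fin n) : ∃ c : Fin n, c ≠ a ∧ c ≠ b := by
  by_contra h
  push Not at h
  have h1 : (Finset.univ : Finset (Fin n)) ⊆ {a, b} := fun c _ => by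
    by_cases hc : c = a
    · simp [hc]
    · simp [h c hc]
  have h2 := Finset.card_le_card h1
  rw [Finset.card_univ, Fintype.card_fin] at h2
  have h3 := Finset.card_le_two (a := a) (b := b)
  omega

/-- all isotropic vectors supported on `{a, b}` have their root group in `M` -/
def P2 (hF : Fintype.card F = q ^ 2) (M : Subgroup (GL (Fin n) F)) (a b : Fin n) : Prop :=
  ∀ α β : F, α ^ (q + 1) + β ^ (q + 1) = 0 → w2 a b α β ∈ Sset hF M

lemma P2_symm (hF : Fintype.card F = q ^ 2) {M : Subgroup (GL (Fin n) F)} {a b : Fin n}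
    (h : P2 hF M a b) : P2 hF M b a := fun α β hαβ => by
  rw [w2_comm]
  exact h β α (by rw [add_comm]; exact hαβ)

lemma P2_base (hF : Fintype.card F = q ^ 2) (hn : 3 ≤ n) (M : Subgroup (GL (Fin n) F))
    (hH : ContainsMonoU n q M)
    (a b : Fin n) (α β : F) (hab : a ≠ b) (hα : α ≠ 0) (hβ : β ≠ 0)
    (hαβ : α ^ (q + 1) + β ^ (q + 1) = 0) (hS : w2 a b α β ∈ Sset hF M) : P2 hF M a b := by
  intro α' β' h'
  by_cases hα' : α' = 0
  · have hβ' : β' = 0 := by
      rw [hα', zero_pow (by omega), zero_add] at h'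
      exact (pow_eq_zero_iff (by omega)).mp h'
    rw [hα', hβ', w2_zero]
    exact zero_mem_Sset hF M
  obtain ⟨c, hca, hcb⟩ := exists_ne_ne hn a b
  have hβ'0 : β' ≠ 0 := by
    intro h
    rw [h, zero_pow (by omega), add_zero] at h'
    exact hα' ((pow_eq_zero_iff (by omega)).mp h')
  have he0 : (β' / β) * (α / α') ≠ 0 := mul_ne_zero (div_ne_zero hβ'0 hβ) (div_ne_zero hα hα')
  have heN : ((β' / β) * (α / α')) ^ (q + 1) = 1 := by
    rw [mul_pow, div_pow, div_pow]
    have h1 : β' ^ (q + 1) = -α' ^ (q + 1) := by linear_combination h'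
    have h2 : β ^ (q + 1) = -α ^ (q + 1) := by linear_combination hαβ
    rw [h1, h2]
    have h3 := pow_ne_zero (q + 1) hα
    have h4 := pow_ne_zero (q + 1) hα'
    field_simp
  have hε : (Units.mk0 _ he0) ^ (q + 1) = 1 := Units.ext (by
    rw [Units.val_pow_eq_pow_val, Units.val_mk0, heN, Units.val_one])
  have hdM := dg_tcc_mem_M hH (Ne.symm hcb) hε
  have hdG := (dg_tcc_mem (Ne.symm hcb) hε).1
  have h1 := Sset_mulVec_mem hF hdM hdG (Sset_smul hF hS (α' / α))
  convert h1 using 1
  rw [dg_tcc_mulVec (Ne.symm hcb)]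
  ext x
  by_cases hxb : x = b
  · rw [hxb, if_pos rfl, w2_apply_right hab, Pi.smul_apply, w2_apply_right hab, Units.val_mk0,
      smul_eq_mul]
    field_simp
  · rw [if_neg hxb]
    by_cases hxc : x = c
    · rw [hxc, if_pos rfl, w2_apply_off hca hcb, Pi.smul_apply, w2_apply_off hca hcb, smul_zero,
        mul_zero]
    · rw [if_neg hxc, Pi.smul_apply, smul_eq_mul]
      by_cases hxa : x = a
      · rw [hxa, w2_apply_left hab, w2_apply_left hab]
        field_simp
      · rw [w2_apply_off hxa hxb, w2_apply_off hxa hxb, mul_zero]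

lemma P2_move (hF : Fintype.card F = q ^ 2) (M : Subgroup (GL (Fin n) F))
    (hH : ContainsMonoU n q M) {a b a' : Fin n} (hab : a ≠ b) (ha'a : a' ≠ a) (ha'b : a' ≠ b)
    (h : P2 hF M a b) : P2 hF M a' b := by
  intro α β hαβ
  have hr := rotU_mem_M hF hH (Ne.symm ha'a)
  have hrG := (rotU_mem hF (Ne.symm ha'a)).1
  have h1 := Sset_mulVec_mem hF hr hrG (h α β hαβ)
  convert h1 using 1
  rw [rotU_mulVec (Ne.symm ha'a)]
  ext x
  by_cases hxa : x = a
  · rw [hxa, if_pos rfl, w2_apply_off ha'a ha'b, neg_zero, w2_apply_off (Ne.symm ha'a) hab]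
  · rw [if_neg hxa]
    by_cases hxa' : x = a'
    · rw [hxa', if_pos rfl, w2_apply_left ha'b, w2_apply_left hab]
    · rw [if_neg hxa']
      by_cases hxb : x = b
      · rw [hxb, w2_apply_right ha'b, w2_apply_right hab]
      · rw [w2_apply_off hxa' hxb, w2_apply_off hxa hxb]

/-- ALL2. -/
theorem all_weight_two (hF : Fintype.card F = q ^ 2) (hn : 3 ≤ n) (M : Subgroup (GL (Fin n) F))
    (hM : M ≤ Cfsg.GU n F q ⊓ Cfsg.Geo.specialLinear (Fin n) F) (hH : ContainsMonoU n q M)
    (a b : Fin n) (α β : F) (hab : a ≠ b) (hα : α ≠ 0) (hβ : β ≠ 0)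
    (hαβ : α ^ (q + 1) + β ^ (q + 1) = 0) (hS : w2 a b α β ∈ Sset hF M) :
    ∀ (a' b' : Fin n) (α' β' : F), a' ≠ b' → α' ^ (q + 1) + β' ^ (q + 1) = 0 →
      w2 a' b' α' β' ∈ Sset hF M := by
  intro a' b' α' β' ha'b' h'
  have hP := P2_base hF hn M hH a b α β hab hα hβ hαβ hS
  have key : P2 hF M a' b' := by
    by_cases h1 : a' = a
    · by_cases h2 : b' = b
      · rw [h1, h2]
        exact hP
      · have hb'a : b' ≠ a := fun h => ha'b' (h1.trans h.symm)
        rw [h1]
        exact P2_symm hF (P2_move hF M hH (Ne.symm hab) h2 hb'a (P2_symm hF hP))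
    · by_cases h2 : a' = b
      · by_cases h3 : b' = a
        · rw [h2, h3]
          exact P2_symm hF hP
        · have hb'b : b' ≠ b := fun h => ha'b' (h2.trans h.symm)
          rw [h2]
          exact P2_symm hF (P2_move hF M hH hab h3 hb'b hP)
      · have hPa' := P2_move hF M hH hab h1 h2 hP
        by_cases h3 : b' = b
        · rw [h3]
          exact hPa'
        · by_cases h4 : b' = a
          · rw [h4]
            exact P2_move hF M hH (Ne.symm hab) h2 h1 (P2_symm hF hP)
          · exact P2_symm hF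
              (P2_move hF M hH (Ne.symm h2) h3 (Ne.symm ha'b') (P2_symm hF hPa'))
  exact key α' β' h'

end Cfsg.Agent.Lib.Helper11.UNdLeaf
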