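import Mathlib
import Cfsg.Agent.Lib.Helper18.UNdDefs

/-!
S5655 (helper18's ND market), leaf SHRINK, core: an isotropic centre `z ≠ 0` of a full root group
in `M`, `z i = 0`, gives an isotropic centre of weight two.  The pigeonhole statements PIG-a and
PIG-c are hypotheses here.
-/

set_option autoImplicit false
set_option linter.unusedSectionVars false
set_option linter.unusedVariables false

namespace Cfsg.Agent.Lib.Helper11.UNdLeaf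
open Cfsg Matrix Cfsg.Agent.Lib.Helper11.Mono Cfsg.Agent.Lib.Helper15.MonoLeaf
  Cfsg.Agent.Lib.Helper2.MonoLeaf Cfsg.Agent.Lib.Helper5.SUMax Cfsg.Agent.Lib.Helper5.HermBridge
  Cfsg.Agent.Lib.Helper5.UForm Cfsg.Agent.Lib.Helper18.UNd

variable {F : Type*} [Field F] [Fintype F] {n q : ℕ}

lemma shr_unit_conj (hF : Fintype.card F = q ^ 2) {ξ : Fˣ} (hξ : ξ ^ (q + 1) = 1) :
    frobQ hF (ξ : F) = (ξ : F)⁻¹ := by
  rw [frobQ_apply]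
  have h1 : (ξ : F) ^ q * (ξ : F) = 1 := by
    have := congrArg Units.val hξ
    rwa [Units.val_pow_eq_pow_val, Units.val_one, pow_succ] at this
  exact eq_inv_of_mul_eq_one_left h1

lemma shr_norm_eq (hF : Fintype.card F = q ^ 2) (x : F) : x ^ (q + 1) = x * frobQ hF x := by
  rw [frobQ_apply, pow_succ, mul_comm]

lemma shr_frob_norm (hF : Fintype.card F = q ^ 2) (x : F) :
    frobQ hF (x ^ (q + 1)) = x ^ (q + 1) := by
  rw [shr_norm_eq hF, map_mul, frobQ_apply hF (frobQ hF x), frobQ_apply hF x, pow_q_pow_q hF,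
    ← frobQ_apply hF x, mul_comm]

/-- `N(1 - ξ) = (1 - ξ)(1 - ξ⁻¹)` -/
lemma shr_norm_one_sub (hF : Fintype.card F = q ^ 2) {ξ : Fˣ} (hξ : ξ ^ (q + 1) = 1) :
    (1 - (ξ : F)) ^ (q + 1) = (1 - (ξ : F)) * (1 - (ξ : F)⁻¹) := by
  rw [shr_norm_eq hF, map_sub, map_one, shr_unit_conj hF hξ]

lemma shr_norm_one_sub_inv (hF : Fintype.card F = q ^ 2) {ξ : Fˣ} (hξ : ξ ^ (q + 1) = 1) :
    (1 - ((ξ⁻¹ : Fˣ) : F)) ^ (q + 1) = (1 - (ξ : F)) ^ (q + 1) := by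
  have hξ' : ξ⁻¹ ^ (q + 1) = 1 := by rw [inv_pow, hξ, inv_one]
  rw [shr_norm_one_sub hF hξ', shr_norm_one_sub hF hξ, Units.val_inv_eq_inv_val, inv_inv, mul_comm]

/-- the main computation of SHRINK -/
lemma shrink_main (hF : Fintype.card F = q ^ 2) (hq0 : q ≠ 0) (M : Subgroup (GL (Fin n) F))
    (hH : ContainsMonoU n q M) (i : Fin n) (z : Fin n → F) (hzi : z i = 0)
    (hzz : Cfsg.hermForm n F q z z = 0) (hzS : z ∈ Sset hF M)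
    (l l' : Fin n) (hli : l ≠ i) (hl'i : l' ≠ i) (hll' : l ≠ l') (hzl : z l ≠ 0) (hzl' : z l' ≠ 0)
    (ξ₁ ξ₂ : Fˣ) (h1 : ξ₁ ^ (q + 1) = 1) (h2 : ξ₂ ^ (q + 1) = 1) (hξ₁ : ξ₁ ≠ 1) (hξ₂ : ξ₂ ≠ 1)
    (hR : z l ^ (q + 1) * (1 - (ξ₁ : F)) ^ (q + 1) +
      z l' ^ (q + 1) * (1 - (ξ₂ : F)) ^ (q + 1) = 0)
    (hφ : z l ^ (q + 1) * ((ξ₁ : F)⁻¹ - 1) + z l' ^ (q + 1) * ((ξ₂ : F)⁻¹ - 1) ≠ 0) :
    ∃ (a b : Fin n) (α β : F), a ≠ b ∧ α ≠ 0 ∧ β ≠ 0 ∧ α ^ (q + 1) + β ^ (q + 1) = 0 ∧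
      w2 a b α β ∈ Sset hF M := by
  have hU := herm_unitary (n := n) hF
  have hu1 : (ξ₁ : F) ≠ 1 := fun h => hξ₁ (Units.ext h)
  have hu2 : (ξ₂ : F) ≠ 1 := fun h => hξ₂ (Units.ext h)
  have hα0 : z l * (1 - (ξ₁ : F)) ≠ 0 := mul_ne_zero hzl (sub_ne_zero.mpr (Ne.symm hu1))
  have hβ0 : z l' * (1 - (ξ₂ : F)) ≠ 0 := mul_ne_zero hzl' (sub_ne_zero.mpr (Ne.symm hu2))
  refine ⟨l, l', z l * (1 - (ξ₁ : F)), z l' * (1 - (ξ₂ : F)), hll', hα0, hβ0, ?_, ?_⟩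
  · rw [mul_pow, mul_pow]
    exact hR
  -- the torus element
  have hdM : dg (tcc l i ξ₁) * dg (tcc l' i ξ₂) ∈ M :=
    M.mul_mem (dg_tcc_mem_M hH hli h1) (dg_tcc_mem_M hH hl'i h2)
  have hdG : (dg (tcc l i ξ₁) * dg (tcc l' i ξ₂) : GL (Fin n) F) ∈ Cfsg.GU n F q :=
    (Cfsg.GU n F q).mul_mem (dg_tcc_mem hli h1).1 (dg_tcc_mem hl'i h2).1
  have hdz : ((dg (tcc l i ξ₁) * dg (tcc l' i ξ₂) : GL (Fin n) F) : Matrix (Fin n) (Fin n) F) *ᵥ z =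
      z - w2 l l' (z l * (1 - (ξ₁ : F))) (z l' * (1 - (ξ₂ : F))) := by
    rw [Units.val_mul, ← Matrix.mulVec_mulVec, dg_tcc_mulVec hl'i, dg_tcc_mulVec hli]
    ext x
    simp only [Pi.sub_apply]
    by_cases hx1 : x = l
    · rw [hx1, if_pos rfl, if_neg hll', if_neg hli, w2_apply_left hll']
      ring
    · rw [if_neg hx1]
      by_cases hx2 : x = i
      · rw [hx2, if_pos rfl, if_neg (Ne.symm hl'i), if_pos rfl, hzi,
          w2_apply_off (Ne.symm hli) (Ne.symm hl'i)]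
        ring
      · rw [if_neg hx2]
        by_cases hx3 : x = l'
        · rw [hx3, if_pos rfl, w2_apply_right hll']
          ring
        · rw [if_neg hx3, if_neg hx2, w2_apply_off hx1 hx3, sub_zero]
  have hdzS : z - w2 l l' (z l * (1 - (ξ₁ : F))) (z l' * (1 - (ξ₂ : F))) ∈ Sset hF M := by
    rw [← hdz]
    exact Sset_mulVec_mem hF hdM hdG hzS
  have hiso : Cfsg.hermForm n F q
      (z - w2 l l' (z l * (1 - (ξ₁ : F))) (z l' * (1 - (ξ₂ : F))))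
      (z - w2 l l' (z l * (1 - (ξ₁ : F))) (z l' * (1 - (ξ₂ : F)))) = 0 := by
    rw [← hdz, mem_GU.mp hdG, hzz]
  have hzw : Cfsg.hermForm n F q z
      (z - w2 l l' (z l * (1 - (ξ₁ : F))) (z l' * (1 - (ξ₂ : F)))) =
      z l ^ (q + 1) * ((ξ₁ : F)⁻¹ - 1) + z l' ^ (q + 1) * ((ξ₂ : F)⁻¹ - 1) := by
    rw [u_sub_right hU, hzz, zero_sub, herm_w2 hq0 hll']
    have e1 : (z l * (1 - (ξ₁ : F))) ^ q = z l ^ q * (1 - (ξ₁ : F)⁻¹) := by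
      rw [← frobQ_apply hF, map_mul, map_sub, map_one, shr_unit_conj hF h1, frobQ_apply]
    have e2 : (z l' * (1 - (ξ₂ : F))) ^ q = z l' ^ q * (1 - (ξ₂ : F)⁻¹) := by
      rw [← frobQ_apply hF, map_mul, map_sub, map_one, shr_unit_conj hF h2, frobQ_apply]
    rw [e1, e2, pow_succ, pow_succ]
    ring
  -- `φ` is skew
  have hskew : frobQ hF (z l ^ (q + 1) * ((ξ₁ : F)⁻¹ - 1) + z l' ^ (q + 1) * ((ξ₂ : F)⁻¹ - 1)) =
      -(z l ^ (q + 1) * ((ξ₁ : F)⁻¹ - 1) + z l' ^ (q + 1) * ((ξ₂ : F)⁻¹ - 1)) := by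
    rw [map_add, map_mul, map_mul, map_sub, map_sub, map_one, map_inv₀, map_inv₀,
      shr_unit_conj hF h1, shr_unit_conj hF h2, inv_inv, inv_inv, shr_frob_norm, shr_frob_norm]
    rw [shr_norm_one_sub hF h1, shr_norm_one_sub hF h2] at hR
    have k1 : (ξ₁ : F) * (ξ₁ : F)⁻¹ = 1 := mul_inv_cancel₀ (Units.ne_zero ξ₁)
    have k2 : (ξ₂ : F) * (ξ₂ : F)⁻¹ = 1 := mul_inv_cancel₀ (Units.ne_zero ξ₂)
    linear_combination (-1 : F) * hR + (z l ^ (q + 1)) * k1 + (z l' ^ (q + 1)) * k2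
  have hc : frobQ hF (-(z l ^ (q + 1) * ((ξ₁ : F)⁻¹ - 1) + z l' ^ (q + 1) * ((ξ₂ : F)⁻¹ - 1))⁻¹) =
      - -(z l ^ (q + 1) * ((ξ₁ : F)⁻¹ - 1) + z l' ^ (q + 1) * ((ξ₂ : F)⁻¹ - 1))⁻¹ := by
    rw [map_neg, map_inv₀, hskew, inv_neg]
  have h3 := Sset_tv hF hzS hdzS hiso hc
  rw [hzw, neg_mul, inv_mul_cancel₀ hφ, neg_one_smul] at h3
  convert h3 using 1
  abel

/-- SHRINK with the pigeonhole statements PIG-a, PIG-c as hypotheses. -/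
theorem exists_weight_two_core (hF : Fintype.card F = q ^ 2) (hq : 3 ≤ q)
    (hPa : ∀ y : F, y ≠ 0 → y ^ q = y → ∃ ξ₁ ξ₂ : Fˣ, ξ₁ ^ (q + 1) = 1 ∧ ξ₂ ^ (q + 1) = 1 ∧
      ξ₁ ≠ 1 ∧ ξ₂ ≠ 1 ∧ (1 - (ξ₁ : F)) ^ (q + 1) = y * (1 - (ξ₂ : F)) ^ (q + 1))
    (hPc : ∃ ξ : Fˣ, ξ ^ (q + 1) = 1 ∧ ξ ^ 2 ≠ 1)
    (M : Subgroup (GL (Fin n) F))
    (hM : M ≤ Cfsg.GU n F q ⊓ Cfsg.Geo.specialLinear (Fin n) F) (hH : ContainsMonoU n q M)
    (i : Fin n) (z : Fin n → F) (hzi : z i = 0) (hz0 : z ≠ 0)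
    (hzz : Cfsg.hermForm n F q z z = 0) (hzS : z ∈ Sset hF M) :
    ∃ (a b : Fin n) (α β : F), a ≠ b ∧ α ≠ 0 ∧ β ≠ 0 ∧ α ^ (q + 1) + β ^ (q + 1) = 0 ∧
      w2 a b α β ∈ Sset hF M := by
  have hq0 : q ≠ 0 := by omega
  obtain ⟨l, hzl⟩ : ∃ l, z l ≠ 0 := by
    by_contra h
    push Not at h
    exact hz0 (funext h)
  have hli : l ≠ i := fun h => hzl (h ▸ hzi)
  obtain ⟨l', hl'l, hzl'⟩ : ∃ l', l' ≠ l ∧ z l' ≠ 0 := by
    by_contra h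
    push Not at h
    rw [herm_self, Finset.sum_eq_single l (fun x _ hx => by rw [h x hx, zero_pow (by omega)])
      (fun h => absurd (Finset.mem_univ l) h)] at hzz
    exact hzl ((pow_eq_zero_iff (by omega)).mp hzz)
  have hl'i : l' ≠ i := fun h => hzl' (h ▸ hzi)
  have hll' : l ≠ l' := Ne.symm hl'l
  have hA0 : z l ^ (q + 1) ≠ 0 := pow_ne_zero _ hzl
  have hB0 : z l' ^ (q + 1) ≠ 0 := pow_ne_zero _ hzl'
  have hy0 : -(z l' ^ (q + 1)) / z l ^ (q + 1) ≠ 0 := div_ne_zero (neg_ne_zero.mpr hB0) hA0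
  have hyq : (-(z l' ^ (q + 1)) / z l ^ (q + 1)) ^ q = -(z l' ^ (q + 1)) / z l ^ (q + 1) := by
    rw [← frobQ_apply hF, map_div₀, map_neg, shr_frob_norm, shr_frob_norm]
  obtain ⟨ξ₁, ξ₂, h1, h2, hξ₁, hξ₂, hrel⟩ := hPa _ hy0 hyq
  have hR : z l ^ (q + 1) * (1 - (ξ₁ : F)) ^ (q + 1) +
      z l' ^ (q + 1) * (1 - (ξ₂ : F)) ^ (q + 1) = 0 := by
    rw [hrel]
    field_simp
    ring
  by_cases hφ : z l ^ (q + 1) * ((ξ₁ : F)⁻¹ - 1) + z l' ^ (q + 1) * ((ξ₂ : F)⁻¹ - 1) = 0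
  swap
  · exact shrink_main hF hq0 M hH i z hzi hzz hzS l l' hli hl'i hll' hzl hzl' ξ₁ ξ₂ h1 h2 hξ₁ hξ₂
      hR hφ
  have k1 : (ξ₁ : F) * (ξ₁ : F)⁻¹ = 1 := mul_inv_cancel₀ (Units.ne_zero ξ₁)
  have k2 : (ξ₂ : F) * (ξ₂ : F)⁻¹ = 1 := mul_inv_cancel₀ (Units.ne_zero ξ₂)
  by_cases hs1 : (ξ₁ : F) ^ 2 = 1
  swap
  · -- replace `ξ₁` by its inverse
    refine shrink_main hF hq0 M hH i z hzi hzz hzS l l' hli hl'i hll' hzl hzl' ξ₁⁻¹ ξ₂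
      (by rw [inv_pow, h1, inv_one]) h2 (inv_ne_one.mpr hξ₁) hξ₂ ?_ ?_
    · rw [shr_norm_one_sub_inv hF h1]
      exact hR
    · rw [Units.val_inv_eq_inv_val, inv_inv]
      intro h
      have h3 : z l ^ (q + 1) * ((ξ₁ : F) - (ξ₁ : F)⁻¹) = 0 := by linear_combination h - hφ
      rcases mul_eq_zero.mp h3 with h4 | h4
      · exact hA0 h4
      · apply hs1
        have h5 : (ξ₁ : F) = (ξ₁ : F)⁻¹ := sub_eq_zero.mp h4
        rw [sq]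
        nth_rw 2 [h5]
        exact k1
  by_cases hs2 : (ξ₂ : F) ^ 2 = 1
  swap
  · refine shrink_main hF hq0 M hH i z hzi hzz hzS l l' hli hl'i hll' hzl hzl' ξ₁ ξ₂⁻¹
      h1 (by rw [inv_pow, h2, inv_one]) hξ₁ (inv_ne_one.mpr hξ₂) ?_ ?_
    · rw [shr_norm_one_sub_inv hF h2]
      exact hR
    · rw [Units.val_inv_eq_inv_val, inv_inv]
      intro h
      have h3 : z l' ^ (q + 1) * ((ξ₂ : F) - (ξ₂ : F)⁻¹) = 0 := by linear_combination h - hφ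
      rcases mul_eq_zero.mp h3 with h4 | h4
      · exact hB0 h4
      · apply hs2
        have h5 : (ξ₂ : F) = (ξ₂ : F)⁻¹ := sub_eq_zero.mp h4
        rw [sq]
        nth_rw 2 [h5]
        exact k2
  -- `ξ₁ = ξ₂ = -1`
  have hu1 : (ξ₁ : F) ≠ 1 := fun h => hξ₁ (Units.ext h)
  have hu2 : (ξ₂ : F) ≠ 1 := fun h => hξ₂ (Units.ext h)
  have hm1 : (ξ₁ : F) = -1 := by
    have h3 : ((ξ₁ : F) - 1) * ((ξ₁ : F) + 1) = 0 := by linear_combination hs1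
    rcases mul_eq_zero.mp h3 with h4 | h4
    · exact absurd (sub_eq_zero.mp h4) hu1
    · linear_combination h4
  have hm2 : (ξ₂ : F) = -1 := by
    have h3 : ((ξ₂ : F) - 1) * ((ξ₂ : F) + 1) = 0 := by linear_combination hs2
    rcases mul_eq_zero.mp h3 with h4 | h4
    · exact absurd (sub_eq_zero.mp h4) hu2
    · linear_combination h4
  have h20 : (2 : F) ≠ 0 := by
    intro h
    apply hu1
    rw [hm1]
    linear_combination (-1 : F) * h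
  have hAB : z l ^ (q + 1) + z l' ^ (q + 1) = 0 := by
    rw [hm1, hm2] at hφ
    have h3 : (2 : F) * (z l ^ (q + 1) + z l' ^ (q + 1)) = 0 := by
      have h4 : ((-1 : F))⁻¹ = -1 := by rw [inv_neg, inv_one]
      rw [h4] at hφ
      linear_combination (-1 : F) * hφ
    exact (mul_eq_zero.mp h3).resolve_left h20
  obtain ⟨ζ, hζ, hζ2⟩ := hPc
  have hζ1 : ζ ≠ 1 := by
    intro h
    apply hζ2
    rw [h, one_pow]
  have kζ : (ζ : F) * (ζ : F)⁻¹ = 1 := mul_inv_cancel₀ (Units.ne_zero ζ)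
  refine shrink_main hF hq0 M hH i z hzi hzz hzS l l' hli hl'i hll' hzl hzl' ζ ζ⁻¹
    hζ (by rw [inv_pow, hζ, inv_one]) hζ1 (inv_ne_one.mpr hζ1) ?_ ?_
  · rw [shr_norm_one_sub_inv hF hζ]
    linear_combination ((1 - (ζ : F)) ^ (q + 1)) * hAB
  · rw [Units.val_inv_eq_inv_val, inv_inv]
    intro h
    have h3 : z l ^ (q + 1) * ((ζ : F)⁻¹ - (ζ : F)) = 0 := by
      linear_combination h - ((ζ : F) - 1) * hAB
    rcases mul_eq_zero.mp h3 with h4 | h4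
    · exact hA0 h4
    · apply hζ2
      apply Units.ext
      rw [Units.val_pow_eq_pow_val, Units.val_one, sq]
      have h5 : (ζ : F)⁻¹ = (ζ : F) := sub_eq_zero.mp h4
      nth_rw 2 [← h5]
      exact kζ

end Cfsg.Agent.Lib.Helper11.UNdLeaf
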