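import Mathlib
import Cfsg.Agent.Lib.Helper18.UNdDefs
import Cfsg.Agent.Lib.Helper28.UNdPIG
import Cfsg.Agent.Lib.Helper11.UNdSHRINKcore

/-!
S5655 (helper18's ND market), leaf SHRINK with the exact signature of notes/S5655_nd_leaves.lean:
`exists_weight_two_core` + helper28's PIG-a, PIG-c.
-/

set_option autoImplicit false
set_option linter.unusedSectionVars false
set_option linter.unusedVariables false

namespace Cfsg.Agent.Lib.Helper11.UNdLeaf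
open Cfsg Matrix Cfsg.Agent.Lib.Helper11.Mono Cfsg.Agent.Lib.Helper15.MonoLeaf
  Cfsg.Agent.Lib.Helper2.MonoLeaf Cfsg.Agent.Lib.Helper5.SUMax Cfsg.Agent.Lib.Helper5.HermBridge
  Cfsg.Agent.Lib.Helper5.UForm Cfsg.Agent.Lib.Helper18.UNd

variable {F : Type*} [Field F] [Fintype F] {n q : ℕ}

/-- SHRINK. -/
theorem exists_weight_two (hF : Fintype.card F = q ^ 2) (hq : 3 ≤ q) (M : Subgroup (GL (Fin n) F))
    (hM : M ≤ Cfsg.GU n F q ⊓ Cfsg.Geo.specialLinear (Fin n) F) (hH : ContainsMonoU n q M)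
    (i : Fin n) (z : Fin n → F) (hzi : z i = 0) (hz0 : z ≠ 0)
    (hzz : Cfsg.hermForm n F q z z = 0) (hzS : z ∈ Sset hF M) :
    ∃ (a b : Fin n) (α β : F), a ≠ b ∧ α ≠ 0 ∧ β ≠ 0 ∧ α ^ (q + 1) + β ^ (q + 1) = 0 ∧
      w2 a b α β ∈ Sset hF M :=
  exists_weight_two_core hF hq
    (fun y hy0 hy => Cfsg.Agent.Lib.Helper28.UNdLeaf.exists_norm_ratio hF y hy0 hy)
    (Cfsg.Agent.Lib.Helper28.UNdLeaf.exists_normOne_sq_ne hF hq) M hM hH i z hzi hz0 hzz hzS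

end Cfsg.Agent.Lib.Helper11.UNdLeaf
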