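import Mathlib
import Cfsg.Agent.Lib.Helper5.UOGDefs
import Cfsg.Agent.Lib.Helper5.UOGDefs2
import Cfsg.Agent.Lib.Helper5.UOGDefs3
import Cfsg.Agent.Lib.Helper5.UOGBase
import Cfsg.Agent.Lib.Helper22.UOGC

/-!
helper11: S5681 / S5709 part (G) (helper5's growth market), leaf (L1) `P2_of_hasL`:
branch (L+) gives `P2` at one pair.  `_core` form: the two element leaves `IA_of_rootM`, `exists_actA` are hypotheses.
-/

set_option autoImplicit false
set_option linter.unusedSectionVars false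
set_option linter.unusedVariables false

namespace Cfsg.Agent.Lib.Helper11.UOGLeaf
open Matrix QuadraticMap Module
open Cfsg.Agent.Lib.Helper25.Tens Cfsg.Agent.Lib.Helper2.SOT Cfsg.Agent.Lib.Helper7.OTT
  Cfsg.Agent.Lib.Helper25.CD Cfsg.Agent.Lib.Helper5.NSMax Cfsg.Agent.Lib.Helper5.PairMax
  Cfsg.Agent.Lib.Helper5.TSMax Cfsg.Agent.Lib.Helper5.NDMax Cfsg.Agent.Lib.Helper5.UOG
open scoped Kronecker

variable {F : Type*} [Field F] [Fintype F] {a b : ℕ} {G₁ : Matrix (Fin a) (Fin a) F}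
  {G₂ : Matrix (Fin b) (Fin b) F} {M : Subgroup (GL (Idx a b) F)}

/-- (L1), core form -/
theorem P2_of_hasL_core (h : GCtx G₁ G₂ M) (hL : HasL G₁ G₂ M)
    (hIA : ∀ {u v : Idx a b → F}, QV G₁ G₂ u = 0 → QV G₁ G₂ v = 0 →
      polar (QV G₁ G₂) u v = 0 → (∀ c : F, InM M (rootM (G₁ ⊗ₖ G₂) u v c)) →
      IA (QV G₁ G₂) M u v)
    (hactA : ∀ {s v : Fin a → F}, fB G₁ s s = 0 → fB G₁ s v = 0 →
      ∃ g ∈ MI (QV G₁ G₂) M, ∀ (x : Fin a → F) (y : Fin b → F),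
        toOG (QV G₁ G₂) g (pt x y) = pt (egen (QG G₁) s v x) y) :
    ∃ x y, Sg G₁ x ∧ Sg G₂ y ∧ P2 G₁ G₂ M x y := by
  obtain ⟨d, y₀, hd, hy0, hy, hroot⟩ := hL
  have h2 := h.two
  have hpol := fun x x' y y' =>
    Cfsg.Agent.Lib.Helper5.UOGLeaf.pol (G₁ := G₁) (G₂ := G₂) h.symA h.symB h2 x x' y y'
  have hQpt : ∀ x : Fin a → F, QV G₁ G₂ (pt x y₀) = 0 := by
    intro x; rw [Cfsg.Agent.Lib.Helper5.UOGLeaf.QV_pt, hy, mul_zero, mul_zero]
  have hpolpt : ∀ x x' : Fin a → F, polar (QV G₁ G₂) (pt x y₀) (pt x' y₀) = 0 := by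
    intro x x'; rw [hpol, hy, mul_zero]
  -- step 1: `A ⊗ y₀ ⊆ A(d y₀)`
  have h1 : ∀ x' : Fin a → F, IA (QV G₁ G₂) M (pt d y₀) (pt x' y₀) := by
    intro x'
    have he : fB G₁ d (x' - (fB G₁ d x' / fB G₁ d d) • d) = 0 := by
      rw [sub_eq_add_neg, ← neg_smul, fB_add_right, fB_smul_right]; field_simp; ring
    have e1 : IA (QV G₁ G₂) M (pt d y₀) (pt (x' - (fB G₁ d x' / fB G₁ d d) • d) y₀) :=
      hIA (hQpt d) (hQpt _) (hpolpt _ _) (hroot _ he)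
    have e2 : IA (QV G₁ G₂) M (pt d y₀) (pt d y₀) :=
      Cfsg.Agent.Lib.Helper22.UOGLeaf.InA_self (hQpt d)
    have e3 := InA.add (hQpt d) (hpolpt _ _)
      (by rw [polar_smul_right, hpolpt, smul_zero]) e1 (e2.smul (fB G₁ d x' / fB G₁ d d))
    have e4 : pt (x' - (fB G₁ d x' / fB G₁ d d) • d) y₀ + (fB G₁ d x' / fB G₁ d d) • pt d y₀
        = pt x' y₀ := by
      rw [← pt_smul_left, ← pt_add_left, sub_add_cancel]
    rw [e4] at e3
    exact e3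
  -- step 2: a singular `x` with `f(x,d) ≠ 0`
  have hndA := Cfsg.Agent.Lib.Helper5.UOGLeaf.nd_QG h.symA h.detA h2
  have hd0 : d ≠ 0 := by
    rintro rfl
    apply hd
    simp [fB]
  obtain ⟨x, -, hQx, hdx⟩ := Cfsg.Agent.Lib.Helper25.OGeom.exists_sing_not_perp (QG G₁)
    (W := ⊤) (Cfsg.Agent.Lib.Helper15.ndOn_top (QG G₁) hndA)
    (by rw [finrank_top, Module.finrank_fintype_fun_eq_card, Fintype.card_fin]; exact h.ha)
    (a := d) Submodule.mem_top hd0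
  have hpA := fun u v => Cfsg.Agent.Lib.Helper5.UOGLeaf.polar_QG_fB (G := G₁) h.symA h2 u v
  have hxx : fB G₁ x x = 0 := by
    have := Cfsg.Agent.Lib.Helper5.UOGLeaf.QG_eq_fB G₁ x
    rw [hQx] at this
    rcases mul_eq_zero.1 this.symm with h0 | h0
    · exact absurd h0 (inv_ne_zero h2)
    · exact h0
  have hx0 : x ≠ 0 := by
    rintro rfl
    apply hdx
    simp
  have hxd : polar (QG G₁) x d ≠ 0 := by rwa [polar_comm]
  -- `d y₀ ∈ A(x y₀)`
  have h3 : IA (QV G₁ G₂) M (pt x y₀) (pt d y₀) :=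
    Cfsg.Agent.Lib.Helper22.UOGLeaf.InA_symm (hQpt d) (hQpt x) (hpolpt _ _) (h1 x)
  have hxself : IA (QV G₁ G₂) M (pt x y₀) (pt x y₀) :=
    Cfsg.Agent.Lib.Helper22.UOGLeaf.InA_self (hQpt x)
  -- closure of `X := {x'' : x'' y₀ ∈ A(x y₀)}`
  have hadd : ∀ p q : Fin a → F, IA (QV G₁ G₂) M (pt x y₀) (pt p y₀) →
      IA (QV G₁ G₂) M (pt x y₀) (pt q y₀) → IA (QV G₁ G₂) M (pt x y₀) (pt (p + q) y₀) := by
    intro p q hp hq
    rw [pt_add_left]
    exact InA.add (hQpt x) (hpolpt _ _) (hpolpt _ _) hp hq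
  have hsmul : ∀ (t : F) (p : Fin a → F), IA (QV G₁ G₂) M (pt x y₀) (pt p y₀) →
      IA (QV G₁ G₂) M (pt x y₀) (pt (t • p) y₀) := by
    intro t p hp
    rw [pt_smul_left]
    exact hp.smul t
  -- invariance
  have hinv : ∀ v : Fin a → F, polar (QG G₁) x v = 0 → ∀ p : Fin a → F,
      IA (QV G₁ G₂) M (pt x y₀) (pt p y₀) →
      IA (QV G₁ G₂) M (pt x y₀) (pt (egen (QG G₁) x v p) y₀) := by
    intro v hv p hp
    obtain ⟨g, hg, hgx⟩ := hactA hxx (by rw [← hpA]; exact hv)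
    have := InA.conj hg hp
    rw [hgx, hgx, egen_fix (QG G₁) (by rw [hpA]; exact hxx) (by rw [polar_comm]; exact hv)]
      at this
    exact this
  -- `x^⊥ ⊆ X`
  have hperp : ∀ v : Fin a → F, polar (QG G₁) x v = 0 →
      IA (QV G₁ G₂) M (pt x y₀) (pt v y₀) := by
    intro v hv
    have e1 := hinv v hv d h3
    -- `egen x v d = d + f(x,d) v - (f(v,d) + Q v f(x,d)) x`
    have e2 : v = (polar (QG G₁) x d)⁻¹ • (egen (QG G₁) x v d + (-1 : F) • d +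
        (polar (QG G₁) v d + QG G₁ v * polar (QG G₁) x d) • x) := by
      unfold egen
      rw [smul_add, smul_add]
      match_scalars <;> (try field_simp) <;> (try ring)
    rw [e2]
    exact hsmul _ _ (hadd _ _ (hadd _ _ e1 (hsmul _ _ h3)) (hsmul _ _ hxself))
  refine ⟨x, y₀, ⟨hx0, hxx⟩, ⟨hy0, hy⟩, fun x' => ?_⟩
  have e : x' = (x' - (polar (QG G₁) x x' / polar (QG G₁) x d) • d) +
      (polar (QG G₁) x x' / polar (QG G₁) x d) • d := by
    rw [sub_add_cancel]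
  rw [e]
  refine hadd _ _ (hperp _ ?_) (hsmul _ _ h3)
  rw [polar_sub_right, polar_smul_right, smul_eq_mul, div_mul_cancel₀ _ hxd, sub_self]

end Cfsg.Agent.Lib.Helper11.UOGLeaf
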