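import Mathlib
import Cfsg.Agent.Lib.Helper5.UOGDefs
import Cfsg.Agent.Lib.Helper5.UOGDefs2
import Cfsg.Agent.Lib.Helper5.UOGDefs3
import Cfsg.Agent.Lib.Helper5.UOGBase
import Cfsg.Agent.Lib.Helper10.UOGT
import Cfsg.Agent.Lib.Helper22.UOGC

/-!
helper11: S5681 / S5709 part (G) (helper5's growth market), leaf (S1) `P1'_of_hasS`:
branch (S) gives `P1'` at one pair.  `_core` form: the leaves `IA_of_rootM`, `exists_actB` are hypotheses.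
-/

set_option autoImplicit false
set_option linter.unusedSectionVars false
set_option linter.unusedVariables false

namespace Cfsg.Agent.Lib.Helper11.UOGLeaf
open Matrix QuadraticMap Module
open Cfsg.Agent.Lib.Helper25.Tens Cfsg.Agent.Lib.Helper2.SOT Cfsg.Agent.Lib.Helper7.OTT
  Cfsg.Agent.Lib.Helper25.CD Cfsg.Agent.Lib.Helper5.NSMax Cfsg.Agent.Lib.Helper5.PairMax
  Cfsg.Agent.Lib.Helper5.TSMax Cfsg.Agent.Lib.Helper5.NDMax Cfsg.Agent.Lib.Helper5.UOG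
open scoped Kronecker

variable {F : Type*} [Field F] [Fintype F] {a b : ℕ} {G₁ : Matrix (Fin a) (Fin a) F}
  {G₂ : Matrix (Fin b) (Fin b) F} {M : Subgroup (GL (Idx a b) F)}

/-- (S1), core form -/
theorem P1'_of_hasS_core (h : GCtx G₁ G₂ M) (hS : HasS G₁ G₂ M)
    (hIA : ∀ {u v : Idx a b → F}, QV G₁ G₂ u = 0 → QV G₁ G₂ v = 0 →
      polar (QV G₁ G₂) u v = 0 → (∀ c : F, InM M (rootM (G₁ ⊗ₖ G₂) u v c)) →
      IA (QV G₁ G₂) M u v)
    (hactB : ∀ {s v : Fin b → F}, fB G₂ s s = 0 → fB G₂ s v = 0 →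
      ∃ g ∈ MI (QV G₁ G₂) M, ∀ (x : Fin a → F) (y : Fin b → F),
        toOG (QV G₁ G₂) g (pt x y) = pt x (egen (QG G₂) s v y)) :
    ∃ x y, Sg G₁ x ∧ Sg G₂ y ∧ P1' G₁ G₂ M x y := by
  obtain ⟨x₀, y₀, z₀, hx0, hx, hy0, hy, hz, hyz, hzy, hroot⟩ := hS
  have h2 := h.two
  have hpol := fun x x' y y' =>
    Cfsg.Agent.Lib.Helper5.UOGLeaf.pol (G₁ := G₁) (G₂ := G₂) h.symA h.symB h2 x x' y y'
  have hQpt : ∀ z : Fin b → F, QV G₁ G₂ (pt x₀ z) = 0 := by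
    intro z; rw [Cfsg.Agent.Lib.Helper5.UOGLeaf.QV_pt, hx, zero_mul, mul_zero]
  have hpolpt : ∀ z z' : Fin b → F, polar (QV G₁ G₂) (pt x₀ z) (pt x₀ z') = 0 := by
    intro z z'; rw [hpol, hx, zero_mul]
  have hpB := fun u v => Cfsg.Agent.Lib.Helper5.UOGLeaf.polar_QG_fB (G := G₂) h.symB h2 u v
  have hQB : ∀ u : Fin b → F, fB G₂ u u = 0 → QG G₂ u = 0 := by
    intro u hu
    rw [Cfsg.Agent.Lib.Helper5.UOGLeaf.QG_eq_fB, hu, mul_zero]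
  have hQB' : ∀ u : Fin b → F, QG G₂ u = 0 → fB G₂ u u = 0 := by
    intro u hu
    have := Cfsg.Agent.Lib.Helper5.UOGLeaf.QG_eq_fB G₂ u
    rw [hu] at this
    rcases mul_eq_zero.1 this.symm with h0 | h0
    · exact absurd h0 (inv_ne_zero h2)
    · exact h0
  have hndB := Cfsg.Agent.Lib.Helper5.UOGLeaf.nd_QG h.symB h.detB h2
  -- `Z := {z : x₀ z ∈ A(x₀ y₀)}`
  have hz₀ : IA (QV G₁ G₂) M (pt x₀ y₀) (pt x₀ z₀) :=
    hIA (hQpt _) (hQpt _) (hpolpt _ _) hroot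
  have hy₀ : IA (QV G₁ G₂) M (pt x₀ y₀) (pt x₀ y₀) :=
    Cfsg.Agent.Lib.Helper22.UOGLeaf.InA_self (hQpt y₀)
  have hadd : ∀ p q : Fin b → F, IA (QV G₁ G₂) M (pt x₀ y₀) (pt x₀ p) →
      IA (QV G₁ G₂) M (pt x₀ y₀) (pt x₀ q) → IA (QV G₁ G₂) M (pt x₀ y₀) (pt x₀ (p + q)) := by
    intro p q hp hq
    rw [pt_add_right]
    exact InA.add (hQpt y₀) (hpolpt _ _) (hpolpt _ _) hp hq
  have hsmul : ∀ (t : F) (p : Fin b → F), IA (QV G₁ G₂) M (pt x₀ y₀) (pt x₀ p) →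
      IA (QV G₁ G₂) M (pt x₀ y₀) (pt x₀ (t • p)) := by
    intro t p hp
    rw [pt_smul_right]
    exact hp.smul t
  -- invariance under `1 ⊗ egen s w`, `s, w ⊥ y₀`
  have hinv : ∀ s w : Fin b → F, QG G₂ s = 0 → polar (QG G₂) s w = 0 →
      polar (QG G₂) s y₀ = 0 → polar (QG G₂) w y₀ = 0 → ∀ p : Fin b → F,
      IA (QV G₁ G₂) M (pt x₀ y₀) (pt x₀ p) →
      IA (QV G₁ G₂) M (pt x₀ y₀) (pt x₀ (egen (QG G₂) s w p)) := by
    intro s w hs hsw hsy hwy p hp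
    obtain ⟨g, hg, hgx⟩ := hactB (hQB' s hs) (by rw [← hpB]; exact hsw)
    have := InA.conj hg hp
    rw [hgx, hgx, egen_fix (QG G₂) hsy hwy] at this
    exact this
  -- the singular vector `s`
  have hQy : QG G₂ y₀ = 0 := hQB y₀ hy
  have hQz : QG G₂ z₀ = 0 := hQB z₀ hz
  have hpyz : polar (QG G₂) y₀ z₀ = 0 := by rw [hpB]; exact hyz
  obtain ⟨ys, hQys, hyys⟩ := Cfsg.Agent.Lib.Helper25.Fam.exists_sing_partner (QG G₂) hndB hy0 hQy
  obtain ⟨z', hz'⟩ : ∃ z', z' = z₀ - polar (QG G₂) ys z₀ • y₀ := ⟨_, rfl⟩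
  have hz'0 : z' ≠ 0 := by
    intro h0
    rw [hz', sub_eq_zero] at h0
    exact hzy _ h0
  have hQz' : QG G₂ z' = 0 := by
    rw [hz', sub_eq_add_neg, ← neg_smul, Cfsg.Agent.Lib.Helper25.MaxTS.Q_add_smul, hQz, hQy,
      polar_comm (QG G₂) z₀ y₀, hpyz]
    ring
  have hyz' : polar (QG G₂) y₀ z' = 0 := by
    rw [hz', polar_sub_right, polar_smul_right, hpyz, Cfsg.Agent.Lib.Helper25.MaxTS.polar_self,
      hQy]
    simp
  have hysz' : polar (QG G₂) ys z' = 0 := by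
    rw [hz', polar_sub_right, polar_smul_right, polar_comm (QG G₂) ys y₀, hyys]
    simp
  obtain ⟨s, hQs, hz's, hys, hyss⟩ := Cfsg.Agent.Lib.Helper25.Fam.exists_sing_partner_perp
    (QG G₂) hndB hQy hQys hyys hz'0 hQz' hyz' hysz'
  have hsy : polar (QG G₂) s y₀ = 0 := by rw [polar_comm]; exact hys
  have hsz : polar (QG G₂) s z₀ = 1 := by
    have e : z₀ = z' + polar (QG G₂) ys z₀ • y₀ := by rw [hz', sub_add_cancel]
    rw [e, polar_add_right, polar_smul_right, hsy, polar_comm (QG G₂) s z', hz's]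
    simp
  obtain ⟨w₀, hyw₀, hsw₀, hQw₀⟩ := Cfsg.Agent.Lib.Helper10.UOGLeaf.exists_nonsing_perp_two
    (Q := QG G₂) hndB h2 (by rw [Fintype.card_fin]; exact h.hb) y₀ s
  -- `s ∈ Z`
  have hsZ : IA (QV G₁ G₂) M (pt x₀ y₀) (pt x₀ s) := by
    have e1 := hinv s w₀ hQs hsw₀ hsy (by rw [polar_comm]; exact hyw₀) z₀ hz₀
    have e2 := hinv s (-w₀) hQs (by rw [polar_neg_right, hsw₀, neg_zero]) hsy
      (by rw [polar_neg_left, polar_comm, hyw₀, neg_zero]) z₀ hz₀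
    have e3 : s = (-(2 * QG G₂ w₀))⁻¹ • (egen (QG G₂) s w₀ z₀ + egen (QG G₂) s (-w₀) z₀ +
        (-2 : F) • z₀) := by
      unfold egen
      rw [QuadraticMap.map_neg, polar_neg_left, hsz]
      match_scalars <;> (try field_simp) <;> (try ring)
    rw [e3]
    exact hsmul _ _ (hadd _ _ (hadd _ _ e1 e2) (hsmul _ _ hz₀))
  -- `(y₀, s)^⊥ ⊆ Z`
  have hperp : ∀ w : Fin b → F, polar (QG G₂) s w = 0 → polar (QG G₂) w y₀ = 0 →
      IA (QV G₁ G₂) M (pt x₀ y₀) (pt x₀ w) := by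
    intro w hsw hwy
    have e1 := hinv s w hQs hsw hsy hwy z₀ hz₀
    have e2 : w = egen (QG G₂) s w z₀ + (-1 : F) • z₀ +
        (polar (QG G₂) w z₀ + QG G₂ w) • s := by
      unfold egen
      rw [hsz]
      match_scalars <;> (try field_simp) <;> (try ring)
    rw [e2]
    exact hadd _ _ (hadd _ _ e1 (hsmul _ _ hz₀)) (hsmul _ _ hsZ)
  refine ⟨x₀, y₀, ⟨hx0, hx⟩, ⟨hy0, hy⟩, fun z hz => ?_⟩
  have e : z = (z - polar (QG G₂) s z • z₀) + polar (QG G₂) s z • z₀ := by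
    rw [sub_add_cancel]
  rw [e]
  refine hadd _ _ (hperp _ ?_ ?_) (hsmul _ _ hz₀)
  · rw [polar_sub_right, polar_smul_right, hsz, smul_eq_mul, mul_one, sub_self]
  · rw [polar_sub_left, polar_smul_left, polar_comm (QG G₂) z₀ y₀, hpyz, polar_comm (QG G₂) z y₀,
      hpB, hz]
    simp

end Cfsg.Agent.Lib.Helper11.UOGLeaf
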