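import Mathlib
import Cfsg.Agent.Lib.Helper11.UOGL1
import Cfsg.Agent.Lib.Helper11.UOGS1
import Cfsg.Agent.Lib.Helper12.UOGRE

/-!
helper11: S5681 / S5709 part (G) (helper5's growth market): the leaves (S1) `P1'_of_hasS` and (L1) `P2_of_hasL`
in the EXACT form of notes/S5681_G_leaves.lean (cores: `UOGS1`, `UOGL1`; element leaves: helper12's `UOGRE`).
-/

set_option autoImplicit false
set_option linter.unusedSectionVars false
set_option linter.unusedVariables false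

namespace Cfsg.Agent.Lib.Helper11.UOGLeaf
open Matrix QuadraticMap Module
open Cfsg.Agent.Lib.Helper25.Tens Cfsg.Agent.Lib.Helper2.SOT Cfsg.Agent.Lib.Helper7.OTT
  Cfsg.Agent.Lib.Helper25.CD Cfsg.Agent.Lib.Helper5.NSMax Cfsg.Agent.Lib.Helper5.PairMax
  Cfsg.Agent.Lib.Helper5.TSMax Cfsg.Agent.Lib.Helper5.NDMax Cfsg.Agent.Lib.Helper5.UOG
open scoped Kronecker

variable {F : Type*} [Field F] [Fintype F] {a b : ℕ} {G₁ : Matrix (Fin a) (Fin a) F}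
  {G₂ : Matrix (Fin b) (Fin b) F} {M : Subgroup (GL (Idx a b) F)}

/-- (S1) branch (S) gives `P1'` at one pair. -/
theorem P1'_of_hasS (h : GCtx G₁ G₂ M) (hS : HasS G₁ G₂ M) :
    ∃ x y, Sg G₁ x ∧ Sg G₂ y ∧ P1' G₁ G₂ M x y :=
  P1'_of_hasS_core h hS
    (fun hu hv huv hr => Cfsg.Agent.Lib.Helper12.UOGLeaf.IA_of_rootM h hu hv huv hr)
    (fun hs hsv => Cfsg.Agent.Lib.Helper12.UOGLeaf.exists_actB h hs hsv)

/-- (L1) branch (L+) gives `P2` at one pair. -/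
theorem P2_of_hasL (h : GCtx G₁ G₂ M) (hL : HasL G₁ G₂ M) :
    ∃ x y, Sg G₁ x ∧ Sg G₂ y ∧ P2 G₁ G₂ M x y :=
  P2_of_hasL_core h hL
    (fun hu hv huv hr => Cfsg.Agent.Lib.Helper12.UOGLeaf.IA_of_rootM h hu hv huv hr)
    (fun hs hsv => Cfsg.Agent.Lib.Helper12.UOGLeaf.exists_actA h hs hsv)

end Cfsg.Agent.Lib.Helper11.UOGLeaf
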