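import Mathlib
import Cfsg.Agent.Lib.Helper5.SUMax
import Cfsg.Agent.Lib.Helper11.MonoDefs
import Cfsg.Agent.Lib.Helper11.MonoBasic

/-!
S5655, case `k = 1`, `q = 2` (`F = F_4`), standard frame: basic facts.
Field facts for `|F| = 4`, the weight of a vector, `hermForm v v = weight`, monomial unitary matrices
(diagonal, permutation), closure properties of `Sset hF L` for a subgroup `L` containing the monomial
subgroup of `GU_n(2) ⊓ SL_n`.
-/

set_option autoImplicit false
set_option linter.unusedSectionVars false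
set_option linter.unusedVariables false

namespace Cfsg.Agent.Lib.Helper11.UQ2
open Matrix Cfsg.Agent.Lib.Helper11.Mono Cfsg.Agent.Lib.Helper5.SUMax
  Cfsg.Agent.Lib.Helper5.HermBridge

open scoped Classical
noncomputable section

variable {F : Type*} [Field F] [Fintype F] {n : ℕ}

/-! ### the field with four elements -/

lemma two_eq_zero (hF : Fintype.card F = 2 ^ 2) : (2 : F) = 0 := by
  have h4 : ((Fintype.card F : ℕ) : F) = 0 := FiniteField.cast_card_eq_zero F
  rw [hF] at h4
  have h5 : (2 : F) * 2 = 0 := by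
    have : ((2 ^ 2 : ℕ) : F) = (2 : F) * 2 := by push_cast; ring
    rw [← this]; exact h4
  rcases mul_eq_zero.mp h5 with h | h <;> exact h

lemma add_self (hF : Fintype.card F = 2 ^ 2) (x : F) : x + x = 0 := by
  have := two_eq_zero hF
  linear_combination x * this

lemma neg_eq (hF : Fintype.card F = 2 ^ 2) (x : F) : -x = x := by
  have := add_self hF x
  linear_combination -this

lemma cube_eq_one (hF : Fintype.card F = 2 ^ 2) {x : F} (hx : x ≠ 0) : x ^ 3 = 1 := by
  have := FiniteField.pow_card_sub_one_eq_one x hx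
  rwa [hF] at this

lemma cube_eq (hF : Fintype.card F = 2 ^ 2) (x : F) : x ^ 3 = if x = 0 then 0 else 1 := by
  split_ifs with h
  · rw [h]; ring
  · exact cube_eq_one hF h

/-- a primitive cube root of unity -/
lemma exists_omega (hF : Fintype.card F = 2 ^ 2) :
    ∃ w : F, w ≠ 0 ∧ w ≠ 1 ∧ w ^ 2 + w + 1 = 0 := by
  classical
  have h3 : 2 < Fintype.card F := by rw [hF]; norm_num
  obtain ⟨w, hw0, hw1⟩ : ∃ w : F, w ≠ 0 ∧ w ≠ 1 := by
    by_contra hcon
    push Not at hcon
    have hsub : (Finset.univ : Finset F) ⊆ {0, 1} := by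
      intro x _
      by_cases hx : x = 0
      · rw [hx]; simp
      · rw [hcon x hx]; simp
    have := Finset.card_le_card hsub
    rw [Finset.card_univ] at this
    have h2 : ({0, 1} : Finset F).card ≤ 2 := Finset.card_le_two
    omega
  refine ⟨w, hw0, hw1, ?_⟩
  have h1 := cube_eq_one hF hw0
  have h2 : (w - 1) * (w ^ 2 + w + 1) = 0 := by linear_combination h1
  rcases mul_eq_zero.mp h2 with h | h
  · exact absurd (sub_eq_zero.mp h) hw1
  · exact h

lemma skew_cases (hF : Fintype.card F = 2 ^ 2) {c : F} (hc : frobQ hF c = -c) : c = 0 ∨ c = 1 := by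
  rw [frobQ_apply, neg_eq hF] at hc
  have : c * (c - 1) = 0 := by linear_combination hc
  rcases mul_eq_zero.mp this with h | h
  · exact Or.inl h
  · exact Or.inr (sub_eq_zero.mp h)

lemma skew_one (hF : Fintype.card F = 2 ^ 2) : frobQ hF (1 : F) = -1 := by
  rw [frobQ_apply, one_pow, neg_eq hF]

/-! ### the hermitian form -/

omit [Fintype F] in
lemma herm_def (x y : Fin n → F) : Cfsg.hermForm n F 2 x y = ∑ i, x i * (y i) ^ 2 := rfl

omit [Fintype F] in
lemma herm_add_right (hch : (2 : F) = 0) (x y z : Fin n → F) :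
    Cfsg.hermForm n F 2 x (y + z) = Cfsg.hermForm n F 2 x y + Cfsg.hermForm n F 2 x z := by
  rw [herm_def, herm_def, herm_def, ← Finset.sum_add_distrib]
  apply Finset.sum_congr rfl
  intro i _
  rw [Pi.add_apply]
  linear_combination (x i * y i * z i) * hch

omit [Fintype F] in
lemma herm_add_left (x y z : Fin n → F) :
    Cfsg.hermForm n F 2 (x + y) z = Cfsg.hermForm n F 2 x z + Cfsg.hermForm n F 2 y z := by
  rw [herm_def, herm_def, herm_def, ← Finset.sum_add_distrib]
  apply Finset.sum_congr rfl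
  intro i _
  rw [Pi.add_apply]
  ring

omit [Fintype F] in
lemma herm_smul_right (c : F) (x y : Fin n → F) :
    Cfsg.hermForm n F 2 x (c • y) = c ^ 2 * Cfsg.hermForm n F 2 x y := by
  rw [herm_def, herm_def, Finset.mul_sum]
  apply Finset.sum_congr rfl
  intro i _
  rw [Pi.smul_apply, smul_eq_mul]
  ring

omit [Fintype F] in
lemma herm_smul_left (c : F) (x y : Fin n → F) :
    Cfsg.hermForm n F 2 (c • x) y = c * Cfsg.hermForm n F 2 x y := by
  rw [herm_def, herm_def, Finset.mul_sum]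
  apply Finset.sum_congr rfl
  intro i _
  rw [Pi.smul_apply, smul_eq_mul]
  ring

omit [Fintype F] in
lemma herm_single_right (x : Fin n → F) (t : Fin n) (c : F) :
    Cfsg.hermForm n F 2 x (Pi.single t c) = x t * c ^ 2 := by
  rw [herm_def, Finset.sum_eq_single t]
  · rw [Pi.single_eq_same]
  · intro b _ hb
    rw [Pi.single_eq_of_ne hb]; ring
  · intro h; exact absurd (Finset.mem_univ t) h

omit [Fintype F] in
lemma herm_single_left (y : Fin n → F) (t : Fin n) (c : F) :
    Cfsg.hermForm n F 2 (Pi.single t c) y = c * (y t) ^ 2 := by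
  rw [herm_def, Finset.sum_eq_single t]
  · rw [Pi.single_eq_same]
  · intro b _ hb
    rw [Pi.single_eq_of_ne hb]; ring
  · intro h; exact absurd (Finset.mem_univ t) h

/-- the support of a vector -/
def supp (v : Fin n → F) : Finset (Fin n) := Finset.univ.filter (fun i => v i ≠ 0)

omit [Fintype F] in
lemma mem_supp {v : Fin n → F} {i : Fin n} : i ∈ supp v ↔ v i ≠ 0 := by
  unfold supp; rw [Finset.mem_filter]; exact ⟨fun h => h.2, fun h => ⟨Finset.mem_univ _, h⟩⟩

/-- the weight of a vector -/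
def wt (v : Fin n → F) : ℕ := (supp v).card

lemma herm_self (hF : Fintype.card F = 2 ^ 2) (v : Fin n → F) :
    Cfsg.hermForm n F 2 v v = ((wt v : ℕ) : F) := by
  rw [herm_def]
  have h1 : ∀ i, v i * (v i) ^ 2 = if v i ≠ 0 then (1 : F) else 0 := by
    intro i
    have := cube_eq hF (v i)
    split_ifs with h
    · rw [if_neg h] at this; linear_combination this
    · push Not at h; rw [h]; ring
  rw [Finset.sum_congr rfl (fun i _ => h1 i), Finset.sum_ite, Finset.sum_const_zero, add_zero,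
    Finset.sum_const, nsmul_eq_mul, mul_one]
  rfl

omit [Fintype F] in
lemma natCast_eq_zero_iff (hch : (2 : F) = 0) (k : ℕ) : ((k : ℕ) : F) = 0 ↔ Even k := by
  obtain ⟨m, hm | hm⟩ := Nat.even_or_odd' k
  · rw [hm]
    constructor
    · intro _; exact ⟨m, by ring⟩
    · intro _; push_cast; rw [hch, zero_mul]
  · rw [hm]
    constructor
    · intro h
      exfalso
      push_cast at h
      rw [hch, zero_mul, zero_add] at h
      exact one_ne_zero h
    · intro h
      exfalso
      rw [Nat.even_add_one] at h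
      exact h ⟨m, by ring⟩

lemma iso_iff_even (hF : Fintype.card F = 2 ^ 2) (v : Fin n → F) :
    Cfsg.hermForm n F 2 v v = 0 ↔ Even (wt v) := by
  rw [herm_self hF, natCast_eq_zero_iff (two_eq_zero hF)]

lemma herm_self_eq_one_iff (hF : Fintype.card F = 2 ^ 2) (v : Fin n → F) :
    Cfsg.hermForm n F 2 v v = 1 ↔ Odd (wt v) := by
  rw [herm_self hF]
  obtain ⟨m, hm | hm⟩ := Nat.even_or_odd' (wt v)
  · rw [hm]
    constructor
    · intro h
      exfalso
      push_cast at h
      rw [two_eq_zero hF, zero_mul] at h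
      exact zero_ne_one h
    · intro h
      exfalso
      rw [← Nat.not_even_iff_odd] at h
      exact h ⟨m, by ring⟩
  · rw [hm]
    constructor
    · intro _; exact ⟨m, rfl⟩
    · intro _; push_cast; rw [two_eq_zero hF, zero_mul, zero_add]

/-! ### monomial unitary matrices -/

lemma dg_mem_GU (hF : Fintype.card F = 2 ^ 2) (s : Fin n → Fˣ) :
    (dg s : GL (Fin n) F) ∈ Cfsg.GU n F 2 := by
  rw [mem_GU]
  intro x y
  rw [dg_mulVec, dg_mulVec, herm_def, herm_def]
  apply Finset.sum_congr rfl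
  intro i _
  have h3 : ((s i : Fˣ) : F) ^ 3 = 1 := cube_eq_one hF (s i).ne_zero
  change ((s i : Fˣ) : F) * x i * (((s i : Fˣ) : F) * y i) ^ 2 = x i * y i ^ 2
  linear_combination (x i * y i ^ 2) * h3

lemma dg_mem_G (hF : Fintype.card F = 2 ^ 2) {s : Fin n → Fˣ} (hs : ∏ i, s i = 1) :
    (dg s : GL (Fin n) F) ∈ Cfsg.GU n F 2 ⊓ Cfsg.Geo.specialLinear (Fin n) F :=
  ⟨dg_mem_GU hF s, dg_mem_specialLinear hs⟩

/-- permutation matrices in `GL` -/
def pm (σ : Equiv.Perm (Fin n)) : GL (Fin n) F :=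
  (Matrix.permMatrixHom (n := Fin n) (R := F)).toHomUnits σ

omit [Fintype F] in
lemma pm_val (σ : Equiv.Perm (Fin n)) :
    ((pm σ : GL (Fin n) F) : Matrix (Fin n) (Fin n) F) = (σ⁻¹).permMatrix F := rfl

omit [Fintype F] in
lemma pm_mulVec (σ : Equiv.Perm (Fin n)) (v : Fin n → F) :
    ((pm σ : GL (Fin n) F) : Matrix (Fin n) (Fin n) F) *ᵥ v = v ∘ (σ⁻¹ : Equiv.Perm (Fin n)) := by
  rw [pm_val, Matrix.permMatrix_mulVec]

omit [Fintype F] in
lemma pm_mem_GU (σ : Equiv.Perm (Fin n)) : (pm σ : GL (Fin n) F) ∈ Cfsg.GU n F 2 := by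
  rw [mem_GU]
  intro x y
  rw [pm_mulVec, pm_mulVec, herm_def, herm_def]
  exact Equiv.sum_comp (σ⁻¹ : Equiv.Perm (Fin n)) (fun i => x i * y i ^ 2)

lemma pm_mem_SL (hF : Fintype.card F = 2 ^ 2) (σ : Equiv.Perm (Fin n)) :
    (pm σ : GL (Fin n) F) ∈ Cfsg.Geo.specialLinear (Fin n) F := by
  rw [mem_specialLinear_iff, pm_val, Matrix.det_permutation]
  rcases Int.units_eq_one_or (Equiv.Perm.sign (σ⁻¹ : Equiv.Perm (Fin n))) with h | h
  · rw [h]; simp
  · rw [h]; simp [neg_eq hF]

omit [Fintype F] in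
lemma pm_isMono (σ : Equiv.Perm (Fin n)) :
    IsMono ((pm σ : GL (Fin n) F) : Matrix (Fin n) (Fin n) F) := by
  intro j
  refine ⟨σ j, ?_⟩
  apply colAt_of_mulVec_single (c := 1)
  rw [pm_mulVec, one_smul]
  ext i
  rw [Function.comp_apply, Pi.single_apply, Pi.single_apply]
  by_cases h : i = σ j
  · rw [if_pos h, if_pos (by rw [h]; simp)]
  · rw [if_neg h, if_neg]
    intro h'
    apply h
    rw [← h']; simp

/-! ### closure properties of `Sset` -/

/-- the hypothesis on `L`: it contains the monomial subgroup of `GU ⊓ SL` -/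
def ContainsMono (L : Subgroup (GL (Fin n) F)) : Prop :=
  ∀ h : GL (Fin n) F, h ∈ Cfsg.GU n F 2 ⊓ Cfsg.Geo.specialLinear (Fin n) F →
    IsMono (h : Matrix (Fin n) (Fin n) F) → h ∈ L

lemma mono_mulVec_mem (hF : Fintype.card F = 2 ^ 2) {L : Subgroup (GL (Fin n) F)}
    (hN : ContainsMono L) {m : GL (Fin n) F}
    (hm : m ∈ Cfsg.GU n F 2 ⊓ Cfsg.Geo.specialLinear (Fin n) F)
    (hmono : IsMono (m : Matrix (Fin n) (Fin n) F)) {v : Fin n → F} (hv : v ∈ Sset hF L) :
    (m : Matrix (Fin n) (Fin n) F) *ᵥ v ∈ Sset hF L :=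
  Sset_mulVec_mem hF (hN m hm hmono) hm.1 hv

lemma dg_mulVec_mem (hF : Fintype.card F = 2 ^ 2) {L : Subgroup (GL (Fin n) F)}
    (hN : ContainsMono L) {s : Fin n → Fˣ} (hs : ∏ i, s i = 1) {v : Fin n → F}
    (hv : v ∈ Sset hF L) : (fun i => ((s i : Fˣ) : F) * v i) ∈ Sset hF L := by
  have := mono_mulVec_mem hF hN (dg_mem_G hF hs) (dg_isMono s) hv
  rwa [dg_mulVec] at this

lemma pm_mulVec_mem (hF : Fintype.card F = 2 ^ 2) {L : Subgroup (GL (Fin n) F)}
    (hN : ContainsMono L) (σ : Equiv.Perm (Fin n)) {v : Fin n → F}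
    (hv : v ∈ Sset hF L) : v ∘ (σ⁻¹ : Equiv.Perm (Fin n)) ∈ Sset hF L := by
  have := mono_mulVec_mem hF hN ⟨pm_mem_GU σ, pm_mem_SL hF σ⟩ (pm_isMono σ) hv
  rwa [pm_mulVec] at this

/-- the hyperbolic line: `a, b ∈ Sset`, `b` isotropic, `h(a,b) = 1` gives `a + b ∈ Sset` -/
lemma add_mem_Sset (hF : Fintype.card F = 2 ^ 2) {L : Subgroup (GL (Fin n) F)}
    {a b : Fin n → F} (ha : a ∈ Sset hF L) (hb : b ∈ Sset hF L)
    (hbb : Cfsg.hermForm n F 2 b b = 0) (hab : Cfsg.hermForm n F 2 a b = 1) :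
    a + b ∈ Sset hF L := by
  have := Sset_tv hF ha hb hbb (skew_one hF)
  rwa [hab, mul_one, one_smul] at this

lemma zero_mem_Sset (hF : Fintype.card F = 2 ^ 2) (L : Subgroup (GL (Fin n) F)) :
    (0 : Fin n → F) ∈ Sset hF L := by
  intro c _ g hg
  have : g = 1 := by
    apply Units.ext
    apply Cfsg.Agent.Lib.Helper5.SpMax.mat_eq_of_mulVec
    intro x
    rw [hg, smul_zero, add_zero, Units.val_one, Matrix.one_mulVec]
  rw [this]; exact L.one_mem

end

end Cfsg.Agent.Lib.Helper11.UQ2
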