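import Mathlib
import Cfsg.Agent.Lib.Helper11.UQ2A

/-!
S5655, `k = 1`, `q = 2`: the weight-2 vectors are centres; a non-monomial element gives a centre of
weight at least four.
-/

set_option autoImplicit false
set_option linter.unusedSectionVars false
set_option linter.unusedVariables false

namespace Cfsg.Agent.Lib.Helper11.UQ2
open Matrix Cfsg.Agent.Lib.Helper11.Mono Cfsg.Agent.Lib.Helper5.SUMax
  Cfsg.Agent.Lib.Helper5.HermBridge

open scoped Classical
noncomputable section

variable {F : Type*} [Field F] [Fintype F] {n : ℕ}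

/-- the weight-2 vector `e_i + ζ e_j` -/
def w2 (i j : Fin n) (z : F) : Fin n → F := Pi.single i 1 + Pi.single j z

lemma w2_iso (hF : Fintype.card F = 2 ^ 2) {i j : Fin n} (hij : i ≠ j) {z : F} (hz : z ≠ 0) :
    Cfsg.hermForm n F 2 (w2 i j z) (w2 i j z) = 0 := by
  unfold w2
  rw [herm_add_right (two_eq_zero hF), herm_single_right, herm_single_right]
  simp only [Pi.add_apply, Pi.single_eq_same, Pi.single_eq_of_ne hij, Pi.single_eq_of_ne hij.symm]
  have h3 := cube_eq_one hF hz
  have h2 := two_eq_zero hF
  linear_combination h3 + h2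

omit [Fintype F] in
lemma w2_apply {i j : Fin n} (hij : i ≠ j) (z : F) (l : Fin n) :
    w2 i j z l = if l = i then 1 else if l = j then z else 0 := by
  unfold w2
  rw [Pi.add_apply, Pi.single_apply, Pi.single_apply]
  by_cases h1 : l = i
  · rw [if_pos h1, if_pos h1, if_neg (by rw [h1]; exact hij), add_zero]
  · rw [if_neg h1, if_neg h1, zero_add]

/-- the transvection with centre `e_i + ζ e_j` is monomial -/
lemma w2_mem_Sset (hF : Fintype.card F = 2 ^ 2) {L : Subgroup (GL (Fin n) F)}
    (hN : ContainsMono L) {i j : Fin n} (hij : i ≠ j) {z : F} (hz : z ≠ 0) :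
    w2 i j z ∈ Sset hF L := by
  intro c hc g hg
  rcases skew_cases hF hc with h0 | h1
  · have : g = 1 := by
      apply Units.ext
      apply Cfsg.Agent.Lib.Helper5.SpMax.mat_eq_of_mulVec
      intro x
      rw [hg, h0, zero_mul, zero_smul, add_zero, Units.val_one, Matrix.one_mulVec]
    rw [this]; exact L.one_mem
  · apply hN g (tv_mem_G hF (w2_iso hF hij hz) hc hg)
    have h2 := two_eq_zero hF
    have h3 := cube_eq_one hF hz
    have hcol : ∀ k, (g : Matrix (Fin n) (Fin n) F) *ᵥ (Pi.single k (1 : F)) =
        Pi.single k (1 : F) + (w2 i j z k) ^ 2 • w2 i j z := by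
      intro k
      rw [hg, h1, one_mul, herm_single_left, one_mul]
    intro k
    by_cases hki : k = i
    · refine ⟨j, ?_⟩
      apply colAt_of_mulVec_single (c := z)
      rw [hcol, hki]
      ext l
      simp only [Pi.add_apply, Pi.smul_apply, smul_eq_mul, w2_apply hij, Pi.single_apply, if_true]
      by_cases hli : l = i
      · rw [if_pos hli, if_pos hli, if_neg (by rw [hli]; exact hij)]
        linear_combination h2
      · rw [if_neg hli, if_neg hli]
        by_cases hlj : l = j
        · rw [if_pos hlj, if_pos hlj]; ring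
        · rw [if_neg hlj, if_neg hlj]; ring
    · by_cases hkj : k = j
      · refine ⟨i, ?_⟩
        apply colAt_of_mulVec_single (c := z ^ 2)
        rw [hcol, hkj]
        ext l
        simp only [Pi.add_apply, Pi.smul_apply, smul_eq_mul, w2_apply hij, Pi.single_apply,
          if_neg hij.symm, if_true]
        by_cases hli : l = i
        · rw [if_pos hli, if_neg (by rw [hli]; exact hij), if_pos hli]
          ring
        · rw [if_neg hli, if_neg hli]
          by_cases hlj : l = j
          · rw [if_pos hlj, if_pos hlj]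
            linear_combination h3 + h2
          · rw [if_neg hlj, if_neg hlj]; ring
      · refine ⟨k, ?_⟩
        apply colAt_of_mulVec_single (c := 1)
        rw [hcol, w2_apply hij, if_neg hki, if_neg hkj]
        simp

/-! ### the counting lemma -/

omit [Fintype F] in
/-- if the union of the supports of `a` and `b` has at least four elements, then one of
`a + b`, `a + w b`, `a + (w+1) b` has weight at least three -/
lemma exists_wt_ge_three (a b : Fin n → F) (h4 : 4 ≤ (supp a ∪ supp b).card) {w : F}
    (hw0 : w ≠ 0) (hw1 : w ≠ 1) (hw2 : w + 1 ≠ 0) :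
    ∃ z : F, z ≠ 0 ∧ 3 ≤ wt (a + z • b) := by
  set U := supp a ∪ supp b with hU
  let Z : F → Finset (Fin n) := fun z => U.filter (fun l => a l + z * b l = 0)
  have hdisj : ∀ z z' : F, z ≠ z' → Disjoint (Z z) (Z z') := by
    intro z z' hzz
    rw [Finset.disjoint_left]
    intro l hl hl'
    rw [Finset.mem_filter] at hl hl'
    have hb : b l = 0 := by
      have h1 : (z - z') * b l = 0 := by linear_combination hl.2 - hl'.2
      rcases mul_eq_zero.mp h1 with h | h
      · exact absurd (sub_eq_zero.mp h) hzz
      · exact h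
    have ha : a l = 0 := by
      have := hl.2
      rwa [hb, mul_zero, add_zero] at this
    have hlU := hl.1
    rw [hU, Finset.mem_union, mem_supp, mem_supp] at hlU
    rcases hlU with h | h
    · exact h ha
    · exact h hb
  have hwt : ∀ z : F, U.card ≤ (Z z).card + wt (a + z • b) := by
    intro z
    have h1 : (U.filter (fun l => a l + z * b l = 0)).card +
        (U.filter (fun l => ¬ (a l + z * b l = 0))).card = U.card :=
      Finset.card_filter_add_card_filter_not _
    have h2 : (U.filter (fun l => ¬ (a l + z * b l = 0))) ⊆ supp (a + z • b) := by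
      intro l hl
      rw [Finset.mem_filter] at hl
      rw [mem_supp, Pi.add_apply, Pi.smul_apply, smul_eq_mul]
      exact hl.2
    have h3 := Finset.card_le_card h2
    change (Z z).card + _ = _ at h1
    unfold wt
    omega
  have h1w : (1 : F) ≠ w := fun h => hw1 h.symm
  have h1w1 : (1 : F) ≠ w + 1 := by
    intro h
    apply hw0
    linear_combination -h
  have hww1 : w ≠ w + 1 := by
    intro h
    have : (1 : F) = 0 := by linear_combination -h
    exact one_ne_zero this
  have hcard : (Z 1).card + (Z w).card + (Z (w + 1)).card ≤ U.card := by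
    have hd1 : Disjoint (Z 1 ∪ Z w) (Z (w + 1)) := by
      rw [Finset.disjoint_union_left]
      exact ⟨hdisj _ _ h1w1, hdisj _ _ hww1⟩
    rw [← Finset.card_union_of_disjoint (hdisj _ _ h1w), ← Finset.card_union_of_disjoint hd1]
    apply Finset.card_le_card
    intro l hl
    rw [Finset.mem_union, Finset.mem_union] at hl
    rcases hl with (h | h) | h <;> exact (Finset.mem_filter.mp h).1
  by_contra hcon
  push Not at hcon
  have e1 := hcon 1 one_ne_zero
  have e2 := hcon w hw0
  have e3 := hcon (w + 1) hw2
  have f1 := hwt 1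
  have f2 := hwt w
  have f3 := hwt (w + 1)
  omega

/-! ### a non-monomial element gives a centre of weight at least four -/

lemma exists_centre_of_not_isMono (hF : Fintype.card F = 2 ^ 2) (hn : 4 ≤ n)
    {L : Subgroup (GL (Fin n) F)}
    (hLU : L ≤ Cfsg.GU n F 2 ⊓ Cfsg.Geo.specialLinear (Fin n) F) (hN : ContainsMono L)
    {g : GL (Fin n) F} (hg : g ∈ L) (hgm : ¬ IsMono (g : Matrix (Fin n) (Fin n) F)) :
    ∃ v : Fin n → F, v ∈ Sset hF L ∧ Cfsg.hermForm n F 2 v v = 0 ∧ 4 ≤ wt v := by
  obtain ⟨w, hw0, hw1, hw⟩ := exists_omega hF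
  have h2 := two_eq_zero hF
  have hw2 : w + 1 ≠ 0 := by
    intro h
    apply hw1
    linear_combination h - h2
  have hgU : g ∈ Cfsg.GU n F 2 := (hLU hg).1
  unfold IsMono at hgm
  push Not at hgm
  obtain ⟨j, hj⟩ := hgm
  set a : Fin n → F := (g : Matrix (Fin n) (Fin n) F) *ᵥ (Pi.single j (1 : F)) with ha
  have ha_apply : ∀ k, a k = (g : Matrix (Fin n) (Fin n) F) k j := by
    intro k
    rw [ha, Matrix.mulVec_single_one]
    rfl
  -- the weight of `a` is at least two
  have hwa2 : 2 ≤ wt a := by
    by_contra hlt
    push Not at hlt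
    by_cases hex : ∃ i, a i ≠ 0
    · obtain ⟨i, hi⟩ := hex
      apply hj i
      intro k hk
      by_contra hgk
      have h1 : 1 < (supp a).card := by
        rw [Finset.one_lt_card]
        exact ⟨k, mem_supp.mpr (by rw [ha_apply]; exact hgk), i, mem_supp.mpr hi, hk⟩
      unfold wt at hlt
      omega
    · push Not at hex
      apply hj j
      intro k _
      rw [← ha_apply]
      exact hex k
  -- it is odd
  have haa : Cfsg.hermForm n F 2 a a = 1 := by
    rw [ha, mem_GU.mp hgU, herm_single_right, Pi.single_eq_same]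
    ring
  have hodd : Odd (wt a) := (herm_self_eq_one_iff hF a).mp haa
  have hwa3 : 3 ≤ wt a := by
    rcases hodd with ⟨m, hm⟩
    omega
  -- choose the second column
  have hex : ∃ j', j' ≠ j ∧ 4 ≤ (supp a ∪
      supp ((g : Matrix (Fin n) (Fin n) F) *ᵥ (Pi.single j' (1 : F)))).card := by
    by_cases h4 : 4 ≤ wt a
    · obtain ⟨j', hj'⟩ : ∃ j' : Fin n, j' ≠ j := by
        by_cases h0 : j = ⟨0, by omega⟩
        · exact ⟨⟨1, by omega⟩, by rw [h0]; intro h; simp [Fin.ext_iff] at h⟩
        · exact ⟨⟨0, by omega⟩, fun h => h0 h.symm⟩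
      refine ⟨j', hj', le_trans h4 ?_⟩
      exact Finset.card_le_card Finset.subset_union_left
    · have hw3 : wt a = 3 := by omega
      -- a row index outside the support
      obtain ⟨l, hl⟩ : ∃ l, l ∉ supp a := by
        by_contra hall
        push Not at hall
        have : supp a = Finset.univ := Finset.eq_univ_iff_forall.mpr hall
        unfold wt at hw3
        rw [this, Finset.card_univ, Fintype.card_fin] at hw3
        omega
      -- row `l` of `g` is non-zero
      obtain ⟨j', hj'⟩ : ∃ j', (g : Matrix (Fin n) (Fin n) F) l j' ≠ 0 := by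
        by_contra hall
        push Not at hall
        have h1 : ((g * g⁻¹ : GL (Fin n) F) : Matrix (Fin n) (Fin n) F) l l = 1 := by
          rw [mul_inv_cancel, Units.val_one, Matrix.one_apply_eq]
        rw [Units.val_mul, Matrix.mul_apply] at h1
        rw [Finset.sum_eq_zero (fun k _ => by rw [hall k, zero_mul])] at h1
        exact zero_ne_one h1
      have hjj : j' ≠ j := by
        intro h
        apply hl
        rw [mem_supp, ha_apply, ← h]
        exact hj'
      refine ⟨j', hjj, ?_⟩
      have hsub : insert l (supp a) ⊆ supp a ∪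
          supp ((g : Matrix (Fin n) (Fin n) F) *ᵥ (Pi.single j' (1 : F))) := by
        intro x hx
        rw [Finset.mem_insert] at hx
        rcases hx with h | h
        · rw [h]
          apply Finset.mem_union_right
          rw [mem_supp, Matrix.mulVec_single_one]
          exact hj'
        · exact Finset.mem_union_left _ h
      have := Finset.card_le_card hsub
      rw [Finset.card_insert_of_notMem hl] at this
      unfold wt at hw3
      omega
  obtain ⟨j', hjj, hU⟩ := hex
  obtain ⟨z, hz0, hz3⟩ := exists_wt_ge_three a _ hU hw0 hw1 hw2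
  have hv : a + z • ((g : Matrix (Fin n) (Fin n) F) *ᵥ (Pi.single j' (1 : F))) =
      (g : Matrix (Fin n) (Fin n) F) *ᵥ (w2 j j' z) := by
    unfold w2
    rw [Matrix.mulVec_add, ← Matrix.mulVec_smul]
    congr 2
    ext l
    rw [Pi.smul_apply, smul_eq_mul, Pi.single_apply, Pi.single_apply]
    split_ifs <;> ring
  rw [hv] at hz3
  refine ⟨_, Sset_mulVec_mem hF hg hgU (w2_mem_Sset hF hN hjj.symm hz0), ?_, ?_⟩
  · rw [mem_GU.mp hgU]
    exact w2_iso hF hjj.symm hz0
  · have hiso : Cfsg.hermForm n F 2 ((g : Matrix (Fin n) (Fin n) F) *ᵥ (w2 j j' z))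
        ((g : Matrix (Fin n) (Fin n) F) *ᵥ (w2 j j' z)) = 0 := by
      rw [mem_GU.mp hgU]
      exact w2_iso hF hjj.symm hz0
    rcases (iso_iff_even hF _).mp hiso with ⟨m, hm⟩
    omega

end

end Cfsg.Agent.Lib.Helper11.UQ2
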