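import Mathlib
import Cfsg.Agent.Lib.Helper11.UQ2B
import Cfsg.Agent.Lib.Helper15.MonoWa1

/-!
S5655, `k = 1`, `q = 2`: twisting by diagonal matrices (shrinking the weight), transitivity of the
monomial group on vectors of a given weight.
-/

set_option autoImplicit false
set_option linter.unusedSectionVars false
set_option linter.unusedVariables false

namespace Cfsg.Agent.Lib.Helper11.UQ2
open Matrix Cfsg.Agent.Lib.Helper11.Mono Cfsg.Agent.Lib.Helper5.SUMax
  Cfsg.Agent.Lib.Helper5.HermBridge Cfsg.Agent.Lib.Helper15.MonoLeaf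

open scoped Classical
noncomputable section

variable {F : Type*} [Field F] [Fintype F] {n : ℕ}

/-- **TW**: twisting a centre `v` by a diagonal matrix `s` of determinant one; if
`h(v, (s+1) v) = 1` then `(s+1) v` is a centre. -/
lemma twist_mem_Sset (hF : Fintype.card F = 2 ^ 2) {L : Subgroup (GL (Fin n) F)}
    (hN : ContainsMono L) {v : Fin n → F} (hv : v ∈ Sset hF L)
    (hvv : Cfsg.hermForm n F 2 v v = 0) {s : Fin n → Fˣ} (hs : ∏ i, s i = 1)
    (h1 : Cfsg.hermForm n F 2 v (fun l => (((s l : Fˣ) : F) + 1) * v l) = 1) :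
    (fun l => (((s l : Fˣ) : F) + 1) * v l) ∈ Sset hF L := by
  have h2 := two_eq_zero hF
  set u : Fin n → F := fun l => (((s l : Fˣ) : F) + 1) * v l with hu
  have hdv : (fun i => ((s i : Fˣ) : F) * v i) = v + u := by
    ext l
    rw [Pi.add_apply, hu]
    linear_combination (-(v l)) * h2
  have hdvS : v + u ∈ Sset hF L := by
    rw [← hdv]; exact dg_mulVec_mem hF hN hs hv
  have hdviso : Cfsg.hermForm n F 2 (v + u) (v + u) = 0 := by
    rw [← hdv, ← dg_mulVec, mem_GU.mp (dg_mem_GU hF s), hvv]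
  have hvdv : Cfsg.hermForm n F 2 v (v + u) = 1 := by
    rw [herm_add_right h2, hvv, h1, zero_add]
  have := add_mem_Sset hF hv hdvS hdviso hvdv
  have e : v + (v + u) = u := by
    ext l
    simp only [Pi.add_apply]
    linear_combination (v l) * h2
  rwa [e] at this

omit [Fintype F] in
/-- `h(v, c v) = ∑_{l ∈ T} c_l²` when `c v` is supported on `T ⊆ supp v` -/
lemma herm_mul_eq_sum (hcube : ∀ x : F, x ≠ 0 → x ^ 3 = 1) (v c : Fin n → F) (T : Finset (Fin n))
    (hT : ∀ l ∈ T, v l ≠ 0) (hc : ∀ l, l ∉ T → c l = 0 ∨ v l = 0) :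
    Cfsg.hermForm n F 2 v (fun l => c l * v l) = ∑ l ∈ T, (c l) ^ 2 := by
  rw [herm_def]
  rw [← Finset.sum_subset (Finset.subset_univ T)]
  · apply Finset.sum_congr rfl
    intro l hl
    have := hcube (v l) (hT l hl)
    linear_combination (c l) ^ 2 * this
  · intro l _ hl
    rcases hc l hl with h | h
    · rw [h]; ring
    · rw [h]; ring

/-- the diagonal matrix `ε k` at `t k`, the inverse of the product at `l₀` -/
def twistFun {m : ℕ} (t : Fin m → Fin n) (l₀ : Fin n) (ε : Fin m → Fˣ) : Fin n → Fˣ :=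
  fun l => ∏ k, tcc (t k) l₀ (ε k) l

lemma twistFun_prod {m : ℕ} (t : Fin m → Fin n) (l₀ : Fin n) (ε : Fin m → Fˣ)
    (hl₀ : ∀ k, t k ≠ l₀) : ∏ l, twistFun t l₀ ε l = 1 := by
  unfold twistFun
  rw [Finset.prod_comm]
  apply Finset.prod_eq_one
  intro k _
  exact tcc_prod (hl₀ k) (ε k)

lemma twistFun_at {m : ℕ} (t : Fin m → Fin n) (ht : Function.Injective t) (l₀ : Fin n)
    (ε : Fin m → Fˣ) (hl₀ : ∀ k, t k ≠ l₀) (k : Fin m) : twistFun t l₀ ε (t k) = ε k := by
  unfold twistFun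
  rw [Finset.prod_eq_single k]
  · exact tcc_same _ _ _
  · intro k' _ hk'
    exact tcc_off (fun h => hk' (ht h).symm) (hl₀ k) _
  · intro h; exact absurd (Finset.mem_univ k) h

lemma twistFun_off {m : ℕ} (t : Fin m → Fin n) (l₀ : Fin n) (ε : Fin m → Fˣ) {l : Fin n}
    (hl : ∀ k, l ≠ t k) (hl0 : l ≠ l₀) : twistFun t l₀ ε l = 1 := by
  unfold twistFun
  apply Finset.prod_eq_one
  intro k _
  exact tcc_off (hl k) hl0 _

lemma twistFun_base {m : ℕ} (t : Fin m → Fin n) (l₀ : Fin n) (ε : Fin m → Fˣ)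
    (hl₀ : ∀ k, t k ≠ l₀) : twistFun t l₀ ε l₀ = (∏ k, ε k)⁻¹ := by
  unfold twistFun
  rw [← Finset.prod_inv_distrib]
  apply Finset.prod_congr rfl
  intro k _
  exact tcc_other (hl₀ k) _

/-- **SHR**: shrinking.  `v` a centre, `t k` distinct coordinates in its support, `ε k ≠ 1` with
`∑ (ε k + 1)² = 1`, and a coordinate `l₀` outside the `t k` at which `v` vanishes or `∏ ε = 1`:
then the vector with entries `(ε k + 1) v (t k)` at `t k` and zero elsewhere is a centre. -/
lemma shrink_mem_Sset (hF : Fintype.card F = 2 ^ 2) {L : Subgroup (GL (Fin n) F)}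
    (hN : ContainsMono L) {v : Fin n → F} (hv : v ∈ Sset hF L)
    (hvv : Cfsg.hermForm n F 2 v v = 0) {m : ℕ} (t : Fin m → Fin n) (ht : Function.Injective t)
    (htv : ∀ k, v (t k) ≠ 0) (l₀ : Fin n) (hl₀ : ∀ k, t k ≠ l₀) (ε : Fin m → Fˣ)
    (hbase : v l₀ = 0 ∨ ∏ k, ε k = 1) (hsum : ∑ k, (((ε k : Fˣ) : F) + 1) ^ 2 = 1) :
    (fun l => (((twistFun t l₀ ε l : Fˣ) : F) + 1) * v l) ∈ Sset hF L := by
  have h2 := two_eq_zero hF
  apply twist_mem_Sset hF hN hv hvv (twistFun_prod t l₀ ε hl₀)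
  rw [herm_mul_eq_sum (fun x hx => cube_eq_one hF hx) v _ (Finset.univ.image t)]
  · rw [Finset.sum_image (fun a _ b _ h => ht h)]
    refine Eq.trans (Finset.sum_congr rfl ?_) hsum
    intro k _
    rw [twistFun_at t ht l₀ ε hl₀]
  · intro l hl
    rw [Finset.mem_image] at hl
    obtain ⟨k, _, rfl⟩ := hl
    exact htv k
  · intro l hl
    have hl' : ∀ k, l ≠ t k := by
      intro k h
      apply hl
      rw [Finset.mem_image]
      exact ⟨k, Finset.mem_univ _, h.symm⟩
    by_cases hl0 : l = l₀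
    · rcases hbase with h | h
      · right; rw [hl0]; exact h
      · left
        rw [hl0, twistFun_base t l₀ ε hl₀, h, inv_one, Units.val_one]
        linear_combination h2
    · left
      rw [twistFun_off t l₀ ε hl' hl0, Units.val_one]
      linear_combination h2

lemma shrink_apply_at (hF : Fintype.card F = 2 ^ 2) {v : Fin n → F} {m : ℕ} (t : Fin m → Fin n)
    (ht : Function.Injective t) (l₀ : Fin n) (hl₀ : ∀ k, t k ≠ l₀) (ε : Fin m → Fˣ) (k : Fin m) :
    (((twistFun t l₀ ε (t k) : Fˣ) : F) + 1) * v (t k) =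
      (((ε k : Fˣ) : F) + 1) * v (t k) := by
  rw [twistFun_at t ht l₀ ε hl₀]

lemma shrink_apply_off (hF : Fintype.card F = 2 ^ 2) {v : Fin n → F} {m : ℕ} (t : Fin m → Fin n)
    (l₀ : Fin n) (hl₀ : ∀ k, t k ≠ l₀) (ε : Fin m → Fˣ)
    (hbase : v l₀ = 0 ∨ ∏ k, ε k = 1) {l : Fin n} (hl : ∀ k, l ≠ t k) :
    (((twistFun t l₀ ε l : Fˣ) : F) + 1) * v l = 0 := by
  have h2 := two_eq_zero hF
  by_cases hl0 : l = l₀
  · rcases hbase with h | h
    · rw [hl0, h, mul_zero]
    · rw [hl0, twistFun_base t l₀ ε hl₀, h, inv_one, Units.val_one]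
      linear_combination (v l₀) * h2
  · rw [twistFun_off t l₀ ε hl hl0, Units.val_one]
    linear_combination (v l) * h2

end

end Cfsg.Agent.Lib.Helper11.UQ2
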