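import Mathlib
import Cfsg.Agent.Lib.Helper11.UQ2C

/-!
S5655, `k = 1`, `q = 2`: a centre of weight four; all vectors of weight four; induction on the weight.
-/

set_option autoImplicit false
set_option linter.unusedSectionVars false
set_option linter.unusedVariables false

namespace Cfsg.Agent.Lib.Helper11.UQ2
open Matrix Cfsg.Agent.Lib.Helper11.Mono Cfsg.Agent.Lib.Helper5.SUMax
  Cfsg.Agent.Lib.Helper5.HermBridge Cfsg.Agent.Lib.Helper15.MonoLeaf

open scoped Classical
noncomputable section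

variable {F : Type*} [Field F] [Fintype F] {n : ℕ}

/-- `m` distinct elements of a finset with at least `m` elements -/
lemma exists_inj {α : Type*} (s : Finset α) (m : ℕ) (h : m ≤ s.card) :
    ∃ t : Fin m → α, Function.Injective t ∧ ∀ k, t k ∈ s := by
  obtain ⟨T, hTs, hT⟩ := Finset.exists_subset_card_eq h
  let e := T.equivFinOfCardEq hT
  refine ⟨fun k => ((e.symm k : T) : α), ?_, ?_⟩
  · intro a b hab
    exact e.symm.injective (Subtype.ext hab)
  · intro k
    exact hTs (e.symm k).2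

/-- the weight of the shrunk vector -/
lemma wt_shrink (hF : Fintype.card F = 2 ^ 2) {v : Fin n → F} {m : ℕ} (t : Fin m → Fin n)
    (ht : Function.Injective t) (htv : ∀ k, v (t k) ≠ 0) (l₀ : Fin n) (hl₀ : ∀ k, t k ≠ l₀)
    (ε : Fin m → Fˣ) (hε : ∀ k, ((ε k : Fˣ) : F) + 1 ≠ 0)
    (hbase : v l₀ = 0 ∨ ∏ k, ε k = 1) :
    wt (fun l => (((twistFun t l₀ ε l : Fˣ) : F) + 1) * v l) = m := by
  have hsupp : supp (fun l => (((twistFun t l₀ ε l : Fˣ) : F) + 1) * v l) =
      Finset.univ.image t := by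
    ext l
    rw [mem_supp, Finset.mem_image]
    constructor
    · intro hl
      by_contra hno
      push Not at hno
      apply hl
      exact shrink_apply_off hF t l₀ hl₀ ε hbase (fun k h => hno k (Finset.mem_univ _) h.symm)
    · rintro ⟨k, _, rfl⟩
      change (((twistFun t l₀ ε (t k) : Fˣ) : F) + 1) * v (t k) ≠ 0
      rw [shrink_apply_at hF t ht l₀ hl₀ ε k]
      exact mul_ne_zero (hε k) (htv k)
  unfold wt
  rw [hsupp, Finset.card_image_of_injective _ ht, Finset.card_univ, Fintype.card_fin]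

/-- **W4a**: from a centre of even weight `≥ 4` which is not of full support, a centre of weight 4 -/
lemma exists_wt_four_of_lt (hF : Fintype.card F = 2 ^ 2) {L : Subgroup (GL (Fin n) F)}
    (hN : ContainsMono L) {v : Fin n → F} (hv : v ∈ Sset hF L)
    (hvv : Cfsg.hermForm n F 2 v v = 0) (h4 : 4 ≤ wt v) (hlt : wt v < n) :
    ∃ u : Fin n → F, u ∈ Sset hF L ∧ wt u = 4 := by
  obtain ⟨w, hw0, hw1, hw⟩ := exists_omega hF
  have h2 := two_eq_zero hF
  obtain ⟨t, ht, hts⟩ := exists_inj (supp v) 4 h4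
  have htv : ∀ k, v (t k) ≠ 0 := fun k => mem_supp.mp (hts k)
  obtain ⟨l₀, hl₀⟩ : ∃ l₀, l₀ ∉ supp v := by
    by_contra hall
    push Not at hall
    have : supp v = Finset.univ := Finset.eq_univ_iff_forall.mpr hall
    unfold wt at hlt
    rw [this, Finset.card_univ, Fintype.card_fin] at hlt
    omega
  have hvl₀ : v l₀ = 0 := by
    by_contra h
    exact hl₀ (mem_supp.mpr h)
  have htl₀ : ∀ k, t k ≠ l₀ := fun k h => htv k (by rw [h]; exact hvl₀)
  let wu : Fˣ := Units.mk0 w hw0
  let ε : Fin 4 → Fˣ := ![wu, wu ^ 2, wu ^ 2, wu ^ 2]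
  have hsum : ∑ k, (((ε k : Fˣ) : F) + 1) ^ 2 = 1 := by
    rw [Fin.sum_univ_four]
    simp only [ε, Matrix.cons_val_zero, Matrix.cons_val_one, Matrix.cons_val_two,
      Matrix.cons_val_three, Matrix.head_cons, Matrix.tail_cons, Units.val_pow_eq_pow_val, wu,
      Units.val_mk0]
    linear_combination (3 * w ^ 2 - 3 * w + 7) * hw + (-w - 2) * h2
  have hε : ∀ k, ((ε k : Fˣ) : F) + 1 ≠ 0 := by
    intro k
    have hw1' : w + 1 ≠ 0 := by
      intro h; apply hw1; linear_combination h - h2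
    have hw2' : w ^ 2 + 1 ≠ 0 := by
      intro h; apply hw0; linear_combination hw - h
    fin_cases k <;>
      simp only [ε, Matrix.cons_val_zero, Matrix.cons_val_one, Matrix.cons_val_two,
        Matrix.cons_val_three, Matrix.head_cons, Matrix.tail_cons, Units.val_pow_eq_pow_val, wu,
        Units.val_mk0, Fin.zero_eta, Fin.mk_one, Fin.reduceFinMk] <;>
      first | exact hw1' | exact hw2'
  refine ⟨_, shrink_mem_Sset hF hN hv hvv t ht htv l₀ htl₀ ε (Or.inl hvl₀) hsum, ?_⟩
  exact wt_shrink hF t ht htv l₀ htl₀ ε hε (Or.inl hvl₀)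

/-- **W4b**: from a centre of full support, a centre of weight six -/
lemma exists_wt_six_of_full (hF : Fintype.card F = 2 ^ 2) (hn : 7 ≤ n)
    {L : Subgroup (GL (Fin n) F)}
    (hN : ContainsMono L) {v : Fin n → F} (hv : v ∈ Sset hF L)
    (hvv : Cfsg.hermForm n F 2 v v = 0) (hfull : wt v = n) :
    ∃ u : Fin n → F, u ∈ Sset hF L ∧ wt u = 6 := by
  obtain ⟨w, hw0, hw1, hw⟩ := exists_omega hF
  have h2 := two_eq_zero hF
  have h3 : w ^ 3 = 1 := cube_eq_one hF hw0
  have h7 : 7 ≤ (supp v).card := by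
    unfold wt at hfull; omega
  obtain ⟨t', ht', hts'⟩ := exists_inj (supp v) 7 h7
  let t : Fin 6 → Fin n := fun k => t' (Fin.castSucc k)
  have ht : Function.Injective t := fun a b h => Fin.castSucc_injective _ (ht' h)
  have htv : ∀ k, v (t k) ≠ 0 := fun k => mem_supp.mp (hts' _)
  let l₀ : Fin n := t' (Fin.last 6)
  have htl₀ : ∀ k, t k ≠ l₀ := by
    intro k h
    have := ht' h
    exact absurd this (Fin.castSucc_lt_last k).ne
  let wu : Fˣ := Units.mk0 w hw0
  let ε : Fin 6 → Fˣ := fun k => if k.val < 3 then wu else wu ^ 2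
  have e0 : ε 0 = wu := rfl
  have e1 : ε 1 = wu := rfl
  have e2 : ε 2 = wu := rfl
  have e3 : ε 3 = wu ^ 2 := rfl
  have e4 : ε 4 = wu ^ 2 := rfl
  have e5 : ε 5 = wu ^ 2 := rfl
  have hprod : ∏ k, ε k = 1 := by
    rw [Fin.prod_univ_six, e0, e1, e2, e3, e4, e5]
    apply Units.ext
    simp only [Units.val_mul, Units.val_pow_eq_pow_val, wu, Units.val_mk0, Units.val_one]
    linear_combination (w ^ 6 + w ^ 3 + 1) * h3
  have hsum : ∑ k, (((ε k : Fˣ) : F) + 1) ^ 2 = 1 := by
    rw [Fin.sum_univ_six, e0, e1, e2, e3, e4, e5]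
    simp only [Units.val_pow_eq_pow_val, wu, Units.val_mk0]
    linear_combination (3 * w ^ 2 - 3 * w + 9) * hw + (-2) * h2
  have hε : ∀ k, ((ε k : Fˣ) : F) + 1 ≠ 0 := by
    intro k
    have hw1' : w + 1 ≠ 0 := by
      intro h; apply hw1; linear_combination h - h2
    have hw2' : w ^ 2 + 1 ≠ 0 := by
      intro h; apply hw0; linear_combination hw - h
    have hcases : ε k = wu ∨ ε k = wu ^ 2 := by
      change (if k.val < 3 then wu else wu ^ 2) = wu ∨ (if k.val < 3 then wu else wu ^ 2) = wu ^ 2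
      split_ifs
      · exact Or.inl rfl
      · exact Or.inr rfl
    rcases hcases with h | h
    · rw [h]; exact hw1'
    · rw [h, Units.val_pow_eq_pow_val]; exact hw2'
  refine ⟨_, shrink_mem_Sset hF hN hv hvv t ht htv l₀ htl₀ ε (Or.inr hprod) hsum, ?_⟩
  exact wt_shrink hF t ht htv l₀ htl₀ ε hε (Or.inr hprod)

/-- **W4**: a centre of weight four exists -/
lemma exists_wt_four (hF : Fintype.card F = 2 ^ 2) (hn : 7 ≤ n) {L : Subgroup (GL (Fin n) F)}
    (hN : ContainsMono L) {v : Fin n → F} (hv : v ∈ Sset hF L)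
    (hvv : Cfsg.hermForm n F 2 v v = 0) (h4 : 4 ≤ wt v) :
    ∃ u : Fin n → F, u ∈ Sset hF L ∧ wt u = 4 := by
  have hle : wt v ≤ n := by
    unfold wt
    have := Finset.card_le_univ (supp v)
    rwa [Fintype.card_fin] at this
  by_cases hlt : wt v < n
  · exact exists_wt_four_of_lt hF hN hv hvv h4 hlt
  · have hfull : wt v = n := by omega
    obtain ⟨u, hu, hu6⟩ := exists_wt_six_of_full hF hn hN hv hvv hfull
    have huu : Cfsg.hermForm n F 2 u u = 0 := by
      rw [iso_iff_even hF, hu6]; exact ⟨3, rfl⟩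
    exact exists_wt_four_of_lt hF hN hu huu (by omega) (by omega)

end

end Cfsg.Agent.Lib.Helper11.UQ2
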