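import Mathlib
import Cfsg.Agent.Lib.Helper11.UQ2D

/-!
S5655, `k = 1`, `q = 2`: transitivity on the vectors of a given weight, the growth step, the final
theorem `k1_std_core_q2`.
-/

set_option autoImplicit false
set_option linter.unusedSectionVars false
set_option linter.unusedVariables false

namespace Cfsg.Agent.Lib.Helper11.UQ2
open Matrix Cfsg.Agent.Lib.Helper11.Mono Cfsg.Agent.Lib.Helper5.SUMax
  Cfsg.Agent.Lib.Helper5.HermBridge Cfsg.Agent.Lib.Helper15.MonoLeaf

open scoped Classical
noncomputable section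

variable {F : Type*} [Field F] [Fintype F] {n : ℕ}

/-- **SCALE**: rescaling the coordinates of a centre which is not of full support -/
lemma scale_mem_Sset (hF : Fintype.card F = 2 ^ 2) {L : Subgroup (GL (Fin n) F)}
    (hN : ContainsMono L) {z x : Fin n → F} (hz : z ∈ Sset hF L)
    (hsupp : ∀ l, z l = 0 ↔ x l = 0) {l₀ : Fin n} (hl₀ : x l₀ = 0) : x ∈ Sset hF L := by
  let s₀ : Fin n → Fˣ := fun l =>
    if h : x l ≠ 0 then Units.mk0 (x l / z l) (div_ne_zero h (fun hz0 => h ((hsupp l).mp hz0)))
    else 1
  have hs₀l₀ : s₀ l₀ = 1 := by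
    change (if h : x l₀ ≠ 0 then _ else 1) = 1
    rw [dif_neg (by rw [hl₀]; exact fun h => h rfl)]
  let s : Fin n → Fˣ := Function.update s₀ l₀ (∏ l, s₀ l)⁻¹
  have hs : ∏ l, s l = 1 := by
    change ∏ l, Function.update s₀ l₀ (∏ l, s₀ l)⁻¹ l = 1
    rw [Finset.prod_update_of_mem (Finset.mem_univ l₀)]
    have h1 := Finset.prod_eq_mul_prod_sdiff_singleton_of_mem (Finset.mem_univ l₀) s₀
    rw [hs₀l₀, one_mul] at h1
    rw [← h1, inv_mul_cancel]
  have key := dg_mulVec_mem hF hN hs hz
  have hx : (fun i => ((s i : Fˣ) : F) * z i) = x := by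
    ext l
    by_cases hl : l = l₀
    · rw [hl, (hsupp l₀).mpr hl₀, mul_zero, hl₀]
    · change ((Function.update s₀ l₀ (∏ l, s₀ l)⁻¹ l : Fˣ) : F) * z l = x l
      rw [Function.update_of_ne hl]
      change (((if h : x l ≠ 0 then Units.mk0 (x l / z l) _ else 1 : Fˣ)) : F) * z l = x l
      by_cases hxl : x l ≠ 0
      · rw [dif_pos hxl, Units.val_mk0]
        have hzl : z l ≠ 0 := fun h => hxl ((hsupp l).mp h)
        field_simp
      · rw [dif_neg hxl, Units.val_one, one_mul]
        push Not at hxl
        rw [hxl, (hsupp l).mpr hxl]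
  rwa [hx] at key

/-- **TRANS**: all vectors of a given weight `< n` are centres as soon as one of them is -/
lemma trans_mem_Sset (hF : Fintype.card F = 2 ^ 2) {L : Subgroup (GL (Fin n) F)}
    (hN : ContainsMono L) {u x : Fin n → F} (hu : u ∈ Sset hF L) (hwt : wt x = wt u)
    (hlt : wt x < n) : x ∈ Sset hF L := by
  obtain ⟨σ, hσ⟩ := Equiv.Perm.exists_map_finset_eq (supp u) (supp x) hwt.symm
  have hz := pm_mulVec_mem hF hN σ hu
  obtain ⟨l₀, hl₀⟩ : ∃ l₀, l₀ ∉ supp x := by
    by_contra hall
    push Not at hall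
    have : supp x = Finset.univ := Finset.eq_univ_iff_forall.mpr hall
    unfold wt at hlt
    rw [this, Finset.card_univ, Fintype.card_fin] at hlt
    omega
  have hxl₀ : x l₀ = 0 := by
    by_contra h
    exact hl₀ (mem_supp.mpr h)
  apply scale_mem_Sset hF hN hz _ hxl₀
  intro l
  have h1 : l ∈ supp x ↔ (σ⁻¹ : Equiv.Perm (Fin n)) l ∈ supp u := by
    rw [← hσ, Finset.mem_map_equiv]
    rfl
  rw [mem_supp, mem_supp] at h1
  rw [Function.comp_apply]
  constructor
  · intro h
    by_contra hx
    exact (h1.mp hx) h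
  · intro h
    by_contra hu'
    exact (h1.mpr hu') h

/-- coefficient function: `β k` at `t k`, zero elsewhere -/
def coef {m : ℕ} (t : Fin m → Fin n) (β : Fin m → F) : Fin n → F :=
  fun l => ∑ k, if t k = l then β k else 0

omit [Fintype F] in
lemma coef_at {m : ℕ} (t : Fin m → Fin n) (ht : Function.Injective t) (β : Fin m → F) (k : Fin m) :
    coef t β (t k) = β k := by
  unfold coef
  rw [Finset.sum_eq_single k]
  · rw [if_pos rfl]
  · intro k' _ hk'
    rw [if_neg (fun h => hk' (ht h))]
  · intro h; exact absurd (Finset.mem_univ k) h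

omit [Fintype F] in
lemma coef_off {m : ℕ} (t : Fin m → Fin n) (β : Fin m → F) {l : Fin n} (hl : ∀ k, t k ≠ l) :
    coef t β l = 0 := by
  unfold coef
  apply Finset.sum_eq_zero
  intro k _
  rw [if_neg (hl k)]

/-- **GROW**: a vector of even weight `≥ 6` is on a hyperbolic line through a vector of weight
four and a vector of weight two less -/
lemma grow_mem_Sset (hF : Fintype.card F = 2 ^ 2) {L : Subgroup (GL (Fin n) F)}
    {x : Fin n → F} (hxx : Cfsg.hermForm n F 2 x x = 0) (h6 : 6 ≤ wt x)
    (P4 : ∀ b : Fin n → F, wt b = 4 → b ∈ Sset hF L)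
    (Pw : ∀ a : Fin n → F, Cfsg.hermForm n F 2 a a = 0 → wt a + 2 = wt x → a ∈ Sset hF L) :
    x ∈ Sset hF L := by
  obtain ⟨w, hw0, hw1, hw⟩ := exists_omega hF
  have h2 := two_eq_zero hF
  have hw1' : 1 + w ≠ 0 := by
    intro h; apply hw1; linear_combination h - h2
  have hw2' : 1 + w ^ 2 ≠ 0 := by
    intro h; apply hw0; linear_combination hw - h
  obtain ⟨t, ht, hts⟩ := exists_inj (supp x) 4 (by unfold wt at h6; omega)
  have htx : ∀ k, x (t k) ≠ 0 := fun k => mem_supp.mp (hts k)
  let β : Fin 4 → F := ![1, 1, w, w ^ 2]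
  have b0 : β 0 = 1 := rfl
  have b1 : β 1 = 1 := rfl
  have b2 : β 2 = w := rfl
  have b3 : β 3 = w ^ 2 := rfl
  have hβ : ∀ k, β k ≠ 0 := by
    intro k
    fin_cases k
    · exact one_ne_zero
    · exact one_ne_zero
    · exact hw0
    · exact pow_ne_zero 2 hw0
  set c := coef t β with hc
  set b : Fin n → F := fun l => c l * x l with hb
  set a : Fin n → F := fun l => (1 + c l) * x l with ha
  have hab_eq : a = x + b := by
    ext l
    rw [Pi.add_apply, ha, hb]
    ring
  -- the support of `b`
  have hsuppb : supp b = Finset.univ.image t := by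
    ext l
    rw [mem_supp, Finset.mem_image]
    constructor
    · intro hl
      by_contra hno
      push Not at hno
      apply hl
      change c l * x l = 0
      rw [hc, coef_off t β (fun k h => hno k (Finset.mem_univ _) h), zero_mul]
    · rintro ⟨k, _, rfl⟩
      change c (t k) * x (t k) ≠ 0
      rw [hc, coef_at t ht β k]
      exact mul_ne_zero (hβ k) (htx k)
  have hb4 : wt b = 4 := by
    unfold wt
    rw [hsuppb, Finset.card_image_of_injective _ ht, Finset.card_univ, Fintype.card_fin]
  have hbS := P4 b hb4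
  have hbb : Cfsg.hermForm n F 2 b b = 0 := by
    rw [iso_iff_even hF, hb4]; exact ⟨2, rfl⟩
  have hxb : Cfsg.hermForm n F 2 x b = 1 := by
    rw [hb, herm_mul_eq_sum (fun y hy => cube_eq_one hF hy) x c (Finset.univ.image t)]
    · rw [Finset.sum_image (fun p _ q _ h => ht h)]
      have : ∀ k, c (t k) = β k := fun k => coef_at t ht β k
      rw [Fin.sum_univ_four, this, this, this, this, b0, b1, b2, b3]
      linear_combination (w ^ 2 - w + 1) * hw
    · intro l hl
      rw [Finset.mem_image] at hl
      obtain ⟨k, _, rfl⟩ := hl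
      exact htx k
    · intro l hl
      left
      apply coef_off
      intro k h
      apply hl
      rw [Finset.mem_image]
      exact ⟨k, Finset.mem_univ _, h⟩
  have hab : Cfsg.hermForm n F 2 a b = 1 := by
    rw [hab_eq, herm_add_left, hxb, hbb, add_zero]
  -- the support of `a`
  have ht01 : t 0 ≠ t 1 := fun h => by
    have := ht h
    exact absurd this (by decide)
  have hsuppa : supp a = ((supp x).erase (t 0)).erase (t 1) := by
    ext l
    rw [mem_supp, Finset.mem_erase, Finset.mem_erase, mem_supp]
    change (1 + c l) * x l ≠ 0 ↔ _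
    by_cases hl : ∃ k, t k = l
    · obtain ⟨k, rfl⟩ := hl
      rw [hc, coef_at t ht β k]
      fin_cases k
      · simp only [Fin.zero_eta, b0]
        constructor
        · intro h; exfalso; apply h; linear_combination (x (t 0)) * h2
        · intro h; exact absurd rfl h.2.1
      · simp only [Fin.mk_one, b1]
        constructor
        · intro h; exfalso; apply h; linear_combination (x (t 1)) * h2
        · intro h; exact absurd rfl h.1
      · change (1 + β 2) * x (t 2) ≠ 0 ↔ _
        rw [b2]
        constructor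
        · intro _
          exact ⟨fun h => absurd (ht h) (by decide), fun h => absurd (ht h) (by decide), htx 2⟩
        · intro _; exact mul_ne_zero hw1' (htx 2)
      · change (1 + β 3) * x (t 3) ≠ 0 ↔ _
        rw [b3]
        constructor
        · intro _
          exact ⟨fun h => absurd (ht h) (by decide), fun h => absurd (ht h) (by decide), htx 3⟩
        · intro _; exact mul_ne_zero hw2' (htx 3)
    · push Not at hl
      rw [hc, coef_off t β hl, add_zero, one_mul]
      constructor
      · intro h; exact ⟨fun h' => hl 1 h'.symm, fun h' => hl 0 h'.symm, h⟩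
      · intro h; exact h.2.2
  have hwa : wt a + 2 = wt x := by
    unfold wt
    rw [hsuppa, Finset.card_erase_of_mem, Finset.card_erase_of_mem (hts 0)]
    · unfold wt at h6; omega
    · rw [Finset.mem_erase]; exact ⟨ht01.symm, hts 1⟩
  have haa : Cfsg.hermForm n F 2 a a = 0 := by
    rw [iso_iff_even hF]
    have hx := (iso_iff_even hF x).mp hxx
    rcases hx with ⟨m, hm⟩
    exact ⟨m - 1, by omega⟩
  have haS := Pw a haa hwa
  have key := add_mem_Sset hF haS hbS hbb hab
  have e : a + b = x := by
    rw [hab_eq]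
    ext l
    simp only [Pi.add_apply]
    linear_combination (b l) * h2
  rwa [e] at key

end

end Cfsg.Agent.Lib.Helper11.UQ2
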