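import Mathlib
import Cfsg.Agent.Lib.Helper11.UQ2E

/-!
S5655, `k = 1`, `q = 2`, standard frame: a subgroup of `GU_n(2) ⊓ SL_n` containing all monomial
elements and one non-monomial element is everything (`n ≥ 7`).
-/

set_option autoImplicit false
set_option linter.unusedSectionVars false
set_option linter.unusedVariables false

namespace Cfsg.Agent.Lib.Helper11.UQ2
open Matrix Cfsg.Agent.Lib.Helper11.Mono Cfsg.Agent.Lib.Helper5.SUMax
  Cfsg.Agent.Lib.Helper5.HermBridge Cfsg.Agent.Lib.Helper15.MonoLeaf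

open scoped Classical
noncomputable section

variable {F : Type*} [Field F] [Fintype F] {n : ℕ}

/-- vectors of weight two are centres -/
lemma wt_two_mem_Sset (hF : Fintype.card F = 2 ^ 2) {L : Subgroup (GL (Fin n) F)}
    (hN : ContainsMono L) {x : Fin n → F} (hx : wt x = 2) : x ∈ Sset hF L := by
  unfold wt at hx
  obtain ⟨i, j, hij, hs⟩ := Finset.card_eq_two.mp hx
  have hi : x i ≠ 0 := mem_supp.mp (by rw [hs]; simp)
  have hj : x j ≠ 0 := mem_supp.mp (by rw [hs]; simp)
  have hoff : ∀ l, l ≠ i → l ≠ j → x l = 0 := by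
    intro l hli hlj
    by_contra h
    have := mem_supp.mpr h
    rw [hs, Finset.mem_insert, Finset.mem_singleton] at this
    rcases this with h' | h'
    · exact hli h'
    · exact hlj h'
  have hz : x j / x i ≠ 0 := div_ne_zero hj hi
  have key := Sset_smul hF (w2_mem_Sset hF hN hij hz) (x i)
  have e : x i • w2 i j (x j / x i) = x := by
    ext l
    rw [Pi.smul_apply, smul_eq_mul, w2_apply hij]
    by_cases hli : l = i
    · rw [if_pos hli, hli, mul_one]
    · rw [if_neg hli]
      by_cases hlj : l = j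
      · rw [if_pos hlj, hlj]
        field_simp
      · rw [if_neg hlj, mul_zero, hoff l hli hlj]
  rwa [e] at key

/-- all isotropic vectors are centres, by induction on the weight -/
lemma iso_mem_Sset (hF : Fintype.card F = 2 ^ 2) (hn : 7 ≤ n) {L : Subgroup (GL (Fin n) F)}
    (hN : ContainsMono L) {u : Fin n → F} (hu : u ∈ Sset hF L) (hu4 : wt u = 4) :
    ∀ (w : ℕ) (x : Fin n → F), Cfsg.hermForm n F 2 x x = 0 → wt x = w → x ∈ Sset hF L := by
  intro w
  induction w using Nat.strong_induction_on with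
  | _ w ih =>
    intro x hxx hxw
    have heven : Even (wt x) := (iso_iff_even hF x).mp hxx
    have P4 : ∀ b : Fin n → F, wt b = 4 → b ∈ Sset hF L := by
      intro b hb
      exact trans_mem_Sset hF hN hu (by rw [hb, hu4]) (by omega)
    by_cases h0 : w = 0
    · have hx0 : x = 0 := by
        ext l
        by_contra h
        have hl := mem_supp.mpr h
        unfold wt at hxw
        rw [h0, Finset.card_eq_zero] at hxw
        rw [hxw] at hl
        exact absurd hl (Finset.notMem_empty l)
      rw [hx0]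
      exact zero_mem_Sset hF L
    by_cases h2 : w = 2
    · exact wt_two_mem_Sset hF hN (by rw [hxw, h2])
    by_cases h4 : w = 4
    · exact P4 x (by rw [hxw, h4])
    · have h6 : 6 ≤ wt x := by
        rcases heven with ⟨m, hm⟩
        omega
      apply grow_mem_Sset hF hxx h6 P4
      intro a haa hwa
      exact ih (wt a) (by omega) a haa rfl

/-- **S5655, k = 1, q = 2, standard frame.** -/
theorem k1_std_core_q2 {F : Type*} [Field F] [Fintype F] (n q : ℕ)
    (hF : Fintype.card F = q ^ 2) (hn : 13 ≤ n) (hq : q = 2)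
    (M : Subgroup (GL (Fin n) F))
    (hM : M ≤ Cfsg.GU n F q ⊓ Cfsg.Geo.specialLinear (Fin n) F)
    (hH : ∀ g ∈ Cfsg.GU n F q ⊓ Cfsg.Geo.specialLinear (Fin n) F,
      IsMono (g : Matrix (Fin n) (Fin n) F) → g ∈ M)
    (hne : ∃ g ∈ M, ¬ IsMono (g : Matrix (Fin n) (Fin n) F)) :
    Cfsg.GU n F q ⊓ Cfsg.Geo.specialLinear (Fin n) F ≤ M := by
  subst hq
  have hN : ContainsMono M := fun h hh hmono => hH h hh hmono
  obtain ⟨g, hgM, hgm⟩ := hne
  obtain ⟨v, hvS, hvv, hv4⟩ := exists_centre_of_not_isMono hF (by omega) hM hN hgM hgm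
  obtain ⟨u, huS, hu4⟩ := exists_wt_four hF (by omega) hN hvS hvv hv4
  apply le_of_forall_mem_Sset hF (by omega) (by omega) M
  intro x hxx
  exact iso_mem_Sset hF (by omega) hN huS hu4 (wt x) x hxx rfl

end

end Cfsg.Agent.Lib.Helper11.UQ2
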