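import Mathlib
import Cfsg.Agent.Lib.Helper20.UTNDefs
import Cfsg.Agent.Lib.Helper20.UTS
import Cfsg.Agent.Lib.Helper5.SUMax
import Cfsg.Agent.Lib.Helper23.UTNNG
import Cfsg.Agent.Lib.Helper11.UTNN1b

/-!
S5670, part (N), leaf N2 of `notes/S5670_N_leaves.lean` (exact signature): the similitude case,
normalisation of `h` to an admissible `u` fixing `A ⊗ y` pointwise.
-/

set_option autoImplicit false
set_option linter.unusedSectionVars false
set_option linter.unusedVariables false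

namespace Cfsg.Agent.Lib.Helper11.UTNLeaf
open Matrix
open Cfsg.Agent.Lib.Helper25.Tens Cfsg.Agent.Lib.Helper25.TensLeaf Cfsg.Agent.Lib.Helper25.TensLeaves
open Cfsg.Agent.Lib.Helper20.UT Cfsg.Agent.Lib.Helper20.UTLeaf Cfsg.Agent.Lib.Helper20.UTN
open scoped Kronecker

variable {F : Type*} [Field F] [Fintype F] {a b q : ℕ} {M : Subgroup (GL (Idx a b) F)}

/-- the scalar multiple `d • H` of an invertible matrix as a unit -/
def smulGLU {n : ℕ} (d : F) (hd : d ≠ 0) (H : GL (Fin n) F) : GL (Fin n) F where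
  val := d • (H : Matrix (Fin n) (Fin n) F)
  inv := d⁻¹ • ((H⁻¹ : GL (Fin n) F) : Matrix (Fin n) (Fin n) F)
  val_inv := by
    rw [Matrix.smul_mul, Matrix.mul_smul, smul_smul, mul_inv_cancel₀ hd, one_smul,
      ← Units.val_mul, mul_inv_cancel, Units.val_one]
  inv_val := by
    rw [Matrix.smul_mul, Matrix.mul_smul, smul_smul, inv_mul_cancel₀ hd, one_smul,
      ← Units.val_mul, inv_mul_cancel, Units.val_one]

theorem mv_smulGLU {n : ℕ} (d : F) (hd : d ≠ 0) (H : GL (Fin n) F) (x : Fin n → F) :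
    mv (smulGLU d hd H) x = d • mv H x := by
  unfold mv smulGLU
  exact Matrix.smul_mulVec _ _ _

/-- N2 the similitude case. -/
theorem exists_adm (hc : MCtx a b q M) {h : GL (Idx a b) F} (hh : h ∈ M) (hhK : h ∉ KG a b F)
    {y : Fin b → F} (hy0 : y ≠ 0) (hy : hv q y y = 0) (H : GL (Fin a) F)
    (hH : ∀ x : Fin a → F, mv h (pt x y) = pt (mv H x) y)
    (hsc : IsScalarMat ((H : Matrix (Fin a) (Fin a) F) * adjM q (H : Matrix (Fin a) (Fin a) F))) :
    ∃ u : GL (Idx a b) F, Adm q y M u ∧ u ∉ KG a b F := by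
  have hF := hc.hF
  have hq0 : q ≠ 0 := q_ne_zero_of_card hF
  obtain ⟨l, hl⟩ := hsc
  have hl' : adjM q (H : Matrix (Fin a) (Fin a) F) * (H : Matrix (Fin a) (Fin a) F) =
      l • (1 : Matrix (Fin a) (Fin a) F) := by
    have e1 : adjM q (H : Matrix (Fin a) (Fin a) F) =
        ((H⁻¹ : GL (Fin a) F) : Matrix (Fin a) (Fin a) F) * (l • (1 : Matrix (Fin a) (Fin a) F)) := by
      rw [← hl, ← mul_assoc, ← Units.val_mul, inv_mul_cancel, Units.val_one, one_mul]
    rw [e1, Matrix.mul_smul, mul_one, Matrix.smul_mul, ← Units.val_mul, inv_mul_cancel,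
      Units.val_one]
  -- `H` is a similitude with multiplier `l ^ q`
  have hHsim : ∀ u v : Fin a → F, hv q (mv H u) (mv H v) = l ^ q * hv q u v := by
    intro u v
    unfold mv
    rw [hv_adjM hF, Matrix.mulVec_mulVec, hl', Matrix.smul_mulVec, Matrix.one_mulVec,
      hv_smul_right]
  have ha0 : 0 < a := by have := hc.ha; omega
  set e0 : Fin a → F := Pi.single ⟨0, ha0⟩ 1 with he0
  have he00 : hv q e0 e0 = 1 := by
    rw [he0, hv_single_right_one hF, Pi.single_eq_same]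
  have hlq0 : l ^ q ≠ 0 := by
    intro h0
    have h1 := hHsim (mv H⁻¹ e0) (mv H⁻¹ e0)
    rw [mv_mv_inv, he00, h0, zero_mul] at h1
    exact one_ne_zero h1
  have hl0 : l ≠ 0 := by
    intro h0
    apply hlq0
    rw [h0, zero_pow hq0]
  have hlq : l ^ q = l := by
    have h1 := hHsim e0 e0
    have h2 := hv_conj hF (mv H e0) (mv H e0)
    rw [h1, he00, mul_one, pow_q_pow_q' hF] at h2
    exact h2.symm
  rw [hlq] at hHsim
  -- `l = d * d^q`
  have hf := hv_unitary (n := a) hF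
  obtain ⟨d, hd⟩ := Cfsg.Agent.Lib.Helper5.UForm.norm_surj hf.involutive hf.ne_refl l hl0
    (by
      change l ^ q = l
      exact hlq)
  have hd' : d * d ^ q = l := hd
  have hd0 : d ≠ 0 := by
    intro h0
    apply hl0
    rw [← hd', h0, zero_mul]
  have hdi0 : d⁻¹ ≠ 0 := inv_ne_zero hd0
  -- the isometry `α₀ = d⁻¹ • H`
  set α₀ : GL (Fin a) F := smulGLU d⁻¹ hdi0 H with hα₀
  have hα₀iso : ∀ u v : Fin a → F, hv q (mv α₀ u) (mv α₀ v) = hv q u v := by
    intro u v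
    rw [hα₀, mv_smulGLU, mv_smulGLU, hv_smul_left, hv_smul_right, hHsim, ← hd', inv_pow]
    have hdq0 : d ^ q ≠ 0 := pow_ne_zero q hd0
    field_simp
  -- `β` with `β y = d • y`
  have hy'0 : d • y ≠ 0 := smul_ne_zero hd0 hy0
  have hy' : hv q (d • y) (d • y) = 0 := by
    rw [hv_smul_left, hv_smul_right, hy, mul_zero, mul_zero]
  have hb3 : 3 ≤ b := by have := hc.hb; omega
  obtain ⟨β, hβiso, hβdet, hβy⟩ :=
    Cfsg.Agent.Lib.Helper23.UTNLeaf.exists_su_map hF hb3 hy0 hy'0 hy hy'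
  set k₀ : GL (Idx a b) F := kel α₀ β with hk₀
  have hk₀U : k₀ ∈ GUI a b q F :=
    Cfsg.Agent.Lib.Helper23.UTNLeaf.kel_mem_GUI hF α₀ β hα₀iso hβiso
  have hk₀K : k₀ ∈ KG a b F := kel_mem_KG _ _
  have hk₀y : ∀ x : Fin a → F, mv k₀ (pt x y) = pt (mv H x) y := by
    intro x
    have e1 : mv k₀ (pt x y) = pt (mv α₀ x) (mv β y) := kel_mulVec_pt α₀ β x y
    rw [e1, hβy, hα₀, mv_smulGLU, pt_smul_left, pt_smul_right, smul_smul, inv_mul_cancel₀ hd0,
      one_smul]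
  have hk₀inv : ∀ x : Fin a → F, mv k₀⁻¹ (pt x y) = pt (mv H⁻¹ x) y := by
    intro x
    have e1 := hk₀y (mv H⁻¹ x)
    rw [mv_mv_inv] at e1
    rw [← e1, mv_inv_mv]
  have hSLn : (SLG a b F).Normal := by
    unfold SLG Cfsg.Geo.specialLinear
    infer_instance
  refine ⟨h * k₀⁻¹, ⟨?_, ?_, ?_⟩, ?_⟩
  · exact (GUI a b q F).mul_mem (hc.le_G hh).1 ((GUI a b q F).inv_mem hk₀U)
  · intro k hk
    have e1 : h * k₀⁻¹ * k * (h * k₀⁻¹)⁻¹ = h * (k₀⁻¹ * k * k₀) * h⁻¹ := by group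
    rw [e1]
    refine M.mul_mem (M.mul_mem hh (hc.le ⟨?_, ?_, ?_⟩)) (M.inv_mem hh)
    · exact (KG a b F).mul_mem ((KG a b F).mul_mem ((KG a b F).inv_mem hk₀K) hk.1) hk₀K
    · exact (GUI a b q F).mul_mem
        ((GUI a b q F).mul_mem ((GUI a b q F).inv_mem hk₀U) hk.2.1) hk₀U
    · have := hSLn.conj_mem k hk.2.2 k₀⁻¹
      rwa [inv_inv] at this
  · intro x
    rw [mv_mul, hk₀inv, hH, mv_mv_inv]
  · intro hu
    apply hhK
    have e1 : h = (h * k₀⁻¹) * k₀ := by group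
    rw [e1]
    exact (KG a b F).mul_mem hu hk₀K

end Cfsg.Agent.Lib.Helper11.UTNLeaf
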