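import Mathlib
import Cfsg.Agent.Lib.Helper11.LSDefs
import Cfsg.Agent.Lib.Helper11.LSSp
import Cfsg.Agent.Lib.Helper11.WLBIso
import Cfsg.Agent.Lib.Helper18.LSR2
import Cfsg.Agent.Lib.Helper18.LSO
import Cfsg.Agent.Lib.Helper15.OrbitBound
import Cfsg.Agent.Lib.Helper25.LSR4
import Cfsg.Agent.S2392

/-!
# The Landazuri–Seitz bound `(q^n - 1)/2` for `Sp_{2n}(q)`, `q` odd (lower-bound half of S2347)

The Siegel radical `U = Sym_n(F)`, the Levi factor `GL_n(F)` acting on the weights of `U`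
(= quadratic forms in `n` variables), and the orbit count: a non-zero quadratic form has at
least `(q^n - 1)/2` images under `GL_n(F)`.
-/

set_option autoImplicit false

namespace Cfsg.Agent.Lib.Helper11.WLB

open QuadraticMap Module Matrix Cfsg.Agent.Lib.Helper11.LS Cfsg.Agent.Lib.Helper15.OrbitBound
  Cfsg.Agent.Lib.Helper18.LSLeaf

variable {F : Type*} [Field F] {n : ℕ}

/-- the orbit count in odd characteristic -/
theorem orbit_bound_odd [Fintype F] (h2 : (2 : F) ≠ 0) (hn : 1 ≤ n) {W : Type*} [Fintype W]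
    (Φ : W → QuadraticForm F (Fin n → F)) (hΦ : Function.Injective Φ)
    (hcl : ∀ (a : W) (g : (Fin n → F) ≃ₗ[F] (Fin n → F)), ∃ b : W, Φ b = (Φ a).comp g.toLinearMap)
    (a₀ : W) (hne : Φ a₀ ≠ 0) :
    Fintype.card F ^ n - 1 ≤ 2 * Fintype.card W := by
  obtain ⟨m, rfl⟩ : ∃ m, n = m + 1 := ⟨n - 1, by omega⟩
  have hq : 2 ≤ Fintype.card F := by
    have := Fintype.one_lt_card (α := F)
    omega
  have h1 := card_linearEquiv_le_mul Φ hΦ hcl a₀
  rw [card_linearEquiv, Module.finrank_fin_fun, Nat.card_eq_fintype_card, gl_succ] at h1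
  have h3 := card_isoGroup_le_odd h2 (Φ a₀) hne (Module.finrank_fin_fun F)
  have hpos : 0 < Fintype.card F ^ m * gl (Fintype.card F) m :=
    Nat.mul_pos (Nat.pow_pos (by omega)) (gl_pos _ hq m)
  have h4 : (Fintype.card F ^ (m + 1) - 1) * (Fintype.card F ^ m * gl (Fintype.card F) m) ≤
      2 * Fintype.card W * (Fintype.card F ^ m * gl (Fintype.card F) m) := by
    calc (Fintype.card F ^ (m + 1) - 1) * (Fintype.card F ^ m * gl (Fintype.card F) m)
        = (Fintype.card F ^ (m + 1) - 1) * Fintype.card F ^ m * gl (Fintype.card F) m := by ring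
      _ ≤ Fintype.card W * Nat.card (isoGroup (Φ a₀)) := h1
      _ ≤ Fintype.card W * (2 * Fintype.card F ^ m * gl (Fintype.card F) m) :=
          Nat.mul_le_mul_left _ h3
      _ = 2 * Fintype.card W * (Fintype.card F ^ m * gl (Fintype.card F) m) := by ring
  exact Nat.le_of_mul_le_mul_right h4 hpos

theorem qf_zero : qf (0 : UT n → F) = 0 := by
  ext ℓ
  rw [qf_apply, zero_dotProduct]
  rfl

theorem main_aux_odd [Fintype F] (h2 : (2 : F) ≠ 0) (hn : 2 ≤ n) {K : Type*} [Field K]
    (hK : ringChar K ≠ ringChar F) {d : ℕ}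
    (ρ : ↥(Matrix.symplecticGroup (Fin n) F) →* GL (Fin d) K)
    (hker : ρ.ker ≤ Subgroup.center ↥(Matrix.symplecticGroup (Fin n) F)) :
    Fintype.card F ^ n - 1 ≤ 2 * d := by
  classical
  let ψ₀ := AddChar.FiniteField.primitiveChar F K hK
  let L := CyclotomicField ψ₀.n K
  let ψ : AddChar F L := ψ₀.char
  have hψ : ψ.IsPrimitive := ψ₀.prim
  have hinj : Function.Injective (algebraMap K L) := (algebraMap K L).injective
  let σ : ↥(Matrix.symplecticGroup (Fin n) F) →* Matrix (Fin d) (Fin d) L :=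
    ((RingHom.mapMatrix (algebraMap K L)).toMonoidHom.comp (Units.coeHom _)).comp ρ
  have hσ1 : ∀ g, σ g = 1 → g ∈ ρ.ker := by
    intro g hg
    rw [MonoidHom.mem_ker]
    apply Units.ext
    have : (RingHom.mapMatrix (algebraMap K L)) ((ρ g : GL (Fin d) K) : Matrix (Fin d) (Fin d) K) =
        (RingHom.mapMatrix (algebraMap K L)) 1 := by
      rw [map_one]; exact hg
    exact Matrix.map_injective hinj this
  let x : (UT n → F) → Matrix (Fin d) (Fin d) L := fun v => σ (X v)
  have hxa : ∀ v w, x (v + w) = x v * x w := fun v w => by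
    show σ (X (v + w)) = σ (X v) * σ (X w)
    rw [X_add, map_mul]
  have hx0 : x 0 = 1 := by
    show σ (X 0) = 1
    rw [X_zero, map_one]
  have hcard : (Fintype.card (UT n → F) : L) ≠ 0 := by
    rw [Fintype.card_fun]
    push_cast
    exact pow_ne_zero _ (Cfsg.Agent.S2392.card_ne_zero_of_char hK)
  -- the weights that occur
  let W := {u : UT n → F // Pr ψ x u ≠ 0}
  have hWd : Fintype.card W ≤ d := by
    refine card_le_of_orthogonal (κ := W) (fun p => Pr ψ x p.1) (fun p p' => ?_) (fun p => p.2)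
    rw [Pr_mul_Pr ψ x hψ hcard hxa]
    by_cases hpp : p = p'
    · rw [if_pos hpp, if_pos (by rw [hpp])]
    · rw [if_neg hpp, if_neg]
      intro h
      exact hpp (Subtype.ext h)
  -- closure under the Levi factor
  have hcl : ∀ (a : W) (g : (Fin n → F) ≃ₗ[F] (Fin n → F)),
      ∃ b : W, qf b.1 = (qf a.1).comp g.toLinearMap := by
    intro a g
    set M : Matrix (Fin n) (Fin n) F := LinearMap.toMatrix' g.symm.toLinearMap with hM
    set M' : Matrix (Fin n) (Fin n) F := LinearMap.toMatrix' g.toLinearMap with hM'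
    have hMM' : M * M' = 1 := by
      rw [hM, hM', ← LinearMap.toMatrix'_comp]
      have : g.symm.toLinearMap ∘ₗ g.toLinearMap = LinearMap.id := by
        ext v : 1
        simp
      rw [this, LinearMap.toMatrix'_id]
    have hM'M : M' * M = 1 := by
      rw [hM, hM', ← LinearMap.toMatrix'_comp]
      have : g.toLinearMap ∘ₗ g.symm.toLinearMap = LinearMap.id := by
        ext v : 1
        simp
      rw [this, LinearMap.toMatrix'_id]
    obtain ⟨u', hu'⟩ := exists_dual (NL M M' hMM' hM'M) a.1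
    have hunit : IsUnit (σ (Lv M M' hM'M)) := by
      refine ⟨⟨σ (Lv M M' hM'M), σ (Lv M M' hM'M)⁻¹, ?_, ?_⟩, rfl⟩
      · rw [← map_mul, mul_inv_cancel, map_one]
      · rw [← map_mul, inv_mul_cancel, map_one]
    have hne : Pr ψ x u' ≠ 0 := by
      refine Pr_ne_zero_of_conj ψ x hunit (N := (NL M M' hMM' hM'M).toEquiv) ?_ ?_ a.2
      · intro v
        show σ (Lv M M' hM'M) * σ (X v) = σ (X (Nmap M v)) * σ (Lv M M' hM'M)
        rw [← map_mul, ← map_mul, Lv_mul_X]
      · intro v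
        exact hu' v
    refine ⟨⟨u', hne⟩, ?_⟩
    ext ℓ
    rw [QuadraticMap.comp_apply]
    have h1 : M *ᵥ (g ℓ) = ℓ := by
      rw [hM, LinearMap.toMatrix'_mulVec]
      simp
    have h2 := qf_of_dual a.1 u' M (fun v => hu' v) (g ℓ)
    rw [h1] at h2
    exact h2
  -- a non-zero weight
  obtain ⟨m, rfl⟩ : ∃ m, n = m + 2 := ⟨n - 2, by omega⟩
  have h01 : ((0 : Fin (m + 2)), (1 : Fin (m + 2))).1 ≤ ((0 : Fin (m + 2)), (1 : Fin (m + 2))).2 :=
    Fin.zero_le _
  let p01 : UT (m + 2) := ⟨(0, 1), h01⟩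
  have hne1 : x (Pi.single p01 1) ≠ 1 := by
    intro hx1
    have h1 := hker (hσ1 _ hx1)
    have h3 := X_center h1
    have h4 := congrFun h3 p01
    rw [Pi.single_eq_same] at h4
    exact one_ne_zero h4
  obtain ⟨u₀, hu₀, hu₀'⟩ := exists_of_ne_one ψ x hψ hcard hx0 hne1
  have hne0 : qf u₀ ≠ 0 := by
    intro h
    have h1 : u₀ = 0 := qf_injective (h.trans qf_zero.symm)
    rw [h1, zero_dotProduct] at hu₀'
    exact hu₀' rfl
  have key := orbit_bound_odd (F := F) h2 (by omega) (W := W) (fun w => qf w.1)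
    (fun a b h => Subtype.ext (qf_injective h)) hcl ⟨u₀, hu₀⟩ hne0
  calc Fintype.card F ^ (m + 2) - 1 ≤ 2 * Fintype.card W := key
    _ ≤ 2 * d := Nat.mul_le_mul_left _ hWd

/-- **The lower-bound half of S2347**: every irreducible complex representation of degree `≥ 2`
of `Sp_{2n}(F)`, `|F| = q` odd, `n ≥ 2`, has degree at least `(q^n - 1)/2`. -/
theorem lower_bound {F : Type*} [Field F] [Fintype F] [DecidableEq F] (n : ℕ) (hn : 2 ≤ n)
    (hodd : Odd (Fintype.card F)) :
    ∀ (k : ℕ) (ρ : Representation ℂ (Matrix.symplecticGroup (Fin n) F) (Fin k → ℂ)),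
      ρ.IsIrreducible → 2 ≤ k → (Fintype.card F ^ n - 1) / 2 ≤ k := by
  intro k ρ hρ hk
  have hex : (n, Fintype.card F) ≠ (2, 2) := by
    intro h
    have h1 : Fintype.card F = 2 := congrArg Prod.snd h
    rw [h1] at hodd
    exact absurd hodd (by decide)
  obtain ⟨ρ', hker⟩ := Cfsg.Agent.Lib.Helper25.LSLeaf.exists_hom_of_irreducible hn hex k ρ hρ hk
  have hchar : ringChar F ≠ 2 := by
    intro h
    have h1 := FiniteField.even_card_iff_char_two.mp h
    rcases hodd with ⟨c, hc⟩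
    omega
  have h2 : (2 : F) ≠ 0 := Ring.two_ne_zero hchar
  have hK : ringChar ℂ ≠ ringChar F := by
    rw [ringChar.eq_zero]
    exact (CharP.ringChar_ne_zero_of_finite F).symm
  have h := main_aux_odd h2 hn hK ρ' hker
  apply Nat.div_le_of_le_mul
  exact h

end Cfsg.Agent.Lib.Helper11.WLB
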